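import Cfsg.Agent.Lib.Lie.Chev.Engine
import Cfsg.Prelude.Def_ChevStructure

/-! Boolean consistency checks of a Chevalley datum against fast look-up tables. Each check is
meant to be discharged by kernel evaluation. -/

set_option autoImplicit false

namespace Cfsg.Agent.Lie.Chev

open Cfsg.Lie

/-- Fast look-up tables. -/
structure Tables where
  l : ℕ
  h : ℕ
  simples : List ℕ
  reps : List ℕ
  subT : List (BT ℕ)
  chainT : BT ℕ
  corootT : BT ℕ
  cartanT : BT ℕ
  vecT : BT ℕ
  codeT : BT ℤ
  reflT : BT ℕ
  etaT : BT ℕ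
  parT : BT ℕ

/-- Decode a chain entry. -/
def decodeEntry : ℕ → ℕ → List (ℕ × ℤ)
  | 0, _ => []
  | fuel + 1, v => bif Nat.beq v 0 then [] else
      (Nat.shiftRight (Nat.land v 4095) 3, Int.subNatNat (Nat.land v 7) 4) ::
        decodeEntry fuel (Nat.shiftRight v 12)

namespace Tables

variable (T : Tables)

/-- Number of roots. -/
def n : ℕ := 2 * T.h
/-- Number of coordinates. -/
def dim : ℕ := T.l + T.n
/-- Negative of a root. -/
def neg (r : ℕ) : ℕ := T.n - 1 - r
/-- Fundamental root. -/
def simple (i : ℕ) : ℕ := T.simples.getD i 0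
/-- Chain entry. -/
def entry (r s : ℕ) : List (ℕ × ℤ) := decodeEntry 3 (field 36 (T.chainT.get r) s)
/-- Whether the chain entry is empty. -/
def noEntry (r s : ℕ) : Bool := Nat.beq (field 36 (T.chainT.get r) s) 0
/-- Coroot coefficient. -/
def coroot (r i : ℕ) : ℤ := Int.subNatNat (field 4 (T.corootT.get r) i) 8
/-- Cartan integer. -/
def cartan (i s : ℕ) : ℤ := Int.subNatNat (field 4 (T.cartanT.get s) i) 8
/-- Coefficient of a root on the fundamental roots. -/
def vec (s j : ℕ) : ℤ := Int.subNatNat (field 4 (T.vecT.get s) j) 8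
/-- Linear code of a root. -/
def code (s : ℕ) : ℤ := T.codeT.get s
/-- Simple reflection. -/
def refl (p s : ℕ) : ℕ := field 8 (T.reflT.get s) p
/-- Sign of a simple reflection on a root vector. -/
def eta (p s : ℕ) : ℤ := bif Nat.beq (field 1 (T.etaT.get s) p) 0 then 1 else -1
/-- Parent node of a root. -/
def parP (r : ℕ) : ℕ := Nat.land (T.parT.get r) 15
/-- Distance to the representatives. -/
def dep (r : ℕ) : ℕ := Nat.shiftRight (T.parT.get r) 4
/-- Weight of the `j`-th coordinate in a code. -/
def weight (j : ℕ) : ℤ := 32 ^ (T.l - 1 - j)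

/-- `∑ i < l, c_i(r) A(i, s)`. -/
def pairing (r s : ℕ) : ℤ := ((List.range T.l).map fun i => T.coroot r i * T.cartan i s).sum

/-- `chainRoot` computed from entries. -/
def chainRoot (r s i : ℕ) : Option ℕ := ((T.entry r s)[i - 1]?).map Prod.fst
/-- `chainM` computed from entries. -/
def chainM (r s i : ℕ) : ℤ := (((T.entry r s)[i - 1]?).map Prod.snd).getD 0

/-- `commTerms` computed from entries. -/
def commTerms (r s : ℕ) : List (ℕ × ℤ × ℕ × ℕ) :=
  let rs := T.chainRoot r s 1
  let cands : List (Option ℕ × ℤ × ℕ × ℕ) :=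
    [ (T.chainRoot r s 1, T.chainM r s 1, 1, 1),
      (T.chainRoot r s 2, T.chainM r s 2, 2, 1),
      (T.chainRoot s r 2, T.chainM s r 2, 1, 2),
      (T.chainRoot r s 3, T.chainM r s 3, 3, 1),
      (T.chainRoot s r 3, - T.chainM s r 3, 1, 3),
      ((T.chainRoot r s 3).bind fun k => T.chainRoot k s 1,
        (rs.map fun k => T.chainM k r 2 / 3).getD 0, 3, 2),
      ((T.chainRoot s r 3).bind fun k => T.chainRoot k r 1,
        (rs.map fun k => -2 * T.chainM k s 2 / 3).getD 0, 2, 3) ]
  cands.filterMap fun c => c.1.map fun k => (k, c.2)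

/-! ### Columns -/

/-- Terms of the chain part of a column. -/
def chainTerms (a b c : ℕ) (k : ℤ) : ℕ → List (ℕ × ℤ) → List Term
  | _, [] => []
  | j, (u, M) :: L =>
      ⟨T.l + u, j * a, j * b, j * c, M * k ^ j⟩ :: chainTerms a b c k (j + 1) L

/-- Column of `x_r(k t^a u^b v^c)`. -/
def xCol (r a b c : ℕ) (k : ℤ) (col : ℕ) : List Term :=
  bif Nat.blt col T.dim then
    bif Nat.blt col T.l then
      ⟨col, 0, 0, 0, 1⟩ :: (bif T.cartan col r == 0 then [] else
        [⟨T.l + r, a, b, c, -T.cartan col r * k⟩])
    else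
      let s := col - T.l
      bif Nat.beq s r then [⟨col, 0, 0, 0, 1⟩]
      else bif Nat.beq s (T.neg r) then
        ⟨col, 0, 0, 0, 1⟩ :: ⟨T.l + r, 2 * a, 2 * b, 2 * c, -(k ^ 2)⟩ ::
          ((List.range T.l).filter fun i => !(T.coroot r i == 0)).map
            fun i => ⟨i, a, b, c, T.coroot r i * k⟩
      else ⟨col, 0, 0, 0, 1⟩ :: T.chainTerms a b c k 1 (T.entry r s)
  else []

/-- Binomial expansion of a term in `t` to powers of `t + u`. -/
def expand (p : Term) : List Term :=
  (List.range (p.ea + 1)).map fun i => ⟨p.row, i, p.ea - i, p.ec, p.coef * (p.ea.choose i)⟩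

/-- Column of the claimed `n_p(1)`. -/
def nCol (p : ℕ) (col : ℕ) : List Term :=
  bif Nat.blt col T.dim then
    bif Nat.blt col T.l then
      ⟨col, 0, 0, 0, 1⟩ :: (bif T.cartan col (T.simple p) == 0 then [] else
        [⟨p, 0, 0, 0, -T.cartan col (T.simple p)⟩])
    else [⟨T.l + T.refl p (col - T.l), 0, 0, 0, T.eta p (col - T.l)⟩]
  else []

/-- Column of the claimed `h_p(t)`; `v` stands for the inverse of `t`. -/
def hCol (p : ℕ) (col : ℕ) : List Term :=
  bif Nat.blt col T.dim then
    bif Nat.blt col T.l then [⟨col, 0, 0, 0, 1⟩]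
    else [⟨col, (T.cartan p (col - T.l)).toNat, 0, (-T.cartan p (col - T.l)).toNat, 1⟩]
  else []

/-- The word of the commutator formula on columns. -/
def commCols (r s : ℕ) : List (ℕ → List Term) :=
  (T.commTerms r s).map fun c => T.xCol c.1 c.2.2.1 c.2.2.2 0 (c.2.1 * (-1) ^ c.2.2.1)

/-- All roots have this property. -/
def allRoots (f : ℕ → Bool) : Bool := (List.range T.n).all f
/-- All nodes have this property. -/
def allNodes (f : ℕ → Bool) : Bool := (List.range T.l).all f

/-- The `i`-th representative root. -/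
def rep (i : ℕ) : ℕ := T.reps.getD i 0
/-- Parent node of a root in the tree of the `i`-th representative. -/
def subP (i s : ℕ) : ℕ := Nat.land ((T.subT.getD i (.leaf 0)).get s) 15
/-- Depth of a root in the tree of the `i`-th representative. -/
def subDep (i s : ℕ) : ℕ := Nat.shiftRight ((T.subT.getD i (.leaf 0)).get s) 4

end Tables

/-! ### Checks against the datum -/

variable (D : ChevalleyDatum) (T : Tables)

/-- Shape of the datum. -/
def checkShape : Bool :=
  Nat.beq D.rank T.l && Nat.beq D.nroots T.n && Nat.ble 1 T.l && Nat.ble 1 T.h &&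
    Nat.beq T.simples.length T.l && T.reps.all fun i => Nat.blt i T.n

/-- The negation and fundamental-root tables. -/
def checkIdx : Bool :=
  T.allRoots (fun r => Nat.beq (D.negIdx.getD r 0) (T.neg r)) &&
    T.allNodes (fun i => Nat.beq (D.simpleIdx.getD i 0) (T.simple i) && Nat.blt (T.simple i) T.n &&
      Nat.ble T.h (T.simple i))

/-- The coroot and Cartan tables. -/
def checkMatrices : Bool :=
  T.allRoots (fun r => (D.coroot.getD r #[]).toList == (List.range T.l).map fun i => T.coroot r i) &&
    T.allNodes (fun i => (D.cartanSR.getD i #[]).toList == (List.range T.n).map fun s => T.cartan i s)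

/-- Keys of a row of the chain table. -/
def keys (r : ℕ) : List ℕ := (D.chain.getD r #[]).toList.map Prod.fst

/-- The chain table. -/
def checkChain : Bool :=
  T.allRoots fun r =>
    (List.range T.n).filterMap (fun s => bif T.noEntry r s then none else some (s, T.entry r s)) ==
      (D.chain.getD r #[]).toList.map fun e => (e.1, e.2.toList)

/-- Rows of the chain table respect the grading. -/
def checkGrading : Bool :=
  T.allRoots fun r => (D.chain.getD r #[]).toList.all fun e =>
    !(Nat.beq e.1 r) && !(Nat.beq e.1 (T.neg r)) && Nat.blt e.1 T.n &&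
    ((T.entry r e.1).zipIdx.all fun q => Nat.blt q.1.1 T.n &&
      (T.code q.1.1 == T.code e.1 + (q.2 + 1 : ℕ) * T.code r)) &&
    (match T.entry r e.1 with
      | [] => false
      | [_] => true
      | [a, b] => T.chainRoot r a.1 1 == some b.1
      | [a, b, c] => T.chainRoot r a.1 1 == some b.1 && T.chainRoot r b.1 1 == some c.1
      | _ => false) &&
    (match T.entry r e.1 with
      | [a, _, _] => decide ((3 : ℤ) ∣ T.chainM a.1 r 2)
      | _ => true) &&
    (match T.entry e.1 r with
      | [_, _, _] => decide ((3 : ℤ) ∣ T.chainM ((T.chainRoot r e.1 1).getD 0) e.1 2)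
      | _ => true)

/-- Codes, coordinates and Cartan integers are linear. -/
def checkLinear : Bool :=
  T.allRoots (fun s =>
    (T.code s == ((List.range T.l).map fun j => T.vec s j * T.weight j).sum) &&
    (T.code (T.neg s) == - T.code s) &&
    (Bool.or (Nat.ble T.n (s + 1)) (decide (T.code s < T.code (s + 1)))) &&
    T.allNodes (fun i =>
      T.cartan i s == ((List.range T.l).map fun j => T.vec s j * T.cartan i (T.simple j)).sum) &&
    (decide (D.IsPosRoot s) == Nat.ble T.h s) && (decide (D.IsNegRoot s) == Nat.blt s T.h) &&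
    ((List.range T.l).any fun i => (List.range T.l).any fun j =>
      Nat.beq (Nat.gcd (T.coroot s i).natAbs (T.coroot s j).natAbs) 1)) &&
  T.allNodes fun i =>
    (T.code (T.simple i) == T.weight i) &&
      T.allNodes fun j => T.coroot (T.simple i) j == bif Nat.beq i j then 1 else 0

/-- Simple reflections and their signs. -/
def checkRefl : Bool :=
  T.allNodes fun p => T.allRoots fun s =>
    let w := T.refl p s
    Nat.blt w T.n &&
    (T.code w == T.code s - T.cartan p s * T.code (T.simple p)) &&
    Nat.beq (T.refl p w) s && Nat.beq (T.refl p (T.neg s)) (T.neg w) &&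
    (T.eta p s * T.eta p (T.neg s) == 1) &&
    (T.eta p s * T.eta p w == (-1) ^ (T.cartan p s).natAbs) &&
    (T.allNodes fun i => T.coroot w i ==
      T.coroot s i - bif Nat.beq i p then T.pairing s (T.simple p) else 0) &&
    (Bool.or (!(Nat.beq s (T.simple p))) (T.eta p s == -1))

/-- The breadth-first tree ends in the representatives. -/
def checkTree : Bool :=
  T.allRoots fun r =>
    Nat.blt (T.parP r) T.l &&
    (bif Nat.beq (T.dep r) 0 then T.reps.any (Nat.beq r)
      else Nat.beq (T.dep (T.refl (T.parP r) r) + 1) (T.dep r))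

/-- Additivity on fundamental roots and their negatives. -/
def checkAdd : Bool :=
  T.reps.all fun r => (List.range T.dim).all fun c =>
    same (applyAll [T.xCol r 1 0 0 1, T.xCol r 0 1 0 1] (unitVec c))
      ((T.xCol r 1 0 0 1 c).flatMap Tables.expand)

/-- The shape of `n_p(1)`. -/
def checkN : Bool :=
  T.allNodes fun p => (List.range T.dim).all fun c =>
    let r := T.simple p
    same (applyAll [T.xCol r 0 0 0 1, T.xCol (T.neg r) 0 0 0 (-1), T.xCol r 0 0 0 1] (unitVec c))
      (T.nCol p c)

/-- The shape of `h_p(t)`. -/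
def checkH : Bool :=
  T.allNodes fun p => (List.range T.dim).all fun c =>
    let r := T.simple p
    sameInv (applyAllInv [T.xCol r 1 0 0 1, T.xCol (T.neg r) 0 0 1 (-1), T.xCol r 1 0 0 1,
        T.xCol r 0 0 0 (-1), T.xCol (T.neg r) 0 0 0 1, T.xCol r 0 0 0 (-1)] (unitVec c))
      (T.hCol p c)

/-- Equality of integers. -/
def intBeq : ℤ → ℤ → Bool
  | .ofNat a, .ofNat b => Nat.beq a b
  | .negSucc a, .negSucc b => Nat.beq a b
  | _, _ => false

/-- Equality of chain entries. -/
def entryBeq : List (ℕ × ℤ) → List (ℕ × ℤ) → Bool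
  | [], [] => true
  | (a, x) :: L, (b, y) :: M => Nat.beq a b && intBeq x y && entryBeq L M
  | _, _ => false

/-- The `k`-th power of a sign. -/
def signPow (z : ℤ) (k : ℕ) : ℤ := bif Nat.beq (Nat.land k 1) 0 then 1 else z

/-- The image of a chain entry under a simple reflection. -/
def moveEntry (p s c : ℕ) : ℕ → List (ℕ × ℤ) → List (ℕ × ℤ)
  | _, [] => []
  | j, (u, M) :: L =>
      (T.refl p u, signPow (T.eta p s) j * T.eta p c * T.eta p u * M) :: moveEntry p s c (j + 1) L

/-- Transport of one chain entry by a simple reflection. -/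
def entryAt (p s c : ℕ) : Bool :=
  entryBeq (T.entry (T.refl p s) (T.refl p c)) (moveEntry T p s c 1 (T.entry s c))

/-- Transport of all chain entries by the reflection in `p`. -/
def checkChainConj (p : ℕ) : Bool :=
  T.allRoots fun s =>
    Nat.beq (keys D s).length (keys D (T.refl p s)).length &&
    (keys D s).all (fun x => entryAt T p s x)

/-- The tree of a representative root for the commutator formula. -/
def checkSubTree (i : ℕ) : Bool :=
  T.allRoots fun s => Bool.or (Nat.beq (T.subDep i s) 0)
    (Nat.blt (T.subP i s) T.l && (T.cartan (T.subP i s) (T.rep i) == 0) &&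
      Nat.beq (T.subDep i (T.refl (T.subP i s) s) + 1) (T.subDep i s))

/-- The commutator formula on the depth-zero pairs of a representative root. -/
def checkCommAt (i : ℕ) : Bool :=
  let r := T.rep i
  checkSubTree T i && T.allRoots fun s =>
    Bool.or (!(Nat.beq (T.subDep i s) 0)) (Bool.or (Nat.beq s r) (Bool.or (Nat.beq s (T.neg r))
      ((List.range T.dim).all fun c =>
        same (applyAll [T.xCol s 0 1 0 1, T.xCol r 1 0 0 1] (unitVec c))
          (applyAll ([T.xCol r 1 0 0 1, T.xCol s 0 1 0 1] ++ T.commCols r s) (unitVec c)))))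

/-- A table that passes all checks. -/
structure Cert (D : ChevalleyDatum) where
  T : Tables
  shape : checkShape D T = true
  idx : checkIdx D T = true
  matrices : checkMatrices D T = true
  chain : checkChain D T = true
  grading : checkGrading D T = true
  linear : checkLinear D T = true
  refl : checkRefl T = true
  tree : checkTree T = true
  add : checkAdd T = true
  nmat : checkN T = true
  hmat : checkH T = true
  conj : ∀ p, p < T.l → checkChainConj D T p = true
  comm : ∀ i, i < T.reps.length → checkCommAt T i = true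

end Cfsg.Agent.Lie.Chev
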