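/- Generated look-up tables for the Chevalley datum of type B2. -/
import Cfsg.Agent.Lib.Lie.Chev.Check
import Cfsg.Prelude.Def_ChevB2

set_option autoImplicit false

namespace Cfsg.Agent.Lie.Chev

def treeB2Chain : BT ℕ :=
 (.node 4 (.node 2 (.node 1 (.leaf 0x1300000000d000000000000000000000000000000000000000000000)
 (.leaf 0x1d02b00000000000000001a000005015000000000000000006000000000000000000))
 (.node 3 (.leaf 0x2303500000002200000000000000000000000300d000000000000000002000000000)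
 (.leaf 0x2d00000000000000000000000000000000000b000000000000000000)))
 (.node 6 (.node 5 (.leaf 0x35000000000000000000000000000000000013000000000)
 (.leaf 0x3e00000000000003b03300000000000000000000000001e00001b00b))
 (.node 7 (.leaf 0x3a00000000000003d02b000000026000000000000025015)
 (.leaf 0x3300000002d000000000))))

def treeB2Coroot : BT ℕ :=
 (.node 4 (.node 2 (.node 1 (.leaf 0x77)
 (.leaf 0x67))
 (.node 3 (.leaf 0x87)
 (.leaf 0x78)))
 (.node 6 (.node 5 (.leaf 0x98)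
 (.leaf 0x89))
 (.node 7 (.leaf 0xa9)
 (.leaf 0x99))))

def treeB2Cartan : BT ℕ :=
 (.node 4 (.node 2 (.node 1 (.leaf 0x86)
 (.leaf 0x78))
 (.node 3 (.leaf 0x96)
 (.leaf 0x6a)))
 (.node 6 (.node 5 (.leaf 0xa6)
 (.leaf 0x7a))
 (.node 7 (.leaf 0x98)
 (.leaf 0x8a))))

def treeB2Vec : BT ℕ :=
 (.node 4 (.node 2 (.node 1 (.leaf 0x76)
 (.leaf 0x77))
 (.node 3 (.leaf 0x87)
 (.leaf 0x78)))
 (.node 6 (.node 5 (.leaf 0x98)
 (.leaf 0x89))
 (.node 7 (.leaf 0x99)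
 (.leaf 0x9a))))

def treeB2Code : BT ℤ :=
 (.node 4 (.node 2 (.node 1 (.leaf (-65))
 (.leaf (-33)))
 (.node 3 (.leaf (-32))
 (.leaf (-1))))
 (.node 6 (.node 5 (.leaf 1)
 (.leaf 32))
 (.node 7 (.leaf 33)
 (.leaf 65))))

def treeB2Refl : BT ℕ :=
 (.node 4 (.node 2 (.node 1 (.leaf 3)
 (.leaf 0x201))
 (.node 3 (.leaf 0x105)
 (.leaf 0x400)))
 (.node 6 (.node 5 (.leaf 0x307)
 (.leaf 0x602))
 (.node 7 (.leaf 0x506)
 (.leaf 0x704))))

def treeB2Eta : BT ℕ :=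
 (.node 4 (.node 2 (.node 1 (.leaf 1)
 (.leaf 3))
 (.node 3 (.leaf 1)
 (.leaf 3)))
 (.node 6 (.node 5 (.leaf 3)
 (.leaf 1))
 (.node 7 (.leaf 3)
 (.leaf 1))))

def treeB2Par : BT ℕ :=
 (.node 4 (.node 2 (.node 1 (.leaf 0x30)
 (.leaf 0x31))
 (.node 3 (.leaf 0x20)
 (.leaf 0x21)))
 (.node 6 (.node 5 (.leaf 0x10)
 (.leaf 0x11))
 (.node 7 (.leaf 0)
 (.leaf 0))))

def treeB2Sub0 : BT ℕ :=
 (.node 4 (.node 2 (.node 1 (.leaf 0)
 (.leaf 0x11))
 (.node 3 (.leaf 0)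
 (.leaf 0x11)))
 (.node 6 (.node 5 (.leaf 0)
 (.leaf 0x11))
 (.node 7 (.leaf 0)
 (.leaf 0))))

def treeB2Sub1 : BT ℕ :=
 (.node 4 (.node 2 (.node 1 (.leaf 0x10)
 (.leaf 0))
 (.node 3 (.leaf 0x10)
 (.leaf 0)))
 (.node 6 (.node 5 (.leaf 0x10)
 (.leaf 0))
 (.node 7 (.leaf 0)
 (.leaf 0))))

/-- Tables for type B2. -/
def tB2 : Tables where
  l := 2
  h := 4
  simples := [5, 4]
  reps := [7, 6]
  subT := [treeB2Sub0, treeB2Sub1]
  chainT := treeB2Chain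
  corootT := treeB2Coroot
  cartanT := treeB2Cartan
  vecT := treeB2Vec
  codeT := treeB2Code
  reflT := treeB2Refl
  etaT := treeB2Eta
  parT := treeB2Par

end Cfsg.Agent.Lie.Chev
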