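/- Kernel-checked consistency of the Chevalley datum of type B2. -/
import Cfsg.Agent.Lib.Lie.Chev.DataB2

set_option autoImplicit false

namespace Cfsg.Agent.Lie.Chev

theorem tB2_shape : checkShape Cfsg.Lie.chevB2 tB2 = true := by decide +kernel

theorem tB2_idx : checkIdx Cfsg.Lie.chevB2 tB2 = true := by decide +kernel

theorem tB2_matrices : checkMatrices Cfsg.Lie.chevB2 tB2 = true := by decide +kernel

theorem tB2_chain : checkChain Cfsg.Lie.chevB2 tB2 = true := by decide +kernel

theorem tB2_grading : checkGrading Cfsg.Lie.chevB2 tB2 = true := by decide +kernel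

theorem tB2_linear : checkLinear Cfsg.Lie.chevB2 tB2 = true := by decide +kernel

theorem tB2_refl : checkRefl tB2 = true := by decide +kernel

theorem tB2_tree : checkTree tB2 = true := by decide +kernel

theorem tB2_add : checkAdd tB2 = true := by decide +kernel

theorem tB2_nmat : checkN tB2 = true := by decide +kernel

theorem tB2_hmat : checkH tB2 = true := by decide +kernel

theorem tB2_conj0 : checkChainConj Cfsg.Lie.chevB2 tB2 0 = true := by decide +kernel

theorem tB2_conj1 : checkChainConj Cfsg.Lie.chevB2 tB2 1 = true := by decide +kernel

theorem tB2_comm0 : checkCommAt tB2 0 = true := by decide +kernel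

theorem tB2_comm1 : checkCommAt tB2 1 = true := by decide +kernel

/-- The certified tables of type B2. -/
def certB2 : Cert Cfsg.Lie.chevB2 where
  T := tB2
  shape := tB2_shape
  idx := tB2_idx
  matrices := tB2_matrices
  chain := tB2_chain
  grading := tB2_grading
  linear := tB2_linear
  refl := tB2_refl
  tree := tB2_tree
  add := tB2_add
  nmat := tB2_nmat
  hmat := tB2_hmat
  conj := fun p hp => by
    have hp' : p < 2 := hp
    interval_cases p
    · exact tB2_conj0
    · exact tB2_conj1
  comm := fun i hi => by
    have hi' : i < 2 := hi
    interval_cases i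
    · exact tB2_comm0
    · exact tB2_comm1

end Cfsg.Agent.Lie.Chev
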