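/- Kernel-checked consistency of the Chevalley datum of type D4. -/
import Cfsg.Agent.Lib.Lie.Chev.DataD4

set_option autoImplicit false

namespace Cfsg.Agent.Lie.Chev

theorem tD4_shape : checkShape Cfsg.Lie.chevD4 tD4 = true := by decide +kernel

theorem tD4_idx : checkIdx Cfsg.Lie.chevD4 tD4 = true := by decide +kernel

theorem tD4_matrices : checkMatrices Cfsg.Lie.chevD4 tD4 = true := by decide +kernel

theorem tD4_chain : checkChain Cfsg.Lie.chevD4 tD4 = true := by decide +kernel

theorem tD4_grading : checkGrading Cfsg.Lie.chevD4 tD4 = true := by decide +kernel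

theorem tD4_linear : checkLinear Cfsg.Lie.chevD4 tD4 = true := by decide +kernel

theorem tD4_refl : checkRefl tD4 = true := by decide +kernel

theorem tD4_tree : checkTree tD4 = true := by decide +kernel

theorem tD4_add : checkAdd tD4 = true := by decide +kernel

theorem tD4_nmat : checkN tD4 = true := by decide +kernel

theorem tD4_hmat : checkH tD4 = true := by decide +kernel

theorem tD4_conj0 : checkChainConj Cfsg.Lie.chevD4 tD4 0 = true := by decide +kernel

theorem tD4_conj1 : checkChainConj Cfsg.Lie.chevD4 tD4 1 = true := by decide +kernel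

theorem tD4_conj2 : checkChainConj Cfsg.Lie.chevD4 tD4 2 = true := by decide +kernel

theorem tD4_conj3 : checkChainConj Cfsg.Lie.chevD4 tD4 3 = true := by decide +kernel

theorem tD4_comm0 : checkCommAt tD4 0 = true := by decide +kernel

/-- The certified tables of type D4. -/
def certD4 : Cert Cfsg.Lie.chevD4 where
  T := tD4
  shape := tD4_shape
  idx := tD4_idx
  matrices := tD4_matrices
  chain := tD4_chain
  grading := tD4_grading
  linear := tD4_linear
  refl := tD4_refl
  tree := tD4_tree
  add := tD4_add
  nmat := tD4_nmat
  hmat := tD4_hmat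
  conj := fun p hp => by
    have hp' : p < 4 := hp
    interval_cases p
    · exact tD4_conj0
    · exact tD4_conj1
    · exact tD4_conj2
    · exact tD4_conj3
  comm := fun i hi => by
    have hi' : i < 1 := hi
    interval_cases i
    · exact tD4_comm0

end Cfsg.Agent.Lie.Chev
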