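/- Kernel-checked consistency of the Chevalley datum of type E6. -/
import Cfsg.Agent.Lib.Lie.Chev.DataE6

set_option autoImplicit false

namespace Cfsg.Agent.Lie.Chev

theorem tE6_shape : checkShape Cfsg.Lie.chevE6 tE6 = true := by decide +kernel

theorem tE6_idx : checkIdx Cfsg.Lie.chevE6 tE6 = true := by decide +kernel

theorem tE6_matrices : checkMatrices Cfsg.Lie.chevE6 tE6 = true := by decide +kernel

theorem tE6_chain : checkChain Cfsg.Lie.chevE6 tE6 = true := by decide +kernel

theorem tE6_grading : checkGrading Cfsg.Lie.chevE6 tE6 = true := by decide +kernel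

theorem tE6_linear : checkLinear Cfsg.Lie.chevE6 tE6 = true := by decide +kernel

theorem tE6_refl : checkRefl tE6 = true := by decide +kernel

theorem tE6_tree : checkTree tE6 = true := by decide +kernel

theorem tE6_add : checkAdd tE6 = true := by decide +kernel

theorem tE6_nmat : checkN tE6 = true := by decide +kernel

theorem tE6_hmat : checkH tE6 = true := by decide +kernel

theorem tE6_conj0 : checkChainConj Cfsg.Lie.chevE6 tE6 0 = true := by decide +kernel

theorem tE6_conj1 : checkChainConj Cfsg.Lie.chevE6 tE6 1 = true := by decide +kernel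

theorem tE6_conj2 : checkChainConj Cfsg.Lie.chevE6 tE6 2 = true := by decide +kernel

theorem tE6_conj3 : checkChainConj Cfsg.Lie.chevE6 tE6 3 = true := by decide +kernel

theorem tE6_conj4 : checkChainConj Cfsg.Lie.chevE6 tE6 4 = true := by decide +kernel

theorem tE6_conj5 : checkChainConj Cfsg.Lie.chevE6 tE6 5 = true := by decide +kernel

theorem tE6_comm0 : checkCommAt tE6 0 = true := by decide +kernel

/-- The certified tables of type E6. -/
def certE6 : Cert Cfsg.Lie.chevE6 where
  T := tE6
  shape := tE6_shape
  idx := tE6_idx
  matrices := tE6_matrices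
  chain := tE6_chain
  grading := tE6_grading
  linear := tE6_linear
  refl := tE6_refl
  tree := tE6_tree
  add := tE6_add
  nmat := tE6_nmat
  hmat := tE6_hmat
  conj := fun p hp => by
    have hp' : p < 6 := hp
    interval_cases p
    · exact tE6_conj0
    · exact tE6_conj1
    · exact tE6_conj2
    · exact tE6_conj3
    · exact tE6_conj4
    · exact tE6_conj5
  comm := fun i hi => by
    have hi' : i < 1 := hi
    interval_cases i
    · exact tE6_comm0

end Cfsg.Agent.Lie.Chev
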