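/- Part of the kernel-checked consistency of the Chevalley datum of type E7. -/
import Cfsg.Agent.Lib.Lie.Chev.DataE7

set_option autoImplicit false

namespace Cfsg.Agent.Lie.Chev

theorem tE7_shape : checkShape Cfsg.Lie.chevE7 tE7 = true := by decide +kernel

theorem tE7_idx : checkIdx Cfsg.Lie.chevE7 tE7 = true := by decide +kernel

theorem tE7_matrices : checkMatrices Cfsg.Lie.chevE7 tE7 = true := by decide +kernel

theorem tE7_chain : checkChain Cfsg.Lie.chevE7 tE7 = true := by decide +kernel

theorem tE7_grading : checkGrading Cfsg.Lie.chevE7 tE7 = true := by decide +kernel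

theorem tE7_linear : checkLinear Cfsg.Lie.chevE7 tE7 = true := by decide +kernel

theorem tE7_refl : checkRefl tE7 = true := by decide +kernel

theorem tE7_tree : checkTree tE7 = true := by decide +kernel

theorem tE7_add : checkAdd tE7 = true := by decide +kernel

theorem tE7_nmat : checkN tE7 = true := by decide +kernel

theorem tE7_hmat : checkH tE7 = true := by decide +kernel

theorem tE7_comm0 : checkCommAt tE7 0 = true := by decide +kernel

end Cfsg.Agent.Lie.Chev
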