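/- Part of the kernel-checked consistency of the Chevalley datum of type E7. -/
import Cfsg.Agent.Lib.Lie.Chev.DataE7

set_option autoImplicit false

namespace Cfsg.Agent.Lie.Chev

theorem tE7_conj4 : checkChainConj Cfsg.Lie.chevE7 tE7 4 = true := by decide +kernel

theorem tE7_conj5 : checkChainConj Cfsg.Lie.chevE7 tE7 5 = true := by decide +kernel

end Cfsg.Agent.Lie.Chev
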