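/- Kernel-checked consistency of the Chevalley datum of type E7. -/
import Cfsg.Agent.Lib.Lie.Chev.DataE7
import Cfsg.Agent.Lib.Lie.Chev.CertE7C3
import Cfsg.Agent.Lib.Lie.Chev.CertE7C2
import Cfsg.Agent.Lib.Lie.Chev.CertE7C1
import Cfsg.Agent.Lib.Lie.Chev.CertE7C0
import Cfsg.Agent.Lib.Lie.Chev.CertE7A

set_option autoImplicit false

namespace Cfsg.Agent.Lie.Chev

/-- The certified tables of type E7. -/
def certE7 : Cert Cfsg.Lie.chevE7 where
  T := tE7
  shape := tE7_shape
  idx := tE7_idx
  matrices := tE7_matrices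
  chain := tE7_chain
  grading := tE7_grading
  linear := tE7_linear
  refl := tE7_refl
  tree := tE7_tree
  add := tE7_add
  nmat := tE7_nmat
  hmat := tE7_hmat
  conj := fun p hp => by
    have hp' : p < 7 := hp
    interval_cases p
    · exact tE7_conj0
    · exact tE7_conj1
    · exact tE7_conj2
    · exact tE7_conj3
    · exact tE7_conj4
    · exact tE7_conj5
    · exact tE7_conj6
  comm := fun i hi => by
    have hi' : i < 1 := hi
    interval_cases i
    · exact tE7_comm0

end Cfsg.Agent.Lie.Chev
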