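/- Part of the kernel-checked consistency of the Chevalley datum of type E8. -/
import Cfsg.Agent.Lib.Lie.Chev.DataE8

set_option autoImplicit false

namespace Cfsg.Agent.Lie.Chev

theorem tE8_shape : checkShape Cfsg.Lie.chevE8 tE8 = true := by decide +kernel

theorem tE8_idx : checkIdx Cfsg.Lie.chevE8 tE8 = true := by decide +kernel

theorem tE8_matrices : checkMatrices Cfsg.Lie.chevE8 tE8 = true := by decide +kernel

theorem tE8_chain : checkChain Cfsg.Lie.chevE8 tE8 = true := by decide +kernel

theorem tE8_grading : checkGrading Cfsg.Lie.chevE8 tE8 = true := by decide +kernel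

theorem tE8_linear : checkLinear Cfsg.Lie.chevE8 tE8 = true := by decide +kernel

theorem tE8_refl : checkRefl tE8 = true := by decide +kernel

theorem tE8_tree : checkTree tE8 = true := by decide +kernel

theorem tE8_add : checkAdd tE8 = true := by decide +kernel

theorem tE8_nmat : checkN tE8 = true := by decide +kernel

theorem tE8_hmat : checkH tE8 = true := by decide +kernel

theorem tE8_comm0 : checkCommAt tE8 0 = true := by decide +kernel

end Cfsg.Agent.Lie.Chev
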