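/- Part of the kernel-checked consistency of the Chevalley datum of type E8. -/
import Cfsg.Agent.Lib.Lie.Chev.DataE8

set_option autoImplicit false

namespace Cfsg.Agent.Lie.Chev

theorem tE8_conj6 : checkChainConj Cfsg.Lie.chevE8 tE8 6 = true := by decide +kernel

theorem tE8_conj7 : checkChainConj Cfsg.Lie.chevE8 tE8 7 = true := by decide +kernel

end Cfsg.Agent.Lie.Chev
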