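/- Kernel-checked consistency of the Chevalley datum of type E8. -/
import Cfsg.Agent.Lib.Lie.Chev.DataE8
import Cfsg.Agent.Lib.Lie.Chev.CertE8C3
import Cfsg.Agent.Lib.Lie.Chev.CertE8C2
import Cfsg.Agent.Lib.Lie.Chev.CertE8C1
import Cfsg.Agent.Lib.Lie.Chev.CertE8C0
import Cfsg.Agent.Lib.Lie.Chev.CertE8A

set_option autoImplicit false

namespace Cfsg.Agent.Lie.Chev

/-- The certified tables of type E8. -/
def certE8 : Cert Cfsg.Lie.chevE8 where
  T := tE8
  shape := tE8_shape
  idx := tE8_idx
  matrices := tE8_matrices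
  chain := tE8_chain
  grading := tE8_grading
  linear := tE8_linear
  refl := tE8_refl
  tree := tE8_tree
  add := tE8_add
  nmat := tE8_nmat
  hmat := tE8_hmat
  conj := fun p hp => by
    have hp' : p < 8 := hp
    interval_cases p
    · exact tE8_conj0
    · exact tE8_conj1
    · exact tE8_conj2
    · exact tE8_conj3
    · exact tE8_conj4
    · exact tE8_conj5
    · exact tE8_conj6
    · exact tE8_conj7
  comm := fun i hi => by
    have hi' : i < 1 := hi
    interval_cases i
    · exact tE8_comm0

end Cfsg.Agent.Lie.Chev
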