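/- Kernel-checked consistency of the Chevalley datum of type F4. -/
import Cfsg.Agent.Lib.Lie.Chev.DataF4

set_option autoImplicit false

namespace Cfsg.Agent.Lie.Chev

theorem tF4_shape : checkShape Cfsg.Lie.chevF4 tF4 = true := by decide +kernel

theorem tF4_idx : checkIdx Cfsg.Lie.chevF4 tF4 = true := by decide +kernel

theorem tF4_matrices : checkMatrices Cfsg.Lie.chevF4 tF4 = true := by decide +kernel

theorem tF4_chain : checkChain Cfsg.Lie.chevF4 tF4 = true := by decide +kernel

theorem tF4_grading : checkGrading Cfsg.Lie.chevF4 tF4 = true := by decide +kernel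

theorem tF4_linear : checkLinear Cfsg.Lie.chevF4 tF4 = true := by decide +kernel

theorem tF4_refl : checkRefl tF4 = true := by decide +kernel

theorem tF4_tree : checkTree tF4 = true := by decide +kernel

theorem tF4_add : checkAdd tF4 = true := by decide +kernel

theorem tF4_nmat : checkN tF4 = true := by decide +kernel

theorem tF4_hmat : checkH tF4 = true := by decide +kernel

theorem tF4_conj0 : checkChainConj Cfsg.Lie.chevF4 tF4 0 = true := by decide +kernel

theorem tF4_conj1 : checkChainConj Cfsg.Lie.chevF4 tF4 1 = true := by decide +kernel

theorem tF4_conj2 : checkChainConj Cfsg.Lie.chevF4 tF4 2 = true := by decide +kernel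

theorem tF4_conj3 : checkChainConj Cfsg.Lie.chevF4 tF4 3 = true := by decide +kernel

theorem tF4_comm0 : checkCommAt tF4 0 = true := by decide +kernel

theorem tF4_comm1 : checkCommAt tF4 1 = true := by decide +kernel

/-- The certified tables of type F4. -/
def certF4 : Cert Cfsg.Lie.chevF4 where
  T := tF4
  shape := tF4_shape
  idx := tF4_idx
  matrices := tF4_matrices
  chain := tF4_chain
  grading := tF4_grading
  linear := tF4_linear
  refl := tF4_refl
  tree := tF4_tree
  add := tF4_add
  nmat := tF4_nmat
  hmat := tF4_hmat
  conj := fun p hp => by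
    have hp' : p < 4 := hp
    interval_cases p
    · exact tF4_conj0
    · exact tF4_conj1
    · exact tF4_conj2
    · exact tF4_conj3
  comm := fun i hi => by
    have hi' : i < 2 := hi
    interval_cases i
    · exact tF4_comm0
    · exact tF4_comm1

end Cfsg.Agent.Lie.Chev
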