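/- Generated look-up tables for the Chevalley datum of type G2. -/
import Cfsg.Agent.Lib.Lie.Chev.Check
import Cfsg.Prelude.Def_ChevG2

set_option autoImplicit false

namespace Cfsg.Agent.Lie.Chev

def treeG2Chain : BT ℕ :=
 (.node 6 (.node 3 (.node 1 (.leaf 0x2b00000001b00000001500000000000000000d000000000000000000000000000000000000000000000000000000)
 (.node 2 (.leaf 0x33000000000000000023000000000000000015000000000000000005000000000000000000000000000000000000000000000)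
 (.leaf 0xb02304300501d03b00000000000000f02600000101a00000000000000000000000000f000000007000000000000000000000000000)))
 (.node 4 (.leaf 0x2b03d04d00000000000002903e000000000000000029005013025000000000000007012000000000000000001000000000000000000)
 (.node 5 (.leaf 0x3504304d00003704200000003100000000000000000000b01501d000000000000009016000000009000000000000000000)
 (.leaf 0x5500000000000000000000000003d00000000000000000000000000000000001b000000000000000000000000003000000000))))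
 (.node 9 (.node 7 (.leaf 0x5d00000000000000000000000004500000000000000000000000000000000002300000000000000000000000000b)
 (.node 8 (.leaf 0x5700005104a00000000005504d04300000000000000000000000002f00002f01e02b01b013000000000)
 (.leaf 0x5f00000000000005f04e00000000005b04b03b000000037000000000000031022000000000035025013)))
 (.node 10 (.leaf 0x5900000005100000000000000000000005904600005703a00000000005b04502505503b01d)
 (.node 11 (.leaf 0x5b00000000000000004b00000000000000003d00000000000000002d)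
 (.leaf 0x5300000000000000004b000000045000000035000000000)))))

def treeG2Coroot : BT ℕ :=
 (.node 6 (.node 3 (.node 1 (.leaf 0x67)
 (.node 2 (.leaf 0x77)
 (.leaf 0x56)))
 (.node 4 (.leaf 0x57)
 (.node 5 (.leaf 0x87)
 (.leaf 0x78))))
 (.node 9 (.node 7 (.leaf 0x98)
 (.node 8 (.leaf 0x89)
 (.leaf 0xb9)))
 (.node 10 (.leaf 0xba)
 (.node 11 (.leaf 0x99)
 (.leaf 0xa9)))))

def treeG2Cartan : BT ℕ :=
 (.node 6 (.node 3 (.node 1 (.leaf 0x78)
 (.node 2 (.leaf 0x95)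
 (.leaf 0x87)))
 (.node 4 (.leaf 0x79)
 (.node 5 (.leaf 0x96)
 (.leaf 0x6b))))
 (.node 9 (.node 7 (.leaf 0xa5)
 (.node 8 (.leaf 0x7a)
 (.leaf 0x97)))
 (.node 10 (.leaf 0x89)
 (.node 11 (.leaf 0x7b)
 (.leaf 0x98)))))

def treeG2Vec : BT ℕ :=
 (.node 6 (.node 3 (.node 1 (.leaf 0x65)
 (.node 2 (.leaf 0x75)
 (.leaf 0x76)))
 (.node 4 (.leaf 0x77)
 (.node 5 (.leaf 0x87)
 (.leaf 0x78))))
 (.node 9 (.node 7 (.leaf 0x98)
 (.node 8 (.leaf 0x89)
 (.leaf 0x99)))
 (.node 10 (.leaf 0x9a)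
 (.node 11 (.leaf 0x9b)
 (.leaf 0xab)))))

def treeG2Code : BT ℤ :=
 (.node 6 (.node 3 (.node 1 (.leaf (-98))
 (.node 2 (.leaf (-97))
 (.leaf (-65))))
 (.node 4 (.leaf (-33))
 (.node 5 (.leaf (-32))
 (.leaf (-1)))))
 (.node 9 (.node 7 (.leaf 1)
 (.node 8 (.leaf 32)
 (.leaf 33)))
 (.node 10 (.leaf 65)
 (.node 11 (.leaf 97)
 (.leaf 98)))))

def treeG2Refl : BT ℕ :=
 (.node 6 (.node 3 (.node 1 (.leaf 0x100)
 (.node 2 (.leaf 5)
 (.leaf 0x203)))
 (.node 4 (.leaf 0x402)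
 (.node 5 (.leaf 0x307)
 (.leaf 0x601))))
 (.node 9 (.node 7 (.leaf 0x50a)
 (.node 8 (.leaf 0x804)
 (.leaf 0x709)))
 (.node 10 (.leaf 0x908)
 (.node 11 (.leaf 0xb06)
 (.leaf 0xa0b)))))

def treeG2Eta : BT ℕ :=
 (.node 6 (.node 3 (.node 1 (.leaf 2)
 (.node 2 (.leaf 1)
 (.leaf 1)))
 (.node 4 (.leaf 2)
 (.node 5 (.leaf 1)
 (.leaf 2))))
 (.node 9 (.node 7 (.leaf 2)
 (.node 8 (.leaf 1)
 (.leaf 2)))
 (.node 10 (.leaf 1)
 (.node 11 (.leaf 1)
 (.leaf 2)))))

def treeG2Par : BT ℕ :=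
 (.node 6 (.node 3 (.node 1 (.leaf 0x51)
 (.node 2 (.leaf 0x40)
 (.leaf 0x50)))
 (.node 4 (.leaf 0x41)
 (.node 5 (.leaf 0x30)
 (.leaf 0x31))))
 (.node 9 (.node 7 (.leaf 0x20)
 (.node 8 (.leaf 0x21)
 (.leaf 0x10)))
 (.node 10 (.leaf 0)
 (.node 11 (.leaf 0x11)
 (.leaf 0)))))

def treeG2Sub0 : BT ℕ :=
 (.node 6 (.node 3 (.node 1 (.leaf 0)
 (.node 2 (.leaf 0x10)
 (.leaf 0x10)))
 (.node 4 (.leaf 0)
 (.node 5 (.leaf 0x10)
 (.leaf 0))))
 (.node 9 (.node 7 (.leaf 0x10)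
 (.node 8 (.leaf 0)
 (.leaf 0x10)))
 (.node 10 (.leaf 0)
 (.node 11 (.leaf 0)
 (.leaf 0)))))

def treeG2Sub1 : BT ℕ :=
 (.node 6 (.node 3 (.node 1 (.leaf 0x11)
 (.node 2 (.leaf 0)
 (.leaf 0)))
 (.node 4 (.leaf 0x11)
 (.node 5 (.leaf 0)
 (.leaf 0x11))))
 (.node 9 (.node 7 (.leaf 0)
 (.node 8 (.leaf 0x11)
 (.leaf 0)))
 (.node 10 (.leaf 0)
 (.node 11 (.leaf 0x11)
 (.leaf 0)))))

/-- Tables for type G2. -/
def tG2 : Tables where
  l := 2
  h := 6
  simples := [7, 6]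
  reps := [11, 9]
  subT := [treeG2Sub0, treeG2Sub1]
  chainT := treeG2Chain
  corootT := treeG2Coroot
  cartanT := treeG2Cartan
  vecT := treeG2Vec
  codeT := treeG2Code
  reflT := treeG2Refl
  etaT := treeG2Eta
  parT := treeG2Par

end Cfsg.Agent.Lie.Chev
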