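/- Kernel-checked consistency of the Chevalley datum of type G2. -/
import Cfsg.Agent.Lib.Lie.Chev.DataG2

set_option autoImplicit false

namespace Cfsg.Agent.Lie.Chev

theorem tG2_shape : checkShape Cfsg.Lie.chevG2 tG2 = true := by decide +kernel

theorem tG2_idx : checkIdx Cfsg.Lie.chevG2 tG2 = true := by decide +kernel

theorem tG2_matrices : checkMatrices Cfsg.Lie.chevG2 tG2 = true := by decide +kernel

theorem tG2_chain : checkChain Cfsg.Lie.chevG2 tG2 = true := by decide +kernel

theorem tG2_grading : checkGrading Cfsg.Lie.chevG2 tG2 = true := by decide +kernel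

theorem tG2_linear : checkLinear Cfsg.Lie.chevG2 tG2 = true := by decide +kernel

theorem tG2_refl : checkRefl tG2 = true := by decide +kernel

theorem tG2_tree : checkTree tG2 = true := by decide +kernel

theorem tG2_add : checkAdd tG2 = true := by decide +kernel

theorem tG2_nmat : checkN tG2 = true := by decide +kernel

theorem tG2_hmat : checkH tG2 = true := by decide +kernel

theorem tG2_conj0 : checkChainConj Cfsg.Lie.chevG2 tG2 0 = true := by decide +kernel

theorem tG2_conj1 : checkChainConj Cfsg.Lie.chevG2 tG2 1 = true := by decide +kernel

theorem tG2_comm0 : checkCommAt tG2 0 = true := by decide +kernel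

theorem tG2_comm1 : checkCommAt tG2 1 = true := by decide +kernel

/-- The certified tables of type G2. -/
def certG2 : Cert Cfsg.Lie.chevG2 where
  T := tG2
  shape := tG2_shape
  idx := tG2_idx
  matrices := tG2_matrices
  chain := tG2_chain
  grading := tG2_grading
  linear := tG2_linear
  refl := tG2_refl
  tree := tG2_tree
  add := tG2_add
  nmat := tG2_nmat
  hmat := tG2_hmat
  conj := fun p hp => by
    have hp' : p < 2 := hp
    interval_cases p
    · exact tG2_conj0
    · exact tG2_conj1
  comm := fun i hi => by
    have hi' : i < 2 := hi
    interval_cases i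
    · exact tG2_comm0
    · exact tG2_comm1

end Cfsg.Agent.Lie.Chev
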