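/- All certified tables. -/
import Cfsg.Agent.Lib.Lie.Chev.CertG2
import Cfsg.Agent.Lib.Lie.Chev.CertB2
import Cfsg.Agent.Lib.Lie.Chev.CertD4
import Cfsg.Agent.Lib.Lie.Chev.CertF4
import Cfsg.Agent.Lib.Lie.Chev.CertE6
import Cfsg.Agent.Lib.Lie.Chev.CertE7
import Cfsg.Agent.Lib.Lie.Chev.CertE8

set_option autoImplicit false

namespace Cfsg.Agent.Lie.Chev

open Cfsg.Lie

/-- Every tabulated datum has a certified table. -/
theorem exists_cert {D : ChevalleyDatum}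
    (hD : D ∈ [chevG2, chevB2, chevD4, chevF4, chevE6, chevE7, chevE8]) : Nonempty (Cert D) := by
  simp only [List.mem_cons, List.not_mem_nil, or_false] at hD
  rcases hD with rfl | rfl | rfl | rfl | rfl | rfl | rfl
  · exact ⟨certG2⟩
  · exact ⟨certB2⟩
  · exact ⟨certD4⟩
  · exact ⟨certF4⟩
  · exact ⟨certE6⟩
  · exact ⟨certE7⟩
  · exact ⟨certE8⟩

end Cfsg.Agent.Lie.Chev
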