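import Cfsg.Agent.Lib.Lie.Chev.Comm

/-! Two further table checks: the orbits of the representatives and the definition of reflections
through chains. -/

set_option autoImplicit false

namespace Cfsg.Agent.Lie.Chev

open Cfsg.Lie

namespace Tables

variable (T : Tables)

/-- Follow the tree from a root. -/
def descend : ℕ → ℕ → ℕ
  | 0, r => r
  | fuel + 1, r => bif Nat.beq (T.dep r) 0 then r else descend fuel (T.refl (T.parP r) r)

/-- The image of a root in a simple reflection, read off the chains. -/
def reflChain (i s : ℕ) : ℕ :=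
  let p := T.simple i
  let A := T.cartan i s
  bif Nat.beq s p then T.neg p
  else bif Nat.beq s (T.neg p) then p
  else bif decide (0 < A) then (T.chainRoot (T.neg p) s A.toNat).getD s
  else bif decide (A < 0) then (T.chainRoot p s (-A).toNat).getD s
  else s

end Tables

/-- Every representative is reached from a fundamental root. -/
def checkOrbit (T : Tables) : Bool :=
  T.reps.all fun a => (List.range T.l).any fun i => Nat.beq (T.descend T.n (T.simple i)) a

/-- The reflection table agrees with the chains. -/
def checkReflChain (T : Tables) : Bool :=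
  T.allNodes fun i => T.allRoots fun s => Nat.beq (T.reflChain i s) (T.refl i s)

/-- Positive roots have non-negative coefficients, at least two of them positive unless the root
is fundamental; coefficients and coroot coefficients have the same support. -/
def checkPos (T : Tables) : Bool :=
  T.allRoots fun s =>
    (T.allNodes fun i => (T.coroot s i == 0) == (T.vec s i == 0)) &&
    Bool.or (Nat.blt s T.h)
      ((T.allNodes fun i => decide (0 ≤ T.vec s i)) &&
        T.allNodes fun p => Bool.or (Nat.beq s (T.simple p))
          ((List.range T.l).any fun k => !(Nat.beq k p) && decide (0 < T.vec s k)))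

/-- A certified table with the further checks. -/
structure CertFull (D : ChevalleyDatum) extends Cert D where
  orbit : checkOrbit toCert.T = true
  reflChain : checkReflChain toCert.T = true
  pos : checkPos toCert.T = true

namespace CertFull

variable {D : ChevalleyDatum} (c : CertFull D)
include c

/-- A property of roots stable under simple reflections holds everywhere if it holds for the
fundamental roots. -/
theorem root_induction {P : ℕ → Prop} (hsimple : ∀ i < D.rank, P (D.simple i))
    (hw : ∀ p < D.rank, ∀ r < D.nroots, P r → P (c.w p r)) :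
    ∀ r < D.nroots, P r := by
  have hd : ∀ fuel r, r < D.nroots → P r → P (c.T.descend fuel r) := by
    intro fuel
    induction fuel with
    | zero => intro r _ h; exact h
    | succ fuel ih =>
      intro r hr h
      rw [Tables.descend]
      cases Nat.beq (c.T.dep r) 0 with
      | true => exact h
      | false =>
        obtain ⟨hp, -⟩ := c.tree_root hr
        exact ih _ (c.w_lt hp hr) (hw _ hp r hr h)
  have horb := c.orbit
  simp only [checkOrbit, List.all_eq_true, List.any_eq_true, List.mem_range, Nat.beq_eq] at horb
  intro r hr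
  generalize hdep : c.T.dep r = d
  induction d using Nat.strong_induction_on generalizing r with
  | _ d ih =>
    obtain ⟨hp, ⟨-, hrep⟩ | hdep'⟩ := c.tree_root hr
    · obtain ⟨i, hi, he⟩ := horb r hrep
      rw [← c.rank_eq] at hi
      rw [← he, ← c.simple_eq hi]
      exact hd _ _ (c.simple_lt hi) (hsimple i hi)
    · have := hw _ hp _ (c.w_lt hp hr)
        (ih (c.T.dep (c.w (c.T.parP r) r)) (by omega) _ (c.w_lt hp hr) rfl)
      rwa [c.w_w hp hr] at this

theorem reflectRoot_eq {p s : ℕ} (hp : p < D.rank) (hs : s < D.nroots) :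
    D.reflectRoot p s = c.w p s := by
  have h := c.reflChain
  simp only [checkReflChain, Tables.allNodes, Tables.allRoots, List.all_eq_true, List.mem_range,
    Nat.beq_eq] at h
  rw [Cert.w, ← h p (c.rank_eq ▸ hp) s (c.nroots_eq ▸ hs)]
  have hα := c.simple_lt hp
  have hn := c.neg_lt hα
  simp only [ChevalleyDatum.reflectRoot, Tables.reflChain, c.cartan_eq hp hs,
    c.chainRoot_eq hα hs, c.chainRoot_eq hn hs]
  rw [c.neg_eq hα, c.simple_eq hp]
  by_cases h1 : s = c.T.simple p
  · rw [if_pos h1, beq_of_eq h1]; rfl
  rw [if_neg h1, show Nat.beq s (c.T.simple p) = false from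
    Bool.eq_false_iff.2 fun e => h1 (eq_of_beq' e), cond_false]
  by_cases h2 : s = c.T.neg (c.T.simple p)
  · rw [if_pos h2, beq_of_eq h2]; rfl
  rw [if_neg h2, show Nat.beq s (c.T.neg (c.T.simple p)) = false from
    Bool.eq_false_iff.2 fun e => h2 (eq_of_beq' e), cond_false]
  by_cases h3 : 0 < c.T.cartan p s
  · simp [h3]
  by_cases h4 : c.T.cartan p s < 0 <;> simp [h3, h4]

theorem support {s i : ℕ} (hs : s < D.nroots) (hi : i < D.rank) :
    c.T.coroot s i = 0 ↔ c.T.vec s i = 0 := by
  have h := c.pos
  simp only [checkPos, Tables.allRoots, Tables.allNodes, List.all_eq_true, List.mem_range,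
    Bool.and_eq_true, beq_iff_eq] at h
  have := (h s (c.nroots_eq ▸ hs)).1 i (c.rank_eq ▸ hi)
  rw [← beq_iff_eq (a := c.T.coroot s i), ← beq_iff_eq (a := c.T.vec s i), this]

theorem vec_nonneg {s : ℕ} (hs : s < D.nroots) (hh : c.T.h ≤ s) :
    (∀ i < D.rank, 0 ≤ c.T.vec s i) ∧
    ∀ p < D.rank, s ≠ D.simple p → ∃ k < D.rank, k ≠ p ∧ 0 < c.T.vec s k := by
  have h := c.pos
  simp only [checkPos, Tables.allRoots, Tables.allNodes, List.all_eq_true, List.mem_range,
    Bool.and_eq_true, Bool.or_eq_true, Nat.blt_eq, decide_eq_true_eq, List.any_eq_true,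
    Nat.beq_eq, Bool.not_eq_true'] at h
  obtain h3 | ⟨h1, h2⟩ := (h s (c.nroots_eq ▸ hs)).2
  · omega
  refine ⟨fun i hi => h1 i (c.rank_eq ▸ hi), fun p hp hne => ?_⟩
  rcases h2 p (c.rank_eq ▸ hp) with h4 | ⟨k, hk, hkp, hv⟩
  · exact absurd (h4.trans (c.simple_eq hp).symm) hne
  · refine ⟨k, c.rank_eq.symm ▸ hk, fun e => ?_, hv⟩
    rw [beq_of_eq e] at hkp
    cases hkp

end CertFull

end Cfsg.Agent.Lie.Chev
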