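/- The tables with the further checks. -/
import Cfsg.Agent.Lib.Lie.Chev.Certs
import Cfsg.Agent.Lib.Lie.Chev.Full

set_option autoImplicit false

namespace Cfsg.Agent.Lie.Chev

open Cfsg.Lie

/-- The fully certified tables of type G2. -/
def certFullG2 : CertFull chevG2 where
  toCert := certG2
  orbit := by decide +kernel
  reflChain := by decide +kernel
  pos := by decide +kernel

/-- The fully certified tables of type B2. -/
def certFullB2 : CertFull chevB2 where
  toCert := certB2
  orbit := by decide +kernel
  reflChain := by decide +kernel
  pos := by decide +kernel

/-- The fully certified tables of type D4. -/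
def certFullD4 : CertFull chevD4 where
  toCert := certD4
  orbit := by decide +kernel
  reflChain := by decide +kernel
  pos := by decide +kernel

/-- The fully certified tables of type F4. -/
def certFullF4 : CertFull chevF4 where
  toCert := certF4
  orbit := by decide +kernel
  reflChain := by decide +kernel
  pos := by decide +kernel

/-- The fully certified tables of type E6. -/
def certFullE6 : CertFull chevE6 where
  toCert := certE6
  orbit := by decide +kernel
  reflChain := by decide +kernel
  pos := by decide +kernel

/-- The fully certified tables of type E7. -/
def certFullE7 : CertFull chevE7 where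
  toCert := certE7
  orbit := by decide +kernel
  reflChain := by decide +kernel
  pos := by decide +kernel

/-- The fully certified tables of type E8. -/
def certFullE8 : CertFull chevE8 where
  toCert := certE8
  orbit := by decide +kernel
  reflChain := by decide +kernel
  pos := by decide +kernel

/-- Every tabulated datum has a fully certified table. -/
theorem exists_certFull {D : ChevalleyDatum}
    (hD : D ∈ [chevG2, chevB2, chevD4, chevF4, chevE6, chevE7, chevE8]) : Nonempty (CertFull D) := by
  simp only [List.mem_cons, List.not_mem_nil, or_false] at hD
  rcases hD with rfl | rfl | rfl | rfl | rfl | rfl | rfl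
  · exact ⟨certFullG2⟩
  · exact ⟨certFullB2⟩
  · exact ⟨certFullD4⟩
  · exact ⟨certFullF4⟩
  · exact ⟨certFullE6⟩
  · exact ⟨certFullE7⟩
  · exact ⟨certFullE8⟩

end Cfsg.Agent.Lie.Chev
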