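import Cfsg.Agent.Lib.Lie.Chev.Weyl
import Cfsg.Prelude.Def_LieExceptional

/-! The (B,N)-pair of a Chevalley group. -/

set_option autoImplicit false

namespace Cfsg.Agent.Lie.Chev

open Cfsg.Lie Matrix

/-- The product of the positive root subgroups other than that of `α_p`. -/
def Up (D : ChevalleyDatum) (F : Type*) [Field F] (p : ℕ) : Subgroup (GL D.Idx F) :=
  Subgroup.closure {g | ∃ (s : ℕ) (t : F), D.IsPosRoot s ∧ s ≠ D.simple p ∧
    (g : Matrix D.Idx D.Idx F) = D.x F s t}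

namespace CertFull

variable {D : ChevalleyDatum} (c : CertFull D) {F : Type*} [Field F]

include c

theorem Up_le_U (p : ℕ) : Up D F p ≤ D.posUnipotent F :=
  Subgroup.closure_mono fun _ ⟨s, t, hs, _, e⟩ => ⟨s, t, hs, e⟩

theorem xg_mem_Up {p s : ℕ} (hs : c.Pos s) (hne : s ≠ D.simple p) (t : F) : c.xg s t ∈ Up D F p :=
  Subgroup.subset_closure ⟨s, t, c.posRoot_iff.2 hs, hne, rfl⟩

theorem xg_mem_U {s : ℕ} (hs : c.Pos s) (t : F) : c.xg s t ∈ D.posUnipotent F :=
  Subgroup.subset_closure ⟨s, t, c.posRoot_iff.2 hs, rfl⟩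

theorem xg_mem_B {s : ℕ} (hs : c.Pos s) (t : F) : c.xg s t ∈ D.borelSubgroup F :=
  Subgroup.mem_sup_left (c.xg_mem_U hs t)

theorem mem_rootSubgroup_iff {r : ℕ} {g : GL D.Idx F} :
    g ∈ D.rootSubgroup F r ↔ ∃ t : F, g = c.xg r t := by
  constructor
  · intro h
    induction h using Subgroup.closure_induction with
    | mem g hg => obtain ⟨t, ht⟩ := hg; exact ⟨t, c.eq_xg_iff.1 ht⟩
    | one => exact ⟨0, (c.xg_zero r).symm⟩
    | mul a b _ _ ha hb =>
      obtain ⟨t, rfl⟩ := ha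
      obtain ⟨u, rfl⟩ := hb
      exact ⟨t + u, (c.xg_add r t u).symm⟩
    | inv a _ ha =>
      obtain ⟨t, rfl⟩ := ha
      exact ⟨-t, c.xg_inv r t⟩
  · rintro ⟨t, rfl⟩
    exact Subgroup.subset_closure ⟨t, rfl⟩

theorem xg_conj_Up {p r : ℕ} (hp : p < D.rank) (hr : r = D.simple p ∨ r = D.neg (D.simple p))
    (t : F) {g : GL D.Idx F} (hg : g ∈ Up D F p) : c.xg r t * g * (c.xg r t)⁻¹ ∈ Up D F p := by
  refine conj_closure_mem ?_ hg
  rintro g ⟨s, u, hs, hne, hg⟩
  obtain rfl := c.eq_xg_iff.1 hg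
  have hs' := c.posRoot_iff.1 hs
  have hα := c.simple_lt hp
  have hr' : r < D.nroots := by rcases hr with rfl | rfl; exacts [hα, c.neg_lt hα]
  have hsn : s ≠ D.neg (D.simple p) := fun e =>
    (c.not_pos_iff hα).2 (e ▸ hs') (c.pos_simple hp)
  have h1 : s ≠ r := by rcases hr with rfl | rfl; exacts [hne, hsn]
  have h2 : s ≠ D.neg r := by
    rcases hr with rfl | rfl
    · exact hsn
    · rw [c.neg_neg hα]; exact hne
  rw [c.xg_inv, mul_assoc, c.xg_comm hr' hs'.2 h1 h2, ← mul_assoc, ← mul_assoc, ← c.xg_add,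
    add_neg_cancel, c.xg_zero, one_mul]
  refine mul_mem (c.xg_mem_Up hs' hne u) (Subgroup.list_prod_mem _ fun k hk => ?_)
  obtain ⟨x, hx, rfl⟩ := List.mem_map.1 hk
  obtain ⟨h3, h4⟩ := c.commTerms_pos hp hr hs' hne (Or.inl hx)
  exact c.xg_mem_Up h3 h4 _

theorem rootSubgroups_le_normalizer_Up {p : ℕ} (hp : p < D.rank) :
    D.rootSubgroup F (D.simple p) ⊔ D.rootSubgroup F (D.neg (D.simple p)) ≤
      Subgroup.normalizer (Up D F p : Set (GL D.Idx F)) := by
  have key : ∀ r, (r = D.simple p ∨ r = D.neg (D.simple p)) →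
      D.rootSubgroup F r ≤ Subgroup.normalizer (Up D F p : Set (GL D.Idx F)) := by
    intro r hr g hg
    obtain ⟨t, rfl⟩ := c.mem_rootSubgroup_iff.1 hg
    rw [Subgroup.mem_normalizer_iff]
    refine fun k => ⟨fun hk => c.xg_conj_Up hp hr t hk, fun hk => ?_⟩
    have := c.xg_conj_Up hp hr (-t) hk
    rw [← c.xg_inv, inv_inv] at this
    simpa [mul_assoc] using this
  exact sup_le (key _ (Or.inl rfl)) (key _ (Or.inr rfl))

theorem Up_sup {p : ℕ} (hp : p < D.rank) :
    Up D F p ⊔ D.rootSubgroup F (D.simple p) = D.posUnipotent F := by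
  refine le_antisymm (sup_le (c.Up_le_U p) ?_) ?_
  · intro g hg
    obtain ⟨t, rfl⟩ := c.mem_rootSubgroup_iff.1 hg
    exact c.xg_mem_U (c.pos_simple hp) t
  · refine (Subgroup.closure_le _).2 ?_
    rintro g ⟨r, t, hr, hg⟩
    by_cases h : r = D.simple p
    · exact Subgroup.mem_sup_right (Subgroup.subset_closure ⟨t, h ▸ hg⟩)
    · exact Subgroup.mem_sup_left (Subgroup.subset_closure ⟨r, t, hr, h, hg⟩)

theorem exists_Up_mul {p : ℕ} (hp : p < D.rank) {u : GL D.Idx F} (hu : u ∈ D.posUnipotent F) :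
    ∃ k ∈ Up D F p, ∃ t : F, u = k * c.xg (D.simple p) t := by
  rw [← c.Up_sup hp, ← SetLike.mem_coe, Subgroup.coe_mul_of_right_le_normalizer_left _ _
    (le_sup_left.trans (c.rootSubgroups_le_normalizer_Up hp)), Set.mem_mul] at hu
  obtain ⟨k, hk, g, hg, e⟩ := hu
  obtain ⟨t, rfl⟩ := c.mem_rootSubgroup_iff.1 hg
  exact ⟨k, hk, t, e.symm⟩

theorem np_conj_Up {p : ℕ} (hp : p < D.rank) {k : GL D.Idx F} (hk : k ∈ Up D F p) :
    c.np F p * k * (c.np F p)⁻¹ ∈ Up D F p := by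
  refine conj_closure_mem ?_ hk
  rintro g ⟨s, u, hs, hne, hg⟩
  obtain rfl := c.eq_xg_iff.1 hg
  have hs' := c.posRoot_iff.1 hs
  rw [Cert.np, c.ng_conj hp hs'.2, mul_inv_cancel_right]
  obtain ⟨h1, h2⟩ := c.pos_w hp hs' hne
  exact c.xg_mem_Up h1 h2 _

/-- The rank-one identity. -/
theorem xg_neg_eq {p : ℕ} (hp : p < D.rank) {b : F} (hb : b ≠ 0) :
    ∃ a ∈ D.diagonalSubgroup F, c.xg (D.neg (D.simple p)) b =
      c.xg (D.simple p) b⁻¹ * (a * c.np F p) * c.xg (D.simple p) b⁻¹ := by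
  refine ⟨c.hg (D.simple p) (-b⁻¹), c.hg_mem (c.simple_lt hp) (neg_ne_zero.2 (inv_ne_zero hb)), ?_⟩
  rw [← c.ng_eq_hg_mul_np, Cert.ng, show (-(-b⁻¹)⁻¹ : F) = b by field_simp]
  simp only [← mul_assoc, ← c.xg_add, add_neg_cancel, c.xg_zero, one_mul]
  simp only [mul_assoc, ← c.xg_add, neg_add_cancel, c.xg_zero, mul_one]

theorem H_le_B : D.diagonalSubgroup F ≤ D.borelSubgroup F := le_sup_right

/-- The double-coset condition. -/
theorem np_mul_mul {p : ℕ} (hp : p < D.rank) {n : GL D.Idx F} (hn : n ∈ D.monomialSubgroup F)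
    {b : GL D.Idx F} (hb : b ∈ D.borelSubgroup F) :
    c.np F p * b * n ∈
      DoubleCoset.doubleCoset (c.np F p * n) (D.borelSubgroup F : Set (GL D.Idx F))
        (D.borelSubgroup F) ∪
      DoubleCoset.doubleCoset n (D.borelSubgroup F : Set (GL D.Idx F)) (D.borelSubgroup F) := by
  obtain ⟨u, hu, a, ha, rfl⟩ := c.mem_borel_iff.1 hb
  obtain ⟨k, hk, t, rfl⟩ := c.exists_Up_mul hp hu
  have hk' : c.np F p * k * (c.np F p)⁻¹ ∈ D.borelSubgroup F :=
    Subgroup.mem_sup_left (c.Up_le_U p (c.np_conj_Up hp hk))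
  have han : n⁻¹ * a * n ∈ D.borelSubgroup F := by
    have := c.N_conj_H (inv_mem hn) ha
    rw [inv_inv] at this
    exact c.H_le_B this
  obtain ⟨a₀, ha₀, L, hL, rfl⟩ := c.mem_monomial_iff.1 hn
  have hα := c.simple_lt hp
  have hLr : ∀ q ∈ L.reverse, q < D.rank := fun q hq => hL q (List.mem_reverse.1 hq)
  set r := c.wl L.reverse (D.simple p) with hrdef
  have hr : r < D.nroots := c.wl_lt hLr hα
  have hwr : c.wl L r = D.simple p := c.wl_reverse hL hα
  obtain ⟨m, hm, hconj⟩ := c.mono_mul_xg ha₀ hL hr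
  rw [hwr] at hconj
  set n := a₀ * c.nw F L with hndef
  have e0 : c.np F p * (k * c.xg (D.simple p) t * a) * n =
      (c.np F p * k * (c.np F p)⁻¹) * (c.np F p * c.xg (D.simple p) t * n * (n⁻¹ * a * n)) := by
    group
  rw [e0]
  by_cases hpos : t = 0 ∨ c.Pos r
  · left
    rw [DoubleCoset.mem_doubleCoset]
    rcases hpos with rfl | hpos
    · exact ⟨_, hk', n⁻¹ * a * n, han, by rw [c.xg_zero]; group⟩
    · refine ⟨_, hk', c.xg r (m⁻¹ * t) * (n⁻¹ * a * n), mul_mem (c.xg_mem_B hpos _) han, ?_⟩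
      have e := hconj (m⁻¹ * t)
      rw [← mul_assoc m, mul_inv_cancel₀ hm, one_mul] at e
      rw [mul_assoc (c.np F p) (c.xg (D.simple p) t) n, ← e]
      group
  · push Not at hpos
    obtain ⟨ht, hpos⟩ := hpos
    right
    set η : F := (c.T.eta p (D.simple p) : F)
    have hη : η ≠ 0 :=
      left_ne_zero_of_mul (b := η) (by rw [c.eta_F_sq]; exact one_ne_zero)
    have e1 : c.np F p * c.xg (D.simple p) t =
        c.xg (D.neg (D.simple p)) (η * t) * c.np F p := by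
      rw [Cert.np, c.ng_conj hp hα, c.w_simple hp]
    obtain ⟨a₁, ha₁, e2⟩ := c.xg_neg_eq hp (mul_ne_zero hη ht)
    obtain ⟨m', hm', hconj'⟩ := c.mono_mul_xg ha₀ hL (c.neg_lt hr)
    rw [c.wl_neg hL hr, hwr] at hconj'
    set w : F := (η * t)⁻¹
    -- move the right factor through `np p * n`
    have hη' : c.np F p * c.xg (D.neg (D.simple p)) (η * w) = c.xg (D.simple p) w * c.np F p := by
      rw [Cert.np, c.ng_conj hp (c.neg_lt hα), c.w_neg hp hα, c.w_simple hp, c.neg_neg hα,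
        c.eta_neg hp hα, ← mul_assoc, c.eta_F_sq, one_mul]
    have e3 := hconj' (m'⁻¹ * (η * w))
    rw [← mul_assoc m', mul_inv_cancel₀ hm', one_mul] at e3
    have hneg : c.Pos (D.neg r) := (c.not_pos_iff hr).1 hpos
    set y := c.xg (D.neg r) (m'⁻¹ * (η * w))
    have e4 : c.xg (D.simple p) w * c.np F p * n = c.np F p * n * y := by
      rw [← hη', mul_assoc (c.np F p), ← e3, ← mul_assoc]
    have hsq : c.np F p * c.np F p ∈ D.diagonalSubgroup F := c.np_sq_mem hp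
    rw [DoubleCoset.mem_doubleCoset]
    refine ⟨(c.np F p * k * (c.np F p)⁻¹) * (c.xg (D.simple p) w * a₁ * (c.np F p * c.np F p)),
      mul_mem hk' (mul_mem (mul_mem (c.xg_mem_B (c.pos_simple hp) _) (c.H_le_B ha₁))
        (c.H_le_B hsq)),
      y * (n⁻¹ * a * n), mul_mem (c.xg_mem_B hneg _) han, ?_⟩
    rw [e1, e2]
    calc _ = c.np F p * k * (c.np F p)⁻¹ * (c.xg (D.simple p) w * a₁ * c.np F p *
          (c.xg (D.simple p) w * c.np F p * n) * (n⁻¹ * a * n)) := by group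
      _ = _ := by rw [e4]; group

theorem np_notMem_B {p : ℕ} (hp : p < D.rank) : c.np F p ∉ D.borelSubgroup F := by
  intro h
  have hH : c.np F p ∈ D.borelSubgroup F ⊓ D.monomialSubgroup F := ⟨h, c.np_mem_N hp⟩
  rw [c.B_inf_N] at hH
  have := c.wl_eq_of_eq (L := [p]) (M := []) (one_mem _) hH (by simpa using hp) (by simp)
    (by simp) (c.simple_lt hp)
  simp only [Cert.wl_cons, Cert.wl_nil, c.w_simple hp] at this
  exact c.neg_ne (c.simple_lt hp) this

theorem np_conj_B_ne {p : ℕ} (hp : p < D.rank) :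
    ∃ b ∈ D.borelSubgroup F, c.np F p * b * c.np F p ∉ D.borelSubgroup F := by
  refine ⟨c.xg (D.simple p) 1, c.xg_mem_B (c.pos_simple hp) _, fun h => ?_⟩
  rw [Cert.np, c.ng_conj hp (c.simple_lt hp), c.w_simple hp, mul_one, mul_assoc] at h
  have h2 := mul_mem h (inv_mem (c.H_le_B (c.np_sq_mem hp)))
  rw [Cert.np, mul_inv_cancel_right] at h2
  have hV : c.xg (D.neg (D.simple p)) (c.T.eta p (D.simple p) : F) ∈ D.negUnipotent F := by
    refine Subgroup.subset_closure ⟨D.neg (D.simple p), _, c.isNegRoot_iff.2 ?_, rfl⟩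
    by_contra hh
    exact (c.not_pos_iff (c.simple_lt hp)).2 ⟨by omega, c.neg_lt (c.simple_lt hp)⟩
      (c.pos_simple hp)
  have h3 := c.borel_inf_negUnipotent.1.le ⟨h2, hV⟩
  rw [Subgroup.mem_bot, c.xg_eq_one_iff (c.neg_lt (c.simple_lt hp))] at h3
  have := c.eta_F_sq (F := F) p (D.simple p)
  rw [h3, zero_mul] at this
  exact zero_ne_one this

theorem B_le_group : D.borelSubgroup F ≤ D.group F := by
  refine sup_le (le_sup_left.trans c.sup_neg_eq_group.le) ((Subgroup.closure_le _).2 ?_)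
  rintro g ⟨r, t, hr, -, hg⟩
  obtain rfl : g = c.hg r t := Units.ext (hg.trans (c.hg_val r t).symm)
  exact mul_mem (mul_mem (mul_mem (c.xg_mem_group hr _) (c.xg_mem_group (c.neg_lt hr) _))
    (c.xg_mem_group hr _)) (mul_mem (mul_mem (c.xg_mem_group hr _)
    (c.xg_mem_group (c.neg_lt hr) _)) (c.xg_mem_group hr _))

theorem N_le_group : D.monomialSubgroup F ≤ D.group F := by
  intro g hg
  obtain ⟨a, ha, L, hL, rfl⟩ := c.mem_monomial_iff.1 hg
  refine mul_mem (c.B_le_group (c.H_le_B ha)) (Subgroup.list_prod_mem _ fun k hk => ?_)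
  obtain ⟨p, hp, rfl⟩ := List.mem_map.1 hk
  exact c.np_mem_group (hL p hp)

theorem ng_mem_N {r : ℕ} (hr : r < D.nroots) {t : F} (ht : t ≠ 0) :
    c.ng r t ∈ D.monomialSubgroup F := by
  rw [c.monomial_eq]; exact c.isMono_ng hr t ht

theorem B_sup_N : D.borelSubgroup F ⊔ D.monomialSubgroup F = D.group F := by
  refine le_antisymm (sup_le c.B_le_group c.N_le_group) ?_
  rw [c.group_eq, Subgroup.closure_le]
  rintro g ⟨r, hr, t, rfl⟩
  by_cases hp : c.Pos r
  · exact Subgroup.mem_sup_left (c.xg_mem_B hp t)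
  have hn : c.Pos (D.neg r) := (c.not_pos_iff hr).1 hp
  by_cases ht : t = 0
  · subst ht; rw [c.xg_zero]; exact one_mem _
  have e : c.xg r t = c.xg (D.neg r) t⁻¹ * c.ng (D.neg r) (-t⁻¹) * c.xg (D.neg r) t⁻¹ := by
    rw [Cert.ng, c.neg_neg hr, show (-(-t⁻¹)⁻¹ : F) = t by field_simp]
    simp only [← mul_assoc, ← c.xg_add, add_neg_cancel, c.xg_zero, one_mul]
    simp only [mul_assoc, ← c.xg_add, neg_add_cancel, c.xg_zero, mul_one]
  rw [e]
  exact mul_mem (mul_mem (Subgroup.mem_sup_left (c.xg_mem_B hn _))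
    (Subgroup.mem_sup_right (c.ng_mem_N hn.2 (neg_ne_zero.2 (inv_ne_zero ht)))))
    (Subgroup.mem_sup_left (c.xg_mem_B hn _))

theorem np_inj {p q : ℕ} (hp : p < D.rank) (hq : q < D.rank)
    (h : (c.np F p)⁻¹ * c.np F q ∈ D.borelSubgroup F) : p = q := by
  have hH : (c.np F p)⁻¹ * c.np F q ∈ D.borelSubgroup F ⊓ D.monomialSubgroup F :=
    Subgroup.mem_inf.2 ⟨h, mul_mem (inv_mem (c.np_mem_N hp)) (c.np_mem_N hq)⟩
  rw [c.B_inf_N] at hH
  have e : (1 : GL D.Idx F) * c.nw F [q] =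
      (c.np F p * ((c.np F p)⁻¹ * c.np F q) * (c.np F p)⁻¹) * c.nw F [p] := by
    simp [mul_assoc]
  have h1 := c.wl_eq_of_eq (one_mem _) (c.np_conj_H hp hH) (by simpa using hq) (by simpa using hp) e
    (c.simple_lt hp)
  simp only [Cert.wl_cons, Cert.wl_nil, c.w_simple hp] at h1
  by_contra hne
  have h2 := (c.pos_w hq (c.pos_simple hp) fun e => hne (c.simple_inj hp hq e)).1
  rw [h1] at h2
  exact (c.not_pos_iff (c.simple_lt hp)).2 h2 (c.pos_simple hp)

theorem nw_mem_closure {L : List ℕ} (hL : ∀ p ∈ L, p < D.rank) :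
    c.nw F L ∈ Subgroup.closure {g | ∃ p < D.rank, g = c.np F p} := by
  refine Subgroup.list_prod_mem _ fun k hk => ?_
  obtain ⟨p, hp, rfl⟩ := List.mem_map.1 hk
  exact Subgroup.subset_closure ⟨p, hL p hp, rfl⟩

/-- The Tits system of a Chevalley group. -/
def bnPair (F : Type*) [Field F] : Cfsg.BNPair ↥(D.group F) where
  B := (D.borelSubgroup F).subgroupOf (D.group F)
  N := (D.monomialSubgroup F).subgroupOf (D.group F)
  S := {n : ↥(D.group F) |
    ∃ i < D.rank, ((n : GL D.Idx F) : Matrix D.Idx D.Idx F) = D.nMat F (D.simple i) 1}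
  sup_eq_top := by
    rw [← Subgroup.subgroupOf_sup c.B_le_group c.N_le_group, c.B_sup_N, Subgroup.subgroupOf_self]
  conj_mem := by
    intro n hn t ht
    obtain ⟨htB, htN⟩ := Subgroup.mem_inf.1 ht
    rw [Subgroup.mem_subgroupOf] at hn htB htN ⊢
    have : (t : GL D.Idx F) ∈ D.borelSubgroup F ⊓ D.monomialSubgroup F := ⟨htB, htN⟩
    rw [c.B_inf_N] at this
    exact c.H_le_B (c.N_conj_H hn this)
  subset := by
    rintro n ⟨i, hi, h⟩
    have e : (n : GL D.Idx F) = c.np F i := Units.ext (h.trans (c.ng_val _ _).symm)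
    show (n : GL D.Idx F) ∈ D.monomialSubgroup F
    rw [e]
    exact c.np_mem_N hi
  sq_mem := by
    rintro n ⟨i, hi, h⟩
    have e : (n : GL D.Idx F) = c.np F i := Units.ext (h.trans (c.ng_val _ _).symm)
    rw [Subgroup.mem_subgroupOf, Subgroup.coe_mul, e]
    exact c.H_le_B (c.np_sq_mem hi)
  inj := by
    rintro n ⟨i, hi, h⟩ m ⟨j, hj, h'⟩ hB
    have e : (n : GL D.Idx F) = c.np F i := Units.ext (h.trans (c.ng_val _ _).symm)
    have e' : (m : GL D.Idx F) = c.np F j := Units.ext (h'.trans (c.ng_val _ _).symm)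
    rw [Subgroup.mem_subgroupOf, Subgroup.coe_mul, Subgroup.coe_inv, e, e'] at hB
    obtain rfl := c.np_inj hi hj hB
    exact Subtype.ext (e.trans e'.symm)
  closure_sup := by
    refine le_antisymm (sup_le ((Subgroup.closure_le _).2 ?_) inf_le_right) ?_
    · rintro n ⟨i, hi, h⟩
      have e : (n : GL D.Idx F) = c.np F i := Units.ext (h.trans (c.ng_val _ _).symm)
      rw [SetLike.mem_coe, Subgroup.mem_subgroupOf, e]
      exact c.np_mem_N hi
    · intro g hg
      rw [Subgroup.mem_subgroupOf] at hg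
      obtain ⟨a, ha, L, hL, e⟩ := c.mem_monomial_iff.1 hg
      have hnw : c.nw F L ∈ D.group F := c.N_le_group (c.nw_mem_N hL)
      have haG : a ∈ D.group F := c.B_le_group (c.H_le_B ha)
      obtain rfl : g = ⟨a, haG⟩ * ⟨c.nw F L, hnw⟩ := Subtype.ext e
      refine mul_mem (Subgroup.mem_sup_right ⟨c.H_le_B ha, Subgroup.mem_sup_left ha⟩)
        (Subgroup.mem_sup_left ?_)
      have hmap : c.nw F L ∈ (Subgroup.closure {n : ↥(D.group F) |
          ∃ i < D.rank, ((n : GL D.Idx F) : Matrix D.Idx D.Idx F) =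
            D.nMat F (D.simple i) 1}).map (D.group F).subtype := by
        rw [MonoidHom.map_closure]
        refine Subgroup.closure_mono ?_ (c.nw_mem_closure hL)
        rintro x ⟨p, hp, rfl⟩
        exact ⟨⟨c.np F p, c.np_mem_group hp⟩, ⟨p, hp, c.ng_val _ _⟩, rfl⟩
      obtain ⟨x, hx, hx'⟩ := Subgroup.mem_map.1 hmap
      rwa [show (⟨c.nw F L, hnw⟩ : ↥(D.group F)) = x from Subtype.ext hx'.symm]
  mul_mem_union := by
    rintro n ⟨i, hi, h⟩ m hm b hb
    have e : (n : GL D.Idx F) = c.np F i := Units.ext (h.trans (c.ng_val _ _).symm)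
    rw [Subgroup.mem_subgroupOf] at hm hb
    have key := c.np_mul_mul hi hm hb
    simp only [Set.mem_union, DoubleCoset.mem_doubleCoset] at key ⊢
    rcases key with ⟨x, hx, y, hy, h3⟩ | ⟨x, hx, y, hy, h3⟩
    · refine Or.inl ⟨⟨x, c.B_le_group hx⟩, hx, ⟨y, c.B_le_group hy⟩, hy, Subtype.ext ?_⟩
      simpa [e] using h3
    · refine Or.inr ⟨⟨x, c.B_le_group hx⟩, hx, ⟨y, c.B_le_group hy⟩, hy, Subtype.ext ?_⟩
      simpa [e] using h3
  conj_ne := by
    rintro n ⟨i, hi, h⟩ heq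
    have e : (n : GL D.Idx F) = c.np F i := Units.ext (h.trans (c.ng_val _ _).symm)
    obtain ⟨b, hb, hne⟩ := c.np_conj_B_ne (F := F) hi
    have : n * ⟨b, c.B_le_group hb⟩ * n ∈
        ((D.borelSubgroup F).subgroupOf (D.group F) : Set ↥(D.group F)) :=
      heq ▸ ⟨⟨b, c.B_le_group hb⟩, hb, rfl⟩
    rw [SetLike.mem_coe, Subgroup.mem_subgroupOf, Subgroup.coe_mul, Subgroup.coe_mul, e] at this
    exact hne this

theorem exists_minimal_parabolic {p : ℕ} (hp : p < D.rank) :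
    ∃ P : Subgroup (GL D.Idx F), (P : Set (GL D.Idx F)) =
      (D.borelSubgroup F : Set (GL D.Idx F)) ∪
        DoubleCoset.doubleCoset (c.np F p) (D.borelSubgroup F : Set (GL D.Idx F))
          (D.borelSubgroup F) := by
  set n := c.np F p
  set B := D.borelSubgroup F
  have hsq : n * n ∈ B := c.H_le_B (c.np_sq_mem hp)
  have hinv : n⁻¹ ∈ DoubleCoset.doubleCoset n (B : Set (GL D.Idx F)) B :=
    DoubleCoset.mem_doubleCoset.2 ⟨(n * n)⁻¹, inv_mem hsq, 1, one_mem _, by group⟩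
  have key : ∀ b ∈ B, n * b * n ∈
      (B : Set (GL D.Idx F)) ∪ DoubleCoset.doubleCoset n (B : Set (GL D.Idx F)) B := by
    intro b hb
    rcases c.np_mul_mul hp (c.np_mem_N hp) hb with h | h
    · obtain ⟨x, hx, y, hy, e⟩ := DoubleCoset.mem_doubleCoset.1 h
      left
      rw [SetLike.mem_coe, e]
      exact mul_mem (mul_mem hx hsq) hy
    · exact Or.inr h
  refine ⟨{ carrier := (B : Set (GL D.Idx F)) ∪ DoubleCoset.doubleCoset n (B : Set (GL D.Idx F)) B
            one_mem' := Or.inl (one_mem _)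
            mul_mem' := ?_
            inv_mem' := ?_ }, rfl⟩
  · rintro g k (hg | hg) (hk | hk)
    · exact Or.inl (mul_mem hg hk)
    · obtain ⟨x, hx, y, hy, rfl⟩ := DoubleCoset.mem_doubleCoset.1 hk
      exact Or.inr (DoubleCoset.mem_doubleCoset.2
        ⟨g * x, mul_mem hg hx, y, hy, by simp only [mul_assoc]⟩)
    · obtain ⟨x, hx, y, hy, rfl⟩ := DoubleCoset.mem_doubleCoset.1 hg
      exact Or.inr (DoubleCoset.mem_doubleCoset.2
        ⟨x, hx, y * k, mul_mem hy hk, by simp only [mul_assoc]⟩)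
    · obtain ⟨x, hx, y, hy, rfl⟩ := DoubleCoset.mem_doubleCoset.1 hg
      obtain ⟨x', hx', y', hy', rfl⟩ := DoubleCoset.mem_doubleCoset.1 hk
      rw [show x * n * y * (x' * n * y') = x * (n * (y * x') * n) * y' by group]
      rcases key _ (mul_mem hy hx') with h | h
      · exact Or.inl (mul_mem (mul_mem hx h) hy')
      · obtain ⟨u, hu, v, hv, e⟩ := DoubleCoset.mem_doubleCoset.1 h
        exact Or.inr (DoubleCoset.mem_doubleCoset.2
          ⟨x * u, mul_mem hx hu, v * y', mul_mem hv hy', by rw [e]; group⟩)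
  · rintro g (hg | hg)
    · exact Or.inl (inv_mem hg)
    · obtain ⟨x, hx, y, hy, rfl⟩ := DoubleCoset.mem_doubleCoset.1 hg
      obtain ⟨u, hu, v, hv, e⟩ := DoubleCoset.mem_doubleCoset.1 hinv
      exact Or.inr (DoubleCoset.mem_doubleCoset.2 ⟨y⁻¹ * u, mul_mem (inv_mem hy) hu,
        v * x⁻¹, mul_mem hv (inv_mem hx), by rw [_root_.mul_inv_rev, _root_.mul_inv_rev, e]; group⟩)

/-- An element exchanging the two unipotent subgroups. -/
theorem exists_U_map_V : ∃ n ∈ D.monomialSubgroup F,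
    (D.posUnipotent F).map (MulAut.conj n).toMonoidHom = D.negUnipotent F := by
  obtain ⟨L, hL, hlong⟩ := c.exists_longest
  have hLr : ∀ q ∈ L.reverse, q < D.rank := fun q hq => hL q (List.mem_reverse.1 hq)
  refine ⟨c.nw F L, c.nw_mem_N hL, le_antisymm ?_ ?_⟩
  · rw [ChevalleyDatum.posUnipotent, MonoidHom.map_closure, Subgroup.closure_le]
    rintro x ⟨g, ⟨r, t, hr, hg⟩, rfl⟩
    obtain rfl := c.eq_xg_iff.1 hg
    have hr' := c.posRoot_iff.1 hr
    refine Subgroup.subset_closure ⟨c.wl L r, (c.wsign L r : F) * t, c.isNegRoot_iff.2 ?_, ?_⟩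
    · by_contra h
      exact hlong r hr' ⟨by omega, c.wl_lt hL hr'.2⟩
    · simp only [MulEquiv.toMonoidHom_eq_coe, MonoidHom.coe_coe, MulAut.conj_apply]
      rw [c.nw_mul_xg hL hr'.2, mul_inv_cancel_right]
      rfl
  · rw [ChevalleyDatum.negUnipotent, Subgroup.closure_le]
    rintro x ⟨r, t, hr, hg⟩
    obtain rfl := c.eq_xg_iff.1 hg
    set s := c.wl L.reverse r
    have hs : c.wl L s = r := c.wl_reverse hL hr.1
    have hs' : c.Pos s := by
      by_contra h
      rw [c.not_pos_iff (c.wl_lt hLr hr.1)] at h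
      refine hlong _ h ?_
      rw [c.wl_neg hL (c.wl_lt hLr hr.1), hs, ← c.not_pos_iff hr.1]
      intro hp
      have := hp.1
      have := c.isNegRoot_iff.1 hr
      omega
    refine ⟨c.xg s ((c.wsign L s : F) * t), c.xg_mem_U hs' _, ?_⟩
    simp only [MulEquiv.toMonoidHom_eq_coe, MonoidHom.coe_coe, MulAut.conj_apply]
    rw [c.nw_mul_xg hL hs'.2, hs, ← mul_assoc, c.wsign_sq, one_mul, mul_inv_cancel_right]

theorem core_eq_bot : ((D.borelSubgroup F).subgroupOf (D.group F)).normalCore = ⊥ := by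
  set C := ((D.borelSubgroup F).subgroupOf (D.group F)).normalCore
  obtain ⟨n, hn, hmap⟩ := c.exists_U_map_V (F := F)
  have hCB : ∀ x ∈ C, (x : GL D.Idx F) ∈ D.borelSubgroup F := fun x hx =>
    Subgroup.normalCore_le ((D.borelSubgroup F).subgroupOf (D.group F)) hx
  -- the core lies in the torus
  have hCH : ∀ x ∈ C, (x : GL D.Idx F) ∈ D.diagonalSubgroup F := by
    intro x hx
    set nn : ↥(D.group F) := ⟨n, c.N_le_group hn⟩
    have h1 := hCB _ ((Subgroup.normalCore_normal _).conj_mem x hx nn⁻¹)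
    simp only [Subgroup.coe_mul, Subgroup.coe_inv, inv_inv, nn] at h1
    obtain ⟨u, hu, a, ha, e⟩ := c.mem_borel_iff.1 h1
    have h2 : (x : GL D.Idx F) = (n * u * n⁻¹) * (n * a * n⁻¹) := by
      rw [show n * u * n⁻¹ * (n * a * n⁻¹) = n * (u * a) * n⁻¹ by group, ← e]
      group
    have hV : (x : GL D.Idx F) ∈ D.negUnipotent F ⊔ D.diagonalSubgroup F := by
      rw [h2]
      refine mul_mem (Subgroup.mem_sup_left ?_) (Subgroup.mem_sup_right (c.N_conj_H hn ha))
      rw [← hmap]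
      exact ⟨u, hu, rfl⟩
    exact c.borel_inf_negUnipotent.2.le ⟨hCB x hx, hV⟩
  rw [eq_bot_iff]
  intro x hx
  rw [Subgroup.mem_bot]
  have hxH := hCH x hx
  rw [c.diagonalSubgroup_eq] at hxH
  obtain ⟨z, hz⟩ := hxH
  have hroot : ∀ r, c.Pos r → c.tchar z r = 1 := by
    intro r hr
    set y : ↥(D.group F) := ⟨c.xg r 1, c.xg_mem_group hr.2 1⟩
    have h1 := hCH _ (mul_mem hx ((Subgroup.normalCore_normal _).conj_mem _ (inv_mem hx) y))
    simp only [Subgroup.coe_mul, Subgroup.coe_inv, y, ← hz] at h1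
    have e : c.torus z * (c.xg r 1 * (c.torus z)⁻¹ * (c.xg r 1)⁻¹) =
        c.xg r ((c.tchar z r : F) - 1) := by
      rw [← mul_assoc, ← mul_assoc, c.torus_conj_xg z hr.2, c.xg_inv, ← c.xg_add, mul_one,
        sub_eq_add_neg]
    rw [e] at h1
    have h2 := c.U_inf_H.le ⟨c.xg_mem_U hr _, h1⟩
    rw [Subgroup.mem_bot, c.xg_eq_one_iff hr.2, sub_eq_zero] at h2
    exact Units.ext h2
  refine Subtype.ext ?_
  rw [← hz, Cert.torus_apply, Subgroup.coe_one, ← map_one (dg D F)]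
  refine dg_ext D F fun s hs => ?_
  by_cases hp : c.Pos s
  · exact hroot s hp
  · have h := hroot _ ((c.not_pos_iff hs).1 hp)
    rw [c.tchar_neg z hs, inv_eq_one] at h
    exact h

end CertFull

end Cfsg.Agent.Lie.Chev
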