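import Cfsg.Agent.Lib.Lie.Chev.BN
import Cfsg.Agent.Lib.Lie.BNPair

/-! Closed sets of positive roots and the Bruhat normal form of a Chevalley group. -/

set_option autoImplicit false

namespace Cfsg.Agent.Lie.Chev

open Cfsg.Lie Matrix

namespace CertFull

variable {D : ChevalleyDatum} (c : CertFull D) {F : Type*} [Field F]

/-- A set of positive roots closed under the terms of the commutator formula. -/
def IsClosed (S : Set ℕ) : Prop :=
  (∀ r ∈ S, c.Pos r) ∧ ∀ r ∈ S, ∀ s ∈ S, ∀ x ∈ c.T.commTerms r s, x.1 ∈ S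

/-- The subgroup of a set of roots, from index `m` on. -/
def KS (F : Type*) [Field F] (S : Set ℕ) (m : ℕ) : Subgroup (GL D.Idx F) :=
  Subgroup.closure {g | ∃ r t, r ∈ S ∧ m ≤ r ∧ g = c.xg r (t : F)}

/-- Positive roots made negative by a word. -/
def invSet (L : List ℕ) : Set ℕ := {r | c.Pos r ∧ ¬ c.Pos (c.wl L r)}

/-- Positive roots kept positive by a word. -/
def keepSet (L : List ℕ) : Set ℕ := {r | c.Pos r ∧ c.Pos (c.wl L r)}

include c

theorem xg_mem_KS {S : Set ℕ} {r m : ℕ} (hr : r ∈ S) (hm : m ≤ r) (t : F) :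
    c.xg r t ∈ c.KS F S m := Subgroup.subset_closure ⟨r, t, hr, hm, rfl⟩

theorem KS_le_U {S : Set ℕ} (hS : c.IsClosed S) (m : ℕ) : c.KS F S m ≤ D.posUnipotent F := by
  refine (Subgroup.closure_le _).2 ?_
  rintro g ⟨r, t, hr, -, rfl⟩
  exact c.xg_mem_U (hS.1 r hr) t

theorem xg_conj_KS {S : Set ℕ} (hS : c.IsClosed S) {r m : ℕ} (hr : r ∈ S) (hm : m ≤ r + 1)
    (t : F) {g : GL D.Idx F} (hg : g ∈ c.KS F S m) :
    c.xg r t * g * (c.xg r t)⁻¹ ∈ c.KS F S m := by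
  refine conj_closure_mem ?_ hg
  rintro g ⟨s, u, hs, hms, rfl⟩
  have hr' := hS.1 r hr
  have hs' := hS.1 s hs
  by_cases hne : s = r
  · subst hne
    rw [← c.xg_add, c.xg_inv, ← c.xg_add]
    exact c.xg_mem_KS hs hms _
  have hneg : s ≠ D.neg r := fun e => ((c.not_pos_iff hr'.2).2 (e ▸ hs')) hr'
  rw [c.xg_inv, mul_assoc, c.xg_comm hr'.2 hs'.2 hne hneg, ← mul_assoc, ← mul_assoc, ← c.xg_add,
    add_neg_cancel, c.xg_zero, one_mul]
  refine mul_mem (c.xg_mem_KS hs hms u) (Subgroup.list_prod_mem _ fun k hk => ?_)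
  obtain ⟨x, hx, rfl⟩ := List.mem_map.1 hk
  obtain ⟨-, h2, -⟩ := c.commTerms_gt hr' hs' hx
  exact c.xg_mem_KS (hS.2 r hr s hs x hx) (by omega) _

theorem exists_oprod_KS {S : Set ℕ} (hS : c.IsClosed S) : ∀ (d m : ℕ), D.nroots - m = d →
    c.T.h ≤ m → ∀ g ∈ c.KS F S m,
      ∃ t : ℕ → F, (∀ r, r ∉ S → t r = 0) ∧ g = c.oprod m t := by
  intro d
  induction d with
  | zero =>
    intro m hd _ g hg
    refine ⟨0, fun _ _ => rfl, ?_⟩
    have h : c.KS F S m = ⊥ := by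
      rw [eq_bot_iff, KS, Subgroup.closure_le]
      rintro k ⟨r, t, hr, hm', rfl⟩
      have := (hS.1 r hr).2
      omega
    rw [h, Subgroup.mem_bot] at hg
    rw [hg, c.oprod_of_ge (by omega)]
  | succ d ih =>
    intro m hd hm g hg
    have hm' : m < D.nroots := by omega
    suffices ∃ (a : F) (k : GL D.Idx F),
        (m ∉ S → a = 0) ∧ k ∈ c.KS F S (m + 1) ∧ g = c.xg m a * k by
      obtain ⟨a, k, ha, hk, rfl⟩ := this
      obtain ⟨t, ht, rfl⟩ := ih (m + 1) (by omega) (by omega) k hk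
      refine ⟨Function.update t m a, fun r hr => ?_, ?_⟩
      · by_cases e : r = m
        · subst e; rw [Function.update_self]; exact ha hr
        · rw [Function.update_of_ne e]; exact ht r hr
      · rw [c.oprod_succ hm', Function.update_self,
          c.oprod_congr (t := Function.update t m a) (t' := t) fun r hr _ =>
            Function.update_of_ne (show r ≠ m by omega) _ _]
    induction hg using Subgroup.closure_induction with
    | mem g hg =>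
      obtain ⟨r, u, hr, hmr, rfl⟩ := hg
      rcases hmr.lt_or_eq with h | h
      · exact ⟨0, _, fun _ => rfl, c.xg_mem_KS hr h u, by rw [c.xg_zero, one_mul]⟩
      · exact ⟨u, 1, fun hn => absurd (h ▸ hr) hn, one_mem _, by rw [mul_one, h]⟩
    | one => exact ⟨0, 1, fun _ => rfl, one_mem _, by rw [c.xg_zero, mul_one]⟩
    | mul a b _ _ ha hb =>
      obtain ⟨x, k, hx, hk, rfl⟩ := ha
      obtain ⟨y, k', hy, hk', rfl⟩ := hb
      refine ⟨x + y, (c.xg m y)⁻¹ * k * c.xg m y * k', fun hn => by rw [hx hn, hy hn, add_zero],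
        mul_mem ?_ hk', by rw [c.xg_add]; group⟩
      by_cases hn : m ∈ S
      · have := c.xg_conj_KS hS hn (le_refl (m + 1)) (-y) hk
        rwa [← c.xg_inv, inv_inv] at this
      · rw [hy hn, c.xg_zero]
        simpa using hk
    | inv a _ ha =>
      obtain ⟨x, k, hx, hk, rfl⟩ := ha
      refine ⟨-x, c.xg m x * k⁻¹ * (c.xg m x)⁻¹, fun hn => by rw [hx hn, neg_zero], ?_,
        by rw [← c.xg_inv]; group⟩
      by_cases hn : m ∈ S
      · exact c.xg_conj_KS hS hn (le_refl (m + 1)) x (inv_mem hk)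
      · rw [hx hn, c.xg_zero]
        simpa using inv_mem hk

/-- Closed sets with product decomposition. -/
theorem exists_mul_KS {S S' : Set ℕ} (hS : c.IsClosed S) (hS' : c.IsClosed S')
    (hun : ∀ r, c.Pos r → r ∈ S ∨ r ∈ S') : ∀ (d m : ℕ), D.nroots - m = d → c.T.h ≤ m →
      ∀ g ∈ c.K F m, ∃ v ∈ c.KS F S m, ∃ w ∈ c.KS F S' m, g = v * w := by
  intro d
  induction d with
  | zero =>
    intro m hd _ g hg
    rw [c.K_eq_bot (by omega), Subgroup.mem_bot] at hg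
    exact ⟨1, one_mem _, 1, one_mem _, by simp [hg]⟩
  | succ d ih =>
    intro m hd hm g hg
    have hm' : m < D.nroots := by omega
    obtain ⟨t, rfl⟩ := c.exists_oprod _ m rfl hm g hg
    rw [c.oprod_succ hm']
    have hmono : ∀ T : Set ℕ, c.KS F T (m + 1) ≤ c.KS F T m := fun T =>
      Subgroup.closure_mono fun _ ⟨r, u, hr, hle, e⟩ => ⟨r, u, hr, by omega, e⟩
    obtain ⟨v, hv, w, hw, e⟩ := ih (m + 1) (by omega) (by omega) _ (c.oprod_mem (by omega) t)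
    rw [e]
    rcases hun m ⟨hm, hm'⟩ with hS1 | hS2
    · exact ⟨c.xg m (t m) * v, mul_mem (c.xg_mem_KS hS1 le_rfl _) (hmono _ hv), w, hmono _ hw,
        by rw [mul_assoc]⟩
    · have hvK : v ∈ c.K F (m + 1) := by
        refine Subgroup.closure_mono ?_ hv
        rintro _ ⟨r, u, hr, hle, rfl⟩
        exact ⟨r, u, hS.1 r hr, hle, rfl⟩
      obtain ⟨v', hv', w', hw', e'⟩ := ih (m + 1) (by omega) (by omega) _
        (c.xg_conj_mem_K ⟨hm, hm'⟩ (t m) hvK)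
      refine ⟨v', hmono _ hv', w' * (c.xg m (t m) * w),
        mul_mem (hmono _ hw') (mul_mem (c.xg_mem_KS hS2 le_rfl _) (hmono _ hw)), ?_⟩
      rw [← mul_assoc v', ← e']
      group

theorem card_KS [Fintype F] {S : Set ℕ} (hS : c.IsClosed S) :
    Nat.card (c.KS F S c.T.h) = Fintype.card F ^ Nat.card S := by
  classical
  have hfin : Finite S := Finite.of_injective (fun r : S => (⟨r.1, (hS.1 r r.2).2⟩ : Fin D.nroots))
    fun a b h => Subtype.ext (congrArg Fin.val h)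
  let f : (S → F) → c.KS F S c.T.h := fun v =>
    ⟨c.oprod c.T.h (fun r => if h : r ∈ S then v ⟨r, h⟩ else 0), by
      refine Subgroup.list_prod_mem _ fun g hg => ?_
      obtain ⟨r, hr, rfl⟩ := List.mem_map.1 hg
      rw [List.mem_range'_1] at hr
      by_cases h : r ∈ S
      · exact c.xg_mem_KS h hr.1 _
      · simp [h, c.xg_zero, one_mem]⟩
  have hf : Function.Bijective f := by
    refine ⟨fun v w e => funext fun r => ?_, fun g => ?_⟩
    · have hr := hS.1 r.1 r.2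
      have := c.oprod_inj _ c.T.h rfl le_rfl _ _ (congrArg Subtype.val e) r.1 hr.1 hr.2
      simpa [r.2] using this
    · obtain ⟨t, ht, e⟩ := c.exists_oprod_KS hS _ c.T.h rfl le_rfl _ g.2
      refine ⟨fun r => t r.1, Subtype.ext ?_⟩
      rw [e]
      refine c.oprod_congr fun r _ _ => ?_
      by_cases h : r ∈ S
      · simp [h]
      · simp [h, ht r h]
  rw [← Nat.card_congr (Equiv.ofBijective f hf), Nat.card_fun, Nat.card_eq_fintype_card]

theorem KS_inf_eq_bot {S S' : Set ℕ} (hS : c.IsClosed S) (hS' : c.IsClosed S')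
    (hd : ∀ r, r ∈ S → r ∉ S') : c.KS F S c.T.h ⊓ c.KS F S' c.T.h = ⊥ := by
  rw [eq_bot_iff]
  intro g hg
  obtain ⟨h1, h2⟩ := Subgroup.mem_inf.1 hg
  obtain ⟨t, ht, e⟩ := c.exists_oprod_KS hS _ c.T.h rfl le_rfl g h1
  obtain ⟨t', ht', e'⟩ := c.exists_oprod_KS hS' _ c.T.h rfl le_rfl g h2
  rw [Subgroup.mem_bot, e]
  refine List.prod_eq_one fun x hx => ?_
  obtain ⟨r, hr, rfl⟩ := List.mem_map.1 hx
  rw [List.mem_range'_1] at hr
  by_cases h : r ∈ S
  · rw [c.oprod_inj _ c.T.h rfl le_rfl t t' (e.symm.trans e') r hr.1 (by omega), ht' r (hd r h),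
      c.xg_zero]
  · rw [ht r h, c.xg_zero]

/-! ### Inversion sets -/

theorem wl_commTerms_vec {L : List ℕ} (hL : ∀ p ∈ L, p < D.rank) {r s j : ℕ} (hr : r < D.nroots)
    (hs : s < D.nroots) (hj : j < D.rank) {x : ℕ × ℤ × ℕ × ℕ} (hx : x ∈ c.T.commTerms r s) :
    c.T.vec (c.wl L x.1) j =
      (x.2.2.1 : ℕ) * c.T.vec (c.wl L r) j + (x.2.2.2 : ℕ) * c.T.vec (c.wl L s) j := by
  rw [c.wl_vec hL (c.mem_commTerms hr hs hx).1 hj, c.wl_vec hL hr hj, c.wl_vec hL hs hj,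
    Finset.mul_sum, Finset.mul_sum, ← Finset.sum_add_distrib]
  refine Finset.sum_congr rfl fun i hi => ?_
  rw [c.commTerms_vec hr hs (Finset.mem_range.1 hi) hx]
  ring

theorem exists_vec_pos {s : ℕ} (hs : c.Pos s) : ∃ j < D.rank, 0 < c.T.vec s j := by
  have h0 : 0 < D.rank := c.one_le_rank
  by_cases he : s = D.simple 0
  · exact ⟨0, h0, by rw [he, c.vec_simple h0 h0, if_pos rfl]; exact one_pos⟩
  · obtain ⟨k, hk, -, hv⟩ := (c.vec_nonneg hs.2 hs.1).2 0 h0 he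
    exact ⟨k, hk, hv⟩

theorem vec_nonpos {s : ℕ} (hs : s < D.nroots) (h : ¬ c.Pos s) {j : ℕ} (hj : j < D.rank) :
    c.T.vec s j ≤ 0 := by
  by_contra h'
  exact h (c.pos_of_vec_pos hs hj (by omega))

theorem invSet_closed {L : List ℕ} (hL : ∀ p ∈ L, p < D.rank) : c.IsClosed (c.invSet L) := by
  refine ⟨fun r hr => hr.1, fun r hr s hs x hx => ?_⟩
  have hm := c.mem_commTerms hr.1.2 hs.1.2 hx
  refine ⟨(c.commTerms_gt hr.1 hs.1 hx).1, fun hp => ?_⟩
  obtain ⟨j, hj, hv⟩ := c.exists_vec_pos hp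
  rw [c.wl_commTerms_vec hL hr.1.2 hs.1.2 hj hx] at hv
  have a := c.vec_nonpos (c.wl_lt hL hr.1.2) hr.2 hj
  have b := c.vec_nonpos (c.wl_lt hL hs.1.2) hs.2 hj
  have : (0 : ℤ) ≤ (x.2.2.1 : ℕ) := Int.natCast_nonneg _
  have : (0 : ℤ) ≤ (x.2.2.2 : ℕ) := Int.natCast_nonneg _
  nlinarith

theorem keepSet_closed {L : List ℕ} (hL : ∀ p ∈ L, p < D.rank) : c.IsClosed (c.keepSet L) := by
  refine ⟨fun r hr => hr.1, fun r hr s hs x hx => ?_⟩
  have hm := c.mem_commTerms hr.1.2 hs.1.2 hx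
  refine ⟨(c.commTerms_gt hr.1 hs.1 hx).1, ?_⟩
  obtain ⟨j, hj, hv⟩ := c.exists_vec_pos hr.2
  refine c.pos_of_vec_pos (c.wl_lt hL hm.1) hj ?_
  rw [c.wl_commTerms_vec hL hr.1.2 hs.1.2 hj hx]
  have h2 := (c.vec_nonneg hs.2.2 hs.2.1).1 j hj
  have : (1 : ℤ) ≤ (x.2.2.1 : ℕ) := by exact_mod_cast hm.2.1
  have : (0 : ℤ) ≤ (x.2.2.2 : ℕ) := Int.natCast_nonneg _
  nlinarith

theorem xg_mem_V {r : ℕ} (hr : r < D.nroots) (h : ¬ c.Pos r) (t : F) :
    c.xg r t ∈ D.negUnipotent F := by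
  refine Subgroup.subset_closure ⟨r, t, c.isNegRoot_iff.2 ?_, rfl⟩
  by_contra hh
  exact h ⟨by omega, hr⟩

theorem conj_rootSubgroup_le_V_iff {a : GL D.Idx F} (ha : a ∈ D.diagonalSubgroup F) {L : List ℕ}
    (hL : ∀ p ∈ L, p < D.rank) {r : ℕ} (hr : r < D.nroots) :
    (D.rootSubgroup F r).map (MulAut.conj (a * c.nw F L)).toMonoidHom ≤ D.negUnipotent F ↔
      ¬ c.Pos (c.wl L r) := by
  obtain ⟨k, hk, hconj⟩ := c.mono_mul_xg ha hL hr
  have e : ∀ t : F, a * c.nw F L * c.xg r t * (a * c.nw F L)⁻¹ = c.xg (c.wl L r) (k * t) :=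
    fun t => by rw [hconj, mul_inv_cancel_right]
  constructor
  · intro h hp
    have h1 : c.xg (c.wl L r) (1 : F) ∈ D.negUnipotent F := by
      refine h ⟨c.xg r k⁻¹, c.mem_rootSubgroup_iff.2 ⟨_, rfl⟩, ?_⟩
      simp only [MulEquiv.toMonoidHom_eq_coe, MonoidHom.coe_coe, MulAut.conj_apply, e,
        mul_inv_cancel₀ hk]
    have h2 := c.borel_inf_negUnipotent.1.le ⟨c.xg_mem_B hp 1, h1⟩
    rw [Subgroup.mem_bot, c.xg_eq_one_iff hp.2] at h2
    exact one_ne_zero h2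
  · intro h x hx
    obtain ⟨g, hg, rfl⟩ := hx
    obtain ⟨t, rfl⟩ := c.mem_rootSubgroup_iff.1 hg
    simp only [MulEquiv.toMonoidHom_eq_coe, MonoidHom.coe_coe, MulAut.conj_apply, e]
    exact c.xg_mem_V (c.wl_lt hL hr) h _

theorem Uminus_eq {a : GL D.Idx F} (ha : a ∈ D.diagonalSubgroup F) {L : List ℕ}
    (hL : ∀ p ∈ L, p < D.rank) :
    Subgroup.closure {x : GL D.Idx F | ∃ (r : ℕ) (t : F), D.IsPosRoot r ∧
      (D.rootSubgroup F r).map (MulAut.conj (a * c.nw F L)).toMonoidHom ≤ D.negUnipotent F ∧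
      (x : Matrix D.Idx D.Idx F) = D.x F r t} = c.KS F (c.invSet L) c.T.h := by
  rw [KS]
  congr 1
  ext g
  constructor
  · rintro ⟨r, t, hr, hV, hg⟩
    have hr' := c.posRoot_iff.1 hr
    exact ⟨r, t, ⟨hr', (c.conj_rootSubgroup_le_V_iff ha hL hr'.2).1 hV⟩, hr'.1, c.eq_xg_iff.1 hg⟩
  · rintro ⟨r, t, hr, -, rfl⟩
    exact ⟨r, t, c.posRoot_iff.2 hr.1, (c.conj_rootSubgroup_le_V_iff ha hL hr.1.2).2 hr.2, rfl⟩

theorem conj_keep_mem_U {a : GL D.Idx F} (ha : a ∈ D.diagonalSubgroup F) {L : List ℕ}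
    (hL : ∀ p ∈ L, p < D.rank) {v : GL D.Idx F} (hv : v ∈ c.KS F (c.keepSet L) c.T.h) :
    a * c.nw F L * v * (a * c.nw F L)⁻¹ ∈ D.posUnipotent F := by
  induction hv using Subgroup.closure_induction with
  | mem v hv =>
    obtain ⟨r, t, hr, -, rfl⟩ := hv
    obtain ⟨k, -, hk⟩ := c.mono_mul_xg ha hL hr.1.2
    rw [hk, mul_inv_cancel_right]
    exact c.xg_mem_U hr.2 _
  | one => simp [one_mem]
  | mul x y _ _ hx hy =>
    have := mul_mem hx hy
    simpa [mul_assoc] using this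
  | inv x _ hx =>
    have := inv_mem hx
    simpa [mul_assoc] using this

theorem conj_inv_mem_V {a : GL D.Idx F} (ha : a ∈ D.diagonalSubgroup F) {L : List ℕ}
    (hL : ∀ p ∈ L, p < D.rank) {v : GL D.Idx F} (hv : v ∈ c.KS F (c.invSet L) c.T.h) :
    a * c.nw F L * v * (a * c.nw F L)⁻¹ ∈ D.negUnipotent F := by
  induction hv using Subgroup.closure_induction with
  | mem v hv =>
    obtain ⟨r, t, hr, -, rfl⟩ := hv
    obtain ⟨k, -, hk⟩ := c.mono_mul_xg ha hL hr.1.2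
    rw [hk, mul_inv_cancel_right]
    exact c.xg_mem_V (c.wl_lt hL hr.1.2) hr.2 _
  | one => simp [one_mem]
  | mul x y _ _ hx hy =>
    have := mul_mem hx hy
    simpa [mul_assoc] using this
  | inv x _ hx =>
    have := inv_mem hx
    simpa [mul_assoc] using this

/-- Existence of the Bruhat normal form. -/
theorem bruhat_exists {g : GL D.Idx F} (hg : g ∈ D.group F) :
    ∃ b ∈ D.borelSubgroup F, ∃ a ∈ D.diagonalSubgroup F, ∃ L : List ℕ, (∀ p ∈ L, p < D.rank) ∧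
      ∃ u ∈ c.KS F (c.invSet L) c.T.h, g = b * (a * c.nw F L) * u := by
  obtain ⟨w, n, -, b₁, hb₁, b₂, hb₂, e⟩ := Lie.exists_cell (c.bnPair F) (⟨g, hg⟩ : ↥(D.group F))
  have hnN : ((n : ↥(D.group F)) : GL D.Idx F) ∈ D.monomialSubgroup F := n.2
  have hb₁' : (b₁ : GL D.Idx F) ∈ D.borelSubgroup F := hb₁
  have hb₂' : (b₂ : GL D.Idx F) ∈ D.borelSubgroup F := hb₂
  obtain ⟨a, ha, L, hL, hn⟩ := c.mem_monomial_iff.1 hnN
  obtain ⟨u, hu, d, hd, e2⟩ := c.mem_borel_iff.1 hb₂'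
  -- move the torus part of the right factor to the left
  have hu' : d⁻¹ * u * d ∈ D.posUnipotent F := by
    have := (Subgroup.mem_normalizer_iff.1 (c.H_le_normalizer_U (inv_mem hd)) u).1 hu
    rwa [inv_inv] at this
  rw [c.posUnipotent_eq] at hu'
  obtain ⟨v, hv, x, hx, e3⟩ := c.exists_mul_KS (c.keepSet_closed hL) (c.invSet_closed hL)
    (fun r hr => by by_cases h : c.Pos (c.wl L r); exacts [Or.inl ⟨hr, h⟩, Or.inr ⟨hr, h⟩])
    _ c.T.h rfl le_rfl _ hu'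
  set n' := a * c.nw F L with hn'
  have hnN' : n' ∈ D.monomialSubgroup F := hn ▸ hnN
  have hconj : n' * d * n'⁻¹ ∈ D.borelSubgroup F := c.H_le_B (c.N_conj_H hnN' hd)
  refine ⟨(b₁ : GL D.Idx F) * (n' * d * n'⁻¹) * (n' * v * n'⁻¹),
    mul_mem (mul_mem hb₁' hconj) (Subgroup.mem_sup_left (c.conj_keep_mem_U ha hL hv)),
    a, ha, L, hL, x, hx, ?_⟩
  have eg : g = (b₁ : GL D.Idx F) * n' * (b₂ : GL D.Idx F) := by
    have := congrArg Subtype.val e
    simpa [hn] using this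
  rw [eg, e2, show u * d = d * (d⁻¹ * u * d) by group, e3, ← hn']
  group

/-- Uniqueness in the Bruhat normal form. -/
theorem bruhat_unique {b b' n n' : GL D.Idx F} (hb : b ∈ D.borelSubgroup F)
    (hb' : b' ∈ D.borelSubgroup F) (hn : n ∈ D.monomialSubgroup F) (hn' : n' ∈ D.monomialSubgroup F)
    {u u' : GL D.Idx F} (hu : u ∈ D.posUnipotent F) (hu' : u' ∈ D.posUnipotent F)
    (e : b * n * u = b' * n' * u') : n⁻¹ * n' ∈ D.diagonalSubgroup F := by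
  have huB : u ∈ D.borelSubgroup F := Subgroup.mem_sup_left hu
  have huB' : u' ∈ D.borelSubgroup F := Subgroup.mem_sup_left hu'
  let N₁ : (c.bnPair F).N := ⟨⟨n, c.N_le_group hn⟩, hn⟩
  let N₂ : (c.bnPair F).N := ⟨⟨n', c.N_le_group hn'⟩, hn'⟩
  have h1 : (⟨b, c.B_le_group hb⟩ * ⟨n, c.N_le_group hn⟩ * ⟨u, c.B_le_group huB⟩ : ↥(D.group F)) ∈
      Lie.cell (c.bnPair F) (Lie.proj (c.bnPair F) N₁) :=
    ⟨N₁, rfl, _, hb, _, huB, rfl⟩
  have h2 : (⟨b, c.B_le_group hb⟩ * ⟨n, c.N_le_group hn⟩ * ⟨u, c.B_le_group huB⟩ : ↥(D.group F)) ∈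
      Lie.cell (c.bnPair F) (Lie.proj (c.bnPair F) N₂) :=
    ⟨N₂, rfl, ⟨b', c.B_le_group hb'⟩, hb', ⟨u', c.B_le_group huB'⟩, huB', Subtype.ext e⟩
  have h3 := (Lie.proj_eq (c.bnPair F)).1 (Lie.cell_unique (c.bnPair F) h1 h2)
  have h4 : n⁻¹ * n' ∈ D.borelSubgroup F ⊓ D.monomialSubgroup F :=
    Subgroup.mem_inf.2 ⟨h3, mul_mem (inv_mem hn) hn'⟩
  rwa [c.B_inf_N] at h4

theorem bruhat_unique_factors {a : GL D.Idx F} (ha : a ∈ D.diagonalSubgroup F) {L : List ℕ}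
    (hL : ∀ p ∈ L, p < D.rank) {b b' u u' : GL D.Idx F} (hb : b ∈ D.borelSubgroup F)
    (hb' : b' ∈ D.borelSubgroup F) (hu : u ∈ c.KS F (c.invSet L) c.T.h)
    (hu' : u' ∈ c.KS F (c.invSet L) c.T.h)
    (e : b * (a * c.nw F L) * u = b' * (a * c.nw F L) * u') : b = b' ∧ u = u' := by
  have h1 := c.conj_inv_mem_V ha hL (mul_mem hu' (inv_mem hu))
  set n := a * c.nw F L
  have h2 : b'⁻¹ * b = n * (u' * u⁻¹) * n⁻¹ :=
    calc b'⁻¹ * b = b'⁻¹ * (b * n * u) * u⁻¹ * n⁻¹ := by group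
      _ = _ := by rw [e]; group
  rw [← h2] at h1
  have h3 := c.borel_inf_negUnipotent.1.le (Subgroup.mem_inf.2 ⟨mul_mem (inv_mem hb') hb, h1⟩)
  rw [Subgroup.mem_bot, inv_mul_eq_one] at h3
  subst h3
  exact ⟨rfl, mul_left_cancel e⟩

theorem KS_invSet_le_U {L : List ℕ} (hL : ∀ p ∈ L, p < D.rank) :
    c.KS F (c.invSet L) c.T.h ≤ D.posUnipotent F := c.KS_le_U (c.invSet_closed hL) _

/-- Elements of the torus centralised up to the Bruhat form are conjugate in `N`. -/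
theorem fusion_H {h₁ h₂ g : GL D.Idx F} (h1 : h₁ ∈ D.diagonalSubgroup F)
    (h2 : h₂ ∈ D.diagonalSubgroup F) (hg : g ∈ D.group F) (hc : g * h₁ * g⁻¹ = h₂) :
    ∃ n ∈ D.monomialSubgroup F, n * h₁ * n⁻¹ = h₂ := by
  obtain ⟨b, hb, a, ha, L, hL, u, hu, rfl⟩ := c.bruhat_exists hg
  set n := a * c.nw F L
  have hn : n ∈ D.monomialSubgroup F := mul_mem (Subgroup.mem_sup_left ha) (c.nw_mem_N hL)
  obtain ⟨v, hv, d, hd, rfl⟩ := c.mem_borel_iff.1 hb
  refine ⟨n, hn, ?_⟩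
  -- h₂ (v d) n u = (v d) n u h₁
  have e : h₂ * (v * d) * n * u = v * d * n * u * h₁ := by rw [← hc]; group
  set m := d * n * h₁ * n⁻¹ * d⁻¹
  have hm : m ∈ D.diagonalSubgroup F := by
    have := c.N_conj_H (mul_mem (Subgroup.mem_sup_left hd) hn) h1
    simpa [m, mul_assoc] using this
  have hv' : h₂ * v * h₂⁻¹ ∈ D.posUnipotent F :=
    (Subgroup.mem_normalizer_iff.1 (c.H_le_normalizer_U h2) v).1 hv
  have hu' : h₁⁻¹ * u * h₁ ∈ c.KS F (c.invSet L) c.T.h := by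
    have h := c.torus_le_normalizer (S := {g | ∃ r t, r ∈ c.invSet L ∧ c.T.h ≤ r ∧
      g = c.xg r (t : F)}) (fun g ⟨r, t, hr, hle, e⟩ =>
        ⟨r, hr.1.2, t, e, fun s => c.xg_mem_KS hr hle s⟩) (inv_mem h1)
    have := (Subgroup.mem_normalizer_iff.1 h u).1 hu
    rwa [inv_inv] at this
  -- two normal forms of the same element
  have e' : (h₂ * v * h₂⁻¹ * (h₂ * d)) * n * u = (v * (m * d)) * n * (h₁⁻¹ * u * h₁) :=
    calc (h₂ * v * h₂⁻¹ * (h₂ * d)) * n * u = h₂ * (v * d) * n * u := by group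
      _ = v * d * n * u * h₁ := e
      _ = _ := by simp only [m]; group
  obtain ⟨h3, -⟩ := c.bruhat_unique_factors ha hL
    (mul_mem (Subgroup.mem_sup_left hv') (c.H_le_B (mul_mem h2 hd)))
    (mul_mem (Subgroup.mem_sup_left hv) (c.H_le_B (mul_mem hm hd))) hu hu' e'
  have h4 : v⁻¹ * (h₂ * v * h₂⁻¹) = (m * d) * (h₂ * d)⁻¹ :=
    calc v⁻¹ * (h₂ * v * h₂⁻¹) = v⁻¹ * (h₂ * v * h₂⁻¹ * (h₂ * d)) * (h₂ * d)⁻¹ := by group
      _ = _ := by rw [h3]; group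
  have h5 := c.U_inf_H.le (Subgroup.mem_inf.2 ⟨mul_mem (inv_mem hv) hv',
    (h4 ▸ mul_mem (mul_mem hm hd) (inv_mem (mul_mem h2 hd)))⟩)
  rw [Subgroup.mem_bot, h4, mul_inv_eq_one, mul_left_inj] at h5
  -- m = h₂, and the torus is commutative
  have hcomm := c.H_commutative hd (c.N_conj_H hn h1)
  calc n * h₁ * n⁻¹ = (n * h₁ * n⁻¹) * d * d⁻¹ := by group
    _ = d * (n * h₁ * n⁻¹) * d⁻¹ := by rw [hcomm]
    _ = m := by simp only [m]; group
    _ = h₂ := h5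

end CertFull

end Cfsg.Agent.Lie.Chev
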