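import Cfsg.Agent.Lib.Lie.Chev.Torus

/-! Matrix forms of the relations between root elements, torus elements and `n_p`. -/

set_option autoImplicit false

namespace Cfsg.Agent.Lie.Chev

open Cfsg.Lie Matrix

namespace CertFull

variable {D : ChevalleyDatum} (c : CertFull D) {F : Type*} [Field F]
include c

theorem hg_mul_xg {r s : ℕ} (hr : r < D.nroots) (hs : s < D.nroots) (t : Fˣ) (u : F) :
    c.hg r (t : F) * c.xg s u =
      c.xg s (((t ^ c.T.pairing r s : Fˣ) : F) * u) * c.hg r (t : F) := by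
  have h1 := c.hg_eq_torus hr t
  rw [Cert.torus_apply] at h1
  have h2 := h1.symm.trans (c.hg_eq hr t)
  rw [h1, c.dg_mul_xg (c.tchar_isRootCharacter _) hs, (dg_eq_iff D F).1 h2 s hs]
  rfl

theorem ng_mul_hg {p r : ℕ} (hp : p < D.rank) (hr : r < D.nroots) (t : Fˣ) :
    c.ng (D.simple p) 1 * c.hg r (t : F) = c.hg (c.w p r) (t : F) * c.ng (D.simple p) 1 := by
  rw [c.hg_eq hr, c.hg_eq (c.w_lt hp hr), c.ng_dg hp]
  congr 1
  refine dg_ext D F fun u hu => ?_
  rw [pairChar, pairChar, ← c.pairing_w hp (c.w_lt hp hr) hu, c.w_w hp hr]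

end CertFull

end Cfsg.Agent.Lie.Chev
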