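import Cfsg.Agent.Lib.Lie.Chev.TwistBN
import Cfsg.Agent.Lib.Lie.BNCoxeter

/-! Twisted groups: trivial core, commutators, simplicity and the Weyl group. -/

set_option autoImplicit false

namespace Cfsg.Agent.Lie.Chev

open Cfsg.Lie Matrix
open scoped commutatorElement

namespace CertFull

variable {D : ChevalleyDatum} (c : CertFull D) {F : Type*} [Field F]

include c

theorem xg_simple_mem_Up {p : ℕ} (hp : p < D.rank) {t : F}
    (h : c.xg (D.simple p) t ∈ Up D F p) : t = 0 := by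
  have hα := c.simple_lt hp
  have h1 := c.Up_le_U p (c.np_conj_Up hp h)
  rw [Cert.np, c.ng_conj hp hα, c.w_simple hp, mul_inv_cancel_right] at h1
  have hneg : ¬ c.Pos (D.neg (D.simple p)) := fun h' =>
    (c.not_pos_iff hα).2 h' (c.pos_simple hp)
  have h2 := c.borel_inf_negUnipotent.1.le
    ⟨Subgroup.mem_sup_left h1, c.xg_mem_V (c.neg_lt hα) hneg _⟩
  rw [Subgroup.mem_bot, c.xg_eq_one_iff (c.neg_lt hα)] at h2
  rcases mul_eq_zero.1 h2 with h3 | h3
  · have := c.eta_F_sq (F := F) p (D.simple p)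
    rw [h3, zero_mul] at this
    exact absurd this zero_ne_one
  · exact h3

theorem torus_conj_Up (z : ℕ → Fˣ) {p : ℕ} {g : GL D.Idx F} (hg : g ∈ Up D F p) :
    c.torus z * g * (c.torus z)⁻¹ ∈ Up D F p := by
  refine conj_closure_mem ?_ hg
  rintro g ⟨s, u, hs, hne, hg⟩
  obtain rfl := c.eq_xg_iff.1 hg
  have hs' := c.posRoot_iff.1 hs
  rw [c.torus_conj_xg z hs'.2]
  exact c.xg_mem_Up hs' hne _

theorem torus_conj_oprod (z : ℕ → Fˣ) {m : ℕ} (t : ℕ → F) :
    c.torus z * c.oprod m t * (c.torus z)⁻¹ = c.oprod m (fun r => (c.tchar z r : F) * t r) := by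
  have key : ∀ L : List ℕ, (∀ r ∈ L, r < D.nroots) →
      c.torus z * (L.map fun r => c.xg r (t r)).prod * (c.torus z)⁻¹ =
        (L.map fun r => c.xg r ((c.tchar z r : F) * t r)).prod := by
    intro L
    induction L with
    | nil => simp
    | cons r L ih =>
      intro hL
      rw [List.map_cons, List.map_cons, List.prod_cons, List.prod_cons,
        ← ih fun x hx => hL x (by simp [hx]), ← c.torus_conj_xg z (hL r (by simp))]
      group
  rw [Cert.oprod, Cert.oprod]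
  refine key _ fun r hr => ?_
  rw [List.mem_range'_1] at hr
  omega

/-- A torus element with no trivial character on a closed set centralises only the identity. -/
theorem eq_one_of_torus_fixed {S : Set ℕ} (hS : c.IsClosed S) {z : ℕ → Fˣ}
    (hz : ∀ r ∈ S, c.tchar z r ≠ 1) {x : GL D.Idx F} (hx : x ∈ c.KS F S c.T.h)
    (hc : c.torus z * x * (c.torus z)⁻¹ = x) : x = 1 := by
  obtain ⟨t, ht, rfl⟩ := c.exists_oprod_KS hS _ c.T.h rfl le_rfl x hx
  rw [c.torus_conj_oprod] at hc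
  have key := c.oprod_inj _ c.T.h rfl le_rfl _ _ hc
  refine List.prod_eq_one fun y hy => ?_
  obtain ⟨r, hr, rfl⟩ := List.mem_map.1 hy
  rw [List.mem_range'_1] at hr
  by_cases h : r ∈ S
  · have e := key r hr.1 (by omega)
    have hne : (c.tchar z r : F) - 1 ≠ 0 := sub_ne_zero.2 fun e' => hz r h (Units.ext e')
    rw [(mul_eq_zero.1 (show ((c.tchar z r : F) - 1) * t r = 0 by
      rw [sub_mul, one_mul, e, sub_self])).resolve_left hne, c.xg_zero]
  · rw [ht r h, c.xg_zero]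

end CertFull

namespace Twist

variable {D : ChevalleyDatum} {c : CertFull D} {F : Type*} [Field F] {T : Twist c F}

namespace Datum

variable [Finite F] (Y : Datum T)

theorem exists_ret_ne_zero {r : ℕ} (hr : c.Pos r) :
    ∃ a : F, (T.step)^[Y.G.per r] (r, a) = (r, a) ∧ a ≠ 0 := by
  by_contra hall
  push Not at hall
  have h := Y.G.card_ret r hr
  haveI : Subsingleton {a : F // (T.step)^[Y.G.per r] (r, a) = (r, a)} :=
    ⟨fun x y => Subtype.ext ((hall _ x.2).trans (hall _ y.2).symm)⟩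
  have h1 : Nat.card {a : F // (T.step)^[Y.G.per r] (r, a) = (r, a)} ≤ 1 :=
    Finite.card_le_one_iff_subsingleton.2 inferInstance
  have h2 : 1 < Nat.card F ^ Y.G.per r :=
    Nat.one_lt_pow (Y.G.per_pos r hr).ne' Finite.one_lt_card
  rcases Nat.le_one_iff_eq_zero_or_eq_one.1 h1 with h3 | h3 <;> rw [h3] at h
  · rw [zero_pow Y.e_pos.ne'] at h; omega
  · rw [one_pow] at h; omega

include Y in
/-- A fixed unipotent element with non-trivial coordinate at a fundamental root. -/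
theorem exists_coord {p : ℕ} (hp : p < D.rank) : ∃ g ∈ D.posUnipotent F ⊓ T.fix, ∃ a : F, a ≠ 0 ∧
    ∃ k ∈ Up D F p, g = c.xg (D.simple p) a * k := by
  have hα := c.pos_simple hp
  obtain ⟨a, ha, ha0⟩ := Y.exists_ret_ne_zero hα
  obtain ⟨g, hg, b, hb, k, hk, e⟩ := Y.lifts (c.keepSet []) (c.keepSet_closed (by simp))
    keep_stable (D.simple p) ⟨hα, hα⟩ a ha
  have hk' : k ∈ Up D F p := by
    refine (Subgroup.closure_le _).2 ?_ hk
    rintro x ⟨r, t, hr, -, rfl⟩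
    refine c.xg_mem_Up hr.1.1 (fun e => ?_) t
    have h2 : Y.G.lvl (D.simple p) + 1 ≤ Y.G.lvl r := hr.2
    rw [e] at h2
    omega
  obtain ⟨n, hn⟩ : ∃ n, Y.G.per (D.simple p) = n + 1 :=
    ⟨Y.G.per (D.simple p) - 1, by have := Y.G.per_pos _ hα; omega⟩
  rw [hn, List.range_succ_eq_map, List.map_cons, List.prod_cons, List.map_map] at e
  simp only [Function.iterate_zero, id_eq, hb] at e
  set rest := ((List.range n).map ((fun i => c.xg ((T.ρ)^[i] (D.simple p))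
    (b ((T.ρ)^[i] (D.simple p)))) ∘ Nat.succ)).prod
  have hrest : rest ∈ Up D F p := by
    refine Subgroup.list_prod_mem _ fun x hx => ?_
    obtain ⟨i, hi, rfl⟩ := List.mem_map.1 hx
    rw [List.mem_range] at hi
    exact c.xg_mem_Up (T.pos_iterate hα _)
      (Y.G.per_min _ hα (i + 1) (by omega) (by omega)) _
  refine ⟨g, ⟨?_, hg.2⟩, a, ha0, rest * k, mul_mem hrest hk', by rw [e, mul_assoc]⟩
  rw [e]
  exact mul_mem (mul_mem (c.xg_mem_U hα a) (c.Up_le_U p hrest)) (c.Up_le_U p hk')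

/-- The Borel subgroup has trivial core. -/
theorem core_eq_bot : ((D.borelSubgroup F ⊓ Y.G₁).subgroupOf Y.G₁).normalCore = ⊥ := by
  set C := ((D.borelSubgroup F ⊓ Y.G₁).subgroupOf Y.G₁).normalCore
  have hCB : ∀ x ∈ C, (x : GL D.Idx F) ∈ D.borelSubgroup F := fun x hx =>
    (Subgroup.normalCore_le ((D.borelSubgroup F ⊓ Y.G₁).subgroupOf Y.G₁) hx).1
  obtain ⟨i, hi, htop⟩ := Y.top
  obtain ⟨hw, -, -⟩ := Y.wd_spec hi
  set L := Y.W.wd i
  set n := c.nw F L
  have hUV : ∀ u ∈ D.posUnipotent F, n * u * n⁻¹ ∈ D.negUnipotent F := by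
    intro u hu
    have hu' : u ∈ c.KS F (c.invSet L) c.T.h := by
      rw [c.U_eq_KS] at hu
      refine Subgroup.closure_mono ?_ hu
      rintro g ⟨r, t, hr, hle, e⟩
      exact ⟨r, t, ⟨hr.1, FixedWeyl.root_mem_invSet_pos (J := List.range D.rank) hw hr.1
        (fun j hj _ => List.mem_range.2 hj) (fun p hp => htop p (List.mem_range.1 hp))⟩, hle, e⟩
    simpa using c.conj_inv_mem_V (one_mem _) hw hu'
  have hCH : ∀ x ∈ C, (x : GL D.Idx F) ∈ D.diagonalSubgroup F := by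
    intro x hx
    have hnN : n ∈ D.monomialSubgroup F := c.nw_mem_N hw
    set nn : ↥Y.G₁ := ⟨n, Y.nw_wd_mem hi⟩
    have h1 := hCB _ ((Subgroup.normalCore_normal _).conj_mem x hx nn⁻¹)
    simp only [Subgroup.coe_mul, Subgroup.coe_inv, inv_inv, nn] at h1
    obtain ⟨u, hu, a, ha, e⟩ := c.mem_borel_iff.1 h1
    have h2 : (x : GL D.Idx F) = (n * u * n⁻¹) * (n * a * n⁻¹) := by
      rw [show n * u * n⁻¹ * (n * a * n⁻¹) = n * (u * a) * n⁻¹ by group, ← e]
      group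
    refine c.borel_inf_negUnipotent.2.le ⟨hCB x hx, ?_⟩
    rw [h2]
    exact mul_mem (Subgroup.mem_sup_left (hUV u hu)) (Subgroup.mem_sup_right (c.N_conj_H hnN ha))
  rw [eq_bot_iff]
  intro x hx
  rw [Subgroup.mem_bot]
  have hxH := hCH x hx
  rw [c.diagonalSubgroup_eq] at hxH
  obtain ⟨z, hz⟩ := hxH
  have hsimple : ∀ p < D.rank, c.tchar z (D.simple p) = 1 := by
    intro p hp
    obtain ⟨g, hg, a, ha0, k, hk, e⟩ := Y.exists_coord hp
    have h1 := hCH _ (mul_mem hx ((Subgroup.normalCore_normal _).conj_mem _ (inv_mem hx)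
      (⟨g, Y.U_fix_le hg⟩ : ↥Y.G₁)))
    simp only [Subgroup.coe_mul, Subgroup.coe_inv, ← hz] at h1
    have hgU : c.torus z * g * (c.torus z)⁻¹ ∈ D.posUnipotent F :=
      (Subgroup.mem_normalizer_iff.1 (c.H_le_normalizer_U (c.torus_mem z)) g).1 hg.1
    have h2 : c.torus z * (g * (c.torus z)⁻¹ * g⁻¹) ∈ D.posUnipotent F := by
      rw [← mul_assoc, ← mul_assoc]
      exact mul_mem hgU (inv_mem hg.1)
    have h3 := c.U_inf_H.le ⟨h2, h1⟩
    rw [Subgroup.mem_bot] at h3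
    have h4 : c.torus z * g * (c.torus z)⁻¹ = g := by
      rw [← mul_inv_eq_one, ← h3]
      group
    rw [e, show c.torus z * (c.xg (D.simple p) a * k) * (c.torus z)⁻¹ =
      (c.torus z * c.xg (D.simple p) a * (c.torus z)⁻¹) * (c.torus z * k * (c.torus z)⁻¹) by group,
      c.torus_conj_xg z (c.simple_lt hp)] at h4
    have h5 : c.xg (D.simple p) ((c.tchar z (D.simple p) : F) * a - a) ∈ Up D F p := by
      have e2 : c.xg (D.simple p) ((c.tchar z (D.simple p) : F) * a - a) =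
          c.xg (D.simple p) (-a) * c.xg (D.simple p) ((c.tchar z (D.simple p) : F) * a) := by
        rw [← c.xg_add]; ring_nf
      have e3 : c.xg (D.simple p) (-a) * c.xg (D.simple p) ((c.tchar z (D.simple p) : F) * a) =
          k * (c.torus z * k * (c.torus z)⁻¹)⁻¹ := by
        rw [← c.xg_inv, eq_mul_inv_iff_mul_eq, mul_assoc, h4, inv_mul_cancel_left]
      rw [e2, e3]
      exact mul_mem hk (inv_mem (c.torus_conj_Up z hk))
    have h6 := c.xg_simple_mem_Up hp h5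
    rw [sub_eq_zero, mul_eq_right₀ ha0] at h6
    exact Units.ext h6
  refine Subtype.ext ?_
  rw [← hz, Cert.torus_apply, Subgroup.coe_one, ← map_one (dg D F)]
  refine dg_ext D F fun s hs => ?_
  rw [c.tchar_eq_prod z hs]
  exact Finset.prod_eq_one fun j hj => by rw [hsimple j (Finset.mem_range.1 hj), _root_.one_zpow]

/-! ### Commutators -/

theorem mem_commutator_torus {S : Set ℕ} (hS : c.IsClosed S) (hst : ∀ r ∈ S, T.ρ r ∈ S)
    {z : ℕ → Fˣ} (hzf : c.torus z ∈ T.fix) (hz : ∀ r ∈ S, c.tchar z r ≠ 1) {x : GL D.Idx F}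
    (hx : x ∈ c.KS F S c.T.h ⊓ T.fix) : x ∈ ⁅Y.G₁, Y.G₁⁆ := by
  set h := c.torus z with hh
  have hconj : ∀ u ∈ c.KS F S c.T.h, h * u * h⁻¹ ∈ c.KS F S c.T.h := fun u hu => by
    refine conj_closure_mem ?_ hu
    rintro g ⟨r, t, hr, hle, rfl⟩
    rw [hh, c.torus_conj_xg z (hS.1 r hr).2]
    exact c.xg_mem_KS hr hle _
  have hmem : ∀ u : ↥(c.KS F S c.T.h ⊓ T.fix),
      h * u.1 * h⁻¹ * u.1⁻¹ ∈ c.KS F S c.T.h ⊓ T.fix := fun u =>
    ⟨(c.KS F S c.T.h).mul_mem (hconj _ u.2.1) ((c.KS F S c.T.h).inv_mem u.2.1),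
      T.fix.mul_mem (T.fix.mul_mem (T.fix.mul_mem hzf u.2.2) (T.fix.inv_mem hzf))
        (T.fix.inv_mem u.2.2)⟩
  have hsurj : Function.Surjective
      (fun u : ↥(c.KS F S c.T.h ⊓ T.fix) => (⟨_, hmem u⟩ : ↥(c.KS F S c.T.h ⊓ T.fix))) := by
    haveI : Finite (GL D.Idx F) := inferInstance
    refine Finite.surjective_of_injective fun u v e => ?_
    have e' : h * u.1 * h⁻¹ * u.1⁻¹ = h * v.1 * h⁻¹ * v.1⁻¹ := congrArg Subtype.val e
    have hcomm : h * (v.1⁻¹ * u.1) * h⁻¹ = v.1⁻¹ * u.1 := by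
      calc h * (v.1⁻¹ * u.1) * h⁻¹
          = (h * v.1 * h⁻¹)⁻¹ * (h * u.1 * h⁻¹ * u.1⁻¹) * u.1 := by group
        _ = _ := by rw [e']; group
    have := c.eq_one_of_torus_fixed hS hz ((c.KS F S c.T.h).mul_mem ((c.KS F S c.T.h).inv_mem v.2.1) u.2.1) hcomm
    exact Subtype.ext (inv_mul_eq_one.1 this).symm
  obtain ⟨u, hu⟩ := hsurj ⟨x, hx⟩
  rw [← show h * u.1 * h⁻¹ * u.1⁻¹ = x from congrArg Subtype.val hu, ← commutatorElement_def]
  exact Subgroup.commutator_mem_commutator (by rw [Y.eq_fix]; exact hzf)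
    (by rw [Y.eq_fix]; exact u.2.2)

theorem conj_mem_commutator {g x : GL D.Idx F} (hg : g ∈ Y.G₁) (hx : x ∈ ⁅Y.G₁, Y.G₁⁆) :
    g * x * g⁻¹ ∈ ⁅Y.G₁, Y.G₁⁆ := by
  have h : g * x * g⁻¹ = ⁅g, x⁆ * x := by rw [commutatorElement_def]; group
  rw [h]
  exact mul_mem (Subgroup.commutator_mem_commutator hg (Subgroup.commutator_le_self _ hx)) hx

theorem perfect_of_gens {s : Set (GL D.Idx F)} (hs : Y.G₁ = Subgroup.closure s)
    (h : ∀ g ∈ s, g ∈ ⁅Y.G₁, Y.G₁⁆) : commutator ↥Y.G₁ = ⊤ := by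
  have hle : Y.G₁ ≤ ⁅Y.G₁, Y.G₁⁆ := hs.le.trans ((Subgroup.closure_le _).2 h)
  have e : Subgroup.map Y.G₁.subtype (commutator ↥Y.G₁) = ⁅Y.G₁, Y.G₁⁆ :=
    Subgroup.map_subtype_commutator Y.G₁
  refine eq_top_iff.2 fun g _ => ?_
  have hg : (g : GL D.Idx F) ∈ Subgroup.map Y.G₁.subtype (commutator ↥Y.G₁) := e ▸ hle g.2
  obtain ⟨x, hx, hxg⟩ := Subgroup.mem_map.1 hg
  obtain rfl : x = g := Subtype.ext hxg
  exact hx

/-- A commutator of two root elements, moved to another root. -/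
theorem mem_commutator_pair {r s θ : ℕ} (hr : r < D.nroots) (hs : s < D.nroots) (h1 : s ≠ r)
    (h2 : s ≠ D.neg r) {C : ℤ} (hC : C = 1 ∨ C = -1)
    (hcomm : c.T.commTerms r s = [(θ, C, 1, 1)]) {i : ℕ} (hi : i < Y.W.N) {p : ℕ}
    (hp : p < D.rank) (hθ : θ < D.nroots) (hw : c.wl (Y.W.wd i) θ = D.simple p) {t : F}
    (hfr : ∀ u : F, (∃ n : ℤ, u = (n : F) * t) → c.xg r u ∈ T.fix) (hfs : c.xg s (1 : F) ∈ T.fix) :
    c.xg (D.simple p) t ∈ ⁅Y.G₁, Y.G₁⁆ := by
  obtain ⟨hL, -, -⟩ := Y.wd_spec hi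
  set σ : ℤ := c.wsign (Y.W.wd i) θ
  have hσ : (σ : F) * σ = 1 := c.wsign_sq _ _
  have hu : c.xg r ((C * σ * -1 : ℤ) * t) ∈ T.fix := hfr _ ⟨_, rfl⟩
  set u : F := (C * σ * -1 : ℤ) * t with hudef
  have e := c.xg_comm hr hs h1 h2 u (1 : F)
  rw [hcomm] at e
  simp only [List.map_cons, List.map_nil, List.prod_cons, List.prod_nil, mul_one] at e
  have hz : ∀ z : F, c.xg s 1 * c.xg r u = c.xg r u * c.xg s 1 * c.xg θ z →
      c.xg θ z = ⁅(c.xg s (1 : F))⁻¹, (c.xg r u)⁻¹⁆ := by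
    intro z hz
    rw [commutatorElement_def, inv_inv, inv_inv, mul_assoc, hz]
    group
  have hmem := Y.conj_mem_commutator (Y.nw_wd_mem hi)
    (show ⁅(c.xg s (1 : F))⁻¹, (c.xg r u)⁻¹⁆ ∈ ⁅Y.G₁, Y.G₁⁆ from
      Subgroup.commutator_mem_commutator (by rw [Y.eq_fix]; exact inv_mem hfs)
        (by rw [Y.eq_fix]; exact inv_mem hu))
  rw [← hz _ e, c.nw_mul_xg hL hθ, mul_inv_cancel_right, hw] at hmem
  have key : c.xg (D.simple p) t ∈ ⁅Y.G₁, Y.G₁⁆ ∨ c.xg (D.simple p) (-t) ∈ ⁅Y.G₁, Y.G₁⁆ := by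
    have hC2 : (C : F) * C = 1 := by rcases hC with rfl | rfl <;> simp
    revert hmem
    generalize hz' : (c.wsign (Y.W.wd i) θ : F) * _ = z
    intro hmem
    have : z = t ∨ z = -t := by
      left
      rw [← hz', hudef]
      push_cast
      linear_combination (t * C * C) * hσ + t * hC2
    rcases this with rfl | rfl
    · exact Or.inl hmem
    · exact Or.inr hmem
  rcases key with h | h
  · exact h
  · have := inv_mem h
    rwa [c.xg_inv, neg_neg] at this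

/-! ### Irreducibility and simplicity -/

/-- Consecutive orbits do not commute. -/
def Chain : Prop := ∀ a, (h : a + 1 < Y.W.Jw.length) → ∃ q < D.rank,
  c.wl (Y.W.Jw[a] ++ Y.W.Jw[a + 1]) (D.simple q) ≠
    c.wl (Y.W.Jw[a + 1] ++ Y.W.Jw[a]) (D.simple q)

theorem irreducible (hch : Y.Chain) : Y.bnPair.Irreducible := by
  intro J hJ hne hne'
  by_contra hcon
  push Not at hcon
  let side : ℕ → Prop := fun a => ∃ h : a < Y.W.Jw.length, Y.gen (List.getElem_mem h) ∈ J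
  have hedge : ∀ a b (ha : a < Y.W.Jw.length) (hb : b < Y.W.Jw.length), side a → ¬ side b →
      ∀ q < D.rank, c.wl (Y.W.Jw[a] ++ Y.W.Jw[b]) (D.simple q) =
        c.wl (Y.W.Jw[b] ++ Y.W.Jw[a]) (D.simple q) := by
    intro a b ha hb ⟨_, hsa⟩ hsb q hq
    have hB := hcon _ hsa (Y.gen (List.getElem_mem hb))
      ⟨⟨_, List.getElem_mem hb, rfl⟩, fun h => hsb ⟨hb, h⟩⟩
    have hA := (Y.W.J_spec (List.getElem_mem ha)).2.1
    have hB' := (Y.W.J_spec (List.getElem_mem hb)).2.1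
    have hB1 : c.nw F Y.W.Jw[a] * c.nw F Y.W.Jw[b] * (c.nw F Y.W.Jw[a])⁻¹ *
        (c.nw F Y.W.Jw[b])⁻¹ ∈ D.borelSubgroup F := by
      have := hB.1
      simpa [gen] using this
    refine c.same_of_coset (F := F) (fun p hp => (List.mem_append.1 hp).elim (hA p) (hB' p))
      (fun p hp => (List.mem_append.1 hp).elim (hB' p) (hA p)) (one_mem _) (one_mem _) hB1
      (one_mem _) ?_ q hq
    rw [c.nw_append, c.nw_append]
    group
  have hstep : ∀ a, a < Y.W.Jw.length → (side a ↔ side 0) := by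
    intro a
    induction a with
    | zero => intro _; exact Iff.rfl
    | succ a ih =>
      intro ha
      rw [← ih (by omega)]
      obtain ⟨q, hq, hne⟩ := hch a ha
      constructor
      · intro h
        by_contra h'
        exact hne (hedge (a + 1) a ha (by omega) h h' q hq).symm
      · intro h
        by_contra h'
        exact hne (hedge a (a + 1) (by omega) ha h h' q hq)
  obtain ⟨n, hn⟩ := hne
  obtain ⟨m, hm, hmJ⟩ := hne'
  obtain ⟨A, hA, ea⟩ := hJ hn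
  obtain ⟨B, hB, eb⟩ := hm
  obtain ⟨a, ha, rfl⟩ := List.getElem_of_mem hA
  obtain ⟨b, hb, rfl⟩ := List.getElem_of_mem hB
  have hsa : side a := ⟨ha, by rwa [show Y.gen (List.getElem_mem ha) = n from Subtype.ext ea.symm]⟩
  obtain ⟨_, hb'⟩ := (hstep b hb).2 ((hstep a ha).1 hsa)
  exact hmJ (by rwa [show m = Y.gen (List.getElem_mem hb) from Subtype.ext eb])

theorem isSolvable_B : Group.IsSolvable ↥((D.borelSubgroup F ⊓ Y.G₁).subgroupOf Y.G₁) := by
  haveI := c.isSolvable_borel (F := F)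
  let f : ↥((D.borelSubgroup F ⊓ Y.G₁).subgroupOf Y.G₁) →* ↥(D.borelSubgroup F) :=
    (Y.G₁.subtype.comp (Subgroup.subtype _)).codRestrict _ fun x => x.2.1
  exact Group.isSolvable_of_isSolvable_injective (f := f)
    fun x y e => Subtype.ext (Subtype.ext (congrArg (fun z : ↥(D.borelSubgroup F) => (z : GL D.Idx F)) e))

theorem nontrivial_G₁ (hne : Y.W.Jw ≠ []) : Nontrivial ↥Y.G₁ := by
  obtain ⟨J, hJ⟩ := List.exists_mem_of_ne_nil _ hne
  obtain ⟨x, hx, hx1⟩ := Y.exists_ne_one hJ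
  exact nontrivial_of_ne ⟨x, Y.eq_fix ▸ hx.2⟩ 1 fun e => hx1 (congrArg Subtype.val e)

theorem simple (hne : Y.W.Jw ≠ []) (hch : Y.Chain) (hperf : commutator ↥Y.G₁ = ⊤) :
    IsSimpleGroup ↥Y.G₁ ∧ ¬ IsMulCommutative ↥Y.G₁ := by
  haveI := Y.nontrivial_G₁ hne
  refine ⟨Lie.simple_of_bnPair Y.bnPair (Y.irreducible hch) Y.isSolvable_B hperf Y.core_eq_bot,
    fun h => ?_⟩
  have e : commutator ↥Y.G₁ = ⊥ := by
    rw [commutator_def, Subgroup.commutator_eq_bot_iff_le_centralizer]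
    intro x _
    rw [Subgroup.mem_centralizer_iff]
    exact fun y _ => mul_comm' y x
  rw [hperf] at e
  exact top_ne_bot e

/-! ### The Weyl group -/

theorem mem_torus_iff {n : ↥Y.bnPair.N} :
    n ∈ Lie.torus Y.bnPair ↔ ((n : ↥Y.G₁) : GL D.Idx F) ∈ D.diagonalSubgroup F := by
  rw [Lie.mem_torus]
  exact ⟨fun h => c.B_inf_N.le ⟨h.1, n.2.1⟩, fun h => ⟨c.H_le_B h, (n : ↥Y.G₁).2⟩⟩

/-- A map to a group isomorphic to the Weyl group. -/
theorem exists_weylHom {W' : Type*} [Group W'] (f : Lie.Weyl Y.bnPair ≃* W') :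
    ∃ φ : ↥(D.monomialSubgroup F ⊓ Y.G₁) →* W', Function.Surjective φ ∧
      φ.ker = (D.diagonalSubgroup F ⊓ Y.G₁).subgroupOf (D.monomialSubgroup F ⊓ Y.G₁) := by
  let e : ↥(D.monomialSubgroup F ⊓ Y.G₁) ≃* ↥Y.bnPair.N :=
    (Subgroup.subgroupOfEquivOfLe (inf_le_right : D.monomialSubgroup F ⊓ Y.G₁ ≤ Y.G₁)).symm
  refine ⟨f.toMonoidHom.comp ((Lie.proj Y.bnPair).comp e.toMonoidHom),
    f.surjective.comp ((QuotientGroup.mk'_surjective _).comp e.surjective), ?_⟩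
  ext n
  rw [MonoidHom.mem_ker, Subgroup.mem_subgroupOf, MonoidHom.comp_apply, MonoidHom.comp_apply]
  show f (Lie.proj Y.bnPair (e n)) = 1 ↔ _
  rw [map_eq_one_iff f f.injective, ← MonoidHom.mem_ker, QuotientGroup.ker_mk', Y.mem_torus_iff]
  exact ⟨fun h => ⟨h, n.2.2⟩, fun h => h.1⟩

theorem refl_pow_eq_one (a b : Y.bnPair.S) {A B : List ℕ} (hA : A ∈ Y.W.Jw) (hB : B ∈ Y.W.Jw)
    (ea : ((a : ↥Y.G₁) : GL D.Idx F) = c.nw F A) (eb : ((b : ↥Y.G₁) : GL D.Idx F) = c.nw F B)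
    (n : ℕ) : (Lie.refl Y.bnPair a * Lie.refl Y.bnPair b) ^ n = 1 ↔
      ∀ q < D.rank, (c.wl (A ++ B))^[n] (D.simple q) = D.simple q := by
  have hlt : ∀ p ∈ A ++ B, p < D.rank := fun p hp =>
    (List.mem_append.1 hp).elim ((Y.W.J_spec hA).2.1 p) ((Y.W.J_spec hB).2.1 p)
  rw [Lie.refl, Lie.refl, ← map_mul, ← map_pow, ← MonoidHom.mem_ker, QuotientGroup.ker_mk',
    Y.mem_torus_iff]
  let rep : ℕ → List ℕ := fun n => (List.replicate n (A ++ B)).flatten
  have hrep : ∀ n, (∀ p ∈ rep n, p < D.rank) ∧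
      (∀ s, c.wl (rep n) s = (c.wl (A ++ B))^[n] s) ∧
      c.nw F (rep n) = (c.nw F A * c.nw F B) ^ n := by
    intro n
    induction n with
    | zero => exact ⟨by simp [rep], fun s => by simp [rep], by simp [rep]⟩
    | succ n ih =>
      obtain ⟨i1, i2, i3⟩ := ih
      have e : rep (n + 1) = A ++ B ++ rep n := by simp [rep, List.replicate_succ]
      rw [e]
      refine ⟨fun p hp => (List.mem_append.1 hp).elim (hlt p) (i1 p), fun s => ?_, ?_⟩
      · rw [c.wl_append, i2, Function.iterate_succ_apply']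
      · rw [c.nw_append, c.nw_append, i3, pow_succ']
  obtain ⟨h1, h2, h3⟩ := hrep n
  have hval : (((Lie.sN Y.bnPair a * Lie.sN Y.bnPair b) ^ n : ↥Y.bnPair.N) : ↥Y.G₁) =
      ((a : ↥Y.G₁) * b) ^ n := by
    simp [Lie.sN]
  rw [hval, SubmonoidClass.coe_pow, Subgroup.coe_mul, ea, eb, ← h3]
  constructor
  · intro h q hq
    have := c.wl_eq_of_eq (L := rep n) (M := []) (one_mem _) h h1 (by simp) (by simp)
      (c.simple_lt hq)
    rw [← h2]
    simpa using this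
  · intro h
    refine c.nw_mem_H h1 fun q hq => ?_
    rw [h2, h q hq]
    exact c.pos_simple hq

/-- The orbits index the simple reflections. -/
theorem exists_genEquiv (hnd : Y.W.Jw.Nodup) :
    ∃ f : Fin Y.W.Jw.length ≃ Y.bnPair.S, ∀ i,
      (((f i : Y.bnPair.S) : ↥Y.G₁) : GL D.Idx F) = c.nw F Y.W.Jw[i] := by
  let g : Fin Y.W.Jw.length → Y.bnPair.S := fun i =>
    ⟨Y.gen (List.getElem_mem i.2), ⟨_, List.getElem_mem i.2, rfl⟩⟩
  have hg : Function.Bijective g := by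
    refine ⟨fun i j e => ?_, fun s => ?_⟩
    · have e' : c.nw F Y.W.Jw[(i : ℕ)] = c.nw F Y.W.Jw[(j : ℕ)] :=
        congrArg Subtype.val (congrArg Subtype.val e)
      obtain ⟨hne, hlt, -, -, hJneg, -, -⟩ := Y.W.J_spec (List.getElem_mem i.2)
      obtain ⟨-, hlt', -, -, -, -, hsup'⟩ := Y.W.J_spec (List.getElem_mem j.2)
      obtain ⟨p, hp⟩ := List.exists_mem_of_ne_nil _ hne
      have hpl := hlt p hp
      have hs := c.wl_eq_of_eq (F := F) (one_mem _) (one_mem _) hlt hlt' (by rw [e'])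
        (c.simple_lt hpl)
      have hmem : D.simple p ∈ c.invSet Y.W.Jw[(j : ℕ)] :=
        ⟨c.pos_simple hpl, hs ▸ hJneg p hp⟩
      have hp' := hsup' _ hmem p hpl (by rw [c.vec_simple hpl hpl, if_pos rfl]; exact one_ne_zero)
      exact Fin.ext (hnd.getElem_inj_iff.1
        (Y.disjoint _ (List.getElem_mem i.2) _ (List.getElem_mem j.2) p hp hp'))
    · obtain ⟨⟨n, hn⟩, J, hJ, e⟩ := s
      obtain ⟨i, hi, rfl⟩ := List.getElem_of_mem hJ
      exact ⟨⟨i, hi⟩, Subtype.ext (Subtype.ext e.symm)⟩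
  exact ⟨Equiv.ofBijective g hg, fun i => rfl⟩

/-- The Weyl group is the Coxeter group of the orders of the products of two orbits. -/
theorem exists_coxeterHom {k : ℕ} (M : CoxeterMatrix (Fin k)) (hk : Y.W.Jw.length = k)
    (hnd : Y.W.Jw.Nodup)
    (hM : ∀ (a b : Fin k), 0 < M.M a b ∧
      (∀ q < D.rank, (c.wl (Y.W.Jw.getD a [] ++ Y.W.Jw.getD b []))^[M.M a b] (D.simple q) =
        D.simple q) ∧
      ∀ m < M.M a b, 0 < m → ∃ q < D.rank,
        (c.wl (Y.W.Jw.getD a [] ++ Y.W.Jw.getD b []))^[m] (D.simple q) ≠ D.simple q) :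
    ∃ φ : ↥(D.monomialSubgroup F ⊓ Y.G₁) →* M.Group, Function.Surjective φ ∧
      φ.ker = (D.diagonalSubgroup F ⊓ Y.G₁).subgroupOf (D.monomialSubgroup F ⊓ Y.G₁) := by
  subst hk
  obtain ⟨f, hf⟩ := Y.exists_genEquiv hnd
  have hMeq : M.reindex f = Lie.bnMatrix Y.bnPair := by
    refine CoxeterMatrix.ext (Matrix.ext fun s r => ?_)
    show M.M (f.symm s) (f.symm r) = orderOf (Lie.refl Y.bnPair s * Lie.refl Y.bnPair r)
    set a := f.symm s
    set b := f.symm r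
    obtain ⟨hpos, h1, h2⟩ := hM a b
    have ha : (((s : Y.bnPair.S) : ↥Y.G₁) : GL D.Idx F) = c.nw F (Y.W.Jw.getD a []) := by
      rw [List.getD_eq_getElem _ _ a.2, show s = f a by simp [a]]
      exact hf a
    have hb : (((r : Y.bnPair.S) : ↥Y.G₁) : GL D.Idx F) = c.nw F (Y.W.Jw.getD b []) := by
      rw [List.getD_eq_getElem _ _ b.2, show r = f b by simp [b]]
      exact hf b
    have key := Y.refl_pow_eq_one s r (Y.W.getD_mem a.2) (Y.W.getD_mem b.2) ha hb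
    symm
    refine (orderOf_eq_iff hpos).2 ⟨(key _).2 h1, fun m hm hm0 h => ?_⟩
    obtain ⟨q, hq, hne⟩ := h2 m hm hm0
    exact hne ((key m).1 h q hq)
  let e1 : Lie.Weyl Y.bnPair ≃* (Lie.bnMatrix Y.bnPair).Group :=
    (MulEquiv.ofBijective _ (Lie.coxHom_bijective Y.bnPair)).symm
  have e2 : (Lie.bnMatrix Y.bnPair).Group ≃* M.Group := hMeq ▸ M.reindexGroupEquiv f
  exact Y.exists_weylHom (e1.trans e2)

end Datum

end Twist

end Cfsg.Agent.Lie.Chev
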