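import Cfsg.Agent.Lib.Lie.Chev.TwistGraph
import Cfsg.Agent.Lib.Lie.Chev.TwistSimple

/-! Twisted endomorphisms built from a graph symmetry and the `q`-th power map: gradings, lifts of
orbit vectors, generators. -/

set_option autoImplicit false

namespace Cfsg.Agent.Lie.Chev

open Cfsg.Lie Matrix

/-- The fixed elements of the `q`-th power map. -/
theorem card_pow_eq_self {F : Type*} [Field F] [Finite F] {q e : ℕ} (hq : 1 < q)
    (hQ : Nat.card F = q ^ e) : Nat.card {a : F // a ^ q = a} = q := by
  classical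
  letI : Fintype F := Fintype.ofFinite F
  have h0 : 0 < q := by omega
  have hdvd : q - 1 ∣ Nat.card Fˣ := by
    rw [Nat.card_units, hQ]
    simpa using Nat.sub_dvd_pow_sub_pow q 1 e
  have hker := IsCyclic.card_powMonoidHom_ker Fˣ (q - 1)
  rw [Nat.gcd_eq_right hdvd] at hker
  let g : {a : F // a ^ q = a} ≃ Option (powMonoidHom (q - 1) : Fˣ →* Fˣ).ker :=
    { toFun := fun a => if h : a.1 = 0 then none else some ⟨Units.mk0 a.1 h, by
        rw [MonoidHom.mem_ker]
        refine Units.ext ?_
        show a.1 ^ (q - 1) = 1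
        refine (mul_eq_right₀ h).1 ?_
        rw [← pow_succ, Nat.sub_add_cancel h0]
        exact a.2⟩
      invFun := fun o => o.elim ⟨0, zero_pow h0.ne'⟩ fun u => ⟨(u.1 : F), by
        have h1 : u.1 ^ (q - 1) = 1 := MonoidHom.mem_ker.1 u.2
        show (u.1 : F) ^ q = u.1
        calc (u.1 : F) ^ q = (u.1 : F) ^ (q - 1) * u.1 := by
              rw [← pow_succ, Nat.sub_add_cancel h0]
          _ = u.1 := by rw [← Units.val_pow_eq_pow_val, h1, Units.val_one, one_mul]⟩
      left_inv := fun a => by
        by_cases h : a.1 = 0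
        · simp [h, Subtype.ext_iff]
        · simp [h]
      right_inv := fun o => by
        cases o with
        | none => simp
        | some u => simp [u.1.ne_zero] }
  rw [Nat.card_congr g, Finite.card_option, hker]
  omega

/-- The product of the signs along the first steps of an orbit. -/
def signProd (ρ : ℕ → ℕ) (ε : ℕ → ℤ) : ℕ → ℕ → ℤ
  | 0, _ => 1
  | i + 1, r => ε (ρ^[i] r) * signProd ρ ε i r

namespace Tables

variable (T : Tables)

/-- The height of a root, for the grading. -/
def htT (r : ℕ) : ℕ := (((List.range T.l).map fun j => T.vec r j).sum).toNat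

/-- The height is a grading adapted to the symmetry, and orbits have `1` or `e` elements. -/
def checkFrob (ρ : ℕ → ℕ) (ε : ℕ → ℤ) (e : ℕ) : Bool :=
  (List.range' T.h T.h).all fun r =>
    Nat.beq (T.htT (ρ r)) (T.htT r) && Nat.beq (ρ^[e] r) r &&
    (bif Nat.beq (ρ r) r then intBeq (ε r) 1
      else (List.range e).all (fun i => Nat.beq i 0 || !(Nat.beq (ρ^[i] r) r)) &&
        intBeq (signProd ρ ε e r) 1) &&
    (List.range' T.h T.h).all fun s => (T.commTerms r s).all fun x =>
      Nat.blt (max (T.htT r) (T.htT s)) (T.htT x.1)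

end Tables

namespace Twist

variable {D : ChevalleyDatum} {c : CertFull D} {F : Type*} [Field F] (T : Twist c F)

/-- The period of a root in the case of a field endomorphism. -/
def perF (e r : ℕ) : ℕ := if T.ρ r = r then 1 else e

theorem step_iterate {f : F →+* F} (hφ : ∀ r, T.φ r = f) (a : F) (r : ℕ) : ∀ i,
    (T.step)^[i] (r, a) =
      ((T.ρ)^[i] r, ((signProd T.ρ T.ε i r : ℤ) : F) * (⇑f)^[i] a) := by
  intro i
  induction i with
  | zero => simp [signProd]
  | succ i ih =>
    rw [Function.iterate_succ_apply', ih, Twist.step, hφ, Function.iterate_succ_apply',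
      Function.iterate_succ_apply', signProd, map_mul, map_intCast, Int.cast_mul, mul_assoc]

theorem pow_iterate {f : F →+* F} {q : ℕ} (hf : ∀ t, f t = t ^ q) (a : F) :
    ∀ i, (⇑f)^[i] a = a ^ q ^ i
  | 0 => by simp
  | i + 1 => by rw [Function.iterate_succ_apply', pow_iterate hf a i, hf, ← pow_mul, ← pow_succ]

theorem frob_check {e : ℕ} (hchk : c.T.checkFrob T.ρ T.ε e = true) {r : ℕ} (hr : c.Pos r) :
    c.T.htT (T.ρ r) = c.T.htT r ∧ (T.ρ)^[e] r = r ∧ (T.ρ r = r → T.ε r = 1) ∧
    (T.ρ r ≠ r → (∀ i, 0 < i → i < e → (T.ρ)^[i] r ≠ r) ∧ signProd T.ρ T.ε e r = 1) ∧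
    ∀ s, c.Pos s → ∀ x ∈ c.T.commTerms r s, max (c.T.htT r) (c.T.htT s) < c.T.htT x.1 := by
  have hn : D.nroots = 2 * c.T.h := c.nroots_eq
  have hm : ∀ {s}, c.Pos s → s ∈ List.range' c.T.h c.T.h := fun {s} hs => by
    rw [List.mem_range'_1]
    have := hs.1
    have := hs.2
    omega
  simp only [Tables.checkFrob, List.all_eq_true, Bool.and_eq_true, Nat.beq_eq, Nat.blt_eq] at hchk
  obtain ⟨⟨⟨h1, h2⟩, h3⟩, h4⟩ := hchk r (hm hr)
  have hb : ∀ {x y : ℤ}, intBeq x y = true → x = y := by
    intro x y; cases x <;> cases y <;> simp [intBeq]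
  refine ⟨h1, h2, fun e0 => ?_, fun e0 => ?_, fun s hs x hx => h4 s (hm hs) x hx⟩
  · rw [beq_of_eq e0, cond_true] at h3
    exact hb h3
  · have b : Nat.beq (T.ρ r) r = false := by
      rw [Bool.eq_false_iff]; exact fun h => e0 (Nat.eq_of_beq_eq_true h)
    rw [b, cond_false] at h3
    simp only [Bool.and_eq_true, List.all_eq_true, List.mem_range, Bool.or_eq_true,
      Bool.not_eq_true', Nat.beq_eq] at h3
    refine ⟨fun i hi hie h => ?_, hb h3.2⟩
    rcases h3.1 i hie with h' | h'
    · omega
    · rw [beq_of_eq h] at h'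
      exact Bool.noConfusion h'

/-- The grading by height. -/
def frobGrading [Finite F] {q e : ℕ} (hq : 1 < q) (hQ : Nat.card F = q ^ e) (he : 0 < e)
    {f : F →+* F} (hf : ∀ t, f t = t ^ q) (hφ : ∀ r, T.φ r = f)
    (hchk : c.T.checkFrob T.ρ T.ε e = true) : T.Grading e where
  lvl := c.T.htT
  per := T.perF e
  lvl_ρ r hr := (T.frob_check hchk hr).1
  lvl_min r hr s hs x hx :=
    le_trans (min_le_max) ((T.frob_check hchk hr).2.2.2.2 s hs x hx).le
  lvl_max r hr s hs x hx := Or.inl ((T.frob_check hchk hr).2.2.2.2 s hs x hx)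
  per_pos r _ := by unfold perF; split <;> omega
  per_eq r hr := by
    unfold perF
    split
    · assumption
    · exact (T.frob_check hchk hr).2.1
  per_min r hr i hi hlt := by
    by_cases h : T.ρ r = r
    · rw [perF, if_pos h] at hlt; omega
    · rw [perF, if_neg h] at hlt
      exact ((T.frob_check hchk hr).2.2.2.1 h).1 i hi hlt
  card_ret r hr := by
    obtain ⟨-, h2, h3, h4, -⟩ := T.frob_check hchk hr
    by_cases h : T.ρ r = r
    · rw [perF, if_pos h, pow_one, hQ]
      congr 1
      rw [← card_pow_eq_self hq hQ]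
      refine Nat.card_congr (Equiv.subtypeEquivRight fun a => ?_)
      rw [Function.iterate_one, Twist.step, hφ, hf, h, h3 h, Int.cast_one, one_mul, Prod.mk.injEq]
      exact ⟨fun e => e.2, fun e => ⟨rfl, e⟩⟩
    · rw [perF, if_neg h]
      congr 1
      refine Nat.card_congr (Equiv.subtypeUnivEquiv fun a => ?_)
      letI : Fintype F := Fintype.ofFinite F
      rw [T.step_iterate hφ, h2, (h4 h).2, Int.cast_one, one_mul, pow_iterate hf, ← hQ,
        Nat.card_eq_fintype_card, FiniteField.pow_card]

/-- Lifts from those at fundamental roots. -/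
theorem frob_lifts (W : T.FixedWeyl) {e : ℕ} (G : T.Grading e) {G₁ : Subgroup (GL D.Idx F)}
    (hle : G₁ ≤ T.fix) (hn : ∀ i < W.N, c.nw F (W.wd i) ∈ G₁)
    (hroot : ∀ r, c.Pos r → ∃ i < W.N, ∃ p < D.rank, c.wl (W.wd i) (D.simple p) = r)
    (hgen : ∀ p < D.rank, ∀ a : F, (T.step)^[G.per (D.simple p)] (D.simple p, a) = (D.simple p, a) →
      ((List.range (G.per (D.simple p))).map fun k =>
        c.xg ((T.step)^[k] (D.simple p, a)).1 ((T.step)^[k] (D.simple p, a)).2).prod ∈ G₁) :
    G.Lifts G₁ := by
  classical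
  intro S hS _ r hr a ha
  have hr' := hS.1 r hr
  obtain ⟨i, hi, p, hp, hw⟩ := hroot r hr'
  obtain ⟨hL, hC, -⟩ := W.flat_spec (W.step_spec i hi).1
  change ∀ x ∈ W.wd i, x < D.rank at hL
  change T.Comm (W.wd i) at hC
  set L := W.wd i
  have hα := c.pos_simple hp
  have hiter : ∀ k, (T.ρ)^[k] r = c.wl L ((T.ρ)^[k] (D.simple p)) ∧
      (T.ρ)^[k] (D.simple p) < D.nroots := by
    intro k
    induction k with
    | zero => exact ⟨hw.symm, hα.2⟩
    | succ k ih =>
      rw [Function.iterate_succ_apply', Function.iterate_succ_apply', ih.1]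
      exact ⟨(hC _ ih.2).symm, T.ρ_lt _ ih.2⟩
  have hper : G.per r = G.per (D.simple p) := by
    have key : ∀ k, (T.ρ)^[k] r = r ↔ (T.ρ)^[k] (D.simple p) = D.simple p := by
      intro k
      rw [(hiter k).1]
      constructor
      · intro h
        exact c.wl_inj hL (hiter k).2 hα.2 (h.trans hw.symm)
      · intro h
        rw [h, hw]
    rcases lt_trichotomy (G.per r) (G.per (D.simple p)) with h | h | h
    · exact absurd ((key _).1 (G.per_eq r hr')) (G.per_min _ hα _ (G.per_pos r hr') h)
    · exact h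
    · exact absurd ((key _).2 (G.per_eq _ hα)) (G.per_min r hr' _ (G.per_pos _ hα) h)
  set σ : F := (c.wsign L (D.simple p) : F)
  have hσ : σ * σ = 1 := c.wsign_sq _ _
  -- the parameter at the fundamental root
  have hσa : (T.step)^[G.per (D.simple p)] (D.simple p, σ * a) = (D.simple p, σ * a) := by
    have hlin : ∀ k x, ((T.step)^[k] (x, σ * a)) =
        (((T.step)^[k] (x, a)).1, σ * ((T.step)^[k] (x, a)).2) := by
      intro k
      induction k with
      | zero => intro x; rfl
      | succ k ih =>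
        intro x
        rw [Function.iterate_succ_apply', ih, Function.iterate_succ_apply', Twist.step, Twist.step]
        refine Prod.ext rfl ?_
        simp only [map_mul, σ, map_intCast]
        ring
    obtain ⟨g, hg⟩ : ∃ g : GL D.Idx F, g = c.nw F L := ⟨_, rfl⟩
    have htrans : ∀ k, ∀ y : F, ((T.step)^[k] (r, y)).2 =
        (c.wsign L ((T.ρ)^[k] (D.simple p)) : F) *
          ((T.step)^[k] (D.simple p, σ * y)).2 := by
      intro k
      induction k with
      | zero => intro y; simp only [Function.iterate_zero, id_eq, σ]; rw [← mul_assoc, hσ, one_mul]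
      | succ k ih =>
        intro y
        set z := ((T.step)^[k] (D.simple p, σ * y)).2
        have hk := (hiter k).2
        -- both sides describe the image of one root element
        have hnf : T.act (c.nw F L) = c.nw F L := (T.mem_fix.1 (hle (hn i hi))).2
        have hnG : c.nw F L ∈ D.group F := c.N_le_group (c.nw_mem_N hL)
        have e := congrArg T.act (c.nw_mul_xg (F := F) hL hk z)
        rw [T.act_mul hnG (c.xg_mem_group hk _), T.act_mul (c.xg_mem_group (c.wl_lt hL hk) _) hnG,
          hnf, T.act_xg hk, T.act_xg (c.wl_lt hL hk), c.nw_mul_xg hL (T.ρ_lt _ hk),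
          mul_left_inj, hC _ hk] at e
        have e2 := c.xg_inj (T.ρ_lt _ (c.wl_lt hL hk)) e
        rw [Function.iterate_succ_apply', Function.iterate_succ_apply',
          Function.iterate_succ_apply', Twist.step, T.step_fst, Twist.step, T.step_fst, ih,
          (hiter k).1]
        exact e2.symm
    have h := htrans (G.per (D.simple p)) a
    rw [← hper, ha, hper, G.per_eq _ hα] at h
    refine Prod.ext ?_ ?_
    · rw [T.step_fst]; exact G.per_eq _ hα
    · simp only at h ⊢
      calc ((T.step)^[G.per (D.simple p)] (D.simple p, σ * a)).2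
          = σ * (σ * ((T.step)^[G.per (D.simple p)] (D.simple p, σ * a)).2) := by
            rw [← mul_assoc, hσ, one_mul]
        _ = σ * a := by rw [← h]
  have hmem := hgen p hp (σ * a) hσa
  set b : ℕ → F := fun x => if h : ∃ k, k < G.per r ∧ (T.ρ)^[k] r = x then
    (c.wsign L ((T.ρ)^[Nat.find h] (D.simple p)) : F) *
      ((T.step)^[Nat.find h] (D.simple p, σ * a)).2 else 0 with hbdef
  have hb : ∀ k < G.per r, b ((T.ρ)^[k] r) = (c.wsign L ((T.ρ)^[k] (D.simple p)) : F) *
      ((T.step)^[k] (D.simple p, σ * a)).2 := by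
    intro k hk
    have h : ∃ j, j < G.per r ∧ (T.ρ)^[j] r = (T.ρ)^[k] r := ⟨k, hk, rfl⟩
    simp only [hbdef, dif_pos h]
    rw [G.iterate_inj hr' (Nat.find_spec h).1 hk (Nat.find_spec h).2]
  have hb0 : b r = a := by
    have := hb 0 (G.per_pos r hr')
    simp only [Function.iterate_zero, id_eq, σ] at this
    rw [this, ← mul_assoc, hσ, one_mul]
  have hprod : ∀ K : List ℕ, (∀ k ∈ K, k < G.per r) →
      c.nw F L * (K.map fun k => c.xg ((T.step)^[k] (D.simple p, σ * a)).1
        ((T.step)^[k] (D.simple p, σ * a)).2).prod * (c.nw F L)⁻¹ =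
      (K.map fun k => c.xg ((T.ρ)^[k] r) (b ((T.ρ)^[k] r))).prod := by
    intro K
    induction K with
    | nil => simp
    | cons k K ih =>
      intro hK
      rw [List.map_cons, List.map_cons, List.prod_cons, List.prod_cons,
        ← ih fun x hx => hK x (by simp [hx]), hb k (hK k (by simp)), (hiter k).1, T.step_fst]
      have e := c.nw_mul_xg (F := F) hL (hiter k).2 ((T.step)^[k] (D.simple p, σ * a)).2
      rw [eq_comm, ← eq_mul_inv_iff_mul_eq] at e
      rw [e]
      group
  refine ⟨_, ?_, b, hb0, 1, one_mem _, (mul_one _).symm⟩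
  rw [← hprod _ fun k hk => List.mem_range.1 hk, hper]
  have hG := G₁.mul_mem (G₁.mul_mem (hn i hi) hmem) (G₁.inv_mem (hn i hi))
  exact ⟨hG, hle hG⟩

end Twist

namespace CertFull

variable {D : ChevalleyDatum} (c : CertFull D) {F : Type*} [Field F]

include c

theorem xg_commute {r s : ℕ} (hr : r < D.nroots) (hs : s < D.nroots) (h1 : s ≠ r)
    (h2 : s ≠ D.neg r) (h : c.T.commTerms r s = []) (t u : F) :
    Commute (c.xg r t) (c.xg s u) := by
  have e := c.xg_comm hr hs h1 h2 t u
  rw [h, List.map_nil, List.prod_nil, mul_one] at e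
  exact e.symm

end CertFull

end Cfsg.Agent.Lie.Chev
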