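import Cfsg.Agent.Lib.Lie.Chev.CertsFull
import Cfsg.Agent.Lib.Lie.Chev.BN
import Cfsg.Agent.Lib.Lie.Chev.Bruhat
import Cfsg.Agent.Lib.Lie.Chev.Props
import Cfsg.Agent.Lib.Lie.Chev.TwistFrob
import Cfsg.Agent.Lib.Lie.BNTits

/-! An automorphism of a finite Chevalley group, composed with an inner one, fixes both unipotent
subgroups and permutes the fundamental root subgroups. -/

set_option autoImplicit false

namespace Cfsg.Agent.Lie.Chev

open Cfsg.Lie Matrix
open scoped Pointwise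

/-- `θ` maps the part of `S` in the group onto itself. -/
def Fix {D : ChevalleyDatum} {F : Type*} [Field F] (θ : ↥(D.group F) ≃* ↥(D.group F))
    (S : Subgroup (GL D.Idx F)) : Prop :=
  ∀ g : ↥(D.group F), (θ g : GL D.Idx F) ∈ S ↔ (g : GL D.Idx F) ∈ S

namespace CertFull

variable {D : ChevalleyDatum} (c : CertFull D) {F : Type*} [Field F]

include c

theorem xg_mem_group_all (r : ℕ) (t : F) : c.xg r t ∈ D.group F := by
  by_cases hr : r < D.nroots
  · exact c.xg_mem_group hr t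
  · rw [show c.xg r t = 1 from Units.ext (by simp [ChevalleyDatum.x, hr])]
    exact one_mem _

/-- The root element as an element of the group. -/
def xG (r : ℕ) (t : F) : ↥(D.group F) := ⟨c.xg r t, c.xg_mem_group_all r t⟩

@[simp] theorem xG_coe (r : ℕ) (t : F) : (c.xG r t : GL D.Idx F) = c.xg r t := rfl

theorem xG_add (r : ℕ) (t u : F) : c.xG r (t + u) = c.xG r t * c.xG r u :=
  Subtype.ext (c.xg_add r t u)

theorem U_le_group : D.posUnipotent F ≤ D.group F := le_sup_left.trans c.B_le_group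

theorem V_le_group : D.negUnipotent F ≤ D.group F := le_sup_right.trans c.sup_neg_eq_group.le

theorem B_le_normalizer_U :
    D.borelSubgroup F ≤ Subgroup.normalizer (D.posUnipotent F : Set (GL D.Idx F)) :=
  sup_le Subgroup.le_normalizer c.H_le_normalizer_U

theorem conj_B_U {b v : GL D.Idx F} (hb : b ∈ D.borelSubgroup F) (hv : v ∈ D.posUnipotent F) :
    b * v * b⁻¹ ∈ D.posUnipotent F :=
  (Subgroup.mem_normalizer_iff.1 (c.B_le_normalizer_U hb) v).1 hv

theorem eq_zero_of_mem {r : ℕ} (hr : r < D.nroots) (hp : ¬ c.Pos r) {t : F}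
    (h : c.xg r t ∈ D.borelSubgroup F) : t = 0 := by
  have h2 := c.borel_inf_negUnipotent.1.le ⟨h, c.xg_mem_V hr hp t⟩
  rwa [Subgroup.mem_bot, c.xg_eq_one_iff hr] at h2

/-- The normaliser of the positive unipotent subgroup is the Borel subgroup. -/
theorem mem_B_of_conj {g : GL D.Idx F} (hg : g ∈ D.group F)
    (h : ∀ v ∈ D.posUnipotent F, g * v * g⁻¹ ∈ D.posUnipotent F) : g ∈ D.borelSubgroup F := by
  obtain ⟨b, hb, a, ha, L, hL, u, hu, rfl⟩ := c.bruhat_exists hg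
  have huU := c.KS_invSet_le_U hL hu
  refine mul_mem (mul_mem hb (c.H_le_B (c.mem_H_of_wl ha hL fun q hq => ?_)))
    (Subgroup.mem_sup_left huU)
  have hα := c.simple_lt hq
  by_contra hp
  obtain ⟨k, hk, hconj⟩ := c.mono_mul_xg ha hL hα
  have h1 : a * c.nw F L * c.xg (D.simple q) 1 * (a * c.nw F L)⁻¹ ∈ D.posUnipotent F := by
    have h2 := h _ (mul_mem (mul_mem (inv_mem huU) (c.xg_mem_U (c.pos_simple hq) (1 : F))) huU)
    have h3 := c.conj_B_U (inv_mem hb) h2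
    simpa [mul_assoc] using h3
  rw [hconj, mul_inv_cancel_right, mul_one] at h1
  exact hk (c.eq_zero_of_mem (c.wl_lt hL hα) hp (Subgroup.mem_sup_left h1))

theorem mem_B_iff_conj {g : GL D.Idx F} (hg : g ∈ D.group F) :
    g ∈ D.borelSubgroup F ↔ ∀ v ∈ D.posUnipotent F, g * v * g⁻¹ ∈ D.posUnipotent F :=
  ⟨fun hb _ hv => c.conj_B_U hb hv, c.mem_B_of_conj hg⟩

theorem H_pow_card_sub_one [Fintype F] {a : GL D.Idx F} (ha : a ∈ D.diagonalSubgroup F) :
    a ^ (Fintype.card F - 1) = 1 := by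
  rw [c.diagonalSubgroup_eq] at ha
  obtain ⟨z, rfl⟩ := ha
  rw [← map_pow]
  convert map_one (c.torus (F := F))
  funext i
  rw [Pi.pow_apply, Pi.one_apply]
  exact Units.ext (by
    rw [Units.val_pow_eq_pow_val, Units.val_one]
    exact FiniteField.pow_card_sub_one_eq_one _ (Units.ne_zero _))

theorem exists_pow_mul {u a : GL D.Idx F} (hu : u ∈ D.posUnipotent F)
    (ha : a ∈ D.diagonalSubgroup F) (m : ℕ) :
    ∃ w ∈ D.posUnipotent F, (u * a) ^ m = w * a ^ m := by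
  induction m with
  | zero => exact ⟨1, one_mem _, by simp⟩
  | succ m ih =>
    obtain ⟨w, hw, e⟩ := ih
    refine ⟨w * (a ^ m * u * (a ^ m)⁻¹),
      mul_mem hw (c.conj_B_U (c.H_le_B (pow_mem ha m)) hu), ?_⟩
    rw [pow_succ, e, pow_succ]
    group

/-- Elements of `B` of order a power of the characteristic lie in `U`. -/
theorem mem_U_of_coprime [Fintype F] {g : GL D.Idx F} (hg : g ∈ D.borelSubgroup F)
    (hc : (Fintype.card F - 1).Coprime (orderOf g)) : g ∈ D.posUnipotent F := by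
  obtain ⟨u, hu, a, ha, rfl⟩ := c.mem_borel_iff.1 hg
  obtain ⟨w, hw, e⟩ := c.exists_pow_mul hu ha (Fintype.card F - 1)
  obtain ⟨m, hm⟩ := exists_pow_eq_self_of_coprime hc
  rw [← hm, e, c.H_pow_card_sub_one ha, mul_one]
  exact pow_mem hw m

/-- `U` is a Sylow subgroup: a subgroup of the same order is a conjugate of it. -/
theorem exists_conj_U [Finite F] (S : Subgroup ↥(D.group F))
    (hS : Nat.card S = Nat.card ((D.posUnipotent F).subgroupOf (D.group F))) :
    ∃ x : ↥(D.group F), ∀ g : ↥(D.group F),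
      g ∈ S ↔ ((x * g * x⁻¹ : ↥(D.group F)) : GL D.Idx F) ∈ D.posUnipotent F := by
  cases nonempty_fintype F
  obtain ⟨p, hchar⟩ := CharP.exists F
  obtain ⟨n, hp, hn⟩ := FiniteField.card F p
  have := Fact.mk hp
  set U' := (D.posUnipotent F).subgroupOf (D.group F) with hU'
  have hcard : Nat.card U' = p ^ ((n : ℕ) * (D.nroots / 2)) := by
    rw [Nat.card_congr (Subgroup.subgroupOfEquivOfLe c.U_le_group).toEquiv, pow_mul, ← hn]
    exact c.card_posUnipotent (F := F)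
  obtain ⟨Q, hQ⟩ := (IsPGroup.of_card (G := U') hcard).exists_le_sylow
  have hQU : (Q : Subgroup ↥(D.group F)) = U' := by
    refine le_antisymm ?_ hQ
    by_contra hne
    have : Group.IsNilpotent ↥(Q : Subgroup ↥(D.group F)) := Q.isPGroup'.isNilpotent
    have hlt : U'.subgroupOf Q < ⊤ := lt_top_iff_ne_top.2 fun e =>
      hne (Subgroup.subgroupOf_eq_top.1 e)
    obtain ⟨g, hg, hgn⟩ := Set.exists_of_ssubset
      (normalizerCondition_of_isNilpotent (G := ↥(Q : Subgroup ↥(D.group F))) _ hlt)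
    have hB : ((g : ↥(D.group F)) : GL D.Idx F) ∈ D.borelSubgroup F := by
      refine c.mem_B_of_conj (g : ↥(D.group F)).2 fun v hv => ?_
      exact (Subgroup.mem_normalizer_iff.1 hg ⟨⟨v, c.U_le_group hv⟩, hQ hv⟩).1 hv
    refine hgn (c.mem_U_of_coprime hB ?_)
    obtain ⟨k, hk⟩ := IsPGroup.iff_orderOf.1 Q.isPGroup' g
    rw [orderOf_injective (D.group F).subtype Subtype.val_injective,
      orderOf_injective (Q : Subgroup ↥(D.group F)).subtype Subtype.val_injective, hk, hn]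
    refine Nat.Coprime.pow_right k ((hp.coprime_iff_not_dvd).2 ?_).symm
    intro hd
    have h1 : 1 ≤ p ^ (n : ℕ) := Nat.one_le_pow _ _ hp.pos
    have h2 : p ∣ p ^ (n : ℕ) := dvd_pow_self p n.2.ne'
    have h3 := Nat.dvd_sub h2 hd
    rw [Nat.sub_sub_self h1] at h3
    exact hp.one_lt.ne' (Nat.dvd_one.1 h3)
  obtain ⟨R, hR⟩ := (IsPGroup.of_card (G := S) (hS.trans hcard)).exists_le_sylow
  obtain ⟨x, hx⟩ := MulAction.exists_smul_eq ↥(D.group F) R Q
  have hcR : Nat.card (R : Subgroup ↥(D.group F)) = Nat.card U' := by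
    rw [← hQU]; exact Sylow.card_eq_multiplicity R |>.trans (Sylow.card_eq_multiplicity Q).symm
  have hSR : S = R := Subgroup.eq_of_le_of_card_ge hR (by rw [hcR, hS])
  refine ⟨x, fun g => ?_⟩
  rw [hSR]
  have e : (Q : Subgroup ↥(D.group F)) = MulAut.conj x • (R : Subgroup ↥(D.group F)) := by
    rw [← hx]; rfl
  have : x * g * x⁻¹ ∈ (Q : Subgroup ↥(D.group F)) ↔ g ∈ (R : Subgroup ↥(D.group F)) := by
    rw [e, ← MulAut.conj_apply, ← MulAut.smul_def]
    exact Subgroup.smul_mem_pointwise_smul_iff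
  rw [← this, hQU]
  exact Subgroup.mem_subgroupOf

theorem V_eq_map [Finite F] {a : GL D.Idx F} (ha : a ∈ D.diagonalSubgroup F) {L : List ℕ}
    (hL : ∀ p ∈ L, p < D.rank) (hlong : ∀ r, c.Pos r → ¬ c.Pos (c.wl L r)) :
    (D.posUnipotent F).map (MulAut.conj (a * c.nw F L)).toMonoidHom = D.negUnipotent F := by
  refine Subgroup.eq_of_le_of_card_ge ?_ ?_
  · rw [ChevalleyDatum.posUnipotent, MonoidHom.map_closure, Subgroup.closure_le]
    rintro x ⟨g, ⟨r, t, hr, hg⟩, rfl⟩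
    obtain rfl := c.eq_xg_iff.1 hg
    have hr' := c.posRoot_iff.1 hr
    exact (c.conj_rootSubgroup_le_V_iff ha hL hr'.2).2 (hlong r hr')
      ⟨_, c.mem_rootSubgroup_iff.2 ⟨t, rfl⟩, rfl⟩
  · obtain ⟨n, -, hn⟩ := c.exists_U_map_V (F := F)
    rw [← hn, Subgroup.card_map_of_injective (MulEquiv.injective _),
      Subgroup.card_map_of_injective (MulEquiv.injective _)]

theorem mem_U_iff_conj_mem_V [Finite F] {a : GL D.Idx F} (ha : a ∈ D.diagonalSubgroup F) {L : List ℕ}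
    (hL : ∀ p ∈ L, p < D.rank) (hlong : ∀ r, c.Pos r → ¬ c.Pos (c.wl L r)) (g : GL D.Idx F) :
    g ∈ D.posUnipotent F ↔ a * c.nw F L * g * (a * c.nw F L)⁻¹ ∈ D.negUnipotent F := by
  rw [← c.V_eq_map ha hL hlong]
  exact (Subgroup.mem_map_iff_mem (MulEquiv.injective _)).symm

theorem mem_V_conj {b v : GL D.Idx F} (hb : b ∈ D.diagonalSubgroup F) :
    b * v * b⁻¹ ∈ D.negUnipotent F ↔ v ∈ D.negUnipotent F :=
  (Subgroup.mem_normalizer_iff.1 (c.H_le_normalizer_V hb) v).symm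

/-- An automorphism differs by an inner one from one fixing `U` and `V`. -/
theorem exists_fix_UV [Finite F] (θ : ↥(D.group F) ≃* ↥(D.group F)) :
    ∃ x : ↥(D.group F), Fix (θ.trans (MulAut.conj x)) (D.posUnipotent F) ∧
      Fix (θ.trans (MulAut.conj x)) (D.negUnipotent F) := by
  have hcard : ∀ ψ : ↥(D.group F) ≃* ↥(D.group F), ∀ S : Subgroup ↥(D.group F),
      Nat.card (S.map ψ.toMonoidHom) = Nat.card S := fun ψ S =>
    Subgroup.card_map_of_injective ψ.injective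
  obtain ⟨x, hx⟩ := c.exists_conj_U
    (((D.posUnipotent F).subgroupOf (D.group F)).map θ.toMonoidHom) (hcard θ _)
  set θ₁ := θ.trans (MulAut.conj x) with hθ₁
  have hU : Fix θ₁ (D.posUnipotent F) := by
    intro g
    rw [show θ₁ g = x * θ g * x⁻¹ from rfl, ← hx, Subgroup.mem_map_equiv, Subgroup.mem_subgroupOf]
    simp
  have hVc : Nat.card (((D.negUnipotent F).subgroupOf (D.group F)).map θ₁.toMonoidHom) =
      Nat.card ((D.posUnipotent F).subgroupOf (D.group F)) := by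
    obtain ⟨n, -, hn⟩ := c.exists_U_map_V (F := F)
    rw [hcard θ₁, Nat.card_congr (Subgroup.subgroupOfEquivOfLe c.V_le_group).toEquiv,
      Nat.card_congr (Subgroup.subgroupOfEquivOfLe c.U_le_group).toEquiv, ← hn,
      Subgroup.card_map_of_injective (MulEquiv.injective _)]
  obtain ⟨y, hy⟩ := c.exists_conj_U _ hVc
  -- `θ₁ g ∈ θ₁ V` exactly if its `y`-conjugate lies in `U`
  have hy' : ∀ g : ↥(D.group F), (g : GL D.Idx F) ∈ D.negUnipotent F ↔
      (y : GL D.Idx F) * (θ₁ g : GL D.Idx F) * (y : GL D.Idx F)⁻¹ ∈ D.posUnipotent F := by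
    intro g
    have h := hy (θ₁ g)
    rw [Subgroup.mem_map_equiv, MulEquiv.symm_apply_apply, Subgroup.mem_subgroupOf] at h
    simpa using h
  obtain ⟨b, hb, a, ha, L, hL, u, hu, e⟩ := c.bruhat_exists (inv_mem y.2)
  set n := a * c.nw F L with hn
  have huU := c.KS_invSet_le_U hL hu
  have hlong : ∀ r, c.Pos r → ¬ c.Pos (c.wl L r) := by
    intro r hr hp
    obtain ⟨k, hk, hconj⟩ := c.mono_mul_xg ha hL hr.2
    set v := u⁻¹ * c.xg r (1 : F) * u with hv
    have hvU : v ∈ D.posUnipotent F := mul_mem (mul_mem (inv_mem huU) (c.xg_mem_U hr 1)) huU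
    have e1 : (y : GL D.Idx F)⁻¹ * v * (y : GL D.Idx F) = b * c.xg (c.wl L r) k * b⁻¹ := by
      calc (y : GL D.Idx F)⁻¹ * v * (y : GL D.Idx F) =
          (y : GL D.Idx F)⁻¹ * v * ((y : GL D.Idx F)⁻¹)⁻¹ := by rw [inv_inv]
        _ = b * (n * c.xg r 1 * n⁻¹) * b⁻¹ := by rw [e, hv]; group
        _ = _ := by rw [hn, hconj, mul_inv_cancel_right, mul_one]
    have hwU : (y : GL D.Idx F)⁻¹ * v * (y : GL D.Idx F) ∈ D.posUnipotent F :=
      e1 ▸ c.conj_B_U hb (c.xg_mem_U hp k)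
    obtain ⟨g, hg⟩ := θ₁.surjective ⟨_, c.U_le_group hwU⟩
    have hgU : (g : GL D.Idx F) ∈ D.posUnipotent F := (hU g).1 (by rw [hg]; exact hwU)
    have hgV : (g : GL D.Idx F) ∈ D.negUnipotent F := by
      rw [hy', hg]
      simpa [mul_assoc] using hvU
    have h1 := c.borel_inf_negUnipotent.1.le ⟨Subgroup.mem_sup_left hgU, hgV⟩
    rw [Subgroup.mem_bot] at h1
    rw [show g = 1 from Subtype.ext h1, map_one] at hg
    have h2 : b * c.xg (c.wl L r) k * b⁻¹ = 1 := e1 ▸ (congrArg Subtype.val hg).symm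
    rw [conj_eq_one_iff, c.xg_eq_one_iff (c.wl_lt hL hr.2)] at h2
    exact hk h2
  obtain ⟨v, hv, d, hd, rfl⟩ := c.mem_borel_iff.1 hb
  refine ⟨⟨v, c.U_le_group hv⟩⁻¹ * x, fun g => ?_, fun g => ?_⟩
  · rw [map_mul]
    show (v⁻¹ * (θ₁ g : GL D.Idx F) * v⁻¹⁻¹) ∈ _ ↔ _
    rw [← hU g]
    exact (Subgroup.mem_normalizer_iff.1
      (c.B_le_normalizer_U (Subgroup.mem_sup_left (inv_mem hv))) _).symm
  · rw [map_mul]
    show (v⁻¹ * (θ₁ g : GL D.Idx F) * v⁻¹⁻¹) ∈ _ ↔ _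
    have huc : ∀ z, u⁻¹ * z * u ∈ D.posUnipotent F ↔ z ∈ D.posUnipotent F := fun z => by
      rw [Subgroup.mul_mem_cancel_right _ huU, Subgroup.mul_mem_cancel_left _ (inv_mem huU)]
    have e3 : (y : GL D.Idx F) * (θ₁ g : GL D.Idx F) * (y : GL D.Idx F)⁻¹ =
        u⁻¹ * (n⁻¹ * (d⁻¹ * (v⁻¹ * (θ₁ g : GL D.Idx F) * v⁻¹⁻¹) * d⁻¹⁻¹) * n) * u := by
      rw [show (y : GL D.Idx F) = (v * d * n * u)⁻¹ by rw [← e, inv_inv]]
      group
    rw [hy', e3, huc, c.mem_U_iff_conj_mem_V ha hL hlong, ← hn,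
      ← c.mem_V_conj (v := v⁻¹ * (θ₁ g : GL D.Idx F) * v⁻¹⁻¹) (inv_mem hd)]
    simp [mul_assoc]

theorem mem_B_of_fix {θ : ↥(D.group F) ≃* ↥(D.group F)} (hU : Fix θ (D.posUnipotent F)) :
    Fix θ (D.borelSubgroup F) := by
  intro g
  rw [c.mem_B_iff_conj (θ g).2, c.mem_B_iff_conj g.2]
  constructor
  · intro h v hv
    have h1 := h _ ((hU ⟨v, c.U_le_group hv⟩).2 hv)
    rw [← Subgroup.coe_inv, ← map_inv, ← Subgroup.coe_mul, ← map_mul, ← Subgroup.coe_mul,
      ← map_mul, hU] at h1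
    exact h1
  · intro h v hv
    obtain ⟨w, hw⟩ := θ.surjective ⟨v, c.U_le_group hv⟩
    have hwU : (w : GL D.Idx F) ∈ D.posUnipotent F := (hU w).1 (by rw [hw]; exact hv)
    rw [show v = (θ w : GL D.Idx F) by rw [hw], ← Subgroup.coe_inv, ← map_inv, ← Subgroup.coe_mul,
      ← map_mul, ← Subgroup.coe_mul, ← map_mul, hU]
    exact h w hwU

theorem mem_H_of_fix [Finite F] {θ : ↥(D.group F) ≃* ↥(D.group F)}
    (hU : Fix θ (D.posUnipotent F)) (hV : Fix θ (D.negUnipotent F)) {g : ↥(D.group F)}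
    (hg : (g : GL D.Idx F) ∈ D.diagonalSubgroup F) :
    (θ g : GL D.Idx F) ∈ D.diagonalSubgroup F := by
  obtain ⟨u, hu, a, ha, e⟩ := c.mem_borel_iff.1 ((c.mem_B_of_fix hU g).2 (c.H_le_B hg))
  have huV : ∀ w ∈ D.negUnipotent F, u * w * u⁻¹ ∈ D.negUnipotent F := by
    intro w hw
    have hw' : a⁻¹ * w * a ∈ D.negUnipotent F := by
      have := (c.mem_V_conj (v := w) (inv_mem ha)).2 hw
      rwa [inv_inv] at this
    obtain ⟨z, hz⟩ := θ.surjective ⟨_, c.V_le_group hw'⟩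
    have h1 := (hV (g * z * g⁻¹)).2 (by
      rw [Subgroup.coe_mul, Subgroup.coe_mul, Subgroup.coe_inv]
      exact (c.mem_V_conj hg).2 ((hV z).1 (by rw [hz]; exact hw')))
    rw [map_mul, map_mul, map_inv, hz] at h1
    simp only [Subgroup.coe_mul, Subgroup.coe_inv, e] at h1
    simpa [mul_assoc] using h1
  obtain ⟨L, hL, hlong⟩ := c.exists_longest
  set n := (1 : GL D.Idx F) * c.nw F L with hn
  have hnN : n ∈ D.monomialSubgroup F := mul_mem (one_mem _) (c.nw_mem_N hL)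
  have hB : n⁻¹ * u * n ∈ D.borelSubgroup F := by
    refine c.mem_B_of_conj (mul_mem (mul_mem (inv_mem (c.N_le_group hnN)) (c.U_le_group hu))
      (c.N_le_group hnN)) fun w hw => ?_
    rw [c.mem_U_iff_conj_mem_V (one_mem _) hL hlong] at hw ⊢
    rw [← hn] at hw ⊢
    have := huV _ hw
    simpa [mul_assoc] using this
  obtain ⟨w, hw, b, hb, e2⟩ := c.mem_borel_iff.1 hB
  have hu2 : u ∈ D.diagonalSubgroup F := by
    refine c.borel_inf_negUnipotent.2.le ⟨Subgroup.mem_sup_left hu, ?_⟩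
    rw [show u = (n * w * n⁻¹) * (n * b * n⁻¹) by
      rw [show n * w * n⁻¹ * (n * b * n⁻¹) = n * (w * b) * n⁻¹ by group, ← e2]; group]
    exact mul_mem (Subgroup.mem_sup_left ((c.mem_U_iff_conj_mem_V (one_mem _) hL hlong _).1 hw))
      (Subgroup.mem_sup_right (c.N_conj_H hnN hb))
  rw [e]
  exact mul_mem hu2 ha

end CertFull

end Cfsg.Agent.Lie.Chev
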