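import Cfsg.Agent.Lib.Lie.Chev.Poincare
import Cfsg.Agent.Lib.Lie.Chev.Bruhat

/-! The order of a finite Chevalley group. -/

set_option autoImplicit false

namespace Cfsg.Agent.Lie.Chev

open Cfsg.Lie Matrix

/-! ### Polynomials as coefficient lists -/

/-- Value of a coefficient list. -/
def evalP (x : ℤ) : List ℤ → ℤ
  | [] => 0
  | a :: p => a + x * evalP x p

/-- Sum of coefficient lists. -/
def addP : List ℤ → List ℤ → List ℤ
  | [], q => q
  | p, [] => p
  | a :: p, b :: q => (a + b) :: addP p q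

/-- Product of coefficient lists. -/
def mulP : List ℤ → List ℤ → List ℤ
  | [], _ => []
  | a :: p, q => addP (q.map (a * ·)) (0 :: mulP p q)

/-- A monomial. -/
def monoP (n : ℕ) : List ℤ := List.replicate n 0 ++ [1]

theorem evalP_addP (x : ℤ) : ∀ p q, evalP x (addP p q) = evalP x p + evalP x q
  | [], q => by simp [addP, evalP]
  | a :: p, [] => by simp [addP, evalP]
  | a :: p, b :: q => by simp [addP, evalP, evalP_addP x p q]; ring

theorem evalP_smul (x a : ℤ) : ∀ q : List ℤ, evalP x (q.map (a * ·)) = a * evalP x q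
  | [] => by simp [evalP]
  | b :: q => by simp [evalP, evalP_smul x a q]; ring

theorem evalP_mulP (x : ℤ) : ∀ p q, evalP x (mulP p q) = evalP x p * evalP x q
  | [], q => by simp [mulP, evalP]
  | a :: p, q => by simp [mulP, evalP_addP, evalP_smul, evalP, evalP_mulP x p q]; ring

theorem evalP_monoP (x : ℤ) : ∀ n, evalP x (monoP n) = x ^ n
  | 0 => by simp [monoP, evalP]
  | n + 1 => by
    have := evalP_monoP x n
    simp only [monoP] at this
    simp [monoP, List.replicate_succ, evalP, this, pow_succ, mul_comm]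

/-- The generating function of the lengths of a level. -/
def levelPoly (R : List Rep) : List ℤ := R.foldr (fun d acc => addP (monoP d.word.length) acc) []

/-- The product of the level generating functions times `(X - 1)^l`. -/
def lhsPoly (l : ℕ) (Ls : List (List Rep)) : List ℤ :=
  (Ls.map levelPoly ++ List.replicate l [-1, 1]).foldr mulP [1]

/-- The product of `X^d - 1`. -/
def rhsPoly (ds : List ℕ) : List ℤ :=
  (ds.map fun d => addP [-1] (monoP d)).foldr mulP [1]

/-- Vanishing of every coefficient. -/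
def isZeroP (p : List ℤ) : Bool := p.all intZero

theorem evalP_isZeroP (x : ℤ) : ∀ p, isZeroP p = true → evalP x p = 0
  | [], _ => rfl
  | a :: p, h => by
    simp only [isZeroP, List.all_cons, Bool.and_eq_true] at h
    simp [evalP, intZero_iff.1 h.1, evalP_isZeroP x p h.2]

/-- The polynomial identity behind the order formula. -/
def checkPoly (l : ℕ) (Ls : List (List Rep)) (ds : List ℕ) : Bool :=
  isZeroP (addP (lhsPoly l Ls) ((rhsPoly ds).map (-1 * ·)))

theorem evalP_foldr (x : ℤ) : ∀ ps : List (List ℤ),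
    evalP x (ps.foldr mulP [1]) = (ps.map (evalP x)).prod
  | [] => by simp [evalP]
  | p :: ps => by simp [evalP_mulP, evalP_foldr x ps]

theorem evalP_levelPoly (x : ℤ) : ∀ R : List Rep,
    evalP x (levelPoly R) = (R.map fun d => x ^ d.word.length).sum
  | [] => rfl
  | d :: R => by
    have := evalP_levelPoly x R
    simp only [levelPoly] at this
    simp [levelPoly, evalP_addP, evalP_monoP, this]

theorem checkPoly_eq {l : ℕ} {Ls : List (List Rep)} {ds : List ℕ}
    (h : checkPoly l Ls ds = true) (x : ℤ) :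
    (Ls.map fun R => (R.map fun d => x ^ d.word.length).sum).prod * (x - 1) ^ l =
      (ds.map fun d => x ^ d - 1).prod := by
  have h0 := evalP_isZeroP x _ h
  rw [evalP_addP, evalP_smul, neg_one_mul (evalP x (rhsPoly ds)), ← sub_eq_add_neg, sub_eq_zero,
    lhsPoly, rhsPoly,
    evalP_foldr, evalP_foldr, List.map_append, List.prod_append, List.map_map, List.map_map,
    List.map_replicate, List.prod_replicate] at h0
  have e1 : Ls.map (evalP x ∘ levelPoly) = Ls.map fun R => (R.map fun d => x ^ d.word.length).sum :=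
    List.map_congr_left fun R _ => evalP_levelPoly x R
  have e2 : (ds.map (evalP x ∘ fun d => addP [-1] (monoP d))) = ds.map fun d => x ^ d - 1 :=
    List.map_congr_left fun d _ => by
      simp [evalP_addP, evalP_monoP, evalP, sub_eq_neg_add]
  have e3 : evalP x [-1, 1] = x - 1 := by simp [evalP, sub_eq_neg_add]
  rw [e1, e2, e3] at h0
  exact h0

/-! ### Unimodular diagonalisation and cards of power maps -/

section MPow

variable {G : Type*} [CommGroup G] {l : ℕ}

/-- The homomorphism of `G^l` of an integer matrix. -/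
def mpow (M : Matrix (Fin l) (Fin l) ℤ) : (Fin l → G) →* (Fin l → G) where
  toFun z j := ∏ i, z i ^ M i j
  map_one' := by funext j; simp
  map_mul' z y := by funext j; simp [mul_zpow, Finset.prod_mul_distrib]

theorem zpow_sum_eq {ι : Type*} (s : Finset ι) (a : G) (f : ι → ℤ) :
    ∏ i ∈ s, a ^ f i = a ^ ∑ i ∈ s, f i := by
  classical
  induction s using Finset.induction_on with
  | empty => simp
  | insert i s hi ih => rw [Finset.prod_insert hi, Finset.sum_insert hi, ih, _root_.zpow_add]

theorem mpow_mul (M N : Matrix (Fin l) (Fin l) ℤ) (z : Fin l → G) :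
    mpow (M * N) z = mpow N (mpow M z) := by
  funext j
  show ∏ i, z i ^ (M * N) i j = ∏ k, (∏ i, z i ^ M i k) ^ N k j
  simp only [← Finset.prod_zpow, ← _root_.zpow_mul]
  rw [Finset.prod_comm]
  refine Finset.prod_congr rfl fun i _ => ?_
  rw [zpow_sum_eq, Matrix.mul_apply]

theorem mpow_one (z : Fin l → G) : mpow (1 : Matrix (Fin l) (Fin l) ℤ) z = z := by
  funext j
  show ∏ i, z i ^ (1 : Matrix (Fin l) (Fin l) ℤ) i j = z j
  rw [Finset.prod_eq_single j]
  · simp
  · intro b _ hb; simp [Matrix.one_apply_ne hb]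
  · simp

theorem card_range_mpow [Finite G] [IsCyclic G] {A P P' Q Q' : Matrix (Fin l) (Fin l) ℤ}
    (d : Fin l → ℕ) (hP : P * P' = 1) (hP' : P' * P = 1) (hQ : Q * Q' = 1) (hQ' : Q' * Q = 1)
    (hA : P * A * Q = Matrix.diagonal (fun i => (d i : ℤ))) :
    Nat.card (mpow (G := G) A).range = ∏ i, Nat.card G / (Nat.card G).gcd (d i) := by
  have hA' : A = P' * Matrix.diagonal (fun i => (d i : ℤ)) * Q' :=
    calc A = (P' * P) * A * (Q * Q') := by rw [hP', hQ, one_mul, mul_one]
      _ = _ := by rw [← hA]; simp only [mul_assoc]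
  set Dg := mpow (G := G) (Matrix.diagonal (fun i => (d i : ℤ))) with hDg
  have e1 : ∀ y, y ∈ (mpow (G := G) A).range ↔ mpow Q y ∈ Dg.range := by
    intro y
    constructor
    · rintro ⟨z, rfl⟩
      refine ⟨mpow P' z, ?_⟩
      rw [hDg, ← mpow_mul, ← mpow_mul]
      congr 2
      rw [hA', mul_assoc (P' * _) Q' Q, hQ', mul_one]
    · rintro ⟨z, hz⟩
      refine ⟨mpow P z, ?_⟩
      rw [← mpow_mul, ← mpow_one y, ← hQ, mpow_mul Q Q' y, ← hz, hDg, ← mpow_mul]
      congr 2
      rw [hA', ← mul_assoc, ← mul_assoc, hP, one_mul]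
  let E : (mpow (G := G) A).range ≃ Dg.range :=
    { toFun := fun y => ⟨mpow Q y.1, (e1 y.1).1 y.2⟩
      invFun := fun x => ⟨mpow Q' x.1, (e1 _).2 (by rw [← mpow_mul, hQ', mpow_one]; exact x.2)⟩
      left_inv := fun y => Subtype.ext (by simp [← mpow_mul, hQ, mpow_one])
      right_inv := fun x => Subtype.ext (by simp [← mpow_mul, hQ', mpow_one]) }
  rw [Nat.card_congr E]
  have hdiag : ∀ z i, Dg z i = z i ^ d i := by
    intro z i
    show ∏ k, z k ^ Matrix.diagonal (fun i => (d i : ℤ)) k i = _
    rw [Finset.prod_eq_single i]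
    · simp
    · intro b _ hb; simp [hb]
    · simp
  let E2 : Dg.range ≃ ((i : Fin l) → (powMonoidHom (d i) : G →* G).range) :=
    { toFun := fun x i => ⟨x.1 i, by
        obtain ⟨z, hz⟩ := x.2
        exact ⟨z i, by rw [powMonoidHom_apply, ← hdiag z i, hz]⟩⟩
      invFun := fun f => ⟨fun i => (f i).1, by
        choose z hz using fun i => (f i).2
        exact ⟨z, funext fun i => by rw [hdiag]; exact hz i⟩⟩
      left_inv := fun x => rfl
      right_inv := fun f => rfl }
  rw [Nat.card_congr E2, Nat.card_pi]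
  exact Finset.prod_congr rfl fun i _ => IsCyclic.card_powMonoidHom_range (G := G) (d i)

end MPow

namespace CertFull

variable {D : ChevalleyDatum} (c : CertFull D) {F : Type*} [Field F]
include c

theorem tchar_eq_prod (z : ℕ → Fˣ) {s : ℕ} (hs : s < D.nroots) :
    c.tchar z s = ∏ j ∈ Finset.range D.rank, c.tchar z (D.simple j) ^ c.T.vec s j := by
  rw [Cert.tchar]
  calc ∏ i ∈ Finset.range D.rank, z i ^ c.T.cartan i s
      = ∏ i ∈ Finset.range D.rank, ∏ j ∈ Finset.range D.rank,
          (z i ^ c.T.cartan i (D.simple j)) ^ c.T.vec s j := by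
        refine Finset.prod_congr rfl fun i hi => ?_
        simp only [← _root_.zpow_mul]
        rw [zpow_sum_eq, (c.linear_root hs).2.2.2.1 i (Finset.mem_range.1 hi),
          ← List.sum_toFinset _ List.nodup_range, List.toFinset_range, c.rank_eq]
        congr 1
        refine Finset.sum_congr rfl fun j hj => ?_
        rw [c.simple_eq (c.rank_eq.symm ▸ Finset.mem_range.1 hj), mul_comm]
    _ = _ := by
        rw [Finset.prod_comm]
        refine Finset.prod_congr rfl fun j _ => ?_
        rw [Finset.prod_zpow]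
        rfl

/-- The order of the torus. -/
theorem card_H [Fintype F] {l : ℕ} (hl : D.rank = l) {A P P' Q Q' : Matrix (Fin l) (Fin l) ℤ}
    (d : Fin l → ℕ) (hAT : Matrix.of (fun i j : Fin l => c.T.cartan i (c.T.simple j)) = A)
    (hP : P * P' = 1) (hP' : P' * P = 1) (hQ : Q * Q' = 1) (hQ' : Q' * Q = 1)
    (hA : P * A * Q = Matrix.diagonal (fun i => (d i : ℤ))) :
    Nat.card (D.diagonalSubgroup F) =
      ∏ i, (Fintype.card F - 1) / (Fintype.card F - 1).gcd (d i) := by
  have hG : Nat.card Fˣ = Fintype.card F - 1 := by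
    rw [Nat.card_units, Nat.card_eq_fintype_card]
  rw [← hG, ← card_range_mpow (G := Fˣ) d hP hP' hQ hQ' hA, c.diagonalSubgroup_eq]
  let pad : (Fin l → Fˣ) → ℕ → Fˣ := fun z i => if h : i < l then z ⟨i, h⟩ else 1
  have hpad : ∀ (z : ℕ → Fˣ) (j : Fin l),
      c.tchar z (D.simple j) = mpow A (fun i : Fin l => z i) j := by
    intro z j
    subst hl
    show _ = ∏ i : Fin D.rank, z (i : ℕ) ^ A i j
    rw [Cert.tchar, Finset.prod_range]
    refine Finset.prod_congr rfl fun i _ => ?_
    rw [c.simple_eq j.isLt, ← hAT, Matrix.of_apply]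
  have hpadz : ∀ z : Fin l → Fˣ, (fun i : Fin l => pad z i) = z := fun z => by
    funext i; simp [pad]
  let proj : (c.torus (F := F)).range → (mpow (G := Fˣ) A).range := fun g =>
    ⟨fun j => c.tchar g.2.choose (D.simple j), fun i => g.2.choose i,
      funext fun j => (hpad _ j).symm⟩
  refine Nat.card_congr (Equiv.ofBijective proj ⟨fun g g' e => Subtype.ext ?_, fun y => ?_⟩)
  · rw [← g.2.choose_spec, ← g'.2.choose_spec, Cert.torus_apply, Cert.torus_apply]
    refine dg_ext D F fun s hs => ?_
    rw [c.tchar_eq_prod _ hs, c.tchar_eq_prod _ hs]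
    refine Finset.prod_congr rfl fun j hj => ?_
    rw [Finset.mem_range] at hj
    have := congrFun (congrArg Subtype.val e) ⟨j, hl ▸ hj⟩
    simp only [proj] at this
    rw [this]
  · obtain ⟨z, hz⟩ := y.2
    have hmem : c.torus (pad z) ∈ (c.torus (F := F)).range := ⟨_, rfl⟩
    refine ⟨⟨c.torus (pad z), hmem⟩, Subtype.ext ?_⟩
    funext j
    show c.tchar hmem.choose (D.simple j) = y.1 j
    have h2 : dg D F (c.tchar hmem.choose) = dg D F (c.tchar (pad z)) := hmem.choose_spec
    rw [(dg_eq_iff D F).1 h2 _ (c.simple_lt (hl.symm ▸ j.isLt)), hpad, hpadz, hz]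

theorem invSet_card (L : List ℕ) : Nat.card (c.invSet L) = c.invN L := rfl

theorem card_borel [Fintype F] : Nat.card (D.borelSubgroup F) =
    Fintype.card F ^ (D.nroots / 2) * Nat.card (D.diagonalSubgroup F) := by
  rw [← c.card_posUnipotent, ← Nat.card_prod]
  symm
  refine Nat.card_congr (Equiv.ofBijective (fun x : D.posUnipotent F × D.diagonalSubgroup F =>
    (⟨x.1.1 * x.2.1, mul_mem (Subgroup.mem_sup_left x.1.2) (c.H_le_B x.2.2)⟩ : D.borelSubgroup F))
    ⟨fun x y e => ?_, fun g => ?_⟩)
  · have e' := congrArg Subtype.val e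
    simp only at e'
    have h1 : y.1.1⁻¹ * x.1.1 = y.2.1 * x.2.1⁻¹ :=
      calc y.1.1⁻¹ * x.1.1 = y.1.1⁻¹ * (x.1.1 * x.2.1) * x.2.1⁻¹ := by group
        _ = _ := by rw [e']; group
    have h2 := c.U_inf_H.le (Subgroup.mem_inf.2 ⟨mul_mem (inv_mem y.1.2) x.1.2,
      h1 ▸ mul_mem y.2.2 (inv_mem x.2.2)⟩)
    rw [Subgroup.mem_bot, inv_mul_eq_one] at h2
    exact Prod.ext (Subtype.ext h2.symm) (Subtype.ext (mul_left_cancel (h2 ▸ e')))
  · obtain ⟨u, hu, a, ha, e⟩ := c.mem_borel_iff.1 g.2
    exact ⟨(⟨u, hu⟩, ⟨a, ha⟩), Subtype.ext e.symm⟩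

/-- The order of a finite Chevalley group as a sum over a transversal of the Weyl group. -/
theorem card_group [Fintype F] {Ls : List (List Rep)} (hc : c.T.checkLevels Ls = true)
    (hlen : Ls.length = D.rank) :
    Nat.card (D.group F) = Fintype.card F ^ (D.nroots / 2) * Nat.card (D.diagonalSubgroup F) *
      ((chainWords Ls).map fun v => Fintype.card F ^ c.invN v).sum := by
  obtain ⟨hlt, hex, hpw, -⟩ := c.chain_spec Ls hc hlen.le
  set E := chainWords Ls
  have hw : ∀ i : Fin E.length, ∀ p ∈ E[i], p < D.rank := fun i p hp =>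
    hlen ▸ hlt _ (List.getElem_mem _) p hp
  have hinv : ∀ {L M : List ℕ}, (∀ p ∈ L, p < D.rank) → (∀ p ∈ M, p < D.rank) → c.Same L M →
      c.invSet L = c.invSet M := fun {L M} hL hM h => Set.ext fun r =>
    and_congr_right fun hr => by rw [c.wl_eq_of_same hL hM h hr.2]
  let f : (Σ i : Fin E.length, D.borelSubgroup F × c.KS F (c.invSet E[i]) c.T.h) → D.group F :=
    fun x => ⟨x.2.1.1 * (1 * c.nw F E[x.1]) * x.2.2.1,
      mul_mem (mul_mem (c.B_le_group x.2.1.2)
        (mul_mem (one_mem _) (c.N_le_group (c.nw_mem_N (hw x.1)))))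
        (c.B_le_group (Subgroup.mem_sup_left (c.KS_invSet_le_U (hw x.1) x.2.2.2)))⟩
  have hf : Function.Bijective f := by
    refine ⟨?_, fun g => ?_⟩
    · rintro ⟨i, b, u⟩ ⟨j, b', u'⟩ e
      have e' := congrArg Subtype.val e
      simp only [f] at e'
      have hn : ∀ k : Fin E.length, (1 : GL D.Idx F) * c.nw F E[k] ∈ D.monomialSubgroup F :=
        fun k => mul_mem (one_mem _) (c.nw_mem_N (hw k))
      have h1 := c.bruhat_unique b.2 b'.2 (hn i) (hn j) (c.KS_invSet_le_U (hw i) u.2)
        (c.KS_invSet_le_U (hw j) u'.2) e'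
      have hij : i = j := by
        have hsame : ∀ {p q : Fin E.length},
            (1 * c.nw F E[p])⁻¹ * (1 * c.nw F E[q]) ∈ D.diagonalSubgroup F → p < q → False := by
          intro p q hpq hlt'
          rw [List.pairwise_iff_getElem] at hpw
          refine hpw p.1 q.1 p.2 q.2 hlt' fun m hm => ?_
          refine (c.wl_eq_of_eq (one_mem _) (c.N_conj_H (hn p) hpq) (hw q) (hw p) ?_
            (c.simple_lt hm)).symm
          simp [mul_assoc]
        rcases lt_trichotomy i j with h | h | h
        · exact (hsame h1 h).elim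
        · exact h
        · refine (hsame ?_ h).elim
          have := inv_mem h1
          simpa [mul_assoc] using this
      subst hij
      obtain ⟨h2, h3⟩ := c.bruhat_unique_factors (one_mem _) (hw i) b.2 b'.2 u.2 u'.2 e'
      obtain rfl : b = b' := Subtype.ext h2
      obtain rfl : u = u' := Subtype.ext h3
      rfl
    · obtain ⟨b, hb, a, ha, L, hL, u, hu, e⟩ := c.bruhat_exists g.2
      obtain ⟨v, hv, hs⟩ := hex L (fun p hp => hlen.symm ▸ hL p hp)
      obtain ⟨i, hi, rfl⟩ := List.getElem_of_mem hv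
      have hwi := hw ⟨i, hi⟩
      simp only [Fin.getElem_fin] at hwi
      -- `n_L` and `n_v` differ by a torus element
      have hrev : ∀ p ∈ (E[i]).reverse, p < D.rank := fun p hp => hwi p (List.mem_reverse.1 hp)
      have hk : c.nw F L * (c.nw F E[i])⁻¹ ∈ D.diagonalSubgroup F := by
        obtain ⟨a', ha', M, hM, hn⟩ := c.mem_monomial_iff.1
          (mul_mem (c.nw_mem_N (F := F) hL) (inv_mem (c.nw_mem_N hwi)))
        rw [hn]
        refine c.mem_H_of_wl ha' hM fun q hq => ?_
        have hα := c.simple_lt hq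
        have hy := c.wl_lt hrev hα
        have h := congrArg (· * c.nw F E[i]) hn
        simp only [mul_assoc, inv_mul_cancel, mul_one, ← c.nw_append] at h
        have h' := c.wl_eq_of_eq (one_mem _) ha' hL
          (fun p hp => (List.mem_append.1 hp).elim (hM p) (hwi p)) (by rw [one_mul]; exact h) hy
        rw [c.wl_eq_of_same hL hwi hs hy, c.wl_append, c.wl_reverse hwi hα] at h'
        rw [← h']
        exact c.pos_simple hq
      refine ⟨⟨⟨i, hi⟩, ⟨b * (a * (c.nw F L * (c.nw F E[i])⁻¹)),
        mul_mem hb (c.H_le_B (mul_mem ha hk))⟩, ⟨u, ?_⟩⟩, Subtype.ext ?_⟩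
      · simp only [Fin.getElem_fin]
        rwa [← hinv hL hwi hs]
      · show b * (a * (c.nw F L * (c.nw F E[i])⁻¹)) * (1 * c.nw F E[i]) * u = (g : GL D.Idx F)
        rw [e]; group
  rw [← Nat.card_congr (Equiv.ofBijective f hf), Nat.card_sigma,
    ← Fin.sum_univ_getElem (E.map fun v => Fintype.card F ^ c.invN v), Finset.mul_sum]
  refine Finset.sum_equiv (finCongr (List.length_map _).symm) (by simp) fun i _ => ?_
  rw [Nat.card_prod, c.card_borel, c.card_KS (c.invSet_closed (hw i)), c.invSet_card]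
  simp

/-- The order formula. -/
theorem card_group_formula [Fintype F] {Ls : List (List Rep)} {ds : List ℕ}
    (hc : c.T.checkLevels Ls = true) (hlen : Ls.length = D.rank)
    (hp : checkPoly D.rank Ls ds = true) {g : ℕ}
    (hH : g * Nat.card (D.diagonalSubgroup F) = (Fintype.card F - 1) ^ D.rank) :
    g * Nat.card (D.group F) =
      Fintype.card F ^ (D.nroots / 2) * (ds.map fun d => Fintype.card F ^ d - 1).prod := by
  have h1 : 1 ≤ Fintype.card F := Fintype.card_pos
  have h2 := (c.chain_spec Ls hc hlen.le).2.2.2 (Fintype.card F : ℤ)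
  have h3 := checkPoly_eq hp (Fintype.card F : ℤ)
  rw [← h2] at h3
  apply Nat.cast_injective (R := ℤ)
  have hH' := congrArg (Nat.cast : ℕ → ℤ) hH
  push_cast [Nat.cast_sub h1] at hH'
  rw [c.card_group hc hlen]
  push_cast [Nat.cast_list_sum, Nat.cast_list_prod, List.map_map, Function.comp_def]
  have e1 : ds.map (fun d => ((Fintype.card F ^ d - 1 : ℕ) : ℤ)) =
      ds.map (fun d => (Fintype.card F : ℤ) ^ d - 1) :=
    List.map_congr_left fun d _ => by
      rw [Nat.cast_sub (Nat.one_le_pow _ _ h1)]; push_cast; rfl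
  rw [e1, ← h3]
  linear_combination ((Fintype.card F : ℤ) ^ (D.nroots / 2) *
    ((chainWords Ls).map fun v => (Fintype.card F : ℤ) ^ c.invN v).sum) * hH'

end CertFull

end Cfsg.Agent.Lie.Chev
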