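import Cfsg.Agent.Lib.Lie.Chev.Weyl

/-! The Poincaré polynomial of the Weyl group through a chain of parabolic coset
representatives. -/

set_option autoImplicit false

namespace Cfsg.Agent.Lie.Chev

open Cfsg.Lie

/-- A coset representative: its word, the index of its parent, the images of the fundamental
roots, and a witness that it is one longer than its parent. -/
structure Rep where
  word : List ℕ
  parent : ℕ
  img : List ℕ
  wit : ℕ

/-- Equality of lists of naturals. -/
def natsBeq : List ℕ → List ℕ → Bool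
  | [], [] => true
  | a :: L, b :: M => Nat.beq a b && natsBeq L M
  | _, _ => false

theorem natsBeq_iff : ∀ {a b : List ℕ}, natsBeq a b = true ↔ a = b
  | [], [] => by simp [natsBeq]
  | a :: L, b :: M => by simp [natsBeq, natsBeq_iff (a := L) (b := M)]
  | [], _ :: _ => by simp [natsBeq]
  | _ :: _, [] => by simp [natsBeq]

namespace Tables

variable (T : Tables)

/-- The code of the image of a root, from the images of the fundamental roots. -/
def imgCode (img : List ℕ) (r : ℕ) : ℤ :=
  ((List.range T.l).map fun j => T.vec r j * T.code (img.getD j 0)).sum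

/-- A representative follows from its parent. -/
def checkStep (k : ℕ) (R : List Rep) (idx : ℕ) (d : Rep) : Bool :=
  match d.word with
  | [] => Nat.beq idx 0 && natsBeq d.img ((List.range T.l).map T.simple)
  | p :: w =>
      Nat.blt p k && Nat.blt d.parent idx &&
      (match R[d.parent]? with
        | none => false
        | some e => natsBeq w e.word && natsBeq d.img (e.img.map (T.refl p)) &&
            Nat.blt d.wit T.n && Nat.ble T.h d.wit &&
            intBeq (T.imgCode e.img d.wit) (T.code (T.simple p)))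

/-- The representatives are closed under left multiplication, up to the smaller parabolic. -/
def checkClose (k : ℕ) (R : List Rep) (d : Rep) : Bool :=
  (List.range k).all fun i =>
    let im := d.img.map (T.refl i)
    Bool.or (R.any fun e => natsBeq e.img im) ((List.range (k - 1)).any fun j =>
      (List.range T.l).all fun q =>
        intBeq (T.code (im.getD q 0))
          (T.code (d.img.getD q 0) - T.cartan j (T.simple q) * T.code (d.img.getD j 0)))

/-- All images differ. -/
def checkDistinct : List Rep → Bool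
  | [] => true
  | d :: R => (R.all fun e => !(natsBeq d.img e.img)) && checkDistinct R

/-- One level of the chain. -/
def checkLevel (k : ℕ) (R : List Rep) : Bool :=
  Nat.ble k T.l && !R.isEmpty &&
  (R.zipIdx.all fun q => T.checkStep k R q.2 q.1) &&
  (R.all fun d => (List.range (k - 1)).all fun j => Nat.ble T.h (d.img.getD j 0)) &&
  (R.all fun d => T.checkClose k R d) && checkDistinct R

/-- The whole chain, largest level first. -/
def checkLevels : List (List Rep) → Bool
  | [] => true
  | R :: Rs => T.checkLevel (Rs.length + 1) R && checkLevels Rs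

end Tables

/-- The words of the chain. -/
def chainWords : List (List Rep) → List (List ℕ)
  | [] => [[]]
  | R :: Rs => R.flatMap fun d => (chainWords Rs).map fun v => d.word ++ v

namespace CertFull

variable {D : ChevalleyDatum} (c : CertFull D)

/-- Words acting equally on the fundamental roots. -/
def Same (L M : List ℕ) : Prop := ∀ q < D.rank, c.wl L (D.simple q) = c.wl M (D.simple q)

/-- The number of positive roots made negative. -/
noncomputable def invN (L : List ℕ) : ℕ := Nat.card {r : ℕ | c.Pos r ∧ ¬ c.Pos (c.wl L r)}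

/-- Roots in the span of the first `k` fundamental roots. -/
def InSub (k r : ℕ) : Prop := r < D.nroots ∧ ∀ i < D.rank, k ≤ i → c.T.vec r i = 0

include c

theorem code_wl {L : List ℕ} (hL : ∀ p ∈ L, p < D.rank) {r : ℕ} (hr : r < D.nroots) :
    c.T.code (c.wl L r) =
      ∑ i ∈ Finset.range D.rank, c.T.vec r i * c.T.code (c.wl L (D.simple i)) := by
  have hcode : ∀ {s : ℕ}, s < D.nroots → c.T.code s =
      ∑ j ∈ Finset.range D.rank, c.T.vec s j * c.T.weight j := by
    intro s hs
    rw [(c.linear_root hs).1, ← List.sum_toFinset _ List.nodup_range, List.toFinset_range,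
      c.rank_eq]
  rw [hcode (c.wl_lt hL hr), Finset.sum_congr rfl fun j hj => by
    rw [c.wl_vec hL hr (Finset.mem_range.1 hj), Finset.sum_mul], Finset.sum_comm]
  refine Finset.sum_congr rfl fun i hi => ?_
  rw [hcode (c.wl_lt hL (c.simple_lt (Finset.mem_range.1 hi))), Finset.mul_sum]
  simp only [mul_assoc]

theorem wl_eq_of_same {L M : List ℕ} (hL : ∀ p ∈ L, p < D.rank) (hM : ∀ p ∈ M, p < D.rank)
    (h : c.Same L M) {r : ℕ} (hr : r < D.nroots) : c.wl L r = c.wl M r := by
  refine c.code_inj (c.wl_lt hL hr) (c.wl_lt hM hr) ?_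
  rw [c.code_wl hL hr, c.code_wl hM hr]
  exact Finset.sum_congr rfl fun i hi => by rw [h i (Finset.mem_range.1 hi)]

theorem invN_congr {L M : List ℕ} (hL : ∀ p ∈ L, p < D.rank) (hM : ∀ p ∈ M, p < D.rank)
    (h : c.Same L M) : c.invN L = c.invN M := by
  unfold invN
  congr 2
  ext r
  simp only [Set.mem_setOf_eq]
  refine and_congr_right fun hr => ?_
  rw [c.wl_eq_of_same hL hM h hr.2]

theorem invN_nil : c.invN [] = 0 := by
  unfold invN
  rw [show {r : ℕ | c.Pos r ∧ ¬ c.Pos (c.wl [] r)} = ∅ from
    Set.eq_empty_of_forall_notMem fun r ⟨h1, h2⟩ => h2 h1]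
  simp

theorem finite_inv (L : List ℕ) : {r : ℕ | c.Pos r ∧ ¬ c.Pos (c.wl L r)}.Finite :=
  (Set.finite_Iio D.nroots).subset fun _ h => h.1.2

theorem invN_cons {p : ℕ} (hp : p < D.rank) {M : List ℕ} (hM : ∀ q ∈ M, q < D.rank) {r : ℕ}
    (hr : c.Pos r) (e : c.wl M r = D.simple p) : c.invN (p :: M) = c.invN M + 1 := by
  have hα := c.simple_lt hp
  have hset : {x : ℕ | c.Pos x ∧ ¬ c.Pos (c.wl (p :: M) x)} =
      insert r {x : ℕ | c.Pos x ∧ ¬ c.Pos (c.wl M x)} := by
    ext x
    simp only [Set.mem_setOf_eq, Set.mem_insert_iff, Cert.wl_cons]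
    constructor
    · rintro ⟨hx, h⟩
      by_cases h2 : c.Pos (c.wl M x)
      · refine Or.inl (c.wl_inj hM hx.2 hr.2 ?_)
        by_contra hne
        exact h (c.pos_w hp h2 (fun e' => hne (e'.trans e.symm))).1
      · exact Or.inr ⟨hx, h2⟩
    · rintro (rfl | ⟨hx, h2⟩)
      · refine ⟨hr, ?_⟩
        rw [e, c.w_simple hp]
        exact fun h => (c.not_pos_iff hα).2 h (c.pos_simple hp)
      · refine ⟨hx, fun h => ?_⟩
        have hwx := c.wl_lt hM hx.2
        have h3 : c.Pos (D.neg (c.wl M x)) := (c.not_pos_iff hwx).1 h2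
        have hne : D.neg (c.wl M x) ≠ D.simple p := by
          intro e'
          rw [← e, ← c.wl_neg hM hx.2] at e'
          have := c.wl_inj hM (c.neg_lt hx.2) hr.2 e'
          exact (c.not_pos_iff hx.2).2 (this ▸ hr) hx
        have h4 := (c.pos_w hp h3 hne).1
        rw [c.w_neg hp hwx] at h4
        exact (c.not_pos_iff (c.w_lt hp hwx)).2 h4 h
  unfold invN
  rw [hset, Nat.card_coe_set_eq, Nat.card_coe_set_eq,
    Set.ncard_insert_of_notMem _ (c.finite_inv M)]
  rintro ⟨-, h⟩
  exact h (e ▸ c.pos_simple hp)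

theorem vec_wl_out {k : ℕ} {v : List ℕ} (hv : ∀ p ∈ v, p < k) (hvl : ∀ p ∈ v, p < D.rank) {r i : ℕ}
    (hr : r < D.nroots) (hi : i < D.rank) (hki : k ≤ i) :
    c.T.vec (c.wl v r) i = c.T.vec r i := by
  induction v with
  | nil => rfl
  | cons p v ih =>
    have := hv p (by simp)
    rw [Cert.wl_cons, c.vec_w (hvl p (by simp)) (c.wl_lt (fun q hq => hvl q (by simp [hq])) hr) hi,
      if_neg (by omega), sub_zero, ih (fun q hq => hv q (by simp [hq]))
        (fun q hq => hvl q (by simp [hq]))]

theorem inSub_neg {k r : ℕ} (h : c.InSub k r) : c.InSub k (D.neg r) :=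
  ⟨c.neg_lt h.1, fun i hi hk => by rw [c.vec_neg h.1 hi, h.2 i hi hk, neg_zero]⟩

theorem pos_wl_sub {k : ℕ} {d : List ℕ} (hd : ∀ p ∈ d, p < D.rank)
    (hpos : ∀ j < D.rank, j < k → c.Pos (c.wl d (D.simple j))) {r : ℕ} (hs : c.InSub k r)
    (hr : c.Pos r) : c.Pos (c.wl d r) := by
  rw [c.pos_iff_code (c.wl_lt hd hs.1), c.code_wl hd hs.1]
  have hterm : ∀ i ∈ Finset.range D.rank,
      0 ≤ c.T.vec r i * c.T.code (c.wl d (D.simple i)) := by
    intro i hi
    rw [Finset.mem_range] at hi
    by_cases hik : i < k
    · exact mul_nonneg ((c.vec_nonneg hr.2 hr.1).1 i hi)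
        ((c.pos_iff_code (c.wl_lt hd (c.simple_lt hi))).1 (hpos i hi hik)).le
    · rw [hs.2 i hi (by omega), zero_mul]
  obtain ⟨j, hj, hv⟩ : ∃ j < D.rank, 0 < c.T.vec r j := by
    by_contra h
    push Not at h
    have h0 := (c.pos_iff_code hr.2).1 hr
    rw [(c.linear_root hr.2).1, ← List.sum_toFinset _ List.nodup_range, List.toFinset_range,
      ← c.rank_eq] at h0
    rw [Finset.sum_eq_zero fun i hi => by
      rw [le_antisymm (h i (Finset.mem_range.1 hi)) ((c.vec_nonneg hr.2 hr.1).1 i
        (Finset.mem_range.1 hi)), zero_mul]] at h0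
    exact lt_irrefl _ h0
  refine Finset.sum_pos' hterm ⟨j, Finset.mem_range.2 hj, mul_pos hv ?_⟩
  have hjk : j < k := by
    by_contra h
    rw [hs.2 j hj (by omega)] at hv
    exact lt_irrefl _ hv
  exact (c.pos_iff_code (c.wl_lt hd (c.simple_lt hj))).1 (hpos j hj hjk)

theorem invN_append {k : ℕ} {d v : List ℕ} (hd : ∀ p ∈ d, p < D.rank) (hv : ∀ p ∈ v, p < k)
    (hk : k ≤ D.rank) (hpos : ∀ j < D.rank, j < k → c.Pos (c.wl d (D.simple j))) :
    c.invN (d ++ v) = c.invN d + c.invN v := by
  have hvl : ∀ p ∈ v, p < D.rank := fun p hp => lt_of_lt_of_le (hv p hp) hk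
  have hvr : ∀ p ∈ v.reverse, p < D.rank := fun p hp => hvl p (List.mem_reverse.1 hp)
  have hsub : ∀ r, c.Pos r → ¬ c.Pos (c.wl v r) → c.InSub k r := by
    intro r hr h
    refine ⟨hr.2, fun i hi hki => ?_⟩
    by_contra hne
    have := (c.vec_nonneg hr.2 hr.1).1 i hi
    refine h (c.pos_of_vec_pos (c.wl_lt hvl hr.2) hi ?_)
    rw [c.vec_wl_out hv hvl hr.2 hi hki]
    omega
  set A := {r : ℕ | c.Pos r ∧ ¬ c.Pos (c.wl v r)}
  set B := {r : ℕ | c.Pos r ∧ ¬ c.Pos (c.wl d r)}
  have hpre : ∀ x ∈ B, c.Pos (c.wl v.reverse x) ∧ c.wl v (c.wl v.reverse x) = x := by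
    intro x hx
    have hr := c.wl_lt hvr hx.1.2
    have e := c.wl_reverse hvl hx.1.2
    refine ⟨?_, e⟩
    by_contra hneg
    have h1 : c.Pos (D.neg (c.wl v.reverse x)) := (c.not_pos_iff hr).1 hneg
    have h2 : ¬ c.Pos (c.wl v (D.neg (c.wl v.reverse x))) := by
      rw [c.wl_neg hvl hr, e]
      exact fun h => (c.not_pos_iff hx.1.2).2 h hx.1
    have h3 := c.inSub_neg (hsub _ h1 h2)
    rw [c.neg_neg hr] at h3
    have h4 : c.InSub k x :=
      ⟨hx.1.2, fun i hi hki => by rw [← e, c.vec_wl_out hv hvl hr hi hki]; exact h3.2 i hi hki⟩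
    exact hx.2 (c.pos_wl_sub hd hpos h4 hx.1)
  have hset : {r : ℕ | c.Pos r ∧ ¬ c.Pos (c.wl (d ++ v) r)} = A ∪ c.wl v.reverse '' B := by
    ext r
    simp only [Set.mem_setOf_eq, Set.mem_union, Set.mem_image, c.wl_append]
    constructor
    · rintro ⟨hr, h⟩
      by_cases hp : c.Pos (c.wl v r)
      · refine Or.inr ⟨c.wl v r, ⟨hp, h⟩, c.wl_inj hvl (c.wl_lt hvr hp.2) hr.2 ?_⟩
        rw [c.wl_reverse hvl hp.2]
      · exact Or.inl ⟨hr, hp⟩
    · rintro (⟨hr, h⟩ | ⟨x, hx, rfl⟩)
      · refine ⟨hr, fun hp => ?_⟩
        have hs := hsub r hr h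
        have hn := c.wl_lt hvl hr.2
        have hs' : c.InSub k (D.neg (c.wl v r)) := c.inSub_neg
          ⟨hn, fun i hi hki => by rw [c.vec_wl_out hv hvl hr.2 hi hki]; exact hs.2 i hi hki⟩
        have h2 := c.pos_wl_sub hd hpos hs' ((c.not_pos_iff hn).1 h)
        rw [c.wl_neg hd hn] at h2
        exact (c.not_pos_iff (c.wl_lt hd hn)).2 h2 hp
      · obtain ⟨h1, h2⟩ := hpre x hx
        refine ⟨h1, ?_⟩
        rw [h2]
        exact hx.2
  have hdisj : Disjoint A (c.wl v.reverse '' B) := by
    rw [Set.disjoint_left]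
    rintro r ⟨-, h⟩ ⟨x, hx, rfl⟩
    rw [(hpre x hx).2] at h
    exact h hx.1
  unfold invN
  rw [hset, Nat.card_coe_set_eq, Nat.card_coe_set_eq, Nat.card_coe_set_eq,
    Set.ncard_union_eq hdisj (c.finite_inv v) ((c.finite_inv d).image _),
    Set.InjOn.ncard_image, add_comm]
  intro x hx y hy e
  exact c.wl_inj hvr hx.1.2 hy.1.2 e

/-! ### Reading the certificate -/

theorem level_data {k : ℕ} {R : List Rep} (h : c.T.checkLevel k R = true) :
    k ≤ D.rank ∧ R ≠ [] ∧
    (∀ d ∈ R, (∀ p ∈ d.word, p < k) ∧ d.img.length = D.rank ∧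
      (∀ q < D.rank, d.img.getD q 0 = c.wl d.word (D.simple q)) ∧
      c.invN d.word = d.word.length) ∧
    (∀ d ∈ R, ∀ j, j + 1 < k → c.Pos (c.wl d.word (D.simple j))) ∧
    (∀ d ∈ R, ∀ i < k, (∃ e ∈ R, c.Same (i :: d.word) e.word) ∨
      ∃ j, j + 1 < k ∧ c.Same (i :: d.word) (d.word ++ [j])) ∧
    R.Pairwise (fun a b => ¬ c.Same a.word b.word) := by
  simp only [Tables.checkLevel, Bool.and_eq_true, List.all_eq_true, Bool.not_eq_true',
    Nat.ble_eq, List.isEmpty_eq_false_iff, List.mem_range] at h
  obtain ⟨⟨⟨⟨⟨hk, hne⟩, hstep⟩, hposc⟩, hclose⟩, hdist⟩ := h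
  rw [← c.rank_eq] at hk
  have key : ∀ idx (hidx : idx < R.length),
      (∀ p ∈ R[idx].word, p < k) ∧ R[idx].img.length = D.rank ∧
      (∀ q < D.rank, R[idx].img.getD q 0 = c.wl R[idx].word (D.simple q)) ∧
      c.invN R[idx].word = R[idx].word.length := by
    intro idx
    induction idx using Nat.strong_induction_on with
    | _ idx ih =>
      intro hidx
      have hs := hstep (R[idx], idx) (List.mk_mem_zipIdx_iff_getElem?.2
        (List.getElem?_eq_getElem hidx))
      unfold Tables.checkStep at hs
      split at hs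
      · rename_i hw
        simp only [Bool.and_eq_true, natsBeq_iff] at hs
        simp only at hw
        rw [hw]
        refine ⟨by simp, by rw [hs.2]; simp [c.rank_eq], fun q hq => ?_, by rw [c.invN_nil]; rfl⟩
        have hq' : q < c.T.l := c.rank_eq ▸ hq
        rw [hs.2, List.getD_eq_getElem _ _ (by simpa using hq'), List.getElem_map,
          List.getElem_range, Cert.wl_nil, c.simple_eq hq]
      · rename_i p w hw
        simp only at hw
        simp only [Bool.and_eq_true, Nat.blt_eq] at hs
        obtain ⟨⟨hp, hpar⟩, hs⟩ := hs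
        split at hs
        · cases hs
        rename_i e he
        simp only [Bool.and_eq_true, natsBeq_iff, Nat.blt_eq, Nat.ble_eq] at hs
        obtain ⟨⟨⟨⟨h1, h2⟩, h3⟩, h4⟩, h5⟩ := hs
        have hpl : R[idx].parent < R.length := by omega
        obtain ⟨i1, i2, i3, i4⟩ := ih _ hpar hpl
        rw [List.getElem?_eq_getElem hpl, Option.some.injEq] at he
        rw [he] at i1 i2 i3 i4
        have hpr : p < D.rank := lt_of_lt_of_le hp hk
        have hwl : ∀ r ∈ e.word, r < D.rank := fun r hr => lt_of_lt_of_le (i1 r hr) hk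
        rw [hw, h1]
        refine ⟨?_, by rw [h2, List.length_map, i2], fun q hq => ?_, ?_⟩
        · intro r hr
          rcases List.mem_cons.1 hr with rfl | hr
          · exact hp
          · exact i1 r hr
        · rw [h2, List.getD_eq_getElem _ _ (by rw [List.length_map, i2]; exact hq),
            List.getElem_map, Cert.wl_cons, ← i3 q hq, List.getD_eq_getElem _ _ (i2.symm ▸ hq)]
          rfl
        · rw [← c.nroots_eq] at h3
          have h5' : c.T.imgCode e.img R[idx].wit = c.T.code (c.T.simple p) := by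
            revert h5
            cases c.T.imgCode e.img R[idx].wit <;> cases c.T.code (c.T.simple p) <;>
              simp [intBeq]
          have hwit : c.wl e.word R[idx].wit = D.simple p := by
            refine c.code_inj (c.wl_lt hwl h3) (c.simple_lt hpr) ?_
            rw [c.code_wl hwl h3, c.simple_eq hpr, ← h5', Tables.imgCode,
              ← List.sum_toFinset _ List.nodup_range, List.toFinset_range, c.rank_eq]
            refine Finset.sum_congr rfl fun i hi => ?_
            rw [i3 i (c.rank_eq.symm ▸ Finset.mem_range.1 hi)]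
          rw [c.invN_cons hpr hwl ⟨h4, h3⟩ hwit, i4, List.length_cons]
  have hmem : ∀ d ∈ R, (∀ p ∈ d.word, p < k) ∧ d.img.length = D.rank ∧
      (∀ q < D.rank, d.img.getD q 0 = c.wl d.word (D.simple q)) ∧
      c.invN d.word = d.word.length := by
    intro d hd
    obtain ⟨i, hi, rfl⟩ := List.getElem_of_mem hd
    exact key i hi
  have hlt : ∀ d ∈ R, ∀ p ∈ d.word, p < D.rank := fun d hd p hp =>
    lt_of_lt_of_le ((hmem d hd).1 p hp) hk
  refine ⟨hk, hne, hmem, fun d hd j hj => ?_, fun d hd i hi => ?_, ?_⟩
  · have hjl : j < D.rank := by omega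
    have h1 := hposc d hd j (by omega)
    rw [(hmem d hd).2.2.1 j hjl] at h1
    exact ⟨h1, c.wl_lt (hlt d hd) (c.simple_lt hjl)⟩
  · have hh := hclose d hd
    simp only [Tables.checkClose, List.all_eq_true, List.mem_range, Bool.or_eq_true,
      List.any_eq_true, natsBeq_iff] at hh
    have him : ∀ q < D.rank, (d.img.map (c.T.refl i)).getD q 0 =
        c.wl (i :: d.word) (D.simple q) := by
      intro q hq
      have hq' : q < d.img.length := (hmem d hd).2.1.symm ▸ hq
      rw [List.getD_eq_getElem _ _ (by simpa using hq'), List.getElem_map, Cert.wl_cons,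
        ← (hmem d hd).2.2.1 q hq, List.getD_eq_getElem _ _ hq']
      rfl
    rcases hh i hi with ⟨e, he, he'⟩ | ⟨j, hj, hj'⟩
    · refine Or.inl ⟨e, he, fun q hq => ?_⟩
      rw [← him q hq, ← (hmem e he).2.2.1 q hq, he']
    · have hjl : j < D.rank := by omega
      refine Or.inr ⟨j, by omega, fun q hq => ?_⟩
      have hh := hj' q (c.rank_eq ▸ hq)
      rw [him q hq, (hmem d hd).2.2.1 q hq, (hmem d hd).2.2.1 j hjl] at hh
      have hil : i < D.rank := by omega
      have hL1 : ∀ p ∈ i :: d.word, p < D.rank := by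
        intro p hp
        rcases List.mem_cons.1 hp with rfl | hp
        · exact hil
        · exact hlt d hd p hp
      have hα := c.simple_lt hq
      have hw := c.w_lt hjl hα
      refine c.code_inj (c.wl_lt hL1 hα) (c.wl_lt (fun p hp =>
        (List.mem_append.1 hp).elim (hlt d hd p) (by simpa using fun e : p = j => e ▸ hjl)) hα) ?_
      have heq : c.T.code (c.wl (i :: d.word) (D.simple q)) =
          c.T.code (c.wl d.word (D.simple q)) -
            c.T.cartan j (c.T.simple q) * c.T.code (c.wl d.word (D.simple j)) := by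
        revert hh
        generalize c.T.code (c.wl (i :: d.word) (D.simple q)) = a
        generalize c.T.code (c.wl d.word (D.simple q)) -
            c.T.cartan j (c.T.simple q) * c.T.code (c.wl d.word (D.simple j)) = b
        cases a <;> cases b <;> simp [intBeq]
      rw [heq, c.wl_append, Cert.wl_cons, Cert.wl_nil, c.code_wl (hlt d hd) hw]
      rw [Finset.sum_congr rfl fun m hm => by
        rw [c.vec_w hjl hα (Finset.mem_range.1 hm), c.vec_simple hq (Finset.mem_range.1 hm),
          sub_mul, ite_mul, ite_mul, zero_mul, one_mul]]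
      rw [Finset.sum_sub_distrib, Finset.sum_ite_eq', Finset.sum_ite_eq',
        if_pos (Finset.mem_range.2 hq), if_pos (Finset.mem_range.2 hjl), c.cartan_eq hjl hα,
        c.simple_eq hq]
  · clear hne hstep hposc hclose key hlt
    induction R with
    | nil => exact List.Pairwise.nil
    | cons a R ih =>
      simp only [Tables.checkDistinct, Bool.and_eq_true, List.all_eq_true,
        Bool.not_eq_true'] at hdist
      refine List.Pairwise.cons (fun b hb hs => ?_)
        (ih hdist.2 fun d hd => hmem d (List.mem_cons_of_mem _ hd))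
      have h1 := hdist.1 b hb
      have h2 : a.img = b.img := by
        refine List.ext_getElem ((hmem a (by simp)).2.1.trans
          (hmem b (List.mem_cons_of_mem _ hb)).2.1.symm) fun q hq1 hq2 => ?_
        have hq : q < D.rank := (hmem a (by simp)).2.1 ▸ hq1
        rw [← List.getD_eq_getElem _ 0 hq1, ← List.getD_eq_getElem _ 0 hq2,
          (hmem a (by simp)).2.2.1 q hq, (hmem b (List.mem_cons_of_mem _ hb)).2.2.1 q hq]
        exact hs q hq
      rw [natsBeq_iff.2 h2] at h1
      cases h1

/-- The words of a certified chain form a transversal, with the product formula for the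
inversion numbers. -/
theorem chain_spec : ∀ (Ls : List (List Rep)), c.T.checkLevels Ls = true →
    Ls.length ≤ D.rank →
    (∀ v ∈ chainWords Ls, ∀ p ∈ v, p < Ls.length) ∧
    (∀ L : List ℕ, (∀ p ∈ L, p < Ls.length) → ∃ v ∈ chainWords Ls, c.Same L v) ∧
    (chainWords Ls).Pairwise (fun a b => ¬ c.Same a b) ∧
    ∀ x : ℤ, ((chainWords Ls).map fun v => x ^ c.invN v).sum =
      (Ls.map fun R => (R.map fun d => x ^ d.word.length).sum).prod := by
  intro Ls
  induction Ls with
  | nil =>
    intro _ _
    refine ⟨by simp [chainWords], fun L hL => ⟨[], by simp [chainWords], ?_⟩,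
      by simp [chainWords], fun x => by simp [chainWords, c.invN_nil]⟩
    rcases L with - | ⟨p, L⟩
    · exact fun q _ => rfl
    · exact absurd (hL p (by simp)) (by simp)
  | cons R Rs ih =>
    intro h hlen
    simp only [Tables.checkLevels, Bool.and_eq_true] at h
    simp only [List.length_cons] at hlen
    obtain ⟨hk, hne, hmem, hpos, hclose, hpw⟩ := c.level_data h.1
    obtain ⟨i1, i2, i3, i4⟩ := ih h.2 (by omega)
    have hw : ∀ d ∈ R, ∀ p ∈ d.word, p < D.rank := fun d hd p hp =>
      lt_of_lt_of_le ((hmem d hd).1 p hp) hk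
    have hvr : ∀ v ∈ chainWords Rs, ∀ p ∈ v, p < D.rank := fun v hv p hp =>
      lt_of_lt_of_le (i1 v hv p hp) (by omega)
    have hposd : ∀ d ∈ R, ∀ j < D.rank, j < Rs.length → c.Pos (c.wl d.word (D.simple j)) :=
      fun d hd j _ hj => hpos d hd j (by omega)
    refine ⟨?_, ?_, ?_, ?_⟩
    · intro v hv p hp
      simp only [chainWords, List.mem_flatMap, List.mem_map] at hv
      obtain ⟨d, hd, v', hv', rfl⟩ := hv
      rcases List.mem_append.1 hp with hp | hp
      · exact (hmem d hd).1 p hp
      · exact Nat.lt_succ_of_lt (i1 v' hv' p hp)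
    · intro L hL
      suffices ∃ d ∈ R, ∃ M : List ℕ, (∀ p ∈ M, p < Rs.length) ∧ c.Same L (d.word ++ M) by
        obtain ⟨d, hd, M, hM, hs⟩ := this
        obtain ⟨v, hv, hs'⟩ := i2 M hM
        refine ⟨d.word ++ v, List.mem_flatMap.2 ⟨d, hd, List.mem_map.2 ⟨v, hv, rfl⟩⟩, fun q hq => ?_⟩
        rw [hs q hq, c.wl_append, c.wl_append, hs' q hq]
      induction L with
      | nil =>
        obtain ⟨d, hd, he⟩ : ∃ d ∈ R, d.word = [] := by
          rcases R with - | ⟨d, R⟩
          · exact absurd rfl hne
          · refine ⟨d, by simp, ?_⟩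
            have h1 := h.1
            simp only [Tables.checkLevel, Bool.and_eq_true, List.all_eq_true] at h1
            have h2 := h1.1.1.1.2 (d, 0) (by simp [List.zipIdx_cons])
            revert h2
            unfold Tables.checkStep
            split
            · intro _; assumption
            · simp [Nat.blt_eq]
        exact ⟨d, hd, [], by simp, by rw [he]; exact fun q _ => rfl⟩
      | cons i L ihL =>
        obtain ⟨d, hd, M, hM, hs⟩ := ihL fun p hp => hL p (List.mem_cons_of_mem _ hp)
        have hMr : ∀ p ∈ M, p < D.rank := fun p hp => lt_of_lt_of_le (hM p hp) (by omega)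
        have hi : i < Rs.length + 1 := hL i (by simp)
        have hil : i < D.rank := by omega
        have hid : ∀ p ∈ i :: d.word, p < D.rank := by
          intro p hp
          rcases List.mem_cons.1 hp with rfl | hp
          · exact hil
          · exact hw d hd p hp
        have step : ∀ E : List ℕ, (∀ p ∈ E, p < D.rank) → c.Same (i :: d.word) E →
            c.Same (i :: L) (E ++ M) := fun E hE hsE q hq => by
          have hx := c.wl_lt hMr (c.simple_lt hq)
          rw [c.wl_append, ← c.wl_eq_of_same hid hE hsE hx, Cert.wl_cons, Cert.wl_cons, hs q hq,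
            c.wl_append]
        rcases hclose d hd i hi with ⟨e, he, hse⟩ | ⟨j, hj, hse⟩
        · exact ⟨e, he, M, hM, step e.word (hw e he) hse⟩
        · refine ⟨d, hd, j :: M, fun p hp => ?_, fun q hq => ?_⟩
          · rcases List.mem_cons.1 hp with rfl | hp
            · omega
            · exact hM p hp
          · rw [step (d.word ++ [j]) (fun p hp => (List.mem_append.1 hp).elim (hw d hd p)
              (fun h => by rw [List.mem_singleton] at h; omega)) hse q hq]
            simp
    · simp only [chainWords, List.flatMap_def, List.pairwise_flatten, List.forall_mem_map,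
        List.pairwise_map]
      refine ⟨fun d hd => i3.imp_of_mem ?_, hpw.imp_of_mem ?_⟩
      · intro a b ha hb hab hs
        refine hab fun q hq => ?_
        have h1 := hs q hq
        rw [c.wl_append, c.wl_append] at h1
        exact c.wl_inj (hw d hd) (c.wl_lt (hvr a ha) (c.simple_lt hq))
          (c.wl_lt (hvr b hb) (c.simple_lt hq)) h1
      intro a b ha hb hab
      intro v hv v' hv' hs
      have hvr1 := hvr v hv
      have hvr2 := hvr v' hv'
      set u := v' ++ v.reverse with hudef
      have hu : ∀ p ∈ u, p < Rs.length := fun p hp => by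
        rcases List.mem_append.1 hp with hp | hp
        · exact i1 v' hv' p hp
        · exact i1 v hv p (List.mem_reverse.1 hp)
      have hul : ∀ p ∈ u, p < D.rank := fun p hp => lt_of_lt_of_le (hu p hp) (by omega)
      have hav : ∀ p ∈ a.word ++ v, p < D.rank := fun p hp =>
        (List.mem_append.1 hp).elim (hw a ha p) (hvr1 p)
      have hbv : ∀ p ∈ b.word ++ v', p < D.rank := fun p hp =>
        (List.mem_append.1 hp).elim (hw b hb p) (hvr2 p)
      -- a = b * u on all roots
      have hab' : ∀ x < D.nroots, c.wl a.word x = c.wl b.word (c.wl u x) := by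
        intro x hx
        have hy := c.wl_lt (fun p hp => hvr1 p (List.mem_reverse.1 hp)) hx
        have h1 := c.wl_eq_of_same hav hbv hs hy
        rw [c.wl_append, c.wl_append, c.wl_reverse hvr1 hx] at h1
        rw [h1, hudef, c.wl_append]
      have hupos : ∀ j < D.rank, c.Pos (c.wl u (D.simple j)) := by
        intro j hj
        have hα := c.simple_lt hj
        have hx := c.wl_lt hul hα
        by_cases hjk : j < Rs.length
        · by_contra hn
          have hs' : c.InSub Rs.length (D.neg (c.wl u (D.simple j))) := c.inSub_neg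
            ⟨hx, fun m hm hmk => by
              rw [c.vec_wl_out hu hul hα hm hmk, c.vec_simple hj hm, if_neg (by omega)]⟩
          have h1 := c.pos_wl_sub (hw b hb) (hposd b hb) hs' ((c.not_pos_iff hx).1 hn)
          rw [c.wl_neg (hw b hb) hx, ← hab' _ hα] at h1
          exact (c.not_pos_iff (c.wl_lt (hw a ha) hα)).2 h1 (hposd a ha j hj hjk)
        · refine c.pos_of_vec_pos hx hj ?_
          rw [c.vec_wl_out hu hul hα hj (by omega), c.vec_simple hj hj, if_pos rfl]
          exact one_pos
      have hH := c.nw_mem_H (F := ℚ) hul hupos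
      refine hab fun q hq => ?_
      have hid := c.wl_eq_of_eq (L := u) (M := []) (one_mem _) hH hul (by simp)
        (by simp) (c.simple_lt hq)
      rw [hab' _ (c.simple_lt hq), hid, Cert.wl_nil]
    · intro x
      rw [chainWords, List.map_cons, List.prod_cons, ← i4 x, List.flatMap_def, List.map_flatten,
        List.sum_flatten, List.map_map, List.map_map, ← List.sum_map_mul_right]
      refine congrArg List.sum (List.map_congr_left fun d hd => ?_)
      rw [Function.comp_apply, Function.comp_apply, List.map_map, ← List.sum_map_mul_left]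
      refine congrArg List.sum (List.map_congr_left fun v hv => ?_)
      rw [Function.comp_apply, c.invN_append (hw d hd) (i1 v hv) (by omega)
        (hposd d hd), (hmem d hd).2.2.2, pow_add]

end CertFull

end Cfsg.Agent.Lie.Chev
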