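import Cfsg.Agent.Lib.Lie.Chev.CertsFull
import Cfsg.Agent.Lib.Lie.Chev.Bruhat
import Cfsg.Agent.Lib.Lie.Chev.Poincare

/-! Standard parabolic subgroups: generators, Levi decomposition and the normaliser of the unipotent
radical. -/

set_option autoImplicit false

namespace Cfsg.Agent.Lie.Chev

open Cfsg.Lie Matrix

namespace CertFull

variable {D : ChevalleyDatum} (c : CertFull D) {F : Type*} [Field F]

/-- The subgroup generated by the diagonal subgroup and the root elements of the positive roots and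
of the roots in the subsystem. -/
def parGens (D : ChevalleyDatum) (F : Type*) [Field F] (J : Set ℕ) : Subgroup (GL D.Idx F) :=
  D.diagonalSubgroup F ⊔ Subgroup.closure {g : GL D.Idx F | ∃ (r : ℕ) (t : F),
    (D.IsPosRoot r ∨ D.InRootSub J r) ∧ (g : Matrix D.Idx D.Idx F) = D.x F r t}

open Classical in
/-- The sum of the coefficients outside `J`. -/
noncomputable def outWeight (J : Set ℕ) (r : ℕ) : ℤ :=
  ∑ i ∈ (Finset.range D.rank).filter (fun i => i ∉ J), c.T.vec r i

/-- The grading of the coordinates attached to `J`. -/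
noncomputable def outGrade (J : Set ℕ) : D.Idx → ℤ :=
  Sum.elim (fun _ => 0) fun u => c.outWeight J u

open Classical in
/-- An order preserving copy of the grading in the natural numbers. -/
noncomputable def outLev (J : Set ℕ) (i : D.Idx) : ℕ :=
  (Finset.univ.filter fun j => c.outGrade J j < c.outGrade J i).card

include c

theorem inRootSub_iff {J : Set ℕ} {r : ℕ} :
    D.InRootSub J r ↔ r < D.nroots ∧ ∀ i < D.rank, i ∉ J → c.T.vec r i = 0 := by
  refine ⟨fun h => ⟨h.1, fun i hi hJ => (c.support h.1 hi).1 ?_⟩,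
    fun h => ⟨h.1, fun i hi hJ => ?_⟩⟩
  · rw [← c.coroot_eq h.1 hi]; exact h.2 i hi hJ
  · rw [c.coroot_eq h.1 hi]; exact (c.support h.1 hi).2 (h.2 i hi hJ)

theorem pairing_root_self {r : ℕ} (hr : r < D.nroots) : c.T.pairing r r = 2 := by
  refine c.root_induction (P := fun r => c.T.pairing r r = 2) (fun i hi => ?_)
    (fun p hp r hr h => ?_) r hr
  · rw [c.pairing_simple hi, ← c.cartan_eq hi (c.simple_lt hi), c.cartan_simple_self hi]
  · rw [c.pairing_w hp hr hr]; exact h

theorem inRootSub_simple {J : Set ℕ} {j : ℕ} (hj : j ∈ J) (hlt : j < D.rank) :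
    D.InRootSub J (D.simple j) := by
  rw [c.inRootSub_iff]
  refine ⟨c.simple_lt hlt, fun i hi hJ => ?_⟩
  rw [c.vec_simple hlt hi, if_neg]
  rintro rfl
  exact hJ hj

theorem inRootSub_neg {J : Set ℕ} {r : ℕ} (h : D.InRootSub J r) : D.InRootSub J (D.neg r) := by
  rw [c.inRootSub_iff] at h ⊢
  refine ⟨c.neg_lt h.1, fun i hi hJ => ?_⟩
  rw [c.vec_neg h.1 hi, h.2 i hi hJ, neg_zero]

/-- A positive root of the subsystem is fundamental or descends along a node of `J`. -/
theorem exists_descent {J : Set ℕ} {r : ℕ} (hr : c.Pos r) (hJ : D.InRootSub J r) :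
    (∃ j ∈ J, j < D.rank ∧ r = D.simple j) ∨
    ∃ j ∈ J, j < D.rank ∧ c.Pos (c.w j r) ∧ D.InRootSub J (c.w j r) ∧ c.w j r < r := by
  obtain ⟨-, hout⟩ := c.inRootSub_iff.1 hJ
  obtain ⟨p, hp, hcp⟩ : ∃ p < D.rank, 0 < c.T.coroot r p * c.T.cartan p r := by
    by_contra hn
    push Not at hn
    have h := c.pairing_root_self hr.2
    rw [c.pairing_eq_sum] at h
    have := Finset.sum_nonpos fun i hi => hn i (Finset.mem_range.1 hi)
    omega
  have hne : c.T.vec r p ≠ 0 := fun e => by
    rw [(c.support hr.2 hp).2 e, zero_mul] at hcp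
    exact lt_irrefl _ hcp
  have hpJ : p ∈ J := by
    by_contra hn
    exact hne (hout p hp hn)
  by_cases e : r = D.simple p
  · exact Or.inl ⟨p, hpJ, hp, e⟩
  refine Or.inr ⟨p, hpJ, hp, (c.pos_w hp hr e).1, ?_, ?_⟩
  · rw [c.inRootSub_iff]
    refine ⟨c.w_lt hp hr.2, fun i hi hn => ?_⟩
    rw [c.vec_w hp hr.2 hi, if_neg (fun h => hn (by rw [h]; exact hpJ)), hout i hi hn]
    simp
  · have hA : 0 < c.T.cartan p r := by
      have hco : 0 ≤ c.T.coroot r p := by
        by_contra hlt
        push Not at hlt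
        have h2 := (c.vec_nonneg hr.2 hr.1).1 p hp
        have hpos := c.posRoot_iff.2 hr
        have := hpos.2 (c.T.coroot r p) (by
          rw [c.coroot_toList hr.2]
          exact List.mem_map.2 ⟨p, List.mem_range.2 (c.rank_eq ▸ hp), rfl⟩)
        omega
      by_contra hle
      push Not at hle
      exact absurd hcp (not_lt.2 (mul_nonpos_of_nonneg_of_nonpos hco hle))
    have hw := c.w_lt hp hr.2
    have hcode := (c.refl_root hp hr.2).2.1
    rw [c.cartan_eq hp hr.2] at hcode
    have hα := (c.pos_iff_code (c.simple_lt hp)).1 (c.pos_simple hp)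
    have : c.T.code (c.w p r) < c.T.code r := by
      rw [hcode]
      nlinarith
    by_contra hle
    push Not at hle
    have := (c.code_le_iff hr.2 hw).2 hle
    omega

theorem np_mem_parGens {J : Set ℕ} {j : ℕ} (hj : j ∈ J) (hlt : j < D.rank) :
    c.np F j ∈ parGens D F J := by
  have h : ∀ (s : ℕ) (t : F), D.InRootSub J s → c.xg s t ∈ parGens D F J := fun s t hs =>
    Subgroup.mem_sup_right (Subgroup.subset_closure ⟨s, t, Or.inr hs, c.xg_val _ _⟩)
  have hs := c.inRootSub_simple hj hlt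
  exact mul_mem (mul_mem (h _ _ hs) (h _ _ (c.inRootSub_neg hs))) (h _ _ hs)

theorem parabolic_eq (J : Set ℕ) : D.parabolicSubgroup F J = parGens D F J := by
  have hpos : ∀ (r : ℕ) (t : F), c.Pos r → c.xg r t ∈ D.parabolicSubgroup F J := fun r t hr =>
    Subgroup.mem_sup_left (c.xg_mem_B hr t)
  have hn : ∀ j ∈ J, j < D.rank → c.np F j ∈ D.parabolicSubgroup F J := fun j hj hlt =>
    Subgroup.mem_sup_right (Subgroup.subset_closure ⟨j, hj, hlt, c.ng_val _ _⟩)
  refine le_antisymm (sup_le (sup_le ?_ le_sup_left) ?_) (sup_le ?_ ?_)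
  · refine le_trans ?_ le_sup_right
    refine Subgroup.closure_mono ?_
    rintro g ⟨r, t, hr, e⟩
    exact ⟨r, t, Or.inl hr, e⟩
  · refine (Subgroup.closure_le _).2 ?_
    rintro g ⟨j, hj, hlt, e⟩
    obtain rfl : g = c.np F j := Units.ext (e.trans (c.ng_val _ _).symm)
    exact c.np_mem_parGens hj hlt
  · exact le_trans c.H_le_B le_sup_left
  refine (Subgroup.closure_le _).2 ?_
  rintro g ⟨r, t, hr, e⟩
  obtain rfl := c.eq_xg_iff.1 e
  have key : ∀ r, c.Pos r → D.InRootSub J r → ∀ t : F,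
      c.xg (D.neg r) t ∈ D.parabolicSubgroup F J := by
    intro r
    induction r using Nat.strong_induction_on with
    | _ r ih =>
      intro hr hJ t
      rcases c.exists_descent hr hJ with ⟨j, hj, hlt, rfl⟩ | ⟨j, hj, hlt, hp', hJ', hlt'⟩
      · have hα := c.simple_lt hlt
        have h := c.ng_conj (F := F) hlt hα ((c.T.eta j (D.simple j) : F) * t)
        rw [c.w_simple hlt, ← mul_assoc, c.eta_F_sq, one_mul] at h
        have e : c.xg (D.neg (D.simple j)) t = c.np F j *
            c.xg (D.simple j) ((c.T.eta j (D.simple j) : F) * t) * (c.np F j)⁻¹ := by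
          rw [eq_mul_inv_iff_mul_eq]
          exact h.symm
        rw [e]
        exact mul_mem (mul_mem (hn j hj hlt) (hpos _ _ (c.pos_simple hlt)))
          (inv_mem (hn j hj hlt))
      · have hw := c.w_lt hlt hr.2
        have hs := c.neg_lt hw
        have h := c.ng_conj (F := F) hlt hs ((c.T.eta j (D.neg (c.w j r)) : F) * t)
        rw [← mul_assoc, c.eta_F_sq, one_mul, c.w_neg hlt hw, c.w_w hlt hr.2] at h
        have e : c.xg (D.neg r) t = c.np F j *
            c.xg (D.neg (c.w j r)) ((c.T.eta j (D.neg (c.w j r)) : F) * t) * (c.np F j)⁻¹ := by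
          rw [eq_mul_inv_iff_mul_eq]
          exact h.symm
        rw [e]
        exact mul_mem (mul_mem (hn j hj hlt) (ih _ hlt' hp' hJ' _)) (inv_mem (hn j hj hlt))
  rcases hr with hr | hr
  · exact hpos r t (c.posRoot_iff.1 hr)
  · by_cases hp : c.Pos r
    · exact hpos r t hp
    · have h := key _ ((c.not_pos_iff hr.1).1 hp) (c.inRootSub_neg hr) t
      rwa [c.neg_neg hr.1] at h

/-! ### The gradings -/

theorem outWeight_pos {J : Set ℕ} {r : ℕ} (hr : c.Pos r) (hJ : ¬ D.InRootSub J r) :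
    0 < c.outWeight J r := by
  classical
  rw [c.inRootSub_iff] at hJ
  push Not at hJ
  obtain ⟨i, hi, hin, hne⟩ := hJ hr.2
  refine Finset.sum_pos' (fun j hj => (c.vec_nonneg hr.2 hr.1).1 j
    (Finset.mem_range.1 (Finset.mem_filter.1 hj).1)) ⟨i, ?_, ?_⟩
  · simp [hi, hin]
  · exact lt_of_le_of_ne ((c.vec_nonneg hr.2 hr.1).1 i hi) (Ne.symm hne)

theorem outWeight_zero {J : Set ℕ} {r : ℕ} (hJ : D.InRootSub J r) : c.outWeight J r = 0 := by
  classical
  refine Finset.sum_eq_zero fun i hi => ?_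
  simp only [Finset.mem_filter, Finset.mem_range] at hi
  exact (c.inRootSub_iff.1 hJ).2 i hi.1 hi.2

/-- The nonzero entries of a root element move the grading by multiples of the weight. -/
theorem x_entry_grade {r : ℕ} (hr : r < D.nroots) (J : Set ℕ) (t : F) (i j : D.Idx)
    (h : (D.x F r t - 1) i j ≠ 0) :
    ∃ k : ℕ, 1 ≤ k ∧ c.outGrade J i = c.outGrade J j + k * c.outWeight J r := by
  classical
  have hneg : ∀ {s : ℕ}, s < D.nroots → c.outWeight J (D.neg s) = - c.outWeight J s := by
    intro s hs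
    rw [outWeight, outWeight, ← Finset.sum_neg_distrib]
    exact Finset.sum_congr rfl fun i hi =>
      c.vec_neg hs (Finset.mem_range.1 (Finset.mem_filter.1 hi).1)
  have hcol : ((D.x F r t - 1) *ᵥ Pi.single j 1) i ≠ 0 := by
    rwa [Matrix.mulVec_single_one]
  rw [Matrix.sub_mulVec, Matrix.one_mulVec] at hcol
  rcases j with k | s
  · rw [single_inl, c.x_hvec hr k.isLt] at hcol
    rcases i with k' | u
    · simp [evec] at hcol
    · have hu : (u : ℕ) = r := by
        by_contra hu; simp [evec, hu] at hcol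
      exact ⟨1, le_rfl, by simp [outGrade, hu]⟩
  · rw [single_inr] at hcol
    by_cases h1 : (s : ℕ) = r
    · rw [h1, c.x_evec_self hr, sub_self] at hcol
      exact absurd rfl hcol
    by_cases h2 : (s : ℕ) = D.neg r
    · rw [h2, c.x_evec_neg hr] at hcol
      rcases i with k' | u
      · exact ⟨1, le_rfl, by simp [outGrade, h2, hneg hr]⟩
      · have hu : (u : ℕ) = r := by
          by_contra hu; simp [evec, hu, c.hroot_apply_inr] at hcol
        refine ⟨2, by omega, ?_⟩
        simp [outGrade, h2, hu, hneg hr]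
        try ring
    rw [c.x_evec hr s.isLt h1 h2] at hcol
    rcases i with k' | u
    · simp [chainVec_inl] at hcol
    · simp only [Pi.add_apply, Pi.sub_apply, add_sub_cancel_left] at hcol
      rw [chainVec_inr] at hcol
      obtain ⟨q, hq, hqu⟩ : ∃ q ∈ c.T.entry r s, q.1 = (u : ℕ) := by
        by_contra hn
        push Not at hn
        rw [show ((((c.T.entry r s).zipIdx).filter (fun q => q.1.1 = (u : ℕ))).map
          fun q => (q.2 + 1, q.1.2)) = [] from List.map_eq_nil_iff.2 (List.filter_eq_nil_iff.2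
            fun q hq => by
              simpa using hn q.1 (List.fst_mem_of_mem_zipIdx hq))] at hcol
        simp at hcol
      obtain ⟨n, hn, hne⟩ := List.getElem_of_mem hq
      have hch : c.T.chainRoot r s (n + 1) = some (u : ℕ) := by
        simp [Tables.chainRoot, List.getElem?_eq_getElem hn, hne, hqu]
      refine ⟨n + 1, by omega, ?_⟩
      simp only [outGrade, Sum.elim_inr, outWeight]
      rw [Finset.mul_sum, ← Finset.sum_add_distrib]
      refine Finset.sum_congr rfl fun i hi => ?_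
      rw [c.chainRoot_vec hr s.isLt (by omega) hch (Finset.mem_range.1 (Finset.mem_filter.1 hi).1)]

theorem outLev_lt {J : Set ℕ} {i j : D.Idx} (h : c.outGrade J j < c.outGrade J i) :
    c.outLev J j < c.outLev J i := by
  classical
  refine Finset.card_lt_card ⟨fun x hx => ?_, fun hsub => ?_⟩
  · simp only [Finset.mem_filter, Finset.mem_univ, true_and] at hx ⊢
    omega
  · have := hsub (Finset.mem_filter.2 ⟨Finset.mem_univ j, h⟩)
    simp at this

theorem grade_ne_of_outLev_lt {J : Set ℕ} {i j : D.Idx} (h : c.outLev J j < c.outLev J i) :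
    c.outGrade J i ≠ c.outGrade J j := fun e => by
  simp [outLev, e] at h

theorem radical_le_unitri (J : Set ℕ) :
    D.unipotentRadical F J ≤ unitri D F (c.outLev J) := by
  refine (Subgroup.closure_le _).2 ?_
  rintro g ⟨r, t, hr, hJ, e⟩
  obtain rfl := c.eq_xg_iff.1 e
  have hr' := c.posRoot_iff.1 hr
  have key : ∀ u : F, StrictLev (c.outLev J) ((c.xg r u : GL D.Idx F).1 - 1) := by
    intro u i j h
    rw [c.xg_val] at h
    obtain ⟨k, hk, e⟩ := c.x_entry_grade hr'.2 J u i j h
    have hw := c.outWeight_pos hr' hJ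
    refine c.outLev_lt ?_
    have : (1 : ℤ) ≤ k := by exact_mod_cast hk
    nlinarith
  exact ⟨key t, by rw [c.xg_inv]; exact key (-t)⟩

/-- Elements preserving the grading. -/
noncomputable def blockGroup (J : Set ℕ) : Subgroup (GL D.Idx F) where
  carrier := {g | ∀ i j, c.outGrade J i ≠ c.outGrade J j →
    (g : Matrix D.Idx D.Idx F) i j = 0 ∧ ((g⁻¹ : GL D.Idx F) : Matrix D.Idx D.Idx F) i j = 0}
  one_mem' := by
    intro i j h
    have : i ≠ j := fun e => h (e ▸ rfl)
    simp [this]
  mul_mem' := by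
    intro a b ha hb i j h
    rw [_root_.mul_inv_rev]
    constructor <;> rw [Units.val_mul, Matrix.mul_apply] <;> refine Finset.sum_eq_zero fun k _ => ?_
    · by_cases e : c.outGrade J i = c.outGrade J k
      · rw [(hb k j (e ▸ h)).1, mul_zero]
      · rw [(ha i k e).1, zero_mul]
    · by_cases e : c.outGrade J i = c.outGrade J k
      · rw [(ha k j (e ▸ h)).2, mul_zero]
      · rw [(hb i k e).2, zero_mul]
  inv_mem' := by
    intro a ha i j h
    rw [inv_inv]
    exact ⟨(ha i j h).2, (ha i j h).1⟩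

theorem levi_le_blockGroup (J : Set ℕ) : D.leviSubgroup F J ≤ c.blockGroup J := by
  refine sup_le (fun a ha i j h => ?_) ((Subgroup.closure_le _).2 ?_)
  · have hne : i ≠ j := fun e => h (e ▸ rfl)
    exact ⟨c.diag_apply_ne ha hne, c.diag_apply_ne (inv_mem ha) hne⟩
  rintro g ⟨r, t, hr, e⟩
  obtain rfl := c.eq_xg_iff.1 e
  intro i j h
  have key : ∀ u : F, (c.xg r u : GL D.Idx F).1 i j = 0 := by
    intro u
    by_contra hne
    have hij : i ≠ j := fun e => h (e ▸ rfl)
    obtain ⟨k, -, e⟩ := c.x_entry_grade hr.1 J u i j (by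
      rw [Matrix.sub_apply, Matrix.one_apply_ne hij, sub_zero, ← c.xg_val]; exact hne)
    rw [c.outWeight_zero hr, mul_zero, add_zero] at e
    exact h e
  exact ⟨key t, by rw [c.xg_inv]; exact key (-t)⟩

theorem radical_inf_levi (J : Set ℕ) :
    D.unipotentRadical F J ⊓ D.leviSubgroup F J = ⊥ := by
  rw [eq_bot_iff]
  intro g ⟨h1, h2⟩
  have hu := c.radical_le_unitri J h1
  have hb := c.levi_le_blockGroup J h2
  rw [Subgroup.mem_bot]
  refine Units.ext (Matrix.ext fun i j => ?_)
  by_contra hne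
  have hlt := hu.1 i j (by rw [Matrix.sub_apply, sub_ne_zero]; simpa using hne)
  have hgr := c.grade_ne_of_outLev_lt hlt
  have hij : i ≠ j := fun e => hgr (e ▸ rfl)
  refine hne ?_
  rw [(hb i j hgr).1, Units.val_one, Matrix.one_apply_ne hij]

/-! ### The normaliser -/

/-- The roots of the unipotent radical. -/
def radSet (J : Set ℕ) : Set ℕ := {r | c.Pos r ∧ ¬ D.InRootSub J r}

theorem mem_radical {J : Set ℕ} {r : ℕ} (hr : r ∈ c.radSet J) (t : F) :
    c.xg r t ∈ D.unipotentRadical F J :=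
  Subgroup.subset_closure ⟨r, t, c.posRoot_iff.2 hr.1, hr.2, c.xg_val _ _⟩

theorem radSet_add {J : Set ℕ} {r s x : ℕ} (hr : r ∈ c.radSet J)
    (hs : s < D.nroots) (hs' : c.Pos s ∨ D.InRootSub J s) {a b : ℕ} (ha : 1 ≤ a) (hx : x < D.nroots)
    (h : ∀ i < D.rank, c.T.vec x i = a * c.T.vec r i + b * c.T.vec s i) : x ∈ c.radSet J := by
  have h2 := hr.2
  rw [c.inRootSub_iff] at h2
  push Not at h2
  obtain ⟨i, hi, hin, hne⟩ := h2 hr.1.2
  have hpos : 0 < c.T.vec r i :=
    lt_of_le_of_ne ((c.vec_nonneg hr.1.2 hr.1.1).1 i hi) (Ne.symm hne)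
  have hnn : 0 ≤ c.T.vec s i := by
    rcases hs' with h' | h'
    · exact (c.vec_nonneg h'.2 h'.1).1 i hi
    · rw [(c.inRootSub_iff.1 h').2 i hi hin]
  have hxi : 0 < c.T.vec x i := by
    rw [h i hi]
    have : (1 : ℤ) ≤ a := by exact_mod_cast ha
    nlinarith [Int.natCast_nonneg b]
  refine ⟨c.pos_of_vec_pos hx hi hxi, fun hJ => ?_⟩
  rw [(c.inRootSub_iff.1 hJ).2 i hi hin] at hxi
  exact lt_irrefl _ hxi

theorem parabolic_le_normalizer (J : Set ℕ) :
    D.parabolicSubgroup F J ≤ Subgroup.normalizer (D.unipotentRadical F J : Set (GL D.Idx F)) := by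
  rw [c.parabolic_eq]
  refine sup_le ?_ ((Subgroup.closure_le _).2 ?_)
  · unfold ChevalleyDatum.unipotentRadical
    refine c.torus_le_normalizer ?_
    rintro g ⟨r, t, hr, hJ, e⟩
    exact ⟨r, hr.1, t, c.eq_xg_iff.1 e,
      fun u => Subgroup.subset_closure ⟨r, u, hr, hJ, c.xg_val _ _⟩⟩
  rintro g ⟨s, t, hs', e⟩
  obtain rfl := c.eq_xg_iff.1 e
  have hs : s < D.nroots := hs'.elim (fun h => h.1) fun h => h.1
  rw [c.posRoot_iff] at hs'
  have key : ∀ u : F, ∀ x ∈ D.unipotentRadical F J,
      c.xg s u * x * (c.xg s u)⁻¹ ∈ D.unipotentRadical F J := by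
    intro u x hx
    induction hx using Subgroup.closure_induction with
    | mem x h =>
      obtain ⟨r, v, hr, hJ, e⟩ := h
      obtain rfl := c.eq_xg_iff.1 e
      have hr' : r ∈ c.radSet J := ⟨c.posRoot_iff.1 hr, hJ⟩
      by_cases h1 : s = r
      · subst h1
        exact mul_mem (mul_mem (c.mem_radical hr' u) (c.mem_radical hr' v))
          (inv_mem (c.mem_radical hr' u))
      have h2 : s ≠ D.neg r := by
        rintro rfl
        rcases hs' with h | h
        · exact (c.not_pos_iff (c.neg_lt hr.1)).2 (by rw [c.neg_neg hr.1]; exact hr'.1) h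
        · exact hJ (by have := c.inRootSub_neg h; rwa [c.neg_neg hr.1] at this)
      have h1' : r ≠ s := Ne.symm h1
      have h2' : r ≠ D.neg s := fun e => h2 (by rw [e, c.neg_neg hs])
      have e := c.xg_comm hs hr.1 h1' h2' (-u) v
      have hsP : c.xg s u * c.xg r v * (c.xg s u)⁻¹ =
          c.xg r v * ((c.T.commTerms s r).map fun x =>
            c.xg x.1 ((x.2.1 : F) * (-(-u)) ^ x.2.2.1 * v ^ x.2.2.2)).prod := by
        have h := congrArg (fun y => c.xg s u * y) e
        simp only [← mul_assoc, ← c.xg_add, add_neg_cancel, c.xg_zero, one_mul] at h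
        rw [c.xg_inv]
        exact h
      rw [hsP]
      refine mul_mem (c.mem_radical hr' v) (Subgroup.list_prod_mem _ fun y hy => ?_)
      obtain ⟨x, hx, rfl⟩ := List.mem_map.1 hy
      obtain ⟨hx1, -, hxj, -⟩ := c.mem_commTerms hs hr.1 hx
      refine c.mem_radical (c.radSet_add (b := x.2.2.1) hr' hs hs' hxj hx1 fun i hi => ?_) _
      rw [c.commTerms_vec hs hr.1 hi hx]
      ring
    | one => simp [one_mem]
    | mul a b _ _ iha ihb =>
      rw [show c.xg s u * (a * b) * (c.xg s u)⁻¹ =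
        c.xg s u * a * (c.xg s u)⁻¹ * (c.xg s u * b * (c.xg s u)⁻¹) by group]
      exact mul_mem iha ihb
    | inv a _ iha =>
      rw [show c.xg s u * a⁻¹ * (c.xg s u)⁻¹ = (c.xg s u * a * (c.xg s u)⁻¹)⁻¹ by group]
      exact inv_mem iha
  rw [SetLike.mem_coe, Subgroup.mem_normalizer_iff]
  refine fun x => ⟨key t x, fun hx => ?_⟩
  have := key (-t) _ hx
  rw [← c.xg_inv] at this
  simpa [mul_assoc] using this

theorem radical_le_parGens (J : Set ℕ) : D.unipotentRadical F J ≤ parGens D F J := by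
  refine le_trans ?_ le_sup_right
  refine Subgroup.closure_mono ?_
  rintro g ⟨r, t, hr, -, e⟩
  exact ⟨r, t, Or.inl hr, e⟩

theorem radical_sup_levi (J : Set ℕ) :
    D.unipotentRadical F J ⊔ D.leviSubgroup F J = D.parabolicSubgroup F J := by
  rw [c.parabolic_eq]
  refine le_antisymm (sup_le (c.radical_le_parGens J) (sup_le_sup le_rfl ?_))
    (sup_le (le_trans le_sup_left le_sup_right) ((Subgroup.closure_le _).2 ?_))
  · refine Subgroup.closure_mono ?_
    rintro g ⟨r, t, hr, e⟩
    exact ⟨r, t, Or.inr hr, e⟩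
  rintro g ⟨r, t, hr, e⟩
  by_cases hJ : D.InRootSub J r
  · exact Subgroup.mem_sup_right (Subgroup.mem_sup_right (Subgroup.subset_closure ⟨r, t, hJ, e⟩))
  · exact Subgroup.mem_sup_left (Subgroup.subset_closure ⟨r, t, hr.resolve_right hJ, hJ, e⟩)

theorem nw_mem_parabolic {J : Set ℕ} : ∀ (n : ℕ) {L : List ℕ}, c.invN L = n →
    (∀ p ∈ L, p < D.rank) → (∀ r ∈ c.radSet J, c.wl L r ∈ c.radSet J) →
    c.nw F L ∈ D.parabolicSubgroup F J := by
  intro n
  induction n using Nat.strong_induction_on with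
  | _ n ih =>
    intro L hn hL hmap
    by_cases hq : ∀ q < D.rank, c.Pos (c.wl L (D.simple q))
    · exact Subgroup.mem_sup_left (c.H_le_B (c.nw_mem_H hL hq))
    push Not at hq
    obtain ⟨q, hq, hneg⟩ := hq
    have hα := c.simple_lt hq
    have hqJ : q ∈ J := by
      by_contra hn'
      have hmem : D.simple q ∈ c.radSet J := by
        refine ⟨c.pos_simple hq, fun h => ?_⟩
        have := (c.inRootSub_iff.1 h).2 q hq hn'
        rw [c.vec_simple hq hq, if_pos rfl] at this
        exact one_ne_zero this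
      exact hneg (hmap _ hmem).1
    have hL' : ∀ p ∈ L ++ [q], p < D.rank := by
      intro p hp
      rcases List.mem_append.1 hp with h | h
      · exact hL p h
      · rw [List.mem_singleton.1 h]; exact hq
    have hwl : ∀ x, c.wl (L ++ [q]) x = c.wl L (c.w q x) := fun x => by
      rw [c.wl_append, c.wl_cons, c.wl_nil]
    have hmap' : ∀ r ∈ c.radSet J, c.wl (L ++ [q]) r ∈ c.radSet J := by
      intro r hr
      rw [hwl]
      refine hmap _ ?_
      have h2 := hr.2
      rw [c.inRootSub_iff] at h2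
      push Not at h2
      obtain ⟨i, hi, hin, hne⟩ := h2 hr.1.2
      have hpos : 0 < c.T.vec r i :=
        lt_of_le_of_ne ((c.vec_nonneg hr.1.2 hr.1.1).1 i hi) (Ne.symm hne)
      have hiq : i ≠ q := fun e => hin (e ▸ hqJ)
      have hw := c.w_lt hq hr.1.2
      have hwi : 0 < c.T.vec (c.w q r) i := by
        rw [c.vec_w hq hr.1.2 hi, if_neg hiq]
        omega
      refine ⟨c.pos_of_vec_pos hw hi hwi, fun hJ => ?_⟩
      rw [(c.inRootSub_iff.1 hJ).2 i hi hin] at hwi
      exact lt_irrefl _ hwi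
    have hlt : c.invN (L ++ [q]) < n := by
      rw [← hn, invN, invN, Nat.card_coe_set_eq, Nat.card_coe_set_eq]
      refine lt_of_le_of_lt (b := ({r : ℕ | c.Pos r ∧ ¬ c.Pos (c.wl L r)} \ {D.simple q}).ncard)
        ?_ (Set.ncard_sdiff_singleton_lt_of_mem
          (s := {r : ℕ | c.Pos r ∧ ¬ c.Pos (c.wl L r)}) ⟨c.pos_simple hq, hneg⟩ (c.finite_inv L))
      refine Set.ncard_le_ncard_of_injOn (c.w q) (fun x hx => ?_) (fun x hx y hy e => ?_)
        ((c.finite_inv L).sdiff)
      · obtain ⟨hx, hneg'⟩ := hx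
        rw [hwl] at hneg'
        have hne : x ≠ D.simple q := by
          rintro rfl
          rw [c.w_simple hq, c.wl_neg hL hα] at hneg'
          exact hneg' ((c.not_pos_iff (c.wl_lt hL hα)).1 hneg)
        exact ⟨⟨(c.pos_w hq hx hne).1, hneg'⟩, (c.pos_w hq hx hne).2⟩
      · have := congrArg (c.w q) e
        rwa [c.w_w hq hx.1.2, c.w_w hq hy.1.2] at this
    have h := ih _ hlt rfl hL' hmap'
    rw [c.nw_append, c.nw_cons, c.nw_nil, mul_one] at h
    have hnp : c.np F q ∈ D.parabolicSubgroup F J :=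
      Subgroup.mem_sup_right (Subgroup.subset_closure ⟨q, hqJ, hq, c.ng_val _ _⟩)
    have := mul_mem h (inv_mem hnp)
    rwa [mul_inv_cancel_right] at this

theorem normalizer_radical (J : Set ℕ) :
    Subgroup.normalizer (D.unipotentRadical F J : Set (GL D.Idx F)) ⊓ D.group F =
      D.parabolicSubgroup F J := by
  refine le_antisymm ?_ (le_inf (c.parabolic_le_normalizer J) ?_)
  swap
  · refine sup_le c.B_le_group ((Subgroup.closure_le _).2 ?_)
    rintro g ⟨j, -, hlt, e⟩
    obtain rfl : g = c.np F j := Units.ext (e.trans (c.ng_val _ _).symm)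
    exact mul_mem (mul_mem (c.xg_mem_group (c.simple_lt hlt) _)
      (c.xg_mem_group (c.neg_lt (c.simple_lt hlt)) _)) (c.xg_mem_group (c.simple_lt hlt) _)
  rintro g ⟨hg, hgG⟩
  obtain ⟨b, hb, a, ha, L, hL, u, hu, rfl⟩ := c.bruhat_exists hgG
  have hB : D.borelSubgroup F ≤ D.parabolicSubgroup F J := le_sup_left
  have hbP := hB hb
  have huP := hB (Subgroup.mem_sup_left (c.KS_invSet_le_U hL hu))
  have haP := hB (c.H_le_B ha)
  have hn : c.nw F L ∈ Subgroup.normalizer (D.unipotentRadical F J : Set (GL D.Idx F)) := by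
    have h := mul_mem (mul_mem (inv_mem (c.parabolic_le_normalizer J (mul_mem hbP haP))) hg)
      (inv_mem (c.parabolic_le_normalizer J huP))
    rwa [show (b * a)⁻¹ * (b * (a * c.nw F L) * u) * u⁻¹ = c.nw F L by group] at h
  refine mul_mem (mul_mem hbP (mul_mem haP (c.nw_mem_parabolic _ rfl hL ?_))) huP
  intro r hr
  have hw := c.wl_lt hL hr.1.2
  have h := (Subgroup.mem_normalizer_iff.1 hn _).1
    (c.mem_radical (F := F) hr (c.wsign L r : F))
  rw [c.nw_mul_xg hL hr.1.2, mul_inv_cancel_right, c.wsign_sq] at h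
  have hne : c.xg (c.wl L r) (1 : F) ≠ 1 := fun e => one_ne_zero ((c.xg_eq_one_iff hw _).1 e)
  refine ⟨?_, fun hJ => ?_⟩
  · by_contra hpos
    apply hne
    have hU : D.unipotentRadical F J ≤ D.posUnipotent F := by
      refine (Subgroup.closure_le _).2 ?_
      rintro g ⟨s, t, hs, -, e⟩
      obtain rfl := c.eq_xg_iff.1 e
      exact c.xg_mem_U (c.posRoot_iff.1 hs) t
    exact Subgroup.mem_bot.1 (c.borel_inf_negUnipotent.1.le
      ⟨Subgroup.mem_sup_left (hU h), c.xg_mem_V hw hpos _⟩)
  · apply hne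
    exact Subgroup.mem_bot.1 ((c.radical_inf_levi J).le
      ⟨h, Subgroup.mem_sup_right (Subgroup.subset_closure ⟨_, _, hJ, c.xg_val _ _⟩)⟩)

end CertFull

end Cfsg.Agent.Lie.Chev
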