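import Cfsg.Agent.Lib.Lie.Chev.Bruhat

/-! Stabilisers of dominant roots, centralisers of root elements in characteristic two, and pairs
of conjugate root subgroups. -/

set_option autoImplicit false

namespace Cfsg.Agent.Lie.Chev

open Cfsg.Lie Matrix

namespace Tables

variable (T : Tables)

/-- Every commutator of a root element for `r` with one for `s` vanishes modulo two. -/
def evenPair (r s : ℕ) : Bool :=
  Bool.or (Nat.beq s r) (!(Nat.beq s (T.neg r)) && (T.commTerms r s).all fun x => x.2.1 % 2 == 0)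

/-- `r` is dominant with node `i` only, and commutes modulo two with positive roots and with the
negatives of the orthogonal fundamental roots. -/
def checkRootCentral (r i : ℕ) : Bool :=
  Nat.blt i T.l && Nat.ble T.h r && Nat.blt r T.n &&
  ((List.range T.l).all fun p => intBeq (T.cartan p r) (bif Nat.beq p i then 1 else 0)) &&
  (T.allRoots fun s => Bool.or (Nat.blt s T.h) (T.evenPair r s)) &&
  ((List.range T.l).all fun p => Bool.or (Nat.beq p i) (T.evenPair r (T.neg (T.simple p))))

/-- Image of a root under a word. -/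
def wlT : List ℕ → ℕ → ℕ
  | [], s => s
  | p :: L, s => T.refl p (wlT L s)

/-- For each root other than `-r`, a word making it and `r` positive. -/
def checkPairPos (r : ℕ) (words : List (List ℕ)) : Bool :=
  Nat.blt r T.n && Nat.beq words.length T.n && (words.zipIdx.all fun q =>
    Bool.or (Nat.beq q.2 (T.neg r))
      (q.1.all (fun p => Nat.blt p T.l) && Nat.ble T.h (T.wlT q.1 r) &&
        Nat.ble T.h (T.wlT q.1 q.2)))

/-- A root commuting with all positive root elements. -/
def checkTop (r : ℕ) : Bool :=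
  Nat.ble T.h r && Nat.blt r T.n &&
    T.allRoots fun s => Bool.or (Nat.blt s T.h) (T.commTerms r s).isEmpty

/-- `l` lists the negatives of the fundamental roots other than the `i`-th. -/
def checkNegList (i : ℕ) (l : List ℕ) : Bool :=
  (l.all fun s => (List.range T.l).any fun p => !(Nat.beq p i) && Nat.beq s (T.neg (T.simple p))) &&
  (List.range T.l).all fun p => Nat.beq p i || l.any (Nat.beq (T.neg (T.simple p)))

end Tables

namespace CertFull

variable {D : ChevalleyDatum} (c : CertFull D) {F : Type*} [Field F]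
include c

theorem wlT_eq (L : List ℕ) (s : ℕ) : c.T.wlT L s = c.wl L s := by
  induction L with
  | nil => rfl
  | cons p L ih => simp [Tables.wlT, Cert.w, ih]

theorem pairing_wl {L : List ℕ} (hL : ∀ p ∈ L, p < D.rank) {r u : ℕ} (hr : r < D.nroots)
    (hu : u < D.nroots) : c.T.pairing (c.wl L r) (c.wl L u) = c.T.pairing r u := by
  induction L with
  | nil => rfl
  | cons p L ih =>
    have hL' : ∀ q ∈ L, q < D.rank := fun q hq => hL q (by simp [hq])
    rw [Cert.wl_cons, Cert.wl_cons, c.pairing_w (hL p (by simp)) (c.wl_lt hL' hr) (c.wl_lt hL' hu),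
      ih hL']

theorem coroot_nonpos {s i : ℕ} (hs : s < D.nroots) (h : ¬ c.Pos s) (hi : i < D.rank) :
    c.T.coroot s i ≤ 0 := by
  have hneg : D.IsNegRoot s := by
    refine c.isNegRoot_iff.2 ?_
    by_contra hh
    exact h ⟨by omega, hs⟩
  refine hneg.2 _ ?_
  rw [c.coroot_toList hs, List.mem_map]
  exact ⟨i, List.mem_range.2 (c.rank_eq ▸ hi), rfl⟩

/-- The stabiliser of dominant roots is generated by the orthogonal fundamental reflections. -/
theorem nw_mem_of_fix {R : List ℕ}
    (hR : ∀ r ∈ R, r < D.nroots ∧ ∀ p < D.rank, 0 ≤ c.T.cartan p r) {S : Subgroup (GL D.Idx F)}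
    (hH : D.diagonalSubgroup F ≤ S)
    (hS : ∀ p < D.rank, (∀ r ∈ R, c.T.cartan p r = 0) → c.np F p ∈ S) {L : List ℕ}
    (hL : ∀ p ∈ L, p < D.rank) (hfix : ∀ r ∈ R, c.wl L r = r) : c.nw F L ∈ S := by
  generalize hn : L.length = n
  induction n using Nat.strong_induction_on generalizing L with
  | _ n ih =>
    by_cases hall : ∀ q < D.rank, c.Pos (c.wl L (D.simple q))
    · exact hH (c.nw_mem_H hL hall)
    push Not at hall
    obtain ⟨q, hq, hneg⟩ := hall
    have hα := c.simple_lt hq
    have horth : ∀ r ∈ R, c.T.cartan q r = 0 := by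
      intro r hr
      refine le_antisymm ?_ ((hR r hr).2 q hq)
      rw [← c.pairing_simple hq r, ← c.pairing_wl hL hα (hR r hr).1, hfix r hr, c.pairing_eq_sum]
      refine Finset.sum_nonpos fun i hi => ?_
      rw [Finset.mem_range] at hi
      exact mul_nonpos_of_nonpos_of_nonneg (c.coroot_nonpos (c.wl_lt hL hα) hneg hi)
        ((hR r hr).2 i hi)
    obtain ⟨M, hM, hlen, a, ha, e⟩ := c.deletion (F := F) hL hq hneg
    have hMfix : ∀ r ∈ R, c.wl M r = r := by
      intro r hr
      have hLq : ∀ p ∈ L ++ [q], p < D.rank := fun p hp =>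
        (List.mem_append.1 hp).elim (hL p) (by simpa using fun h : p = q => h ▸ hq)
      have hw := c.wl_eq_of_eq (one_mem _) ha hLq hM (by rw [one_mul]; exact e) (hR r hr).1
      rw [← hw, c.wl_append, Cert.wl_cons, Cert.wl_nil,
        c.code_w_fixed hq (hR r hr).1 (by rw [c.cartan_eq hq (hR r hr).1]; exact horth r hr)]
      exact hfix r hr
    have h := mul_mem (mul_mem (hH ha) (ih M.length (by omega) hM hMfix rfl))
      (inv_mem (hS q hq horth))
    rw [← e, c.nw_append, Cert.nw_cons, Cert.nw_nil, mul_one, mul_inv_cancel_right] at h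
    exact h

theorem xg_eq_xg_pos {r s : ℕ} (hr : c.Pos r) {a b : F} (ha : a ≠ 0) (hs : s < D.nroots)
    (h : c.xg s b = c.xg r a) : s = r ∧ b = a := by
  by_cases hp : c.Pos s
  · rcases lt_trichotomy s r with hlt | rfl | hlt
    · obtain ⟨-, h2⟩ := c.xg_mul_K_inj hp (one_mem _) (c.xg_mem_K hr hlt a)
        (show c.xg s b * 1 = c.xg s 0 * c.xg r a by rw [mul_one, c.xg_zero, one_mul, h])
      exact absurd ((c.xg_eq_one_iff hr.2 a).1 h2.symm) ha
    · exact ⟨rfl, c.xg_inj hp.2 h⟩
    · obtain ⟨h1, -⟩ := c.xg_mul_K_inj hr (c.xg_mem_K hp hlt b) (one_mem _)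
        (show c.xg r 0 * c.xg s b = c.xg r a * 1 by rw [mul_one, c.xg_zero, one_mul, h])
      exact absurd h1.symm ha
  · have h1 : c.xg r a ∈ D.negUnipotent F := h ▸ c.xg_mem_V hs hp b
    have h2 := c.borel_inf_negUnipotent.1.le (Subgroup.mem_inf.2 ⟨c.xg_mem_B hr a, h1⟩)
    rw [Subgroup.mem_bot, c.xg_eq_one_iff hr.2] at h2
    exact absurd h2 ha

theorem commute_of_evenPair [CharP F 2] {r s : ℕ} (hr : r < D.nroots) (hs : s < D.nroots)
    (h : c.T.evenPair r s = true) (a b : F) : c.xg s b * c.xg r a = c.xg r a * c.xg s b := by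
  simp only [Tables.evenPair, Bool.or_eq_true, Bool.and_eq_true, List.all_eq_true,
    Bool.not_eq_true'] at h
  rcases h with h | ⟨h1, h⟩
  · rw [eq_of_beq' h, ← c.xg_add, ← c.xg_add, add_comm]
  by_cases hne : s = r
  · rw [hne, ← c.xg_add, ← c.xg_add, add_comm]
  have hneg : s ≠ D.neg r := by
    intro e
    rw [beq_of_eq (e.trans (c.neg_eq hr))] at h1
    cases h1
  rw [c.xg_comm hr hs hne hneg]
  refine (mul_eq_left (a := c.xg r a * c.xg s b)).2 (List.prod_eq_one fun g hg => ?_)
  obtain ⟨x, hx, rfl⟩ := List.mem_map.1 hg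
  obtain ⟨m, hm⟩ : (2 : ℤ) ∣ x.2.1 := Int.dvd_of_emod_eq_zero (beq_iff_eq.1 (h x hx))
  rw [hm]
  simp [CharTwo.two_eq_zero, c.xg_zero]

/-- The centraliser of a dominant root element in characteristic two. -/
theorem centralizer_root [CharP F 2] {r i : ℕ} (h : c.T.checkRootCentral r i = true) :
    D.group F ⊓ Subgroup.centralizer {c.xg r (1 : F)} =
      D.posUnipotent F ⊔ Subgroup.closure {g : GL D.Idx F |
        ∃ p < D.rank, p ≠ i ∧ ∃ t : F, g = c.xg (D.neg (D.simple p)) t} := by
  simp only [Tables.checkRootCentral, Tables.allRoots, Bool.and_eq_true, List.all_eq_true,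
    List.mem_range, Bool.or_eq_true, Nat.ble_eq, Nat.blt_eq] at h
  obtain ⟨⟨⟨⟨⟨hi, hrh⟩, hrn⟩, hcart⟩, hposc⟩, hnegc⟩ := h
  rw [← c.nroots_eq] at hrn
  rw [← c.rank_eq] at hi
  have hr : c.Pos r := ⟨hrh, hrn⟩
  have hA : ∀ p < D.rank, c.T.cartan p r = if p = i then 1 else 0 := by
    intro p hp
    have h := hcart p (c.rank_eq ▸ hp)
    by_cases hpi : p = i
    · rw [beq_of_eq hpi, cond_true] at h
      rw [if_pos hpi]
      revert h
      cases c.T.cartan p r <;> simp [intBeq]
    · rw [show Nat.beq p i = false from Bool.eq_false_iff.2 fun e => hpi (eq_of_beq' e),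
        cond_false] at h
      rw [if_neg hpi]
      revert h
      cases c.T.cartan p r <;> simp [intBeq]
  have hU : ∀ a : F, ∀ v ∈ D.posUnipotent F, v * c.xg r a = c.xg r a * v := by
    intro a v hv
    induction hv using Subgroup.closure_induction with
    | mem g hg =>
      obtain ⟨s, b, hs, hg⟩ := hg
      obtain rfl := c.eq_xg_iff.1 hg
      have hs' := c.posRoot_iff.1 hs
      rcases hposc s (c.nroots_eq ▸ hs'.2) with h | h
      · exact absurd hs'.1 (by omega)
      · exact c.commute_of_evenPair hr.2 hs'.2 h a b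
    | one => simp
    | mul x y _ _ hx hy => exact ((Commute.mul_left (show Commute x _ from hx) hy) : _)
    | inv x _ hx => exact ((Commute.inv_left (show Commute x _ from hx)) : _)
  set S := D.posUnipotent F ⊔ Subgroup.closure {g : GL D.Idx F |
    ∃ p < D.rank, p ≠ i ∧ ∃ t : F, g = c.xg (D.neg (D.simple p)) t} with hSdef
  have hng : ∀ p < D.rank, p ≠ i → ∀ t : F, c.ng (D.simple p) t ∈ S := fun p hp hne t =>
    mul_mem (mul_mem (Subgroup.mem_sup_left (c.xg_mem_U (c.pos_simple hp) t))
      (Subgroup.mem_sup_right (Subgroup.subset_closure ⟨p, hp, hne, _, rfl⟩)))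
      (Subgroup.mem_sup_left (c.xg_mem_U (c.pos_simple hp) t))
  refine le_antisymm ?_ (sup_le ?_ ((Subgroup.closure_le _).2 ?_))
  · intro g hg
    obtain ⟨hgG, hgC⟩ := Subgroup.mem_inf.1 hg
    rw [Subgroup.mem_centralizer_singleton_iff] at hgC
    obtain ⟨b, hb, a₀, ha₀, L, hL, u, hu, rfl⟩ := c.bruhat_exists hgG
    obtain ⟨v, hv, a, ha, rfl⟩ := c.mem_borel_iff.1 hb
    have huU := c.KS_invSet_le_U hL hu
    have haa := mul_mem ha ha₀
    rw [c.diagonalSubgroup_eq] at haa
    obtain ⟨z, hz⟩ := haa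
    set k : F := (c.tchar z (c.wl L r) : F) * (c.wsign L r : F)
    have hconj : (a * (a₀ * c.nw F L)) * c.xg r 1 * (a * (a₀ * c.nw F L))⁻¹ =
        c.xg (c.wl L r) k := by
      rw [← mul_assoc a, ← hz, mul_assoc (c.torus z) (c.nw F L), c.nw_mul_xg hL hr.2, mul_one,
        ← mul_assoc, Cert.torus_apply, c.dg_mul_xg (c.tchar_isRootCharacter z) (c.wl_lt hL hr.2)]
      group
      rfl
    set y := a * (a₀ * c.nw F L) with hy
    have h1 : v * y * c.xg r 1 * y⁻¹ * v⁻¹ = c.xg r 1 := by
      have e0 : v * y * u = v * a * (a₀ * c.nw F L) * u := by rw [hy]; group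
      calc v * y * c.xg r 1 * y⁻¹ * v⁻¹
          = v * y * (u * c.xg r 1 * u⁻¹) * y⁻¹ * v⁻¹ := by rw [hU 1 u huU]; group
        _ = (v * y * u) * c.xg r 1 * (v * y * u)⁻¹ := by group
        _ = _ := by rw [e0, hgC]; group
    have h2 : y * c.xg r 1 * y⁻¹ = c.xg r 1 := by
      calc y * c.xg r 1 * y⁻¹ = v⁻¹ * (v * y * c.xg r 1 * y⁻¹ * v⁻¹) * v := by group
        _ = v⁻¹ * c.xg r 1 * v := by rw [h1]
        _ = _ := by rw [mul_assoc, ← hU 1 v hv]; group
    rw [hconj] at h2
    obtain ⟨hw, hk⟩ := c.xg_eq_xg_pos hr one_ne_zero (c.wl_lt hL hr.2) h2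
    have hsign : (c.wsign L r : F) = 1 := by
      have h := c.wsign_sq (F := F) L r
      rcases mul_self_eq_one_iff.1 h with h | h
      · exact h
      · rw [h, CharTwo.neg_eq]
    have hzi : z i = 1 := by
      refine Units.ext ?_
      have h3 : (c.tchar z r : F) = 1 := by
        simpa [k, hsign, hw] using hk
      rw [Cert.tchar, Finset.prod_eq_single i] at h3
      · simpa [hA i hi] using h3
      · intro p hp hpi
        rw [hA p (Finset.mem_range.1 hp), if_neg hpi, zpow_zero]
      · exact fun h => absurd (Finset.mem_range.2 hi) h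
    have hnp : ∀ p < D.rank, p ≠ i → c.np F p ∈ S := fun p hp hne => hng p hp hne 1
    have hzH : c.torus z ∈ S := by
      rw [c.torus_eq_prod]
      refine Subgroup.list_prod_mem _ fun x hx => ?_
      obtain ⟨p, hp, rfl⟩ := List.mem_map.1 hx
      rw [List.mem_range] at hp
      by_cases hpi : p = i
      · subst hpi
        rw [hzi, Units.val_one]
        have e : c.hg (D.simple p) (1 : F) = 1 := by
          rw [show (1 : F) = ((1 : Fˣ) : F) from Units.val_one.symm,
            c.hg_eq (c.simple_lt hp) 1, ← map_one (dg D F)]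
          exact dg_ext D F fun s _ => by simp [CertFull.pairChar]
        rw [e]; exact one_mem _
      · exact mul_mem (hng p hp hpi _) (hng p hp hpi _)
    have hnw : c.nw F L ∈ S := by
      suffices hS' : ∀ {M : List ℕ}, (∀ p ∈ M, p < D.rank) → c.wl M r = r →
          ∃ b ∈ D.diagonalSubgroup F, b * c.nw F M ∈
            Subgroup.closure {x : GL D.Idx F | ∃ p < D.rank, p ≠ i ∧ x = c.np F p} by
        obtain ⟨d, hd, hdM⟩ := hS' hL hw
        have hdS : d * c.nw F L ∈ S := by
          refine (Subgroup.closure_le _).2 ?_ hdM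
          rintro x ⟨p, hp, hpi, rfl⟩
          exact hnp p hp hpi
        -- the torus factor is again in the stabiliser
        have hdS' : d ∈ S := by
          rw [c.diagonalSubgroup_eq] at hd
          obtain ⟨z', rfl⟩ := hd
          have hz' : (c.tchar z' r : F) = 1 := by
            have hfix : ∀ x ∈ Subgroup.closure {x : GL D.Idx F | ∃ p < D.rank, p ≠ i ∧ x = c.np F p},
                x * c.xg r 1 * x⁻¹ = c.xg r 1 := by
              intro x hx
              induction hx using Subgroup.closure_induction with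
              | mem x hx =>
                obtain ⟨p, hp, hpi, rfl⟩ := hx
                rw [Cert.np, c.ng_conj hp hr.2, mul_inv_cancel_right,
                  c.code_w_fixed hp hr.2 (by rw [c.cartan_eq hp hr.2, hA p hp, if_neg hpi])]
                congr 1
                rcases c.T.eta_cases p r with e | e <;> simp [e, CharTwo.neg_eq]
              | one => simp
              | mul x y _ _ hx hy =>
                calc x * y * c.xg r 1 * (x * y)⁻¹ = x * (y * c.xg r 1 * y⁻¹) * x⁻¹ := by group
                  _ = _ := by rw [hy, hx]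
              | inv x _ hx =>
                calc x⁻¹ * c.xg r 1 * x⁻¹⁻¹ = x⁻¹ * (x * c.xg r 1 * x⁻¹) * x := by rw [hx]; group
                  _ = _ := by group
            have h5 := hfix _ hdM
            rw [mul_assoc (c.torus z'), c.nw_mul_xg hL hr.2, hw, hsign, one_mul, ← mul_assoc,
              Cert.torus_apply, c.dg_mul_xg (c.tchar_isRootCharacter z') hr.2, mul_one] at h5
            have h6 : c.xg r (c.tchar z' r : F) = c.xg r 1 := by
              rw [← h5]; group
            exact c.xg_inj hr.2 h6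
          have hz'i : z' i = 1 := by
            refine Units.ext ?_
            rw [Cert.tchar, Finset.prod_eq_single i] at hz'
            · simpa [hA i hi] using hz'
            · intro p hp hpi
              rw [hA p (Finset.mem_range.1 hp), if_neg hpi, zpow_zero]
            · exact fun h => absurd (Finset.mem_range.2 hi) h
          rw [c.torus_eq_prod]
          refine Subgroup.list_prod_mem _ fun x hx => ?_
          obtain ⟨p, hp, rfl⟩ := List.mem_map.1 hx
          rw [List.mem_range] at hp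
          by_cases hpi : p = i
          · subst hpi
            rw [hz'i, Units.val_one]
            have e : c.hg (D.simple p) (1 : F) = 1 := by
              rw [show (1 : F) = ((1 : Fˣ) : F) from Units.val_one.symm,
                c.hg_eq (c.simple_lt hp) 1, ← map_one (dg D F)]
              exact dg_ext D F fun s _ => by simp [CertFull.pairChar]
            rw [e]; exact one_mem _
          · exact mul_mem (hng p hp hpi _) (hng p hp hpi _)
        have := mul_mem (inv_mem hdS') hdS
        rwa [inv_mul_cancel_left] at this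
      intro M hM hMr
      have hmem := c.nw_mem_of_fix (F := F) (R := [r]) (fun x hx => by
          rw [List.mem_singleton] at hx
          subst hx
          exact ⟨hr.2, fun p hp => by rw [hA p hp]; split_ifs <;> omega⟩)
        (S := D.diagonalSubgroup F ⊔
          Subgroup.closure {x : GL D.Idx F | ∃ p < D.rank, p ≠ i ∧ x = c.np F p})
        le_sup_left (fun p hp h0 => Subgroup.mem_sup_right (Subgroup.subset_closure
          ⟨p, hp, fun e => by
            have := h0 r (by simp)
            rw [hA p hp, if_pos e] at this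
            exact one_ne_zero this, rfl⟩)) hM (fun x hx => by
          rw [List.mem_singleton] at hx; subst hx; exact hMr)
      have hle : Subgroup.closure {x : GL D.Idx F | ∃ p < D.rank, p ≠ i ∧ x = c.np F p} ≤
          Subgroup.normalizer (D.diagonalSubgroup F : Set (GL D.Idx F)) := by
        refine ((Subgroup.closure_le _).2 ?_).trans c.N_le_normalizer_H
        rintro x ⟨p, hp, -, rfl⟩
        exact c.np_mem_N hp
      rw [← SetLike.mem_coe, Subgroup.coe_mul_of_right_le_normalizer_left _ _ hle, Set.mem_mul]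
        at hmem
      obtain ⟨d, hd, x, hx, e⟩ := hmem
      exact ⟨d⁻¹, inv_mem hd, by rw [← e, inv_mul_cancel_left]; exact hx⟩
    rw [show v * a * (a₀ * c.nw F L) * u = v * ((a * a₀) * c.nw F L) * u by group, ← hz]
    exact mul_mem (mul_mem (Subgroup.mem_sup_left hv) (mul_mem hzH hnw))
      (Subgroup.mem_sup_left huU)
  · refine le_inf ((le_sup_left).trans c.sup_neg_eq_group.le) fun g hg => ?_
    rw [Subgroup.mem_centralizer_singleton_iff]
    exact hU 1 g hg
  · rintro g ⟨p, hp, hpi, t, rfl⟩
    refine Subgroup.mem_inf.2 ⟨c.xg_mem_group (c.neg_lt (c.simple_lt hp)) t, ?_⟩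
    rw [Subgroup.mem_centralizer_singleton_iff]
    rcases hnegc p (c.rank_eq ▸ hp) with h | h
    · exact absurd (eq_of_beq' h) hpi
    · refine c.commute_of_evenPair hr.2 (c.neg_lt (c.simple_lt hp)) ?_ 1 t
      rw [c.neg_eq (c.simple_lt hp), c.simple_eq hp]
      exact h

/-- The same with the negative fundamental roots listed explicitly. -/
theorem centralizer_root' [CharP F 2] {r i : ℕ} (h : c.T.checkRootCentral r i = true)
    {l : List ℕ} (hl : c.T.checkNegList i l = true) :
    D.group F ⊓ Subgroup.centralizer {c.xg r (1 : F)} =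
      D.posUnipotent F ⊔ Subgroup.closure {g : GL D.Idx F |
        ∃ s ∈ l, ∃ t : F, (g : Matrix D.Idx D.Idx F) = D.x F s t} := by
  simp only [Tables.checkNegList, Bool.and_eq_true, List.all_eq_true, List.any_eq_true,
    Bool.or_eq_true, List.mem_range, Bool.not_eq_true'] at hl
  obtain ⟨h1, h2⟩ := hl
  rw [c.centralizer_root h]
  congr 2
  ext g
  simp only [Set.mem_setOf_eq]
  constructor
  · rintro ⟨p, hp, hpi, t, rfl⟩
    rcases h2 p (c.rank_eq ▸ hp) with h | ⟨s, hs, e⟩
    · exact absurd (eq_of_beq' h) hpi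
    · refine ⟨s, hs, t, ?_⟩
      rw [c.neg_eq (c.simple_lt hp), c.simple_eq hp, eq_of_beq' e]
      exact c.eq_xg_iff.2 rfl
  · rintro ⟨s, hs, t, e⟩
    obtain ⟨p, hp, hpi, hsp⟩ := h1 s hs
    have hp' : p < D.rank := c.rank_eq.symm ▸ hp
    refine ⟨p, hp', fun e' => ?_, t, ?_⟩
    · rw [beq_of_eq e'] at hpi
      cases hpi
    · rw [c.neg_eq (c.simple_lt hp'), c.simple_eq hp', ← eq_of_beq' hsp]
      exact c.eq_xg_iff.1 e

theorem isPGroup_U [Fintype F] {ℓ : ℕ} [Fact ℓ.Prime] [CharP F ℓ] :
    IsPGroup ℓ ↥(D.posUnipotent F) := by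
  obtain ⟨n, -, hn⟩ := FiniteField.card F ℓ
  refine IsPGroup.of_card (n := (n : ℕ) * (D.nroots / 2)) ?_
  rw [c.card_posUnipotent, hn, ← pow_mul]

theorem rootSubgroup_map {r : ℕ} (hr : r < D.nroots) {L : List ℕ} (hL : ∀ p ∈ L, p < D.rank)
    {a : GL D.Idx F} (ha : a ∈ D.diagonalSubgroup F) :
    (D.rootSubgroup F r).map (MulAut.conj (a * c.nw F L)).toMonoidHom =
      D.rootSubgroup F (c.wl L r) := by
  obtain ⟨k, hk, hconj⟩ := c.mono_mul_xg ha hL hr
  ext x
  simp only [Subgroup.mem_map, c.mem_rootSubgroup_iff, MulEquiv.toMonoidHom_eq_coe,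
    MonoidHom.coe_coe, MulAut.conj_apply]
  constructor
  · rintro ⟨g, ⟨t, rfl⟩, rfl⟩
    exact ⟨k * t, by rw [hconj, mul_inv_cancel_right]⟩
  · rintro ⟨t, rfl⟩
    exact ⟨c.xg r (k⁻¹ * t), ⟨_, rfl⟩, by
      rw [hconj, mul_inv_cancel_right, ← mul_assoc, mul_inv_cancel₀ hk, one_mul]⟩

theorem map_top_root {r : ℕ} (h : c.T.checkTop r = true) {b : GL D.Idx F}
    (hb : b ∈ D.borelSubgroup F) :
    (D.rootSubgroup F r).map (MulAut.conj b).toMonoidHom = D.rootSubgroup F r := by
  simp only [Tables.checkTop, Tables.allRoots, Bool.and_eq_true, List.all_eq_true, List.mem_range,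
    Bool.or_eq_true, Nat.ble_eq, Nat.blt_eq, List.isEmpty_iff] at h
  obtain ⟨⟨hrh, hrn⟩, hposc⟩ := h
  have hr : c.Pos r := ⟨hrh, c.nroots_eq ▸ hrn⟩
  obtain ⟨v, hv, a, ha, rfl⟩ := c.mem_borel_iff.1 hb
  have h1 := c.rootSubgroup_map (L := []) hr.2 (by simp) ha
  rw [Cert.nw_nil, mul_one, Cert.wl_nil] at h1
  have hcomm : ∀ t : F, v * c.xg r t = c.xg r t * v := by
    intro t
    clear hb
    induction hv using Subgroup.closure_induction with
    | mem g hg =>
      obtain ⟨s, b, hs, hg⟩ := hg
      obtain rfl := c.eq_xg_iff.1 hg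
      have hs' := c.posRoot_iff.1 hs
      by_cases hne : s = r
      · rw [hne, ← c.xg_add, ← c.xg_add, add_comm]
      have hneg : s ≠ D.neg r := fun e => ((c.not_pos_iff hr.2).2 (e ▸ hs')) hr
      rw [c.xg_comm hr.2 hs'.2 hne hneg]
      rcases hposc s (c.nroots_eq ▸ hs'.2) with h | h
      · exact absurd hs'.1 (by omega)
      · rw [h, List.map_nil, List.prod_nil, mul_one]
    | one => simp
    | mul x y _ _ hx hy => exact ((Commute.mul_left (show Commute x _ from hx) hy) : _)
    | inv x _ hx => exact ((Commute.inv_left (show Commute x _ from hx)) : _)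
  rw [map_mul, show (MulAut.conj v * MulAut.conj a).toMonoidHom =
      (MulAut.conj v).toMonoidHom.comp (MulAut.conj a).toMonoidHom from rfl, ← Subgroup.map_map, h1]
  ext x
  simp only [Subgroup.mem_map, c.mem_rootSubgroup_iff, MulEquiv.toMonoidHom_eq_coe,
    MonoidHom.coe_coe, MulAut.conj_apply]
  constructor
  · rintro ⟨g, ⟨t, rfl⟩, rfl⟩
    exact ⟨t, by rw [hcomm, mul_inv_cancel_right]⟩
  · rintro ⟨t, rfl⟩
    exact ⟨_, ⟨t, rfl⟩, by rw [hcomm, mul_inv_cancel_right]⟩

/-- Two conjugates of the highest root subgroup generate a unipotent group or are opposite. -/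
theorem root_pair [Fintype F] {ℓ : ℕ} [Fact ℓ.Prime] [CharP F ℓ] {r : ℕ}
    (htop : c.T.checkTop r = true) {words : List (List ℕ)}
    (hwords : c.T.checkPairPos r words = true) {g : GL D.Idx F} (hg : g ∈ D.group F) :
    IsPGroup ℓ ↥(D.rootSubgroup F r ⊔ (D.rootSubgroup F r).map (MulAut.conj g).toMonoidHom) ∨
    ∃ h ∈ D.group F, (D.rootSubgroup F r ⊔
      (D.rootSubgroup F r).map (MulAut.conj g).toMonoidHom).map (MulAut.conj h).toMonoidHom =
        D.rootSubgroup F r ⊔ D.rootSubgroup F (D.neg r) := by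
  obtain ⟨b, hb, a, ha, L, hL, u, hu, rfl⟩ := c.bruhat_exists hg
  have hu' : u ∈ D.borelSubgroup F := Subgroup.mem_sup_left (c.KS_invSet_le_U hL hu)
  have htop' := htop
  simp only [Tables.checkTop, Bool.and_eq_true, Nat.blt_eq] at htop'
  have hr : r < D.nroots := c.nroots_eq ▸ htop'.1.2
  have hmap : (D.rootSubgroup F r).map (MulAut.conj (b * (a * c.nw F L) * u)).toMonoidHom =
      (D.rootSubgroup F (c.wl L r)).map (MulAut.conj b).toMonoidHom := by
    rw [← c.rootSubgroup_map hr hL ha]
    conv_rhs => rw [← c.map_top_root htop hu']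
    rw [Subgroup.map_map, Subgroup.map_map]
    congr 1
    ext x
    simp [mul_assoc]
  have hjoin : D.rootSubgroup F r ⊔
      (D.rootSubgroup F r).map (MulAut.conj (b * (a * c.nw F L) * u)).toMonoidHom =
      (D.rootSubgroup F r ⊔ D.rootSubgroup F (c.wl L r)).map (MulAut.conj b).toMonoidHom := by
    rw [hmap, Subgroup.map_sup, c.map_top_root htop hb]
  rw [hjoin]
  by_cases hopp : c.wl L r = D.neg r
  · refine Or.inr ⟨b⁻¹, inv_mem (c.B_le_group hb), ?_⟩
    rw [hopp, Subgroup.map_map]
    conv_rhs => rw [← Subgroup.map_id (D.rootSubgroup F r ⊔ D.rootSubgroup F (D.neg r))]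
    congr 1
    ext x
    simp [mul_assoc]
  · left
    simp only [Tables.checkPairPos, Bool.and_eq_true, Bool.or_eq_true, List.all_eq_true,
      Nat.beq_eq, Nat.blt_eq, Nat.ble_eq] at hwords
    obtain ⟨⟨-, hlen⟩, hall⟩ := hwords
    have hβ := c.wl_lt hL hr
    have hlt : c.wl L r < words.length := by rw [hlen, ← c.nroots_eq]; exact hβ
    rcases hall _ (List.mk_mem_zipIdx_iff_getElem?.2 (List.getElem?_eq_getElem hlt)) with
      h | ⟨⟨hM, hM1⟩, hM2⟩
    · exact absurd (h.trans (c.neg_eq hr).symm) hopp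
    simp only at hM hM1 hM2
    set M := words[c.wl L r]
    have hMl : ∀ p ∈ M, p < D.rank := fun p hp => c.rank_eq.symm ▸ hM p hp
    rw [c.wlT_eq] at hM1 hM2
    have hMi : c.nw F M ∈ D.monomialSubgroup F := c.nw_mem_N hMl
    set J := D.rootSubgroup F r ⊔ D.rootSubgroup F (c.wl L r) with hJ
    have hle : J.map (MulAut.conj (c.nw F M)).toMonoidHom ≤ D.posUnipotent F := by
      have e : ∀ s < D.nroots, c.Pos (c.wl M s) →
          (D.rootSubgroup F s).map (MulAut.conj (c.nw F M)).toMonoidHom ≤ D.posUnipotent F := by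
        intro s hs hp x hx
        have h := c.rootSubgroup_map (F := F) hs hMl (one_mem _)
        rw [one_mul] at h
        rw [h, c.mem_rootSubgroup_iff] at hx
        obtain ⟨t, rfl⟩ := hx
        exact c.xg_mem_U hp t
      rw [hJ, Subgroup.map_sup]
      exact sup_le (e r hr ⟨hM1, c.wl_lt hMl hr⟩) (e _ hβ ⟨hM2, c.wl_lt hMl hβ⟩)
    have hJp : IsPGroup ℓ ↥J :=
      IsPGroup.of_equiv ((c.isPGroup_U (F := F)).to_le hle)
        (Subgroup.equivMapOfInjective J _ (MulAut.conj (c.nw F M)).injective).symm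
    exact hJp.map _

end CertFull

end Cfsg.Agent.Lie.Chev
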