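import Cfsg.Agent.Lib.Lie.Chev.Unipotent

/-! The monomial subgroup and the Weyl group acting on roots. -/

set_option autoImplicit false

namespace Cfsg.Agent.Lie.Chev

open Cfsg.Lie Matrix

section General

variable {G : Type*} [Group G]

theorem conj_closure_mem {S : Set G} {a : G} (h : ∀ g ∈ S, a * g * a⁻¹ ∈ Subgroup.closure S)
    {g : G} (hg : g ∈ Subgroup.closure S) : a * g * a⁻¹ ∈ Subgroup.closure S := by
  induction hg using Subgroup.closure_induction with
  | mem g hg => exact h g hg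
  | one => simp [one_mem]
  | mul x y _ _ hx hy =>
    rw [show a * (x * y) * a⁻¹ = (a * x * a⁻¹) * (a * y * a⁻¹) by group]
    exact mul_mem hx hy
  | inv x _ hx =>
    rw [show a * x⁻¹ * a⁻¹ = (a * x * a⁻¹)⁻¹ by group]
    exact inv_mem hx

theorem closure_le_normalizer {S T : Set G} (hT : ∀ a ∈ T, a⁻¹ ∈ T)
    (h : ∀ a ∈ T, ∀ g ∈ S, a * g * a⁻¹ ∈ Subgroup.closure S) :
    Subgroup.closure T ≤ Subgroup.normalizer (Subgroup.closure S : Set G) := by
  rw [Subgroup.closure_le]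
  intro a ha
  rw [SetLike.mem_coe, Subgroup.mem_normalizer_iff]
  refine fun g => ⟨conj_closure_mem (h a ha), fun hg => ?_⟩
  have := conj_closure_mem (h a⁻¹ (hT a ha)) hg
  simpa [mul_assoc] using this

end General

namespace Cert

variable {D : ChevalleyDatum} (c : Cert D) {F : Type*} [Field F]

/-- The element `n_p(1)` of a fundamental root. -/
def np (F : Type*) [Field F] (p : ℕ) : GL D.Idx F := c.ng (D.simple p) 1

/-- The action of a word of nodes on roots. -/
def wl : List ℕ → ℕ → ℕ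
  | [], s => s
  | p :: L, s => c.w p (wl L s)

/-- The sign of a word of nodes on a root. -/
def wsign : List ℕ → ℕ → ℤ
  | [], _ => 1
  | p :: L, s => c.T.eta p (c.wl L s) * wsign L s

/-- The product of `n_p(1)` over a word of nodes. -/
def nw (F : Type*) [Field F] (L : List ℕ) : GL D.Idx F := (L.map (c.np F)).prod

include c

@[simp] theorem wl_nil (s : ℕ) : c.wl [] s = s := rfl

@[simp] theorem wl_cons (p : ℕ) (L : List ℕ) (s : ℕ) : c.wl (p :: L) s = c.w p (c.wl L s) := rfl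

theorem wl_append (A B : List ℕ) (s : ℕ) : c.wl (A ++ B) s = c.wl A (c.wl B s) := by
  induction A with
  | nil => rfl
  | cons p A ih => simp [ih]

theorem wl_lt {L : List ℕ} (hL : ∀ p ∈ L, p < D.rank) {s : ℕ} (hs : s < D.nroots) :
    c.wl L s < D.nroots := by
  induction L with
  | nil => exact hs
  | cons p L ih => exact c.w_lt (hL p (by simp)) (ih fun q hq => hL q (by simp [hq]))

theorem wl_neg {L : List ℕ} (hL : ∀ p ∈ L, p < D.rank) {s : ℕ} (hs : s < D.nroots) :
    c.wl L (D.neg s) = D.neg (c.wl L s) := by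
  induction L with
  | nil => rfl
  | cons p L ih =>
    have hL' : ∀ q ∈ L, q < D.rank := fun q hq => hL q (by simp [hq])
    rw [wl_cons, wl_cons, ih hL', c.w_neg (hL p (by simp)) (c.wl_lt hL' hs)]

theorem wl_reverse {L : List ℕ} (hL : ∀ p ∈ L, p < D.rank) {s : ℕ} (hs : s < D.nroots) :
    c.wl L (c.wl L.reverse s) = s := by
  induction L generalizing s with
  | nil => rfl
  | cons p L ih =>
    have hp : p < D.rank := hL p (by simp)
    have hL' : ∀ q ∈ L, q < D.rank := fun q hq => hL q (by simp [hq])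
    rw [List.reverse_cons, c.wl_append, wl_cons, wl_cons, wl_nil, ih hL' (c.w_lt hp hs),
      c.w_w hp hs]

theorem wl_inj {L : List ℕ} (hL : ∀ p ∈ L, p < D.rank) {r s : ℕ} (hr : r < D.nroots)
    (hs : s < D.nroots) (h : c.wl L r = c.wl L s) : r = s := by
  induction L with
  | nil => exact h
  | cons p L ih =>
    have hL' : ∀ q ∈ L, q < D.rank := fun q hq => hL q (by simp [hq])
    exact ih hL' (c.w_inj (hL p (by simp)) (c.wl_lt hL' hr) (c.wl_lt hL' hs) h)

theorem wsign_sq (L : List ℕ) (s : ℕ) : (c.wsign L s : F) * (c.wsign L s : F) = 1 := by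
  induction L with
  | nil => simp [wsign]
  | cons p L ih =>
    rw [wsign, Int.cast_mul, mul_mul_mul_comm, c.eta_F_sq, ih, one_mul]

theorem wsign_ne_zero (L : List ℕ) (s : ℕ) : (c.wsign L s : F) ≠ 0 :=
  left_ne_zero_of_mul (a := (c.wsign L s : F)) (b := (c.wsign L s : F))
    (by rw [c.wsign_sq]; exact one_ne_zero)

theorem wsign_neg {L : List ℕ} (hL : ∀ p ∈ L, p < D.rank) {s : ℕ} (hs : s < D.nroots) :
    c.wsign L (D.neg s) = c.wsign L s := by
  induction L with
  | nil => rfl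
  | cons p L ih =>
    have hL' : ∀ q ∈ L, q < D.rank := fun q hq => hL q (by simp [hq])
    rw [wsign, wsign, ih hL', c.wl_neg hL' hs, c.eta_neg (hL p (by simp)) (c.wl_lt hL' hs)]

@[simp] theorem nw_nil : c.nw F [] = 1 := rfl

@[simp] theorem nw_cons (p : ℕ) (L : List ℕ) : c.nw F (p :: L) = c.np F p * c.nw F L := by
  simp [nw]

theorem nw_append (A B : List ℕ) : c.nw F (A ++ B) = c.nw F A * c.nw F B := by simp [nw]

theorem nw_mul_xg {L : List ℕ} (hL : ∀ p ∈ L, p < D.rank) {s : ℕ} (hs : s < D.nroots) (t : F) :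
    c.nw F L * c.xg s t = c.xg (c.wl L s) ((c.wsign L s : F) * t) * c.nw F L := by
  induction L with
  | nil => simp [wsign]
  | cons p L ih =>
    have hL' : ∀ q ∈ L, q < D.rank := fun q hq => hL q (by simp [hq])
    rw [nw_cons, mul_assoc, ih hL', ← mul_assoc, np, c.ng_conj (hL p (by simp)) (c.wl_lt hL' hs),
      mul_assoc, wsign, Int.cast_mul, mul_assoc (c.T.eta p (c.wl L s) : F)]
    rfl

theorem nw_mul_ng {L : List ℕ} (hL : ∀ p ∈ L, p < D.rank) {s : ℕ} (hs : s < D.nroots) (t : F) :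
    c.nw F L * c.ng s t = c.ng (c.wl L s) ((c.wsign L s : F) * t) * c.nw F L := by
  have h1 := c.nw_mul_xg (F := F) hL hs
  have h2 := c.nw_mul_xg (F := F) hL (c.neg_lt hs)
  rw [c.wl_neg hL hs, c.wsign_neg hL hs] at h2
  have hinv : (c.wsign L s : F)⁻¹ = c.wsign L s := inv_eq_of_mul_eq_one_right (c.wsign_sq L s)
  simp only [ng]
  rw [← mul_assoc, ← mul_assoc, h1, mul_assoc _ (c.nw F L), h2, ← mul_assoc,
    mul_assoc _ (c.nw F L), h1, ← mul_assoc, mul_inv, hinv, mul_neg]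

theorem nw_evec {L : List ℕ} (hL : ∀ p ∈ L, p < D.rank) {s : ℕ} (hs : s < D.nroots) :
    ((c.nw F L : GL D.Idx F) : Matrix D.Idx D.Idx F) *ᵥ evec D F s =
      (c.wsign L s : F) • evec D F (c.wl L s) := by
  induction L with
  | nil => simp [wsign]
  | cons p L ih =>
    have hL' : ∀ q ∈ L, q < D.rank := fun q hq => hL q (by simp [hq])
    rw [nw_cons, Units.val_mul, ← Matrix.mulVec_mulVec, ih hL', Matrix.mulVec_smul, np, ng_val,
      c.n_evec (hL p (by simp)) (c.wl_lt hL' hs), smul_smul, wsign, Int.cast_mul,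
      mul_comm (c.T.eta p (c.wl L s) : F), wl_cons]

theorem np_mem_group {p : ℕ} (hp : p < D.rank) : c.np F p ∈ D.group F := by
  have hα := c.simple_lt hp
  exact mul_mem (mul_mem (c.xg_mem_group hα _) (c.xg_mem_group (c.neg_lt hα) _))
    (c.xg_mem_group hα _)

theorem evec_eq_smul {r s : ℕ} (hr : r < D.nroots) {a b : F} (ha : a ≠ 0)
    (h : a • evec D F r = b • evec D F s) : r = s := by
  by_contra hne
  have := congrFun h (Sum.inr ⟨r, hr⟩)
  simp [evec, hne, ha] at this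

end Cert

namespace CertFull

variable {D : ChevalleyDatum} (c : CertFull D) {F : Type*} [Field F]
include c

theorem hg_mem {r : ℕ} (hr : r < D.nroots) {t : F} (ht : t ≠ 0) :
    c.hg r t ∈ D.diagonalSubgroup F :=
  Subgroup.subset_closure ⟨r, t, hr, ht, c.hg_val r t⟩

theorem ng_eq_hg_mul_np {p : ℕ} (t : F) :
    c.ng (D.simple p) t = c.hg (D.simple p) t * c.np F p := by
  rw [Cert.hg, Cert.np, mul_assoc, ← inv_inv (c.ng (D.simple p) (1 : F)), c.ng_inv,
    mul_inv_cancel, mul_one]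

theorem np_inv {p : ℕ} (hp : p < D.rank) :
    (c.np F p)⁻¹ = c.hg (D.simple p) (-1) * c.np F p := by
  rw [Cert.np, c.ng_inv, c.ng_eq_hg_mul_np]
  rfl

theorem np_sq_mem {p : ℕ} (hp : p < D.rank) : c.np F p * c.np F p ∈ D.diagonalSubgroup F := by
  have h : c.np F p * c.np F p = (c.hg (D.simple p) (-1 : F))⁻¹ := by
    rw [eq_inv_iff_mul_eq_one]
    have e := c.np_inv (F := F) hp
    rw [Cert.np, c.ng_inv] at e
    rw [Cert.hg, Cert.np]
    have e2 : c.ng (D.simple p) (1 : F) * c.ng (D.simple p) (-1) = 1 := by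
      rw [← c.ng_inv, mul_inv_cancel]
    rw [mul_assoc, ← mul_assoc (c.ng (D.simple p) (1 : F)) (c.ng (D.simple p) (-1)), e2, one_mul,
      e2]
  rw [h]
  exact inv_mem (c.hg_mem (c.simple_lt hp) (neg_ne_zero.2 one_ne_zero))

theorem np_conj_H {p : ℕ} (hp : p < D.rank) {a : GL D.Idx F} (ha : a ∈ D.diagonalSubgroup F) :
    c.np F p * a * (c.np F p)⁻¹ ∈ D.diagonalSubgroup F := by
  refine conj_closure_mem (S := {g : GL D.Idx F | ∃ (r : ℕ) (t : F), r < D.nroots ∧ t ≠ 0 ∧
    (g : Matrix D.Idx D.Idx F) = D.hMat F r t}) ?_ ha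
  rintro g ⟨r, t, hr, ht, hg⟩
  obtain rfl : g = c.hg r t := Units.ext (hg.trans (c.hg_val r t).symm)
  have h := c.ng_mul_hg hp hr (Units.mk0 t ht)
  rw [Units.val_mk0] at h
  rw [Cert.np, h, mul_inv_cancel_right]
  exact c.hg_mem (c.w_lt hp hr) ht

theorem nw_conj_H {L : List ℕ} (hL : ∀ p ∈ L, p < D.rank) {a : GL D.Idx F}
    (ha : a ∈ D.diagonalSubgroup F) : c.nw F L * a * (c.nw F L)⁻¹ ∈ D.diagonalSubgroup F := by
  induction L with
  | nil => simpa using ha
  | cons p L ih =>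
    have := c.np_conj_H (hL p (by simp)) (ih fun q hq => hL q (by simp [hq]))
    rw [Cert.nw_cons]
    simpa [mul_assoc] using this

/-- Elements of the form `a * n_L`. -/
def IsMono (g : GL D.Idx F) : Prop :=
  ∃ a ∈ D.diagonalSubgroup F, ∃ L : List ℕ, (∀ p ∈ L, p < D.rank) ∧ g = a * c.nw F L

theorem isMono_mul {g k : GL D.Idx F} (hg : c.IsMono g) (hk : c.IsMono k) : c.IsMono (g * k) := by
  obtain ⟨a, ha, L, hL, rfl⟩ := hg
  obtain ⟨b, hb, M, hM, rfl⟩ := hk
  refine ⟨a * (c.nw F L * b * (c.nw F L)⁻¹), mul_mem ha (c.nw_conj_H hL hb), L ++ M,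
    fun p hp => (List.mem_append.1 hp).elim (hL p) (hM p), ?_⟩
  rw [c.nw_append]; group

theorem isMono_of_mem_H {g : GL D.Idx F} (hg : g ∈ D.diagonalSubgroup F) : c.IsMono g :=
  ⟨g, hg, [], by simp, by simp⟩

theorem isMono_np {p : ℕ} (hp : p < D.rank) : c.IsMono (c.np F p) :=
  ⟨1, one_mem _, [p], by simpa using hp, by simp⟩

theorem isMono_inv {g : GL D.Idx F} (hg : c.IsMono g) : c.IsMono g⁻¹ := by
  obtain ⟨a, ha, L, hL, rfl⟩ := hg
  rw [_root_.mul_inv_rev]
  refine c.isMono_mul ?_ (c.isMono_of_mem_H (inv_mem ha))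
  clear ha
  induction L with
  | nil => simpa using c.isMono_of_mem_H (one_mem _)
  | cons p L ih =>
    have hp : p < D.rank := hL p (by simp)
    rw [Cert.nw_cons, _root_.mul_inv_rev, c.np_inv hp]
    exact c.isMono_mul (ih fun q hq => hL q (by simp [hq]))
      (c.isMono_mul (c.isMono_of_mem_H (c.hg_mem (c.simple_lt hp) (neg_ne_zero.2 one_ne_zero)))
        (c.isMono_np hp))

/-- The subgroup of monomial elements. -/
def monoGroup (F : Type*) [Field F] : Subgroup (GL D.Idx F) where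
  carrier := {g | c.IsMono g}
  one_mem' := c.isMono_of_mem_H (one_mem _)
  mul_mem' := c.isMono_mul
  inv_mem' := c.isMono_inv

theorem isMono_ng {r : ℕ} (hr : r < D.nroots) : ∀ t : F, t ≠ 0 → c.IsMono (c.ng r t) := by
  refine c.root_induction (P := fun r => ∀ t : F, t ≠ 0 → c.IsMono (c.ng r t))
    (fun p hp t ht => ?_) (fun p hp r hr hP t ht => ?_) r hr
  · rw [c.ng_eq_hg_mul_np]
    exact c.isMono_mul (c.isMono_of_mem_H (c.hg_mem (c.simple_lt hp) ht)) (c.isMono_np hp)
  · have hL : ∀ q ∈ [p], q < D.rank := by simpa using hp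
    have e := c.nw_mul_ng hL hr ((c.wsign [p] r : F) * t)
    rw [← mul_assoc, c.wsign_sq, one_mul] at e
    have e2 : c.ng (c.w p r) t = c.nw F [p] * c.ng r ((c.wsign [p] r : F) * t) * (c.nw F [p])⁻¹ := by
      rw [e, mul_inv_cancel_right]
      rfl
    rw [e2]
    have hn : c.IsMono (c.nw F [p]) := ⟨1, one_mem _, [p], hL, by simp⟩
    exact c.isMono_mul (c.isMono_mul hn (hP _ (mul_ne_zero (c.wsign_ne_zero _ _) ht)))
      (c.isMono_inv hn)

theorem np_mem_N {p : ℕ} (hp : p < D.rank) : c.np F p ∈ D.monomialSubgroup F :=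
  Subgroup.mem_sup_right (Subgroup.subset_closure ⟨D.simple p, c.simple_lt hp, c.ng_val _ _⟩)

theorem nw_mem_N {L : List ℕ} (hL : ∀ p ∈ L, p < D.rank) : c.nw F L ∈ D.monomialSubgroup F := by
  refine Subgroup.list_prod_mem _ fun g hg => ?_
  obtain ⟨p, hp, rfl⟩ := List.mem_map.1 hg
  exact c.np_mem_N (hL p hp)

theorem monomial_eq : D.monomialSubgroup F = c.monoGroup F := by
  refine le_antisymm (sup_le (fun g hg => c.isMono_of_mem_H hg) ?_) ?_
  · rw [Subgroup.closure_le]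
    rintro g ⟨r, hr, hg⟩
    obtain rfl : g = c.ng r 1 := Units.ext (hg.trans (c.ng_val r 1).symm)
    exact c.isMono_ng hr 1 one_ne_zero
  · rintro g ⟨a, ha, L, hL, rfl⟩
    exact mul_mem (Subgroup.mem_sup_left ha) (c.nw_mem_N hL)

theorem mem_monomial_iff {g : GL D.Idx F} :
    g ∈ D.monomialSubgroup F ↔
      ∃ a ∈ D.diagonalSubgroup F, ∃ L : List ℕ, (∀ p ∈ L, p < D.rank) ∧ g = a * c.nw F L := by
  rw [c.monomial_eq]; rfl

theorem N_conj_H {g a : GL D.Idx F} (hg : g ∈ D.monomialSubgroup F)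
    (ha : a ∈ D.diagonalSubgroup F) : g * a * g⁻¹ ∈ D.diagonalSubgroup F := by
  obtain ⟨b, hb, L, hL, rfl⟩ := c.mem_monomial_iff.1 hg
  have e : b * c.nw F L * a * (b * c.nw F L)⁻¹ = b * (c.nw F L * a * (c.nw F L)⁻¹) * b⁻¹ := by
    group
  rw [e]
  exact mul_mem (mul_mem hb (c.nw_conj_H hL ha)) (inv_mem hb)

theorem N_le_normalizer_H :
    D.monomialSubgroup F ≤ Subgroup.normalizer (D.diagonalSubgroup F : Set (GL D.Idx F)) := by
  intro g hg
  rw [Subgroup.mem_normalizer_iff]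
  refine fun a => ⟨c.N_conj_H hg, fun ha => ?_⟩
  simpa [mul_assoc] using c.N_conj_H (inv_mem hg) ha

theorem H_smul_evec {a : GL D.Idx F} (ha : a ∈ D.diagonalSubgroup F) (s : ℕ) :
    ∃ k : F, k ≠ 0 ∧ (a : Matrix D.Idx D.Idx F) *ᵥ evec D F s = k • evec D F s := by
  rw [c.diagonalSubgroup_eq] at ha
  obtain ⟨z, rfl⟩ := ha
  exact ⟨_, (c.tchar z s).ne_zero, by rw [Cert.torus_apply, dg_val, charDiag_evec]⟩

/-- Monomial elements move root elements by the permutation of their word. -/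
theorem mono_mul_xg {a : GL D.Idx F} (ha : a ∈ D.diagonalSubgroup F) {L : List ℕ}
    (hL : ∀ p ∈ L, p < D.rank) {s : ℕ} (hs : s < D.nroots) :
    ∃ k : F, k ≠ 0 ∧ ∀ t : F,
      a * c.nw F L * c.xg s t = c.xg (c.wl L s) (k * t) * (a * c.nw F L) := by
  rw [c.diagonalSubgroup_eq] at ha
  obtain ⟨z, rfl⟩ := ha
  refine ⟨(c.tchar z (c.wl L s) : F) * (c.wsign L s : F),
    mul_ne_zero (Units.ne_zero _) (c.wsign_ne_zero _ _), fun t => ?_⟩
  rw [mul_assoc, c.nw_mul_xg hL hs, ← mul_assoc, Cert.torus_apply,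
    c.dg_mul_xg (c.tchar_isRootCharacter z) (c.wl_lt hL hs), mul_assoc, mul_assoc (c.tchar z _ : F)]

/-- The permutation of a monomial element is well defined. -/
theorem wl_eq_of_eq {a b : GL D.Idx F} (ha : a ∈ D.diagonalSubgroup F)
    (hb : b ∈ D.diagonalSubgroup F) {L M : List ℕ} (hL : ∀ p ∈ L, p < D.rank)
    (hM : ∀ p ∈ M, p < D.rank) (e : a * c.nw F L = b * c.nw F M) {s : ℕ} (hs : s < D.nroots) :
    c.wl L s = c.wl M s := by
  have h := congrArg (fun g : GL D.Idx F => (g : Matrix D.Idx D.Idx F) *ᵥ evec D F s) e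
  simp only [Units.val_mul, ← Matrix.mulVec_mulVec, c.nw_evec hL hs, c.nw_evec hM hs,
    Matrix.mulVec_smul] at h
  obtain ⟨k, hk, hk'⟩ := c.H_smul_evec ha (c.wl L s)
  obtain ⟨m, hm, hm'⟩ := c.H_smul_evec hb (c.wl M s)
  rw [hk', hm', smul_smul, smul_smul] at h
  exact c.evec_eq_smul (c.wl_lt hL hs) (mul_ne_zero (c.wsign_ne_zero _ _) hk) h

theorem exchange {L : List ℕ} (hL : ∀ p ∈ L, p < D.rank) {q : ℕ} (hq : q < D.rank)
    (h : ¬ c.Pos (c.wl L (D.simple q))) :
    ∃ A p B, L = A ++ p :: B ∧ c.wl B (D.simple q) = D.simple p := by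
  induction L with
  | nil => exact absurd (c.pos_simple hq) h
  | cons p L ih =>
    have hL' : ∀ r ∈ L, r < D.rank := fun r hr => hL r (by simp [hr])
    by_cases h2 : c.Pos (c.wl L (D.simple q))
    · refine ⟨[], p, L, rfl, ?_⟩
      by_contra hne
      exact h (c.pos_w (hL p (by simp)) h2 hne).1
    · obtain ⟨A, r, B, rfl, e⟩ := ih hL' h2
      exact ⟨p :: A, r, B, rfl, e⟩

/-- The deletion condition, modulo the torus. -/
theorem deletion {L : List ℕ} (hL : ∀ p ∈ L, p < D.rank) {q : ℕ} (hq : q < D.rank)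
    (h : ¬ c.Pos (c.wl L (D.simple q))) :
    ∃ M : List ℕ, (∀ p ∈ M, p < D.rank) ∧ M.length + 1 = L.length ∧
      ∃ a ∈ D.diagonalSubgroup F, c.nw F (L ++ [q]) = a * c.nw F M := by
  obtain ⟨A, p, B, rfl, e⟩ := c.exchange hL hq h
  have hA : ∀ r ∈ A, r < D.rank := fun r hr => hL r (by simp [hr])
  have hB : ∀ r ∈ B, r < D.rank := fun r hr => hL r (by simp [hr])
  have hp : p < D.rank := hL p (by simp)
  refine ⟨A ++ B, fun r hr => (List.mem_append.1 hr).elim (hA r) (hB r), by simp; omega, ?_⟩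
  have e1 : c.nw F B * c.np F q =
      c.hg (D.simple p) (c.wsign B (D.simple q) : F) * c.np F p * c.nw F B := by
    rw [Cert.np, c.nw_mul_ng hB (c.simple_lt hq), mul_one, e, c.ng_eq_hg_mul_np]
  have hh := c.hg_mem (c.simple_lt hp) (c.wsign_ne_zero (F := F) B (D.simple q))
  set k := c.hg (D.simple p) (c.wsign B (D.simple q) : F) with hk
  refine ⟨c.nw F A * ((c.np F p * k * (c.np F p)⁻¹) * (c.np F p * c.np F p)) * (c.nw F A)⁻¹,
    c.nw_conj_H hA (mul_mem (c.np_conj_H hp hh) (c.np_sq_mem hp)), ?_⟩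
  simp only [c.nw_append, Cert.nw_cons, Cert.nw_nil, mul_one]
  rw [show c.nw F A * (c.np F p * c.nw F B) * c.np F q =
    c.nw F A * c.np F p * (c.nw F B * c.np F q) by group, e1]
  group

/-- A monomial element keeping all fundamental roots positive is diagonal. -/
theorem nw_mem_H {L : List ℕ} (hL : ∀ p ∈ L, p < D.rank)
    (h : ∀ q < D.rank, c.Pos (c.wl L (D.simple q))) : c.nw F L ∈ D.diagonalSubgroup F := by
  generalize hn : L.length = n
  induction n using Nat.strong_induction_on generalizing L with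
  | _ n ih =>
    rcases List.eq_nil_or_concat L with rfl | ⟨L', q, rfl⟩
    · simp [one_mem]
    rw [List.concat_eq_append] at hL h hn ⊢
    have hL' : ∀ p ∈ L', p < D.rank := fun p hp => hL p (by simp [hp])
    have hq : q < D.rank := hL q (by simp)
    have hneg : ¬ c.Pos (c.wl L' (D.simple q)) := by
      have hwl := c.wl_lt hL' (c.simple_lt hq)
      rw [c.not_pos_iff hwl, ← c.wl_neg hL' (c.simple_lt hq), ← c.w_simple hq]
      have := h q hq
      rwa [c.wl_append, Cert.wl_cons, Cert.wl_nil] at this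
    obtain ⟨M, hM, hlen, a, ha, e⟩ := c.deletion (F := F) hL' hq hneg
    rw [e]
    refine mul_mem ha (ih M.length (by simp at hn; omega) hM (fun r hr => ?_) rfl)
    have := c.wl_eq_of_eq (one_mem _) ha hL hM (by rw [one_mul]; exact e) (c.simple_lt hr)
    rw [← this]
    exact h r hr

theorem mem_H_of_wl {a : GL D.Idx F} (ha : a ∈ D.diagonalSubgroup F) {L : List ℕ}
    (hL : ∀ p ∈ L, p < D.rank) (h : ∀ q < D.rank, c.Pos (c.wl L (D.simple q))) :
    a * c.nw F L ∈ D.diagonalSubgroup F := mul_mem ha (c.nw_mem_H hL h)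

theorem B_inf_N : D.borelSubgroup F ⊓ D.monomialSubgroup F = D.diagonalSubgroup F := by
  refine le_antisymm ?_ (le_inf le_sup_right le_sup_left)
  intro g hg
  obtain ⟨hB, hN⟩ := Subgroup.mem_inf.1 hg
  obtain ⟨a, ha, L, hL, rfl⟩ := c.mem_monomial_iff.1 hN
  refine c.mem_H_of_wl ha hL fun q hq => ?_
  obtain ⟨u, hu, b, hb, e⟩ := c.mem_borel_iff.1 hB
  have hs := c.simple_lt hq
  suffices c.wl L (D.simple q) = D.simple q by rw [this]; exact c.pos_simple hq
  by_contra hne
  obtain ⟨k, hk, hk'⟩ := c.H_smul_evec ha (c.wl L (D.simple q))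
  obtain ⟨m, hm, hm'⟩ := c.H_smul_evec hb (D.simple q)
  have h := congrArg (fun g : GL D.Idx F => ((g : Matrix D.Idx D.Idx F) *ᵥ evec D F (D.simple q))
    (Sum.inr ⟨D.simple q, hs⟩)) e
  simp only [Units.val_mul, ← Matrix.mulVec_mulVec, c.nw_evec hL hs, Matrix.mulVec_smul, hk',
    hm'] at h
  have hu1 : ((u : Matrix D.Idx D.Idx F) *ᵥ evec D F (D.simple q))
      (Sum.inr ⟨D.simple q, hs⟩) = 1 := by
    rw [← single_inr D F ⟨D.simple q, hs⟩, Matrix.mulVec_single_one, Matrix.col_apply]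
    by_contra hne'
    refine lt_irrefl _ ((c.posUnipotent_le_unitri hu).1 (Sum.inr ⟨D.simple q, hs⟩)
      (Sum.inr ⟨D.simple q, hs⟩) ?_)
    simpa [sub_eq_zero] using hne'
  simp only [Pi.smul_apply, hu1, smul_eq_mul] at h
  rw [show evec D F (c.wl L (D.simple q)) (Sum.inr ⟨D.simple q, hs⟩) = 0 by
    simp [evec, Ne.symm hne]] at h
  simp at h
  exact hm h.symm

theorem U_inf_N : D.posUnipotent F ⊓ D.monomialSubgroup F = ⊥ := by
  rw [eq_bot_iff]
  intro g hg
  obtain ⟨hU, hN⟩ := Subgroup.mem_inf.1 hg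
  have : g ∈ D.borelSubgroup F ⊓ D.monomialSubgroup F := ⟨Subgroup.mem_sup_left hU, hN⟩
  rw [c.B_inf_N] at this
  exact c.U_inf_H.le ⟨hU, this⟩

/-- Words act linearly on coefficient vectors. -/
theorem wl_vec {L : List ℕ} (hL : ∀ p ∈ L, p < D.rank) {r : ℕ} (hr : r < D.nroots) :
    ∀ {j : ℕ}, j < D.rank → c.T.vec (c.wl L r) j =
      ∑ i ∈ Finset.range D.rank, c.T.vec r i * c.T.vec (c.wl L (D.simple i)) j := by
  induction L with
  | nil =>
    intro j hj
    rw [Finset.sum_eq_single j]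
    · simp [c.vec_simple hj hj]
    · intro b hb hbj
      simp [c.vec_simple (Finset.mem_range.1 hb) hj, Ne.symm hbj]
    · simp [hj]
  | cons p L ih =>
    intro j hj
    have hp : p < D.rank := hL p (by simp)
    have hL' : ∀ q ∈ L, q < D.rank := fun q hq => hL q (by simp [hq])
    have hA : ∀ {u : ℕ}, u < D.nroots → D.cartan p u =
        ∑ k ∈ Finset.range D.rank, c.T.vec u k * D.cartan p (D.simple k) := by
      intro u hu
      rw [c.cartan_eq hp hu, (c.linear_root hu).2.2.2.1 p hp, ← List.sum_toFinset _ List.nodup_range,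
        List.toFinset_range, c.rank_eq]
      refine Finset.sum_congr rfl fun k hk => ?_
      have hk' : k < D.rank := c.rank_eq.symm ▸ Finset.mem_range.1 hk
      rw [c.cartan_eq hp (c.simple_lt hk'), c.simple_eq hk']
    rw [Cert.wl_cons, c.vec_w hp (c.wl_lt hL' hr) hj, ih hL' hj]
    have hA2 : D.cartan p (c.wl L r) =
        ∑ i ∈ Finset.range D.rank, c.T.vec r i * D.cartan p (c.wl L (D.simple i)) := by
      rw [hA (c.wl_lt hL' hr), Finset.sum_congr rfl fun k hk => by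
        rw [ih hL' (Finset.mem_range.1 hk), Finset.sum_mul], Finset.sum_comm]
      refine Finset.sum_congr rfl fun i hi => ?_
      rw [hA (c.wl_lt hL' (c.simple_lt (Finset.mem_range.1 hi))), Finset.mul_sum]
      simp only [mul_assoc]
    rw [hA2]
    have e : ∀ i ∈ Finset.range D.rank,
        c.T.vec r i * c.T.vec (c.wl (p :: L) (D.simple i)) j =
          c.T.vec r i * c.T.vec (c.wl L (D.simple i)) j -
            (if j = p then c.T.vec r i * D.cartan p (c.wl L (D.simple i)) else 0) := by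
      intro i hi
      rw [Cert.wl_cons, c.vec_w hp (c.wl_lt hL' (c.simple_lt (Finset.mem_range.1 hi))) hj]
      split_ifs <;> ring
    rw [Finset.sum_congr rfl e, Finset.sum_sub_distrib]
    split_ifs <;> simp

/-- A word sending all positive roots to negative ones. -/
theorem exists_longest : ∃ L : List ℕ, (∀ p ∈ L, p < D.rank) ∧
    ∀ r, c.Pos r → ¬ c.Pos (c.wl L r) := by
  classical
  let cnt : List ℕ → ℕ := fun L =>
    ((Finset.range D.nroots).filter fun r => c.Pos r ∧ ¬ c.Pos (c.wl L r)).card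
  have hb : ∀ L, cnt L ≤ D.nroots := fun L =>
    (Finset.card_filter_le _ _).trans (Finset.card_range _).le
  obtain ⟨L, hL, hmax⟩ : ∃ L : List ℕ, (∀ p ∈ L, p < D.rank) ∧
      ∀ M : List ℕ, (∀ p ∈ M, p < D.rank) → cnt M ≤ cnt L := by
    let S : Set ℕ := {k | ∃ L : List ℕ, (∀ p ∈ L, p < D.rank) ∧ cnt L = k}
    have hne : S.Nonempty := ⟨_, [], by simp, rfl⟩
    have hbd : BddAbove S := ⟨D.nroots, by rintro k ⟨L, -, rfl⟩; exact hb L⟩
    obtain ⟨L, hL, hk⟩ := Nat.sSup_mem hne hbd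
    exact ⟨L, hL, fun M hM => hk ▸ le_csSup hbd ⟨M, hM, rfl⟩⟩
  have hs : ∀ q < D.rank, ¬ c.Pos (c.wl L (D.simple q)) := by
    intro q hq hpos
    have hα := c.simple_lt hq
    refine absurd (hmax (L ++ [q]) (fun p hp => (List.mem_append.1 hp).elim (hL p)
      (by simpa using fun e : p = q => e ▸ hq))) (not_le.2 ?_)
    set A := (Finset.range D.nroots).filter fun r => c.Pos r ∧ ¬ c.Pos (c.wl L r) with hA
    have hAmem : ∀ r ∈ A, c.Pos r ∧ r ≠ D.simple q ∧ ¬ c.Pos (c.wl L r) := by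
      intro r hr
      simp only [hA, Finset.mem_filter] at hr
      exact ⟨hr.2.1, fun e => hr.2.2 (e ▸ hpos), hr.2.2⟩
    have hsub : insert (D.simple q) (A.image (c.w q)) ⊆
        (Finset.range D.nroots).filter fun r => c.Pos r ∧ ¬ c.Pos (c.wl (L ++ [q]) r) := by
      intro r hr
      simp only [Finset.mem_insert, Finset.mem_image] at hr
      simp only [Finset.mem_filter, Finset.mem_range, c.wl_append, Cert.wl_cons, Cert.wl_nil]
      rcases hr with rfl | ⟨r, hr', rfl⟩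
      · refine ⟨hα, c.pos_simple hq, ?_⟩
        rw [c.w_simple hq, c.wl_neg hL hα]
        exact fun h => (c.not_pos_iff (c.wl_lt hL hα)).2 h hpos
      · obtain ⟨h1, h2, h3⟩ := hAmem r hr'
        refine ⟨c.w_lt hq h1.2, (c.pos_w hq h1 h2).1, ?_⟩
        rwa [c.w_w hq h1.2]
    refine lt_of_lt_of_le ?_ (Finset.card_le_card hsub)
    rw [Finset.card_insert_of_notMem, Finset.card_image_of_injOn]
    · exact Nat.lt_succ_self _
    · intro r hr s hs e
      exact c.w_inj hq (hAmem r hr).1.2 (hAmem s hs).1.2 e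
    · rw [Finset.mem_image]
      rintro ⟨r, hr, e⟩
      obtain ⟨h1, h2, -⟩ := hAmem r hr
      exact (c.pos_w hq h1 h2).2 e
  refine ⟨L, hL, fun r hr hpos => ?_⟩
  have hwr := c.wl_lt hL hr.2
  obtain ⟨p, hp⟩ : ∃ p, p < D.rank := ⟨0, c.one_le_rank⟩
  by_cases hex : ∃ k < D.rank, 0 < c.T.vec (c.wl L r) k
  · obtain ⟨k, hk, hv⟩ := hex
    rw [c.wl_vec hL hr.2 hk] at hv
    refine absurd hv (not_lt.2 (Finset.sum_nonpos fun i hi => ?_))
    rw [Finset.mem_range] at hi
    have h1 := (c.vec_nonneg hr.2 hr.1).1 i hi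
    have hwi := c.wl_lt hL (c.simple_lt hi)
    have h2 : c.T.vec (c.wl L (D.simple i)) k ≤ 0 := by
      by_contra h
      exact hs i hi (c.pos_of_vec_pos hwi hk (by omega))
    exact mul_nonpos_of_nonneg_of_nonpos h1 h2
  · by_cases he : c.wl L r = D.simple p
    · exact hex ⟨p, hp, by rw [he, c.vec_simple hp hp, if_pos rfl]; exact one_pos⟩
    · obtain ⟨k, hk, -, hv⟩ := (c.vec_nonneg hwr hpos.1).2 p hp he
      exact hex ⟨k, hk, hv⟩

end CertFull

end Cfsg.Agent.Lie.Chev
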