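import Cfsg.Agent.Lib.Lie.Chev.CertsFull
import Cfsg.Agent.Lib.Lie.Chev.Weyl

/-! The homomorphism from the two dimensional special linear group onto a pair of opposite root
subgroups. -/

set_option autoImplicit false

namespace Cfsg.Agent.Lie.Chev

open Cfsg.Lie Matrix
open scoped MatrixGroups

section Generic

variable {F : Type*} [Field F]

/-- The upper unitriangular element. -/
def upSL (t : F) : SL(2, F) := ⟨!![1, t; 0, 1], by simp [Matrix.det_fin_two]⟩

/-- The Weyl element. -/
def wSL : SL(2, F) := ⟨!![0, 1; -1, 0], by simp [Matrix.det_fin_two]⟩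

/-- The lower unitriangular element. -/
def loSL (t : F) : SL(2, F) := ⟨!![1, 0; t, 1], by simp [Matrix.det_fin_two]⟩

/-- The diagonal element. -/
def dSL (t : F) (ht : t ≠ 0) : SL(2, F) :=
  ⟨!![t, 0; 0, t⁻¹], by simp [Matrix.det_fin_two, ht]⟩

theorem upSL_val (t : F) : (upSL t).1 = !![1, t; 0, 1] := rfl

theorem loSL_val (t : F) : (loSL t).1 = !![1, 0; t, 1] := rfl

theorem dSL_val (t : F) (ht : t ≠ 0) : (dSL t ht).1 = !![t, 0; 0, t⁻¹] := rfl

theorem wSL_val : (wSL : SL(2, F)).1 = !![0, 1; -1, 0] := rfl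

theorem ext_two {g h : SL(2, F)} (h00 : g.1 0 0 = h.1 0 0) (h01 : g.1 0 1 = h.1 0 1)
    (h10 : g.1 1 0 = h.1 1 0) (h11 : g.1 1 1 = h.1 1 1) : g = h := by
  refine Subtype.ext (Matrix.ext fun i j => ?_)
  fin_cases i <;> fin_cases j <;> assumption

theorem det_two (g : SL(2, F)) : g.1 0 0 * g.1 1 1 - g.1 0 1 * g.1 1 0 = 1 := by
  rw [← Matrix.det_fin_two]; exact g.2

variable {G : Type*} [Group G] (X : F → G) (w : G) (H : Fˣ →* G)

open Classical in
/-- The candidate homomorphism, by the Bruhat decomposition. -/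
noncomputable def slMap (g : SL(2, F)) : G :=
  if hc : g.1 1 0 = 0 then
    H (Units.mk0 (g.1 0 0) (fun e => by simpa [hc, e] using det_two g)) * X (g.1 0 1 / g.1 0 0)
  else X (g.1 0 0 / g.1 1 0) * H (Units.mk0 (-(g.1 1 0)⁻¹) (by simpa using hc)) * w *
    X (g.1 1 1 / g.1 1 0)

theorem mul_val (g h : SL(2, F)) : (g * h).1 = g.1 * h.1 := rfl

theorem inv_val (g : SL(2, F)) : (g⁻¹).1 = Matrix.adjugate g.1 := rfl

theorem slMap_zero (g : SL(2, F)) (hc : g.1 1 0 = 0) (ha : g.1 0 0 ≠ 0) :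
    slMap X w H g = H (Units.mk0 (g.1 0 0) ha) * X (g.1 0 1 / g.1 0 0) := by
  unfold slMap; rw [dif_pos hc]

theorem slMap_ne (g : SL(2, F)) (hc : g.1 1 0 ≠ 0) (hz : -(g.1 1 0)⁻¹ ≠ 0) :
    slMap X w H g = X (g.1 0 0 / g.1 1 0) * H (Units.mk0 (-(g.1 1 0)⁻¹) hz) * w *
      X (g.1 1 1 / g.1 1 0) := by
  unfold slMap; rw [dif_neg hc]

variable (hX : ∀ a b, X (a + b) = X a * X b) (hHX : ∀ (t : Fˣ) u, H t * X u = X (t * t * u) * H t)
  (hwH : ∀ t : Fˣ, w * H t = H t⁻¹ * w) (hw2 : w * w = H (-1))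
  (hK : ∀ u : Fˣ, w * X u * w = X (-(↑u⁻¹)) * H (-u⁻¹) * w * X (-(↑u⁻¹)))

include hX

theorem X_zero : X 0 = 1 := by
  have h := hX 0 0
  rw [add_zero] at h
  exact mul_eq_left.1 h.symm

theorem slMap_up (g : SL(2, F)) (t : F) :
    slMap X w H (g * upSL t) = slMap X w H g * X t := by
  have e00 : (g * upSL t).1 0 0 = g.1 0 0 := by rw [mul_val]; simp [upSL, Matrix.mul_apply]
  have e01 : (g * upSL t).1 0 1 = g.1 0 0 * t + g.1 0 1 := by
    rw [mul_val]; simp [upSL, Matrix.mul_apply]
  have e10 : (g * upSL t).1 1 0 = g.1 1 0 := by rw [mul_val]; simp [upSL, Matrix.mul_apply]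
  have e11 : (g * upSL t).1 1 1 = g.1 1 0 * t + g.1 1 1 := by
    rw [mul_val]; simp [upSL, Matrix.mul_apply]
  by_cases hc : g.1 1 0 = 0
  · have ha : g.1 0 0 ≠ 0 := fun e => by simpa [hc, e] using det_two g
    rw [slMap_zero X w H _ (e10.trans hc) (by rw [e00]; exact ha), slMap_zero X w H g hc ha,
      mul_assoc, ← hX]
    simp only [e00, e01]
    congr 2
    field_simp
    ring
  · rw [slMap_ne X w H _ (by rw [e10]; exact hc) (by simpa [e10] using hc),
      slMap_ne X w H g hc (by simpa using hc), mul_assoc _ _ (X t), ← hX]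
    simp only [e00, e10, e11]
    congr 2
    field_simp
    ring

include hHX hwH hw2 hK

theorem slMap_w (g : SL(2, F)) : slMap X w H (g * wSL) = slMap X w H g * w := by
  have e00 : (g * wSL).1 0 0 = -g.1 0 1 := by rw [mul_val]; simp [wSL, Matrix.mul_apply]
  have e01 : (g * wSL).1 0 1 = g.1 0 0 := by rw [mul_val]; simp [wSL, Matrix.mul_apply]
  have e10 : (g * wSL).1 1 0 = -g.1 1 1 := by rw [mul_val]; simp [wSL, Matrix.mul_apply]
  have e11 : (g * wSL).1 1 1 = g.1 1 0 := by rw [mul_val]; simp [wSL, Matrix.mul_apply]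
  have hd := det_two g
  by_cases hc : g.1 1 0 = 0
  · have ha : g.1 0 0 ≠ 0 := fun e => by simpa [hc, e] using hd
    have had : g.1 0 0 * g.1 1 1 = 1 := by rw [hc] at hd; simpa using hd
    have hd0 : g.1 1 1 ≠ 0 := fun e => by simp [e] at had
    rw [slMap_zero X w H g hc ha,
      slMap_ne X w H _ (by simpa [e10] using hd0) (by simpa [e10] using hd0)]
    simp only [e00, e10, e11]
    rw [hc, zero_div, X_zero X hX, mul_one]
    have e1 : -(g.1 0 1) / -(g.1 1 1) = g.1 0 0 * g.1 0 0 * (g.1 0 1 / g.1 0 0) := by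
      field_simp
      linear_combination (-g.1 0 1) * had
    have e2 : Units.mk0 (-(-(g.1 1 1))⁻¹) (by simpa using hd0) = Units.mk0 (g.1 0 0) ha := by
      refine Units.ext ?_
      simp only [Units.val_mk0, inv_neg, neg_neg]
      exact (eq_inv_of_mul_eq_one_left had).symm
    rw [e1, e2]
    exact congrArg (· * w) (hHX (Units.mk0 (g.1 0 0) ha) _).symm
  · rw [slMap_ne X w H g hc (by simpa using hc)]
    set c := g.1 1 0 with hcdef
    by_cases hd0 : g.1 1 1 = 0
    · have hb : -(g.1 0 1) = c⁻¹ := by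
        rw [hd0] at hd
        exact eq_inv_of_mul_eq_one_left (by linear_combination hd)
      have hci : c⁻¹ ≠ 0 := inv_ne_zero hc
      rw [slMap_zero X w H _ (by simp [e10, hd0]) (by rw [e00, hb]; exact hci)]
      simp only [e00, e01, hb]
      rw [hd0, zero_div, X_zero X hX, mul_one, mul_assoc (X _ * H _) w w, hw2, mul_assoc (X _),
        ← map_mul]
      have e2 : Units.mk0 (-c⁻¹) (by simpa using hc) * (-1) = Units.mk0 c⁻¹ hci :=
        Units.ext (by simp)
      rw [e2, hHX, Units.val_mk0]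
      congr 2
      field_simp
      rw [hcdef]; ring
    · rw [slMap_ne X w H _ (by simpa [e10] using hd0) (by simpa [e10] using hd0)]
      simp only [e00, e10, e11, ← hcdef]
      set u : Fˣ := Units.mk0 (g.1 1 1 / c) (div_ne_zero hd0 hc) with hu
      set z : Fˣ := Units.mk0 (-c⁻¹) (by simpa using hc) with hz
      have huv : g.1 1 1 / c = (u : F) := rfl
      rw [huv, mul_assoc (X _ * H z) w, mul_assoc (X _ * H z) (w * X _) w, hK u]
      have e1 : -(g.1 0 1) / -(g.1 1 1) = g.1 0 0 / c + (z : F) * z * -(↑u⁻¹ : F) := by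
        rw [hu, hz, Units.val_inv_eq_inv_val, Units.val_mk0, Units.val_mk0]
        field_simp
        linear_combination (-1 : F) * hd
      have e2 : Units.mk0 (-(-(g.1 1 1))⁻¹) (by simpa using hd0) = z * -u⁻¹ := by
        refine Units.ext ?_
        rw [hu, hz, Units.val_mul, Units.val_neg, Units.val_inv_eq_inv_val, Units.val_mk0,
          Units.val_mk0, Units.val_mk0]
        field_simp
      have e3 : c / -(g.1 1 1) = -(↑u⁻¹ : F) := by
        rw [hu, Units.val_inv_eq_inv_val, Units.val_mk0]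
        field_simp
      rw [e1, e2, e3, hX, map_mul]
      simp only [← mul_assoc]
      rw [mul_assoc (X (g.1 0 0 / c)) (H z), hHX, ← mul_assoc]

theorem exists_slHom : ∃ φ : SL(2, F) →* G, (∀ t, φ (upSL t) = X t) ∧ φ wSL = w := by
  classical
  let φ := slMap X w H
  have h1 : φ 1 = 1 := by
    show slMap X w H 1 = 1
    rw [slMap_zero X w H 1 rfl (by simp)]
    simp [X_zero X hX]
  have hup : ∀ t, φ (upSL t) = X t := fun t => by
    have h := slMap_up X w H hX 1 t
    change φ _ = φ 1 * _ at h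
    rwa [one_mul, h1, one_mul] at h
  have hw : φ wSL = w := by
    have h := slMap_w X w H hX hHX hwH hw2 hK 1
    change φ _ = φ 1 * _ at h
    rwa [one_mul, h1, one_mul] at h
  let S : Subgroup SL(2, F) :=
    { carrier := {h | ∀ g, φ (g * h) = φ g * φ h}
      one_mem' := fun g => by rw [mul_one, h1, mul_one]
      mul_mem' := fun {a b} ha hb g => by
        rw [← mul_assoc, hb, ha, mul_assoc, ← hb a]
      inv_mem' := fun {a} ha g => by
        have e1 := ha (g * a⁻¹)
        rw [inv_mul_cancel_right] at e1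
        have e2 := ha a⁻¹
        rw [inv_mul_cancel, h1] at e2
        rw [e1, eq_inv_of_mul_eq_one_left e2.symm, mul_inv_cancel_right] }
  have hSu : ∀ t, upSL t ∈ S := fun t g => by rw [hup]; exact slMap_up X w H hX g t
  have hSw : wSL ∈ S := fun g => by rw [hw]; exact slMap_w X w H hX hHX hwH hw2 hK g
  have hdiag : ∀ (t : F) (ht : t ≠ 0), dSL t ht ∈ S := by
    intro t ht
    have e : dSL t ht =
        upSL t * wSL * upSL t⁻¹ * wSL⁻¹ * upSL t * wSL⁻¹ := by
      refine ext_two ?_ ?_ ?_ ?_ <;>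
        simp only [mul_val, inv_val, upSL_val, wSL_val, dSL_val] <;>
        simp [Matrix.adjugate_fin_two,
          Matrix.mul_apply, Fin.sum_univ_two, ht]
    rw [e]
    exact mul_mem (mul_mem (mul_mem (mul_mem (mul_mem (hSu _) hSw) (hSu _)) (inv_mem hSw))
      (hSu _)) (inv_mem hSw)
  have hbig : ∀ h : SL(2, F), h.1 1 0 ≠ 0 → h ∈ S := by
    intro h hc
    have e : h = upSL (h.1 0 0 / h.1 1 0) *
        dSL (-(h.1 1 0)⁻¹) (by simpa using hc) * wSL *
        upSL (h.1 1 1 / h.1 1 0) := by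
      refine ext_two ?_ ?_ ?_ ?_ <;>
        simp only [mul_val, upSL_val, wSL_val, dSL_val] <;>
        simp [Matrix.mul_apply, Fin.sum_univ_two]
      all_goals field_simp
      linear_combination (-1 : F) * det_two h
    rw [e]
    exact mul_mem (mul_mem (mul_mem (hSu _) (hdiag _ (by simpa using hc))) hSw) (hSu _)
  have hall : ∀ h : SL(2, F), h ∈ S := by
    intro h
    by_cases hc : h.1 1 0 = 0
    · have hh : h * wSL ∈ S := hbig _ (by
        have e : (h * wSL).1 1 0 = -h.1 1 1 := by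
          (repeat rw [mul_val]) <;>
          simp [wSL, Matrix.mul_apply, Fin.sum_univ_two]
        rw [e, neg_ne_zero]
        intro hd0
        simpa [hc, hd0] using det_two h)
      have := mul_mem hh (inv_mem hSw)
      rwa [mul_inv_cancel_right] at this
    · exact hbig h hc
  exact ⟨{ toFun := φ, map_one' := h1, map_mul' := fun g h => hall h g }, hup, hw⟩

end Generic

/-- The image of an element under conjugation by `diag(σ, 1)` for a sign `σ`. -/
def twistElt {F : Type*} [Field F] (σ : F) (hσ : σ * σ = 1) (g : SL(2, F)) : SL(2, F) :=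
  ⟨!![g.1 0 0, σ * g.1 0 1; σ * g.1 1 0, g.1 1 1], by
    rw [Matrix.det_fin_two_of]
    linear_combination det_two g - (g.1 0 1 * g.1 1 0) * hσ⟩

theorem twistElt_val {F : Type*} [Field F] (σ : F) (hσ : σ * σ = 1) (g : SL(2, F)) :
    (twistElt σ hσ g).1 = !![g.1 0 0, σ * g.1 0 1; σ * g.1 1 0, g.1 1 1] := rfl

/-- Conjugation by `diag(σ, 1)` for a sign `σ`. -/
def signTwist {F : Type*} [Field F] (σ : F) (hσ : σ * σ = 1) : SL(2, F) →* SL(2, F) where
  toFun := twistElt σ hσ
  map_one' := ext_two (by simp [twistElt]) (by simp [twistElt]) (by simp [twistElt])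
    (by simp [twistElt])
  map_mul' g h := by
    refine ext_two ?_ ?_ ?_ ?_ <;> rw [mul_val, twistElt_val, twistElt_val, twistElt_val, mul_val] <;>
      simp [Matrix.mul_apply, Fin.sum_univ_two]
    · linear_combination (-(g.1 0 1 * h.1 1 0)) * hσ
    · ring
    · ring
    · linear_combination (-(g.1 1 0 * h.1 0 1)) * hσ

namespace CertFull

variable {D : ChevalleyDatum} (c : CertFull D) {F : Type*} [Field F]

include c

theorem exists_sl_simple {p : ℕ} (hp : p < D.rank) : ∃ φ : SL(2, F) →* GL D.Idx F,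
    (∀ t, φ (upSL t) = c.xg (D.simple p) t) ∧ φ wSL = c.np F p := by
  have hα := c.simple_lt hp
  have hcw : c.T.cartan p (D.simple p) = 2 := by
    rw [← c.cartan_eq hp hα]; exact c.cartan_simple_self hp
  let H : Fˣ →* GL D.Idx F := (dg D F).comp
    { toFun := fun t => c.pairChar (D.simple p) t
      map_one' := by funext u; simp [CertFull.pairChar]
      map_mul' := fun a b => by funext u; simp [CertFull.pairChar, mul_zpow] }
  have hH : ∀ t : Fˣ, H t = c.hg (D.simple p) (t : F) := fun t => (c.hg_eq hα t).symm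
  set w := c.np F p
  have hHX : ∀ (t : Fˣ) u, H t * c.xg (D.simple p) u = c.xg (D.simple p) ((t : F) * t * u) * H t := by
    intro t u
    show dg D F (c.pairChar (D.simple p) t) * c.xg (D.simple p) u = _ * dg D F (c.pairChar (D.simple p) t)
    have hz : c.T.pairing (D.simple p) (D.simple p) = 2 := by rw [c.pairing_simple hp, hcw]
    have hr : D.IsRootCharacter (c.pairChar (D.simple p) t) := by
      rw [show c.pairChar (D.simple p) t = c.tchar (fun i => t ^ c.T.coroot (D.simple p) i) from ?_]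
      · exact c.tchar_isRootCharacter _
      · funext v
        rw [CertFull.pairChar, c.pairing_eq_sum, Cert.tchar]
        simp only [← _root_.zpow_mul]
        induction D.rank with
        | zero => simp
        | succ n ih => rw [Finset.sum_range_succ, Finset.prod_range_succ, _root_.zpow_add, ih]
    rw [c.dg_mul_xg hr hα]
    congr 2
    rw [CertFull.pairChar, hz, zpow_two, Units.val_mul]
  have hwH : ∀ t : Fˣ, w * H t = H t⁻¹ * w := by
    intro t
    show c.ng (D.simple p) 1 * dg D F (c.pairChar (D.simple p) t) = dg D F (c.pairChar (D.simple p) t⁻¹) * c.ng (D.simple p) 1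
    rw [c.ng_dg hp]
    congr 1
    refine dg_ext D F fun u hu => ?_
    have h := c.cartan_w hp hu hp
    rw [c.cartan_eq hp (c.w_lt hp hu), c.cartan_eq hp hu, c.cartan_simple_self hp] at h
    rw [CertFull.pairChar, CertFull.pairChar, c.pairing_simple hp, c.pairing_simple hp, h,
      show c.T.cartan p u - c.T.cartan p u * 2 = -c.T.cartan p u by ring, _root_.zpow_neg,
      _root_.inv_zpow]
  have hw2 : w * w = H (-1) := by
    have e : c.hg (D.simple p) (-1 : F) = c.ng (D.simple p) (-1 : F) * c.ng (D.simple p) (-1 : F) := rfl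
    have h1 : H (-1) * H (-1) = 1 := by rw [← map_mul]; simp
    have e1 : H (-1) = c.ng (D.simple p) (-1 : F) * c.ng (D.simple p) (-1 : F) := by
      rw [hH, Units.val_neg, Units.val_one, e]
    have e2 : (H (-1))⁻¹ = w * w := by
      rw [e1, _root_.mul_inv_rev, c.ng_inv, neg_neg]
      rfl
    rw [← e2, inv_eq_of_mul_eq_one_right h1]
  have hwinv : w⁻¹ = H (-1) * w := by
    rw [inv_eq_of_mul_eq_one_left]
    rw [mul_assoc, hw2, ← map_mul]
    simp
  have hY : ∀ u : F, w * c.xg (D.simple p) u * w⁻¹ = c.xg (D.neg (D.simple p)) (-u) := by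
    intro u
    show c.ng (D.simple p) 1 * c.xg (D.simple p) u * w⁻¹ = _
    rw [c.ng_conj hp hα, c.w_simple hp, (c.refl_root hp hα).2.2.2.2.2.2.2 rfl]
    show _ * w * w⁻¹ = _
    rw [mul_inv_cancel_right]
    simp
  have hN : ∀ t : Fˣ, H t * w = c.ng (D.simple p) (t : F) := by
    intro t
    rw [hH]
    show c.ng (D.simple p) (t : F) * c.ng (D.simple p) (-1) * w = _
    rw [mul_assoc, show c.ng (D.simple p) (-1) * w = 1 by
      rw [← neg_neg (1 : F), ← c.ng_inv]; simp [w, Cert.np], mul_one]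
  have hK : ∀ u : Fˣ, w * c.xg (D.simple p) (u : F) * w =
      c.xg (D.simple p) (-(↑u⁻¹ : F)) * H (-u⁻¹) * w * c.xg (D.simple p) (-(↑u⁻¹ : F)) := by
    intro u
    have e1 : w * c.xg (D.simple p) (u : F) * w = c.xg (D.neg (D.simple p)) (-(u : F)) * H (-1) := by
      rw [← hY, ← hw2]; group
    have e2 : H (-u⁻¹) = H u⁻¹ * H (-1) := by rw [← map_mul]; simp
    have e3 : c.xg (D.neg (D.simple p)) (-(u : F)) =
        c.xg (D.simple p) (-(↑u⁻¹ : F)) * (H u⁻¹ * w) * c.xg (D.simple p) (-(↑u⁻¹ : F)) := by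
      rw [hN, Cert.ng, ← c.xg_inv (D.simple p) (↑u⁻¹ : F), Units.val_inv_eq_inv_val, inv_inv]
      group
    have e4 : ∀ x, Commute (H (-1)) (c.xg (D.simple p) x) := fun x => by
      show _ = _
      rw [hHX]; simp
    have e5 : Commute (H (-1)) w := by
      show _ = _
      rw [hwH]; simp
    rw [e1, e3, e2, mul_assoc _ (c.xg (D.simple p) _) (H (-1)), ← (e4 _).eq]
    simp only [← mul_assoc]
    rw [mul_assoc _ w (H (-1)), ← e5.eq, ← mul_assoc]
  exact exists_slHom _ w H (c.xg_add (D.simple p)) hHX hwH hw2 hK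

/-- The homomorphism at any root. -/
theorem exists_sl_root {r : ℕ} (hr : r < D.nroots) : ∃ φ : SL(2, F) →* GL D.Idx F,
    φ.range = D.rootSubgroup F r ⊔ D.rootSubgroup F (D.neg r) ∧
    ∀ (g : SL(2, F)) (t : F),
      ((g : Matrix (Fin 2) (Fin 2) F) = !![1, t; 0, 1] → φ g = c.xg r t) ∧
      ((g : Matrix (Fin 2) (Fin 2) F) = !![1, 0; t, 1] → φ g = c.xg (D.neg r) t) := by
  obtain ⟨L, hL, p, hp, rfl⟩ : ∃ L : List ℕ, (∀ q ∈ L, q < D.rank) ∧ ∃ p < D.rank,
      c.wl L (D.simple p) = r := by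
    refine c.root_induction (P := fun r => ∃ L : List ℕ, (∀ q ∈ L, q < D.rank) ∧ ∃ p < D.rank,
      c.wl L (D.simple p) = r) (fun i hi => ⟨[], by simp, i, hi, rfl⟩)
      (fun q hq r _ ⟨L, hL, p, hp, e⟩ => ⟨q :: L, ?_, p, hp, by rw [c.wl_cons, e]⟩) r hr
    simp only [List.mem_cons, forall_eq_or_imp]
    exact ⟨hq, hL⟩
  obtain ⟨φ, hup, hw⟩ := c.exists_sl_simple (F := F) hp
  have hα := c.simple_lt hp
  set σ : F := (c.wsign L (D.simple p) : F)
  have hσ : σ * σ = 1 := c.wsign_sq L (D.simple p)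
  set ψ : SL(2, F) →* GL D.Idx F :=
    (MulAut.conj (c.nw F L)).toMonoidHom.comp (φ.comp (signTwist σ hσ))
  have hψup : ∀ t, ψ (upSL t) = c.xg (c.wl L (D.simple p)) t := by
    intro t
    have e : signTwist σ hσ (upSL t) = upSL (σ * t) :=
      by
        show twistElt σ hσ (upSL t) = _
        refine ext_two ?_ ?_ ?_ ?_ <;> rw [twistElt_val] <;> simp [upSL]
    show c.nw F L * φ (signTwist σ hσ (upSL t)) * (c.nw F L)⁻¹ = _
    rw [e, hup, c.nw_mul_xg hL hα, mul_inv_cancel_right, ← mul_assoc, hσ, one_mul]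
  have hlo : ∀ t, φ (wSL * upSL (-t) * wSL⁻¹) = c.xg (D.neg (D.simple p)) t := by
    intro t
    rw [map_mul, map_mul, map_inv, hup, hw]
    show c.ng (D.simple p) 1 * c.xg (D.simple p) (-t) * (c.np F p)⁻¹ = _
    rw [c.ng_conj hp hα, c.w_simple hp, (c.refl_root hp hα).2.2.2.2.2.2.2 rfl]
    show _ * c.np F p * (c.np F p)⁻¹ = _
    simp
  have hψlo : ∀ g : SL(2, F), ∀ t, (g : Matrix (Fin 2) (Fin 2) F) = !![1, 0; t, 1] →
      ψ g = c.xg (D.neg (c.wl L (D.simple p))) t := by
    intro g t hg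
    have e : signTwist σ hσ g = wSL * upSL (-(σ * t)) * wSL⁻¹ := by
      show twistElt σ hσ g = _
      refine ext_two ?_ ?_ ?_ ?_ <;> rw [twistElt_val] <;>
        (repeat rw [mul_val]) <;> (repeat rw [inv_val]) <;>
        simp [wSL, upSL, hg, Matrix.SpecialLinearGroup.coe_inv,
          Matrix.adjugate_fin_two, Matrix.mul_apply, Fin.sum_univ_two]
    show c.nw F L * φ (signTwist σ hσ g) * (c.nw F L)⁻¹ = _
    rw [e, hlo, c.nw_mul_xg hL (c.neg_lt hα), mul_inv_cancel_right, c.wl_neg hL hα,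
      c.wsign_neg hL hα, ← mul_assoc, hσ, one_mul]
  refine ⟨ψ, le_antisymm ?_ (sup_le ?_ ?_),
    fun g t => ⟨fun h => by rw [show g = upSL t from Subtype.ext h]; exact hψup t, hψlo g t⟩⟩
  · rintro _ ⟨g, rfl⟩
    have hup' : ∀ t, upSL t ∈ Subgroup.comap ψ
        (D.rootSubgroup F (c.wl L (D.simple p)) ⊔ D.rootSubgroup F (D.neg (c.wl L (D.simple p)))) := fun t => by
      rw [Subgroup.mem_comap, hψup]
      exact Subgroup.mem_sup_left (Subgroup.subset_closure ⟨t, c.xg_val _ _⟩)
    have hlo' : ∀ t, loSL t ∈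
        Subgroup.comap ψ
          (D.rootSubgroup F (c.wl L (D.simple p)) ⊔ D.rootSubgroup F (D.neg (c.wl L (D.simple p)))) := fun t => by
      rw [Subgroup.mem_comap, hψlo _ t rfl]
      exact Subgroup.mem_sup_right (Subgroup.subset_closure ⟨t, c.xg_val _ _⟩)
    rw [← Subgroup.mem_comap]
    have key : ∀ h : SL(2, F), h.1 1 0 ≠ 0 → h ∈ Subgroup.comap ψ
        (D.rootSubgroup F (c.wl L (D.simple p)) ⊔ D.rootSubgroup F (D.neg (c.wl L (D.simple p)))) := by
      intro h hc
      have e : h = upSL ((h.1 0 0 - 1) / h.1 1 0) *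
          loSL (h.1 1 0) *
          upSL ((h.1 1 1 - 1) / h.1 1 0) := by
        refine ext_two ?_ ?_ ?_ ?_ <;>
          simp only [mul_val, upSL_val, loSL_val] <;>
          simp [Matrix.mul_apply, Fin.sum_univ_two]
        all_goals field_simp
        all_goals first | linear_combination (-1 : F) * det_two h | linear_combination (0 : F) * det_two h
      rw [e]
      exact mul_mem (mul_mem (hup' _) (hlo' _)) (hup' _)
    by_cases hc : g.1 1 0 = 0
    · have h1 := key (g * loSL 1) (by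
        simp only [mul_val, loSL_val] <;>
        simp [Matrix.mul_apply, Fin.sum_univ_two, hc]
        intro e; simpa [hc, e] using det_two g)
      have := mul_mem h1 (inv_mem (hlo' 1))
      rwa [mul_inv_cancel_right] at this
    · exact key g hc
  · refine (Subgroup.closure_le _).2 ?_
    rintro x ⟨t, hx⟩
    exact ⟨upSL t, (hψup t).trans (c.eq_xg_iff.1 hx).symm⟩
  · refine (Subgroup.closure_le _).2 ?_
    rintro x ⟨t, hx⟩
    exact ⟨loSL t,
      (hψlo _ t rfl).trans (c.eq_xg_iff.1 hx).symm⟩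

end CertFull

end Cfsg.Agent.Lie.Chev
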