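/- Coset representatives and diagonalisation of the Cartan matrix of type D4. -/
import Cfsg.Agent.Lib.Lie.Chev.Order
import Cfsg.Agent.Lib.Lie.Chev.CertsFull

set_option autoImplicit false

namespace Cfsg.Agent.Lie.Chev

/-- Representatives at level 1 for type D4. -/
def repsD4L1 : List Rep := [
  ⟨[], 0, [18, 14, 13, 12], 0⟩,
  ⟨[0], 0, [5, 19, 13, 12], 18⟩]

/-- Representatives at level 2 for type D4. -/
def repsD4L2 : List Rep := [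
  ⟨[], 0, [18, 14, 13, 12], 0⟩,
  ⟨[1], 0, [19, 9, 16, 15], 14⟩,
  ⟨[0, 1], 1, [14, 4, 21, 20], 19⟩]

/-- Representatives at level 3 for type D4. -/
def repsD4L3 : List Rep := [
  ⟨[], 0, [18, 14, 13, 12], 0⟩,
  ⟨[2], 0, [18, 16, 10, 12], 13⟩,
  ⟨[1, 2], 1, [19, 13, 7, 15], 16⟩,
  ⟨[0, 1, 2], 2, [14, 13, 2, 20], 21⟩]

/-- Representatives at level 4 for type D4. -/
def repsD4L4 : List Rep := [
  ⟨[], 0, [18, 14, 13, 12], 0⟩,
  ⟨[3], 0, [18, 15, 13, 11], 12⟩,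
  ⟨[1, 3], 1, [19, 12, 16, 8], 15⟩,
  ⟨[0, 1, 3], 2, [14, 12, 21, 3], 20⟩,
  ⟨[2, 1, 3], 2, [21, 12, 14, 6], 17⟩,
  ⟨[2, 0, 1, 3], 3, [16, 12, 19, 1], 17⟩,
  ⟨[1, 2, 0, 1, 3], 5, [13, 15, 18, 0], 22⟩,
  ⟨[3, 1, 2, 0, 1, 3], 6, [13, 14, 18, 0], 23⟩]

/-- The chain of type D4. -/
def chainD4 : List (List Rep) := [repsD4L4, repsD4L3, repsD4L2, repsD4L1]

theorem chainD4_ok : certFullD4.T.checkLevels chainD4 = true := by decide +kernel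

theorem chainD4_len : chainD4.length = Cfsg.Lie.chevD4.rank := rfl

theorem chainD4_poly : checkPoly Cfsg.Lie.chevD4.rank chainD4 [2, 4, 4, 6] = true := by
  decide +kernel

theorem cardHD4 (F : Type*) [Field F] [Fintype F] :
    Nat.card (Cfsg.Lie.chevD4.diagonalSubgroup F) =
      ∏ i, (Fintype.card F - 1) / (Fintype.card F - 1).gcd (![1, 1, 2, 2] i) :=
  certFullD4.card_H (l := 4) rfl
    (A := !![2, -1, 0, 0; -1, 2, -1, -1; 0, -1, 2, 0; 0, -1, 0, 2])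
    (P := !![-1, 0, 0, 0; -2, -1, 0, 0; -3, -2, -1, 0; 2, 2, 1, 1])
    (P' := !![-1, 0, 0, 0; 2, -1, 0, 0; -1, 2, -1, 0; -1, 0, 1, 1])
    (Q := !![0, 0, 0, 1; 1, 0, 0, 2; 0, 1, -1, 1; 0, 0, 1, 2])
    (Q' := !![-2, 1, 0, 0; -3, 0, 1, 1; -2, 0, 0, 1; 1, 0, 0, 0])
    (![1, 1, 2, 2]) (by decide +kernel) (by decide +kernel) (by decide +kernel)
    (by decide +kernel) (by decide +kernel) (by decide +kernel)

end Cfsg.Agent.Lie.Chev
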