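import Cfsg.Agent.Lib.Lie.Chev.Twist

/-! Graph automorphisms given by a signed permutation of the basis, composed with a field
endomorphism. -/

set_option autoImplicit false

namespace Cfsg.Agent.Lie.Chev

open Cfsg.Lie Matrix

/-- A list of a table, as a function. -/
def lookupN (L : List ℕ) (i : ℕ) : ℕ := L.getD i 0

/-- A list of signs, as a function. -/
def lookupZ (L : List ℤ) (i : ℕ) : ℤ := L.getD i 1

/-- The image of a chain. -/
def mapEntry (ρ : ℕ → ℕ) (ε : ℕ → ℤ) (r s : ℕ) : ℕ → List (ℕ × ℤ) → List (ℕ × ℤ)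
  | _, [] => []
  | j, (u, M) :: L => (ρ u, M * ε r ^ j * ε s * ε u) :: mapEntry ρ ε r s (j + 1) L

namespace Tables

variable (T : Tables)

/-- A signed permutation of the roots compatible with a permutation of the nodes. -/
def checkGraph (ρ τ τ' : ℕ → ℕ) (ε : ℕ → ℤ) : Bool :=
  (T.allNodes fun p =>
    Nat.blt (τ p) T.l && Nat.blt (τ' p) T.l && Nat.beq (τ' (τ p)) p && Nat.beq (τ (τ' p)) p &&
    Nat.beq (ρ (T.simple p)) (T.simple (τ p)) && intBeq (ε (T.simple p)) 1 &&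
    intBeq (ε (T.neg (T.simple p))) 1 &&
    T.allRoots fun s => Nat.beq (ρ (T.refl p s)) (T.refl (τ p) (ρ s)) &&
      intBeq (T.cartan (τ p) (ρ s)) (T.cartan p s) &&
      intBeq (T.coroot (ρ s) (τ p)) (T.coroot s p)) &&
  T.allRoots fun r =>
    Nat.blt (ρ r) T.n && Nat.beq (ρ^[6] r) r && (Nat.blt r T.h || Nat.ble T.h (ρ r)) &&
    Nat.beq (ρ (T.neg r)) (T.neg (ρ r)) && intBeq (ε r * ε r) 1 && intBeq (ε (T.neg r)) (ε r) &&
    T.allRoots fun s => entryBeq (T.entry (ρ r) (ρ s)) (mapEntry ρ ε r s 1 (T.entry r s))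

end Tables

namespace CertFull

variable {D : ChevalleyDatum} (c : CertFull D)

/-- The data of a graph symmetry. -/
structure Graph where
  ρ : ℕ → ℕ
  τ : ℕ → ℕ
  τ' : ℕ → ℕ
  ε : ℕ → ℤ
  check : c.T.checkGraph ρ τ τ' ε = true

theorem chainVec_entry_lt {r s : ℕ} (hr : r < D.nroots) (hs : s < D.nroots) :
    ∀ q ∈ c.T.entry r s, q.1 < D.nroots := by
  intro q hq
  obtain ⟨j, hj, rfl⟩ := List.getElem_of_mem hq
  refine c.chainRoot_lt (i := j + 1) hr hs ?_
  simp [Tables.chainRoot, List.getElem?_eq_getElem hj]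

namespace Graph

variable {c} (G : c.Graph) (F : Type*) [Field F]

theorem node_spec {p : ℕ} (hp : p < D.rank) :
    G.τ p < D.rank ∧ G.τ' p < D.rank ∧ G.τ' (G.τ p) = p ∧ G.τ (G.τ' p) = p ∧
    G.ρ (D.simple p) = D.simple (G.τ p) ∧ G.ε (D.simple p) = 1 ∧
    G.ε (D.neg (D.simple p)) = 1 ∧
    ∀ s < D.nroots, G.ρ (c.w p s) = c.w (G.τ p) (G.ρ s) ∧
      c.T.cartan (G.τ p) (G.ρ s) = c.T.cartan p s ∧
      c.T.coroot (G.ρ s) (G.τ p) = c.T.coroot s p := by
  have h := G.check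
  simp only [Tables.checkGraph, Tables.allNodes, Tables.allRoots, Bool.and_eq_true,
    List.all_eq_true, List.mem_range, Nat.blt_eq, Nat.beq_eq, ← c.rank_eq, ← c.nroots_eq] at h
  obtain ⟨⟨⟨⟨⟨⟨⟨h1, h2⟩, h3⟩, h4⟩, h5⟩, h6⟩, h7⟩, h8⟩ := h.1 p hp
  have hb : ∀ {x y : ℤ}, intBeq x y = true → x = y := by
    intro x y; cases x <;> cases y <;> simp [intBeq]
  rw [← c.simple_eq hp, ← c.simple_eq h1] at h5
  rw [← c.simple_eq hp] at h6
  rw [← c.neg_eq (c.simple_eq hp ▸ c.simple_lt hp), ← c.simple_eq hp] at h7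
  refine ⟨h1, h2, h3, h4, h5, hb h6, hb h7, fun s hs => ?_⟩
  obtain ⟨⟨a, b⟩, d⟩ := h8 s hs
  exact ⟨a, hb b, hb d⟩

theorem root_spec {r : ℕ} (hr : r < D.nroots) :
    G.ρ r < D.nroots ∧ (G.ρ)^[6] r = r ∧ (c.Pos r → c.Pos (G.ρ r)) ∧
    G.ρ (D.neg r) = D.neg (G.ρ r) ∧ G.ε r * G.ε r = 1 ∧ G.ε (D.neg r) = G.ε r ∧
    ∀ s < D.nroots, c.T.entry (G.ρ r) (G.ρ s) = mapEntry G.ρ G.ε r s 1 (c.T.entry r s) := by
  have h := G.check
  simp only [Tables.checkGraph, Tables.allNodes, Tables.allRoots, Bool.and_eq_true,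
    List.all_eq_true, List.mem_range, Nat.blt_eq, Nat.beq_eq, Bool.or_eq_true, Nat.ble_eq,
    ← c.rank_eq, ← c.nroots_eq] at h
  obtain ⟨⟨⟨⟨⟨⟨h1, h2⟩, h3⟩, h4⟩, h5⟩, h6⟩, h7⟩ := h.2 r hr
  have hb : ∀ {x y : ℤ}, intBeq x y = true → x = y := by
    intro x y; cases x <;> cases y <;> simp [intBeq]
  rw [← c.neg_eq hr, ← c.neg_eq h1] at h4
  rw [← c.neg_eq hr] at h6
  refine ⟨h1, h2, fun hp => ⟨?_, h1⟩, h4, hb h5, hb h6, fun s hs => entryBeq_iff (h7 s hs)⟩
  rcases h3 with h3 | h3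
  · exact absurd hp.1 (by omega)
  · exact h3

theorem iterate_lt {r : ℕ} (hr : r < D.nroots) : ∀ i, (G.ρ)^[i] r < D.nroots
  | 0 => hr
  | i + 1 => by rw [Function.iterate_succ_apply']; exact (G.root_spec (iterate_lt hr i)).1

/-- The signed permutation matrix. -/
def mat : Matrix D.Idx D.Idx F :=
  Matrix.of fun row col => Sum.elim (fun i : Fin D.rank => hvec D F (G.τ i) row)
    (fun s : Fin D.nroots => (G.ε s : F) * evec D F (G.ρ s) row) col

/-- Its inverse. -/
def matInv : Matrix D.Idx D.Idx F :=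
  Matrix.of fun row col => Sum.elim (fun i : Fin D.rank => hvec D F (G.τ' i) row)
    (fun s : Fin D.nroots => (G.ε ((G.ρ)^[5] s) : F) * evec D F ((G.ρ)^[5] s) row) col

theorem mat_hvec {i : ℕ} (hi : i < D.rank) : G.mat F *ᵥ hvec D F i = hvec D F (G.τ i) := by
  rw [← single_inl D F ⟨i, hi⟩, Matrix.mulVec_single_one]
  funext j
  simp [mat]

theorem mat_evec {s : ℕ} (hs : s < D.nroots) :
    G.mat F *ᵥ evec D F s = (G.ε s : F) • evec D F (G.ρ s) := by
  rw [← single_inr D F ⟨s, hs⟩, Matrix.mulVec_single_one]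
  funext j
  simp [mat]

theorem mat_mul_matInv : G.mat F * G.matInv F = 1 := by
  refine mat_ext D F (fun i hi => ?_) fun s hs => ?_
  · have e : G.matInv F *ᵥ hvec D F i = hvec D F (G.τ' i) := by
      rw [← single_inl D F ⟨i, hi⟩, Matrix.mulVec_single_one]
      funext j
      simp [matInv]
    obtain ⟨-, h2, -, h4, -⟩ := G.node_spec hi
    rw [← Matrix.mulVec_mulVec, e, G.mat_hvec F h2, h4, Matrix.one_mulVec]
  · have e : G.matInv F *ᵥ evec D F s =
        (G.ε ((G.ρ)^[5] s) : F) • evec D F ((G.ρ)^[5] s) := by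
      rw [← single_inr D F ⟨s, hs⟩, Matrix.mulVec_single_one]
      funext j
      simp [matInv]
    have hs' := G.iterate_lt hs 5
    rw [← Matrix.mulVec_mulVec, e, Matrix.mulVec_smul, G.mat_evec F hs', smul_smul, ← Int.cast_mul,
      (G.root_spec hs').2.2.2.2.1, Int.cast_one, one_smul, ← Function.iterate_succ_apply' G.ρ,
      (G.root_spec hs).2.1, Matrix.one_mulVec]

/-- The matrix as an invertible one. -/
def unit : GL D.Idx F :=
  ⟨G.mat F, G.matInv F, G.mat_mul_matInv F, mul_eq_one_comm.1 (G.mat_mul_matInv F)⟩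

variable {F}

theorem mat_chainVec (t : F) {r s : ℕ} (hr : r < D.nroots) (hs : s < D.nroots) :
    ∀ (L : List (ℕ × ℤ)), (∀ q ∈ L, q.1 < D.nroots) → ∀ j : ℕ,
    G.mat F *ᵥ chainVec D F t j L =
      (G.ε s : F) • chainVec D F ((G.ε r : F) * t) j (mapEntry G.ρ G.ε r s j L) := by
  intro L
  induction L with
  | nil => intro _ j; simp [chainVec, mapEntry]
  | cons q L ih =>
    intro hL j
    obtain ⟨u, M⟩ := q
    rw [chainVec, mapEntry, chainVec, Matrix.mulVec_add, Matrix.mulVec_smul, smul_add,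
      ih (fun q hq => hL q (List.mem_cons_of_mem _ hq)) (j + 1),
      G.mat_evec F (hL (u, M) (by simp)), smul_smul, smul_smul]
    congr 2
    have h2 : (G.ε s : F) * G.ε s = 1 := by
      rw [← Int.cast_mul, (G.root_spec hs).2.2.2.2.1, Int.cast_one]
    have h3 : ((G.ε r : F) ^ j) * (G.ε r : F) ^ j = 1 := by
      rw [← mul_pow, ← Int.cast_mul, (G.root_spec hr).2.2.2.2.1, Int.cast_one, one_pow]
    push_cast
    linear_combination (-(M : F) * t ^ j * G.ε u * (G.ε r : F) ^ j * (G.ε r : F) ^ j) * h2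
      - ((M : F) * t ^ j * G.ε u) * h3

/-- The symmetry moves root elements. -/
theorem unit_mul_xg {r : ℕ} (hr : r < D.nroots) (t : F) :
    G.unit F * c.xg r t = c.xg (G.ρ r) ((G.ε r : F) * t) * G.unit F := by
  obtain ⟨h1, -, -, h4, h5, h6, h7⟩ := G.root_spec hr
  have hε : (G.ε r : F) * G.ε r = 1 := by rw [← Int.cast_mul, h5, Int.cast_one]
  refine Units.ext ?_
  rw [Units.val_mul, Units.val_mul, c.xg_val, c.xg_val]
  show G.mat F * _ = _ * G.mat F
  refine mat_ext D F (fun i hi => ?_) fun s hs => ?_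
  · obtain ⟨t1, -, -, -, -, -, -, hnode⟩ := G.node_spec hi
    obtain ⟨-, hA, -⟩ := hnode r hr
    rw [← Matrix.mulVec_mulVec, ← Matrix.mulVec_mulVec, c.x_hvec hr hi, G.mat_hvec F hi,
      c.x_hvec h1 t1, Matrix.mulVec_sub, Matrix.mulVec_smul, G.mat_hvec F hi, G.mat_evec F hr,
      smul_smul, c.cartan_eq hi hr, c.cartan_eq t1 h1, hA]
    congr 2
    ring
  · rw [← Matrix.mulVec_mulVec, ← Matrix.mulVec_mulVec, G.mat_evec F hs, Matrix.mulVec_smul]
    by_cases e1 : s = r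
    · subst e1
      rw [c.x_evec_self hs, c.x_evec_self h1, G.mat_evec F hs]
    by_cases e2 : s = D.neg r
    · subst e2
      have hn := c.neg_lt hr
      rw [h4, h6, c.x_evec_neg hr, c.x_evec_neg h1, Matrix.mulVec_sub, Matrix.mulVec_add,
        Matrix.mulVec_smul, Matrix.mulVec_smul, G.mat_evec F hn, G.mat_evec F hr, h4, h6,
        smul_sub, smul_add, smul_smul, smul_smul, smul_smul]
      have hh : G.mat F *ᵥ c.hroot F r = c.hroot F (G.ρ r) := by
        rw [c.hroot_eq_sum, c.hroot_eq_sum, Matrix.mulVec_sum]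
        refine Finset.sum_bij' (fun i _ => G.τ i) (fun i _ => G.τ' i) (fun i hi => ?_)
          (fun i hi => ?_) (fun i hi => ?_) (fun i hi => ?_) (fun i hi => ?_) <;>
          rw [Finset.mem_range] at hi
        · exact Finset.mem_range.2 (G.node_spec hi).1
        · exact Finset.mem_range.2 (G.node_spec hi).2.1
        · exact (G.node_spec hi).2.2.1
        · exact (G.node_spec hi).2.2.2.1
        · rw [Matrix.mulVec_smul, G.mat_hvec F hi, ((G.node_spec hi).2.2.2.2.2.2.2 r hr).2.2]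
      rw [hh]
      congr 1
      · congr 1
        congr 1
        linear_combination (-t) * hε
      · congr 1
        linear_combination (-(G.ε r : F) * t ^ 2) * hε
    have e1' : G.ρ s ≠ G.ρ r := fun e => e1 (by
      have := congrArg ((G.ρ)^[5]) e
      rw [← Function.iterate_succ_apply G.ρ, ← Function.iterate_succ_apply G.ρ,
        (G.root_spec hs).2.1, (G.root_spec hr).2.1] at this
      exact this)
    have e2' : G.ρ s ≠ D.neg (G.ρ r) := fun e => e2 (by
      rw [← h4] at e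
      have := congrArg ((G.ρ)^[5]) e
      rw [← Function.iterate_succ_apply G.ρ, ← Function.iterate_succ_apply G.ρ,
        (G.root_spec hs).2.1, (G.root_spec (c.neg_lt hr)).2.1] at this
      exact this)
    rw [c.x_evec hr hs e1 e2, c.x_evec h1 (G.root_spec hs).1 e1' e2', Matrix.mulVec_add,
      G.mat_evec F hs, G.mat_chainVec t hr hs _ (c.chainVec_entry_lt hr hs) 1, h7 s hs, smul_add]

/-- The endomorphism `g ↦ P σ(g) P⁻¹`. -/
def twist (f : F →+* F) : Twist c F where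
  ρ := G.ρ
  τ := G.τ
  τ' := G.τ'
  ε := G.ε
  φ := fun _ => f
  σ := (MulAut.conj (G.unit F)).toMonoidHom.comp
    ((Matrix.GeneralLinearGroup.map f).comp (D.group F).subtype)
  τ_lt p hp := (G.node_spec hp).1
  τ'_lt p hp := (G.node_spec hp).2.1
  τ'_τ p hp := (G.node_spec hp).2.2.1
  τ_τ' p hp := (G.node_spec hp).2.2.2.1
  ρ_simple p hp := (G.node_spec hp).2.2.2.2.1
  ρ_lt r hr := (G.root_spec hr).1
  ρ_pos r hr := (G.root_spec hr.2).2.2.1 hr
  ρ_neg r hr := (G.root_spec hr).2.2.2.1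
  ρ_inj r hr s hs e := by
    have := congrArg ((G.ρ)^[5]) e
    rw [← Function.iterate_succ_apply G.ρ, ← Function.iterate_succ_apply G.ρ,
      (G.root_spec hs).2.1, (G.root_spec hr).2.1] at this
    exact this
  ρ_w p hp s hs := ((G.node_spec hp).2.2.2.2.2.2.2 s hs).1
  ε_sq r hr := (G.root_spec hr).2.2.2.2.1
  ε_simple p hp := ⟨(G.node_spec hp).2.2.2.2.2.1, (G.node_spec hp).2.2.2.2.2.2.1⟩
  φ_neg_simple _ _ := rfl
  σ_xg r hr t := by
    show G.unit F * Matrix.GeneralLinearGroup.map f (c.xg r t) * (G.unit F)⁻¹ = _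
    rw [c.xg_map, G.unit_mul_xg hr, mul_inv_cancel_right]

end Graph

end CertFull

end Cfsg.Agent.Lie.Chev
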