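import Cfsg.Agent.Lib.Lie.Chev.Twist
import Cfsg.Agent.Lib.Lie.Chev.Poincare

/-! The elements of the Weyl group commuting with a symmetry of the roots: they are products of the
longest elements of the orbits of fundamental roots, and a certified list of them. -/

set_option autoImplicit false

namespace Cfsg.Agent.Lie.Chev

open Cfsg.Lie Matrix

/-- A listed element: a word in orbit indices, its parent, the images of the fundamental roots and
their key, witnesses for the length, and the indices of its neighbours. -/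
structure TRep where
  word : List ℕ
  parent : ℕ
  img : List ℕ
  key : ℕ
  wit : List ℕ
  nxt : List ℕ

/-- One number for a list of bytes. -/
def packKey : List ℕ → ℕ
  | [] => 0
  | a :: L => a + 256 * packKey L

theorem packKey_inj : ∀ {A B : List ℕ}, A.length = B.length → (∀ a ∈ A, a < 256) →
    (∀ b ∈ B, b < 256) → packKey A = packKey B → A = B
  | [], [], _, _, _, _ => rfl
  | [], _ :: _, h, _, _, _ => by simp at h
  | _ :: _, [], h, _, _, _ => by simp at h
  | a :: A, b :: B, h, hA, hB, e => by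
    simp only [packKey] at e
    have := hA a (by simp)
    have := hB b (by simp)
    obtain rfl : a = b := by omega
    rw [packKey_inj (A := A) (B := B) (by simpa using h) (fun x hx => hA x (by simp [hx]))
      (fun x hx => hB x (by simp [hx])) (by omega)]

/-- Strictly increasing. -/
def strictInc : List ℕ → Bool
  | [] => true
  | [_] => true
  | a :: b :: L => Nat.blt a b && strictInc (b :: L)

theorem strictInc_spec : ∀ {L : List ℕ}, strictInc L = true → L.Pairwise (· < ·)
  | [], _ => List.Pairwise.nil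
  | [_], _ => List.pairwise_singleton _ _
  | a :: b :: L, h => by
    simp only [strictInc, Bool.and_eq_true, Nat.blt_eq] at h
    have ih := strictInc_spec (L := b :: L) h.2
    refine List.Pairwise.cons (fun x hx => ?_) ih
    rcases List.mem_cons.1 hx with rfl | hx
    · exact h.1
    · exact h.1.trans ((List.pairwise_cons.1 ih).1 x hx)

/-- The word of nodes of a word in orbit indices. -/
def flatW (Jw : List (List ℕ)) (w : List ℕ) : List ℕ := w.flatMap fun j => Jw.getD j []

namespace Tables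

variable (T : Tables)

/-- The number of positive roots made negative. -/
def invT (J : List ℕ) : ℕ :=
  ((List.range' T.h T.h).filter fun s => Nat.blt (T.wlT J s) T.h).length

/-- The word of the longest element of an orbit of fundamental roots. -/
def checkJ (ρ τ : ℕ → ℕ) (J : List ℕ) : Bool :=
  !J.isEmpty && (J.all fun p => Nat.blt p T.l) &&
  (J.all fun p => J.all fun q => (List.range 4).any fun i => Nat.beq (τ^[i] q) p) &&
  (J.all fun p => Nat.blt (T.wlT J (T.simple p)) T.h) &&
  T.allRoots fun s =>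
    Nat.beq (T.wlT J (T.wlT J s)) s && Nat.beq (T.wlT J (ρ s)) (ρ (T.wlT J s)) &&
      (Nat.blt s T.h || Nat.ble T.h (T.wlT J s) ||
        T.allNodes fun j => T.vec s j == 0 || J.any (Nat.beq j))

/-- The orbit words cover the nodes. -/
def checkOrbits (ρ τ : ℕ → ℕ) (Jw : List (List ℕ)) : Bool :=
  (Jw.all fun J => T.checkJ ρ τ J) && T.allNodes fun p => Jw.any fun J => J.any (Nat.beq p)

/-- A listed element follows from its parent. -/
def checkTStep (Jw : List (List ℕ)) (E : BT TRep) (idx : ℕ) : Bool :=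
  let d := E.get idx
  Nat.beq d.key (packKey d.img) &&
  match d.word with
  | [] => Nat.beq idx 0 && natsBeq d.img ((List.range T.l).map T.simple)
  | j :: w =>
    Nat.blt j Jw.length && Nat.blt d.parent idx &&
    natsBeq w (E.get d.parent).word &&
    natsBeq d.img ((E.get d.parent).img.map (T.wlT (Jw.getD j []))) &&
    Nat.beq d.wit.length (Jw.getD j []).length &&
    ((Jw.getD j []).zip d.wit).all fun pr =>
      Nat.ble T.h pr.2 && Nat.blt pr.2 T.n &&
        intBeq (T.imgCode (E.get d.parent).img pr.2) (T.code (T.simple pr.1))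

/-- The list is closed under the orbit words. -/
def checkTClose (Jw : List (List ℕ)) (E : BT TRep) (N idx : ℕ) : Bool :=
  let d := E.get idx
  (List.range Jw.length).all fun j =>
    let m := d.nxt.getD j N
    Nat.blt m N && Nat.beq (E.get m).key (packKey (d.img.map (T.wlT (Jw.getD j []))))

/-- The whole list. -/
def checkFixedWeyl (Jw : List (List ℕ)) (E : BT TRep) (N : ℕ) (order : List ℕ) : Bool :=
  Nat.ble T.n 256 && Nat.blt 0 N && Nat.beq order.length N &&
  (order.all fun i => Nat.blt i N) && strictInc (order.map fun i => (E.get i).key) &&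
  ((List.range N).all fun idx => T.checkTStep Jw E idx && T.checkTClose Jw E N idx)

end Tables

namespace CertFull

variable {D : ChevalleyDatum} (c : CertFull D) {F : Type*} [Field F]

include c

theorem invT_eq {J : List ℕ} (hJ : ∀ p ∈ J, p < D.rank) : c.T.invT J = c.invN J := by
  classical
  have e : {r : ℕ | c.Pos r ∧ ¬ c.Pos (c.wl J r)} =
      ↑((List.range' c.T.h c.T.h).filter fun s => Nat.blt (c.T.wlT J s) c.T.h).toFinset := by
    ext r
    have hn : D.nroots = 2 * c.T.h := c.nroots_eq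
    simp only [Set.mem_setOf_eq, List.coe_toFinset, List.mem_filter, List.mem_range'_1,
      Nat.blt_eq, c.wlT_eq]
    refine ⟨fun ⟨h1, h2⟩ => ⟨⟨h1.1, by have := h1.2; omega⟩, ?_⟩,
      fun ⟨h1, h2⟩ => ⟨⟨h1.1, by omega⟩, fun h => by have := h.1; omega⟩⟩
    by_contra h
    exact h2 ⟨by omega, c.wl_lt hJ h1.2⟩
  rw [invN, e, Nat.card_coe_set_eq, Set.ncard_coe_finset, List.toFinset_card_of_nodup]
  · rfl
  · exact List.Nodup.filter _ List.nodup_range'

/-- Additivity of the inversion number along an orbit word. -/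
theorem invN_append_left {J v : List ℕ} (hJ : ∀ p ∈ J, p < D.rank) (hv : ∀ p ∈ v, p < D.rank)
    (hsup : ∀ r ∈ c.invSet J, ∀ j < D.rank, c.T.vec r j ≠ 0 → j ∈ J)
    (hpos : ∀ p ∈ J, c.Pos (c.wl v.reverse (D.simple p))) :
    c.invN (J ++ v) = c.invN J + c.invN v := by
  have hvr : ∀ p ∈ v.reverse, p < D.rank := fun p hp => hv p (List.mem_reverse.1 hp)
  have hback : ∀ y ∈ c.invSet J, c.Pos (c.wl v.reverse y) := by
    intro y hy
    rw [c.pos_iff_code (c.wl_lt hvr hy.1.2), c.code_wl hvr hy.1.2]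
    have hterm : ∀ i ∈ Finset.range D.rank,
        0 ≤ c.T.vec y i * c.T.code (c.wl v.reverse (D.simple i)) := by
      intro i hi
      rw [Finset.mem_range] at hi
      by_cases h0 : c.T.vec y i = 0
      · rw [h0, zero_mul]
      · exact mul_nonneg ((c.vec_nonneg hy.1.2 hy.1.1).1 i hi)
          ((c.pos_iff_code (c.wl_lt hvr (c.simple_lt hi))).1 (hpos i (hsup y hy i hi h0))).le
    obtain ⟨j, hj, hvj⟩ := c.exists_vec_pos hy.1
    exact Finset.sum_pos' hterm ⟨j, Finset.mem_range.2 hj, mul_pos hvj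
      ((c.pos_iff_code (c.wl_lt hvr (c.simple_lt hj))).1 (hpos j (hsup y hy j hj hvj.ne')))⟩
  have hback' : ∀ y, y < D.nroots → c.wl v.reverse (c.wl v y) = y := fun y hy => by
    have := c.wl_reverse hvr hy
    rwa [List.reverse_reverse] at this
  have hset : c.invSet (J ++ v) = c.invSet v ∪ c.wl v.reverse '' c.invSet J := by
    ext r
    constructor
    · rintro ⟨hr, h⟩
      rw [c.wl_append] at h
      by_cases hp : c.Pos (c.wl v r)
      · exact Or.inr ⟨c.wl v r, ⟨hp, h⟩, hback' r hr.2⟩
      · exact Or.inl ⟨hr, hp⟩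
    · rintro (⟨hr, h⟩ | ⟨x, hx, rfl⟩)
      · refine ⟨hr, ?_⟩
        rw [c.wl_append]
        intro hp
        have hy := c.wl_lt hv hr.2
        have hmem : D.neg (c.wl v r) ∈ c.invSet J := by
          refine ⟨(c.not_pos_iff hy).1 h, ?_⟩
          rw [c.wl_neg hJ hy]
          exact fun h' => (c.not_pos_iff (c.wl_lt hJ hy)).2 h' hp
        have := hback _ hmem
        rw [c.wl_neg hvr hy, hback' r hr.2] at this
        exact (c.not_pos_iff hr.2).2 this hr
      · refine ⟨hback x hx, ?_⟩
        rw [c.wl_append, c.wl_reverse hv hx.1.2]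
        exact hx.2
  have hdisj : Disjoint (c.invSet v) (c.wl v.reverse '' c.invSet J) := by
    rw [Set.disjoint_left]
    rintro r ⟨-, h⟩ ⟨x, hx, rfl⟩
    rw [c.wl_reverse hv hx.1.2] at h
    exact h hx.1
  show Nat.card (c.invSet (J ++ v)) = Nat.card (c.invSet J) + Nat.card (c.invSet v)
  rw [hset, Nat.card_coe_set_eq, Nat.card_coe_set_eq, Nat.card_coe_set_eq,
    Set.ncard_union_eq hdisj (c.finite_inv v) ((c.finite_inv J).image _), add_comm,
    Set.InjOn.ncard_image fun x hx y hy e => c.wl_inj hvr hx.1.2 hy.1.2 e]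

/-- Two words with the same permutation and signs give the same element. -/
theorem nw_ext {L M : List ℕ} (hL : ∀ p ∈ L, p < D.rank) (hM : ∀ p ∈ M, p < D.rank)
    (hwl : ∀ s < D.nroots, c.wl L s = c.wl M s)
    (hsg : ∀ s < D.nroots, (c.wsign L s : F) = c.wsign M s) : c.nw F L = c.nw F M := by
  have hMr : ∀ p ∈ M.reverse, p < D.rank := fun p hp => hM p (List.mem_reverse.1 hp)
  obtain ⟨a, ha, K, hK, hn⟩ := c.mem_monomial_iff.1
    (mul_mem (c.nw_mem_N (F := F) hL) (inv_mem (c.nw_mem_N hM)))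
  have hk : c.nw F L * (c.nw F M)⁻¹ ∈ D.diagonalSubgroup F := by
    rw [hn]
    refine c.mem_H_of_wl ha hK fun q hq => ?_
    have hα := c.simple_lt hq
    have hy := c.wl_lt hMr hα
    have h := congrArg (· * c.nw F M) hn
    simp only [mul_assoc, inv_mul_cancel, mul_one, ← c.nw_append] at h
    have h' := c.wl_eq_of_eq (one_mem _) ha hL
      (fun p hp => (List.mem_append.1 hp).elim (hK p) (hM p)) (by rw [one_mul]; exact h) hy
    rw [hwl _ hy, c.wl_append, c.wl_reverse hM hα] at h'
    rw [← h']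
    exact c.pos_simple hq
  set k := c.nw F L * (c.nw F M)⁻¹ with hkdef
  have e : c.nw F L = k * c.nw F M := by rw [hkdef, inv_mul_cancel_right]
  have key : ∀ s < D.nroots, (k : Matrix D.Idx D.Idx F) *ᵥ evec D F (c.wl M s) =
      evec D F (c.wl M s) := by
    intro s hs
    have h := congrArg (fun g : GL D.Idx F => (g : Matrix D.Idx D.Idx F) *ᵥ evec D F s) e
    simp only [Units.val_mul, ← Matrix.mulVec_mulVec, c.nw_evec hL hs, c.nw_evec hM hs,
      Matrix.mulVec_smul, hwl s hs, hsg s hs] at h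
    exact (smul_right_injective _ (c.wsign_ne_zero (F := F) M s) h).symm
  rw [e, mul_eq_right]
  rw [c.diagonalSubgroup_eq] at hk
  obtain ⟨z, hz⟩ := hk
  rw [← hz, Cert.torus_apply]
  have : ∀ s < D.nroots, (k : Matrix D.Idx D.Idx F) *ᵥ evec D F s = evec D F s := fun s hs => by
    have := key _ (c.wl_lt hMr hs)
    rwa [c.wl_reverse hM hs] at this
  refine Units.ext (mat_ext D F (fun i hi => ?_) fun s hs => ?_)
  · simp [Cert.torus_apply, charDiag_hvec]
  · rw [← Cert.torus_apply, hz, this s hs]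
    simp

end CertFull

namespace Twist

variable {D : ChevalleyDatum} {c : CertFull D} {F : Type*} [Field F] (T : Twist c F)

theorem comm_nil : T.Comm [] := fun _ _ => rfl

theorem comm_append {A B : List ℕ} (hB : ∀ p ∈ B, p < D.rank) (h1 : T.Comm A) (h2 : T.Comm B) :
    T.Comm (A ++ B) := fun s hs => by
  rw [c.wl_append, c.wl_append, h2 s hs, h1 _ (c.wl_lt hB hs)]

/-- A certified list of the fixed elements of the Weyl group. -/
structure FixedWeyl where
  Jw : List (List ℕ)
  E : BT TRep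
  N : ℕ
  order : List ℕ
  orbits : c.T.checkOrbits T.ρ T.τ Jw = true
  list : c.T.checkFixedWeyl Jw E N order = true
  nw_fix : ∀ J ∈ Jw, T.act (c.nw F J) = c.nw F J

namespace FixedWeyl

variable {T} (W : T.FixedWeyl)

/-- The word of a listed element. -/
def wd (i : ℕ) : List ℕ := flatW W.Jw (W.E.get i).word

theorem J_spec {J : List ℕ} (hJ : J ∈ W.Jw) :
    J ≠ [] ∧ (∀ p ∈ J, p < D.rank) ∧ T.Comm J ∧
    (∀ p ∈ J, ∀ q ∈ J, ∃ i, (T.τ)^[i] q = p) ∧
    (∀ p ∈ J, ¬ c.Pos (c.wl J (D.simple p))) ∧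
    (∀ s < D.nroots, c.wl J (c.wl J s) = s) ∧
    ∀ r ∈ c.invSet J, ∀ j < D.rank, c.T.vec r j ≠ 0 → j ∈ J := by
  have h := W.orbits
  simp only [Tables.checkOrbits, Bool.and_eq_true, List.all_eq_true] at h
  have h' := h.1 J hJ
  simp only [Tables.checkJ, Bool.and_eq_true, Bool.not_eq_true', List.isEmpty_eq_false_iff,
    List.all_eq_true, Nat.blt_eq, List.any_eq_true, Nat.beq_eq, Tables.allRoots, Tables.allNodes,
    List.mem_range, Bool.or_eq_true, Nat.ble_eq, c.wlT_eq, beq_iff_eq] at h'
  obtain ⟨⟨⟨⟨h1, h2⟩, h3⟩, h4⟩, h5⟩ := h'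
  have hn : ∀ {s}, s < D.nroots → s < c.T.n := fun h => c.nroots_eq ▸ h
  have hlt : ∀ p ∈ J, p < D.rank := fun p hp => c.rank_eq ▸ h2 p hp
  refine ⟨h1, hlt, fun s hs => (h5 s (hn hs)).1.2, fun p hp q hq => ?_, fun p hp hpos => ?_,
    fun s hs => (h5 s (hn hs)).1.1, fun r hr j hj hne => ?_⟩
  · obtain ⟨i, -, e⟩ := h3 p hp q hq
    exact ⟨i, e⟩
  · have := h4 p hp
    rw [← c.simple_eq (hlt p hp)] at this
    exact absurd hpos.1 (by omega)
  · rcases (h5 r (hn hr.1.2)).2 with (h6 | h6) | h6
    · exact absurd hr.1.1 (by omega)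
    · exact absurd ⟨h6, c.wl_lt hlt hr.1.2⟩ hr.2
    · rcases h6 j (c.rank_eq ▸ hj) with h7 | ⟨x, hx, rfl⟩
      · exact absurd h7 hne
      · exact hx

theorem node_mem {p : ℕ} (hp : p < D.rank) : ∃ J ∈ W.Jw, p ∈ J := by
  have h := W.orbits
  simp only [Tables.checkOrbits, Bool.and_eq_true, Tables.allNodes, List.all_eq_true,
    List.any_eq_true, Nat.beq_eq, List.mem_range] at h
  obtain ⟨J, hJ, x, hx, rfl⟩ := h.2 p (c.rank_eq ▸ hp)
  exact ⟨J, hJ, hx⟩

theorem getD_mem {j : ℕ} (hj : j < W.Jw.length) : W.Jw.getD j [] ∈ W.Jw := by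
  rw [List.getD_eq_getElem _ _ hj]
  exact List.getElem_mem hj

theorem flat_spec {w : List ℕ} (hw : ∀ j ∈ w, j < W.Jw.length) :
    (∀ p ∈ flatW W.Jw w, p < D.rank) ∧ T.Comm (flatW W.Jw w) ∧
      T.act (c.nw F (flatW W.Jw w)) = c.nw F (flatW W.Jw w) := by
  induction w with
  | nil => exact ⟨by simp [flatW], T.comm_nil, T.act_one⟩
  | cons j w ih =>
    obtain ⟨i1, i2, i3⟩ := ih fun k hk => hw k (by simp [hk])
    have hJ := W.getD_mem (hw j (by simp))
    obtain ⟨-, hlt, hC, -⟩ := W.J_spec hJ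
    have e : flatW W.Jw (j :: w) = W.Jw.getD j [] ++ flatW W.Jw w := by simp [flatW]
    rw [e]
    refine ⟨fun p hp => (List.mem_append.1 hp).elim (hlt p) (i1 p), T.comm_append i1 hC i2, ?_⟩
    rw [c.nw_append, T.act_mul (c.N_le_group (c.nw_mem_N hlt)) (c.N_le_group (c.nw_mem_N i1)),
      W.nw_fix _ hJ, i3]

theorem step_spec : ∀ i, i < W.N →
    (∀ j ∈ (W.E.get i).word, j < W.Jw.length) ∧ (W.E.get i).img.length = D.rank ∧
    (∀ q < D.rank, (W.E.get i).img.getD q 0 = c.wl (W.wd i) (D.simple q)) ∧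
    (W.E.get i).key = packKey (W.E.get i).img ∧
    c.invN (W.wd i) = ((W.E.get i).word.map fun j => c.T.invT (W.Jw.getD j [])).sum := by
  intro i
  induction i using Nat.strong_induction_on with
  | _ i ih =>
    intro hi
    have h := W.list
    simp only [Tables.checkFixedWeyl, Bool.and_eq_true, List.all_eq_true, List.mem_range] at h
    have h' := (h.2 i hi).1
    simp only [Tables.checkTStep, Bool.and_eq_true, Nat.beq_eq] at h'
    obtain ⟨hkey, h'⟩ := h'
    split at h'
    · rename_i hw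
      simp only [Bool.and_eq_true, natsBeq_iff] at h'
      rw [wd, hw]
      refine ⟨by simp, by rw [h'.2]; simp [c.rank_eq], fun q hq => ?_, hkey,
        by rw [show flatW W.Jw [] = [] from rfl, c.invN_nil]; rfl⟩
      have hq' : q < c.T.l := c.rank_eq ▸ hq
      rw [h'.2, List.getD_eq_getElem _ _ (by simpa using hq'), List.getElem_map,
        List.getElem_range, show flatW W.Jw [] = [] from rfl, Cert.wl_nil, c.simple_eq hq]
    · rename_i j w hw
      simp only [Bool.and_eq_true, Nat.blt_eq, Nat.beq_eq, natsBeq_iff, List.all_eq_true,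
        Nat.ble_eq] at h'
      obtain ⟨⟨⟨⟨⟨hj, hpar⟩, hw'⟩, himg⟩, hlen⟩, hwit⟩ := h'
      obtain ⟨i1, i2, i3, -, i5⟩ := ih _ hpar (by omega)
      obtain ⟨f1, -, -⟩ := W.flat_spec i1
      set J := W.Jw.getD j [] with hJdef
      obtain ⟨-, hlt, -, -, -, hinv, hsup⟩ := W.J_spec (W.getD_mem hj)
      set e := W.E.get (W.E.get i).parent with he
      have ewd : W.wd i = J ++ flatW W.Jw e.word := by simp [wd, hw, hw', flatW, hJdef]
      refine ⟨fun k hk => ?_, by rw [himg, List.length_map, i2], fun q hq => ?_, hkey, ?_⟩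
      · rw [hw] at hk
        rcases List.mem_cons.1 hk with rfl | hk
        · exact hj
        · exact i1 k (hw' ▸ hk)
      · have hq' : q < e.img.length := i2.symm ▸ hq
        rw [himg, List.getD_eq_getElem _ _ (by simpa using hq'), List.getElem_map, c.wlT_eq, ewd,
          c.wl_append, ← List.getD_eq_getElem _ 0 hq', i3 q hq]
        rfl
      · rw [hw, List.map_cons, List.sum_cons, hw', ← i5, ewd, ← hJdef, c.invT_eq hlt]
        set v := flatW W.Jw e.word with hv
        have hvr : ∀ p ∈ v.reverse, p < D.rank := fun p hp => f1 p (List.mem_reverse.1 hp)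
        have hnode : ∀ p ∈ J, c.Pos (c.wl v.reverse (D.simple p)) := by
          intro p hp
          obtain ⟨k, hk, hpk⟩ := List.getElem_of_mem hp
          have hmem : (p, (W.E.get i).wit[k]'(by omega)) ∈ J.zip (W.E.get i).wit := by
            rw [← hpk]
            exact List.mem_iff_getElem.2 ⟨k, by simp; omega, by simp⟩
          obtain ⟨⟨h1, h2⟩, h3⟩ := hwit _ hmem
          set r := (W.E.get i).wit[k]'(by omega)
          have hr : r < D.nroots := c.nroots_eq.symm ▸ h2
          have h3' : c.T.imgCode e.img r = c.T.code (c.T.simple p) := by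
            revert h3
            cases c.T.imgCode e.img r <;> cases c.T.code (c.T.simple p) <;> simp [intBeq]
          have hwr : c.wl v r = D.simple p := by
            refine c.code_inj (c.wl_lt f1 hr) (c.simple_lt (hlt p hp)) ?_
            rw [c.code_wl f1 hr, c.simple_eq (hlt p hp), ← h3', Tables.imgCode,
              ← List.sum_toFinset _ List.nodup_range, List.toFinset_range, c.rank_eq]
            refine Finset.sum_congr rfl fun m hm => ?_
            rw [i3 m (c.rank_eq.symm ▸ Finset.mem_range.1 hm)]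
            rfl
          rw [← hwr]
          have : c.wl v.reverse (c.wl v r) = r := by
            have := c.wl_reverse hvr hr
            rwa [List.reverse_reverse] at this
          rw [this]
          exact ⟨h1, hr⟩
        exact c.invN_append_left hlt f1 hsup hnode

theorem close_spec {i : ℕ} (hi : i < W.N) {J : List ℕ} (hJ : J ∈ W.Jw) :
    ∃ m < W.N, c.Same (J ++ W.wd i) (W.wd m) := by
  have h := W.list
  simp only [Tables.checkFixedWeyl, Bool.and_eq_true, List.all_eq_true, List.mem_range,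
    Nat.ble_eq] at h
  obtain ⟨j, hj, rfl⟩ := List.getElem_of_mem hJ
  have h' := (h.2 i hi).2
  simp only [Tables.checkTClose, List.all_eq_true, List.mem_range, Bool.and_eq_true, Nat.blt_eq,
    Nat.beq_eq] at h'
  obtain ⟨hm, hkey⟩ := h' j hj
  set m := (W.E.get i).nxt.getD j W.N
  obtain ⟨i1, i2, i3, -, -⟩ := W.step_spec i hi
  obtain ⟨m1, m2, m3, m4, -⟩ := W.step_spec m hm
  refine ⟨m, hm, fun q hq => ?_⟩
  rw [List.getD_eq_getElem _ _ hj] at hkey
  set J := W.Jw[j]
  obtain ⟨-, hlt, -⟩ := W.J_spec (List.getElem_mem hj)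
  have hb : D.nroots ≤ 256 := c.nroots_eq.symm ▸ h.1.1.1.1.1
  obtain ⟨fi, -, -⟩ := W.flat_spec i1
  obtain ⟨fm, -, -⟩ := W.flat_spec m1
  have himg : (W.E.get m).img = (W.E.get i).img.map (c.T.wlT J) := by
    refine packKey_inj (by rw [List.length_map, m2, i2]) (fun a ha => ?_) (fun a ha => ?_)
      (m4.symm.trans hkey)
    · obtain ⟨k, hk, rfl⟩ := List.getElem_of_mem ha
      rw [← List.getD_eq_getElem _ 0 hk, m3 k (m2 ▸ hk)]
      exact lt_of_lt_of_le (c.wl_lt fm (c.simple_lt (m2 ▸ hk))) hb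
    · obtain ⟨x, hx, rfl⟩ := List.mem_map.1 ha
      obtain ⟨k, hk, rfl⟩ := List.getElem_of_mem hx
      rw [c.wlT_eq, ← List.getD_eq_getElem _ 0 hk, i3 k (i2 ▸ hk)]
      exact lt_of_lt_of_le (c.wl_lt hlt (c.wl_lt fi (c.simple_lt (i2 ▸ hk)))) hb
  have hq' : q < (W.E.get i).img.length := i2.symm ▸ hq
  rw [c.wl_append, ← m3 q hq, himg, List.getD_eq_getElem _ _ (by simpa using hq'),
    List.getElem_map, c.wlT_eq, ← List.getD_eq_getElem _ 0 hq', i3 q hq]

theorem distinct {i k : ℕ} (hi : i < W.N) (hk : k < W.N) (h : c.Same (W.wd i) (W.wd k)) :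
    i = k := by
  have hl := W.list
  simp only [Tables.checkFixedWeyl, Bool.and_eq_true, List.all_eq_true, Nat.blt_eq,
    Nat.beq_eq] at hl
  obtain ⟨⟨⟨⟨-, hlen⟩, hlt⟩, hinc⟩, -⟩ := hl
  have hp := strictInc_spec hinc
  have hnd : W.order.Nodup := List.Nodup.of_map _ (hp.imp fun h => ne_of_lt h)
  have hall : ∀ x < W.N, x ∈ W.order := by
    intro x hx
    have : W.order.toFinset = Finset.range W.N :=
      Finset.eq_of_subset_of_card_le (fun y hy => Finset.mem_range.2 (hlt y (List.mem_toFinset.1 hy)))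
        (by rw [List.toFinset_card_of_nodup hnd, hlen, Finset.card_range])
    exact List.mem_toFinset.1 (this ▸ Finset.mem_range.2 hx)
  obtain ⟨-, i2, i3, i4, -⟩ := W.step_spec i hi
  obtain ⟨-, k2, k3, k4, -⟩ := W.step_spec k hk
  have himg : (W.E.get i).img = (W.E.get k).img := by
    refine List.ext_getElem (i2.trans k2.symm) fun q hq1 hq2 => ?_
    have hq : q < D.rank := i2 ▸ hq1
    rw [← List.getD_eq_getElem _ 0 hq1, ← List.getD_eq_getElem _ 0 hq2, i3 q hq, k3 q hq]
    exact h q hq
  exact List.inj_on_of_nodup_map (hp.imp fun h => ne_of_lt h) (hall i hi) (hall k hk)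
    (by rw [i4, k4, himg])

theorem root_mem_invSet_pos {L : List ℕ} (hL : ∀ p ∈ L, p < D.rank) {J : List ℕ} {r : ℕ}
    (hr : c.Pos r) (hsup : ∀ j < D.rank, c.T.vec r j ≠ 0 → j ∈ J)
    (hneg : ∀ p ∈ J, ¬ c.Pos (c.wl L (D.simple p))) : ¬ c.Pos (c.wl L r) := by
  intro hp
  obtain ⟨j, hj, hv⟩ := c.exists_vec_pos hp
  rw [c.wl_vec hL hr.2 hj] at hv
  refine absurd hv (not_lt.2 (Finset.sum_nonpos fun i hi => ?_))
  rw [Finset.mem_range] at hi
  by_cases h0 : c.T.vec r i = 0
  · rw [h0, zero_mul]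
  · exact mul_nonpos_of_nonneg_of_nonpos ((c.vec_nonneg hr.2 hr.1).1 i hi)
      (c.vec_nonpos (c.wl_lt hL (c.simple_lt hi)) (hneg i (hsup i hi h0)) hj)

/-- Every element commuting with the symmetry is listed. -/
theorem exists_rep : ∀ {L : List ℕ}, (∀ p ∈ L, p < D.rank) → T.Comm L →
    ∃ i < W.N, c.Same L (W.wd i) := by
  suffices ∀ n, ∀ {L : List ℕ}, (∀ p ∈ L, p < D.rank) → T.Comm L → c.invN L = n →
      ∃ i < W.N, c.Same L.reverse (W.wd i) by
    intro L hL hC
    have hLr : ∀ p ∈ L.reverse, p < D.rank := fun p hp => hL p (List.mem_reverse.1 hp)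
    have hCr : T.Comm L.reverse := fun s hs => by
      refine c.wl_inj hL (c.wl_lt hLr (T.ρ_lt s hs)) (T.ρ_lt _ (c.wl_lt hLr hs)) ?_
      rw [c.wl_reverse hL (T.ρ_lt s hs), hC _ (c.wl_lt hLr hs), c.wl_reverse hL hs]
    obtain ⟨i, hi, h⟩ := this _ hLr hCr rfl
    rw [List.reverse_reverse] at h
    exact ⟨i, hi, h⟩
  intro n
  induction n using Nat.strong_induction_on with
  | _ n ih =>
    intro L hL hC hn
    by_cases hpos : ∀ q < D.rank, c.Pos (c.wl L (D.simple q))
    · have hH := c.nw_mem_H (F := ℚ) hL hpos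
      have hid : ∀ s < D.nroots, c.wl L s = s := fun s hs => by
        have := c.wl_eq_of_eq (L := L) (M := []) (one_mem _) hH hL (by simp) (by simp) hs
        simpa using this
      have h := W.list
      simp only [Tables.checkFixedWeyl, Bool.and_eq_true, Nat.blt_eq, List.all_eq_true,
        List.mem_range] at h
      have h0 : 0 < W.N := h.1.1.1.1.2
      refine ⟨0, h0, fun q hq => ?_⟩
      have hw : (W.E.get 0).word = [] := by
        have h' := (h.2 0 h0).1
        simp only [Tables.checkTStep, Bool.and_eq_true] at h'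
        obtain ⟨-, h'⟩ := h'
        split at h'
        · assumption
        · simp [Nat.blt_eq] at h'
      have hα := c.simple_lt hq
      rw [show W.wd 0 = [] by simp [wd, hw, flatW], Cert.wl_nil]
      have := c.wl_reverse (L := L.reverse) (fun p hp => hL p (List.mem_reverse.1 hp)) hα
      rwa [List.reverse_reverse, hid _ hα] at this
    push Not at hpos
    obtain ⟨q, hq, hneg⟩ := hpos
    obtain ⟨J, hJ, hqJ⟩ := W.node_mem hq
    obtain ⟨hne, hlt, hCJ, horb, hJneg, hinv, hsup⟩ := W.J_spec hJ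
    have hall : ∀ p ∈ J, ¬ c.Pos (c.wl L (D.simple p)) := by
      intro p hp
      obtain ⟨i, rfl⟩ := horb p hp q hqJ
      clear hp
      have : ∀ i, (T.τ)^[i] q < D.rank ∧ ¬ c.Pos (c.wl L (D.simple ((T.τ)^[i] q))) := by
        intro i
        induction i with
        | zero => exact ⟨hq, hneg⟩
        | succ i ih =>
          rw [Function.iterate_succ_apply']
          refine ⟨T.τ_lt _ ih.1, ?_⟩
          rw [← T.ρ_simple _ ih.1, hC _ (c.simple_lt ih.1)]
          exact T.not_pos_ρ (c.wl_lt hL (c.simple_lt ih.1)) ih.2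
      exact (this i).2
    have hJall : ∀ r ∈ c.invSet J, ¬ c.Pos (c.wl L r) := fun r hr =>
      root_mem_invSet_pos hL hr.1 (hsup r hr) hall
    set L' := L ++ J with hL'def
    have hL' : ∀ p ∈ L', p < D.rank := fun p hp => (List.mem_append.1 hp).elim (hL p) (hlt p)
    have hdec : c.invN L' < c.invN L := by
      have hmap : ∀ r ∈ c.invSet L', c.wl J r ∈ c.invSet L ∧ c.wl J r ∉ c.invSet J := by
        intro r hr
        obtain ⟨hr1, hr2⟩ := hr
        rw [c.wl_append] at hr2
        have hx := c.wl_lt hlt hr1.2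
        by_cases hp : c.Pos (c.wl J r)
        · refine ⟨⟨hp, hr2⟩, fun h => h.2 ?_⟩
          rw [hinv r hr1.2]
          exact hr1
        · exfalso
          have hp' := (c.not_pos_iff hx).1 hp
          have hmem : D.neg (c.wl J r) ∈ c.invSet J := by
            refine ⟨hp', ?_⟩
            rw [c.wl_neg hlt hx, hinv r hr1.2]
            exact fun h => (c.not_pos_iff hr1.2).2 h hr1
          have h2 := hJall _ hmem
          rw [c.wl_neg hL hx] at h2
          exact h2 ((c.not_pos_iff (c.wl_lt hL hx)).1 hr2)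
      obtain ⟨p, hp⟩ := List.exists_mem_of_ne_nil J hne
      have hpl := hlt p hp
      have hαL : D.simple p ∈ c.invSet L := ⟨c.pos_simple hpl, hall p hp⟩
      have hαJ : D.simple p ∈ c.invSet J := ⟨c.pos_simple hpl, hJneg p hp⟩
      show Nat.card (c.invSet L') < Nat.card (c.invSet L)
      rw [Nat.card_coe_set_eq, Nat.card_coe_set_eq]
      have hsub : c.wl J '' c.invSet L' ⊂ c.invSet L := by
        refine Set.ssubset_iff_subset_ne.2 ⟨?_, fun e => ?_⟩
        · rintro x ⟨r, hr, rfl⟩
          exact (hmap r hr).1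
        · obtain ⟨r, hr, er⟩ := (e ▸ hαL : D.simple p ∈ c.wl J '' c.invSet L')
          exact (hmap r hr).2 (er ▸ hαJ)
      rw [← Set.InjOn.ncard_image fun x hx y hy e => c.wl_inj hlt hx.1.2 hy.1.2 e]
      exact Set.ncard_lt_ncard hsub ((Set.finite_Iio D.nroots).subset fun r hr => hr.1.2)
    obtain ⟨i, hi, hs⟩ := ih _ (hn ▸ hdec) hL' (T.comm_append hlt hC hCJ) rfl
    obtain ⟨m, hm, hsm⟩ := W.close_spec hi hJ
    refine ⟨m, hm, fun q hq => ?_⟩
    rw [← hsm q hq, c.wl_append, ← hs q hq, hL'def, List.reverse_append, c.wl_append]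
    have hLr : ∀ p ∈ L.reverse, p < D.rank := fun p hp => hL p (List.mem_reverse.1 hp)
    have hy := c.wl_lt hLr (c.simple_lt hq)
    have hJJ := hinv _ (c.wl_lt (fun p hp => hlt p (List.mem_reverse.1 hp)) hy)
    rw [c.wl_reverse hlt hy] at hJJ
    have hJr : c.wl J.reverse (c.wl L.reverse (D.simple q)) =
        c.wl J (c.wl L.reverse (D.simple q)) := hJJ.symm
    rw [hJr, hinv _ hy]

end FixedWeyl

end Twist

end Cfsg.Agent.Lie.Chev
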