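/- The graph symmetry of type D4 and the elements of the Weyl group commuting with it. -/
import Cfsg.Agent.Lib.Lie.Chev.TwistGraph
import Cfsg.Agent.Lib.Lie.Chev.TwistWeyl
import Cfsg.Agent.Lib.Lie.Chev.CertsFull

set_option autoImplicit false
set_option maxRecDepth 20000

namespace Cfsg.Agent.Lie.Chev

open Cfsg.Lie

/-- The permutation of the roots. -/
def rhoD4 : List ℕ := [0, 1, 6, 2, 7, 10, 3, 8, 4, 9, 11, 5, 18, 12, 14, 19, 15, 20, 13, 16, 21, 17, 22, 23]

/-- The signs. -/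
def epsD4 : List ℤ := [1, 1, -1, 1, -1, 1, -1, 1, -1, 1, 1, 1, 1, 1, 1, -1, 1, -1, 1, -1, 1, -1, 1, 1]

/-- The graph symmetry of type D4. -/
def graphD4 : certFullD4.Graph where
  ρ := lookupN rhoD4
  τ := lookupN [2, 1, 3, 0]
  τ' := lookupN [3, 1, 0, 2]
  ε := lookupZ epsD4
  check := by decide +kernel

/-- The orbit words. -/
def orbitsD4 : List (List ℕ) := [[1], [0, 2, 3]]

/-- Part 0 of the fixed elements of the Weyl group of type D4. -/
def twistD4Chunk0 : BT TRep :=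
  .node 6
    (.node 3
     (.node 1
      (.leaf ⟨[], 0, [18, 14, 13, 12], 202182162, [], [1, 2]⟩)
      (.node 2
       (.leaf ⟨[0], 0, [19, 9, 16, 15], 252709139, [14], [0, 3]⟩)
       (.leaf ⟨[1], 0, [5, 22, 10, 11], 185210373, [18, 13, 12], [4, 0]⟩)))
     (.node 4
      (.leaf ⟨[1, 0], 1, [17, 1, 20, 21], 353632529, [19, 16, 15], [5, 1]⟩)
      (.node 5
       (.leaf ⟨[0, 1], 2, [4, 23, 7, 8], 134682372, [22], [2, 6]⟩)
       (.leaf ⟨[0, 1, 0], 3, [17, 0, 20, 21], 353632273, [23], [3, 7]⟩))))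
    (.node 9
     (.node 7
      (.leaf ⟨[1, 0, 1], 4, [6, 23, 3, 2], 33756934, [17, 20, 21], [8, 4]⟩)
      (.node 8
       (.leaf ⟨[1, 0, 1, 0], 5, [19, 0, 16, 15], 252706835, [17, 20, 21], [9, 5]⟩)
       (.leaf ⟨[0, 1, 0, 1], 6, [6, 22, 3, 2], 33756678, [23], [6, 10]⟩)))
     (.node 10
      (.leaf ⟨[0, 1, 0, 1, 0], 7, [18, 1, 13, 12], 202178834, [22], [7, 11]⟩)
      (.node 11
       (.leaf ⟨[1, 0, 1, 0, 1], 8, [4, 14, 7, 8], 134680068, [19, 16, 15], [11, 8]⟩)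
       (.leaf ⟨[1, 0, 1, 0, 1, 0], 9, [5, 9, 10, 11], 185207045, [18, 13, 12], [10, 9]⟩))))

/-- The fixed elements of the Weyl group of type D4. -/
def twistD4Reps : BT TRep := twistD4Chunk0

/-- Their order by key. -/
def twistD4Order : List ℕ :=
  [8, 6, 10, 4, 11, 2, 9, 0, 7, 1, 5, 3]

theorem orbitsD4_ok :
    certFullD4.T.checkOrbits graphD4.ρ graphD4.τ orbitsD4 = true := by decide +kernel

theorem twistD4Reps_ok :
    certFullD4.T.checkFixedWeyl orbitsD4 twistD4Reps 12 twistD4Order = true := by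
  decide +kernel

theorem twistD4_top : ((twistD4Reps.get 11).img.all fun a =>
    Nat.blt a certFullD4.T.h) = true := by decide +kernel

end Cfsg.Agent.Lie.Chev
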