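import Cfsg.Agent.Lib.Lie.Chev.TwistCommon
import Cfsg.Agent.Lib.Lie.Chev.TwistDataD4
import Cfsg.Agent.Lib.Lie.Chev.OrderD4
import Cfsg.Prelude.Def_LieTwisted

/-! The group ³D₄(q) as the fixed subgroup of a triality twisted by the `q`-th power map. -/

set_option autoImplicit false

namespace Cfsg.Agent.Lie.Chev.D4

open Cfsg.Lie Matrix
open scoped commutatorElement

theorem graphD4_values :
    (graphD4.ρ 18 = 13 ∧ graphD4.ρ 13 = 12 ∧ graphD4.ρ 12 = 18 ∧ graphD4.ρ 14 = 14 ∧
      graphD4.ρ 5 = 10 ∧ graphD4.ρ 10 = 11 ∧ graphD4.ρ 11 = 5 ∧ graphD4.ρ 9 = 9 ∧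
      graphD4.ρ 22 = 22) ∧
    ([18, 13, 12, 14, 5, 10, 11, 9, 22].all fun r => graphD4.ε r == 1) = true := by
  decide

/-- The roots of the long orbit commute, with their negatives. -/
theorem commTerms_nil : ([18, 13, 12].all fun r => [18, 13, 12].all fun s => Nat.beq r s ||
    ([r, 23 - r].all fun a => [s, 23 - s].all fun b =>
      !(Nat.beq b a) && !(Nat.beq b (23 - a)) && (certFullD4.T.commTerms a b).isEmpty)) = true := by
  decide +kernel

theorem simple_values : chevD4.simple 0 = 18 ∧ chevD4.simple 1 = 14 ∧ chevD4.simple 2 = 13 ∧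
    chevD4.simple 3 = 12 ∧ chevD4.rank = 4 ∧ chevD4.nroots = 24 ∧
    chevD4.neg 18 = 5 ∧ chevD4.neg 13 = 10 ∧ chevD4.neg 12 = 11 ∧ chevD4.neg 14 = 9 := by
  decide

variable {K : Type*} [Field K] (f : K →+* K)

/-- The twisting endomorphism. -/
noncomputable def tw : Twist certFullD4 K := graphD4.twist f

theorem act_x {r : ℕ} (hr : r < 24) (hε : graphD4.ε r = 1) (t : K) :
    (tw f).act (certFullD4.xg r t) = certFullD4.xg (graphD4.ρ r) (f t) := by
  rw [(tw f).act_xg (show r < chevD4.nroots from hr)]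
  show certFullD4.xg (graphD4.ρ r) ((graphD4.ε r : K) * f t) = _
  rw [hε, Int.cast_one, one_mul]

theorem comm_x {r s a b : ℕ} (hr : r ∈ [18, 13, 12]) (hs : s ∈ [18, 13, 12]) (hne : r ≠ s)
    (ha : a ∈ [r, 23 - r]) (hb : b ∈ [s, 23 - s]) (t u : K) :
    Commute (certFullD4.xg a t) (certFullD4.xg b u) := by
  have h := commTerms_nil
  simp only [List.all_eq_true, Bool.or_eq_true, Nat.beq_eq, Bool.and_eq_true, Bool.not_eq_true',
    List.isEmpty_iff] at h
  obtain ⟨⟨h1, h2⟩, h3⟩ := ((h r hr s hs).resolve_left hne) a ha b hb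
  have hlt : ∀ {x y : ℕ}, x ∈ [18, 13, 12] → y ∈ [x, 23 - x] → y < 24 := by
    intro x y hx hy
    simp only [List.mem_cons, List.not_mem_nil, or_false] at hx hy
    omega
  have e : chevD4.neg a = 23 - a := certFullD4.neg_eq (hlt hr ha)
  refine certFullD4.xg_commute (hlt hr ha) (hlt hs hb) (fun e' => ?_) (fun e' => ?_) h3 t u
  · rw [e', beq_of_eq rfl] at h1; exact Bool.noConfusion h1
  · rw [e, ← e] at e'
    rw [beq_of_eq (e'.trans e)] at h2; exact Bool.noConfusion h2

/-- The product over the long orbit. -/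
noncomputable def X (a b d : K) : GL chevD4.Idx K :=
  certFullD4.xg 18 a * certFullD4.xg 13 b * certFullD4.xg 12 d

/-- The product over the negatives of the long orbit. -/
noncomputable def Y (a b d : K) : GL chevD4.Idx K :=
  certFullD4.xg 5 a * certFullD4.xg 10 b * certFullD4.xg 11 d

theorem X_rot (a b d : K) : X a b d = X (K := K) a b d ∧
    certFullD4.xg 12 d * certFullD4.xg 18 a * certFullD4.xg 13 b = X a b d ∧
    certFullD4.xg 13 b * certFullD4.xg 12 d * certFullD4.xg 18 a = X a b d := by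
  have c1 := comm_x (r := 18) (s := 13) (a := 18) (b := 13) (by simp) (by simp) (by omega)
    (by simp) (by simp) a b
  have c2 := comm_x (r := 18) (s := 12) (a := 18) (b := 12) (by simp) (by simp) (by omega)
    (by simp) (by simp) a d
  have c3 := comm_x (r := 13) (s := 12) (a := 13) (b := 12) (by simp) (by simp) (by omega)
    (by simp) (by simp) b d
  refine ⟨rfl, ?_, ?_⟩
  · rw [mul_assoc]; exact ((c2.symm.mul_right c3.symm).eq).trans rfl
  · rw [X, mul_assoc (certFullD4.xg 18 a)]
    exact (c1.mul_right c2).eq.symm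

theorem Y_rot (a b d : K) :
    certFullD4.xg 11 d * certFullD4.xg 5 a * certFullD4.xg 10 b = Y a b d := by
  have c2 := comm_x (r := 18) (s := 12) (a := 5) (b := 11) (by simp) (by simp) (by omega)
    (by simp) (by simp) a d
  have c3 := comm_x (r := 13) (s := 12) (a := 10) (b := 11) (by simp) (by simp) (by omega)
    (by simp) (by simp) b d
  rw [mul_assoc]
  exact ((c2.symm.mul_right c3.symm).eq).trans rfl

variable [Fintype K] {q : ℕ} (hf : ∀ t, f t = t ^ q) (hK : Fintype.card K = q ^ 3)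

include hf hK

theorem pow_cube (t : K) : f (f (f t)) = t := by
  rw [hf, hf, hf, ← pow_mul, ← pow_mul, show q * (q * q) = q ^ 3 by ring, ← hK, FiniteField.pow_card]

theorem one_lt_q : 1 < q := by
  have h := Fintype.one_lt_card (α := K)
  rw [hK] at h
  rcases Nat.lt_or_ge 1 q with h' | h'
  · exact h'
  · exfalso
    have := Nat.pow_le_pow_left h' 3
    omega

omit hK in
theorem gen1 {r : ℕ} (hr : r = 14 ∨ r = 9) {t : K} (ht : f t = t) :
    certFullD4.xg r t ∈ twistedD4 K q := by
  have h := wordProd_mem certFullD4 (S := d4Words K q) (w := [(r, t)])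
    (Or.inl ⟨t, by rwa [← hf], r, by rcases hr with rfl | rfl <;> simp [d4p2, d4m2], rfl⟩)
  simpa [twistedD4] using h

omit hK in
theorem genX (t : K) : X t (f t) (f (f t)) ∈ twistedD4 K q := by
  have h := wordProd_mem certFullD4 (S := d4Words K q)
    (w := [(18, t), (13, t ^ q), (12, t ^ (q ^ 2))]) (Or.inr ⟨t, (18, 13, 12), by simp [d4p1, d4p3, d4p4], rfl⟩)
  have e : f (f t) = t ^ (q ^ 2) := by rw [hf, hf, ← pow_mul, sq]
  rw [X, e, hf]
  simpa [twistedD4, mul_assoc] using h

omit hK in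
theorem genY (t : K) : Y t (f t) (f (f t)) ∈ twistedD4 K q := by
  have h := wordProd_mem certFullD4 (S := d4Words K q)
    (w := [(5, t), (10, t ^ q), (11, t ^ (q ^ 2))]) (Or.inr ⟨t, (5, 10, 11), by simp [d4m1, d4m3, d4m4], rfl⟩)
  have e : f (f t) = t ^ (q ^ 2) := by rw [hf, hf, ← pow_mul, sq]
  rw [Y, e, hf]
  simpa [twistedD4, mul_assoc] using h

omit hK in
theorem ng14_mem {t : K} (ht : f t = t) : certFullD4.ng 14 t ∈ twistedD4 K q := by
  rw [Cert.ng, show chevD4.neg 14 = 9 from simple_values.2.2.2.2.2.2.2.2.2]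
  exact mul_mem (mul_mem (gen1 f hf (Or.inl rfl) ht)
    (gen1 f hf (Or.inr rfl) (by rw [map_neg, map_inv₀, ht]))) (gen1 f hf (Or.inl rfl) ht)

omit hK in
theorem ng3_mem (s : K) : certFullD4.ng 18 s * certFullD4.ng 13 (f s) * certFullD4.ng 12 (f (f s)) ∈
    twistedD4 K q := by
  obtain ⟨-, -, -, -, -, -, n1, n2, n3, -⟩ := simple_values
  have e1 : f (-s⁻¹) = -(f s)⁻¹ := by rw [map_neg, map_inv₀]
  have e2 : f (f (-s⁻¹)) = -(f (f s))⁻¹ := by rw [e1, map_neg, map_inv₀]
  have cx : ∀ {r r' a b : ℕ}, r ∈ [18, 13, 12] → r' ∈ [18, 13, 12] → r ≠ r' → a ∈ [r, 23 - r] →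
      b ∈ [r', 23 - r'] → ∀ t u : K, Commute (certFullD4.xg a t) (certFullD4.xg b u) :=
    fun h1 h2 h3 h4 h5 t u => comm_x h1 h2 h3 h4 h5 t u
  have key : X s (f s) (f (f s)) * Y (-s⁻¹) (f (-s⁻¹)) (f (f (-s⁻¹))) * X s (f s) (f (f s)) =
      certFullD4.ng 18 s * certFullD4.ng 13 (f s) * certFullD4.ng 12 (f (f s)) := by
    rw [e2, e1, X, Y, Cert.ng, Cert.ng, Cert.ng, n1, n2, n3,
      mul3_comm (cx (r := 13) (r' := 18) (by simp) (by simp) (by omega) (by simp) (by simp) _ _)
        (cx (r := 12) (r' := 18) (by simp) (by simp) (by omega) (by simp) (by simp) _ _)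
        (cx (r := 12) (r' := 13) (by simp) (by simp) (by omega) (by simp) (by simp) _ _),
      mul3_comm
        ((cx (r := 13) (r' := 18) (by simp) (by simp) (by omega) (by simp) (by simp) _ _).mul_left
          (cx (r := 13) (r' := 18) (by simp) (by simp) (by omega) (by simp) (by simp) _ _))
        ((cx (r := 12) (r' := 18) (by simp) (by simp) (by omega) (by simp) (by simp) _ _).mul_left
          (cx (r := 12) (r' := 18) (by simp) (by simp) (by omega) (by simp) (by simp) _ _))
        ((cx (r := 12) (r' := 13) (by simp) (by simp) (by omega) (by simp) (by simp) _ _).mul_left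
          (cx (r := 12) (r' := 13) (by simp) (by simp) (by omega) (by simp) (by simp) _ _))]
  rw [← key]
  exact mul_mem (mul_mem (genX f hf _) (genY f hf _)) (genX f hf _)

omit hK hf [Fintype K] in
theorem ngs_commute {r s : ℕ} (hr : r ∈ [18, 13, 12]) (hs : s ∈ [18, 13, 12]) (hne : r ≠ s)
    (t u : K) : Commute (certFullD4.ng r t) (certFullD4.ng s u) := by
  have hn : ∀ {x : ℕ}, x ∈ [18, 13, 12] → chevD4.neg x = 23 - x := fun {x} hx =>
    certFullD4.neg_eq (by
      simp only [List.mem_cons, List.not_mem_nil, or_false] at hx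
      show x < 24
      omega)
  have key : ∀ a ∈ [r, 23 - r], ∀ t : K, Commute (certFullD4.xg a t) (certFullD4.ng s u) := by
    intro a ha t
    rw [Cert.ng, hn hs]
    exact ((comm_x hr hs hne ha (by simp) t _).mul_right (comm_x hr hs hne ha (by simp) t _)).mul_right
      (comm_x hr hs hne ha (by simp) t _)
  rw [Cert.ng, hn hr]
  exact ((key r (by simp) _).mul_left (key _ (by simp) _)).mul_left (key r (by simp) _)

omit hK in
theorem hg3_mem (s : K) : certFullD4.hg 18 s * certFullD4.hg 13 (f s) * certFullD4.hg 12 (f (f s)) ∈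
    twistedD4 K q := by
  rw [Cert.hg, Cert.hg, Cert.hg,
    ← mul3_comm (ngs_commute (by simp) (by simp) (by omega) _ _)
      (ngs_commute (by simp) (by simp) (by omega) _ _)
      (ngs_commute (by simp) (by simp) (by omega) _ _)]
  have h := ng3_mem f hf (-1 : K)
  simp only [map_neg, map_one] at h
  exact mul_mem (ng3_mem f hf s) h

theorem le_fix : twistedD4 K q ≤ (tw f).fix := by
  obtain ⟨⟨r1, r2, r3, r4, r5, r6, r7, r8, -⟩, he⟩ := graphD4_values
  simp only [List.all_eq_true, beq_iff_eq] at he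
  have hx : ∀ (r : ℕ), r < 24 → ∀ t : K, certFullD4.xg r t ∈ chevD4.group K := fun r hr t =>
    certFullD4.xg_mem_group hr t
  refine (Subgroup.closure_le _).2 ?_
  rintro g ⟨w, hw, hg⟩
  obtain rfl := eq_wordProd certFullD4 hg
  rcases hw with ⟨t, ht, r, hr, rfl⟩ | ⟨t, rs, hrs, rfl⟩
  · have hft : f t = t := by rw [hf, ht]
    simp only [d4p2, d4m2, List.mem_cons, List.not_mem_nil, or_false] at hr
    simp only [List.map_cons, List.map_nil, List.prod_cons, List.prod_nil, mul_one]
    refine (tw f).mem_fix.2 ⟨hx r (by omega) t, ?_⟩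
    rcases hr with rfl | rfl
    · rw [act_x f (by omega) (he 14 (by simp)), r4, hft]
    · rw [act_x f (by omega) (he 9 (by simp)), r8, hft]
  · have e : t ^ (q ^ 2) = f (f t) := by rw [hf, hf, ← pow_mul, sq]
    simp only [d4p1, d4p3, d4p4, d4m1, d4m3, d4m4, List.mem_cons, List.not_mem_nil, or_false] at hrs
    simp only [List.map_cons, List.map_nil, List.prod_cons, List.prod_nil, mul_one, ← hf, e,
      ← mul_assoc]
    rcases hrs with rfl | rfl
    · refine (tw f).mem_fix.2
        ⟨mul_mem (mul_mem (hx 18 (by omega) _) (hx 13 (by omega) _)) (hx 12 (by omega) _), ?_⟩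
      show (tw f).act (certFullD4.xg 18 t * certFullD4.xg 13 (f t) * certFullD4.xg 12 (f (f t))) = _
      rw [(tw f).act_mul (mul_mem (hx 18 (by omega) _) (hx 13 (by omega) _)) (hx 12 (by omega) _),
        (tw f).act_mul (hx 18 (by omega) _) (hx 13 (by omega) _),
        act_x f (by omega) (he 18 (by simp)), act_x f (by omega) (he 13 (by simp)),
        act_x f (by omega) (he 12 (by simp)), r1, r2, r3, pow_cube f hf hK,
        (X_rot t (f t) (f (f t))).2.2]
      rfl
    · refine (tw f).mem_fix.2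
        ⟨mul_mem (mul_mem (hx 5 (by omega) _) (hx 10 (by omega) _)) (hx 11 (by omega) _), ?_⟩
      show (tw f).act (certFullD4.xg 5 t * certFullD4.xg 10 (f t) * certFullD4.xg 11 (f (f t))) = _
      rw [(tw f).act_mul (mul_mem (hx 5 (by omega) _) (hx 10 (by omega) _)) (hx 11 (by omega) _),
        (tw f).act_mul (hx 5 (by omega) _) (hx 10 (by omega) _),
        act_x f (by omega) (he 5 (by simp)), act_x f (by omega) (he 10 (by simp)),
        act_x f (by omega) (he 11 (by simp)), r5, r6, r7, pow_cube f hf hK]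
      have c1 := comm_x (r := 18) (s := 13) (a := 5) (b := 10) (by simp) (by simp) (by omega)
        (by simp) (by simp) t (f t)
      have c2 := comm_x (r := 18) (s := 12) (a := 5) (b := 11) (by simp) (by simp) (by omega)
        (by simp) (by simp) t (f (f t))
      show _ = certFullD4.xg 5 t * certFullD4.xg 10 (f t) * certFullD4.xg 11 (f (f t))
      rw [mul_assoc (certFullD4.xg 5 t)]
      exact (c1.mul_right c2).eq.symm

theorem nw_fix : ∀ J ∈ orbitsD4, (tw f).act (certFullD4.nw K J) = certFullD4.nw K J := by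
  obtain ⟨s0, s1, s2, s3, hr, -⟩ := simple_values
  intro J hJ
  simp only [orbitsD4, List.mem_cons, List.not_mem_nil, or_false] at hJ
  have hlt : ∀ p ∈ J, p < chevD4.rank := by
    rw [hr]; rcases hJ with rfl | rfl <;> simp
  rw [(tw f).act_nw hlt]
  rcases hJ with rfl | rfl
  · rfl
  · show certFullD4.nw K [2, 3, 0] = certFullD4.nw K [0, 2, 3]
    simp only [Cert.nw_cons, Cert.nw_nil, mul_one, Cert.np, s0, s2, s3]
    rw [← mul_assoc]
    exact (((ngs_commute (r := 13) (s := 18) (by simp) (by simp) (by omega) _ _).mul_left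
      (ngs_commute (r := 12) (s := 18) (by simp) (by simp) (by omega) _ _)).eq)

/-- The fixed elements of the Weyl group. -/
noncomputable def weyl : (tw f).FixedWeyl where
  Jw := orbitsD4
  E := twistD4Reps
  N := 12
  order := twistD4Order
  orbits := orbitsD4_ok
  list := twistD4Reps_ok
  nw_fix := nw_fix f hf hK

omit hf hK [Fintype K] in
theorem checkFrob_ok : certFullD4.T.checkFrob graphD4.ρ graphD4.ε 3 = true := by decide +kernel

/-- The grading. -/
noncomputable def grading : (tw f).Grading 3 :=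
  (tw f).frobGrading (one_lt_q f hf hK) (by rw [Nat.card_eq_fintype_card, hK]) (by omega) hf
    (fun _ => rfl) checkFrob_ok

theorem n_mem : ∀ J ∈ orbitsD4, certFullD4.nw K J ∈ twistedD4 K q := by
  obtain ⟨s0, s1, s2, s3, -⟩ := simple_values
  intro J hJ
  simp only [orbitsD4, List.mem_cons, List.not_mem_nil, or_false] at hJ
  rcases hJ with rfl | rfl
  · simp only [Cert.nw_cons, Cert.nw_nil, mul_one, Cert.np, s1]
    exact ng14_mem f hf (map_one f)
  · simp only [Cert.nw_cons, Cert.nw_nil, mul_one, Cert.np, s0, s2, s3, ← mul_assoc]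
    have h := ng3_mem f hf (1 : K)
    simpa only [map_one] using h

omit hK hf [Fintype K] in
theorem root_reached : ∀ r ∈ List.range' 12 12,
    ((List.range 12).any fun i => (twistD4Reps.get i).img.any (Nat.beq r)) = true := by
  decide +kernel

theorem lifts : (grading f hf hK).Lifts (twistedD4 K q) := by
  obtain ⟨⟨r1, r2, r3, r4, -⟩, he⟩ := graphD4_values
  simp only [List.all_eq_true, beq_iff_eq] at he
  obtain ⟨s0, s1, s2, s3, hrk, hnr, -⟩ := simple_values
  refine (tw f).frob_lifts (weyl f hf hK) _ (le_fix f hf hK) (fun i hi => ?_) (fun r hr => ?_)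
    (fun p hp a ha => ?_)
  · have h := ((weyl f hf hK).step_spec i hi).1
    unfold Twist.FixedWeyl.wd
    revert h
    induction ((weyl f hf hK).E.get i).word with
    | nil => intro _; exact one_mem _
    | cons j w ih =>
      intro h
      rw [show flatW (weyl f hf hK).Jw (j :: w) =
        (weyl f hf hK).Jw.getD j [] ++ flatW (weyl f hf hK).Jw w by simp [flatW],
        certFullD4.nw_append]
      exact mul_mem (n_mem f hf hK _ ((weyl f hf hK).getD_mem (h j (by simp))))
        (ih fun k hk => h k (by simp [hk]))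
  · have h := root_reached r (by
      rw [List.mem_range'_1]
      exact ⟨hr.1, hr.2⟩)
    simp only [List.any_eq_true, List.mem_range, Nat.beq_eq] at h
    obtain ⟨i, hi, x, hx, rfl⟩ := h
    obtain ⟨k, hk, ex⟩ := List.getElem_of_mem hx
    obtain ⟨-, h2, h3, -⟩ := (weyl f hf hK).step_spec i hi
    have hk' : k < chevD4.rank := h2 ▸ hk
    refine ⟨i, hi, k, hk', ?_⟩
    rw [← h3 k hk']
    exact (List.getD_eq_getElem _ _ hk).trans ex
  · have hstep : ∀ (r : ℕ) (x : K), graphD4.ε r = 1 →
        (tw f).step (r, x) = (graphD4.ρ r, f x) := by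
      intro r x h
      show (graphD4.ρ r, (graphD4.ε r : K) * f x) = _
      rw [h, Int.cast_one, one_mul]
    rw [hrk] at hp
    have hper : ∀ r, (grading f hf hK).per r = if graphD4.ρ r = r then 1 else 3 := fun r => rfl
    rcases (show p = 0 ∨ p = 1 ∨ p = 2 ∨ p = 3 by omega) with rfl | rfl | rfl | rfl
    · rw [s0, hper, r1, if_neg (by omega)]
      simp only [List.range_succ, List.range_zero, List.nil_append, List.singleton_append,
        List.map_cons, List.map_nil, List.prod_cons, List.prod_nil, mul_one,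
        Function.iterate_succ_apply', Function.iterate_zero, id_eq, List.map_append, List.prod_append,
        hstep 18 _ (he 18 (by simp)), hstep 13 _ (he 13 (by simp)), r1, r2]
      exact genX f hf a
    · rw [s1, hper, r4, if_pos rfl, Function.iterate_one, hstep 14 _ (he 14 (by simp)), r4,
        Prod.mk.injEq] at ha
      rw [s1, hper, r4, if_pos rfl]
      simp only [List.range_succ, List.range_zero, List.nil_append,
        List.map_cons, List.map_nil, List.prod_cons, List.prod_nil, mul_one, Function.iterate_zero,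
        id_eq]
      exact gen1 f hf (Or.inl rfl) ha.2
    · rw [s2, hper, r2, if_neg (by omega)]
      simp only [List.range_succ, List.range_zero, List.nil_append, List.singleton_append,
        List.map_cons, List.map_nil, List.prod_cons, List.prod_nil, mul_one,
        Function.iterate_succ_apply', Function.iterate_zero, id_eq, List.map_append, List.prod_append,
        hstep 13 _ (he 13 (by simp)), hstep 12 _ (he 12 (by simp)), r2, r3]
      rw [(X_rot (f (f a)) a (f a)).2.2]
      have h := genX f hf (f (f a))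
      simpa only [pow_cube f hf hK] using h
    · rw [s3, hper, r3, if_neg (by omega)]
      simp only [List.range_succ, List.range_zero, List.nil_append, List.singleton_append,
        List.map_cons, List.map_nil, List.prod_cons, List.prod_nil, mul_one,
        Function.iterate_succ_apply', Function.iterate_zero, id_eq, List.map_append, List.prod_append,
        hstep 12 _ (he 12 (by simp)), hstep 18 _ (he 18 (by simp)), r3, r1]
      rw [(X_rot (f a) (f (f a)) a).2.1]
      have h := genX f hf (f a)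
      rwa [pow_cube f hf hK] at h

/-! ### The torus -/

omit hK hf [Fintype K] in
/-- A parameter vector of the torus. -/
noncomputable def zOf (s t : Kˣ) (j : ℕ) : Kˣ :=
  if j = 0 then s else if j = 1 then t else if j = 2 then Units.map (f : K →* K) s
  else if j = 3 then Units.map (f : K →* K) (Units.map (f : K →* K) s) else 1

omit hf hK [Fintype K] in
theorem tchar_simple (z : ℕ → Kˣ) :
    certFullD4.tchar z 18 = z 0 * z 0 * (z 1)⁻¹ ∧
    certFullD4.tchar z 14 = z 1 * z 1 * (z 0 * z 2 * z 3)⁻¹ ∧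
    certFullD4.tchar z 13 = z 2 * z 2 * (z 1)⁻¹ ∧
    certFullD4.tchar z 12 = z 3 * z 3 * (z 1)⁻¹ := by
  have hA : certFullD4.T.cartan 0 18 = 2 ∧
      certFullD4.T.cartan 1 18 = -1 ∧
      certFullD4.T.cartan 2 18 = 0 ∧
      certFullD4.T.cartan 3 18 = 0 ∧
      certFullD4.T.cartan 0 14 = -1 ∧
      certFullD4.T.cartan 1 14 = 2 ∧
      certFullD4.T.cartan 2 14 = -1 ∧
      certFullD4.T.cartan 3 14 = -1 ∧
      certFullD4.T.cartan 0 13 = 0 ∧
      certFullD4.T.cartan 1 13 = -1 ∧
      certFullD4.T.cartan 2 13 = 2 ∧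
      certFullD4.T.cartan 3 13 = 0 ∧
      certFullD4.T.cartan 0 12 = 0 ∧
      certFullD4.T.cartan 1 12 = -1 ∧
      certFullD4.T.cartan 2 12 = 0 ∧
      certFullD4.T.cartan 3 12 = 2 := by decide +kernel
  obtain ⟨a0, a1, a2, a3, a4, a5, a6, a7, a8, a9, a10, a11, a12, a13, a14, a15⟩ := hA
  simp only [Cert.tchar, show chevD4.rank = 4 from rfl, Finset.prod_range_succ,
    Finset.prod_range_zero, one_mul, a0, a1, a2, a3, a4, a5, a6, a7, a8, a9, a10, a11, a12, a13, a14, a15, zpow_two, _root_.zpow_neg, zpow_one, _root_.zpow_zero,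
    mul_one, _root_.mul_inv_rev]
  refine ⟨?_, ?_, ?_, ?_⟩ <;> simp only [mul_comm, mul_assoc, mul_left_comm]

omit hf hK [Fintype K] in
theorem eq_one_of_torus {z : ℕ → Kˣ} (h : certFullD4.torus z = 1) :
    z 0 * z 0 = 1 ∧ z 1 = 1 ∧ z 2 * z 2 = 1 ∧ z 3 * z 3 = 1 ∧ z 0 * z 2 * z 3 = 1 := by
  have h' : ∀ s < 24, certFullD4.tchar z s = 1 := fun s hs =>
    (dg_eq_iff chevD4 K).1 (h.trans (map_one (dg chevD4 K)).symm) s hs
  obtain ⟨a, b, d, e⟩ := tchar_simple z
  rw [h' _ (by omega), eq_comm, mul_inv_eq_one] at a b d e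
  have h5 : z 1 = 1 := by
    have h6 : (z 0 * z 0) * (z 2 * z 2) * (z 3 * z 3) = (z 1 * z 1) * (z 1 * z 1) := by
      rw [b]; simp only [mul_comm, mul_assoc, mul_left_comm]
    rw [a, d, e, ← mul_assoc (z 1 * z 1)] at h6
    exact mul_eq_left.1 h6.symm
  rw [h5] at a d e b
  exact ⟨a, h5, d, e, by simpa using b.symm⟩

theorem torus_zOf_fix (s t : Kˣ) (ht : f (t : K) = t) :
    certFullD4.torus (zOf f s t) ∈ (tw f).fix := by
  refine (tw f).mem_fix.2 ⟨certFullD4.B_le_group (certFullD4.H_le_B (certFullD4.torus_mem _)), ?_⟩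
  rw [(tw f).act_torus]
  refine certFullD4.torus_congr fun j hj => Units.ext ?_
  rw [(tw f).zAct_apply _ hj]
  change f (zOf f s t (graphD4.τ' j) : K) = _
  rw [show chevD4.rank = 4 from rfl] at hj
  have hτ : graphD4.τ' 0 = 3 ∧ graphD4.τ' 1 = 1 ∧ graphD4.τ' 2 = 0 ∧ graphD4.τ' 3 = 2 := by decide
  rcases (show j = 0 ∨ j = 1 ∨ j = 2 ∨ j = 3 by omega) with rfl | rfl | rfl | rfl
  · rw [hτ.1]; simpa [zOf] using pow_cube f hf hK (s : K)
  · rw [hτ.2.1]; simpa [zOf] using ht
  · rw [hτ.2.2.1]; simp [zOf]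
  · rw [hτ.2.2.2]; simp [zOf]

omit hK in
theorem torus_zOf_mem (s t : Kˣ) (ht : f (t : K) = t) :
    certFullD4.torus (zOf f s t) ∈ twistedD4 K q := by
  obtain ⟨s0, s1, s2, s3, hrk, -⟩ := simple_values
  rw [certFullD4.torus_eq_prod]
  show (List.map _ (List.range 4)).prod ∈ _
  simp only [List.range_succ, List.range_zero, List.nil_append, List.singleton_append,
    List.map_cons, List.map_nil, List.map_append, List.prod_cons, List.prod_nil, List.prod_append,
    mul_one, s0, s1, s2, s3]
  have h1 : certFullD4.hg 14 (t : K) ∈ twistedD4 K q :=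
    mul_mem (ng14_mem f hf ht) (ng14_mem f hf (by rw [map_neg, map_one]))
  have hH : ∀ {r : ℕ}, r < 24 → ∀ x : Kˣ, certFullD4.hg r (x : K) ∈ chevD4.diagonalSubgroup K :=
    fun hr x => certFullD4.hg_mem hr x.ne_zero
  have e : certFullD4.hg 18 (zOf f s t 0 : K) * certFullD4.hg 14 (zOf f s t 1 : K) *
      certFullD4.hg 13 (zOf f s t 2 : K) * certFullD4.hg 12 (zOf f s t 3 : K) =
      certFullD4.hg 14 (t : K) * (certFullD4.hg 18 (s : K) * certFullD4.hg 13 (f s) *
        certFullD4.hg 12 (f (f s))) := by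
    rw [certFullD4.H_commutative (hH (by omega) _) (hH (r := 14) (by omega) _)]
    simp [zOf, mul_assoc]
  simp only [mul_assoc] at e ⊢
  rw [e]
  exact mul_mem h1 (by simpa [mul_assoc] using hg3_mem f hf (s : K))

/-- Every fixed element of the torus comes from a fixed parameter vector. -/
theorem exists_zOf {g : GL chevD4.Idx K} (hg : g ∈ chevD4.diagonalSubgroup K ⊓ (tw f).fix) :
    ∃ s t : Kˣ, f (t : K) = t ∧ g = certFullD4.torus (zOf f s t) := by
  obtain ⟨hH, hfix⟩ := Subgroup.mem_inf.1 hg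
  rw [certFullD4.diagonalSubgroup_eq] at hH
  obtain ⟨z, rfl⟩ := hH
  have hact := ((tw f).mem_fix.1 hfix).2
  rw [(tw f).act_torus] at hact
  set k : ℕ → Kˣ := fun j => (tw f).zAct z j * (z j)⁻¹
  have hk : certFullD4.torus k = 1 := by
    rw [show k = (tw f).zAct z * z⁻¹ from rfl, map_mul, map_inv, hact, mul_inv_cancel]
  obtain ⟨k0, k1, k2, k3, k4⟩ := eq_one_of_torus hk
  have hval : ∀ j, j < 4 → Units.map (f : K →* K) (z (graphD4.τ' j)) = z j * k j := by
    intro j hj
    show _ = z j * ((tw f).zAct z j * (z j)⁻¹)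
    rw [mul_comm, inv_mul_cancel_right]
    exact Units.ext ((tw f).zAct_apply z (show j < chevD4.rank from hj)).symm
  have hτ : graphD4.τ' 1 = 1 ∧ graphD4.τ' 2 = 0 ∧ graphD4.τ' 3 = 2 := by decide
  have v1 := hval 1 (by omega)
  have v2 := hval 2 (by omega)
  have v3 := hval 3 (by omega)
  rw [hτ.1, k1, mul_one] at v1
  rw [hτ.2.1] at v2
  rw [hτ.2.2] at v3
  have hfk : ∀ x : Kˣ, x * x = 1 → Units.map (f : K →* K) x = x := by
    intro x hx
    have : (x : K) * x = 1 := by rw [← Units.val_mul, hx, Units.val_one]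
    refine Units.ext ?_
    rcases mul_self_eq_one_iff.1 this with e | e <;> simp [e]
  refine ⟨z 0 * k 3, z 1, by have := congrArg Units.val v1; simpa using this, ?_⟩
  set z' := zOf f (z 0 * k 3) (z 1)
  have e2 : z' 2 = z 2 * (k 2 * k 3) := by
    simp only [z', zOf, map_mul, hfk _ k3, v2]
    simp [mul_assoc]
  have e3 : z' 3 = z 3 * k 2 := by
    simp only [z', zOf, map_mul, hfk _ k3, v2, hfk _ k2, v3]
    simp only [if_neg (show ¬ (3 : ℕ) = 0 by omega), if_neg (show ¬ (3 : ℕ) = 1 by omega),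
      if_neg (show ¬ (3 : ℕ) = 2 by omega), if_true, mul_assoc]
    rw [mul_comm (k 2) (k 3), ← mul_assoc (k 3) (k 3), k3, one_mul]
  -- the two vectors differ by an element of the kernel
  have hcong : certFullD4.torus z' = certFullD4.torus z * certFullD4.torus
      (fun j => if j = 0 then k 3 else if j = 2 then k 2 * k 3 else if j = 3 then k 2 else 1) := by
    rw [← map_mul]
    refine certFullD4.torus_congr fun j hj => ?_
    rw [show chevD4.rank = 4 from rfl] at hj
    rw [Pi.mul_apply]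
    rcases (show j = 0 ∨ j = 1 ∨ j = 2 ∨ j = 3 by omega) with rfl | rfl | rfl | rfl
    · simp [z', zOf]
    · simp [z', zOf]
    · rw [e2]; simp
    · rw [e3]; simp
  rw [hcong, left_eq_mul]
  have hz4 : ∀ (a b d : Kˣ), a * a = 1 → b * b = 1 → d * d = 1 → a * b * d = 1 →
      certFullD4.torus (fun j => if j = 0 then a else if j = 2 then b else if j = 3 then d else 1)
        = 1 := by
    intro a b d ha hb hd habd
    rw [Cert.torus_apply, ← map_one (dg chevD4 K)]
    refine dg_ext chevD4 K fun u hu => ?_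
    rw [certFullD4.tchar_eq_prod _ hu]
    refine Finset.prod_eq_one fun j hj => ?_
    obtain ⟨t1, t2, t3, t4⟩ := tchar_simple
      (fun j => if j = 0 then a else if j = 2 then b else if j = 3 then d else 1)
    obtain ⟨s0, s1, s2, s3, -⟩ := simple_values
    rw [show chevD4.rank = 4 from rfl, Finset.mem_range] at hj
    rcases (show j = 0 ∨ j = 1 ∨ j = 2 ∨ j = 3 by omega) with rfl | rfl | rfl | rfl
    · rw [s0, t1]; simp [ha]
    · rw [s1, t2]
      simp only [show ¬ (1 : ℕ) = 0 by omega, show ¬ (1 : ℕ) = 2 by omega,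
        show ¬ (1 : ℕ) = 3 by omega, if_false, one_mul]
      simp [habd]
    · rw [s2, t3]; simp [hb]
    · rw [s3, t4]; simp [hd]
  refine hz4 _ _ _ k3 ?_ k2 ?_
  · rw [mul_mul_mul_comm, k2, k3, mul_one]
  · rw [← mul_assoc (k 3) (k 2), mul_comm (k 3) (k 2), mul_assoc (k 2), k3, mul_one, k2]

theorem H_le : chevD4.diagonalSubgroup K ⊓ (tw f).fix ≤ twistedD4 K q := by
  intro g hg
  obtain ⟨s, t, ht, rfl⟩ := exists_zOf f hf hK hg
  exact torus_zOf_mem f hf s t ht

/-- ³D₄(q) as a twisted group. -/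
noncomputable def datum : Twist.Datum (tw f) where
  e := 3
  e_pos := by omega
  G₁ := twistedD4 K q
  W := weyl f hf hK
  G := grading f hf hK
  lifts := lifts f hf hK
  le_fix := le_fix f hf hK
  H_le := H_le f hf hK
  n_mem := n_mem f hf hK
  disjoint := by
    show ∀ J ∈ orbitsD4, ∀ J' ∈ orbitsD4, ∀ p ∈ J, p ∈ J' → J = J'
    decide
  top := ⟨11, (show (11 : ℕ) < 12 by decide), fun p hp hpos => by
    obtain ⟨-, h2, h3, -⟩ := (weyl f hf hK).step_spec 11 (show (11 : ℕ) < 12 by decide)
    have h := twistD4_top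
    simp only [List.all_eq_true, Nat.blt_eq] at h
    have h4 := h _ (List.getElem_mem (h2.symm ▸ hp : p < _))
    change ((weyl f hf hK).E.get 11).img[p]'_ < _ at h4
    rw [← List.getD_eq_getElem _ 0, h3 p hp] at h4
    exact absurd hpos.1 (by omega)⟩

/-- The orders of the fixed tori. -/
theorem card_H : Nat.card ↥(chevD4.diagonalSubgroup K ⊓ (tw f).fix) = (q ^ 3 - 1) * (q - 1) := by
  let T₁ := {t : Kˣ // f (t : K) = t}
  have hT : Nat.card T₁ = q - 1 := by
    classical
    have hq := one_lt_q f hf hK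
    have h := card_pow_eq_self (F := K) hq (e := 3) (by rw [Nat.card_eq_fintype_card, hK])
    let e : {a : K // a ^ q = a} ≃ Option T₁ :=
      { toFun := fun a => if h : a.1 = 0 then none else some ⟨Units.mk0 a.1 h, by simp [hf, a.2]⟩
        invFun := fun o => o.elim ⟨0, zero_pow (by omega)⟩ fun u => ⟨(u.1 : K), by
          show (u.1 : K) ^ q = _
          rw [← hf]; exact u.2⟩
        left_inv := fun a => by
          by_cases h : a.1 = 0
          · simp [h, Subtype.ext_iff]
          · simp [h]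
        right_inv := fun o => by
          cases o with
          | none => simp
          | some u => simp [u.1.ne_zero] }
    rw [Nat.card_congr e, Finite.card_option] at h
    omega
  rw [← hK, ← Nat.card_eq_fintype_card, ← Nat.card_units, ← hT, ← Nat.card_prod]
  symm
  refine Nat.card_congr (Equiv.ofBijective (fun x : Kˣ × T₁ =>
    (⟨certFullD4.torus (zOf f x.1 x.2.1), certFullD4.torus_mem _,
      torus_zOf_fix f hf hK x.1 x.2.1 x.2.2⟩ : ↥(chevD4.diagonalSubgroup K ⊓ (tw f).fix)))
    ⟨fun x y e => ?_, fun g => ?_⟩)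
  · have e' := congrArg Subtype.val e
    simp only at e'
    have h : certFullD4.torus (zOf f x.1 x.2.1 * (zOf f y.1 y.2.1)⁻¹) = 1 := by
      rw [map_mul, map_inv, e', mul_inv_cancel]
    obtain ⟨h0, h1, -, -, h5⟩ := eq_one_of_torus h
    simp only [Pi.mul_apply, Pi.inv_apply, zOf] at h0 h1 h5
    set a : Kˣ := x.1 * y.1⁻¹
    have ha : a * a = 1 := by simpa using h0
    have hfa : Units.map (f : K →* K) a = a := by
      have : (a : K) * a = 1 := by rw [← Units.val_mul, ha, Units.val_one]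
      refine Units.ext ?_
      rcases mul_self_eq_one_iff.1 this with e | e <;> simp [e]
    have hfa' : Units.map (f : K →* K) x.1 * (Units.map (f : K →* K) y.1)⁻¹ = a := by
      rw [← map_inv, ← map_mul]; exact hfa
    have hffa : Units.map (f : K →* K) (Units.map (f : K →* K) x.1) *
        (Units.map (f : K →* K) (Units.map (f : K →* K) y.1))⁻¹ = a := by
      rw [← map_inv, ← map_mul, hfa', hfa]
    simp only [↓reduceIte, show ¬ (2 : ℕ) = 0 by omega, show ¬ (2 : ℕ) = 1 by omega,
      show ¬ (3 : ℕ) = 0 by omega, show ¬ (3 : ℕ) = 1 by omega, show ¬ (3 : ℕ) = 2 by omega] at h5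
    rw [hfa', hffa, show a * a * a = a by rw [ha, one_mul]] at h5
    refine Prod.ext (mul_inv_eq_one.1 h5) (Subtype.ext (mul_inv_eq_one.1 ?_))
    simpa using h1
  · obtain ⟨s, t, ht, e⟩ := exists_zOf f hf hK g.2
    exact ⟨(s, ⟨t, ht⟩), Subtype.ext e.symm⟩

theorem lens : (List.range 12).map (fun i => Twist.Datum.lenOf (weyl f hf hK) i) =
    (List.range 12).map fun i => (((twistD4Reps.get i).word.map fun j =>
      certFullD4.T.invT (orbitsD4.getD j [])).sum) := rfl

omit hK hf [Fintype K] in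
theorem lens_val : ((List.range 12).map fun i => ((twistD4Reps.get i).word.map fun j =>
    certFullD4.T.invT (orbitsD4.getD j [])).sum) = [0, 1, 3, 4, 4, 5, 7, 8, 8, 9, 11, 12] := by
  decide +kernel

theorem card_U : Nat.card ↥(chevD4.posUnipotent K ⊓ twistedD4 K q) = q ^ 12 := by
  have h := (datum f hf hK).card_U_q (q := q) (by rw [Nat.card_eq_fintype_card, hK]; rfl)
  rw [show twistedD4 K q = (tw f).fix from (datum f hf hK).eq_fix, h]
  rfl

theorem card_diag : Nat.card ↥(chevD4.diagonalSubgroup K ⊓ twistedD4 K q) =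
    (q - 1) ^ 2 * (q ^ 2 + q + 1) := by
  rw [show twistedD4 K q = (tw f).fix from (datum f hf hK).eq_fix, card_H f hf hK]
  obtain ⟨n, rfl⟩ : ∃ n, q = n + 1 := ⟨q - 1, by have := one_lt_q f hf hK; omega⟩
  rw [show (n + 1) ^ 3 - 1 = n * ((n + 1) ^ 2 + (n + 1) + 1) by
    rw [show (n + 1) ^ 3 = n * ((n + 1) ^ 2 + (n + 1) + 1) + 1 by ring, Nat.add_sub_cancel]]
  simp only [Nat.add_sub_cancel]
  ring

theorem card_group : Nat.card ↥(twistedD4 K q) =
    q ^ 12 * (q ^ 2 - 1) * (q ^ 6 - 1) * (q ^ 8 + q ^ 4 + 1) := by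
  have h := (datum f hf hK).card_G₁_q (q := q) (by rw [Nat.card_eq_fintype_card, hK]; rfl)
  change Nat.card ↥(twistedD4 K q) = q ^ 12 * Nat.card ↥(chevD4.diagonalSubgroup K ⊓ (tw f).fix) *
    (((List.range 12).map (fun i => Twist.Datum.lenOf (weyl f hf hK) i)).map fun n => q ^ n).sum
    at h
  rw [lens f hf hK, lens_val, card_H f hf hK] at h
  rw [h]
  simp only [List.map_cons, List.map_nil, List.sum_cons, List.sum_nil, pow_zero, pow_one, add_zero]
  obtain ⟨n, rfl⟩ : ∃ n, q = n + 1 := ⟨q - 1, by have := one_lt_q f hf hK; omega⟩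
  have e3 : (n + 1) ^ 3 - 1 = n * (n * n + 3 * n + 3) :=
    Nat.sub_eq_of_eq_add (by ring)
  have e2 : (n + 1) ^ 2 - 1 = n * (n + 2) := Nat.sub_eq_of_eq_add (by ring)
  have e6 : (n + 1) ^ 6 - 1 = n * (n * n + 3 * n + 3) * ((n + 1) ^ 3 + 1) :=
    Nat.sub_eq_of_eq_add (by ring)
  rw [e3, e2, e6, Nat.add_sub_cancel]
  ring

/-! ### Perfectness -/

omit hK hf [Fintype K] in
theorem pair_values : certFullD4.T.commTerms 14 22 = [(23, 1, 1, 1)] ∧
    ((twistD4Reps.get 3).img.length = 4) ∧
    certFullD4.T.invT [0, 2, 3] = 3 ∧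
    ((List.range' 12 12).filter fun r => Nat.blt (certFullD4.T.wlT [0, 2, 3] r) 12) = [12, 13, 18] ∧
    certFullD4.T.wlT (flatW orbitsD4 (twistD4Reps.get 3).word) 23 = 14 := by
  decide +kernel

theorem perfect : commutator ↥(twistedD4 K q) = ⊤ := by
  obtain ⟨⟨r1, r2, r3, r4, -, -, -, r8, r22⟩, he⟩ := graphD4_values
  simp only [List.all_eq_true, beq_iff_eq] at he
  obtain ⟨s0, s1, s2, s3, hrk, hnr, n18, n13, n12, n14⟩ := simple_values
  obtain ⟨hcomm, -, -, hinv, hw⟩ := pair_values
  set Z := datum f hf hK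
  have hJ1 : [1] ∈ Z.W.Jw := by show [1] ∈ orbitsD4; decide
  have hJ3 : [0, 2, 3] ∈ Z.W.Jw := by show [0, 2, 3] ∈ orbitsD4; decide
  -- fixed root elements
  have hfix : ∀ r ∈ [14, 9, 22], ∀ t : K, f t = t → certFullD4.xg r t ∈ (tw f).fix := by
    intro r hr t ht
    simp only [List.mem_cons, List.not_mem_nil, or_false] at hr
    refine (tw f).mem_fix.2 ⟨certFullD4.xg_mem_group (by rw [hnr]; omega) t, ?_⟩
    rcases hr with rfl | rfl | rfl
    · rw [act_x f (by omega) (he 14 (by simp)), r4, ht]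
    · rw [act_x f (by omega) (he 9 (by simp)), r8, ht]
    · rw [act_x f (by omega) (he 22 (by simp)), r22, ht]
  have hlong : ∀ t : K, f t = t → certFullD4.xg 14 t ∈ ⁅Z.G₁, Z.G₁⁆ := by
    intro t ht
    have h := Z.mem_commutator_pair (r := 14) (s := 22) (θ := 23) (by rw [hnr]; omega)
      (by rw [hnr]; omega) (by omega) (by rw [n14]; omega) (Or.inl rfl) hcomm (i := 3)
      (show (3 : ℕ) < 12 by decide) (p := 1) (by rw [hrk]; omega) (by rw [hnr]; omega)
      (by rw [← certFullD4.wlT_eq, s1]; exact hw) (t := t)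
      (fun u ⟨n, hu⟩ => hfix 14 (by simp) u (by rw [hu, map_mul, map_intCast, ht]))
      (hfix 22 (by simp) 1 (map_one f))
    rwa [s1] at h
  obtain ⟨w, hw⟩ : ∃ s : Kˣ, s * s ≠ 1 := by
    by_contra hall
    push Not at hall
    classical
    have hsub : (Finset.univ : Finset Kˣ) ⊆ {1, -1} := fun s _ => by
      have : (s : K) * s = 1 := by rw [← Units.val_mul, hall s, Units.val_one]
      rcases mul_self_eq_one_iff.1 this with e | e
      · simp [Units.ext_iff, e]
      · simp [Units.ext_iff, e]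
    have h := (Finset.card_le_card hsub).trans Finset.card_le_two
    rw [Finset.card_univ, Fintype.card_units, hK] at h
    have h8 : 2 ^ 3 ≤ q ^ 3 := Nat.pow_le_pow_left (one_lt_q f hf hK) 3
    omega
  have hshort : ∀ x ∈ certFullD4.KS K (certFullD4.invSet [0, 2, 3]) certFullD4.T.h ⊓ (tw f).fix,
      x ∈ ⁅Z.G₁, Z.G₁⁆ := by
    intro x hx
    refine Z.mem_commutator_torus (certFullD4.invSet_closed (by simp [hrk]))
      (fun r hr => (tw f).ρ_mem_invSet (by simp [hrk]) ((Z.W.J_spec hJ3).2.2.1) hr)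
      (torus_zOf_fix f hf hK w 1 (by simp)) (fun r hr => ?_) hx
    have hr' : r ∈ ((List.range' 12 12).filter fun r =>
        Nat.blt (certFullD4.T.wlT [0, 2, 3] r) 12) := by
      rw [List.mem_filter, List.mem_range'_1, Nat.blt_eq, certFullD4.wlT_eq]
      refine ⟨⟨hr.1.1, hr.1.2⟩, ?_⟩
      by_contra h'
      exact hr.2 ⟨by show 12 ≤ _; omega, certFullD4.wl_lt (by simp [hrk]) hr.1.2⟩
    rw [hinv] at hr'
    simp only [List.mem_cons, List.not_mem_nil, or_false] at hr'
    obtain ⟨t1, -, t3, t4⟩ := tchar_simple (zOf f w 1)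
    have hinj : Function.Injective (Units.map (f : K →* K)) := fun a b e =>
      Units.ext (f.injective (congrArg Units.val e))
    rcases hr' with rfl | rfl | rfl
    · rw [t4]
      simp only [zOf, ↓reduceIte, show ¬ (3 : ℕ) = 0 by omega, show ¬ (3 : ℕ) = 1 by omega,
        show ¬ (3 : ℕ) = 2 by omega, show ¬ (1 : ℕ) = 0 by omega, inv_one, mul_one, ← map_mul]
      exact fun e => hw (hinj (hinj (by rw [e, map_one, map_one])))
    · rw [t3]
      simp only [zOf, ↓reduceIte, show ¬ (2 : ℕ) = 0 by omega, show ¬ (2 : ℕ) = 1 by omega,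
        show ¬ (1 : ℕ) = 0 by omega, inv_one, mul_one, ← map_mul]
      exact fun e => hw (hinj (by rw [e, map_one]))
    · rw [t1]
      simpa [zOf] using hw
  have hmemS : ∀ {r : ℕ}, r ∈ [18, 13, 12] → r ∈ certFullD4.invSet [0, 2, 3] := by
    intro r hr
    have hr2 : r ∈ ((List.range' 12 12).filter fun r =>
        Nat.blt (certFullD4.T.wlT [0, 2, 3] r) 12) := by
      rw [hinv]
      simp only [List.mem_cons, List.not_mem_nil, or_false] at hr ⊢
      omega
    rw [List.mem_filter, List.mem_range'_1, Nat.blt_eq, certFullD4.wlT_eq] at hr2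
    exact ⟨⟨hr2.1.1, hr2.1.2⟩, fun h => absurd h.1 (by show ¬ 12 ≤ _; omega)⟩
  refine Z.perfect_of_gens rfl ?_
  rintro g ⟨w', hw', hg⟩
  obtain rfl := eq_wordProd certFullD4 hg
  have hfixg := le_fix f hf hK (wordProd_mem certFullD4 hw')
  rcases hw' with ⟨t, ht, r, hr, rfl⟩ | ⟨t, rs, hrs, rfl⟩
  · have hft : f t = t := by rw [hf, ht]
    simp only [d4p2, d4m2, List.mem_cons, List.not_mem_nil, or_false] at hr
    simp only [List.map_cons, List.map_nil, List.prod_cons, List.prod_nil, mul_one]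
    rcases hr with rfl | rfl
    · exact hlong t hft
    · refine Z.mem_commutator_of_neg hJ1 ?_
      rw [show certFullD4.nw K [1] = certFullD4.np K 1 by simp, ← n14, ← s1,
        Twist.Datum.np_conj_xg_neg (show (1 : ℕ) < chevD4.rank by rw [hrk]; omega), s1]
      exact hlong _ (by rw [map_mul, map_intCast, hft])
  · simp only [d4p1, d4p3, d4p4, d4m1, d4m3, d4m4, List.mem_cons, List.not_mem_nil, or_false] at hrs
    simp only [List.map_cons, List.map_nil, List.prod_cons, List.prod_nil, mul_one] at hfixg ⊢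
    rcases hrs with rfl | rfl
    · refine hshort _ (Subgroup.mem_inf.2 ⟨?_, hfixg⟩)
      refine mul_mem (certFullD4.xg_mem_KS (hmemS (by simp)) (by show 12 ≤ 18; omega) _)
        (mul_mem (certFullD4.xg_mem_KS (hmemS (by simp)) (by show 12 ≤ 13; omega) _)
          (certFullD4.xg_mem_KS (hmemS (by simp)) (by show 12 ≤ 12; omega) _))
    · refine Z.mem_commutator_of_neg hJ3 (hshort _ ?_)
      refine Subgroup.mem_inf.2 (And.intro ?_ ?_)
      swap
      · exact (tw f).fix.mul_mem ((tw f).fix.mul_mem (Z.nw_J_fix hJ3) hfixg)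
          ((tw f).fix.inv_mem (Z.nw_J_fix hJ3))
      have hneg : ∀ r ∈ [18, 13, 12], ∀ u : K,
          certFullD4.nw K [0, 2, 3] * certFullD4.xg (chevD4.neg r) u *
            (certFullD4.nw K [0, 2, 3])⁻¹ ∈
            certFullD4.KS K (certFullD4.invSet [0, 2, 3]) certFullD4.T.h := by
        intro r hr u
        obtain ⟨hlt, -, -, hJneg, hinvol, -⟩ := (Z.W.J_spec hJ3).2
        have hrS := hmemS hr
        have hn := certFullD4.neg_lt hrS.1.2
        rw [certFullD4.nw_mul_xg hlt hn, mul_inv_cancel_right]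
        have hx := certFullD4.wl_lt hlt hrS.1.2
        have hpos : certFullD4.Pos (certFullD4.wl [0, 2, 3] (chevD4.neg r)) := by
          rw [certFullD4.wl_neg hlt hrS.1.2]
          exact (certFullD4.not_pos_iff hx).1 hrS.2
        have hmem : certFullD4.wl [0, 2, 3] (chevD4.neg r) ∈ certFullD4.invSet [0, 2, 3] :=
          ⟨hpos, by
            rw [hinvol _ hn]
            exact fun h => (certFullD4.not_pos_iff hrS.1.2).2 h hrS.1⟩
        exact certFullD4.xg_mem_KS hmem hpos.1 _
      show certFullD4.nw K [0, 2, 3] * (certFullD4.xg 5 t * (certFullD4.xg 10 (t ^ q) *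
        certFullD4.xg 11 (t ^ q ^ 2))) * (certFullD4.nw K [0, 2, 3])⁻¹ ∈ _
      rw [← n18, ← n13, ← n12]
      set n := certFullD4.nw K [0, 2, 3]
      rw [show ∀ a b d : GL chevD4.Idx K, n * (a * (b * d)) * n⁻¹ =
        (n * a * n⁻¹) * ((n * b * n⁻¹) * (n * d * n⁻¹)) from fun a b d => by group]
      exact mul_mem (hneg 18 (by simp) _) (mul_mem (hneg 13 (by simp) _) (hneg 12 (by simp) _))

theorem chain : (datum f hf hK).Chain := by
  intro a ha
  change a + 1 < 2 at ha
  obtain rfl : a = 0 := by omega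
  refine ⟨0, by decide, ?_⟩
  show certFullD4.wl ([1] ++ [0, 2, 3]) (chevD4.simple 0) ≠
    certFullD4.wl ([0, 2, 3] ++ [1]) (chevD4.simple 0)
  rw [← certFullD4.wlT_eq, ← certFullD4.wlT_eq]
  decide +kernel

theorem simple :
    IsSimpleGroup ↥(twistedD4 K q) ∧ ¬ IsMulCommutative ↥(twistedD4 K q) :=
  (datum f hf hK).simple (by show orbitsD4 ≠ []; decide) (chain f hf hK) (perfect f hf hK)

end Cfsg.Agent.Lie.Chev.D4
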