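import Cfsg.Agent.Lib.Lie.Chev.G2Singer
import Cfsg.Agent.Lib.Lie.Chev.SLTwo
import Cfsg.Agent.Lib.Lie.Chev.TwistD4

/-! A cyclic self-centralising torus of order `(q³ - 1)(q + 1)` in ³D₄(q). -/

set_option autoImplicit false
set_option maxRecDepth 4000

namespace Cfsg.Agent.Lie.Chev

open Cfsg.Lie
open scoped MatrixGroups

namespace CertFull

variable {D : ChevalleyDatum} (c : CertFull D) {F : Type*} [Field F]

include c

/-- The centraliser of a torus element whose stabiliser in the Weyl group is trivial. -/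
theorem mem_H_of_commute_of_pos {z : ℕ → Fˣ} (hne : ∀ s < D.nroots, c.tchar z s ≠ 1)
    (hpos : ∀ L : List ℕ, (∀ p ∈ L, p < D.rank) →
      (∀ s < D.nroots, c.tchar z (c.wl L s) = c.tchar z s) →
      ∀ q < D.rank, c.Pos (c.wl L (D.simple q)))
    {g : GL D.Idx F} (hg : g ∈ D.group F) (hcomm : Commute g (c.torus z)) :
    g ∈ D.diagonalSubgroup F := by
  set h := c.torus z with hdef
  have h1 : h ∈ D.diagonalSubgroup F := c.torus_mem z
  have hU : ∀ u ∈ D.posUnipotent F, h * u * h⁻¹ = u → u = 1 := by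
    intro u hu hfix
    rw [c.posUnipotent_eq] at hu
    obtain ⟨t, rfl⟩ := c.exists_oprod _ c.T.h rfl le_rfl u hu
    rw [hdef, c.torus_conj_oprod] at hfix
    refine List.prod_eq_one fun x hx => ?_
    obtain ⟨r, hr, rfl⟩ := List.mem_map.1 hx
    rw [List.mem_range'_1] at hr
    have e := c.oprod_inj _ c.T.h rfl le_rfl _ _ hfix r hr.1 (by omega)
    have ht : t r = 0 := by
      by_contra ht
      exact hne r (by omega) (Units.ext (mul_eq_right₀ ht |>.1 e))
    rw [ht, c.xg_zero]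
  obtain ⟨b, hb, a, ha, L, hL, u, hu, rfl⟩ := c.bruhat_exists hg
  set n := a * c.nw F L with hndef
  have hn : n ∈ D.monomialSubgroup F := mul_mem (Subgroup.mem_sup_left ha) (c.nw_mem_N hL)
  obtain ⟨v, hv, d, hd, rfl⟩ := c.mem_borel_iff.1 hb
  set m := d * n * h * n⁻¹ * d⁻¹ with hmdef
  have hm : m ∈ D.diagonalSubgroup F := by
    have := c.N_conj_H (mul_mem (Subgroup.mem_sup_left hd) hn) h1
    simpa [m, mul_assoc] using this
  have hv' : h * v * h⁻¹ ∈ D.posUnipotent F :=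
    (Subgroup.mem_normalizer_iff.1 (c.H_le_normalizer_U h1) v).1 hv
  have hu' : h⁻¹ * u * h ∈ c.KS F (c.invSet L) c.T.h := by
    have h' := c.torus_le_normalizer (S := {g | ∃ r t, r ∈ c.invSet L ∧ c.T.h ≤ r ∧
      g = c.xg r (t : F)}) (fun g ⟨r, t, hr, hle, e⟩ =>
        ⟨r, hr.1.2, t, e, fun s => c.xg_mem_KS hr hle s⟩) (inv_mem h1)
    have := (Subgroup.mem_normalizer_iff.1 h' u).1 hu
    rwa [inv_inv] at this
  have e' : (h * v * h⁻¹ * (h * d)) * n * u = (v * (m * d)) * n * (h⁻¹ * u * h) :=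
    calc (h * v * h⁻¹ * (h * d)) * n * u = h * (v * d * n * u) := by group
      _ = v * d * n * u * h := hcomm.eq.symm
      _ = _ := by rw [hmdef]; group
  obtain ⟨h3, h6⟩ := c.bruhat_unique_factors ha hL
    (mul_mem (Subgroup.mem_sup_left hv') (c.H_le_B (mul_mem h1 hd)))
    (mul_mem (Subgroup.mem_sup_left hv) (c.H_le_B (mul_mem hm hd))) hu hu' e'
  have hu1 : u = 1 := hU u (c.KS_invSet_le_U hL hu) (by
    conv_lhs => rw [h6]
    group)
  have h4 : v⁻¹ * (h * v * h⁻¹) = (m * d) * (h * d)⁻¹ :=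
    calc v⁻¹ * (h * v * h⁻¹) = v⁻¹ * (h * v * h⁻¹ * (h * d)) * (h * d)⁻¹ := by group
      _ = _ := by rw [h3]; group
  have h5 := c.U_inf_H.le (Subgroup.mem_inf.2 ⟨mul_mem (inv_mem hv) hv',
    (h4 ▸ mul_mem (mul_mem hm hd) (inv_mem (mul_mem h1 hd)))⟩)
  rw [Subgroup.mem_bot] at h5
  have hv1 : v = 1 := hU v hv (inv_mul_eq_one.1 h5).symm
  rw [h4, mul_inv_eq_one, mul_left_inj] at h5
  have hnh : n * h = h * n :=
    calc n * h = d⁻¹ * m * d * n := by rw [hmdef]; group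
      _ = d⁻¹ * (h * d) * n := by rw [h5]; group
      _ = _ := by rw [c.H_commutative h1 hd]; group
  have hfix : ∀ s < D.nroots, c.tchar z (c.wl L s) = c.tchar z s := fun s hs => by
    obtain ⟨k, hk, hk'⟩ := c.mono_mul_xg ha hL hs
    refine Units.ext (mul_right_cancel₀ hk ?_)
    refine c.xg_inj (c.wl_lt hL hs) ?_
    have e : ∀ t : F, c.xg (c.wl L s) (k * t) = n * c.xg s t * n⁻¹ := fun t => by
      rw [hndef, hk', mul_inv_cancel_right]
    rw [← c.torus_conj_xg z (c.wl_lt hL hs), ← mul_one k, e, mul_one, mul_comm _ k, e,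
      ← mul_one ((c.tchar z s : Fˣ) : F), ← c.torus_conj_xg z hs]
    calc h * (n * c.xg s 1 * n⁻¹) * h⁻¹ = (h * n) * c.xg s 1 * (h * n)⁻¹ := by group
      _ = _ := by rw [← hnh, hdef]; group
  rw [hv1, hu1, one_mul, mul_one]
  exact mul_mem hd (c.mem_H_of_wl ha hL (hpos L hL hfix))

theorem torus_mapHom {K : Type*} [Field K] (ι : K →+* F) (z : ℕ → Kˣ) :
    Matrix.GeneralLinearGroup.map ι (c.torus z) =
      c.torus (fun i => Units.map (ι : K →* F) (z i)) := by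
  rw [c.torus_eq_prod, c.torus_eq_prod, map_list_prod, List.map_map]
  congr 1
  exact List.map_congr_left fun i _ => by
    simp only [Function.comp_apply, Cert.hg, Cert.ng, map_mul, c.xg_mapHom, map_neg, map_inv₀,
      map_one, Units.coe_map, MonoidHom.coe_coe]

theorem mapHom_mem_group {K : Type*} [Field K] (ι : K →+* F) {g : GL D.Idx K}
    (hg : g ∈ D.group K) : Matrix.GeneralLinearGroup.map ι g ∈ D.group F := by
  rw [c.group_eq] at hg
  induction hg using Subgroup.closure_induction with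
  | mem g hg =>
    obtain ⟨r, hr, t, rfl⟩ := hg
    rw [c.xg_mapHom]
    exact c.xg_mem_group hr _
  | one => simp [one_mem]
  | mul a b _ _ ha hb => rw [map_mul]; exact mul_mem ha hb
  | inv a _ ha => rw [map_inv]; exact inv_mem ha

end CertFull

namespace D4Torus

open D4

/-- The coefficient vector of a root on the simple roots. -/
def vc (r j : ℕ) : ℤ := certFullD4.T.vec r j

/-- The coefficients in `q` of the exponent of a root. -/
def co (r : ℕ) : ℤ × ℤ × ℤ × ℤ :=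
  (vc r 0 - vc r 1 + vc r 2, vc r 2, vc r 3, vc r 1 - vc r 2)

/-- The exponent of the torus at a root. -/
def ex (q : ℤ) (r : ℕ) : ℤ :=
  (co r).1 + (co r).2.1 * q + (co r).2.2.1 * q ^ 2 + (co r).2.2.2 * q ^ 3

theorem co_bound : ∀ r < 24, co r ≠ 0 ∧ |(co r).1| ≤ 1 ∧ |(co r).2.1| ≤ 1 ∧ |(co r).2.2.1| ≤ 1 ∧
    |(co r).2.2.2| ≤ 1 := by decide +kernel

theorem co_inj : ∀ r < 24, ∀ s < 24, co r = co s → r = s := by decide +kernel

theorem two_ne : ∀ s < 24, ¬ (21 : ℤ) ∣ ex 2 s := by decide +kernel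

theorem two_unique : ∀ u ∈ [18, 13, 12, 19], ∀ r < 24, (21 : ℤ) ∣ ex 2 r - ex 2 u → r = u := by
  decide +kernel

theorem two_rest : (∀ r < 24, vc r 0 = 0 → vc r 1 = 1 → vc r 2 = 0 → vc r 3 = 0 → r = 14) ∧
    vc 19 0 = 1 ∧ vc 19 1 = 1 ∧ vc 19 2 = 0 ∧ vc 19 3 = 0 ∧
    vc 18 0 = 1 ∧ vc 18 1 = 0 ∧ vc 18 2 = 0 ∧ vc 18 3 = 0 := by
  decide +kernel

theorem weyl_values : certFullD4.T.wlT [1] 18 = 19 ∧ certFullD4.T.wlT [1] 14 = 9 ∧
    certFullD4.T.wlT [1] 13 = 16 ∧ certFullD4.T.wlT [1] 12 = 15 := by decide +kernel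

theorem vc_values :
    (vc 19 0 = 1 ∧ vc 19 1 = 1 ∧ vc 19 2 = 0 ∧ vc 19 3 = 0) ∧
    (vc 16 0 = 0 ∧ vc 16 1 = 1 ∧ vc 16 2 = 1 ∧ vc 16 3 = 0) ∧
    (vc 15 0 = 0 ∧ vc 15 1 = 1 ∧ vc 15 2 = 0 ∧ vc 15 3 = 1) ∧
    (vc 9 0 = 0 ∧ vc 9 1 = -1 ∧ vc 9 2 = 0 ∧ vc 9 3 = 0) := by decide +kernel

theorem coroot14 : certFullD4.T.coroot 14 0 = 0 ∧ certFullD4.T.coroot 14 1 = 1 ∧
    certFullD4.T.coroot 14 2 = 0 ∧ certFullD4.T.coroot 14 3 = 0 := by decide +kernel

theorem eq_zero_of_dvd {q : ℤ} (hq : 3 ≤ q) {d0 d1 d2 d3 : ℤ} (h0 : |d0| ≤ 2) (h1 : |d1| ≤ 2)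
    (h2 : |d2| ≤ 2) (h3 : |d3| ≤ 2)
    (h : q ^ 4 + q ^ 3 - q - 1 ∣ d0 + d1 * q + d2 * q ^ 2 + d3 * q ^ 3) :
    d0 = 0 ∧ d1 = 0 ∧ d2 = 0 ∧ d3 = 0 := by
  rw [abs_le] at h0 h1 h2 h3
  have e2 : 3 * q ≤ q ^ 2 := by rw [sq]; exact mul_le_mul_of_nonneg_right hq (by omega)
  have e3 : 3 * q ^ 2 ≤ q ^ 3 := by
    rw [pow_succ q 2, mul_comm _ q]; exact mul_le_mul_of_nonneg_right hq (by positivity)
  have e4 : 3 * q ^ 3 ≤ q ^ 4 := by
    rw [pow_succ q 3, mul_comm _ q]; exact mul_le_mul_of_nonneg_right hq (by positivity)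
  have a1 : -(2 * q) ≤ d1 * q ∧ d1 * q ≤ 2 * q := ⟨by nlinarith, by nlinarith⟩
  have a2 : -(2 * q ^ 2) ≤ d2 * q ^ 2 ∧ d2 * q ^ 2 ≤ 2 * q ^ 2 :=
    ⟨by nlinarith [sq_nonneg q], by nlinarith [sq_nonneg q]⟩
  have hq3 : (0 : ℤ) ≤ q ^ 3 := by positivity
  have a3 : -(2 * q ^ 3) ≤ d3 * q ^ 3 ∧ d3 * q ^ 3 ≤ 2 * q ^ 3 :=
    ⟨by nlinarith, by nlinarith⟩
  have hz := Int.eq_zero_of_abs_lt_dvd h (by
    rw [abs_lt]; constructor <;> linarith)
  have key : ∀ {d r : ℤ}, -2 ≤ d → d ≤ 2 → d + r * q = 0 → d = 0 ∧ r = 0 := by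
    intro d r hd hd' e
    have : d = 0 := Int.eq_zero_of_abs_lt_dvd (m := q) ⟨-r, by linarith⟩ (by
      rw [abs_lt]; constructor <;> linarith)
    refine ⟨this, ?_⟩
    rw [this, zero_add] at e
    exact (mul_eq_zero.1 e).resolve_right (by omega)
  obtain ⟨r0, s0⟩ := key (r := d1 + d2 * q + d3 * q ^ 2) h0.1 h0.2 (by linear_combination hz)
  obtain ⟨r1, s1⟩ := key (r := d2 + d3 * q) h1.1 h1.2 (by linear_combination s0)
  obtain ⟨r2, s2⟩ := key (r := d3) h2.1 h2.2 (by linear_combination s1)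
  exact ⟨r0, r1, r2, s2⟩

theorem dvd_ex {q : ℤ} (hq : 3 ≤ q) {r : ℕ} (hr : r < 24) :
    ¬ q ^ 4 + q ^ 3 - q - 1 ∣ ex q r := by
  intro h
  obtain ⟨hne, b0, b1, b2, b3⟩ := co_bound r hr
  obtain ⟨e0, e1, e2, e3⟩ := eq_zero_of_dvd hq (b0.trans (by norm_num)) (b1.trans (by norm_num))
    (b2.trans (by norm_num)) (b3.trans (by norm_num)) h
  exact hne (Prod.ext e0 (Prod.ext e1 (Prod.ext e2 e3)))

theorem dvd_ex_sub {q : ℤ} (hq : 3 ≤ q) {r s : ℕ} (hr : r < 24) (hs : s < 24)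
    (h : q ^ 4 + q ^ 3 - q - 1 ∣ ex q r - ex q s) : r = s := by
  obtain ⟨-, a0, a1, a2, a3⟩ := co_bound r hr
  obtain ⟨-, b0, b1, b2, b3⟩ := co_bound s hs
  obtain ⟨e0, e1, e2, e3⟩ := eq_zero_of_dvd hq
    (d0 := (co r).1 - (co s).1) (d1 := (co r).2.1 - (co s).2.1)
    (d2 := (co r).2.2.1 - (co s).2.2.1) (d3 := (co r).2.2.2 - (co s).2.2.2)
    ((abs_sub _ _).trans (by linarith)) ((abs_sub _ _).trans (by linarith))
    ((abs_sub _ _).trans (by linarith)) ((abs_sub _ _).trans (by linarith))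
    (by
      convert h using 1
      simp only [ex]
      ring)
  exact co_inj r hr s hs (Prod.ext (sub_eq_zero.1 e0)
    (Prod.ext (sub_eq_zero.1 e1) (Prod.ext (sub_eq_zero.1 e2) (sub_eq_zero.1 e3))))

/-! ### Two by two matrices -/

section SL

variable {E : Type*} [Field E]

theorem sl_frob (μ ν ε : E) (hε : ε * (μ - ν) = 1) (h0 : ε ≠ 0) :
    (loSL ν * upSL ε : SL(2, E)) = loSL μ * upSL (-ε) * dSL ε h0 * wSL := by
  refine ext_two ?_ ?_ ?_ ?_ <;>
    simp only [mul_val, upSL_val, loSL_val, dSL_val, wSL_val] <;>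
    simp [Matrix.mul_apply, Fin.sum_univ_two]
  all_goals field_simp
  all_goals first | ring1 | linear_combination hε | linear_combination (-1 : E) * hε

theorem sl_conj (μ ν ε : E) (hμ : μ ≠ 0) (hν : ν ≠ 0) (hε : ε * (μ - ν) = 1)
    (ht : μ / (μ * ν) ≠ 0) :
    (upSL (μ * ν)⁻¹ * loSL (-(μ * ν)) * upSL ((1 - (μ + ν)) / (μ * ν)) *
        (loSL μ * upSL (-ε)) : SL(2, E)) =
      loSL (μ * ν * μ) * upSL (-ε / (μ * ν)) * dSL (μ / (μ * ν)) ht := by
  have hs : μ * ν ≠ 0 := mul_ne_zero hμ hν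
  refine ext_two ?_ ?_ ?_ ?_ <;>
    simp only [mul_val, upSL_val, loSL_val, dSL_val] <;>
    simp [Matrix.mul_apply, Fin.sum_univ_two]
  all_goals field_simp
  all_goals first
    | ring1
    | linear_combination hε
    | linear_combination (-1 : E) * hε
    | linear_combination μ * hε
    | linear_combination (-μ) * hε
    | linear_combination ν * hε
    | linear_combination (-ν) * hε

/-- The homomorphism onto the root subgroups of the fixed simple root. -/
theorem exists_sl14 (E : Type*) [Field E] : ∃ ψ : SL(2, E) →* GL chevD4.Idx E,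
    (∀ t, ψ (upSL t) = certFullD4.xg 14 t) ∧ (∀ t, ψ (loSL t) = certFullD4.xg 9 t) ∧
    ψ wSL = certFullD4.np E 1 ∧
    ∀ (t : E) (ht : t ≠ 0), ψ (dSL t ht) = certFullD4.hg 14 t := by
  obtain ⟨s0, s1, s2, s3, hrk, hnr, -, -, -, n14⟩ := simple_values
  have h1 : 1 < chevD4.rank := by rw [hrk]; omega
  obtain ⟨ψ, hu, hw⟩ := certFullD4.exists_sl_simple (F := E) h1
  rw [s1] at hu
  have hlo : ∀ t, ψ (loSL t) = certFullD4.xg 9 t := by
    intro t
    have e : (loSL t : SL(2, E)) * wSL = wSL * upSL (-t) := by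
      refine ext_two ?_ ?_ ?_ ?_ <;> simp [mul_val, loSL_val, upSL_val, wSL_val]
    have h := congrArg ψ e
    rw [map_mul, map_mul, hw, hu, Cert.np] at h
    have hα := certFullD4.simple_lt h1
    have h' := certFullD4.ng_conj h1 hα (-t)
    rw [certFullD4.w_simple h1, (certFullD4.refl_root h1 hα).2.2.2.2.2.2.2 rfl, s1, n14] at h'
    rw [s1] at h
    rw [h'] at h
    rw [mul_right_cancel h]
    norm_num
  refine ⟨ψ, hu, hlo, hw, fun t ht => ?_⟩
  have e : (dSL t ht : SL(2, E)) = upSL t * loSL (-t⁻¹) * upSL t *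
      (upSL (-1) * loSL (-(-1 : E)⁻¹) * upSL (-1)) := by
    refine ext_two ?_ ?_ ?_ ?_ <;>
      simp only [mul_val, upSL_val, loSL_val, dSL_val] <;>
      simp [Matrix.mul_apply, Fin.sum_univ_two, ht]
  rw [e]
  simp only [map_mul, hu, hlo, Cert.hg, Cert.ng, n14]

end SL

/-! ### The twisted action -/

theorem act_mapHom {K L : Type*} [Field K] [Field L] {f : K →+* K} {φ : L →+* L} (ι : K →+* L)
    (hι : ∀ t, φ (ι t) = ι (f t)) {g : GL chevD4.Idx K} (hg : g ∈ chevD4.group K) :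
    (tw φ).act (Matrix.GeneralLinearGroup.map ι g) =
      Matrix.GeneralLinearGroup.map ι ((tw f).act g) := by
  rw [certFullD4.group_eq] at hg
  induction hg using Subgroup.closure_induction with
  | mem g hg =>
    obtain ⟨r, hr, t, rfl⟩ := hg
    rw [certFullD4.xg_mapHom, (tw φ).act_xg hr, (tw f).act_xg hr, certFullD4.xg_mapHom, map_mul,
      map_intCast]
    show certFullD4.xg (graphD4.ρ r) ((graphD4.ε r : L) * φ (ι t)) = _
    rw [hι]
    rfl
  | one => rw [map_one, (tw φ).act_one, (tw f).act_one, map_one]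
  | mul a b ha hb iha ihb =>
    rw [← certFullD4.group_eq] at ha hb
    rw [map_mul, (tw φ).act_mul (certFullD4.mapHom_mem_group ι ha)
      (certFullD4.mapHom_mem_group ι hb), (tw f).act_mul ha hb, map_mul, iha, ihb]
  | inv a ha iha =>
    rw [← certFullD4.group_eq] at ha
    rw [map_inv, (tw φ).act_inv (certFullD4.mapHom_mem_group ι ha), (tw f).act_inv ha, map_inv,
      iha]

theorem act_simple {L : Type*} [Field L] {φ : L →+* L} {q : ℕ} (hφ : ∀ t, φ t = t ^ q)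
    (z : ℕ → Lˣ) :
    certFullD4.tchar ((tw φ).zAct z) 18 = certFullD4.tchar z 12 ^ q ∧
    certFullD4.tchar ((tw φ).zAct z) 14 = certFullD4.tchar z 14 ^ q ∧
    certFullD4.tchar ((tw φ).zAct z) 13 = certFullD4.tchar z 18 ^ q ∧
    certFullD4.tchar ((tw φ).zAct z) 12 = certFullD4.tchar z 13 ^ q := by
  have hτ : graphD4.τ' 0 = 3 ∧ graphD4.τ' 1 = 1 ∧ graphD4.τ' 2 = 0 ∧ graphD4.τ' 3 = 2 := by decide
  have hz : ∀ j < 4, (tw φ).zAct z j = z (graphD4.τ' j) ^ q := fun j hj => Units.ext (by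
    rw [(tw φ).zAct_apply z (show j < chevD4.rank from hj), Units.val_pow_eq_pow_val]
    exact hφ _)
  obtain ⟨a, b, c, d⟩ := tchar_simple ((tw φ).zAct z)
  obtain ⟨a', b', c', d'⟩ := tchar_simple z
  rw [a, b, c, d, a', b', c', d', hz 0 (by omega), hz 1 (by omega), hz 2 (by omega),
    hz 3 (by omega), hτ.1, hτ.2.1, hτ.2.2.1, hτ.2.2.2]
  simp only [← mul_pow, ← inv_pow]
  refine ⟨trivial, ?_, trivial, trivial⟩
  congr 1
  simp only [mul_inv_rev, mul_comm, mul_assoc, mul_left_comm]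

theorem tchar_four {L : Type*} [Field L] (z : ℕ → Lˣ) {s : ℕ} (hs : s < 24) :
    certFullD4.tchar z s = certFullD4.tchar z 18 ^ vc s 0 * certFullD4.tchar z 14 ^ vc s 1 *
      certFullD4.tchar z 13 ^ vc s 2 * certFullD4.tchar z 12 ^ vc s 3 := by
  obtain ⟨s0, s1, s2, s3, hrk, -⟩ := simple_values
  rw [certFullD4.tchar_eq_prod z (show s < chevD4.nroots from hs), hrk]
  simp only [Finset.prod_range_succ, Finset.prod_range_zero, one_mul, s0, s1, s2, s3]
  rfl

/-- A torus element `T` with `T^σ = n⁻¹ T n`, for the fundamental reflection `n` of the node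
fixed by the triality, is determined by one root value. -/
theorem rel {L : Type*} [Field L] {φ : L →+* L} {q : ℕ} (hφ : ∀ t, φ t = t ^ q) {z : ℕ → Lˣ}
    (hz : (tw φ).act (certFullD4.torus z) =
      (certFullD4.np L 1)⁻¹ * certFullD4.torus z * certFullD4.np L 1) :
    certFullD4.tchar z 18 ^ (((q : ℤ) ^ 4 + q ^ 3 - q - 1)) = 1 ∧
    ∀ s < 24, certFullD4.tchar z s = certFullD4.tchar z 18 ^ ex q s := by
  obtain ⟨s0, s1, s2, s3, hrk, hnr, -, -, -, n14⟩ := simple_values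
  have h1 : 1 < chevD4.rank := by rw [hrk]; omega
  have hdg : (certFullD4.np L 1)⁻¹ * certFullD4.torus z * certFullD4.np L 1 =
      dg chevD4 L (fun u => certFullD4.tchar z (certFullD4.w 1 u)) := by
    rw [mul_assoc, inv_mul_eq_iff_eq_mul, Cert.np, certFullD4.ng_dg h1, Cert.torus_apply]
    congr 1
    exact dg_ext chevD4 L fun u hu => by rw [certFullD4.w_w h1 hu]
  rw [(tw φ).act_torus, hdg, Cert.torus_apply, dg_eq_iff] at hz
  obtain ⟨w18, w14, w13, w12⟩ := weyl_values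
  rw [certFullD4.wlT_eq, Cert.wl_cons, Cert.wl_nil] at w18 w14 w13 w12
  obtain ⟨a18, a14, a13, a12⟩ := act_simple hφ z
  obtain ⟨⟨v0, v1, v2, v3⟩, ⟨x0, x1, x2, x3⟩, ⟨y0, y1, y2, y3⟩, ⟨u0, u1, u2, u3⟩⟩ := vc_values
  have e18 := hz 18 (by rw [hnr]; omega)
  have e14 := hz 14 (by rw [hnr]; omega)
  have e13 := hz 13 (by rw [hnr]; omega)
  have e12 := hz 12 (by rw [hnr]; omega)
  rw [a18, w18, tchar_four z (show 19 < 24 by omega), v0, v1, v2, v3] at e18
  rw [a14, w14, tchar_four z (show 9 < 24 by omega), u0, u1, u2, u3] at e14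
  rw [a13, w13, tchar_four z (show 16 < 24 by omega), x0, x1, x2, x3] at e13
  rw [a12, w12, tchar_four z (show 15 < 24 by omega), y0, y1, y2, y3] at e12
  simp only [zpow_zero, zpow_one, zpow_neg, one_mul, mul_one] at e18 e14 e13 e12
  have hs := fun s hs => tchar_four z (s := s) hs
  obtain ⟨a, ha⟩ : ∃ a, a = certFullD4.tchar z 18 := ⟨_, rfl⟩
  obtain ⟨c, hc⟩ : ∃ c, c = certFullD4.tchar z 14 := ⟨_, rfl⟩
  obtain ⟨b, hb⟩ : ∃ b, b = certFullD4.tchar z 13 := ⟨_, rfl⟩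
  obtain ⟨d, hd⟩ : ∃ d, d = certFullD4.tchar z 12 := ⟨_, rfl⟩
  simp only [← ha, ← hc, ← hb, ← hd] at e18 e14 e13 e12 hs ⊢
  have hcc : c ^ q * c = 1 := by rw [e14, inv_mul_cancel]
  have hb' : b = a ^ q * c⁻¹ := by rw [e13, mul_comm c, mul_inv_cancel_right]
  have hd' : d = a ^ (q ^ 2) := by
    have h : b ^ q = c * d := e12
    rw [hb', mul_pow, ← pow_mul, ← sq, inv_pow, eq_inv_of_mul_eq_one_left hcc, inv_inv,
      mul_comm] at h
    exact (mul_left_cancel h).symm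
  have hc' : c = a ^ ((q : ℤ) ^ 3 - 1) := by
    rw [hd', ← pow_mul, ← pow_succ] at e18
    rw [zpow_sub, zpow_one, ← Nat.cast_pow, zpow_natCast, show q ^ 3 = q ^ (2 + 1) from rfl, e18,
      mul_comm a, mul_inv_cancel_right]
  have hbz : b = a ^ (1 + (q : ℤ) - q ^ 3) := by
    rw [hb', hc', ← zpow_natCast, ← zpow_neg, ← zpow_add]
    congr 1
    ring
  refine ⟨?_, fun s hs' => ?_⟩
  · rw [hc', ← zpow_natCast (a ^ _), ← zpow_mul, ← zpow_add] at hcc
    rw [← hcc]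
    congr 1
    ring
  · rw [hs s hs', hc', hbz, hd', ← zpow_natCast a, ← zpow_mul, ← zpow_mul, ← zpow_mul,
      ← zpow_add, ← zpow_add, ← zpow_add]
    congr 1
    simp only [ex, co]
    push_cast
    ring

/-- The exponents that give a torus element of order `(q³ - 1)(q + 1)`. -/
theorem exists_u (q : ℕ) :
    ∃ u : ℤ, ((q : ℤ) ^ 3 - 1) ∣ 2 * u - ((q : ℤ) ^ 2 + 1) ∧ ((q : ℤ) - 1) ∣ u - 1 := by
  rcases Nat.even_or_odd q with ⟨t, rfl⟩ | ⟨t, rfl⟩
  · refine ⟨(4 * (t : ℤ) ^ 2 + 1) * (4 * t ^ 3), ⟨4 * (t : ℤ) ^ 2 + 1, by push_cast; ring⟩,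
      ⟨8 * (t : ℤ) ^ 4 + 4 * t ^ 3 + 4 * t ^ 2 + 2 * t + 1, by push_cast; ring⟩⟩
  · exact ⟨2 * (t : ℤ) ^ 2 + 2 * t + 1, ⟨0, by push_cast; ring⟩, ⟨(t : ℤ) + 1, by push_cast; ring⟩⟩

set_option maxHeartbeats 1000000 in
/-- The torus, from a quadratic extension. -/
theorem exists_torus_of_ext {K L : Type*} [Field K] [Fintype K] [Field L] [Fintype L]
    (ι : K →+* L) {q : ℕ} (f : K →+* K) (hf : ∀ t, f t = t ^ q)
    (hK : Fintype.card K = q ^ 3) (φ : L →+* L) (hφ : ∀ t, φ t = t ^ q)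
    (hL : Fintype.card L = q ^ 6) :
    ∃ H : Subgroup ↥(twistedD4 K q), IsCyclic ↥H ∧ Nat.card ↥H = (q ^ 3 - 1) * (q + 1) ∧
      Subgroup.centralizer (H : Set ↥(twistedD4 K q)) = H := by
  classical
  have hq := one_lt_q f hf hK
  have hι : ∀ t, φ (ι t) = ι (f t) := fun t => by rw [hφ, hf, map_pow]
  have hq3 : 1 < q ^ 3 := Nat.one_lt_pow (by omega) hq
  have hrange : ∀ t : L, t ^ q ^ 3 = t → ∃ x, ι x = t := by
    intro t ht
    by_contra hno
    push Not at hno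
    set P : Polynomial L := Polynomial.X ^ q ^ 3 - Polynomial.X
    have hdeg : P.natDegree = q ^ 3 := FiniteField.X_pow_card_sub_X_natDegree_eq L hq3
    have hP0 : P ≠ 0 := FiniteField.X_pow_card_sub_X_ne_zero L hq3
    have h := Polynomial.card_le_degree_of_subset_roots (p := P)
      (Z := insert t (Finset.univ.image ι)) (fun x hx => by
        rw [Finset.mem_val, Finset.mem_insert, Finset.mem_image] at hx
        rw [Polynomial.mem_roots hP0]
        rcases hx with rfl | ⟨y, -, rfl⟩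
        · simp [P, ht]
        · simp [P, ← map_pow, ← hK, FiniteField.pow_card])
    rw [Finset.card_insert_of_notMem (by simpa using hno),
      Finset.card_image_of_injective _ ι.injective, Finset.card_univ, hK, hdeg] at h
    omega
  -- an element of order N
  obtain ⟨N, hN⟩ : ∃ N, N = (q ^ 3 - 1) * (q + 1) := ⟨_, rfl⟩
  have hNz : (N : ℤ) = (q : ℤ) ^ 4 + q ^ 3 - q - 1 := by
    rw [hN]; push_cast [Nat.cast_sub hq3.le]; ring
  have hN0 : 0 < N := by rw [hN]; exact Nat.mul_pos (by omega) (by omega)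
  obtain ⟨g₀, hg₀⟩ := IsCyclic.exists_ofOrder_eq_natCard (α := Lˣ)
  rw [Nat.card_units, Nat.card_eq_fintype_card, hL] at hg₀
  have hdvd : N ∣ q ^ 6 - 1 := by
    have hz : ((q ^ 6 - 1 : ℕ) : ℤ) = (N : ℤ) * ((q : ℤ) ^ 2 - q + 1) := by
      rw [hNz]; push_cast [Nat.cast_sub (Nat.one_le_pow 6 q (by omega))]; ring
    exact Int.natCast_dvd_natCast.1 ⟨_, hz⟩
  obtain ⟨a, ha⟩ : ∃ a : Lˣ, orderOf a = N := by
    obtain ⟨k, hk⟩ := hdvd
    have h6 : 0 < q ^ 6 - 1 := by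
      have := Nat.one_lt_pow (n := 6) (by omega) hq
      omega
    have hk0 : k ≠ 0 := by rintro rfl; rw [mul_zero] at hk; omega
    refine ⟨g₀ ^ k, ?_⟩
    rw [orderOf_pow_of_dvd hk0 (by rw [hg₀, hk]; exact dvd_mul_left _ _), hg₀, hk,
      Nat.mul_div_cancel _ (by omega)]
  have hpow : ∀ e e' : ℤ, (N : ℤ) ∣ e - e' → a ^ e = a ^ e' := fun e e' h => by
    rw [← ha, orderOf_dvd_iff_zpow_eq_one] at h
    rwa [zpow_sub, mul_inv_eq_one] at h
  -- the parameters
  obtain ⟨μ, hμ⟩ : ∃ μ : Lˣ, μ = a ^ (-((q : ℤ) ^ 2 + q + 1)) := ⟨_, rfl⟩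
  obtain ⟨ν, hν⟩ : ∃ ν : Lˣ, ν = μ ^ q := ⟨_, rfl⟩
  have hνφ : φ (μ : L) = ν := by rw [hφ, hν, Units.val_pow_eq_pow_val]
  have hνz : ν = a ^ (-((q : ℤ) ^ 2 + q + 1) * q) := by
    rw [hν, hμ, ← zpow_natCast, ← zpow_mul]
  have hμν : φ (ν : L) = μ := by
    rw [hφ, ← Units.val_pow_eq_pow_val]
    congr 1
    rw [hνz, hμ, ← zpow_natCast, ← zpow_mul]
    refine hpow _ _ ⟨-1, ?_⟩
    rw [hNz]; ring
  have hne : (μ : L) - ν ≠ 0 := by
    rw [sub_ne_zero]
    intro e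
    have h := Units.ext e
    rw [hνz, hμ] at h
    have h2 : a ^ (((q : ℤ) ^ 2 + q + 1) * (q - 1)) = 1 := by
      rw [show ((q : ℤ) ^ 2 + q + 1) * (q - 1) =
        (-((q : ℤ) ^ 2 + q + 1)) - (-((q : ℤ) ^ 2 + q + 1) * q) by ring, zpow_sub, h,
        mul_inv_cancel]
    rw [show ((q : ℤ) ^ 2 + q + 1) * (q - 1) = ((q ^ 3 - 1 : ℕ) : ℤ) by
      push_cast [Nat.cast_sub hq3.le]; ring, zpow_natCast, ← orderOf_dvd_iff_pow_eq_one, ha] at h2
    have := Nat.le_of_dvd (by omega) h2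
    rw [hN] at this
    have h3 : (q ^ 3 - 1) * 3 ≤ (q ^ 3 - 1) * (q + 1) := Nat.mul_le_mul_left _ (by omega)
    omega
  obtain ⟨ε, hε⟩ : ∃ ε : L, ε = ((μ : L) - ν)⁻¹ := ⟨_, rfl⟩
  have hε0 : ε ≠ 0 := by rw [hε]; exact inv_ne_zero hne
  have hε1 : ε * ((μ : L) - ν) = 1 := by rw [hε]; exact inv_mul_cancel₀ hne
  have hεφ : φ ε = -ε := by
    rw [hε, map_inv₀, map_sub, hνφ, hμν, ← neg_sub, inv_neg]
  obtain ⟨u, hu1, hu2⟩ := exists_u q
  obtain ⟨W, hW⟩ : ∃ W : Lˣ, W = a ^ (((q : ℤ) + 1) * u) := ⟨_, rfl⟩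
  obtain ⟨w₀, hw₀⟩ : ∃ w₀ : Kˣ, ι (w₀ : K) = W := by
    obtain ⟨x, hx⟩ := hrange (W : L) (by
      rw [← Units.val_pow_eq_pow_val]
      congr 1
      rw [hW, ← zpow_natCast, ← zpow_mul]
      refine hpow _ _ ⟨u, ?_⟩
      rw [hNz]; push_cast; ring)
    exact ⟨Units.mk0 x (fun e => W.ne_zero (by rw [← hx, e, map_zero])), hx⟩
  have hfixed : ∀ t : L, φ t = t → ∃ x, ι x = t ∧ f x = x := by
    intro t ht
    obtain ⟨x, hx⟩ := hrange t (by
      rw [show q ^ 3 = q * q * q by ring, pow_mul, pow_mul, ← hφ, ← hφ, ← hφ, ht, ht, ht])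
    exact ⟨x, hx, ι.injective (by rw [← hι, hx, ht])⟩
  obtain ⟨sv, hsv, hsv'⟩ := hfixed ((μ : L) * ν) (by rw [map_mul, hνφ, hμν, mul_comm])
  obtain ⟨tv, htv, htv'⟩ := hfixed ((μ : L) + ν) (by rw [map_add, hνφ, hμν, add_comm])
  -- the element
  obtain ⟨ψ, hψu, hψl, hψw, hψd⟩ := exists_sl14 L
  obtain ⟨zK, hzK⟩ : ∃ z, z = zOf f w₀ 1 := ⟨_, rfl⟩
  obtain ⟨S, hS⟩ : ∃ S, S = certFullD4.xg 14 sv⁻¹ * certFullD4.xg 9 (-sv) *
      certFullD4.xg 14 ((1 - tv) / sv) := ⟨_, rfl⟩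
  have hmem : certFullD4.torus zK * S ∈ twistedD4 K q := by
    rw [hzK, hS]
    exact mul_mem (torus_zOf_mem f hf w₀ 1 (by simp)) (mul_mem (mul_mem
      (gen1 f hf (Or.inl rfl) (by rw [map_inv₀, hsv']))
      (gen1 f hf (Or.inr rfl) (by rw [map_neg, hsv'])))
      (gen1 f hf (Or.inl rfl) (by rw [map_div₀, map_sub, map_one, hsv', htv'])))
  obtain ⟨h, hh⟩ : ∃ h : ↥(twistedD4 K q), (h : GL chevD4.Idx K) = certFullD4.torus zK * S :=
    ⟨⟨_, hmem⟩, rfl⟩
  obtain ⟨mι, hmι⟩ : ∃ m : GL chevD4.Idx K →* GL chevD4.Idx L,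
      m = Matrix.GeneralLinearGroup.map ι := ⟨_, rfl⟩
  have hinj : Function.Injective mι := fun x y e => by
    rw [hmι] at e
    exact Units.ext (Matrix.ext fun r s =>
      ι.injective (congrArg (fun v : GL chevD4.Idx L => (v : Matrix chevD4.Idx chevD4.Idx L) r s) e))
  obtain ⟨zD, hzD⟩ : ∃ z : ℕ → Lˣ, z = fun i => Units.map (ι : K →* L) (zK i) := ⟨_, rfl⟩
  have hzv : ∀ j, zD j = if j = 0 then W else if j = 1 then 1 else if j = 2 then W ^ q
      else if j = 3 then W ^ (q ^ 2) else 1 := fun j => by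
    simp only [hzD, hzK, zOf]
    split_ifs <;> refine Units.ext ?_ <;>
      simp only [Units.coe_map, MonoidHom.coe_coe, Units.val_one, map_one, hf, map_pow,
        Units.val_pow_eq_pow_val, hw₀, ← pow_mul, sq]
  have hWs : W ^ q * W ^ (q ^ 2) * W = (μ * ν)⁻¹ := by
    rw [hνz, hμ, hW, ← zpow_natCast, ← zpow_natCast _ (q ^ 2), ← zpow_mul, ← zpow_mul,
      ← zpow_add, ← zpow_add, ← zpow_add, ← zpow_neg]
    refine hpow _ _ ?_
    obtain ⟨k, hk⟩ := hu2
    refine ⟨k, ?_⟩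
    rw [hNz, show u = ((q : ℤ) - 1) * k + 1 by rw [← hk]; ring]
    push_cast
    ring
  have hχ14 : certFullD4.tchar zD 14 = μ * ν := by
    rw [(tchar_simple zD).2.1, hzv 0, hzv 1, hzv 2, hzv 3]
    simp only [↓reduceIte, one_ne_zero, OfNat.ofNat_ne_zero, OfNat.ofNat_ne_one, mul_one,
      show (3 : ℕ) ≠ 2 by omega, one_mul]
    rw [inv_eq_iff_eq_inv, mul_assoc, mul_comm, hWs]
  have hnr : chevD4.nroots = 24 := simple_values.2.2.2.2.2.1
  have hχ9 : certFullD4.tchar zD 9 = (μ * ν)⁻¹ := by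
    rw [← simple_values.2.2.2.2.2.2.2.2.2, certFullD4.tchar_neg zD (by rw [hnr]; omega), hχ14]
  obtain ⟨g, hg⟩ : ∃ g, g = ψ (loSL (μ : L) * upSL (-ε)) := ⟨_, rfl⟩
  have hgx : g = certFullD4.xg 9 (μ : L) * certFullD4.xg 14 (-ε) := by
    rw [hg, map_mul, hψl, hψu]
  have hx : ∀ r, r < 24 → ∀ t : L, certFullD4.xg r t ∈ chevD4.group L := fun r hr t =>
    certFullD4.xg_mem_group (by rw [hnr]; exact hr) t
  have hgmem : g ∈ chevD4.group L := by
    rw [hgx]; exact mul_mem (hx 9 (by omega) _) (hx 14 (by omega) _)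
  have ht0 : (μ : L) / ((μ : L) * ν) ≠ 0 := by simp
  -- the conjugate in the torus
  obtain ⟨zT, hzT⟩ : ∃ z : ℕ → Lˣ,
      z = zD * fun i => (μ / (μ * ν)) ^ certFullD4.T.coroot 14 i := ⟨_, rfl⟩
  have hconj : mι (h : GL chevD4.Idx K) = g * certFullD4.torus zT * g⁻¹ := by
    rw [eq_mul_inv_iff_mul_eq, hh, hmι, map_mul, certFullD4.torus_mapHom, ← hzD, hS]
    simp only [map_mul, certFullD4.xg_mapHom, map_inv₀, map_neg, map_div₀, map_sub, map_one,
      hsv, htv]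
    have hmove : ∀ r < 24, ∀ t : L, certFullD4.torus zD * certFullD4.xg r t =
        certFullD4.xg r ((certFullD4.tchar zD r : L) * t) * certFullD4.torus zD := fun r hr t => by
      rw [← certFullD4.torus_conj_xg zD (show r < chevD4.nroots by rw [hnr]; exact hr),
        inv_mul_cancel_right]
    have hgD : g * certFullD4.torus zD = certFullD4.torus zD *
        ψ (loSL ((μ : L) * ν * μ) * upSL (-ε / ((μ : L) * ν))) := by
      rw [map_mul, hψl, hψu, ← mul_assoc, hmove 9 (by omega), mul_assoc, hmove 14 (by omega),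
        ← mul_assoc, hgx, hχ9, hχ14]
      congr 2
      · rw [Units.val_inv_eq_inv_val, Units.val_mul, inv_mul_cancel_left₀
          (mul_ne_zero μ.ne_zero ν.ne_zero)]
      · rw [Units.val_mul, mul_div_cancel₀ _ (mul_ne_zero μ.ne_zero ν.ne_zero)]
    have ehg : certFullD4.torus zT = certFullD4.torus zD * ψ (dSL _ ht0) := by
      rw [hzT, map_mul, hψd]
      congr 1
      rw [show (μ : L) / ((μ : L) * ν) = ((μ / (μ * ν) : Lˣ) : L) by rw [Units.val_div_eq_div_val, Units.val_mul],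
        certFullD4.hg_eq_torus (by rw [hnr]; omega)]
    rw [ehg, ← mul_assoc g, hgD, mul_assoc (certFullD4.torus zD) (ψ _), ← map_mul,
      ← sl_conj (μ : L) ν ε μ.ne_zero ν.ne_zero hε1 ht0, ← hψu, ← hψl, ← hψu,
      mul_assoc (certFullD4.torus zD), hg, ← map_mul, ← map_mul, ← map_mul]
  -- relations for conjugates in the torus
  obtain ⟨n, hn⟩ : ∃ n, n = certFullD4.hg 14 ε * certFullD4.np L 1 := ⟨_, rfl⟩
  have hgact : (tw φ).act g = g * n := by
    obtain ⟨⟨-, -, -, r4, -, -, -, r8, -⟩, he⟩ := graphD4_values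
    simp only [List.all_eq_true, beq_iff_eq] at he
    rw [hgx, (tw φ).act_mul (hx 9 (by omega) _) (hx 14 (by omega) _),
      act_x φ (by omega) (he 9 (by simp)), act_x φ (by omega) (he 14 (by simp)), r4, r8, hνφ,
      map_neg, hεφ, neg_neg, ← hψl, ← hψu, ← map_mul, sl_frob (μ : L) ν ε hε1 hε0, hn,
      map_mul, map_mul, map_mul, hψd, hψw, hψl, hψu, mul_assoc _ (certFullD4.hg 14 ε)]
  have hfix : ∀ x : ↥(twistedD4 K q),
      (tw φ).act (mι (x : GL chevD4.Idx K)) = mι (x : GL chevD4.Idx K) := fun x => by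
    obtain ⟨h1, h2⟩ := (tw f).mem_fix.1 (le_fix f hf hK x.2)
    rw [hmι, act_mapHom ι hι h1, h2]
  have hmem' : ∀ x : ↥(twistedD4 K q), mι (x : GL chevD4.Idx K) ∈ chevD4.group L := fun x => by
    rw [hmι]
    exact certFullD4.mapHom_mem_group ι ((tw f).fix_le_group (le_fix f hf hK x.2))
  have hrel : ∀ (x : ↥(twistedD4 K q)) (z : ℕ → Lˣ),
      mι (x : GL chevD4.Idx K) = g * certFullD4.torus z * g⁻¹ →
      certFullD4.tchar z 18 ^ ((q : ℤ) ^ 4 + q ^ 3 - q - 1) = 1 ∧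
      ∀ s < 24, certFullD4.tchar z s = certFullD4.tchar z 18 ^ ex q s := by
    intro x z hxz
    refine rel hφ ?_
    have hT : certFullD4.torus z ∈ chevD4.group L :=
      certFullD4.B_le_group (certFullD4.H_le_B (certFullD4.torus_mem z))
    have h := hfix x
    rw [hxz, (tw φ).act_mul (mul_mem hgmem hT) (inv_mem hgmem), (tw φ).act_mul hgmem hT,
      (tw φ).act_inv hgmem, hgact] at h
    have hcomm := certFullD4.H_commutative (certFullD4.hg_mem (r := 14) (by rw [hnr]; omega) hε0)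
      (certFullD4.torus_mem z)
    calc (tw φ).act (certFullD4.torus z) =
          n⁻¹ * (g⁻¹ * (g * n * (tw φ).act (certFullD4.torus z) * (g * n)⁻¹) * g) * n := by group
      _ = n⁻¹ * certFullD4.torus z * n := by rw [h]; group
      _ = (certFullD4.np L 1)⁻¹ * ((certFullD4.hg 14 ε)⁻¹ * (certFullD4.torus z *
          certFullD4.hg 14 ε)) * certFullD4.np L 1 := by rw [hn]; group
      _ = _ := by rw [← hcomm, inv_mul_cancel_left]
  -- the value at the first root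
  have hT18 : certFullD4.tchar zT 18 = a := by
    obtain ⟨c0, c1, -, -⟩ := coroot14
    rw [(tchar_simple zT).1, hzT]
    simp only [Pi.mul_apply, hzv, c0, c1, zpow_zero, zpow_one, ↓reduceIte, one_ne_zero, mul_one,
      one_mul, inv_div, hW, hνz, hμ]
    rw [div_eq_mul_inv, ← zpow_neg, ← zpow_add, ← zpow_add, ← zpow_add, ← zpow_add]
    conv_rhs => rw [← zpow_one a]
    refine hpow _ _ ?_
    obtain ⟨k, hk⟩ := hu1
    refine ⟨k, ?_⟩
    rw [hNz]
    linear_combination ((q : ℤ) + 1) * hk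
  have h18pow : ∀ (z : ℕ → Lˣ) (k : ℕ),
      certFullD4.tchar (z ^ k) 18 = certFullD4.tchar z 18 ^ k := fun z k => by
    rw [(tchar_simple _).1, (tchar_simple z).1]
    simp [Pi.pow_apply, mul_pow]
  have hconjpow : ∀ k : ℕ, mι ((h ^ k : ↥(twistedD4 K q)) : GL chevD4.Idx K) =
      g * certFullD4.torus (zT ^ k) * g⁻¹ := fun k => by
    rw [Subgroup.coe_pow, map_pow, hconj, conj_pow, map_pow]
  have hconjone : ∀ k : ℕ, a ^ k = 1 → h ^ k = 1 := fun k hk => by
    refine Subtype.ext (hinj ?_)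
    obtain ⟨-, hall⟩ := hrel _ _ (hconjpow k)
    have : certFullD4.torus (zT ^ k) = 1 := by
      rw [Cert.torus_apply, ← map_one (dg chevD4 L)]
      refine dg_ext chevD4 L fun s hs => ?_
      rw [hall s (by rw [hnr] at hs; exact hs), h18pow, hT18, hk, one_zpow]
      rfl
    rw [hconjpow, this, mul_one, mul_inv_cancel, Subgroup.coe_one, map_one]
  have hord : orderOf h = N := by
    rw [← ha]
    refine orderOf_eq_orderOf_iff.2 fun k => ⟨fun e => ?_, hconjone k⟩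
    have h1 : certFullD4.torus (zT ^ k) = 1 := by
      calc certFullD4.torus (zT ^ k) = g⁻¹ * (g * certFullD4.torus (zT ^ k) * g⁻¹) * g := by group
        _ = 1 := by rw [← hconjpow, e, Subgroup.coe_one, map_one]; group
    have h2 := (dg_eq_iff chevD4 L).1 (h1.trans (map_one (dg chevD4 L)).symm) 18
      (by rw [hnr]; omega)
    change certFullD4.tchar (zT ^ k) 18 = 1 at h2
    rw [h18pow, hT18] at h2
    exact h2
  refine ⟨Subgroup.zpowers h, Subgroup.isCyclic_zpowers h, by rw [Nat.card_zpowers, hord, hN], ?_⟩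
  refine le_antisymm (fun y hy => ?_) fun y hy => Subgroup.mem_centralizer_iff.2 fun b hb => ?_
  swap
  · obtain ⟨i, rfl⟩ := Subgroup.mem_zpowers_iff.1 hy
    obtain ⟨j, rfl⟩ := Subgroup.mem_zpowers_iff.1 hb
    rw [← zpow_add, ← zpow_add, add_comm]
  have hcomm := Subgroup.mem_centralizer_iff.1 hy h (Subgroup.mem_zpowers h)
  obtain ⟨Y, hY⟩ : ∃ Y, Y = g⁻¹ * mι (y : GL chevD4.Idx K) * g := ⟨_, rfl⟩
  obtain ⟨-, hall⟩ := hrel h zT hconj
  have hex : ∀ s < 24, certFullD4.tchar zT s = a ^ ex q s := fun s hs => by rw [hall s hs, hT18]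
  have hdiv : ∀ e : ℤ, a ^ e = 1 → (q : ℤ) ^ 4 + q ^ 3 - q - 1 ∣ e := fun e he => by
    rw [← hNz, ← ha]; exact orderOf_dvd_iff_zpow_eq_one.2 he
  have hYH : Y ∈ chevD4.diagonalSubgroup L := by
    refine certFullD4.mem_H_of_commute_of_pos (z := zT) ?_ ?_ (g := Y)
      (hY ▸ mul_mem (mul_mem (inv_mem hgmem) (hmem' y)) hgmem) ?_
    · intro s hs e
      rw [hnr] at hs
      rw [hex s hs] at e
      have h1 := hdiv _ e
      rcases (show q = 2 ∨ 3 ≤ q by omega) with rfl | hq3'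
      · exact two_ne s hs (by simpa using h1)
      · exact dvd_ex (by omega) hs h1
    · intro w hw heq p hp
      obtain ⟨s0, s1, s2, s3, hrk, -⟩ := simple_values
      have hval : ∀ s < 24, (q : ℤ) ^ 4 + q ^ 3 - q - 1 ∣
          ex q (certFullD4.wl w s) - ex q s := fun s hs => by
        have hlt := certFullD4.wl_lt hw (show s < chevD4.nroots by rw [hnr]; exact hs)
        have e := heq s (by rw [hnr]; exact hs)
        rw [hex s hs, hex _ (by rw [hnr] at hlt; exact hlt)] at e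
        exact hdiv _ (by rw [zpow_sub, e, mul_inv_cancel])
      have hwlt : ∀ {s : ℕ}, s < 24 → certFullD4.wl w s < 24 := fun {s} hs => by
        have := certFullD4.wl_lt hw (show s < chevD4.nroots by rw [hnr]; exact hs)
        rwa [hnr] at this
      have hfixs : certFullD4.wl w (chevD4.simple p) = chevD4.simple p := by
        rcases (show q = 2 ∨ 3 ≤ q by omega) with rfl | hq3'
        · have hu : ∀ v ∈ [18, 13, 12, 19], certFullD4.wl w v = v := fun v hv => by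
            have hv' : v < 24 := by
              simp only [List.mem_cons, List.not_mem_nil, or_false] at hv
              omega
            exact two_unique v hv _ (hwlt hv') (by simpa using hval v hv')
          rw [hrk] at hp
          rcases (show p = 0 ∨ p = 1 ∨ p = 2 ∨ p = 3 by omega) with rfl | rfl | rfl | rfl
          · rw [s0]; exact hu 18 (by simp)
          · rw [s1]
            obtain ⟨huni, a0, a1, a2, a3, b0, b1, b2, b3⟩ := two_rest
            have hv : ∀ j < 4, vc 19 j = vc 18 j + vc (certFullD4.wl w 14) j := fun j hj => by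
              have h := certFullD4.wl_vec hw (r := 19) (by rw [hnr]; omega)
                (show j < chevD4.rank by rw [hrk]; exact hj)
              rw [hu 19 (by simp), hrk] at h
              simp only [Finset.sum_range_succ, Finset.sum_range_zero, zero_add, s0, s1,
                hu 18 (by simp)] at h
              simp only [vc] at a0 a1 a2 a3 ⊢
              rw [a0, a1, a2, a3] at h
              simpa using h
            have g0 := hv 0 (by omega)
            have g1 := hv 1 (by omega)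
            have g2 := hv 2 (by omega)
            have g3 := hv 3 (by omega)
            rw [a0, b0] at g0; rw [a1, b1] at g1; rw [a2, b2] at g2; rw [a3, b3] at g3
            exact huni _ (hwlt (by omega)) (by omega) (by omega) (by omega) (by omega)
          · rw [s2]; exact hu 13 (by simp)
          · rw [s3]; exact hu 12 (by simp)
        · have hs := certFullD4.simple_lt hp
          rw [hnr] at hs
          exact dvd_ex_sub (by omega) (hwlt hs) hs (hval _ hs)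
      rw [hfixs]
      exact certFullD4.pos_simple hp
    · have e := congrArg (fun v : ↥(twistedD4 K q) => mι (v : GL chevD4.Idx K)) hcomm
      simp only [Subgroup.coe_mul, map_mul, hconj] at e
      show Y * certFullD4.torus zT = certFullD4.torus zT * Y
      calc Y * certFullD4.torus zT = g⁻¹ * (mι (y : GL chevD4.Idx K) *
            (g * certFullD4.torus zT * g⁻¹)) * g := by rw [hY]; group
        _ = g⁻¹ * ((g * certFullD4.torus zT * g⁻¹) * mι (y : GL chevD4.Idx K)) * g := by rw [e]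
        _ = _ := by rw [hY]; group
  rw [certFullD4.diagonalSubgroup_eq] at hYH
  obtain ⟨z, hz⟩ := hYH
  have hyz : mι (y : GL chevD4.Idx K) = g * certFullD4.torus z * g⁻¹ := by
    rw [hz, hY]; group
  obtain ⟨hzN, hzall⟩ := hrel y z hyz
  obtain ⟨k, hk⟩ : ∃ k : ℕ, a ^ k = certFullD4.tchar z 18 := by
    haveI : NeZero N := ⟨by omega⟩
    have hprim : IsPrimitiveRoot ((a : Lˣ) : L) N :=
      IsPrimitiveRoot.coe_units_iff.2 (ha ▸ IsPrimitiveRoot.orderOf a)
    rw [← hNz, zpow_natCast] at hzN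
    obtain ⟨k, -, hk⟩ := hprim.eq_pow_of_pow_eq_one (show ((certFullD4.tchar z 18 : Lˣ) : L) ^ N = 1 by
      rw [← Units.val_pow_eq_pow_val, hzN, Units.val_one])
    exact ⟨k, Units.ext (by rw [Units.val_pow_eq_pow_val, hk])⟩
  refine Subgroup.mem_zpowers_iff.2 ⟨(k : ℤ), ?_⟩
  rw [zpow_natCast]
  refine Subtype.ext (hinj ?_)
  rw [hconjpow, hyz]
  congr 2
  obtain ⟨-, hkall⟩ := hrel _ _ (hconjpow k)
  rw [Cert.torus_apply, Cert.torus_apply]
  refine dg_ext chevD4 L fun s hs => ?_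
  rw [hnr] at hs
  rw [hkall s hs, hzall s hs, h18pow, hT18, hk]

/-- The cyclic torus of order `(q³ - 1)(q + 1)`. -/
theorem exists_torus {K : Type*} [Field K] [Fintype K] (q : ℕ) (hq : IsPrimePow q)
    (hK : Fintype.card K = q ^ 3) :
    ∃ H : Subgroup ↥(twistedD4 K q), IsCyclic ↥H ∧ Nat.card ↥H = (q ^ 3 - 1) * (q + 1) ∧
      Subgroup.centralizer (H : Set ↥(twistedD4 K q)) = H := by
  obtain ⟨p, n, hp, hn, rfl⟩ := hq
  haveI : Fact p.Prime := ⟨Nat.prime_iff.2 hp⟩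
  haveI : CharP K p := charP_of_card_eq_prime_pow (f := n * 3) (by rw [hK, pow_mul])
  letI : Fintype (FiniteField.Extension K p 2) := Fintype.ofFinite _
  haveI : CharP (FiniteField.Extension K p 2) p :=
    charP_of_injective_ringHom (algebraMap K (FiniteField.Extension K p 2)).injective p
  refine exists_torus_of_ext (algebraMap K (FiniteField.Extension K p 2))
    (iterateFrobenius K p n) (fun t => iterateFrobenius_def ..) hK
    (iterateFrobenius (FiniteField.Extension K p 2) p n) (fun t => iterateFrobenius_def ..) ?_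
  rw [← Nat.card_eq_fintype_card, FiniteField.natCard_extension, Nat.card_eq_fintype_card, hK,
    ← pow_mul]

end D4Torus

end Cfsg.Agent.Lie.Chev
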