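import Cfsg.Agent.Lib.Lie.Chev.BN

/-! Groups with Steinberg's relations (R1), (R2): root subgroups are moved by the monomial
elements as in the Chevalley group. -/

set_option autoImplicit false

namespace Cfsg.Agent.Lie.Chev

open Cfsg.Lie

/-- A group with root elements satisfying (R1), (R2), over a Chevalley group. -/
structure StData {D : ChevalleyDatum} (c : CertFull D) (F : Type*) [Field F] (Γ : Type*) [Group Γ]
    where
  θ : Γ →* GL D.Idx F
  X : ℕ → F → Γ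
  θX : ∀ r < D.nroots, ∀ t : F, θ (X r t) = c.xg r t
  add : ∀ r < D.nroots, ∀ t u : F, X r t * X r u = X r (t + u)
  comm : ∀ r < D.nroots, ∀ s < D.nroots, s ≠ r → s ≠ D.neg r → ∀ t u : F,
    X s u * X r t = X r t * X s u *
      ((c.T.commTerms r s).map fun x => X x.1 ((x.2.1 : F) * (-t) ^ x.2.2.1 * u ^ x.2.2.2)).prod
  gen : Subgroup.closure {g | ∃ r < D.nroots, ∃ t : F, g = X r t} = ⊤

/-- Every node has a neighbour. -/
def checkNbr (T : Tables) : Bool :=
  T.allNodes fun p => (List.range T.l).any fun q =>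
    !(Nat.beq q p) && !(T.cartan q (T.simple p) == 0)

namespace CertFull

variable {D : ChevalleyDatum} (c : CertFull D) {F : Type*} [Field F]
include c

theorem commTerms_wl {L : List ℕ} (hL : ∀ p ∈ L, p < D.rank) {r s : ℕ} (hr : r < D.nroots)
    (hs : s < D.nroots) {x : ℕ × ℤ × ℕ × ℕ} (hx : x ∈ c.T.commTerms (c.wl L r) (c.wl L s)) :
    ∃ y ∈ c.T.commTerms r s, x.1 = c.wl L y.1 := by
  induction L generalizing x with
  | nil => exact ⟨x, hx, rfl⟩
  | cons p L ih =>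
    have hL' : ∀ q ∈ L, q < D.rank := fun q hq => hL q (by simp [hq])
    rw [Cert.wl_cons, Cert.wl_cons,
      c.commTerms_w (hL p (by simp)) (c.wl_lt hL' hr) (c.wl_lt hL' hs)] at hx
    obtain ⟨z, hz, rfl⟩ := List.mem_map.1 hx
    obtain ⟨y, hy, e⟩ := ih hL' hz
    exact ⟨y, hy, by simp [Tables.moveTerm, Cert.w, e]⟩

/-- Terms for `±α_p` and another root lie on the side of that root. -/
theorem commTerms_side {p r s : ℕ} (hp : p < D.rank)
    (hr : r = D.simple p ∨ r = D.neg (D.simple p)) (hs : s < D.nroots) (h1 : s ≠ D.simple p)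
    (h2 : s ≠ D.neg (D.simple p)) {x : ℕ × ℤ × ℕ × ℕ} (hx : x ∈ c.T.commTerms r s) :
    x.1 < D.nroots ∧ x.1 ≠ D.simple p ∧ x.1 ≠ D.neg (D.simple p) ∧ (c.Pos x.1 ↔ c.Pos s) := by
  have hα := c.simple_lt hp
  have hr' : r < D.nroots := by rcases hr with rfl | rfl; exacts [hα, c.neg_lt hα]
  obtain ⟨hlt, -, hj, -⟩ := c.mem_commTerms hr' hs hx
  by_cases hpos : c.Pos s
  · obtain ⟨h3, h4⟩ := c.commTerms_pos hp hr hpos h1 (Or.inl hx)
    exact ⟨hlt, h4, fun e => (c.not_pos_iff hα).2 (e ▸ h3) (c.pos_simple hp),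
      iff_of_true h3 hpos⟩
  · have hn := (c.not_pos_iff hs).1 hpos
    have hne : D.neg s ≠ D.simple p := fun e => h2 (by rw [← e, c.neg_neg hs])
    obtain ⟨k, hk, hkp, hv⟩ := (c.vec_nonneg hn.2 hn.1).2 p hp hne
    rw [c.vec_neg hs hk] at hv
    have hrk : c.T.vec r k = 0 := by
      rcases hr with rfl | rfl
      · rw [c.vec_simple hp hk, if_neg hkp]
      · rw [c.vec_neg hα hk, c.vec_simple hp hk, if_neg hkp, neg_zero]
    have hneg : c.T.vec x.1 k < 0 := by
      rw [c.commTerms_vec hr' hs hk hx, hrk, mul_zero, zero_add]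
      exact mul_neg_of_pos_of_neg (by exact_mod_cast hj) (by omega)
    refine ⟨hlt, fun e => ?_, fun e => ?_, iff_of_false (fun h => ?_) hpos⟩
    · rw [e, c.vec_simple hp hk, if_neg hkp] at hneg; omega
    · rw [e, c.vec_neg hα hk, c.vec_simple hp hk, if_neg hkp] at hneg; omega
    · have := (c.vec_nonneg h.2 h.1).1 k hk
      omega

theorem exists_wl_simple {r : ℕ} (hr : r < D.nroots) :
    ∃ (L : List ℕ) (q : ℕ), (∀ p ∈ L, p < D.rank) ∧ q < D.rank ∧ c.wl L (D.simple q) = r := by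
  refine c.root_induction (P := fun r => ∃ (L : List ℕ) (q : ℕ), (∀ p ∈ L, p < D.rank) ∧
    q < D.rank ∧ c.wl L (D.simple q) = r) (fun p hp => ⟨[], p, by simp, hp, rfl⟩)
    (fun p hp r hr h => ?_) r hr
  obtain ⟨L, q, hL, hq, e⟩ := h
  exact ⟨p :: L, q, by simpa using ⟨hp, hL⟩, hq, by rw [Cert.wl_cons, e]⟩

/-- A root element of a transported root. -/
theorem xg_wl {L : List ℕ} (hL : ∀ p ∈ L, p < D.rank) {s : ℕ} (hs : s < D.nroots) (t : F) :
    c.xg (c.wl L s) t = c.nw F L * c.xg s ((c.wsign L s : F) * t) * (c.nw F L)⁻¹ := by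
  rw [c.nw_mul_xg hL hs, ← mul_assoc, c.wsign_sq, one_mul, mul_inv_cancel_right]

/-- A nontrivial root element determines its root. -/
theorem xg_root_inj {a b : ℕ} (ha : a < D.nroots) (hb : b < D.nroots) {v w : F} (hw : w ≠ 0)
    (h : c.xg a v = c.xg b w) : a = b ∧ v = w := by
  suffices hab : a = b from ⟨hab, c.xg_inj hb (hab ▸ h)⟩
  obtain ⟨L, q, hL, hq, rfl⟩ := c.exists_wl_simple hb
  have hR : ∀ p ∈ L.reverse, p < D.rank := fun p hp => hL p (List.mem_reverse.1 hp)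
  set a' := c.wl L.reverse a with ha'def
  have ha' : a' < D.nroots := c.wl_lt hR ha
  have e : c.wl L a' = a := c.wl_reverse hL ha
  rw [← e, c.xg_wl hL ha', c.xg_wl hL (c.simple_lt hq)] at h
  have h' := mul_left_cancel (mul_right_cancel h)
  rw [← e]
  congr 1
  have hw' : (c.wsign L (D.simple q) : F) * w ≠ 0 := mul_ne_zero (c.wsign_ne_zero _ _) hw
  by_contra hne
  by_cases hp : c.Pos a'
  · rcases Nat.lt_or_ge a' (D.simple q) with hlt | hge
    · obtain ⟨e1, e2⟩ := c.xg_mul_K_inj hp (a := (c.wsign L a' : F) * v) (b := 0)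
        (one_mem _) (c.xg_mem_K (c.pos_simple hq) hlt ((c.wsign L (D.simple q) : F) * w))
        (by rw [c.xg_zero, one_mul, mul_one, h'])
      exact hw' ((c.xg_eq_one_iff (c.simple_lt hq) _).1 e2.symm)
    · obtain ⟨e1, e2⟩ := c.xg_mul_K_inj (c.pos_simple hq)
        (a := (c.wsign L (D.simple q) : F) * w) (b := 0)
        (one_mem _) (c.xg_mem_K hp (m := D.simple q + 1) (by omega) ((c.wsign L a' : F) * v))
        (by rw [c.xg_zero, one_mul, mul_one, h'])
      exact hw' e1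
  · have hV : c.xg a' ((c.wsign L a' : F) * v) ∈ D.negUnipotent F := by
      refine Subgroup.subset_closure ⟨a', _, c.isNegRoot_iff.2 ?_, rfl⟩
      by_contra hh
      exact hp ⟨by omega, ha'⟩
    have h3 := c.borel_inf_negUnipotent.1.le
      ⟨h' ▸ c.xg_mem_B (c.pos_simple hq) _, hV⟩
    rw [h', Subgroup.mem_bot, c.xg_eq_one_iff (c.simple_lt hq)] at h3
    exact hw' h3

end CertFull

namespace StData

variable {D : ChevalleyDatum} {c : CertFull D} {F : Type*} [Field F] {Γ : Type*} [Group Γ]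
  (A : StData c F Γ)

theorem X_zero {r : ℕ} (hr : r < D.nroots) : A.X r 0 = 1 := by
  have := A.add r hr 0 0
  rwa [add_zero, mul_eq_left] at this

theorem X_inv {r : ℕ} (hr : r < D.nroots) (t : F) : (A.X r t)⁻¹ = A.X r (-t) := by
  rw [inv_eq_iff_mul_eq_one, A.add r hr, add_neg_cancel, A.X_zero hr]

theorem X_eq_one {r : ℕ} (hr : r < D.nroots) {t : F} (h : A.θ (A.X r t) = 1) : A.X r t = 1 := by
  rw [A.θX r hr, c.xg_eq_one_iff hr] at h
  rw [h, A.X_zero hr]

/-- Conjugating a root element by another one. -/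
theorem X_conj {r s : ℕ} (hr : r < D.nroots) (hs : s < D.nroots) (h1 : s ≠ r)
    (h2 : s ≠ D.neg r) (t u : F) : A.X r t * A.X s u * (A.X r t)⁻¹ = A.X s u *
      ((c.T.commTerms r s).map fun x =>
        A.X x.1 ((x.2.1 : F) * (-(-t)) ^ x.2.2.1 * u ^ x.2.2.2)).prod := by
  rw [A.X_inv hr, mul_assoc, A.comm r hr s hs h1 h2, ← mul_assoc, ← mul_assoc, A.add r hr,
    add_neg_cancel, A.X_zero hr, one_mul]

/-- The root elements of transported positive roots from index `m` on. -/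
def V (L : List ℕ) (m : ℕ) : Subgroup Γ :=
  Subgroup.closure {g | ∃ (s : ℕ) (t : F), c.Pos s ∧ m ≤ s ∧ g = A.X (c.wl L s) t}

theorem X_mem_V {L : List ℕ} {s m : ℕ} (hs : c.Pos s) (hm : m ≤ s) (t : F) :
    A.X (c.wl L s) t ∈ A.V L m :=
  Subgroup.subset_closure ⟨s, t, hs, hm, rfl⟩

theorem θ_mem_of_V {L : List ℕ} (hL : ∀ p ∈ L, p < D.rank) {m : ℕ} {k : Γ} (hk : k ∈ A.V L m) :
    (c.nw F L)⁻¹ * A.θ k * c.nw F L ∈ c.K F m := by
  induction hk using Subgroup.closure_induction with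
  | mem g hg =>
    obtain ⟨s, t, hs, hm, rfl⟩ := hg
    rw [A.θX _ (c.wl_lt hL hs.2), c.xg_wl hL hs.2, ← mul_assoc, ← mul_assoc, inv_mul_cancel,
      one_mul, inv_mul_cancel_right]
    exact c.xg_mem_K hs hm _
  | one => simp [one_mem]
  | mul a b _ _ ha hb =>
    rw [map_mul, show (c.nw F L)⁻¹ * (A.θ a * A.θ b) * c.nw F L =
      ((c.nw F L)⁻¹ * A.θ a * c.nw F L) * ((c.nw F L)⁻¹ * A.θ b * c.nw F L) by group]
    exact mul_mem ha hb
  | inv a _ ha =>
    rw [map_inv, show (c.nw F L)⁻¹ * (A.θ a)⁻¹ * c.nw F L =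
      ((c.nw F L)⁻¹ * A.θ a * c.nw F L)⁻¹ by group]
    exact inv_mem ha

theorem X_conj_V {L : List ℕ} (hL : ∀ p ∈ L, p < D.rank) {m : ℕ} (hm : c.Pos m) (t : F) {k : Γ}
    (hk : k ∈ A.V L (m + 1)) :
    A.X (c.wl L m) t * k * (A.X (c.wl L m) t)⁻¹ ∈ A.V L (m + 1) := by
  refine conj_closure_mem ?_ hk
  rintro g ⟨s, u, hs, hms, rfl⟩
  have hne : s ≠ D.neg m := fun e => (c.not_pos_iff hm.2).2 (e ▸ hs) hm
  rw [A.X_conj (c.wl_lt hL hm.2) (c.wl_lt hL hs.2)
    (fun e => by have := c.wl_inj hL hs.2 hm.2 e; omega)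
    (fun e => hne (c.wl_inj hL hs.2 (c.neg_lt hm.2) (by rw [e, c.wl_neg hL hm.2])))]
  refine mul_mem (A.X_mem_V hs hms u) (Subgroup.list_prod_mem _ fun g hg => ?_)
  obtain ⟨x, hx, rfl⟩ := List.mem_map.1 hg
  obtain ⟨y, hy, e⟩ := c.commTerms_wl hL hm.2 hs.2 hx
  obtain ⟨h1, -, h3⟩ := c.commTerms_gt hm hs hy
  rw [e]
  exact A.X_mem_V h1 (by omega) _

theorem V_inj {L : List ℕ} (hL : ∀ p ∈ L, p < D.rank) : ∀ (d m : ℕ), D.nroots - m = d →
    c.T.h ≤ m → ∀ k ∈ A.V L m, A.θ k = 1 → k = 1 := by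
  intro d
  induction d with
  | zero =>
    intro m hd _ k hk _
    have : A.V L m = ⊥ := by
      rw [eq_bot_iff, V, Subgroup.closure_le]
      rintro g ⟨s, t, hs, hms, -⟩
      have := hs.2
      omega
    rwa [this, Subgroup.mem_bot] at hk
  | succ d ih =>
    intro m hd hm k hk he
    have hm' : c.Pos m := ⟨hm, by omega⟩
    obtain ⟨a, k', hk', rfl⟩ : ∃ (a : F) (k' : Γ), k' ∈ A.V L (m + 1) ∧
        k = A.X (c.wl L m) a * k' := by
      clear he
      have hlt := c.wl_lt hL hm'.2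
      induction hk using Subgroup.closure_induction with
      | mem g hg =>
        obtain ⟨s, u, hs, hms, rfl⟩ := hg
        rcases hms.lt_or_eq with h | rfl
        · exact ⟨0, _, A.X_mem_V hs h u, by rw [A.X_zero hlt, one_mul]⟩
        · exact ⟨u, 1, one_mem _, by rw [mul_one]⟩
      | one => exact ⟨0, 1, one_mem _, by rw [A.X_zero hlt, mul_one]⟩
      | mul a b _ _ ha hb =>
        obtain ⟨x, k, hk, rfl⟩ := ha
        obtain ⟨y, k', hk', rfl⟩ := hb
        refine ⟨x + y, (A.X (c.wl L m) y)⁻¹ * k * A.X (c.wl L m) y * k', mul_mem ?_ hk', by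
          rw [← A.add _ hlt]; group⟩
        have := A.X_conj_V hL hm' (-y) hk
        rwa [← A.X_inv hlt, inv_inv] at this
      | inv a _ ha =>
        obtain ⟨x, k, hk, rfl⟩ := ha
        refine ⟨-x, A.X (c.wl L m) x * k⁻¹ * (A.X (c.wl L m) x)⁻¹,
          A.X_conj_V hL hm' x (inv_mem hk), ?_⟩
        rw [← A.X_inv hlt]; group
    have h2 := A.θ_mem_of_V hL hk'
    rw [map_mul, A.θX _ (c.wl_lt hL hm'.2), c.xg_wl hL hm'.2] at he
    obtain ⟨e1, e2⟩ := c.xg_mul_K_inj hm' (a := (c.wsign L m : F) * a) (b := 0) h2 (one_mem _)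
      (by
        rw [c.xg_zero, mul_one]
        calc _ = (c.nw F L)⁻¹ * (c.nw F L * c.xg m ((c.wsign L m : F) * a) * (c.nw F L)⁻¹ *
              A.θ k') * c.nw F L := by group
          _ = 1 := by rw [he]; group)
    have ha0 : a = 0 := (mul_eq_zero.1 e1).resolve_left (c.wsign_ne_zero _ _)
    have hk1 : A.θ k' = 1 := by
      calc A.θ k' = c.nw F L * ((c.nw F L)⁻¹ * A.θ k' * c.nw F L) * (c.nw F L)⁻¹ := by group
        _ = 1 := by rw [e2]; group
    rw [ha0, A.X_zero (c.wl_lt hL hm'.2), one_mul]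
    exact ih (m + 1) (by omega) (by omega) k' hk' hk1

theorem eq_of_mem_V {L : List ℕ} (hL : ∀ p ∈ L, p < D.rank) {k k' : Γ} (hk : k ∈ A.V L c.T.h)
    (hk' : k' ∈ A.V L c.T.h) (h : A.θ k = A.θ k') : k = k' := by
  rw [← inv_mul_eq_one]
  exact A.V_inj hL _ c.T.h rfl le_rfl _ (mul_mem (inv_mem hk) hk')
    (by rw [map_mul, map_inv, h, inv_mul_cancel])

/-- The element `n_r(t)`. -/
def n (r : ℕ) (t : F) : Γ := A.X r t * A.X (D.neg r) (-t⁻¹) * A.X r t

/-- The element `h_r(t)`. -/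
def h (r : ℕ) (t : F) : Γ := A.n r t * A.n r (-1)

theorem θn {r : ℕ} (hr : r < D.nroots) (t : F) : A.θ (A.n r t) = c.ng r t := by
  rw [n, map_mul, map_mul, A.θX r hr, A.θX _ (c.neg_lt hr)]; rfl

theorem θh {r : ℕ} (hr : r < D.nroots) (t : F) : A.θ (A.h r t) = c.hg r t := by
  rw [h, map_mul, A.θn hr, A.θn hr]; rfl

theorem n_inv {r : ℕ} (hr : r < D.nroots) (t : F) : (A.n r t)⁻¹ = A.n r (-t) := by
  simp only [n, _root_.mul_inv_rev, A.X_inv hr, A.X_inv (c.neg_lt hr), inv_neg, mul_assoc]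

/-- Conjugation by `n_γ(t)` of a root element outside `±γ`. -/
theorem n_conj {γ δ : ℕ} (hγ : γ < D.nroots) (hδ : δ < D.nroots) (h1 : δ ≠ γ)
    (h2 : δ ≠ D.neg γ) {t : F} (ht : t ≠ 0) (u : F) {ε : ℕ} (hε : ε < D.nroots) {w : F}
    (he : c.ng γ t * c.xg δ u * (c.ng γ t)⁻¹ = c.xg ε w) :
    A.n γ t * A.X δ u * (A.n γ t)⁻¹ = A.X ε w := by
  obtain ⟨L, q, hL, hq, rfl⟩ := c.exists_wl_simple hγ
  have hR : ∀ p ∈ L.reverse, p < D.rank := fun p hp => hL p (List.mem_reverse.1 hp)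
  have hα := c.simple_lt hq
  set s₀ := c.wl L.reverse δ with hs₀
  have hs : s₀ < D.nroots := c.wl_lt hR hδ
  have es : c.wl L s₀ = δ := c.wl_reverse hL hδ
  have hn1 : s₀ ≠ D.simple q := fun e => h1 (by rw [← es, e])
  have hn2 : s₀ ≠ D.neg (D.simple q) := fun e => h2 (by rw [← es, e, c.wl_neg hL hα])
  let P : ℕ → Prop := fun s =>
    s < D.nroots ∧ s ≠ D.simple q ∧ s ≠ D.neg (D.simple q) ∧ (c.Pos s ↔ c.Pos s₀)
  let W : Subgroup Γ := Subgroup.closure {g | ∃ (s : ℕ) (v : F), P s ∧ g = A.X (c.wl L s) v}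
  have hXW : ∀ {s : ℕ} (_ : P s) (v : F), A.X (c.wl L s) v ∈ W :=
    fun {s} hs v => Subgroup.subset_closure ⟨s, v, hs, rfl⟩
  have hnorm : ∀ r, (r = D.simple q ∨ r = D.neg (D.simple q)) → ∀ (v : F), ∀ g ∈ W,
      A.X (c.wl L r) v * g * (A.X (c.wl L r) v)⁻¹ ∈ W := by
    intro r hr v g hg
    have hr' : r < D.nroots := by rcases hr with rfl | rfl; exacts [hα, c.neg_lt hα]
    refine conj_closure_mem ?_ hg
    rintro g ⟨s, u, hs, rfl⟩
    have e1 : s ≠ r := by rcases hr with rfl | rfl; exacts [hs.2.1, hs.2.2.1]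
    have e2 : s ≠ D.neg r := by
      rcases hr with rfl | rfl
      · exact hs.2.2.1
      · rw [c.neg_neg hα]; exact hs.2.1
    rw [A.X_conj (c.wl_lt hL hr') (c.wl_lt hL hs.1) (fun e => e1 (c.wl_inj hL hs.1 hr' e))
      (fun e => e2 (c.wl_inj hL hs.1 (c.neg_lt hr') (by rw [e, c.wl_neg hL hr'])))]
    refine mul_mem (hXW hs u) (Subgroup.list_prod_mem _ fun g hg => ?_)
    obtain ⟨x, hx, rfl⟩ := List.mem_map.1 hg
    obtain ⟨y, hy, e⟩ := c.commTerms_wl hL hr' hs.1 hx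
    obtain ⟨y1, y2, y3, y4⟩ := c.commTerms_side hq hr hs.1 hs.2.1 hs.2.2.1 hy
    rw [e]
    exact hXW ⟨y1, y2, y3, y4.trans hs.2.2.2⟩ _
  have hk : A.n (c.wl L (D.simple q)) t * A.X δ u * (A.n (c.wl L (D.simple q)) t)⁻¹ ∈ W := by
    have h0 : A.X δ u ∈ W := by rw [← es]; exact hXW ⟨hs, hn1, hn2, Iff.rfl⟩ u
    have hN : c.wl L (D.neg (D.simple q)) = D.neg (c.wl L (D.simple q)) := c.wl_neg hL hα
    have := hnorm _ (Or.inl rfl) t _ (hnorm _ (Or.inr rfl) (-t⁻¹) _ (hnorm _ (Or.inl rfl) t _ h0))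
    rw [hN] at this
    simpa [n, mul_assoc] using this
  -- the subgroup `W` maps injectively
  have hW : ∀ k ∈ W, ∀ k' ∈ W, A.θ k = A.θ k' → k = k' := by
    by_cases hp : c.Pos s₀
    · have hle : W ≤ A.V L c.T.h := by
        refine (Subgroup.closure_le _).2 ?_
        rintro g ⟨s, v, hs, rfl⟩
        exact A.X_mem_V (hs.2.2.2.2 hp) (hs.2.2.2.2 hp).1 v
      exact fun k hk k' hk' => A.eq_of_mem_V hL (hle hk) (hle hk')
    · obtain ⟨M, hM, hlong⟩ := c.exists_longest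
      have hMR : ∀ p ∈ M.reverse, p < D.rank := fun p hp => hM p (List.mem_reverse.1 hp)
      have hLM : ∀ p ∈ L ++ M, p < D.rank := fun p hp =>
        (List.mem_append.1 hp).elim (hL p) (hM p)
      have hle : W ≤ A.V (L ++ M) c.T.h := by
        refine (Subgroup.closure_le _).2 ?_
        rintro g ⟨s, v, hs, rfl⟩
        have hns : ¬ c.Pos s := fun h => hp (hs.2.2.2.1 h)
        set e := c.wl M.reverse s
        have he' : e < D.nroots := c.wl_lt hMR hs.1
        have hee : c.wl M e = s := c.wl_reverse hM hs.1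
        have hepos : c.Pos e := by
          by_contra hne
          have h3 := hlong _ ((c.not_pos_iff he').1 hne)
          rw [c.wl_neg hM he', hee] at h3
          exact h3 ((c.not_pos_iff hs.1).1 hns)
        have := A.X_mem_V (L := L ++ M) hepos hepos.1 v
        rwa [c.wl_append, hee] at this
      exact fun k hk k' hk' => A.eq_of_mem_V hLM (hle hk) (hle hk')
  have hθ : A.θ (A.n (c.wl L (D.simple q)) t * A.X δ u * (A.n (c.wl L (D.simple q)) t)⁻¹) =
      c.xg ε w := by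
    rw [map_mul, map_mul, map_inv, A.θn hγ, A.θX δ hδ, he]
  by_cases hu : u = 0
  · subst hu
    rw [c.xg_zero, mul_one, mul_inv_cancel, eq_comm, c.xg_eq_one_iff hε] at he
    rw [he, A.X_zero hδ, A.X_zero hε, mul_one, mul_inv_cancel]
  -- the expected root lies on the same side
  have e1 : c.nw F L * c.ng (D.simple q) ((c.wsign L (D.simple q) : F) * t) =
      c.ng (c.wl L (D.simple q)) t * c.nw F L := by
    rw [c.nw_mul_ng hL hα, ← mul_assoc, c.wsign_sq, one_mul]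
  obtain ⟨k, hk0, hk'⟩ := c.mono_mul_xg
    (c.hg_mem hα (mul_ne_zero (c.wsign_ne_zero (F := F) L (D.simple q)) ht)) (L := [q])
    (by simpa using hq) hs
  simp only [Cert.nw_cons, Cert.nw_nil, mul_one, Cert.wl_cons, Cert.wl_nil,
    ← c.ng_eq_hg_mul_np] at hk'
  have hws : c.w q s₀ < D.nroots := c.w_lt hq hs
  set v := (c.wsign L (c.w q s₀) : F) * (k * ((c.wsign L s₀ : F) * u))
  have e2 : c.ng (c.wl L (D.simple q)) t * c.xg δ u * (c.ng (c.wl L (D.simple q)) t)⁻¹ =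
      c.xg (c.wl L (c.w q s₀)) v := by
    rw [c.xg_wl hL hws, show (c.wsign L (c.w q s₀) : F) * v = k * ((c.wsign L s₀ : F) * u) by
      rw [← mul_assoc, c.wsign_sq, one_mul]]
    rw [← es, c.xg_wl hL hs]
    set g := c.ng (D.simple q) ((c.wsign L (D.simple q) : F) * t)
    have e3 : c.xg (c.w q s₀) (k * ((c.wsign L s₀ : F) * u)) =
        g * c.xg s₀ ((c.wsign L s₀ : F) * u) * g⁻¹ := by
      rw [hk', mul_inv_cancel_right]
    have e4 : c.ng (c.wl L (D.simple q)) t = c.nw F L * g * (c.nw F L)⁻¹ := by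
      rw [e1, mul_inv_cancel_right]
    rw [e3, e4]; group
  rw [e2] at he
  have hw0 : w ≠ 0 := by
    intro hw
    rw [hw, c.xg_zero, c.xg_eq_one_iff (c.wl_lt hL hws)] at he
    rcases mul_eq_zero.1 he with h | h
    · exact c.wsign_ne_zero _ _ h
    · rcases mul_eq_zero.1 h with h | h
      · exact hk0 h
      · exact (mul_ne_zero (c.wsign_ne_zero _ _) hu) h
  obtain ⟨rfl, rfl⟩ := c.xg_root_inj (c.wl_lt hL hws) hε hw0 he
  refine hW _ hk _ (hXW ?_ _) (hθ.trans (A.θX _ (c.wl_lt hL hws) _).symm)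
  refine ⟨hws, fun e => hn2 ?_, fun e => hn1 ?_, ?_⟩
  · rw [← c.w_w hq hs, e, c.w_simple hq]
  · rw [← c.w_w hq hs, e, c.w_neg hq hα, c.w_simple hq, c.neg_neg hα]
  · by_cases hp : c.Pos s₀
    · exact iff_of_true (c.pos_w hq hp hn1).1 hp
    · refine iff_of_false (fun h => ?_) hp
      have := (c.pos_w hq ((c.not_pos_iff hs).1 hp)
        (fun e => hn2 (by rw [← e, c.neg_neg hs]))).1
      rw [c.w_neg hq hs] at this
      exact (c.not_pos_iff hws).2 this h

variable (hN : checkNbr c.T = true)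
include hN

omit A in
theorem exists_neighbour {p : ℕ} (hp : p < D.rank) :
    ∃ q < D.rank, q ≠ p ∧ c.w q (D.simple p) ≠ D.simple q ∧
      c.w q (D.simple p) ≠ D.neg (D.simple q) ∧ c.w q (D.simple p) ≠ D.simple p ∧
      c.w q (D.simple p) ≠ D.neg (D.simple p) := by
  simp only [checkNbr, Tables.allNodes, List.all_eq_true, List.mem_range, List.any_eq_true,
    Bool.and_eq_true, Bool.not_eq_true', beq_eq_false_iff_ne] at hN
  obtain ⟨q, hq, hne, hc⟩ := hN p (c.rank_eq ▸ hp)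
  have hne : q ≠ p := fun e => by subst e; simp at hne
  have hq' : q < D.rank := c.rank_eq.symm ▸ hq
  have hα := c.simple_lt hp
  have hb := c.simple_lt hq'
  have hpos := (c.pos_w hq' (c.pos_simple hp) fun e => hne (c.simple_inj hp hq' e).symm)
  refine ⟨q, hq', hne, hpos.2, fun e => (c.not_pos_iff hb).2 (e ▸ hpos.1) (c.pos_simple hq'),
    fun e => ?_, fun e => (c.not_pos_iff hα).2 (e ▸ hpos.1) (c.pos_simple hp)⟩
  have h := c.vec_w hq' hα hq'
  rw [e, if_pos rfl, c.cartan_eq hq' hα, c.simple_eq hp] at h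
  omega

/-- Conjugation by `n_p(1)`. -/
theorem np_conj {p : ℕ} (hp : p < D.rank) {s : ℕ} (hs : s < D.nroots) (u : F) :
    A.n (D.simple p) 1 * A.X s u * (A.n (D.simple p) 1)⁻¹ =
      A.X (c.w p s) ((c.T.eta p s : F) * u) := by
  have base : ∀ p < D.rank, ∀ s < D.nroots, s ≠ D.simple p → s ≠ D.neg (D.simple p) → ∀ u : F,
      A.n (D.simple p) 1 * A.X s u * (A.n (D.simple p) 1)⁻¹ =
        A.X (c.w p s) ((c.T.eta p s : F) * u) := fun p hp s hs h1 h2 u =>
    A.n_conj (c.simple_lt hp) hs h1 h2 one_ne_zero u (c.w_lt hp hs)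
      (by rw [c.ng_conj hp hs, mul_inv_cancel_right])
  by_cases h12 : s ≠ D.simple p ∧ s ≠ D.neg (D.simple p)
  · exact base p hp s hs h12.1 h12.2 u
  obtain ⟨q, hq, hqp, q1, q2, q3, q4⟩ := exists_neighbour hN hp
  have hα := c.simple_lt hp
  have hb := c.simple_lt hq
  -- write the root as the image of another one
  have hcases : s = D.simple p ∨ s = D.neg (D.simple p) := by tauto
  have hs' : c.w q s < D.nroots := c.w_lt hq hs
  have n1 : c.w q s ≠ D.simple q ∧ c.w q s ≠ D.neg (D.simple q) ∧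
      c.w q s ≠ D.simple p ∧ c.w q s ≠ D.neg (D.simple p) := by
    have hlt := c.w_lt hq hα
    rcases hcases with rfl | rfl
    · exact ⟨q1, q2, q3, q4⟩
    · rw [c.w_neg hq hα]
      refine ⟨fun e => q2 ?_, fun e => q1 (c.neg_inj hlt hb e),
        fun e => q4 ?_, fun e => q3 (c.neg_inj hlt hα e)⟩
      · rw [← c.neg_neg hlt, e]
      · rw [← c.neg_neg hlt, e]
  set u' : F := (c.T.eta q (c.w q s) : F) * u
  have e0 : A.X s u =
      A.n (D.simple q) 1 * A.X (c.w q s) u' * (A.n (D.simple q) 1)⁻¹ := by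
    rw [base q hq _ hs' n1.1 n1.2.1, c.w_w hq hs, ← mul_assoc, c.eta_F_sq, one_mul]
  have hqα : D.simple q ≠ D.simple p := fun e => hqp (c.simple_inj hq hp e)
  have hqα' : D.simple q ≠ D.neg (D.simple p) := fun e =>
    (c.not_pos_iff hα).2 (e ▸ c.pos_simple hq) (c.pos_simple hp)
  have hnb : D.neg (D.simple q) ≠ D.simple p ∧ D.neg (D.simple q) ≠ D.neg (D.simple p) :=
    ⟨fun e => hqα' (by rw [← e, c.neg_neg hb]), fun e => hqα (c.neg_inj hb hα e)⟩
  set η : F := (c.T.eta p (D.simple q) : F) with hηdef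
  have hη : η⁻¹ = η := inv_eq_of_mul_eq_one_right (c.eta_F_sq p (D.simple q))
  have hη0 : η ≠ 0 := left_ne_zero_of_mul (b := η) (by rw [c.eta_F_sq]; exact one_ne_zero)
  set N := A.n (D.simple p) (1 : F) with hNdef
  have e1 : N * A.n (D.simple q) 1 * N⁻¹ = A.n (c.w p (D.simple q)) η := by
    have a1 := base p hp _ hb hqα hqα' (1 : F)
    have a2 := base p hp _ (c.neg_lt hb) hnb.1 hnb.2 (-(1 : F)⁻¹)
    rw [c.w_neg hp hb, c.eta_neg hp hb, inv_one, mul_neg, mul_one] at a2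
    rw [mul_one] at a1
    simp only [StData.n, inv_one, hη] at a1 a2 ⊢
    rw [← a1, ← a2, hNdef, StData.n]
    simp only [inv_one]
    group
  have e2 := base p hp _ hs' n1.2.2.1 n1.2.2.2 u'
  rw [← hNdef] at e2
  have e3 : N * A.X s u * N⁻¹ = A.n (c.w p (D.simple q)) η *
      A.X (c.w p (c.w q s)) ((c.T.eta p (c.w q s) : F) * u') *
        (A.n (c.w p (D.simple q)) η)⁻¹ := by
    rw [e0, ← e1, ← e2]; group
  rw [e3]
  refine A.n_conj (c.w_lt hp hb) (c.w_lt hp hs')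
    (fun e => n1.1 (c.w_inj hp hs' hb e))
    (fun e => n1.2.1 (c.w_inj hp hs' (c.neg_lt hb) (by rw [e, c.w_neg hp hb]))) hη0 _
    (c.w_lt hp hs) ?_
  have e4 := congrArg A.θ e3
  simp only [map_mul, map_inv, hNdef, A.θn hα, A.θn (c.w_lt hp hb), A.θX s hs,
    A.θX _ (c.w_lt hp hs')] at e4
  rw [← e4, c.ng_conj hp hs, mul_inv_cancel_right]

/-- The scalar of `h_p(t)` on a root. -/
def chi (p : ℕ) (t : Fˣ) (s : ℕ) : Fˣ := c.tchar (fun i => t ^ c.T.coroot (D.simple p) i) s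

omit A hN in
theorem hg_conj {p : ℕ} (hp : p < D.rank) (t : Fˣ) {s : ℕ} (hs : s < D.nroots) (u : F) :
    c.hg (D.simple p) (t : F) * c.xg s u * (c.hg (D.simple p) (t : F))⁻¹ =
      c.xg s ((chi (c := c) p t s : F) * u) := by
  rw [c.hg_eq_torus (c.simple_lt hp), Cert.torus_apply,
    c.dg_mul_xg (c.tchar_isRootCharacter _) hs, mul_inv_cancel_right]
  rfl

/-- Conjugation by `h_p(t)`. -/
theorem h_conj {p : ℕ} (hp : p < D.rank) (t : Fˣ) {s : ℕ} (hs : s < D.nroots) (u : F) :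
    A.h (D.simple p) (t : F) * A.X s u * (A.h (D.simple p) (t : F))⁻¹ =
      A.X s ((chi (c := c) p t s : F) * u) := by
  have base : ∀ s < D.nroots, s ≠ D.simple p → s ≠ D.neg (D.simple p) → ∀ u : F,
      A.h (D.simple p) (t : F) * A.X s u * (A.h (D.simple p) (t : F))⁻¹ =
        A.X s ((chi (c := c) p t s : F) * u) := by
    intro s hs h1 h2 u
    have hα := c.simple_lt hp
    have hws := c.w_lt hp hs
    have hm : c.ng (D.simple p) (-1 : F) * c.xg s u * (c.ng (D.simple p) (-1 : F))⁻¹ =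
        c.xg (c.w p s) ((c.T.eta p (c.w p s) : F) * u) := by
      have := c.ng_conj hp hws ((c.T.eta p (c.w p s) : F) * u)
      rw [c.w_w hp hs, ← mul_assoc, c.eta_F_sq, one_mul] at this
      rw [← c.ng_inv, inv_inv, mul_assoc, ← this, ← mul_assoc, inv_mul_cancel, one_mul]
    have e1 := A.n_conj hα hs h1 h2 (neg_ne_zero.2 one_ne_zero) u hws hm
    have e2 : A.h (D.simple p) (t : F) * A.X s u * (A.h (D.simple p) (t : F))⁻¹ =
        A.n (D.simple p) (t : F) * A.X (c.w p s) ((c.T.eta p (c.w p s) : F) * u) *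
          (A.n (D.simple p) (t : F))⁻¹ := by
      rw [← e1, StData.h]; group
    rw [e2]
    refine A.n_conj hα hws
      (fun e => h2 (c.w_inj hp hs (c.neg_lt hα)
        (by rw [e, c.w_neg hp hα, c.w_simple hp, c.neg_neg hα])))
      (fun e => h1 (c.w_inj hp hs hα (by rw [e, c.w_simple hp]))) (Units.ne_zero t) _ hs ?_
    rw [← hg_conj hp t hs u, ← hm, Cert.hg]
    group
  by_cases h12 : s ≠ D.simple p ∧ s ≠ D.neg (D.simple p)
  · exact base s hs h12.1 h12.2 u
  obtain ⟨q, hq, hqp, q1, q2, q3, q4⟩ := exists_neighbour hN hp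
  have hα := c.simple_lt hp
  have hb := c.simple_lt hq
  have hcases : s = D.simple p ∨ s = D.neg (D.simple p) := by tauto
  have hs' : c.w q s < D.nroots := c.w_lt hq hs
  have n1 : c.w q s ≠ D.simple q ∧ c.w q s ≠ D.neg (D.simple q) ∧
      c.w q s ≠ D.simple p ∧ c.w q s ≠ D.neg (D.simple p) := by
    have hlt := c.w_lt hq hα
    rcases hcases with rfl | rfl
    · exact ⟨q1, q2, q3, q4⟩
    · rw [c.w_neg hq hα]
      refine ⟨fun e => q2 ?_, fun e => q1 (c.neg_inj hlt hb e),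
        fun e => q4 ?_, fun e => q3 (c.neg_inj hlt hα e)⟩
      · rw [← c.neg_neg hlt, e]
      · rw [← c.neg_neg hlt, e]
  set u' : F := (c.T.eta q (c.w q s) : F) * u
  have e0 : A.X s u = A.n (D.simple q) 1 * A.X (c.w q s) u' * (A.n (D.simple q) 1)⁻¹ := by
    rw [A.np_conj hN hq hs', c.w_w hq hs, ← mul_assoc, c.eta_F_sq, one_mul]
  have hqα : D.simple q ≠ D.simple p := fun e => hqp (c.simple_inj hq hp e)
  have hqα' : D.simple q ≠ D.neg (D.simple p) := fun e =>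
    (c.not_pos_iff hα).2 (e ▸ c.pos_simple hq) (c.pos_simple hp)
  have hnb : D.neg (D.simple q) ≠ D.simple p ∧ D.neg (D.simple q) ≠ D.neg (D.simple p) :=
    ⟨fun e => hqα' (by rw [← e, c.neg_neg hb]), fun e => hqα (c.neg_inj hb hα e)⟩
  set H := A.h (D.simple p) (t : F) with hHdef
  set χ : F := (chi (c := c) p t (D.simple q) : F) with hχdef
  have hχ : (chi (c := c) p t (D.neg (D.simple q)) : F) = χ⁻¹ := by
    rw [hχdef, chi, chi, c.tchar_neg _ hb, Units.val_inv_eq_inv_val]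
  have e1 : H * A.n (D.simple q) 1 * H⁻¹ = A.n (D.simple q) χ := by
    have a1 := base _ hb hqα hqα' (1 : F)
    have a2 := base _ (c.neg_lt hb) hnb.1 hnb.2 (-(1 : F)⁻¹)
    rw [mul_one, ← hχdef] at a1
    rw [hχ, inv_one, mul_neg, mul_one] at a2
    simp only [StData.n, inv_one]
    rw [← a1, ← a2]
    group
  have e2 := base _ hs' n1.2.2.1 n1.2.2.2 u'
  have e3 : H * A.X s u * H⁻¹ = A.n (D.simple q) χ *
      A.X (c.w q s) ((chi (c := c) p t (c.w q s) : F) * u') * (A.n (D.simple q) χ)⁻¹ := by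
    rw [e0, ← e1, ← e2]; group
  rw [e3]
  refine A.n_conj hb hs' n1.1 n1.2.1 (by rw [hχdef]; exact Units.ne_zero _) _ hs ?_
  have e4 := congrArg A.θ e3
  simp only [map_mul, map_inv, hHdef, A.θh hα, A.θn hb, A.θX s hs, A.θX _ hs'] at e4
  rw [← e4, hg_conj hp t hs]

end StData

end Cfsg.Agent.Lie.Chev
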