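import Cfsg.Agent.Lib.Lie.CycMatrix
import Cfsg.Agent.Lib.Lie.Chev.D4Torus
import Cfsg.Agent.Lib.Lie.Chev.SteinbergConj

/-! Maximal tori of order `Φₙ(q)` with `φ(n)` the rank, in Chevalley groups whose torus is simply
connected: the centraliser of an element of primitive prime order is cyclic and self-centralising. -/

set_option autoImplicit false
set_option maxRecDepth 4000

namespace Cfsg.Agent.Lie.Chev

open Cfsg.Lie Matrix

namespace CertFull

variable {D : ChevalleyDatum} (c : CertFull D) {F : Type*} [Field F]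

/-- The matrix of a word on the fundamental roots. -/
def wmat (L : List ℕ) : Matrix (Fin D.rank) (Fin D.rank) ℤ :=
  Matrix.of fun i j => c.T.vec (c.wl L (D.simple i)) j

/-- The values of a parameter vector at the fundamental roots. -/
def chi (z : ℕ → Fˣ) (i : Fin D.rank) : Fˣ := c.tchar z (D.simple i)

include c

theorem vec_inj {r s : ℕ} (hr : r < D.nroots) (hs : s < D.nroots)
    (h : ∀ j < D.rank, c.T.vec r j = c.T.vec s j) : r = s := by
  refine c.code_inj hr hs ?_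
  rw [(c.linear_root hr).1, (c.linear_root hs).1]
  congr 1
  refine List.map_congr_left fun j hj => ?_
  rw [h j (c.rank_eq.symm ▸ List.mem_range.1 hj)]

theorem tchar_pow (z : ℕ → Fˣ) (k s : ℕ) : c.tchar (z ^ k) s = c.tchar z s ^ k := by
  rw [Cert.tchar, Cert.tchar, ← Finset.prod_pow]
  refine Finset.prod_congr rfl fun i _ => ?_
  rw [Pi.pow_apply, ← zpow_natCast, ← zpow_natCast, ← _root_.zpow_mul, ← _root_.zpow_mul, mul_comm]

theorem chi_one : c.chi (1 : ℕ → Fˣ) = 1 := by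
  funext i
  simp [chi, Cert.tchar]

theorem chi_mul (z w : ℕ → Fˣ) : c.chi (z * w) = c.chi z * c.chi w := by
  funext i
  simp [chi, Cert.tchar, mul_zpow, Finset.prod_mul_distrib]

theorem tchar_eq_chi (z : ℕ → Fˣ) {s : ℕ} (hs : s < D.nroots) :
    c.tchar z s = ∏ j : Fin D.rank, c.chi z j ^ c.T.vec s j := by
  rw [c.tchar_eq_prod z hs, Finset.prod_range]
  rfl

theorem tchar_wl (z : ℕ → Fˣ) {L : List ℕ} (hL : ∀ p ∈ L, p < D.rank) {s : ℕ}
    (hs : s < D.nroots) :
    c.tchar z (c.wl L s) = ∏ i : Fin D.rank, c.tchar z (c.wl L (D.simple i)) ^ c.T.vec s i := by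
  rw [c.tchar_eq_chi z (c.wl_lt hL hs)]
  simp only [fun i : Fin D.rank => c.tchar_eq_chi z (c.wl_lt hL (c.simple_lt i.2)),
    ← Finset.prod_zpow, ← _root_.zpow_mul]
  rw [Finset.prod_comm]
  refine Finset.prod_congr rfl fun j _ => ?_
  rw [zpow_sum_eq, c.wl_vec hL hs j.2, Finset.sum_range]
  congr 1
  exact Finset.sum_congr rfl fun i _ => mul_comm _ _

theorem tchar_wl_simple (z : ℕ → Fˣ) {L : List ℕ} (hL : ∀ p ∈ L, p < D.rank) :
    (fun i : Fin D.rank => c.tchar z (c.wl L (D.simple i))) = mpow (c.wmat L)ᵀ (c.chi z) := by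
  funext i
  rw [c.tchar_eq_chi z (c.wl_lt hL (c.simple_lt i.2))]
  rfl

theorem torus_eq_of_chi {z z' : ℕ → Fˣ} (h : c.chi z = c.chi z') : c.torus z = c.torus z' := by
  rw [Cert.torus_apply, Cert.torus_apply]
  refine dg_ext D F fun s hs => ?_
  rw [c.tchar_eq_chi z hs, c.tchar_eq_chi z' hs, h]

theorem wmat_append {L M : List ℕ} (hL : ∀ p ∈ L, p < D.rank) (hM : ∀ p ∈ M, p < D.rank) :
    c.wmat (L ++ M) = c.wmat M * c.wmat L := by
  refine Matrix.ext fun i j => ?_
  simp only [wmat, Matrix.of_apply, Matrix.mul_apply, c.wl_append]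
  rw [c.wl_vec hL (c.wl_lt hM (c.simple_lt i.2)) j.2, Finset.sum_range]

theorem wmat_of_fix {L : List ℕ} (h : ∀ i < D.rank, c.wl L (D.simple i) = D.simple i) :
    c.wmat L = 1 := by
  refine Matrix.ext fun i j => ?_
  simp only [wmat, Matrix.of_apply, h i i.2, c.vec_simple i.2 j.2, Matrix.one_apply, Fin.ext_iff]
  by_cases e : (j : ℕ) = i
  · rw [if_pos e, if_pos e.symm]
  · rw [if_neg e, if_neg (Ne.symm e)]

theorem wmat_reverse {L : List ℕ} (hL : ∀ p ∈ L, p < D.rank) :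
    c.wmat L.reverse * c.wmat L = 1 := by
  have hR : ∀ p ∈ L.reverse, p < D.rank := fun p hp => hL p (List.mem_reverse.1 hp)
  rw [← c.wmat_append hL hR]
  exact c.wmat_of_fix fun i hi => by rw [c.wl_append, c.wl_reverse hL (c.simple_lt hi)]

theorem wl_eq_self_of_wmat {L : List ℕ} (hL : ∀ p ∈ L, p < D.rank) (h : c.wmat L = 1) {s : ℕ}
    (hs : s < D.nroots) : c.wl L s = s := by
  refine c.vec_inj (c.wl_lt hL hs) hs fun j hj => ?_
  rw [c.wl_vec hL hs hj, Finset.sum_eq_single j]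
  · have := congrFun (congrFun h ⟨j, hj⟩) ⟨j, hj⟩
    simp only [wmat, Matrix.of_apply, Matrix.one_apply_eq] at this
    rw [this, mul_one]
  · intro i hi hne
    rw [Finset.mem_range] at hi
    have := congrFun (congrFun h ⟨i, hi⟩) ⟨j, hj⟩
    rw [Matrix.one_apply_ne (by simpa [Fin.ext_iff] using hne)] at this
    simp only [wmat, Matrix.of_apply] at this
    rw [this, mul_zero]
  · simp [hj]

/-- The group of matrices of words. -/
def weylMat : Subgroup (Matrix (Fin D.rank) (Fin D.rank) ℤ)ˣ where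
  carrier := {u | ∃ L : List ℕ, (∀ p ∈ L, p < D.rank) ∧
    (u : Matrix (Fin D.rank) (Fin D.rank) ℤ) = c.wmat L}
  one_mem' := ⟨[], by simp, (c.wmat_of_fix fun i _ => rfl).symm⟩
  mul_mem' := fun {u v} ⟨L, hL, hu⟩ ⟨M, hM, hv⟩ => ⟨M ++ L,
    fun p hp => (List.mem_append.1 hp).elim (hM p) (hL p), by
      rw [Units.val_mul, hu, hv, c.wmat_append hM hL]⟩
  inv_mem' := fun {u} ⟨L, hL, hu⟩ => ⟨L.reverse, fun p hp => hL p (List.mem_reverse.1 hp),
    Units.inv_eq_of_mul_eq_one_left (by rw [hu, c.wmat_reverse hL])⟩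

theorem finite_weylMat : Finite c.weylMat := by
  classical
  have h : ∀ u : c.weylMat, ∃ f : Fin D.rank → Fin D.nroots,
      ((u.1 : Matrix (Fin D.rank) (Fin D.rank) ℤ)) =
        Matrix.of fun (i j : Fin D.rank) => c.T.vec (f i) j :=
    fun u => by
      obtain ⟨L, hL, e⟩ := u.2
      exact ⟨fun i => ⟨_, c.wl_lt hL (c.simple_lt i.2)⟩, e⟩
  choose f hf using h
  exact Finite.of_injective f fun u v e => Subtype.ext (Units.ext (by rw [hf u, hf v, e]))

theorem exists_weylMat {L : List ℕ} (hL : ∀ p ∈ L, p < D.rank) :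
    ∃ a ∈ c.weylMat, (a : Matrix (Fin D.rank) (Fin D.rank) ℤ) = c.wmat L :=
  ⟨⟨c.wmat L, c.wmat L.reverse,
    by
      have h := c.wmat_reverse (L := L.reverse) fun p hp => hL p (List.mem_reverse.1 hp)
      rwa [List.reverse_reverse] at h,
    c.wmat_reverse hL⟩, ⟨L, hL, rfl⟩, rfl⟩

theorem tchar_of_nw_conj {L : List ℕ} (hL : ∀ p ∈ L, p < D.rank) {z z' : ℕ → Fˣ}
    (h : c.nw F L * c.torus z * (c.nw F L)⁻¹ = c.torus z') {s : ℕ} (hs : s < D.nroots) :
    c.tchar z' (c.wl L s) = c.tchar z s := by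
  refine Units.ext (c.xg_inj (c.wl_lt hL hs) ?_)
  have e : ∀ t : F, c.xg (c.wl L s) t =
      c.nw F L * c.xg s ((c.wsign L s : F) * t) * (c.nw F L)⁻¹ := fun t => c.xg_wl hL hs t
  rw [← mul_one ((c.tchar z' _ : Fˣ) : F), ← c.torus_conj_xg z' (c.wl_lt hL hs), e, e, ← h,
    mul_one, mul_comm _ ((c.tchar z s : Fˣ) : F), ← c.torus_conj_xg z hs]
  group

theorem nw_conj_torus {L : List ℕ} (hL : ∀ p ∈ L, p < D.rank) {z z' : ℕ → Fˣ}
    (h : ∀ s < D.nroots, c.tchar z' (c.wl L s) = c.tchar z s) :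
    c.nw F L * c.torus z * (c.nw F L)⁻¹ = c.torus z' := by
  have hmem := c.N_conj_H (c.nw_mem_N (F := F) hL) (c.torus_mem z)
  rw [c.diagonalSubgroup_eq] at hmem
  obtain ⟨z'', hz''⟩ := hmem
  rw [← hz'', Cert.torus_apply, Cert.torus_apply]
  refine dg_ext D F fun s hs => ?_
  have hR : ∀ p ∈ L.reverse, p < D.rank := fun p hp => hL p (List.mem_reverse.1 hp)
  have h' := c.tchar_of_nw_conj hL hz''.symm (c.wl_lt hR hs)
  rw [c.wl_reverse hL hs] at h'
  rw [h', ← h _ (c.wl_lt hR hs), c.wl_reverse hL hs]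

/-- Conjugate elements of the torus are conjugate under the Weyl group. -/
theorem exists_nw_of_conj {z z' : ℕ → Fˣ} {g : GL D.Idx F} (hg : g ∈ D.group F)
    (he : g * c.torus z * g⁻¹ = c.torus z') :
    ∃ L : List ℕ, (∀ p ∈ L, p < D.rank) ∧
      c.nw F L * c.torus z * (c.nw F L)⁻¹ = c.torus z' := by
  set h := c.torus z with hdef
  set h' := c.torus z' with hdef'
  have h1 : h ∈ D.diagonalSubgroup F := c.torus_mem z
  have h1' : h' ∈ D.diagonalSubgroup F := c.torus_mem z'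
  rw [mul_inv_eq_iff_eq_mul] at he
  obtain ⟨b, hb, a, ha, L, hL, u, hu, rfl⟩ := c.bruhat_exists hg
  refine ⟨L, hL, ?_⟩
  set n := a * c.nw F L with hndef
  have hn : n ∈ D.monomialSubgroup F := mul_mem (Subgroup.mem_sup_left ha) (c.nw_mem_N hL)
  obtain ⟨v, hv, d, hd, rfl⟩ := c.mem_borel_iff.1 hb
  set m := d * n * h * n⁻¹ * d⁻¹ with hmdef
  have hm : m ∈ D.diagonalSubgroup F := by
    have := c.N_conj_H (mul_mem (Subgroup.mem_sup_left hd) hn) h1
    simpa [m, mul_assoc] using this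
  have hv' : h' * v * h'⁻¹ ∈ D.posUnipotent F :=
    (Subgroup.mem_normalizer_iff.1 (c.H_le_normalizer_U h1') v).1 hv
  have hu' : h⁻¹ * u * h ∈ c.KS F (c.invSet L) c.T.h := by
    have h2 := c.torus_le_normalizer (S := {g | ∃ r t, r ∈ c.invSet L ∧ c.T.h ≤ r ∧
      g = c.xg r (t : F)}) (fun g ⟨r, t, hr, hle, e⟩ =>
        ⟨r, hr.1.2, t, e, fun s => c.xg_mem_KS hr hle s⟩) (inv_mem h1)
    have := (Subgroup.mem_normalizer_iff.1 h2 u).1 hu
    rwa [inv_inv] at this
  have e' : (h' * v * h'⁻¹ * (h' * d)) * n * u = (v * (m * d)) * n * (h⁻¹ * u * h) :=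
    calc (h' * v * h'⁻¹ * (h' * d)) * n * u = h' * (v * d * n * u) := by group
      _ = v * d * n * u * h := he.symm
      _ = _ := by rw [hmdef]; group
  obtain ⟨h3, -⟩ := c.bruhat_unique_factors ha hL
    (mul_mem (Subgroup.mem_sup_left hv') (c.H_le_B (mul_mem h1' hd)))
    (mul_mem (Subgroup.mem_sup_left hv) (c.H_le_B (mul_mem hm hd))) hu hu' e'
  have h4 : v⁻¹ * (h' * v * h'⁻¹) = (m * d) * (h' * d)⁻¹ :=
    calc v⁻¹ * (h' * v * h'⁻¹) = v⁻¹ * (h' * v * h'⁻¹ * (h' * d)) * (h' * d)⁻¹ := by group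
      _ = _ := by rw [h3]; group
  have h5 := c.U_inf_H.le (Subgroup.mem_inf.2 ⟨mul_mem (inv_mem hv) hv',
    (h4 ▸ mul_mem (mul_mem hm hd) (inv_mem (mul_mem h1' hd)))⟩)
  rw [Subgroup.mem_bot, h4, mul_inv_eq_one, mul_left_inj] at h5
  obtain ⟨x, hx⟩ : ∃ x, x = c.nw F L * h * (c.nw F L)⁻¹ := ⟨_, rfl⟩
  have hxH : x ∈ D.diagonalSubgroup F := hx ▸ c.N_conj_H (c.nw_mem_N hL) h1
  rw [← hx, ← h5, hmdef, hndef]
  calc x = (d * a) * x * (d * a)⁻¹ := by
        rw [c.H_commutative (mul_mem hd ha) hxH, mul_inv_cancel_right]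
    _ = _ := by rw [hx]; group

omit c in
theorem mpow_sub {G : Type*} [CommGroup G] {l : ℕ} (M N : Matrix (Fin l) (Fin l) ℤ)
    (ξ : Fin l → G) : mpow (M - N) ξ = mpow M ξ / mpow N ξ := by
  funext j
  show ∏ i, ξ i ^ (M - N) i j = (∏ i, ξ i ^ M i j) / ∏ i, ξ i ^ N i j
  rw [← Finset.prod_div_distrib]
  exact Finset.prod_congr rfl fun i _ => by rw [Matrix.sub_apply, _root_.zpow_sub, div_eq_mul_inv]

omit c in
theorem mpow_smul_one {G : Type*} [CommGroup G] {l : ℕ} (k : ℕ) (ξ : Fin l → G) :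
    mpow ((k : ℤ) • (1 : Matrix (Fin l) (Fin l) ℤ)) ξ = ξ ^ k := by
  funext j
  show ∏ i, ξ i ^ (((k : ℤ) • (1 : Matrix (Fin l) (Fin l) ℤ)) i j) = ξ j ^ k
  rw [Finset.prod_eq_single j]
  · simp
  · intro b _ hb; simp [Matrix.one_apply_ne hb]
  · simp

set_option maxHeartbeats 1000000 in
/-- The torus of order `Φₙ(q)`, from an extension of degree `n`. -/
theorem exists_cyclotomic_torus_of_ext {L : Type*} [Field L] [Fintype F] [Fintype L] (ι : F →+* L)
    {q : ℕ} (hF : Fintype.card F = q) (φ : L →+* L) (hφ : ∀ t, φ t = t ^ q) {n : ℕ}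
    (hn : n.totient = D.rank) (hn1 : 1 < n) (hL : Fintype.card L = q ^ n) {Ls : List (List Rep)}
    {ds : List ℕ} (hc : c.T.checkLevels Ls = true) (hlen : Ls.length = D.rank)
    (hpoly : checkPoly D.rank Ls ds = true) (hds : n ∈ ds)
    (hHF : 1 * Nat.card (D.diagonalSubgroup F) = (Fintype.card F - 1) ^ D.rank)
    (hHL : Nat.card (D.diagonalSubgroup L) = (Fintype.card L - 1) ^ D.rank)
    {r : ℕ} [Fact r.Prime] (hr : (r : ℤ) ∣ (Polynomial.cyclotomic n ℤ).eval (q : ℤ))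
    (hrn : ¬ r ∣ n) (hrl : D.rank + 1 < r) (hrW : ¬ r ∣ (chainWords Ls).length)
    (hs : ∀ s : ℕ, s.Prime → s ∣ n →
      ¬ (s : ℤ) ^ 2 ∣ (Polynomial.cyclotomic n ℤ).eval (q : ℤ)) :
    ∃ H : Subgroup ↥(D.group F), IsCyclic ↥H ∧
      Nat.card ↥H = ((Polynomial.cyclotomic n ℤ).eval (q : ℤ)).natAbs ∧
      Subgroup.centralizer (H : Set ↥(D.group F)) = H := by
  classical
  have hrp : r.Prime := Fact.out
  have hq : 1 < q := hF ▸ Fintype.one_lt_card
  have hrank : 0 < D.rank := hn ▸ Nat.totient_pos.2 (by omega)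
  obtain ⟨N, hN⟩ : ∃ N, N = ((Polynomial.cyclotomic n ℤ).eval (q : ℤ)).natAbs := ⟨_, rfl⟩
  have hNdvd : N ∣ q ^ n - 1 := by
    have h := Polynomial.eval_dvd (x := (q : ℤ)) (Polynomial.cyclotomic.dvd_X_pow_sub_one n ℤ)
    rw [Polynomial.eval_sub, Polynomial.eval_pow, Polynomial.eval_X, Polynomial.eval_one,
      show (q : ℤ) ^ n - 1 = ((q ^ n - 1 : ℕ) : ℤ) by
        push_cast [Nat.cast_sub (Nat.one_le_pow n q (by omega))]; ring,
      ← Int.natAbs_dvd_natAbs, Int.natAbs_natCast] at h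
    exact hN ▸ h
  have hrN : r ∣ N := by
    rw [hN]; exact Int.natCast_dvd.1 hr
  have hr1 : r ∣ q ^ n - 1 := hrN.trans hNdvd
  have hq1 : ((q : ZMod r)) ^ n = 1 := by
    have h := (ZMod.natCast_eq_zero_iff _ _).2 hr1
    rw [Nat.cast_sub (Nat.one_le_pow n q (by omega)), Nat.cast_pow, Nat.cast_one, sub_eq_zero] at h
    exact h
  have hq0 : (q : ZMod r) ≠ 0 := fun e => by
    rw [e, zero_pow (by omega)] at hq1; exact zero_ne_one hq1
  -- the fixed field
  have hφι : ∀ t, φ (ι t) = ι t := fun t => by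
    rw [hφ, ← map_pow, ← hF, FiniteField.pow_card]
  have hrange : Set.range ι = {t | φ t = t} := by
    ext t
    refine ⟨fun ⟨x, hx⟩ => hx ▸ hφι x, fun ht => ?_⟩
    by_contra hno
    set P : Polynomial L := Polynomial.X ^ q - Polynomial.X
    have hdeg : P.natDegree = q := FiniteField.X_pow_card_sub_X_natDegree_eq L hq
    have hP0 : P ≠ 0 := FiniteField.X_pow_card_sub_X_ne_zero L hq
    have h := Polynomial.card_le_degree_of_subset_roots (p := P)
      (Z := insert t (Finset.univ.image ι)) (fun x hx => by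
        rw [Finset.mem_val, Finset.mem_insert, Finset.mem_image] at hx
        rw [Polynomial.mem_roots hP0]
        rcases hx with rfl | ⟨y, -, rfl⟩
        · simp [P, ← hφ, show φ x = x from ht]
        · simp [P, ← hφ, hφι])
    rw [Finset.card_insert_of_notMem (fun h => hno (by simpa using h)),
      Finset.card_image_of_injective _ ι.injective, Finset.card_univ, hF, hdeg] at h
    omega
  obtain ⟨mι, hmι⟩ : ∃ m : GL D.Idx F →* GL D.Idx L,
      m = Matrix.GeneralLinearGroup.map ι := ⟨_, rfl⟩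
  obtain ⟨σ, hσ⟩ : ∃ m : GL D.Idx L →* GL D.Idx L,
      m = Matrix.GeneralLinearGroup.map φ := ⟨_, rfl⟩
  have hσι : ∀ y, σ (mι y) = mι y := fun y => by
    rw [hσ, hmι]
    exact Units.ext (Matrix.ext fun i j => hφι _)
  have hinj : Function.Injective mι := fun x y e => by
    rw [hmι] at e
    exact Units.ext (Matrix.ext fun i j =>
      ι.injective (congrArg (fun v : GL D.Idx L => (v : Matrix D.Idx D.Idx L) i j) e))
  -- an element of order r
  obtain ⟨x, hx⟩ : ∃ x : ↥(D.group F), orderOf x = r := by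
    haveI : Finite ↥(D.group F) := Subtype.finite
    refine exists_prime_orderOf_dvd_card' r ?_
    have h := c.card_group_formula (F := F) hc hlen hpoly hHF
    rw [one_mul, hF] at h
    rw [h]
    exact dvd_mul_of_dvd_right
      (hr1.trans (List.dvd_prod (List.mem_map.2 ⟨n, hds, rfl⟩))) _
  -- conjugate it into the torus
  obtain ⟨g, hg, z, hgz⟩ : ∃ g ∈ D.group L, ∃ z : ℕ → Lˣ,
      g * mι (x : GL D.Idx F) * g⁻¹ = c.torus z := by
    have hle : D.diagonalSubgroup L ≤ D.group L := fun a ha => c.B_le_group (c.H_le_B ha)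
    obtain ⟨HH, hHH⟩ : ∃ HH, HH = (D.diagonalSubgroup L).subgroupOf (D.group L) := ⟨_, rfl⟩
    obtain ⟨S⟩ := Sylow.nonempty (p := r) (G := ↥HH)
    obtain ⟨R, hR⟩ := (S.isPGroup'.map HH.subtype).exists_le_sylow
    have hcardH : Nat.card HH = Nat.card (D.diagonalSubgroup L) :=
      hHH ▸ Nat.card_congr (Subgroup.subgroupOfEquivOfLe hle).toEquiv
    have hG : ∃ k, Nat.card ↥(D.group L) = Nat.card HH * k ∧ ¬ r ∣ k := by
      refine ⟨Fintype.card L ^ (D.nroots / 2) *
        ((chainWords Ls).map fun v => Fintype.card L ^ c.invN v).sum, ?_, fun h => hrW ?_⟩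
      · rw [c.card_group (F := L) hc hlen, hcardH]; ring
      · rw [← ZMod.natCast_eq_zero_iff] at h ⊢
        have h1 : ((Fintype.card L : ℕ) : ZMod r) = 1 := by rw [hL, Nat.cast_pow, hq1]
        rw [Nat.cast_mul, Nat.cast_pow, h1, one_pow, one_mul, Nat.cast_list_sum, List.map_map] at h
        rw [← h]
        simp [Function.comp_def, h1]
    obtain ⟨k, hk, hrk⟩ := hG
    have hRH : (R : Subgroup ↥(D.group L)) ≤ HH := by
      have hcard : Nat.card (R : Subgroup ↥(D.group L)) ≤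
          Nat.card ((S : Subgroup ↥HH).map HH.subtype) := by
        have hk0 : k ≠ 0 := fun e => hrk (e ▸ dvd_zero r)
        rw [Subgroup.card_map_of_injective HH.subtype_injective, R.card_eq_multiplicity,
          S.card_eq_multiplicity, hk, Nat.factorization_mul (Nat.card_pos).ne' hk0,
          Finsupp.add_apply, Nat.factorization_eq_zero_of_not_dvd hrk, add_zero]
      rw [← Subgroup.eq_of_le_of_card_ge hR hcard]
      exact Subgroup.map_subtype_le _
    obtain ⟨X, hX⟩ : ∃ X : ↥(D.group L), (X : GL D.Idx L) = mι (x : GL D.Idx F) :=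
      ⟨⟨_, hmι ▸ c.mapHom_mem_group ι x.2⟩, rfl⟩
    have hXp : X ^ r = 1 := Subtype.ext (by
      rw [Subgroup.coe_pow, hX, ← map_pow, ← Subgroup.coe_pow, ← hx, pow_orderOf_eq_one,
        Subgroup.coe_one, map_one]
      rfl)
    obtain ⟨P, hP⟩ := (show IsPGroup r (Subgroup.zpowers X) from fun a => ⟨1, by
      obtain ⟨m, hm⟩ := Subgroup.mem_zpowers_iff.1 a.2
      refine Subtype.ext ?_
      rw [Subgroup.coe_pow, ← hm, pow_one, ← zpow_natCast, ← _root_.zpow_mul, mul_comm,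
        _root_.zpow_mul, zpow_natCast, hXp, _root_.one_zpow]
      rfl⟩).exists_le_sylow
    obtain ⟨a, ha⟩ := MulAction.exists_smul_eq ↥(D.group L) P R
    have hmem : a * X * a⁻¹ ∈ HH := hRH (by
      rw [← ha, Sylow.coe_subgroup_smul]
      exact Subgroup.smul_mem_pointwise_smul _ (MulAut.conj a) _ (hP (Subgroup.mem_zpowers X)))
    rw [hHH, Subgroup.mem_subgroupOf, c.diagonalSubgroup_eq] at hmem
    obtain ⟨z, hz⟩ := hmem
    exact ⟨a, a.2, z, by rw [hz, ← hX]; rfl⟩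
  have hzr : ∀ s < D.nroots, c.tchar z s ^ r = 1 := fun s hs' => by
    have h1 : c.torus (z ^ r) = 1 := by
      rw [map_pow, ← hgz, conj_pow, ← map_pow, ← Subgroup.coe_pow, ← hx, pow_orderOf_eq_one,
        Subgroup.coe_one, map_one, mul_one, mul_inv_cancel]
    have h2 := (dg_eq_iff D L).1 (h1.trans (map_one (dg D L)).symm) s hs'
    change c.tchar (z ^ r) s = 1 at h2
    rwa [c.tchar_pow] at h2
  have htpow : ∀ (y : ℕ → Lˣ) (s : ℕ), c.tchar (y ^ q) s = c.tchar y s ^ q := fun y s =>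
    c.tchar_pow y q s
  have hσt : ∀ y : ℕ → Lˣ, σ (c.torus y) = c.torus (y ^ q) := fun y => by
    rw [hσ, c.torus_map]
    congr 1
    funext i
    exact Units.ext (by simp [hφ])
  obtain ⟨k, hk⟩ : ∃ k, k = σ g * g⁻¹ := ⟨_, rfl⟩
  have hkmem : k ∈ D.group L := hk ▸ mul_mem (hσ ▸ c.group_map φ hg) (inv_mem hg)
  have hkt : k * c.torus z * k⁻¹ = c.torus (z ^ q) := by
    rw [← hσt, ← hgz, map_mul, map_mul, map_inv, hσι, hk]
    group
  obtain ⟨L₀, hL₀, hconj⟩ := c.exists_nw_of_conj hkmem hkt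
  have hL' : ∀ p ∈ L₀.reverse, p < D.rank := fun p hp => hL₀ p (List.mem_reverse.1 hp)
  have hrelpow : ∀ y : ℕ → Lˣ,
      c.nw L L₀ * c.torus y * (c.nw L L₀)⁻¹ = c.torus (y ^ q) ↔
        mpow (c.wmat L₀.reverse)ᵀ (c.chi y) = c.chi y ^ q := by
    intro y
    rw [← c.tchar_wl_simple y hL']
    constructor
    · intro h
      funext i
      have h1 := c.tchar_of_nw_conj hL₀ h (c.wl_lt hL' (c.simple_lt i.2))
      rw [c.wl_reverse hL₀ (c.simple_lt i.2), htpow] at h1
      exact h1.symm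
    · intro h
      refine c.nw_conj_torus hL₀ fun s hs' => ?_
      have h1 : c.wl L₀.reverse (c.wl L₀ s) = s := by
        have := c.wl_reverse (L := L₀.reverse) hL' hs'
        rwa [List.reverse_reverse] at this
      have hlt := c.wl_lt hL₀ hs'
      conv_rhs => rw [← h1, c.tchar_wl y hL' hlt]
      rw [htpow, c.tchar_eq_chi y hlt, ← Finset.prod_pow]
      refine Finset.prod_congr rfl fun i _ => ?_
      rw [show c.tchar y (c.wl L₀.reverse (D.simple i)) = c.chi y i ^ q from congrFun h i,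
        ← zpow_natCast, ← zpow_natCast, ← _root_.zpow_mul, ← _root_.zpow_mul, mul_comm]
  have hzrel := (hrelpow z).1 hconj
  -- exponents
  obtain ⟨ζ, hζ⟩ : ∃ ζ : Lˣ, orderOf ζ = r := by
    refine exists_prime_orderOf_dvd_card' r ?_
    rw [Nat.card_units, Nat.card_eq_fintype_card, hL]
    exact hr1
  have hexp : ∀ i : Fin D.rank, ∃ e : ℤ, ζ ^ e = c.chi z i := fun i => by
    have hprim : IsPrimitiveRoot ((ζ : Lˣ) : L) r :=
      IsPrimitiveRoot.coe_units_iff.2 (hζ ▸ IsPrimitiveRoot.orderOf ζ)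
    haveI : NeZero r := ⟨hrp.ne_zero⟩
    obtain ⟨e, -, he⟩ := hprim.eq_pow_of_pow_eq_one (show ((c.chi z i : Lˣ) : L) ^ r = 1 by
      rw [← Units.val_pow_eq_pow_val, chi, hzr _ (c.simple_lt i.2), Units.val_one])
    exact ⟨e, by rw [zpow_natCast]; exact Units.ext (by rw [Units.val_pow_eq_pow_val, he])⟩
  choose e he using hexp
  obtain ⟨eb, heb⟩ : ∃ eb : Fin D.rank → ZMod r, eb = fun i => (e i : ZMod r) := ⟨_, rfl⟩
  have hzeq : ∀ a b : ℤ, ζ ^ a = ζ ^ b ↔ (a : ZMod r) = (b : ZMod r) := fun a b => by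
    rw [ZMod.intCast_eq_intCast_iff_dvd_sub, ← hζ, orderOf_dvd_iff_zpow_eq_one, _root_.zpow_sub,
      mul_inv_eq_one, eq_comm]
  have hchi : c.chi z = fun i => ζ ^ e i := funext fun i => (he i).symm
  have hact : ∀ (M : List ℕ), (∀ p ∈ M, p < D.rank) → ∀ (m : ℕ),
      ((∀ i : Fin D.rank, c.tchar z (c.wl M (D.simple i)) = c.chi z i ^ m) ↔
      ((c.wmat M).map (Int.castRingHom (ZMod r))) *ᵥ eb = (m : ZMod r) • eb) := by
    intro M hM m
    have h0 : ∀ i : Fin D.rank,
        c.tchar z (c.wl M (D.simple i)) = ζ ^ ((c.wmat M *ᵥ e) i) := fun i => by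
      have h := congrFun (c.tchar_wl_simple z hM) i
      rw [hchi, CycMatrix.mpow_zpow, Matrix.vecMul_transpose] at h
      exact h
    have h1 : ((c.wmat M).map (Int.castRingHom (ZMod r))) *ᵥ eb =
        fun i => (((c.wmat M *ᵥ e) i : ℤ) : ZMod r) := by
      funext i
      simp [heb, Matrix.mulVec, dotProduct]
    have h2 : ∀ i : Fin D.rank, c.tchar z (c.wl M (D.simple i)) = c.chi z i ^ m ↔
        ((((c.wmat M *ᵥ e) i : ℤ)) : ZMod r) = ((m : ZMod r) • eb) i := fun i => by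
      rw [h0 i, hchi, ← zpow_natCast, ← _root_.zpow_mul, hzeq, heb, Pi.smul_apply, smul_eq_mul,
        Int.cast_mul, Int.cast_natCast, mul_comm]
    rw [h1, funext_iff]
    exact forall_congr' h2
  obtain ⟨aU, haW, haU⟩ := c.exists_weylMat hL'
  haveI : Finite c.weylMat := c.finite_weylMat
  have hae : ((c.wmat L₀.reverse).map (Int.castRingHom (ZMod r))) *ᵥ eb = (q : ZMod r) • eb := by
    refine (hact _ hL' q).1 fun i => ?_
    have h := congrFun hzrel i
    rw [← c.tchar_wl_simple z hL'] at h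
    exact h
  have heb0 : eb ≠ 0 := by
    intro h0
    have h1 : c.chi z = c.chi (1 : ℕ → Lˣ) := by
      funext i
      rw [show c.chi (1 : ℕ → Lˣ) i = 1 by rw [c.chi_one]; rfl, ← he i, ← zpow_zero ζ, hzeq,
        Int.cast_zero]
      have := congrFun h0 i
      rwa [heb] at this
    have h2 := c.torus_eq_of_chi h1
    rw [map_one, ← hgz, mul_inv_eq_one, mul_eq_left] at h2
    have h3 : x = 1 := Subtype.ext (hinj (h2.trans (map_one mι).symm))
    rw [h3, orderOf_one] at hx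
    exact hrp.ne_one hx.symm
  have hcharpoly : (c.wmat L₀.reverse).charpoly = Polynomial.cyclotomic n ℤ := by
    refine CycMatrix.charpoly_eq_cyclotomic (by rw [Fintype.card_fin, hn]) hrn (by omega)
      (q := (q : ℤ)) hr (k := orderOf (⟨aU, haW⟩ : c.weylMat)) (orderOf_pos _) ?_ heb0
      (by rw [Int.cast_natCast]; exact hae)
    rw [← haU, ← Units.val_pow_eq_pow_val]
    have := congrArg Subtype.val (pow_orderOf_eq_one (⟨aU, haW⟩ : c.weylMat))
    rw [Subgroup.coe_pow] at this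
    rw [this]
    rfl
  have hirr : Irreducible ((aU : Matrix (Fin D.rank) (Fin D.rank) ℤ).map
      (Int.castRingHom ℚ)).charpoly := by
    rw [haU, Matrix.charpoly_map, hcharpoly, Polynomial.map_cyclotomic]
    exact Polynomial.cyclotomic.irreducible_rat (by omega)
  -- the element is regular
  have hstab : ∀ M : List ℕ, (∀ p ∈ M, p < D.rank) →
      (∀ i : Fin D.rank, c.tchar z (c.wl M (D.simple i)) = c.chi z i) →
      ∀ s < D.nroots, c.wl M s = s := by
    intro M hM hfix s hs'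
    obtain ⟨b, hbW, hb⟩ := c.exists_weylMat hM
    have hbe : ((b : Matrix (Fin D.rank) (Fin D.rank) ℤ).map (Int.castRingHom (ZMod r))) *ᵥ eb =
        eb := by
      rw [hb]
      have := (hact M hM 1).1 (fun i => by rw [pow_one]; exact hfix i)
      rwa [Nat.cast_one, one_smul] at this
    have h1 : b = 1 := CycMatrix.stab_trivial (by rw [Fintype.card_fin]; exact hrl) haW hirr heb0 hq0
      (by rw [haU]; exact hae) hbW hbe
    refine c.wl_eq_self_of_wmat hM ?_ hs'
    rw [← hb, h1]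
    rfl
  have hreg : ∀ s < D.nroots, c.tchar z s ≠ 1 := by
    intro s hs' h1
    obtain ⟨u, p, hu, hp, hus⟩ := c.exists_wl_simple hs'
    have hur : ∀ j ∈ u.reverse, j < D.rank := fun j hj => hu j (List.mem_reverse.1 hj)
    have hM : ∀ j ∈ u ++ (p :: u.reverse), j < D.rank := by
      simp only [List.mem_append, List.mem_cons]
      rintro j (hj | rfl | hj)
      exacts [hu j hj, hp, hur j hj]
    have hwl : ∀ β, c.wl (u ++ (p :: u.reverse)) β = c.wl u (c.w p (c.wl u.reverse β)) := fun β => by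
      rw [c.wl_append, Cert.wl_cons]
    have hfix : ∀ i : Fin D.rank,
        c.tchar z (c.wl (u ++ (p :: u.reverse)) (D.simple i)) = c.chi z i := by
      intro i
      have hβ := c.wl_lt hur (c.simple_lt i.2)
      rw [hwl, c.tchar_wl z hu (c.w_lt hp hβ)]
      have h2 : c.tchar z (D.simple i) = c.tchar z (c.wl u (c.wl u.reverse (D.simple i))) := by
        rw [c.wl_reverse hu (c.simple_lt i.2)]
      rw [chi, h2, c.tchar_wl z hu hβ]
      refine Finset.prod_congr rfl fun j _ => ?_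
      rw [c.vec_w hp hβ j.2]
      by_cases hjp : (j : ℕ) = p
      · rw [hjp, hus, h1, _root_.one_zpow, _root_.one_zpow]
      · rw [if_neg hjp, sub_zero]
    have h3 := hstab _ hM hfix s hs'
    have h4 : c.wl u.reverse s = D.simple p := by
      have := c.wl_reverse (L := u.reverse) hur (c.simple_lt hp)
      rw [List.reverse_reverse, hus] at this
      exact this
    rw [hwl, h4, c.w_simple hp, c.wl_neg hu (c.simple_lt hp), hus] at h3
    exact c.neg_ne hs' h3
  have hCH : ∀ y ∈ D.group L, Commute y (c.torus z) → y ∈ D.diagonalSubgroup L := by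
    intro y hy hyc
    refine c.mem_H_of_commute_of_pos hreg (fun M hM heq p hp => ?_) hy hyc
    rw [hstab M hM (fun i => heq _ (c.simple_lt i.2)) _ (c.simple_lt hp)]
    exact c.pos_simple hp
  -- the twisting element
  obtain ⟨n₀, hn₀⟩ : ∃ m, m = c.nw L L₀ := ⟨_, rfl⟩
  have hn₀mem : n₀ ∈ D.group L := hn₀ ▸ c.N_le_group (c.nw_mem_N hL₀)
  have hk' : n₀⁻¹ * k ∈ D.diagonalSubgroup L := by
    refine hCH _ (mul_mem (inv_mem hn₀mem) hkmem) ?_
    show n₀⁻¹ * k * c.torus z = c.torus z * (n₀⁻¹ * k)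
    calc n₀⁻¹ * k * c.torus z = n₀⁻¹ * (k * c.torus z * k⁻¹) * k := by group
      _ = n₀⁻¹ * (n₀ * c.torus z * n₀⁻¹) * k := by rw [hkt, hn₀, hconj]
      _ = _ := by group
  have hkc : ∀ y : ℕ → Lˣ, k * c.torus y * k⁻¹ = n₀ * c.torus y * n₀⁻¹ := fun y => by
    calc k * c.torus y * k⁻¹ = n₀ * ((n₀⁻¹ * k) * c.torus y * (n₀⁻¹ * k)⁻¹) * n₀⁻¹ := by group
      _ = _ := by rw [c.H_commutative hk' (c.torus_mem y), mul_inv_cancel_right]
  -- parameters by root values
  let ext0 : (Fin D.rank → Lˣ) →* (ℕ → Lˣ) :=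
    { toFun := fun v i => if h : i < D.rank then v ⟨i, h⟩ else 1
      map_one' := by funext i; simp
      map_mul' := fun v w => by funext i; by_cases h : i < D.rank <;> simp [h] }
  let chiHom : (Fin D.rank → Lˣ) →* (Fin D.rank → Lˣ) :=
    { toFun := fun v => c.chi (ext0 v)
      map_one' := by rw [map_one, c.chi_one]
      map_mul' := fun v w => by rw [map_mul, c.chi_mul] }
  have hchib : Function.Bijective chiHom := by
    refine Finite.injective_iff_bijective.1 fun v w h => funext fun i => ?_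
    have h1 := c.torus_injective hHL _ _ (c.torus_eq_of_chi h) i i.2
    simpa [ext0] using h1
  let E := MulEquiv.ofBijective chiHom hchib
  let Θ : (Fin D.rank → Lˣ) →* GL D.Idx L :=
    (MulAut.conj g⁻¹).toMonoidHom.comp ((c.torus).comp (ext0.comp E.symm.toMonoidHom))
  have hchiE : ∀ ξ, c.chi (ext0 (E.symm ξ)) = ξ := fun ξ => E.apply_symm_apply ξ
  have hΘ : ∀ ξ, Θ ξ = g⁻¹ * c.torus (ext0 (E.symm ξ)) * g := fun ξ => by
    show g⁻¹ * c.torus (ext0 (E.symm ξ)) * g⁻¹⁻¹ = _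
    rw [inv_inv]
  have hΘinj : Function.Injective Θ := fun v w h => by
    rw [hΘ, hΘ] at h
    have h1 := mul_left_cancel (mul_right_cancel h)
    rw [← hchiE v, ← hchiE w]
    funext i
    exact (dg_eq_iff D L).1 h1 _ (c.simple_lt i.2)
  -- the group
  obtain ⟨M, hM⟩ : ∃ M, M = (q : ℤ) • (1 : Matrix (Fin D.rank) (Fin D.rank) ℤ) -
      (c.wmat L₀.reverse)ᵀ := ⟨_, rfl⟩
  have hkerM : ∀ ξ : Fin D.rank → Lˣ,
      ξ ∈ (mpow (G := Lˣ) M).ker ↔ mpow (c.wmat L₀.reverse)ᵀ ξ = ξ ^ q := fun ξ => by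
    rw [MonoidHom.mem_ker, hM, mpow_sub, mpow_smul_one, div_eq_one, eq_comm]
  have hdet : ∀ j : ℤ, (j • (1 : Matrix (Fin D.rank) (Fin D.rank) ℤ) -
      (c.wmat L₀.reverse)ᵀ).det = (Polynomial.cyclotomic n ℤ).eval j := fun j => by
    rw [← hcharpoly, ← Matrix.charpoly_transpose, Matrix.eval_charpoly, Matrix.smul_one_eq_diagonal]
    rfl
  have hMdet : M.det = (Polynomial.cyclotomic n ℤ).eval (q : ℤ) := by rw [hM, hdet]
  have hNne : (Polynomial.cyclotomic n ℤ).eval (q : ℤ) ≠ 0 := fun h0 => by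
    rw [h0, Int.natAbs_zero] at hN
    rw [hN] at hNdvd
    have h1 := Nat.eq_zero_of_zero_dvd hNdvd
    have := Nat.one_lt_pow (n := n) (by omega) hq
    omega
  obtain ⟨hcyc, hcard⟩ := CycMatrix.ker_mpow (G := Lˣ) (M := M) (by rw [hMdet]; exact hNne)
    (by rw [hMdet, ← hN, Nat.card_units, Nat.card_eq_fintype_card, hL]; exact hNdvd)
    (fun s hsp hsd => by
      rw [hMdet] at hsd
      by_cases hsn : s ∣ n
      · exact ⟨M, fun i j => by simp, by rw [hMdet]; exact hs s hsp hsn⟩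
      · haveI : Fact s.Prime := ⟨hsp⟩
        obtain ⟨j, hj⟩ := CycMatrix.exists_sq_not_dvd hsn hsd
        refine ⟨((q : ℤ) + s * j) • (1 : Matrix (Fin D.rank) (Fin D.rank) ℤ) -
          (c.wmat L₀.reverse)ᵀ, fun i i' => ⟨-j * (1 : Matrix (Fin D.rank) (Fin D.rank) ℤ) i i', ?_⟩,
          by rw [hdet]; exact hj⟩
        simp only [hM, Matrix.sub_apply, Matrix.smul_apply, smul_eq_mul]
        ring)
  obtain ⟨C, hC⟩ : ∃ C, C = Subgroup.centralizer ({x} : Set ↥(D.group F)) := ⟨_, rfl⟩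
  let f : ↥C →* GL D.Idx L := mι.comp ((D.group F).subtype.comp C.subtype)
  have hfinj : Function.Injective f := hinj.comp (Subtype.val_injective.comp Subtype.val_injective)
  have hrangeeq : f.range = (mpow (G := Lˣ) M).ker.map Θ := by
    refine le_antisymm ?_ ?_
    · rintro _ ⟨⟨y, hy⟩, rfl⟩
      obtain ⟨u, hu⟩ : ∃ u, u = g * mι (y : GL D.Idx F) * g⁻¹ := ⟨_, rfl⟩
      have huH : u ∈ D.diagonalSubgroup L := by
        refine hCH u (hu ▸ mul_mem (mul_mem hg (hmι ▸ c.mapHom_mem_group ι y.2)) (inv_mem hg)) ?_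
        rw [hC, Subgroup.mem_centralizer_singleton_iff] at hy
        have h := congrArg (fun v : ↥(D.group F) => mι (v : GL D.Idx F)) hy
        simp only [Subgroup.coe_mul, map_mul] at h
        show u * c.torus z = c.torus z * u
        rw [hu, ← hgz]
        calc g * mι (y : GL D.Idx F) * g⁻¹ * (g * mι (x : GL D.Idx F) * g⁻¹)
            = g * (mι (y : GL D.Idx F) * mι (x : GL D.Idx F)) * g⁻¹ := by group
          _ = g * (mι (x : GL D.Idx F) * mι (y : GL D.Idx F)) * g⁻¹ := by rw [h]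
          _ = _ := by group
      rw [c.diagonalSubgroup_eq] at huH
      obtain ⟨zy, hzy⟩ := huH
      refine ⟨c.chi zy, (hkerM _).2 ((hrelpow zy).1 ?_), ?_⟩
      · rw [← hn₀, ← hkc, ← hσt, hzy, hu, map_mul, map_mul, map_inv, hσι, hk]
        group
      · show Θ (c.chi zy) = mι (y : GL D.Idx F)
        rw [hΘ, c.torus_eq_of_chi (hchiE (c.chi zy)), hzy, hu]
        group
    · rintro _ ⟨ξ, hξ, rfl⟩
      obtain ⟨u, hu⟩ : ∃ u, u = c.torus (ext0 (E.symm ξ)) := ⟨_, rfl⟩
      have hrel := (hrelpow (ext0 (E.symm ξ))).2 (by rw [hchiE]; exact (hkerM _).1 hξ)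
      have hYmem : g⁻¹ * u * g ∈ D.group L :=
        mul_mem (mul_mem (inv_mem hg) (hu ▸ c.B_le_group (c.H_le_B (c.torus_mem _)))) hg
      have hYfix : σ (g⁻¹ * u * g) = g⁻¹ * u * g := by
        rw [map_mul, map_mul, map_inv, hu, hσt, ← hrel, ← hn₀, ← hkc, hk]
        group
      have h1 := c.fixed_mem hHL hYmem (by rw [← hσ]; exact hYfix)
      rw [← c.group_mapHom hrange] at h1
      obtain ⟨y, hy, hyY⟩ := h1
      rw [← hmι] at hyY
      refine ⟨⟨⟨y, hy⟩, ?_⟩, ?_⟩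
      · rw [hC, Subgroup.mem_centralizer_singleton_iff]
        refine Subtype.ext (hinj ?_)
        simp only [Subgroup.coe_mul, map_mul]
        have hx' : mι (x : GL D.Idx F) = g⁻¹ * c.torus z * g := by rw [← hgz]; group
        rw [hyY, hx', hu]
        calc g⁻¹ * c.torus (ext0 (E.symm ξ)) * g * (g⁻¹ * c.torus z * g)
            = g⁻¹ * (c.torus (ext0 (E.symm ξ)) * c.torus z) * g := by group
          _ = g⁻¹ * (c.torus z * c.torus (ext0 (E.symm ξ))) * g := by
              rw [c.H_commutative (c.torus_mem _) (c.torus_mem _)]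
          _ = _ := by group
      · show mι y = Θ ξ
        rw [hyY, hΘ, hu]
  let e1 : ↥C ≃* ↥(mpow (G := Lˣ) M).ker :=
    (MonoidHom.ofInjective hfinj).trans ((MulEquiv.subgroupCongr hrangeeq).trans
      ((mpow (G := Lˣ) M).ker.equivMapOfInjective Θ hΘinj).symm)
  haveI := hcyc
  have hCcyc : IsCyclic ↥C := isCyclic_of_surjective e1.symm.toMonoidHom e1.symm.surjective
  refine ⟨C, hCcyc, by rw [Nat.card_congr e1.toEquiv, hcard, hMdet], le_antisymm ?_ ?_⟩
  · intro y hy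
    rw [hC, Subgroup.mem_centralizer_singleton_iff]
    exact (Subgroup.mem_centralizer_iff.1 hy x (by
      rw [hC, SetLike.mem_coe, Subgroup.mem_centralizer_singleton_iff])).symm
  · intro y hy
    rw [Subgroup.mem_centralizer_iff]
    intro b hb
    haveI := hCcyc
    obtain ⟨gen, hgen⟩ := IsCyclic.exists_generator (α := ↥C)
    obtain ⟨i, hi⟩ := Subgroup.mem_zpowers_iff.1 (hgen ⟨y, hy⟩)
    obtain ⟨j, hj⟩ := Subgroup.mem_zpowers_iff.1 (hgen ⟨b, hb⟩)
    have h : (⟨b, hb⟩ : ↥C) * ⟨y, hy⟩ = ⟨y, hy⟩ * ⟨b, hb⟩ := by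
      rw [← hi, ← hj, ← _root_.zpow_add, ← _root_.zpow_add, add_comm]
    exact congrArg Subtype.val h

end CertFull

end Cfsg.Agent.Lie.Chev
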