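import Cfsg.Agent.Lib.Lie.Chev.BN
import Cfsg.Agent.Lib.Lie.BNTits

/-! Perfectness, irreducibility and simplicity of Chevalley groups. -/

set_option autoImplicit false

namespace Cfsg.Agent.Lie.Chev

open Cfsg.Lie Matrix
open scoped commutatorElement

namespace Tables

variable (T : Tables)

/-- The commutator of two root elements is a single root element of `α_p` with coefficient of
absolute value at most `b`. -/
def goodPair (p b r s : ℕ) : Bool :=
  (T.code r + T.code s == T.code (T.simple p)) &&
    match T.commTerms r s with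
    | [(k, C, i, j)] =>
        Nat.beq k (T.simple p) && Nat.beq i 1 && Nat.beq j 1 &&
          (!(Nat.beq C.natAbs 0)) && Nat.ble C.natAbs b
    | _ => false

/-- Grow a set of nodes along the diagram. -/
def grow : ℕ → List ℕ → List ℕ
  | 0, S => S
  | k + 1, S => grow k (S ++ (List.range T.l).filter fun j =>
      !(S.any (Nat.beq j)) && S.any fun i => !(T.cartan i (T.simple j) == 0))

end Tables

/-- Every fundamental root subgroup consists of commutators, over any field. -/
def checkPerfect (T : Tables) : Bool :=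
  T.allNodes fun p => (List.range T.n).any fun r => (List.range T.n).any fun s => T.goodPair p 1 r s

/-- Every fundamental root subgroup consists of commutators when two is invertible. -/
def checkPerfectOdd (T : Tables) : Bool :=
  T.allNodes fun p =>
    Bool.or ((List.range T.n).any fun r => (List.range T.n).any fun s => T.goodPair p 2 r s)
      ((List.range T.l).any fun q => !(T.cartan q (T.simple p) % 2 == 0))

/-- The diagram is connected. -/
def checkConn (T : Tables) : Bool := T.allNodes fun j => (T.grow T.l [0]).any (Nat.beq j)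

namespace CertFull

variable {D : ChevalleyDatum} (c : CertFull D) {F : Type*} [Field F]
include c

/-- Root elements with all parameters are commutators, transported along the Weyl group. -/
theorem perfect_of_simple
    (h : ∀ p (hp : p < D.rank), ∀ t : F, (⟨c.xg (D.simple p) t, c.xg_mem_group (c.simple_lt hp) t⟩ :
      ↥(D.group F)) ∈ commutator ↥(D.group F)) :
    commutator ↥(D.group F) = ⊤ := by
  have key : ∀ r (hr : r < D.nroots), ∀ t : F,
      (⟨c.xg r t, c.xg_mem_group hr t⟩ : ↥(D.group F)) ∈ commutator ↥(D.group F) := by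
    intro r hr
    refine (c.root_induction (P := fun r => ∀ (hr : r < D.nroots) (t : F),
      (⟨c.xg r t, c.xg_mem_group hr t⟩ : ↥(D.group F)) ∈ commutator ↥(D.group F))
      (fun p hp _ t => h p hp t) (fun p hp r hr hP hw t => ?_) r hr) hr
    have e : c.xg (c.w p r) t =
        c.np F p * c.xg r ((c.T.eta p r : F) * t) * (c.np F p)⁻¹ := by
      rw [Cert.np, c.ng_conj hp hr, mul_inv_cancel_right, ← mul_assoc, c.eta_F_sq, one_mul]
    have := (Subgroup.Normal.conj_mem (H := commutator ↥(D.group F)) inferInstance _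
      (hP hr ((c.T.eta p r : F) * t)) ⟨c.np F p, c.np_mem_group hp⟩)
    convert this using 1
    exact Subtype.ext (by simpa using e)
  rw [eq_top_iff]
  intro g _
  have hg : (g : GL D.Idx F) ∈ (commutator ↥(D.group F)).map (D.group F).subtype := by
    have h2 := g.2
    conv at h2 => arg 1; rw [c.group_eq]
    refine (Subgroup.closure_le _).2 ?_ h2
    rintro x ⟨r, hr, t, rfl⟩
    exact ⟨_, key r hr t, rfl⟩
  obtain ⟨x, hx, e⟩ := Subgroup.mem_map.1 hg
  rwa [show g = x from Subtype.ext e.symm]

theorem mem_commutator_of_scale {p : ℕ} (hp : p < D.rank) {q : ℕ} (hq : q < D.nroots) {a : Fˣ}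
    (ha : ((a ^ c.T.pairing q (D.simple p) : Fˣ) : F) ≠ 1) (t : F) :
    (⟨c.xg (D.simple p) t, c.xg_mem_group (c.simple_lt hp) t⟩ : ↥(D.group F)) ∈
      commutator ↥(D.group F) := by
  set k : F := ((a ^ c.T.pairing q (D.simple p) : Fˣ) : F)
  have hα := c.simple_lt hp
  set u := t / (k - 1)
  set x : ↥(D.group F) := ⟨c.xg (D.simple p) u, c.xg_mem_group hα u⟩
  set y : ↥(D.group F) := ⟨c.hg q (a : F), c.B_le_group (c.H_le_B (c.hg_mem hq a.ne_zero))⟩
  have e : (⟨c.xg (D.simple p) t, c.xg_mem_group hα t⟩ : ↥(D.group F)) = ⁅y, x⁆ := by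
    refine Subtype.ext ?_
    simp only [commutatorElement_def, Subgroup.coe_mul, Subgroup.coe_inv, x, y]
    rw [c.hg_mul_xg hq hα a u, mul_inv_cancel_right, c.xg_inv, ← c.xg_add]
    congr 1
    have hk : k - 1 ≠ 0 := sub_ne_zero.2 ha
    simp only [u]
    field_simp
    ring
  rw [e, commutator_def]
  exact Subgroup.commutator_mem_commutator (Subgroup.mem_top _) (Subgroup.mem_top _)

theorem mem_commutator_of_goodPair {p b r s : ℕ} (hp : p < D.rank) (hr : r < D.nroots)
    (hs : s < D.nroots) (h : c.T.goodPair p b r s = true)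
    (hb : ∀ C : ℤ, C ≠ 0 → C.natAbs ≤ b → (C : F) ≠ 0) (t : F) :
    (⟨c.xg (D.simple p) t, c.xg_mem_group (c.simple_lt hp) t⟩ : ↥(D.group F)) ∈
      commutator ↥(D.group F) := by
  have hα := c.simple_lt hp
  simp only [Tables.goodPair, Bool.and_eq_true, beq_iff_eq] at h
  obtain ⟨hcode, h⟩ := h
  match hL : c.T.commTerms r s with
  | [] => simp [hL] at h
  | _ :: _ :: _ => simp [hL] at h
  | [(k, C, i, j)] =>
    simp only [hL, Bool.and_eq_true, Nat.beq_eq, Nat.ble_eq, Bool.not_eq_true'] at h
    obtain ⟨⟨⟨⟨rfl, rfl⟩, rfl⟩, hC0⟩, hCb⟩ := h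
    have hC : (C : F) ≠ 0 := hb C (fun e => by rw [e] at hC0; simp at hC0) hCb
    have hne : s ≠ r ∧ s ≠ D.neg r := by
      rw [← c.simple_eq hp] at hcode
      have hpos := (c.code_pos_iff hα).2 (c.h_le_simple hp)
      constructor
      · rintro rfl
        have hv := c.vec_of_code (k := 1) hα hr hr (by omega) (fun i hi => by
          have := c.T.vec_bound s i
          have := c.T.vec_bound (D.simple p) i
          rw [abs_lt]; omega) p hp
        rw [c.vec_simple hp hp, if_pos rfl] at hv
        omega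
      · rintro rfl
        rw [c.code_neg hr] at hcode
        omega
    set v := -t / (C : F)
    set x : ↥(D.group F) := ⟨c.xg s v, c.xg_mem_group hs v⟩
    set y : ↥(D.group F) := ⟨c.xg r 1, c.xg_mem_group hr 1⟩
    have e : (⟨c.xg (D.simple p) t, c.xg_mem_group hα t⟩ : ↥(D.group F)) = ⁅x⁻¹, y⁻¹⁆ := by
      refine Subtype.ext ?_
      simp only [commutatorElement_def, Subgroup.coe_mul, Subgroup.coe_inv, x, y, inv_inv]
      have hcomm := c.xg_comm hr hs hne.1 hne.2 (1 : F) v
      rw [hL] at hcomm
      simp only [List.map_cons, List.map_nil, List.prod_cons, List.prod_nil, mul_one, pow_one]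
        at hcomm
      rw [mul_assoc, hcomm, ← c.simple_eq hp, show t = (C : F) * -1 * v by
        simp only [v]; field_simp]
      group
    rw [e, commutator_def]
    exact Subgroup.commutator_mem_commutator (Subgroup.mem_top _) (Subgroup.mem_top _)

theorem pairing_self {p : ℕ} (hp : p < D.rank) : c.T.pairing (D.simple p) (D.simple p) = 2 := by
  rw [c.pairing_simple hp, ← c.cartan_eq hp (c.simple_lt hp), c.cartan_simple_self hp]

theorem perfect_of_large (h : ∃ a : Fˣ, ((a ^ (2 : ℤ) : Fˣ) : F) ≠ 1) :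
    commutator ↥(D.group F) = ⊤ := by
  obtain ⟨a, ha⟩ := h
  refine c.perfect_of_simple fun p hp t => c.mem_commutator_of_scale hp (c.simple_lt hp) (a := a) ?_ t
  rw [c.pairing_self hp]
  exact ha

/-- Perfectness over any field. -/
theorem perfect (hP : checkPerfect c.T = true) : commutator ↥(D.group F) = ⊤ := by
  refine c.perfect_of_simple fun p hp t => ?_
  simp only [checkPerfect, Tables.allNodes, List.all_eq_true, List.any_eq_true,
    List.mem_range] at hP
  obtain ⟨r, hr, s, hs, h⟩ := hP p (c.rank_eq ▸ hp)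
  refine c.mem_commutator_of_goodPair hp (c.nroots_eq.symm ▸ hr) (c.nroots_eq.symm ▸ hs) h ?_ t
  intro C h1 h2
  rcases Int.natAbs_eq C with e | e <;>
    rw [e, show C.natAbs = 1 by omega] <;> simp

/-- Perfectness when the field has more than two elements. -/
theorem perfect_odd (hP : checkPerfectOdd c.T = true) (hF : ∃ a : F, a ≠ 0 ∧ a ≠ 1) :
    commutator ↥(D.group F) = ⊤ := by
  by_cases hbig : ∃ a : Fˣ, ((a ^ (2 : ℤ) : Fˣ) : F) ≠ 1
  · exact c.perfect_of_large hbig
  push Not at hbig
  have h2 : (2 : F) ≠ 0 := by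
    intro h2
    obtain ⟨a, ha0, ha1⟩ := hF
    have h := hbig (Units.mk0 a ha0)
    rw [Units.val_zpow_eq_zpow_val, Units.val_mk0, zpow_two] at h
    refine ha1 (sub_eq_zero.1 (mul_self_eq_zero.1 ?_))
    linear_combination h - (a - 1) * h2
  refine c.perfect_of_simple fun p hp t => ?_
  simp only [checkPerfectOdd, Tables.allNodes, List.all_eq_true, List.any_eq_true,
    List.mem_range, Bool.or_eq_true, Bool.not_eq_true', beq_eq_false_iff_ne] at hP
  rcases hP p (c.rank_eq ▸ hp) with ⟨r, hr, s, hs, h⟩ | ⟨q, hq, hodd⟩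
  · refine c.mem_commutator_of_goodPair hp (c.nroots_eq.symm ▸ hr) (c.nroots_eq.symm ▸ hs) h ?_ t
    intro C h1 h3
    have : C.natAbs = 1 ∨ C.natAbs = 2 := by omega
    rcases Int.natAbs_eq C with e | e <;> rcases this with e' | e' <;>
      rw [e, e'] <;> simp [h2]
  · rw [← c.rank_eq] at hq
    refine c.mem_commutator_of_scale hp (c.simple_lt hq) (a := -1) ?_ t
    rw [c.pairing_simple hq, c.simple_eq hp]
    obtain ⟨m, hm⟩ : Odd (c.T.cartan q (c.T.simple p)) := Int.odd_iff.2 (by omega)
    rw [hm, _root_.zpow_add, _root_.zpow_mul]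
    simp only [zpow_two, zpow_one, neg_mul, one_mul, neg_neg, _root_.one_zpow, Units.val_neg,
      Units.val_one]
    intro e
    exact h2 (by linear_combination -e)

theorem nontrivial_group : Nontrivial ↥(D.group F) := by
  have hα := c.simple_lt c.one_le_rank
  refine ⟨⟨⟨c.xg (D.simple 0) (1 : F), c.xg_mem_group hα 1⟩, 1, fun h => ?_⟩⟩
  have := congrArg Subtype.val h
  rw [Subgroup.coe_one, c.xg_eq_one_iff hα] at this
  exact one_ne_zero this

theorem cartan_eq_zero_of_comm {p q : ℕ} (hp : p < D.rank) (hq : q < D.rank) (hne : p ≠ q)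
    (h : c.np F p * c.np F q * (c.np F p)⁻¹ * (c.np F q)⁻¹ ∈ D.borelSubgroup F) :
    D.cartan q (D.simple p) = 0 := by
  have hH : c.np F p * c.np F q * (c.np F p)⁻¹ * (c.np F q)⁻¹ ∈
      D.borelSubgroup F ⊓ D.monomialSubgroup F :=
    Subgroup.mem_inf.2 ⟨h, mul_mem (mul_mem (mul_mem (c.np_mem_N hp) (c.np_mem_N hq))
      (inv_mem (c.np_mem_N hp))) (inv_mem (c.np_mem_N hq))⟩
  rw [c.B_inf_N] at hH
  have e : (1 : GL D.Idx F) * c.nw F [p, q] =
      (c.np F p * c.np F q * (c.np F p)⁻¹ * (c.np F q)⁻¹) * c.nw F [q, p] := by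
    simp [mul_assoc]
  have hα := c.simple_lt hp
  have h1 := c.wl_eq_of_eq (one_mem _) hH (by simp [hp, hq]) (by simp [hp, hq]) e hα
  simp only [Cert.wl_cons, Cert.wl_nil, c.w_simple hp] at h1
  rw [c.w_neg hq hα] at h1
  have hu := c.w_lt hq hα
  have h2 := congrArg (fun r => c.T.vec r q) h1
  simp only [c.vec_w hp hu hq, c.vec_neg hu hq, c.vec_w hq hα hq, c.vec_simple hp hq,
    if_neg (Ne.symm hne), if_true, zero_sub, sub_zero, neg_neg] at h2
  omega

theorem irreducible (hC : checkConn c.T = true) : (c.bnPair F).Irreducible := by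
  intro J hJ hne hne'
  by_contra hcon
  push Not at hcon
  have hnode : ∀ i, i < D.rank → ∃ n : ↥(D.group F), n ∈ (c.bnPair F).S ∧
      (n : GL D.Idx F) = c.np F i := fun i hi =>
    ⟨⟨c.np F i, c.np_mem_group hi⟩, ⟨i, hi, c.ng_val _ _⟩, rfl⟩
  let side : ℕ → Prop := fun i => ∃ n : ↥(D.group F), n ∈ J ∧ (n : GL D.Idx F) = c.np F i
  have hedge : ∀ i j, i < D.rank → j < D.rank → side i → ¬ side j →
      D.cartan j (D.simple i) = 0 ∧ D.cartan i (D.simple j) = 0 := by
    intro i j hi hj ⟨n, hn, e⟩ hs
    obtain ⟨m, hm, e'⟩ := hnode j hj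
    have hmJ : m ∉ J := fun h => hs ⟨m, h, e'⟩
    have hij : i ≠ j := fun h => hmJ (by
      rw [show m = n from Subtype.ext (by rw [e, e', h])]; exact hn)
    have hB : n * m * n⁻¹ * m⁻¹ ∈ (c.bnPair F).B := hcon n hn m ⟨hm, hmJ⟩
    have hB' : c.np F i * c.np F j * (c.np F i)⁻¹ * (c.np F j)⁻¹ ∈ D.borelSubgroup F := by
      have := Subgroup.mem_subgroupOf.1 hB
      simpa [e, e'] using this
    refine ⟨c.cartan_eq_zero_of_comm (F := F) hi hj hij hB',
      c.cartan_eq_zero_of_comm (F := F) hj hi (Ne.symm hij) ?_⟩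
    have := inv_mem hB'
    simpa [mul_assoc] using this
  have hreach : ∀ (k : ℕ) (S : List ℕ), (∀ j ∈ S, j < D.rank ∧ (side j ↔ side 0)) →
      ∀ j ∈ c.T.grow k S, j < D.rank ∧ (side j ↔ side 0) := by
    intro k
    induction k with
    | zero => intro S hS; exact hS
    | succ k ih =>
      intro S hS
      refine ih _ fun j hj => ?_
      rcases List.mem_append.1 hj with hj | hj
      · exact hS j hj
      simp only [List.mem_filter, List.mem_range, Bool.and_eq_true, List.any_eq_true,
        Bool.not_eq_true', beq_eq_false_iff_ne] at hj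
      obtain ⟨hjl, -, i, hi, hA⟩ := hj
      rw [← c.rank_eq] at hjl
      obtain ⟨hil, hiside⟩ := hS i hi
      rw [← c.simple_eq hjl, ← c.cartan_eq hil (c.simple_lt hjl)] at hA
      refine ⟨hjl, ?_⟩
      rw [← hiside]
      constructor
      · intro hs
        by_contra hs'
        exact hA (hedge j i hjl hil hs hs').1
      · intro hs
        by_contra hs'
        exact hA (hedge i j hil hjl hs hs').2
  have hall : ∀ j, j < D.rank → (side j ↔ side 0) := by
    intro j hj
    simp only [checkConn, Tables.allNodes, List.all_eq_true, List.any_eq_true, List.mem_range,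
      Nat.beq_eq] at hC
    obtain ⟨a, ha, rfl⟩ := hC j (c.rank_eq ▸ hj)
    exact (hreach _ [0] (by simp [show 0 < D.rank from c.one_le_rank]) _ ha).2
  obtain ⟨n, hn⟩ := hne
  obtain ⟨m, hm, hmJ⟩ := hne'
  obtain ⟨i, hi, e⟩ := hJ hn
  obtain ⟨j, hj, e'⟩ := hm
  have hsi : side i := ⟨n, hn, Units.ext (e.trans (c.ng_val _ _).symm)⟩
  obtain ⟨x, hx, ex⟩ := (hall j hj).2 ((hall i hi).1 hsi)
  exact hmJ (by
    rw [show m = x from Subtype.ext ((Units.ext (e'.trans (c.ng_val _ _).symm)).trans ex.symm)]
    exact hx)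

theorem simple (hC : checkConn c.T = true) (hperf : commutator ↥(D.group F) = ⊤) :
    IsSimpleGroup ↥(D.group F) ∧ ¬ IsMulCommutative ↥(D.group F) := by
  have := c.nontrivial_group (F := F)
  refine ⟨Lie.simple_of_bnPair (c.bnPair F) (c.irreducible hC) ?_ hperf c.core_eq_bot, fun h => ?_⟩
  · have := c.isSolvable_borel (F := F)
    show Group.IsSolvable ↥((D.borelSubgroup F).subgroupOf (D.group F))
    have hle : D.borelSubgroup F ≤ D.group F := c.B_le_group
    exact Group.isSolvable_of_isSolvable_injective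
      (f := (Subgroup.subgroupOfEquivOfLe hle).toMonoidHom)
      (Subgroup.subgroupOfEquivOfLe hle).injective
  · have e : commutator ↥(D.group F) = ⊥ := by
      rw [commutator_def, Subgroup.commutator_eq_bot_iff_le_centralizer]
      intro x _
      rw [Subgroup.mem_centralizer_iff]
      exact fun y _ => mul_comm' y x
    rw [hperf] at e
    exact top_ne_bot e

end CertFull

end Cfsg.Agent.Lie.Chev
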