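import Cfsg.Agent.Lib.Lie.Chev.SteinbergConj
import Cfsg.Agent.Lib.Lie.Chev.Simple

/-! Bruhat decomposition, the kernel and perfectness for groups with Steinberg's relations. -/

set_option autoImplicit false

namespace Cfsg.Agent.Lie.Chev

open Cfsg.Lie
open scoped commutatorElement

namespace CertFull

variable {D : ChevalleyDatum} (c : CertFull D) {F : Type*} [Field F]
include c

theorem center_group_eq_bot : Subgroup.center ↥(D.group F) = ⊥ := by
  rw [eq_bot_iff, ← c.core_eq_bot (F := F), Subgroup.normal_le_normalCore]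
  intro z hz
  have h := Lie.mem_parabolic_of_conj (c.bnPair F) (g := z) ∅ fun b hb => by
    rw [← Subgroup.mem_center_iff.1 hz b, mul_inv_cancel_right]
    exact Subgroup.mem_sup_left hb
  simpa [BNPair.parabolic, bnPair] using h

end CertFull

namespace StData

variable {D : ChevalleyDatum} {c : CertFull D} {F : Type*} [Field F] {Γ : Type*} [Group Γ]
  (A : StData c F Γ)

/-- The element `n_p(1)`. -/
def np (p : ℕ) : Γ := A.n (D.simple p) 1

/-- The product of `n_p(1)` over a word. -/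
def nw (L : List ℕ) : Γ := (L.map A.np).prod

/-- The subgroup of the elements `h_p(t)`. -/
def H : Subgroup Γ :=
  Subgroup.closure {g | ∃ (p : ℕ) (t : Fˣ), p < D.rank ∧ g = A.h (D.simple p) (t : F)}

@[simp] theorem nw_nil : A.nw [] = 1 := rfl

@[simp] theorem nw_cons (p : ℕ) (L : List ℕ) : A.nw (p :: L) = A.np p * A.nw L := by
  simp [nw]

theorem nw_append (L M : List ℕ) : A.nw (L ++ M) = A.nw L * A.nw M := by simp [nw]

theorem θnw {L : List ℕ} (hL : ∀ p ∈ L, p < D.rank) : A.θ (A.nw L) = c.nw F L := by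
  induction L with
  | nil => simp
  | cons p L ih =>
    rw [nw_cons, Cert.nw_cons, map_mul, ih fun q hq => hL q (by simp [hq]), np,
      A.θn (c.simple_lt (hL p (by simp)))]
    rfl

theorem h_mem_H {p : ℕ} (hp : p < D.rank) {t : F} (ht : t ≠ 0) : A.h (D.simple p) t ∈ A.H :=
  Subgroup.subset_closure ⟨p, Units.mk0 t ht, hp, rfl⟩

theorem θ_H {g : Γ} (hg : g ∈ A.H) : A.θ g ∈ D.diagonalSubgroup F := by
  suffices A.H ≤ (D.diagonalSubgroup F).comap A.θ from this hg
  refine (Subgroup.closure_le _).2 ?_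
  rintro g ⟨p, t, hp, rfl⟩
  rw [SetLike.mem_coe, Subgroup.mem_comap, A.θh (c.simple_lt hp)]
  exact c.hg_mem (c.simple_lt hp) t.ne_zero

theorem np_inv {p : ℕ} (hp : p < D.rank) :
    (A.np p)⁻¹ = A.h (D.simple p) (-1) * A.np p := by
  have hα := c.simple_lt hp
  rw [np, h, mul_assoc, ← A.n_inv hα, inv_mul_cancel, mul_one]

theorem n_eq_h_mul {p : ℕ} (hp : p < D.rank) (t : F) :
    A.n (D.simple p) t = A.h (D.simple p) t * A.np p := by
  rw [np, h, mul_assoc, ← A.n_inv (c.simple_lt hp), inv_mul_cancel, mul_one]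

theorem n_mul_n {p : ℕ} (hp : p < D.rank) (a b : F) :
    A.n (D.simple p) a * A.n (D.simple p) b =
      A.h (D.simple p) a * (A.h (D.simple p) (-b))⁻¹ := by
  have hα := c.simple_lt hp
  rw [h, h, _root_.mul_inv_rev, A.n_inv hα, A.n_inv hα, neg_neg, neg_neg,
    show A.n (D.simple p) a * A.n (D.simple p) (-1) * (A.n (D.simple p) 1 * A.n (D.simple p) b) =
      A.n (D.simple p) a * (A.n (D.simple p) (-1) * A.n (D.simple p) 1) * A.n (D.simple p) b by
      group, ← A.n_inv hα, inv_mul_cancel, mul_one]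

theorem np_sq_mem {p : ℕ} (hp : p < D.rank) : A.np p * A.np p ∈ A.H := by
  rw [np, A.n_mul_n hp]
  exact mul_mem (A.h_mem_H hp one_ne_zero) (inv_mem (A.h_mem_H hp (neg_ne_zero.2 one_ne_zero)))

/-- Elements of the abstract torus scale root elements. -/
theorem H_conj (hN : checkNbr c.T = true) {g : Γ} (hg : g ∈ A.H) :
    ∀ s < D.nroots, ∀ u : F, ∃ v : F, g * A.X s u * g⁻¹ = A.X s v := by
  suffices key : (∀ s < D.nroots, ∀ u : F, ∃ v : F, g * A.X s u * g⁻¹ = A.X s v) ∧
      ∀ s < D.nroots, ∀ u : F, ∃ v : F, g⁻¹ * A.X s u * g = A.X s v from key.1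
  induction hg using Subgroup.closure_induction with
  | mem g hg =>
    obtain ⟨p, t, hp, rfl⟩ := hg
    refine ⟨fun s hs u => ⟨_, A.h_conj hN hp t hs u⟩, fun s hs u => ?_⟩
    refine ⟨((chi (c := c) p t s)⁻¹ : Fˣ) * u, ?_⟩
    have h := A.h_conj hN hp t hs (((chi (c := c) p t s)⁻¹ : Fˣ) * u)
    rw [← mul_assoc, ← Units.val_mul, mul_inv_cancel, Units.val_one, one_mul] at h
    rw [← h]; group
  | one => exact ⟨fun s _ u => ⟨u, by simp⟩, fun s _ u => ⟨u, by simp⟩⟩
  | mul a b _ _ ha hb =>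
    refine ⟨fun s hs u => ?_, fun s hs u => ?_⟩
    · obtain ⟨v, hv⟩ := hb.1 s hs u
      obtain ⟨w, hw⟩ := ha.1 s hs v
      exact ⟨w, by rw [← hw, ← hv]; group⟩
    · obtain ⟨v, hv⟩ := ha.2 s hs u
      obtain ⟨w, hw⟩ := hb.2 s hs v
      exact ⟨w, by rw [← hw, ← hv]; group⟩
  | inv a _ ha =>
    exact ⟨fun s hs u => by simpa using ha.2 s hs u, fun s hs u => by simpa using ha.1 s hs u⟩

theorem np_conj_n (hN : checkNbr c.T = true) {p s : ℕ} (hp : p < D.rank) (hs : s < D.nroots)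
    (t : F) : A.np p * A.n s t * (A.np p)⁻¹ = A.n (c.w p s) ((c.T.eta p s : F) * t) := by
  have h1 := A.np_conj hN hp hs t
  have h2 := A.np_conj hN hp (c.neg_lt hs) (-t⁻¹)
  rw [c.w_neg hp hs, c.eta_neg hp hs] at h2
  have hη : ((c.T.eta p s : F))⁻¹ = c.T.eta p s := inv_eq_of_mul_eq_one_right (c.eta_F_sq p s)
  have e : (c.T.eta p s : F) * -t⁻¹ = -((c.T.eta p s : F) * t)⁻¹ := by
    rw [mul_inv, hη, mul_neg]
  rw [e] at h2
  unfold np
  rw [show A.n (D.simple p) 1 * A.n s t * (A.n (D.simple p) 1)⁻¹ =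
    (A.n (D.simple p) 1 * A.X s t * (A.n (D.simple p) 1)⁻¹) *
    (A.n (D.simple p) 1 * A.X (D.neg s) (-t⁻¹) * (A.n (D.simple p) 1)⁻¹) *
    (A.n (D.simple p) 1 * A.X s t * (A.n (D.simple p) 1)⁻¹) by simp only [n]; group, h1, h2]
  rfl

theorem h_conj_n (hN : checkNbr c.T = true) {p s : ℕ} (hp : p < D.rank) (t : Fˣ)
    (hs : s < D.nroots) (a : F) : A.h (D.simple p) (t : F) * A.n s a * (A.h (D.simple p) (t : F))⁻¹ =
      A.n s ((chi (c := c) p t s : F) * a) := by
  have h1 := A.h_conj hN hp t hs a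
  have h2 := A.h_conj hN hp t (c.neg_lt hs) (-a⁻¹)
  have e : (chi (c := c) p t (D.neg s) : F) * -a⁻¹ = -((chi (c := c) p t s : F) * a)⁻¹ := by
    rw [chi, c.tchar_neg _ hs, Units.val_inv_eq_inv_val, mul_inv, mul_neg]; rfl
  rw [e] at h2
  set h := A.h (D.simple p) (t : F)
  rw [show h * A.n s a * h⁻¹ =
    (h * A.X s a * h⁻¹) * (h * A.X (D.neg s) (-a⁻¹) * h⁻¹) * (h * A.X s a * h⁻¹) by
    simp only [n]; group, h1, h2]
  rfl

theorem np_conj_H (hN : checkNbr c.T = true) {q : ℕ} (hq : q < D.rank) {g : Γ} (hg : g ∈ A.H) :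
    A.np q * g * (A.np q)⁻¹ ∈ A.H := by
  refine conj_closure_mem (S := {g | ∃ (p : ℕ) (t : Fˣ), p < D.rank ∧ g = A.h (D.simple p) (t : F)})
    ?_ hg
  rintro g ⟨p, t, hp, rfl⟩
  set k : F := (chi (c := c) p t (D.simple q) : F)
  have hk : k ≠ 0 := Units.ne_zero _
  have e1 := A.h_conj_n hN hp t (c.simple_lt hq) (-1 : F)
  rw [mul_neg_one] at e1
  have e2 : A.np q * A.h (D.simple p) (t : F) * (A.np q)⁻¹ =
      A.n (D.simple q) 1 * A.n (D.simple q) (-k) * A.h (D.simple p) (t : F) := by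
    rw [np, A.n_inv (c.simple_lt hq), ← e1]; group
  rw [e2, A.n_mul_n hq, neg_neg]
  exact mul_mem (mul_mem (A.h_mem_H hq one_ne_zero) (inv_mem (A.h_mem_H hq hk)))
    (Subgroup.subset_closure ⟨p, t, hp, rfl⟩)

theorem nw_conj_H (hN : checkNbr c.T = true) {L : List ℕ} (hL : ∀ p ∈ L, p < D.rank) {g : Γ}
    (hg : g ∈ A.H) : A.nw L * g * (A.nw L)⁻¹ ∈ A.H := by
  induction L with
  | nil => simpa using hg
  | cons p L ih =>
    have := A.np_conj_H hN (hL p (by simp)) (ih fun q hq => hL q (by simp [hq]))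
    rw [nw_cons]
    simpa [mul_assoc] using this

theorem nw_conj_H' (hN : checkNbr c.T = true) {L : List ℕ} (hL : ∀ p ∈ L, p < D.rank) {g : Γ}
    (hg : g ∈ A.H) : (A.nw L)⁻¹ * g * A.nw L ∈ A.H := by
  induction L generalizing g with
  | nil => simpa using hg
  | cons p L ih =>
    have hp : p < D.rank := hL p (by simp)
    have h0 : (A.np p)⁻¹ * g * A.np p ∈ A.H := by
      have hk := A.h_mem_H hp (t := (-1 : F)) (neg_ne_zero.2 one_ne_zero)
      have h1 := mul_mem (mul_mem hk (A.np_conj_H hN hp hg)) (inv_mem hk)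
      have e : (A.np p)⁻¹ * g * A.np p =
          (A.h (D.simple p) (-1) * A.np p) * g * (A.h (D.simple p) (-1) * A.np p)⁻¹ := by
        rw [← A.np_inv hp, inv_inv]
      rw [e]
      simpa [mul_assoc] using h1
    have := ih (fun q hq => hL q (by simp [hq])) h0
    rw [nw_cons]
    simpa [mul_assoc] using this

theorem nw_conj (hN : checkNbr c.T = true) {L : List ℕ} (hL : ∀ p ∈ L, p < D.rank) {s : ℕ}
    (hs : s < D.nroots) (u : F) :
    A.nw L * A.X s u * (A.nw L)⁻¹ = A.X (c.wl L s) ((c.wsign L s : F) * u) := by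
  induction L with
  | nil => simp [Cert.wsign]
  | cons p L ih =>
    have hL' : ∀ q ∈ L, q < D.rank := fun q hq => hL q (by simp [hq])
    have h := A.np_conj hN (hL p (by simp)) (c.wl_lt hL' hs) ((c.wsign L s : F) * u)
    rw [← ih hL'] at h
    rw [nw_cons, Cert.wl_cons, Cert.wsign, Int.cast_mul, mul_assoc (c.T.eta p (c.wl L s) : F), ← h,
      np]
    group

theorem nw_conj_n (hN : checkNbr c.T = true) {L : List ℕ} (hL : ∀ p ∈ L, p < D.rank) {s : ℕ}
    (hs : s < D.nroots) (t : F) :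
    A.nw L * A.n s t * (A.nw L)⁻¹ = A.n (c.wl L s) ((c.wsign L s : F) * t) := by
  induction L with
  | nil => simp [Cert.wsign]
  | cons p L ih =>
    have hL' : ∀ q ∈ L, q < D.rank := fun q hq => hL q (by simp [hq])
    have h := A.np_conj_n hN (hL p (by simp)) (c.wl_lt hL' hs) ((c.wsign L s : F) * t)
    rw [← ih hL'] at h
    rw [nw_cons, Cert.wl_cons, Cert.wsign, Int.cast_mul, mul_assoc (c.T.eta p (c.wl L s) : F), ← h]
    group

/-- A word keeping the fundamental roots positive lies in the abstract torus. -/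
theorem nw_mem_H (hN : checkNbr c.T = true) {L : List ℕ} (hL : ∀ p ∈ L, p < D.rank)
    (hpos : ∀ q < D.rank, c.Pos (c.wl L (D.simple q))) : A.nw L ∈ A.H := by
  generalize hn : L.length = n
  induction n using Nat.strong_induction_on generalizing L with
  | _ n ih =>
    rcases List.eq_nil_or_concat L with rfl | ⟨L', q, rfl⟩
    · simp [one_mem]
    rw [List.concat_eq_append] at hL hpos hn ⊢
    have hL' : ∀ p ∈ L', p < D.rank := fun p hp => hL p (by simp [hp])
    have hq : q < D.rank := hL q (by simp)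
    have hneg : ¬ c.Pos (c.wl L' (D.simple q)) := by
      have hwl := c.wl_lt hL' (c.simple_lt hq)
      rw [c.not_pos_iff hwl, ← c.wl_neg hL' (c.simple_lt hq), ← c.w_simple hq]
      have := hpos q hq
      rwa [c.wl_append, Cert.wl_cons, Cert.wl_nil] at this
    obtain ⟨P, p, B, rfl, e⟩ := c.exchange hL' hq hneg
    have hP : ∀ r ∈ P, r < D.rank := fun r hr => hL' r (by simp [hr])
    have hB : ∀ r ∈ B, r < D.rank := fun r hr => hL' r (by simp [hr])
    have hp : p < D.rank := hL' p (by simp)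
    have e1 := A.nw_conj_n hN hB (c.simple_lt hq) (1 : F)
    rw [mul_one, e, A.n_eq_h_mul hp] at e1
    have hh := A.h_mem_H hp (c.wsign_ne_zero (F := F) B (D.simple q))
    set k := A.h (D.simple p) (c.wsign B (D.simple q) : F) with hk
    set a := A.nw P * ((A.np p * k * (A.np p)⁻¹) * (A.np p * A.np p)) * (A.nw P)⁻¹
    have ha : a ∈ A.H := A.nw_conj_H hN hP (mul_mem (A.np_conj_H hN hp hh) (A.np_sq_mem hp))
    have heq : A.nw (P ++ p :: B ++ [q]) = a * A.nw (P ++ B) := by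
      simp only [A.nw_append, nw_cons, nw_nil, mul_one, a]
      rw [show A.nw P * (A.np p * A.nw B) * A.np q =
        A.nw P * A.np p * (A.nw B * A.np q * (A.nw B)⁻¹) * A.nw B by group, show A.np q = A.n (D.simple q) 1 from rfl, e1]
      group
    have hM : ∀ r ∈ P ++ B, r < D.rank := fun r hr => (List.mem_append.1 hr).elim (hP r) (hB r)
    rw [heq]
    refine mul_mem ha (ih (P ++ B).length (by simp at hn ⊢; omega) hM (fun r hr => ?_) rfl)
    have hθ := congrArg A.θ heq
    rw [map_mul, A.θnw hL, A.θnw hM] at hθ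
    have := c.wl_eq_of_eq (one_mem _) (A.θ_H ha) hL hM (by rw [one_mul]; exact hθ) (c.simple_lt hr)
    rw [← this]
    exact hpos r hr

/-- The subgroup of positive root elements. -/
def U : Subgroup Γ := A.V [] c.T.h

theorem X_mem_U {s : ℕ} (hs : c.Pos s) (t : F) : A.X s t ∈ A.U :=
  A.X_mem_V (L := []) hs hs.1 t

theorem U_eq : A.U = Subgroup.closure {g | ∃ (s : ℕ) (t : F), c.Pos s ∧ g = A.X s t} := by
  refine le_antisymm ((Subgroup.closure_le _).2 ?_) ((Subgroup.closure_le _).2 ?_)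
  · rintro g ⟨s, t, hs, -, rfl⟩
    exact Subgroup.subset_closure ⟨s, t, hs, rfl⟩
  · rintro g ⟨s, t, hs, rfl⟩
    exact A.X_mem_U hs t

theorem θ_U {u : Γ} (hu : u ∈ A.U) : A.θ u ∈ D.posUnipotent F := by
  rw [c.posUnipotent_eq]
  simpa using A.θ_mem_of_V (L := []) (by simp) hu

/-- The abstract Borel subgroup. -/
def B : Subgroup Γ := A.U ⊔ A.H

theorem H_le_normalizer_U (hN : checkNbr c.T = true) :
    A.H ≤ Subgroup.normalizer (A.U : Set Γ) := by
  intro g hg
  have key : ∀ g ∈ A.H, ∀ u ∈ A.U, g * u * g⁻¹ ∈ A.U := by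
    intro g hg u hu
    rw [A.U_eq] at hu ⊢
    refine conj_closure_mem ?_ hu
    rintro k ⟨s, t, hs, rfl⟩
    obtain ⟨v, hv⟩ := A.H_conj hN hg s hs.2 t
    exact Subgroup.subset_closure ⟨s, v, hs, hv⟩
  rw [Subgroup.mem_normalizer_iff]
  refine fun u => ⟨key g hg u, fun hu => ?_⟩
  simpa [mul_assoc] using key g⁻¹ (inv_mem hg) _ hu

theorem mem_B_iff (hN : checkNbr c.T = true) {g : Γ} :
    g ∈ A.B ↔ ∃ u ∈ A.U, ∃ a ∈ A.H, g = u * a := by
  rw [B, ← SetLike.mem_coe,
    Subgroup.coe_mul_of_right_le_normalizer_left _ _ (A.H_le_normalizer_U hN), Set.mem_mul]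
  exact ⟨fun ⟨u, hu, a, ha, e⟩ => ⟨u, hu, a, ha, e.symm⟩,
    fun ⟨u, hu, a, ha, e⟩ => ⟨u, hu, a, ha, e.symm⟩⟩

/-- The union of the double cosets of words. -/
def Big (g : Γ) : Prop :=
  ∃ b ∈ A.B, ∃ L : List ℕ, (∀ p ∈ L, p < D.rank) ∧ ∃ b' ∈ A.B, g = b * A.nw L * b'

theorem big_B_mul {b g : Γ} (hb : b ∈ A.B) (hg : A.Big g) : A.Big (b * g) := by
  obtain ⟨b₁, h₁, L, hL, b₂, h₂, rfl⟩ := hg
  exact ⟨b * b₁, mul_mem hb h₁, L, hL, b₂, h₂, by group⟩

theorem big_np_mul (hN : checkNbr c.T = true) {p : ℕ} (hp : p < D.rank) {g : Γ} (hg : A.Big g) :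
    A.Big (A.np p * g) := by
  obtain ⟨b, hb, L, hL, b₂, h₂, rfl⟩ := hg
  have hα := c.simple_lt hp
  obtain ⟨u, hu, a, ha, rfl⟩ := (A.mem_B_iff hN).1 hb
  -- split off the fundamental root
  obtain ⟨k, hk, t, rfl⟩ : ∃ k ∈ Subgroup.closure {g | ∃ (s : ℕ) (v : F), c.Pos s ∧
      s ≠ D.simple p ∧ g = A.X s v}, ∃ t : F, u = k * A.X (D.simple p) t := by
    set K := Subgroup.closure {g | ∃ (s : ℕ) (v : F), c.Pos s ∧ s ≠ D.simple p ∧ g = A.X s v}
    have hKc : ∀ t : F, ∀ k ∈ K, A.X (D.simple p) t * k * (A.X (D.simple p) t)⁻¹ ∈ K := by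
      intro t k hk
      refine conj_closure_mem ?_ hk
      rintro g ⟨s, v, hs, hne, rfl⟩
      have hneg : s ≠ D.neg (D.simple p) := fun e =>
        (c.not_pos_iff hα).2 (e ▸ hs) (c.pos_simple hp)
      rw [A.X_conj hα hs.2 hne hneg]
      refine mul_mem (Subgroup.subset_closure ⟨s, v, hs, hne, rfl⟩)
        (Subgroup.list_prod_mem _ fun g hg => ?_)
      obtain ⟨x, hx, rfl⟩ := List.mem_map.1 hg
      obtain ⟨h1, h2⟩ := c.commTerms_pos hp (Or.inl rfl) hs hne (Or.inl hx)
      exact Subgroup.subset_closure ⟨x.1, _, h1, h2, rfl⟩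
    clear hb
    rw [A.U_eq] at hu
    induction hu using Subgroup.closure_induction with
    | mem g hg =>
      obtain ⟨s, v, hs, rfl⟩ := hg
      by_cases h : s = D.simple p
      · exact ⟨1, one_mem _, v, by rw [one_mul, h]⟩
      · exact ⟨_, Subgroup.subset_closure ⟨s, v, hs, h, rfl⟩, 0, by rw [A.X_zero hα, mul_one]⟩
    | one => exact ⟨1, one_mem _, 0, by rw [A.X_zero hα, mul_one]⟩
    | mul x y _ _ hx hy =>
      obtain ⟨k, hk, t, rfl⟩ := hx
      obtain ⟨k', hk', t', rfl⟩ := hy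
      exact ⟨k * (A.X (D.simple p) t * k' * (A.X (D.simple p) t)⁻¹), mul_mem hk (hKc t k' hk'),
        t + t', by rw [← A.add _ hα]; group⟩
    | inv x _ hx =>
      obtain ⟨k, hk, t, rfl⟩ := hx
      exact ⟨A.X (D.simple p) (-t) * k⁻¹ * (A.X (D.simple p) (-t))⁻¹, hKc _ _ (inv_mem hk), -t,
        by rw [← A.X_inv hα]; group⟩
  have hk' : A.np p * k * (A.np p)⁻¹ ∈ A.B := by
    suffices A.np p * k * (A.np p)⁻¹ ∈ A.U from Subgroup.mem_sup_left this
    clear hb hu
    induction hk using Subgroup.closure_induction with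
    | mem g hg =>
      obtain ⟨s, v, hs, hne, rfl⟩ := hg
      rw [np, A.np_conj hN hp hs.2]
      exact A.X_mem_U (c.pos_w hp hs hne).1 _
    | one => simp [one_mem]
    | mul x y _ _ hx hy => simpa [mul_assoc] using mul_mem hx hy
    | inv x _ hx => simpa [mul_assoc] using inv_mem hx
  have ha' : (A.nw L)⁻¹ * a * A.nw L ∈ A.B := Subgroup.mem_sup_right (A.nw_conj_H' hN hL ha)
  suffices A.Big (A.np p * A.X (D.simple p) t * A.nw L) by
    obtain ⟨c₁, k₁, M, hM, c₂, k₂, e⟩ := this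
    refine ⟨(A.np p * k * (A.np p)⁻¹) * c₁, mul_mem hk' k₁, M, hM,
      c₂ * (((A.nw L)⁻¹ * a * A.nw L) * b₂), mul_mem k₂ (mul_mem ha' h₂), ?_⟩
    calc A.np p * (k * A.X (D.simple p) t * a * A.nw L * b₂) = (A.np p * k * (A.np p)⁻¹) *
          (A.np p * A.X (D.simple p) t * A.nw L) * ((A.nw L)⁻¹ * a * A.nw L * b₂) := by group
      _ = _ := by rw [e]; group
  have hR : ∀ q ∈ L.reverse, q < D.rank := fun q hq => hL q (List.mem_reverse.1 hq)
  set r := c.wl L.reverse (D.simple p)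
  have hr : r < D.nroots := c.wl_lt hR hα
  have hwr : c.wl L r = D.simple p := c.wl_reverse hL hα
  have hmove : ∀ v : F, A.X (D.simple p) v * A.nw L =
      A.nw L * A.X r ((c.wsign L r : F) * v) := by
    intro v
    have h := A.nw_conj hN hL hr ((c.wsign L r : F) * v)
    rw [hwr, ← mul_assoc, c.wsign_sq, one_mul] at h
    rw [← h]; group
  have hpL : ∀ q ∈ p :: L, q < D.rank := by simpa using ⟨hp, hL⟩
  by_cases hpos : c.Pos r
  · refine ⟨1, one_mem _, p :: L, hpL, A.X r ((c.wsign L r : F) * t),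
      Subgroup.mem_sup_left (A.X_mem_U hpos _), ?_⟩
    rw [one_mul, nw_cons, mul_assoc, hmove]; group
  by_cases ht : t = 0
  · subst ht
    exact ⟨1, one_mem _, p :: L, hpL, 1, one_mem _, by
      rw [A.X_zero hα, nw_cons]; group⟩
  set η : F := (c.T.eta p (D.simple p) : F)
  have hη : η ≠ 0 := left_ne_zero_of_mul (b := η) (by rw [c.eta_F_sq]; exact one_ne_zero)
  set b := η * t
  have hb : b ≠ 0 := mul_ne_zero hη ht
  have e1 : A.np p * A.X (D.simple p) t = A.X (D.neg (D.simple p)) b * A.np p := by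
    have h := A.np_conj hN hp hα t
    rw [c.w_simple hp] at h
    rw [np, ← h]; group
  have e2 : A.X (D.neg (D.simple p)) b =
      A.X (D.simple p) b⁻¹ * A.n (D.simple p) (-b⁻¹) * A.X (D.simple p) b⁻¹ := by
    rw [n, show (-(-b⁻¹)⁻¹ : F) = b by field_simp]
    simp only [← mul_assoc, A.add _ hα, add_neg_cancel, A.X_zero hα, one_mul]
    simp only [mul_assoc, A.add _ hα, neg_add_cancel, A.X_zero hα, mul_one]
  have hrn : D.neg r < D.nroots := c.neg_lt hr
  set w := η * b⁻¹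
  have e3 : A.X (D.simple p) b⁻¹ * A.np p = A.np p * A.X (D.neg (D.simple p)) w := by
    have h := A.np_conj hN hp (c.neg_lt hα) w
    rw [c.w_neg hp hα, c.w_simple hp, c.neg_neg hα, c.eta_neg hp hα, ← mul_assoc, c.eta_F_sq,
      one_mul] at h
    rw [np, ← h]; group
  have e4 : A.X (D.neg (D.simple p)) w * A.nw L =
      A.nw L * A.X (D.neg r) ((c.wsign L r : F) * w) := by
    have h := A.nw_conj hN hL hrn ((c.wsign L r : F) * w)
    have hσ : (c.wsign L r : F) * ((c.wsign L r : F) * w) = w := by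
      rw [← mul_assoc, c.wsign_sq, one_mul]
    rw [c.wl_neg hL hr, hwr, c.wsign_neg hL hr, hσ] at h
    rw [← h]; group
  refine ⟨A.X (D.simple p) b⁻¹ * (A.h (D.simple p) (-b⁻¹) * (A.np p * A.np p)),
    mul_mem (Subgroup.mem_sup_left (A.X_mem_U (c.pos_simple hp) _)) (Subgroup.mem_sup_right
      (mul_mem (A.h_mem_H hp (neg_ne_zero.2 (inv_ne_zero hb))) (A.np_sq_mem hp))),
    L, hL, A.X (D.neg r) ((c.wsign L r : F) * w),
    Subgroup.mem_sup_left (A.X_mem_U ((c.not_pos_iff hr).1 hpos) _), ?_⟩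
  rw [e1, e2, A.n_eq_h_mul hp]
  calc _ = A.X (D.simple p) b⁻¹ * A.h (D.simple p) (-b⁻¹) * A.np p *
        (A.X (D.simple p) b⁻¹ * A.np p) * A.nw L := by group
    _ = A.X (D.simple p) b⁻¹ * A.h (D.simple p) (-b⁻¹) * A.np p * A.np p *
        (A.X (D.neg (D.simple p)) w * A.nw L) := by rw [e3]; group
    _ = _ := by rw [e4]; group

theorem gen_simple (hN : checkNbr c.T = true) : Subgroup.closure
    ((A.B : Set Γ) ∪ {g | ∃ p < D.rank, g = A.np p}) = ⊤ := by
  set S := Subgroup.closure ((A.B : Set Γ) ∪ {g | ∃ p < D.rank, g = A.np p})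
  rw [eq_top_iff, ← A.gen, Subgroup.closure_le]
  rintro g ⟨r, hr, t, rfl⟩
  revert t
  refine c.root_induction (P := fun r => ∀ t : F, A.X r t ∈ S) (fun p hp t => ?_)
    (fun p hp r hr h t => ?_) r hr
  · exact Subgroup.subset_closure (Or.inl (Subgroup.mem_sup_left (A.X_mem_U (c.pos_simple hp) t)))
  · have e : A.X (c.w p r) t =
        A.np p * A.X r ((c.T.eta p r : F) * t) * (A.np p)⁻¹ := by
      rw [np, A.np_conj hN hp hr, ← mul_assoc, c.eta_F_sq, one_mul]
    rw [e]
    exact mul_mem (mul_mem (Subgroup.subset_closure (Or.inr ⟨p, hp, rfl⟩)) (h _))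
      (inv_mem (Subgroup.subset_closure (Or.inr ⟨p, hp, rfl⟩)))

/-- The Bruhat decomposition. -/
theorem big_all (hN : checkNbr c.T = true) (g : Γ) : A.Big g := by
  have h := A.gen_simple hN ▸ Subgroup.mem_top g
  suffices ∀ x, A.Big x → A.Big (g * x) by
    simpa using this 1 ⟨1, one_mem _, [], by simp, 1, one_mem _, by simp⟩
  induction h using Subgroup.closure_induction'' with
  | mem k hk =>
    rcases hk with hk | ⟨p, hp, rfl⟩
    · exact fun x => A.big_B_mul hk
    · exact fun x => A.big_np_mul hN hp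
  | inv_mem k hk =>
    rcases hk with hk | ⟨p, hp, rfl⟩
    · exact fun x => A.big_B_mul (inv_mem hk)
    · intro x hx
      rw [A.np_inv hp, mul_assoc]
      exact A.big_B_mul (Subgroup.mem_sup_right (A.h_mem_H hp (neg_ne_zero.2 one_ne_zero)))
        (A.big_np_mul hN hp hx)
  | one => simp
  | mul a b _ _ ha hb => exact fun x hx => by rw [mul_assoc]; exact ha _ (hb _ hx)

/-- The kernel is central and lies in the abstract torus. -/
theorem ker_le (hN : checkNbr c.T = true) : A.θ.ker ≤ A.H ⊓ Subgroup.center Γ := by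
  have hcent : ∀ n ∈ A.H, A.θ n = 1 → n ∈ Subgroup.center Γ := by
    intro n hn he
    rw [Subgroup.mem_center_iff]
    intro g
    have hg : g ∈ Subgroup.centralizer {n} := by
      refine (?_ : (⊤ : Subgroup Γ) ≤ Subgroup.centralizer {n}) (Subgroup.mem_top g)
      rw [← A.gen, Subgroup.closure_le]
      rintro x ⟨r, hr, t, rfl⟩
      obtain ⟨v, hv⟩ := A.H_conj hN hn r hr t
      have h := congrArg A.θ hv
      simp only [map_mul, map_inv, he, inv_one, mul_one, one_mul, A.θX r hr] at h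
      rw [← c.xg_inj hr h] at hv
      rw [SetLike.mem_coe, Subgroup.mem_centralizer_singleton_iff]
      calc A.X r t * n = (n * A.X r t * n⁻¹) * n := by rw [hv]
        _ = _ := by group
    exact (Subgroup.mem_centralizer_singleton_iff.1 hg)
  intro k hk
  rw [MonoidHom.mem_ker] at hk
  obtain ⟨b, hb, L, hL, b', hb', rfl⟩ := A.big_all hN k
  obtain ⟨u, hu, a, ha, rfl⟩ := (A.mem_B_iff hN).1 hb
  obtain ⟨u', hu', a', ha', rfl⟩ := (A.mem_B_iff hN).1 hb'
  -- move the second torus factor to the left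
  have hv : a'⁻¹ * u' * a' ∈ A.U := by
    have := (Subgroup.mem_normalizer_iff.1 (A.H_le_normalizer_U hN (inv_mem ha')) u').1 hu'
    rwa [inv_inv] at this
  set a₂ := a * (A.nw L * a' * (A.nw L)⁻¹)
  set v := a'⁻¹ * u' * a'
  have ha₂ : a₂ ∈ A.H := mul_mem ha (A.nw_conj_H hN hL ha')
  have e : u * a * A.nw L * (u' * a') = u * (a₂ * A.nw L) * v := by simp only [a₂, v]; group
  rw [e] at hk ⊢
  rw [map_mul, map_mul, map_mul, A.θnw hL] at hk
  have hmN : A.θ a₂ * c.nw F L ∈ D.monomialSubgroup F :=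
    mul_mem (Subgroup.mem_sup_left (A.θ_H ha₂)) (c.nw_mem_N hL)
  have hmU : A.θ a₂ * c.nw F L ∈ D.posUnipotent F := by
    rw [show A.θ a₂ * c.nw F L = (A.θ u)⁻¹ * (A.θ u * (A.θ a₂ * c.nw F L) * A.θ v) *
      (A.θ v)⁻¹ by group, hk, mul_one]
    exact mul_mem (inv_mem (A.θ_U hu)) (inv_mem (A.θ_U hv))
  have hone : A.θ a₂ * c.nw F L = 1 := c.U_inf_N.le ⟨hmU, hmN⟩
  have hsame : ∀ q < D.rank, c.Pos (c.wl L (D.simple q)) := by
    intro q hq
    rw [c.wl_eq_of_eq (L := L) (M := []) (A.θ_H ha₂) (one_mem _) hL (by simp)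
      (by rw [hone, Cert.nw_nil, mul_one]) (c.simple_lt hq)]
    exact c.pos_simple hq
  have hn : a₂ * A.nw L ∈ A.H := mul_mem ha₂ (A.nw_mem_H hN hL hsame)
  have hn1 : A.θ (a₂ * A.nw L) = 1 := by rw [map_mul, A.θnw hL, hone]
  have huv : v = u⁻¹ := by
    refine A.eq_of_mem_V (L := []) (by simp) hv (inv_mem hu) ?_
    rw [map_inv, eq_inv_iff_mul_eq_one]
    rw [hone, mul_one] at hk
    calc A.θ v * A.θ u = (A.θ u)⁻¹ * (A.θ u * A.θ v) * A.θ u := by group
      _ = 1 := by rw [hk]; group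
  have hc := hcent _ hn hn1
  rw [huv, Subgroup.mem_center_iff.1 hc u, mul_inv_cancel_right]
  exact ⟨hn, hc⟩

theorem θ_mem_group (g : Γ) : A.θ g ∈ D.group F := by
  suffices (⊤ : Subgroup Γ) ≤ (D.group F).comap A.θ from this (Subgroup.mem_top g)
  rw [← A.gen, Subgroup.closure_le]
  rintro x ⟨r, hr, t, rfl⟩
  rw [SetLike.mem_coe, Subgroup.mem_comap, A.θX r hr]
  exact c.xg_mem_group hr t

theorem θ_surj {g : GL D.Idx F} (hg : g ∈ D.group F) : ∃ x : Γ, A.θ x = g := by
  suffices D.group F ≤ A.θ.range from this hg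
  rw [c.group_eq, Subgroup.closure_le]
  rintro x ⟨r, hr, t, rfl⟩
  exact ⟨A.X r t, A.θX r hr t⟩

theorem ker_eq_center (hN : checkNbr c.T = true) : A.θ.ker = Subgroup.center Γ := by
  refine le_antisymm ((A.ker_le hN).trans inf_le_right) fun z hz => ?_
  have h : (⟨A.θ z, A.θ_mem_group z⟩ : ↥(D.group F)) ∈ Subgroup.center ↥(D.group F) := by
    rw [Subgroup.mem_center_iff]
    intro g
    obtain ⟨x, hx⟩ := A.θ_surj g.2
    refine Subtype.ext ?_
    show (g : GL D.Idx F) * A.θ z = A.θ z * g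
    rw [← hx, ← map_mul, ← map_mul, Subgroup.mem_center_iff.1 hz x]
  rw [c.center_group_eq_bot, Subgroup.mem_bot] at h
  exact congrArg Subtype.val h

/-- Perfectness from the fundamental root elements. -/
theorem perfect_of_simple (hN : checkNbr c.T = true)
    (h : ∀ p < D.rank, ∀ t : F, A.X (D.simple p) t ∈ commutator Γ) : commutator Γ = ⊤ := by
  rw [eq_top_iff, ← A.gen, Subgroup.closure_le]
  rintro g ⟨r, hr, t, rfl⟩
  revert t
  refine c.root_induction (P := fun r => ∀ t : F, A.X r t ∈ commutator Γ) h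
    (fun p hp r hr hP t => ?_) r hr
  have := (Subgroup.Normal.conj_mem (H := commutator Γ) inferInstance _
    (hP ((c.T.eta p r : F) * t)) (A.np p))
  rwa [np, A.np_conj hN hp hr, ← mul_assoc, c.eta_F_sq, one_mul] at this

theorem mem_commutator_of_scale (hN : checkNbr c.T = true) {p q : ℕ} (hp : p < D.rank)
    (hq : q < D.rank) {a : Fˣ} (ha : ((a ^ c.T.pairing (D.simple q) (D.simple p) : Fˣ) : F) ≠ 1)
    (t : F) : A.X (D.simple p) t ∈ commutator Γ := by
  have hα := c.simple_lt hp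
  set k : F := (chi (c := c) q a (D.simple p) : F)
  have hk : k ≠ 1 := by
    have : chi (c := c) q a (D.simple p) = a ^ c.T.pairing (D.simple q) (D.simple p) := by
      have h1 := c.hg_eq (c.simple_lt hq) a
      rw [c.hg_eq_torus (c.simple_lt hq), Cert.torus_apply, dg_eq_iff] at h1
      exact h1 _ hα
    show ((chi (c := c) q a (D.simple p) : Fˣ) : F) ≠ 1
    rw [this]; exact ha
  set u := t / (k - 1)
  have e : A.X (D.simple p) t = ⁅A.h (D.simple q) (a : F), A.X (D.simple p) u⁆ := by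
    rw [commutatorElement_def, A.h_conj hN hq a hα, A.X_inv hα, A.add _ hα]
    congr 1
    have := sub_ne_zero.2 hk
    simp only [u]
    field_simp
    ring
  rw [e, commutator_def]
  exact Subgroup.commutator_mem_commutator (Subgroup.mem_top _) (Subgroup.mem_top _)

theorem mem_commutator_of_goodPair {p b r s : ℕ} (hp : p < D.rank) (hr : r < D.nroots)
    (hs : s < D.nroots) (h : c.T.goodPair p b r s = true)
    (hb : ∀ C : ℤ, C ≠ 0 → C.natAbs ≤ b → (C : F) ≠ 0) (t : F) :
    A.X (D.simple p) t ∈ commutator Γ := by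
  have hα := c.simple_lt hp
  simp only [Tables.goodPair, Bool.and_eq_true, beq_iff_eq] at h
  obtain ⟨hcode, h⟩ := h
  match hL : c.T.commTerms r s with
  | [] => simp [hL] at h
  | _ :: _ :: _ => simp [hL] at h
  | [(k, C, i, j)] =>
    simp only [hL, Bool.and_eq_true, Nat.beq_eq, Nat.ble_eq, Bool.not_eq_true'] at h
    obtain ⟨⟨⟨⟨rfl, rfl⟩, rfl⟩, hC0⟩, hCb⟩ := h
    have hC : (C : F) ≠ 0 := hb C (fun e => by rw [e] at hC0; simp at hC0) hCb
    have hne : s ≠ r ∧ s ≠ D.neg r := by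
      rw [← c.simple_eq hp] at hcode
      have hpos := (c.code_pos_iff hα).2 (c.h_le_simple hp)
      constructor
      · rintro rfl
        have hv := c.vec_of_code (k := 1) hα hr hr (by omega) (fun i hi => by
          have := c.T.vec_bound s i
          have := c.T.vec_bound (D.simple p) i
          rw [abs_lt]; omega) p hp
        rw [c.vec_simple hp hp, if_pos rfl] at hv
        omega
      · rintro rfl
        rw [c.code_neg hr] at hcode
        omega
    set v := -t / (C : F)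
    have e : A.X (D.simple p) t = ⁅(A.X s v)⁻¹, (A.X r 1)⁻¹⁆ := by
      simp only [commutatorElement_def, inv_inv]
      have hcomm := A.comm r hr s hs hne.1 hne.2 (1 : F) v
      rw [hL] at hcomm
      simp only [List.map_cons, List.map_nil, List.prod_cons, List.prod_nil, mul_one, pow_one]
        at hcomm
      rw [mul_assoc, hcomm, ← c.simple_eq hp, show t = (C : F) * -1 * v by
        simp only [v]; field_simp]
      group
    rw [e, commutator_def]
    exact Subgroup.commutator_mem_commutator (Subgroup.mem_top _) (Subgroup.mem_top _)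

include A in
theorem perfect (hN : checkNbr c.T = true) (hP : checkPerfect c.T = true) :
    commutator Γ = ⊤ := by
  refine A.perfect_of_simple hN fun p hp t => ?_
  simp only [checkPerfect, Tables.allNodes, List.all_eq_true, List.any_eq_true,
    List.mem_range] at hP
  obtain ⟨r, hr, s, hs, h⟩ := hP p (c.rank_eq ▸ hp)
  refine A.mem_commutator_of_goodPair hp (c.nroots_eq.symm ▸ hr) (c.nroots_eq.symm ▸ hs) h ?_ t
  intro C h1 h2
  rcases Int.natAbs_eq C with e | e <;>
    rw [e, show C.natAbs = 1 by omega] <;> simp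

include A in
theorem perfect_odd (hN : checkNbr c.T = true) (hP : checkPerfectOdd c.T = true)
    (hF : ∃ a : F, a ≠ 0 ∧ a ≠ 1) : commutator Γ = ⊤ := by
  refine A.perfect_of_simple hN fun p hp t => ?_
  by_cases hbig : ∃ a : Fˣ, ((a ^ (2 : ℤ) : Fˣ) : F) ≠ 1
  · obtain ⟨a, ha⟩ := hbig
    exact A.mem_commutator_of_scale hN hp hp (a := a) (by rw [c.pairing_self hp]; exact ha) t
  push Not at hbig
  have h2 : (2 : F) ≠ 0 := by
    intro h2
    obtain ⟨a, ha0, ha1⟩ := hF
    have h := hbig (Units.mk0 a ha0)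
    rw [Units.val_zpow_eq_zpow_val, Units.val_mk0, zpow_two] at h
    refine ha1 (sub_eq_zero.1 (mul_self_eq_zero.1 ?_))
    linear_combination h - (a - 1) * h2
  simp only [checkPerfectOdd, Tables.allNodes, List.all_eq_true, List.any_eq_true,
    List.mem_range, Bool.or_eq_true, Bool.not_eq_true', beq_eq_false_iff_ne] at hP
  rcases hP p (c.rank_eq ▸ hp) with ⟨r, hr, s, hs, h⟩ | ⟨q, hq, hodd⟩
  · refine A.mem_commutator_of_goodPair hp (c.nroots_eq.symm ▸ hr) (c.nroots_eq.symm ▸ hs) h ?_ t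
    intro C h1 h3
    have : C.natAbs = 1 ∨ C.natAbs = 2 := by omega
    rcases Int.natAbs_eq C with e | e <;> rcases this with e' | e' <;>
      rw [e, e'] <;> simp [h2]
  · rw [← c.rank_eq] at hq
    refine A.mem_commutator_of_scale hN hp hq (a := -1) ?_ t
    rw [c.pairing_simple hq, c.simple_eq hp]
    obtain ⟨m, hm⟩ : Odd (c.T.cartan q (c.T.simple p)) := Int.odd_iff.2 (by omega)
    rw [hm, _root_.zpow_add, _root_.zpow_mul]
    simp only [zpow_two, zpow_one, neg_mul, one_mul, neg_neg, _root_.one_zpow, Units.val_neg,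
      Units.val_one]
    intro e
    exact h2 (by linear_combination -e)

end StData

end Cfsg.Agent.Lie.Chev
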