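import Cfsg.Agent.Lib.Lie.Chev.CertsFull
import Cfsg.Agent.Lib.Lie.Chev.Bruhat
import Cfsg.Prelude.Def_ChevAutomorphisms

/-! Generation by the fundamental root elements and their negatives; automorphisms determined on
them. -/

set_option autoImplicit false

namespace Cfsg.Agent.Lie.Chev

open Cfsg.Lie Matrix

namespace CertFull

variable {D : ChevalleyDatum} (c : CertFull D) {F : Type*} [Field F]

include c

/-- Induction on the elements of the group from the fundamental root elements. -/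
theorem simple_induction {P : ↥(D.group F) → Prop}
    (hsimple : ∀ i (hi : i < D.rank) (t : F),
      P ⟨c.xg (D.simple i) t, c.xg_mem_group (c.simple_lt hi) t⟩ ∧
      P ⟨c.xg (D.neg (D.simple i)) t, c.xg_mem_group (c.neg_lt (c.simple_lt hi)) t⟩)
    (one : P 1) (mul : ∀ a b, P a → P b → P (a * b)) (inv : ∀ a, P a → P a⁻¹)
    (g : ↥(D.group F)) : P g := by
  let S : Subgroup ↥(D.group F) :=
    { carrier := {g | P g}
      one_mem' := one
      mul_mem' := fun {a b} ha hb => mul a b ha hb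
      inv_mem' := fun {a} ha => inv a ha }
  suffices h : S = ⊤ from (h ▸ Subgroup.mem_top g : g ∈ S)
  have hnp : ∀ i (hi : i < D.rank), (⟨c.np F i, c.N_le_group (by
      simpa using c.nw_mem_N (F := F) (L := [i]) (by simpa using hi))⟩ : ↥(D.group F)) ∈ S := by
    intro i hi
    have h := mul _ _ (mul _ _ (hsimple i hi (1 : F)).1 (hsimple i hi (-1⁻¹ : F)).2)
      (hsimple i hi (1 : F)).1
    exact h
  have hroot : ∀ r, r < D.nroots → ∀ (t : F) (h : c.xg r t ∈ D.group F),
      (⟨c.xg r t, h⟩ : ↥(D.group F)) ∈ S := by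
    intro r hr
    refine c.root_induction (P := fun r => ∀ (t : F) (h : c.xg r t ∈ D.group F),
      (⟨c.xg r t, h⟩ : ↥(D.group F)) ∈ S) (fun i hi t h => (hsimple i hi t).1)
      (fun p hp r hr ih t h => ?_) r hr
    have e := c.ng_conj hp hr ((c.T.eta p r : F) * t)
    rw [← mul_assoc, c.eta_F_sq, one_mul] at e
    have hn := hnp p hp
    have hx := ih ((c.T.eta p r : F) * t) (c.xg_mem_group hr _)
    have hm := mul_mem (mul_mem hn hx) (inv_mem hn)
    convert hm using 1
    refine Subtype.ext ?_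
    show c.xg (c.w p r) t = c.np F p * c.xg r ((c.T.eta p r : F) * t) * (c.np F p)⁻¹
    show _ = c.ng (D.simple p) 1 * _ * (c.ng (D.simple p) 1)⁻¹
    rw [e, mul_inv_cancel_right]
  rw [eq_top_iff]
  rintro ⟨x, hx⟩ -
  have hx' := hx
  rw [c.group_eq] at hx'
  induction hx' using Subgroup.closure_induction with
  | mem x h =>
    obtain ⟨r, hr, t, rfl⟩ := h
    exact hroot r hr t _
  | one => exact one_mem S
  | mul a b ha hb iha ihb =>
    rw [← c.group_eq] at ha hb
    exact mul_mem (iha ha) (ihb hb)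
  | inv a ha iha =>
    rw [← c.group_eq] at ha
    exact inv_mem (iha ha)

theorem fieldAut_graphAut_comm (f g : ↥(D.group F) ≃* ↥(D.group F)) (hf : D.IsFieldAut f)
    (hg : D.IsGraphAut g) (y : ↥(D.group F)) : f (g y) = g (f y) := by
  obtain ⟨σ, hσ⟩ := hf
  obtain ⟨π, -, hπ⟩ := hg
  refine c.simple_induction (P := fun y => f (g y) = g (f y)) (fun i hi t => ?_) (by simp)
    (fun a b ha hb => by simp [ha, hb]) (fun a ha => by simp [ha]) y
  have hj : D.simple (π ⟨i, hi⟩) < D.nroots := c.simple_lt (π ⟨i, hi⟩).2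
  have hα := c.simple_lt hi
  have key : ∀ {u v : ℕ} (hu : u < D.nroots) (_hv : v < D.nroots) (e : ℕ),
      (∀ (x : ↥(D.group F)) (t : F), ((x : GL D.Idx F) : Matrix D.Idx D.Idx F) = D.x F u t →
        ((g x : GL D.Idx F) : Matrix D.Idx D.Idx F) = D.x F v (t ^ e)) →
      f (g ⟨c.xg u t, c.xg_mem_group hu t⟩) = g (f ⟨c.xg u t, c.xg_mem_group hu t⟩) := by
    intro u v hu hv e h
    refine Subtype.ext (Units.ext ?_)
    rw [hσ _ v _ hv (h _ t (c.xg_val _ _)), h _ (σ t) (hσ _ u t hu (c.xg_val _ _)), map_pow]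
  exact ⟨key hα hj _ fun x t => (hπ x ⟨i, hi⟩ t).1,
    key (c.neg_lt hα) (c.neg_lt hj) _ fun x t => (hπ x ⟨i, hi⟩ t).2⟩

end CertFull

end Cfsg.Agent.Lie.Chev
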