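import Cfsg.Agent.Lib.Lie.Chev.StMap

/-! Twisted tori in Chevalley groups, handled through the simply connected group. -/

set_option autoImplicit false
set_option maxRecDepth 4000

namespace Cfsg.Agent.Lie.Chev

open Cfsg.Lie Matrix

/-- Pad a parameter vector by ones. -/
def padv {G : Type*} [CommGroup G] (l : ℕ) : (Fin l → G) →* (ℕ → G) where
  toFun z i := if h : i < l then z ⟨i, h⟩ else 1
  map_one' := by funext i; simp
  map_mul' z w := by funext i; by_cases h : i < l <;> simp [h]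

theorem eq_of_pairing {G : Type*} [CommGroup G] {l m : ℕ} {C : Matrix (Fin l) (Fin m) ℤ}
    {B : Matrix (Fin m) (Fin l) ℤ} (hB : C * B = 1) {z w : Fin l → G}
    (h : ∀ j, ∏ i, z i ^ C i j = ∏ i, w i ^ C i j) : z = w := by
  have key : ∀ v : Fin l → G, ∀ k, v k = ∏ j : Fin m, (∏ i : Fin l, v i ^ C i j) ^ B j k := by
    intro v k
    calc v k = ∏ i : Fin l, v i ^ ((C * B) i k) := by
          rw [hB, Finset.prod_eq_single k]
          · simp
          · intro i _ hi; simp [Matrix.one_apply_ne hi]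
          · simp
      _ = _ := by
          simp only [Matrix.mul_apply, ← zpow_sum_eq, _root_.zpow_mul, ← Finset.prod_zpow]
          rw [Finset.prod_comm]
  funext k
  rw [key z k, key w k]
  simp only [h]

namespace CertFull

variable {D : ChevalleyDatum} (c : CertFull D) {F L : Type*} [Field F] [Field L]
include c

theorem tchar_padv {l : ℕ} (hl : D.rank = l) (z : Fin l → Fˣ) (s : ℕ) :
    c.tchar (padv l z) s = ∏ i : Fin l, z i ^ c.T.cartan i s := by
  rw [Cert.tchar, hl, Finset.prod_range]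
  exact Finset.prod_congr rfl fun i _ => by simp [padv]

/-- The parametrisation of the torus of the simply connected group. -/
def IsPhi {l : ℕ} (Φ : (Fin l → Fˣ) →* D.SteinbergGroup F) : Prop :=
  (∀ i a, Φ (Pi.mulSingle i a) = (c.stGroupData F).h (D.simple i) (a : F)) ∧
    (∀ z, (c.stGroupData F).θ (Φ z) = c.torus (padv l z)) ∧ (c.stGroupData F).H ≤ Φ.range

theorem exists_phi (hN : checkNbr c.T = true) {l : ℕ} (hl : D.rank = l) :
    ∃ Φ : (Fin l → Fˣ) →* D.SteinbergGroup F, c.IsPhi Φ :=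
  (c.stGroupData F).exists_torusHom hN (c.stGroup_R3 F) hl

/-- Anything over the torus is in the parametrised torus. -/
theorem mem_phi_range (hN : checkNbr c.T = true) {l : ℕ} (hl : D.rank = l)
    {Φ : (Fin l → Fˣ) →* D.SteinbergGroup F} (hΦ : c.IsPhi Φ) {y : D.SteinbergGroup F}
    (hy : (c.stGroupData F).θ y ∈ D.diagonalSubgroup F) : ∃ z, Φ z = y := by
  rw [c.diagonalSubgroup_eq] at hy
  obtain ⟨z, hz⟩ := hy
  have h1 : (Φ fun i => z i)⁻¹ * y ∈ (c.stGroupData F).θ.ker := by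
    rw [MonoidHom.mem_ker, map_mul, map_inv, hΦ.2.1, ← hz,
      c.torus_congr (y := padv l fun i : Fin l => z i) (y' := z)
        fun i hi => by simp [padv, (hl ▸ hi : i < l)],
      inv_mul_cancel]
  obtain ⟨w, hw⟩ := hΦ.2.2 ((c.stGroupData F).ker_le hN h1).1
  exact ⟨(fun i : Fin l => z i) * w, by rw [map_mul, hw, mul_inv_cancel_left]⟩

end CertFull

section Emb

variable {D E : ChevalleyDatum} {c : CertFull D} {d : CertFull E} {io : ℕ → ℕ}
  {F L : Type*} [Field F] [Field L] {l : ℕ}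

/-- The parametrised torus under an embedding. -/
theorem stMap_phi (he : RootEmb c d io) (hl : D.rank = l) {φ : F →+* L}
    {m : D.SteinbergGroup F →* E.SteinbergGroup L}
    (hm : ∀ r < D.nroots, ∀ t : F,
      m ((c.stGroupData F).X r t) = (d.stGroupData L).X (io r) (φ t))
    {Φ : (Fin l → Fˣ) →* D.SteinbergGroup F} (hΦ : c.IsPhi Φ) {l' : ℕ} (hl' : E.rank = l')
    {Ψ : (Fin l' → Lˣ) →* E.SteinbergGroup L} (hΨ : d.IsPhi Ψ) (z : Fin l → Fˣ) :
    m (Φ z) = Ψ fun j => padv l (fun i => Units.map (φ : F →* L) (z i)) j := by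
  have key : m.comp Φ = Ψ.comp (MonoidHom.mk' (fun z : Fin l → Fˣ => fun j : Fin l' =>
      padv l (fun i => Units.map (φ : F →* L) (z i)) j) fun z w => by
        funext j
        simp only [Pi.mul_apply, map_mul]
        rw [show (fun i => Units.map (φ : F →* L) (z i) * Units.map (φ : F →* L) (w i)) =
          (fun i => Units.map (φ : F →* L) (z i)) * fun i => Units.map (φ : F →* L) (w i) from rfl,
          map_mul, Pi.mul_apply]) := by
    refine MonoidHom.pi_ext fun i a => ?_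
    have hi : (i : ℕ) < D.rank := hl ▸ i.2
    rw [MonoidHom.comp_apply, MonoidHom.comp_apply, hΦ.1, stMap_h he hm hi]
    have hil' : (i : ℕ) < l' := by have := he.rank_le; omega
    show _ = Ψ _
    rw [show (MonoidHom.mk' (fun z : Fin l → Fˣ => fun j : Fin l' =>
        padv l (fun i => Units.map (φ : F →* L) (z i)) j) _ : (Fin l → Fˣ) →* (Fin l' → Lˣ))
        (Pi.mulSingle i a) = Pi.mulSingle (⟨i, hil'⟩ : Fin l') (Units.map (φ : F →* L) a) from ?_,
      hΨ.1]
    · rfl
    funext j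
    show padv l (fun k => Units.map (φ : F →* L) ((Pi.mulSingle i a : Fin l → Fˣ) k)) j = _
    by_cases hji : (j : ℕ) = i
    · rw [show j = ⟨i, hil'⟩ from Fin.ext hji, Pi.mulSingle_eq_same]
      simp [padv]
    · rw [Pi.mulSingle_eq_of_ne fun e => hji (congrArg Fin.val e)]
      by_cases hjl : (j : ℕ) < l
      · have hne : (⟨j, hjl⟩ : Fin l) ≠ i := fun e => hji (congrArg Fin.val e)
        simp [padv, hjl, Pi.mulSingle_eq_of_ne hne]
      · simp [padv, hjl]
  exact DFunLike.congr_fun key z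

end Emb

namespace CertFull

variable {D E : ChevalleyDatum} (c : CertFull D) (d : CertFull E) {io : ℕ → ℕ}
  {L : Type*} [Field L] {l m : ℕ}
include c d

/-- The parametrisation is injective, seen in a larger adjoint group. -/
theorem phi_injective (hNd : checkNbr d.T = true) (he : RootEmb c d io) (hl : D.rank = l)
    (hm : E.rank = m) {Φ : (Fin l → Lˣ) →* D.SteinbergGroup L} (hΦ : c.IsPhi Φ)
    {B : Matrix (Fin m) (Fin l) ℤ}
    (hB : Matrix.of (fun (i : Fin l) (j : Fin m) => d.T.cartan i (d.T.simple j)) * B = 1) :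
    Function.Injective Φ := by
  obtain ⟨μ, hμ⟩ := exists_stMap he (RingHom.id L)
  obtain ⟨Ψ, hΨ⟩ := d.exists_phi (F := L) hNd hm
  refine (injective_iff_map_eq_one Φ).2 fun z hz => ?_
  have h := congrArg (d.stGroupData L).θ (stMap_phi he hl hμ hΦ hm hΨ z)
  rw [hz, map_one, map_one, hΨ.2.1, eq_comm, Cert.torus_apply, ← map_one (dg E L),
    dg_eq_iff] at h
  have hlm : l ≤ m := hl ▸ hm ▸ he.rank_le
  refine eq_of_pairing hB fun j => ?_
  have hjE : (j : ℕ) < E.rank := hm ▸ j.2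
  have h3 := h _ (d.simple_lt hjE)
  rw [Cert.tchar, d.simple_eq hjE, hm, ← Finset.prod_subset (Finset.range_mono hlm)
    (fun i hi hi' => ?_), Finset.prod_range] at h3
  · simp only [Pi.one_apply, _root_.one_zpow, Finset.prod_const_one, Matrix.of_apply]
    refine Eq.trans ?_ h3
    refine Finset.prod_congr rfl fun i _ => ?_
    have him : (i : ℕ) < m := by omega
    simp [padv, him]
  · rw [Finset.mem_range] at hi hi'
    simp [padv, hi, hi']

/-- The action of a word on the parametrised torus. -/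
theorem phi_conj (hN : checkNbr c.T = true) (hNd : checkNbr d.T = true) (he : RootEmb c d io)
    (hl : D.rank = l)
    (hm : E.rank = m) {Φ : (Fin l → Lˣ) →* D.SteinbergGroup L} (hΦ : c.IsPhi Φ)
    {B : Matrix (Fin m) (Fin l) ℤ}
    (hB : Matrix.of (fun (i : Fin l) (j : Fin m) => d.T.cartan i (d.T.simple j)) * B = 1)
    {W : List ℕ} (hW : ∀ p ∈ W, p < D.rank) {A : Matrix (Fin l) (Fin l) ℤ}
    (hA : ∀ (i : Fin l) (j : Fin m), d.T.cartan i (d.wl W.reverse (E.simple j)) =
      ∑ k : Fin l, A i k * d.T.cartan k (E.simple j))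
    (z : Fin l → Lˣ) :
    (c.stGroupData L).nw W * Φ z * ((c.stGroupData L).nw W)⁻¹ = Φ (mpow A z) := by
  have hmem : (c.stGroupData L).θ ((c.stGroupData L).nw W * Φ z * ((c.stGroupData L).nw W)⁻¹) ∈
      D.diagonalSubgroup L := by
    rw [map_mul, map_mul, map_inv, (c.stGroupData L).θnw hW, hΦ.2.1]
    exact c.N_conj_H (c.nw_mem_N hW) (c.torus_mem _)
  obtain ⟨z', hz'⟩ := c.mem_phi_range hN hl hΦ hmem
  rw [← hz']
  congr 1
  obtain ⟨μ, hμ⟩ := exists_stMap he (RingHom.id L)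
  obtain ⟨Ψ, hΨ⟩ := d.exists_phi (F := L) hNd hm
  have hlm : l ≤ m := hl ▸ hm ▸ he.rank_le
  have hWE : ∀ p ∈ W, p < E.rank := fun p hp => lt_of_lt_of_le (hW p hp) he.rank_le
  have hWr : ∀ p ∈ W.reverse, p < E.rank := fun p hp => hWE p (List.mem_reverse.1 hp)
  have himg : ∀ w : Fin l → Lˣ, (d.stGroupData L).θ (μ (Φ w)) = d.torus (padv l w) := fun w => by
    rw [stMap_phi he hl hμ hΦ hm hΨ, hΨ.2.1]
    refine d.torus_congr fun i hi => ?_
    rw [hm] at hi
    simp [padv, hi]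
  have key := congrArg (fun y => (d.stGroupData L).θ (μ y)) hz'
  simp only [map_mul, map_inv, himg, stMap_nw he hμ hW, (d.stGroupData L).θnw hWE] at key
  -- compare the values at the fundamental roots of the larger system
  have hval : ∀ (w : Fin l → Lˣ) (s : ℕ),
      d.tchar (padv l w) s = ∏ i : Fin l, w i ^ d.T.cartan i s := fun w s => by
    rw [Cert.tchar, hm, ← Finset.prod_subset (Finset.range_mono hlm)
      (fun i hi hi' => ?_), Finset.prod_range]
    · exact Finset.prod_congr rfl fun i _ => by simp [padv]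
    · rw [Finset.mem_range] at hi hi'
      simp [padv, hi']
  refine eq_of_pairing hB fun j => ?_
  have hjE : (j : ℕ) < E.rank := hm ▸ j.2
  have hs := d.simple_lt hjE
  have h1 := d.tchar_of_nw_conj hWE key.symm (d.wl_lt hWr hs)
  rw [d.wl_reverse hWE hs, hval, hval] at h1
  simp only [Matrix.of_apply]
  rw [← d.simple_eq hjE, h1]
  show _ = ∏ k, (∏ i, z i ^ A i k) ^ d.T.cartan k (E.simple j)
  simp only [hA, ← zpow_sum_eq, _root_.zpow_mul, ← Finset.prod_zpow]
  rw [Finset.prod_comm]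

end CertFull

end Cfsg.Agent.Lie.Chev

namespace Cfsg.Agent.Lie.Chev

open Cfsg.Lie Matrix

namespace CertFull

/-- A finite field of `q` elements is the fixed field of the `q`-th power in an extension. -/
theorem range_eq_fixed {F L : Type*} [Field F] [Field L] [Fintype F] (ι : F →+* L) {q : ℕ}
    (hF : Fintype.card F = q) {φ : L →+* L} (hφ : ∀ t, φ t = t ^ q) :
    Set.range ι = {t | φ t = t} := by
  classical
  have hq : 1 < q := hF ▸ Fintype.one_lt_card
  have hφι : ∀ t, φ (ι t) = ι t := fun t => by rw [hφ, ← map_pow, ← hF, FiniteField.pow_card]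
  ext t
  refine ⟨fun ⟨x, hx⟩ => hx ▸ hφι x, fun ht => ?_⟩
  by_contra hno
  set P : Polynomial L := Polynomial.X ^ q - Polynomial.X
  have hdeg : P.natDegree = q := FiniteField.X_pow_card_sub_X_natDegree_eq L hq
  have hP0 : P ≠ 0 := FiniteField.X_pow_card_sub_X_ne_zero L hq
  have h := Polynomial.card_le_degree_of_subset_roots (p := P)
    (Z := insert t (Finset.univ.image ι)) (fun x hx => by
      rw [Finset.mem_val, Finset.mem_insert, Finset.mem_image] at hx
      rw [Polynomial.mem_roots hP0]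
      rcases hx with rfl | ⟨y, -, rfl⟩
      · simp [P, ← hφ, show φ x = x from ht]
      · simp [P, ← hφ, hφι])
  rw [Finset.card_insert_of_notMem (fun h => hno (by simpa using h)),
    Finset.card_image_of_injective _ ι.injective, Finset.card_univ, hF, hdeg] at h
  omega

variable {D : ChevalleyDatum} (c : CertFull D) {F L : Type*} [Field F] [Field L]
  {ι : F →+* L} {φ : L →+* L}
  {μι : D.SteinbergGroup F →* D.SteinbergGroup L} {μφ : D.SteinbergGroup L →* D.SteinbergGroup L}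
include c

/-- The kernel of the parametrised torus in the adjoint group. -/
theorem θ_phi_eq_one {l : ℕ} (hl : D.rank = l) {Φ : (Fin l → Fˣ) →* D.SteinbergGroup F}
    (hΦ : c.IsPhi Φ) (z : Fin l → Fˣ) :
    (c.stGroupData F).θ (Φ z) = 1 ↔
      mpow (Matrix.of fun i j : Fin l => c.T.cartan i (c.T.simple j)) z = 1 := by
  have key : ∀ j : Fin l, c.tchar (padv l z) (D.simple j) =
      mpow (Matrix.of fun i j : Fin l => c.T.cartan i (c.T.simple j)) z j := fun j => by
    rw [c.tchar_padv hl, c.simple_eq (hl ▸ j.2)]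
    rfl
  rw [hΦ.2.1, Cert.torus_apply, ← map_one (dg D F), dg_eq_iff]
  constructor
  · intro h
    funext j
    rw [← key, h _ (c.simple_lt (hl ▸ j.2))]
    rfl
  · intro h s hs
    rw [c.tchar_eq_prod _ hs]
    refine Finset.prod_eq_one fun j hj => ?_
    rw [Finset.mem_range, hl] at hj
    rw [key ⟨j, hj⟩, h, Pi.one_apply, _root_.one_zpow]

variable (hμι : ∀ r < D.nroots, ∀ t : F,
    μι ((c.stGroupData F).X r t) = (c.stGroupData L).X r (ι t))
  (hμφ : ∀ r < D.nroots, ∀ t : L,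
    μφ ((c.stGroupData L).X r t) = (c.stGroupData L).X r (φ t))
include hμι hμφ

theorem stMap_fixed (hφι : ∀ t, φ (ι t) = ι t) (x : D.SteinbergGroup F) : μφ (μι x) = μι x := by
  refine DFunLike.congr_fun (f := μφ.comp μι) (g := μι) ?_ x
  refine MonoidHom.eq_of_eqOn_dense (c.stGroupData F).gen ?_
  rintro x ⟨r, hr, t, rfl⟩
  simp only [MonoidHom.comp_apply, hμι r hr, hμφ r hr, hφι]

omit hμι in
theorem stMap_phi_pow (hN : checkNbr c.T = true) {l : ℕ} (hl : D.rank = l)
    {Φ : (Fin l → Lˣ) →* D.SteinbergGroup L} (hΦ : c.IsPhi Φ) (z : Fin l → Lˣ) :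
    μφ (Φ z) = Φ fun i => Units.map (φ : L →* L) (z i) := by
  rw [stMap_phi (rootEmb_id c) hl hμφ hΦ hl hΦ]
  congr 1
  funext i
  simp [padv]

/-- In the simply connected group the fixed points come from the smaller field. -/
theorem mem_range_of_fixed (hN : checkNbr c.T = true) (hrange : Set.range ι = {t | φ t = t})
    {l : ℕ} (hl : D.rank = l) {Φ : (Fin l → Lˣ) →* D.SteinbergGroup L} (hΦ : c.IsPhi Φ)
    (hinj : Function.Injective Φ) {y : D.SteinbergGroup L} (hy : μφ y = y) :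
    ∃ x, μι x = y := by
  have hfix : Matrix.GeneralLinearGroup.map φ ((c.stGroupData L).θ y) = (c.stGroupData L).θ y := by
    rw [← c.θ_stMap hμφ, hy]
  obtain ⟨l₀, hl₀, a, ha, -, he⟩ := c.exists_fixed_mul ((c.stGroupData L).θ_mem_group y) hfix
  rw [← c.group_mapHom hrange] at hl₀
  obtain ⟨g₀, hg₀, rfl⟩ := hl₀
  obtain ⟨x₀, rfl⟩ := (c.stGroupData F).θ_surj hg₀
  obtain ⟨z, hz⟩ := c.mem_phi_range hN hl hΦ (y := (μι x₀)⁻¹ * y) (by
    rwa [map_mul, map_inv, c.θ_stMap hμι, he, inv_mul_cancel_left])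
  have hφι : ∀ t, φ (ι t) = ι t := fun t => hrange.le ⟨t, rfl⟩
  have hzfix := congrArg μφ hz
  rw [map_mul, map_inv, c.stMap_fixed hμι hμφ hφι, hy, ← hz, c.stMap_phi_pow hμφ hN hl hΦ]
    at hzfix
  have hu : ∀ i, ∃ u : Fˣ, Units.map (ι : F →* L) u = z i := fun i => by
    have h1 : φ ((z i : Lˣ) : L) = (z i : L) := congrArg Units.val (congrFun (hinj hzfix) i)
    obtain ⟨u, hu⟩ := hrange.ge h1
    have hu0 : u ≠ 0 := fun e => (z i).ne_zero (by rw [← hu, e, map_zero])
    exact ⟨Units.mk0 u hu0, Units.ext hu⟩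
  choose u hu using hu
  obtain ⟨Φ₀, hΦ₀⟩ := c.exists_phi (F := F) hN hl
  refine ⟨x₀ * Φ₀ u, ?_⟩
  rw [map_mul, stMap_phi (rootEmb_id c) hl hμι hΦ₀ hl hΦ,
    show (fun j : Fin l => padv l (fun i => Units.map (ι : F →* L) (u i)) j) = z from
      funext fun j => by simp [padv, hu], hz, mul_inv_cancel_left]

variable {q : ℕ} (hφ : ∀ t, φ t = t ^ q) {l : ℕ} (hl : D.rank = l)
  {Φ : (Fin l → Lˣ) →* D.SteinbergGroup L} (hΦ : c.IsPhi Φ) (hinj : Function.Injective Φ)
  {A : Matrix (Fin l) (Fin l) ℤ} {g : D.SteinbergGroup L}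
  (hk : ∀ z, (μφ g * g⁻¹) * Φ z * (μφ g * g⁻¹)⁻¹ = Φ (mpow A z))
  (hN : checkNbr c.T = true) (hrange : Set.range ι = {t | φ t = t})
include hφ hl hΦ hinj hk hN hrange

/-- Elements of the small group that conjugate into the torus come from twisted parameters. -/
theorem mem_twisted_of_diag {y : GL D.Idx F} (hy : y ∈ D.group F)
    (hd : (c.stGroupData L).θ g * Matrix.GeneralLinearGroup.map ι y *
      ((c.stGroupData L).θ g)⁻¹ ∈ D.diagonalSubgroup L) :
    ∃ z, mpow A z = z ^ q ∧ (c.stGroupData L).θ g * Matrix.GeneralLinearGroup.map ι y *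
      ((c.stGroupData L).θ g)⁻¹ = c.torus (padv l z) := by
  obtain ⟨x, rfl⟩ := (c.stGroupData F).θ_surj hy
  have e : (c.stGroupData L).θ (g * μι x * g⁻¹) = (c.stGroupData L).θ g *
      Matrix.GeneralLinearGroup.map ι ((c.stGroupData F).θ x) * ((c.stGroupData L).θ g)⁻¹ := by
    rw [map_mul, map_mul, map_inv, c.θ_stMap hμι]
  obtain ⟨z, hz⟩ := c.mem_phi_range hN hl hΦ (y := g * μι x * g⁻¹) (by rw [e]; exact hd)
  refine ⟨z, hinj ?_, by rw [← e, ← hz, hΦ.2.1]⟩
  have hpow : Φ (z ^ q) = μφ (Φ z) := by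
    rw [c.stMap_phi_pow hμφ hN hl hΦ]
    congr 1
    funext i
    exact Units.ext (by simp [hφ])
  rw [← hk, hpow, hz, map_mul, map_mul, map_inv,
    c.stMap_fixed hμι hμφ (fun t => hrange.le ⟨t, rfl⟩)]
  group

/-- Twisted parameters give elements of the small group. -/
theorem exists_of_twisted {z : Fin l → Lˣ} (hz : mpow A z = z ^ q) :
    ∃ y ∈ D.group F, (c.stGroupData L).θ g * Matrix.GeneralLinearGroup.map ι y *
      ((c.stGroupData L).θ g)⁻¹ = c.torus (padv l z) := by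
  have hpow : μφ (Φ z) = Φ (z ^ q) := by
    rw [c.stMap_phi_pow hμφ hN hl hΦ]
    congr 1
    funext i
    exact Units.ext (by simp [hφ])
  have hfix : μφ (g⁻¹ * Φ z * g) = g⁻¹ * Φ z * g := by
    rw [map_mul, map_mul, map_inv, hpow, ← hz, ← hk]
    group
  obtain ⟨x, hx⟩ := c.mem_range_of_fixed hμι hμφ hN hrange hl hΦ hinj hfix
  refine ⟨(c.stGroupData F).θ x, (c.stGroupData F).θ_mem_group x, ?_⟩
  rw [← c.θ_stMap hμι, hx, ← hΦ.2.1, map_mul, map_mul, map_inv]
  group

/-- A cyclic twisted torus that contains its centraliser. -/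
theorem exists_selfcentralizing [Finite L]
    (hKc : IsCyclic (mpow (G := Lˣ) ((q : ℤ) • (1 : Matrix (Fin l) (Fin l) ℤ) - A)).ker)
    {N d : ℕ} (hKN : Nat.card (mpow (G := Lˣ)
      ((q : ℤ) • (1 : Matrix (Fin l) (Fin l) ℤ) - A)).ker = N)
    (hd : Nat.card {z : Fin l → Lˣ // mpow A z = z ^ q ∧
      mpow (Matrix.of fun i j : Fin l => c.T.cartan i (c.T.simple j)) z = 1} = d)
    (hcen : ∀ Y ∈ D.group L, (∀ z, mpow A z = z ^ q → Commute Y (c.torus (padv l z))) →
      Y ∈ D.diagonalSubgroup L) :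
    ∃ H : Subgroup ↥(D.group F), IsCyclic ↥H ∧ Nat.card ↥H = N / d ∧
      Subgroup.centralizer (H : Set ↥(D.group F)) = H := by
  classical
  obtain ⟨K, hK⟩ : ∃ K, K = (mpow (G := Lˣ) ((q : ℤ) • (1 : Matrix (Fin l) (Fin l) ℤ) - A)).ker :=
    ⟨_, rfl⟩
  have hmemK : ∀ z, z ∈ K ↔ mpow A z = z ^ q := fun z => by
    rw [hK, MonoidHom.mem_ker, mpow_sub, mpow_smul_one, div_eq_one, eq_comm]
  rw [← hK] at hKc hKN
  obtain ⟨τ, hτ⟩ : ∃ τ : ↥K →* GL D.Idx L, τ = c.torus.comp ((padv l).comp K.subtype) :=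
    ⟨_, rfl⟩
  obtain ⟨f, hf⟩ : ∃ f : ↥(D.group F) →* GL D.Idx L,
      f = (MulAut.conj ((c.stGroupData L).θ g)).toMonoidHom.comp
        ((Matrix.GeneralLinearGroup.map ι).comp (D.group F).subtype) := ⟨_, rfl⟩
  have hfy : ∀ y : ↥(D.group F), f y = (c.stGroupData L).θ g *
      Matrix.GeneralLinearGroup.map ι (y : GL D.Idx F) * ((c.stGroupData L).θ g)⁻¹ := fun y => by
    rw [hf]; rfl
  have hfinj : Function.Injective f := by
    intro a b e
    rw [hfy, hfy] at e
    have h := mul_left_cancel (mul_right_cancel e)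
    exact Subtype.ext (Units.ext (Matrix.ext fun i j => ι.injective
      (congrArg (fun v : GL D.Idx L => (v : Matrix D.Idx D.Idx L) i j) h)))
  have hτz : ∀ z : ↥K, τ z = c.torus (padv l (z : Fin l → Lˣ)) := fun z => by rw [hτ]; rfl
  obtain ⟨H, hH⟩ : ∃ H, H = τ.range.comap f := ⟨_, rfl⟩
  have hmap : H.map f = τ.range := by
    rw [hH]
    refine Subgroup.map_comap_eq_self ?_
    rintro _ ⟨z, rfl⟩
    obtain ⟨y, hy, he⟩ := c.exists_of_twisted hμι hμφ hφ hl hΦ hinj hk hN hrange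
      ((hmemK _).1 z.2)
    exact ⟨⟨y, hy⟩, by rw [hfy, hτz, ← he]⟩
  let eH : ↥H ≃* ↥τ.range :=
    (H.equivMapOfInjective f hfinj).trans (MulEquiv.subgroupCongr hmap)
  have hcard : Nat.card ↥τ.range = N / d := by
    have h := Subgroup.card_eq_card_quotient_mul_card_subgroup τ.ker
    rw [Nat.card_congr (QuotientGroup.quotientKerEquivRange τ).toEquiv, hKN] at h
    have hker : Nat.card τ.ker = d := by
      rw [← hd]
      refine Nat.card_congr
        ⟨fun z => ⟨(z.1 : Fin l → Lˣ), (hmemK _).1 z.1.2, ?_⟩,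
          fun z => ⟨⟨z.1, (hmemK _).2 z.2.1⟩, ?_⟩, fun z => rfl, fun z => rfl⟩
      · rw [← c.θ_phi_eq_one hl hΦ, hΦ.2.1, ← hτz]
        exact z.2
      · rw [MonoidHom.mem_ker, hτz, ← hΦ.2.1, c.θ_phi_eq_one hl hΦ]
        exact z.2.2
    rw [hker] at h
    have hd0 : 0 < d := hker ▸ Nat.card_pos
    rw [h, Nat.mul_div_cancel _ hd0]
  haveI := hKc
  haveI : IsCyclic ↥τ.range := isCyclic_of_surjective τ.rangeRestrict τ.rangeRestrict_surjective
  have hHc : IsCyclic ↥H := isCyclic_of_surjective eH.symm.toMonoidHom eH.symm.surjective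
  refine ⟨H, hHc, by rw [Nat.card_congr eH.toEquiv, hcard], le_antisymm ?_ ?_⟩
  · intro y hy
    rw [Subgroup.mem_centralizer_iff] at hy
    have hY : f y ∈ D.group L := by
      rw [hfy]
      exact mul_mem (mul_mem ((c.stGroupData L).θ_mem_group g) (c.mapHom_mem_group ι y.2))
        (inv_mem ((c.stGroupData L).θ_mem_group g))
    have hdiag : f y ∈ D.diagonalSubgroup L := by
      refine hcen _ hY fun z hz => ?_
      obtain ⟨w, hw, he⟩ := hmap.ge ⟨⟨z, (hmemK z).2 hz⟩, rfl⟩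
      rw [hτz] at he
      rw [← he, Commute, SemiconjBy, ← map_mul, ← map_mul, hy w hw]
    rw [hfy] at hdiag
    obtain ⟨z, hz, he⟩ := c.mem_twisted_of_diag hμι hμφ hφ hl hΦ hinj hk hN hrange y.2 hdiag
    rw [hH, Subgroup.mem_comap]
    exact ⟨⟨z, (hmemK z).2 hz⟩, by rw [hτz, hfy, he]⟩
  · intro y hy
    rw [Subgroup.mem_centralizer_iff]
    intro w hw
    haveI := hHc
    obtain ⟨gen, hgen⟩ := IsCyclic.exists_generator (α := ↥H)
    obtain ⟨i, hi⟩ := Subgroup.mem_zpowers_iff.1 (hgen ⟨y, hy⟩)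
    obtain ⟨j, hj⟩ := Subgroup.mem_zpowers_iff.1 (hgen ⟨w, hw⟩)
    have h : (⟨w, hw⟩ : ↥H) * ⟨y, hy⟩ = ⟨y, hy⟩ * ⟨w, hw⟩ := by
      rw [← hi, ← hj, ← _root_.zpow_add, ← _root_.zpow_add, add_comm]
    exact congrArg Subtype.val h

end CertFull

end Cfsg.Agent.Lie.Chev
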