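import Cfsg.Agent.Lib.Lie.Chev.CycTori
import Mathlib.RingTheory.LocalRing.Module
import Mathlib.NumberTheory.Padics.RingHoms
import Mathlib.Algebra.Module.Projective

/-! Sylow subgroups of Chevalley groups for primes dividing neither `q` nor the order of the Weyl
group: they are homocyclic. -/

set_option autoImplicit false
set_option maxRecDepth 4000

namespace Cfsg.Agent.Lie.Chev

open Cfsg.Lie Matrix

namespace SylowTorus

open Polynomial

/-- The `r`-part of `q ^ e - 1` for `r ∤ e`. -/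
theorem padicValNat_pow_sub_one {r : ℕ} [Fact r.Prime] {q e : ℕ} (hq : 1 < q) (he : 0 < e)
    (hre : ¬ r ∣ e) :
    padicValNat r (q ^ e - 1) = if orderOf (q : ZMod r) ∣ e then
      padicValNat r ((cyclotomic (orderOf (q : ZMod r)) ℤ).eval (q : ℤ)).natAbs else 0 := by
  classical
  have h0 : q ^ e - 1 ≠ 0 := by
    have := Nat.one_lt_pow (n := e) (by omega) hq
    omega
  have hprod : q ^ e - 1 = ∏ i ∈ e.divisors, ((cyclotomic i ℤ).eval (q : ℤ)).natAbs := by
    have h := congrArg (fun p : ℤ[X] => p.eval (q : ℤ)) (prod_cyclotomic_eq_X_pow_sub_one he ℤ)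
    simp only [eval_prod, eval_sub, eval_pow, eval_X, eval_one] at h
    have h' := congrArg Int.natAbs h
    rw [show (q : ℤ) ^ e - 1 = ((q ^ e - 1 : ℕ) : ℤ) by
      push_cast [Nat.cast_sub (Nat.one_le_pow e q (by omega))]; ring, Int.natAbs_natCast] at h'
    rw [← h', ← Int.natAbsHom_apply, map_prod]
    rfl
  have hne : ∀ i ∈ e.divisors, ((cyclotomic i ℤ).eval (q : ℤ)).natAbs ≠ 0 := fun i hi h =>
    h0 (hprod.trans (Finset.prod_eq_zero hi h))
  have hval : ∀ i ∈ e.divisors, i ≠ orderOf (q : ZMod r) →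
      padicValNat r ((cyclotomic i ℤ).eval (q : ℤ)).natAbs = 0 := by
    intro i hi hne'
    refine padicValNat.eq_zero_of_not_dvd fun hdvd => hne' ?_
    haveI : NeZero (i : ZMod r) := ⟨fun h => hre (((ZMod.natCast_eq_zero_iff _ _).1 h).trans
      (Nat.dvd_of_mem_divisors hi))⟩
    have hprim : IsPrimitiveRoot (q : ZMod r) i := by
      rw [← isRoot_cyclotomic_iff, IsRoot.def, ← map_cyclotomic i (Int.castRingHom (ZMod r)),
        show (q : ZMod r) = Int.castRingHom (ZMod r) q by simp, eval_map_apply]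
      exact (ZMod.intCast_zmod_eq_zero_iff_dvd _ r).2 (Int.natCast_dvd.2 hdvd)
    exact hprim.eq_orderOf
  rw [hprod, ← Nat.factorization_def _ (Fact.out : r.Prime), Nat.factorization_prod hne,
    Finset.sum_apply', Finset.sum_congr rfl fun i _ => Nat.factorization_def _ (Fact.out : r.Prime)]
  split_ifs with hd
  · exact Finset.sum_eq_single_of_mem _ (Nat.mem_divisors.2 ⟨hd, he.ne'⟩) hval
  · exact Finset.sum_eq_zero fun i hi => hval i hi fun h => hd (h ▸ Nat.dvd_of_mem_divisors hi)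

/-- The `r`-part of a product of numbers `q ^ e - 1`. -/
theorem padicValNat_prod {r : ℕ} [Fact r.Prime] {q : ℕ} (hq : 1 < q) : ∀ ds : List ℕ,
    (∀ e ∈ ds, 0 < e ∧ ¬ r ∣ e) →
    padicValNat r (ds.map fun e => q ^ e - 1).prod =
      (ds.filter fun e => orderOf (q : ZMod r) ∣ e).length *
        padicValNat r ((cyclotomic (orderOf (q : ZMod r)) ℤ).eval (q : ℤ)).natAbs ∧
      (ds.map fun e => q ^ e - 1).prod ≠ 0
  | [], _ => by simp
  | e :: ds, h => by
    obtain ⟨he, hre⟩ := h e (by simp)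
    obtain ⟨ih, ih0⟩ := padicValNat_prod hq ds fun x hx => h x (by simp [hx])
    have h0 : q ^ e - 1 ≠ 0 := by
      have := Nat.one_lt_pow (n := e) (by omega) hq
      omega
    refine ⟨?_, by simp [h0, ih0]⟩
    rw [List.map_cons, List.prod_cons, padicValNat.mul h0 ih0, ih, padicValNat_pow_sub_one hq he hre,
      List.filter_cons]
    by_cases hd : orderOf (q : ZMod r) ∣ e
    · simp [hd, add_mul]; ring
    · simp [hd]

end SylowTorus

namespace CertFull

variable {D : ChevalleyDatum} (c : CertFull D) {F : Type*} [Field F]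

include c

/-- The factors of an element conjugating one torus element to another. -/
theorem conj_factors {v d a u : GL D.Idx F} {L : List ℕ} (hL : ∀ p ∈ L, p < D.rank)
    (hv : v ∈ D.posUnipotent F) (hd : d ∈ D.diagonalSubgroup F) (ha : a ∈ D.diagonalSubgroup F)
    (hu : u ∈ c.KS F (c.invSet L) c.T.h) {z z' : ℕ → Fˣ}
    (he : v * d * (a * c.nw F L) * u * c.torus z = c.torus z' * (v * d * (a * c.nw F L) * u)) :
    c.nw F L * c.torus z * (c.nw F L)⁻¹ = c.torus z' ∧
      c.torus z' * v * (c.torus z')⁻¹ = v ∧ c.torus z * u * (c.torus z)⁻¹ = u := by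
  set h := c.torus z with hdef
  set h' := c.torus z' with hdef'
  have h1 : h ∈ D.diagonalSubgroup F := c.torus_mem z
  have h1' : h' ∈ D.diagonalSubgroup F := c.torus_mem z'
  set n := a * c.nw F L with hndef
  have hn : n ∈ D.monomialSubgroup F := mul_mem (Subgroup.mem_sup_left ha) (c.nw_mem_N hL)
  set m := d * n * h * n⁻¹ * d⁻¹ with hmdef
  have hm : m ∈ D.diagonalSubgroup F := by
    have := c.N_conj_H (mul_mem (Subgroup.mem_sup_left hd) hn) h1
    simpa [m, mul_assoc] using this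
  have hv' : h' * v * h'⁻¹ ∈ D.posUnipotent F :=
    (Subgroup.mem_normalizer_iff.1 (c.H_le_normalizer_U h1') v).1 hv
  have hu' : h⁻¹ * u * h ∈ c.KS F (c.invSet L) c.T.h := by
    have h2 := c.torus_le_normalizer (S := {g | ∃ r t, r ∈ c.invSet L ∧ c.T.h ≤ r ∧
      g = c.xg r (t : F)}) (fun g ⟨r, t, hr, hle, e⟩ =>
        ⟨r, hr.1.2, t, e, fun s => c.xg_mem_KS hr hle s⟩) (inv_mem h1)
    have := (Subgroup.mem_normalizer_iff.1 h2 u).1 hu
    rwa [inv_inv] at this
  have e' : (h' * v * h'⁻¹ * (h' * d)) * n * u = (v * (m * d)) * n * (h⁻¹ * u * h) :=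
    calc (h' * v * h'⁻¹ * (h' * d)) * n * u = h' * (v * d * n * u) := by group
      _ = v * d * n * u * h := he.symm
      _ = _ := by rw [hmdef]; group
  obtain ⟨h3, h6⟩ := c.bruhat_unique_factors ha hL
    (mul_mem (Subgroup.mem_sup_left hv') (c.H_le_B (mul_mem h1' hd)))
    (mul_mem (Subgroup.mem_sup_left hv) (c.H_le_B (mul_mem hm hd))) hu hu' e'
  have h4 : v⁻¹ * (h' * v * h'⁻¹) = (m * d) * (h' * d)⁻¹ :=
    calc v⁻¹ * (h' * v * h'⁻¹) = v⁻¹ * (h' * v * h'⁻¹ * (h' * d)) * (h' * d)⁻¹ := by group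
      _ = _ := by rw [h3]; group
  have h5 := c.U_inf_H.le (Subgroup.mem_inf.2 ⟨mul_mem (inv_mem hv) hv',
    (h4 ▸ mul_mem (mul_mem hm hd) (inv_mem (mul_mem h1' hd)))⟩)
  rw [Subgroup.mem_bot] at h5
  refine ⟨?_, (inv_mul_eq_one.1 h5).symm, ?_⟩
  · rw [h4, mul_inv_eq_one, mul_left_inj] at h5
    obtain ⟨x, hx⟩ : ∃ x, x = c.nw F L * h * (c.nw F L)⁻¹ := ⟨_, rfl⟩
    have hxH : x ∈ D.diagonalSubgroup F := hx ▸ c.N_conj_H (c.nw_mem_N hL) h1
    rw [← hx, ← h5, hmdef, hndef]
    calc x = (d * a) * x * (d * a)⁻¹ := by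
          rw [c.H_commutative (mul_mem hd ha) hxH, mul_inv_cancel_right]
      _ = _ := by rw [hx]; group
  · conv_lhs => rw [h6]
    group

/-- A word acting as the reflection in a root. -/
theorem exists_reflection {s : ℕ} (hs : s < D.nroots) :
    ∃ M : List ℕ, (∀ p ∈ M, p < D.rank) ∧ c.wl M s = D.neg s ∧
      ∀ z : ℕ → Fˣ, c.tchar z s = 1 →
        ∀ i : Fin D.rank, c.tchar z (c.wl M (D.simple i)) = c.chi z i := by
  obtain ⟨u, p, hu, hp, hus⟩ := c.exists_wl_simple hs
  have hur : ∀ j ∈ u.reverse, j < D.rank := fun j hj => hu j (List.mem_reverse.1 hj)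
  have hwl : ∀ β, c.wl (u ++ (p :: u.reverse)) β = c.wl u (c.w p (c.wl u.reverse β)) := fun β => by
    rw [c.wl_append, Cert.wl_cons]
  refine ⟨u ++ (p :: u.reverse), ?_, ?_, fun z h1 i => ?_⟩
  · simp only [List.mem_append, List.mem_cons]
    rintro j (hj | rfl | hj)
    exacts [hu j hj, hp, hur j hj]
  · have h4 : c.wl u.reverse s = D.simple p := by
      have := c.wl_reverse (L := u.reverse) hur (c.simple_lt hp)
      rw [List.reverse_reverse, hus] at this
      exact this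
    rw [hwl, h4, c.w_simple hp, c.wl_neg hu (c.simple_lt hp), hus]
  · have hβ := c.wl_lt hur (c.simple_lt i.2)
    rw [hwl, c.tchar_wl z hu (c.w_lt hp hβ)]
    have h2 : c.tchar z (D.simple i) = c.tchar z (c.wl u (c.wl u.reverse (D.simple i))) := by
      rw [c.wl_reverse hu (c.simple_lt i.2)]
    rw [chi, h2, c.tchar_wl z hu hβ]
    refine Finset.prod_congr rfl fun j _ => ?_
    rw [c.vec_w hp hβ j.2]
    by_cases hjp : (j : ℕ) = p
    · rw [hjp, hus, h1, _root_.one_zpow, _root_.one_zpow]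
    · rw [if_neg hjp, sub_zero]

/-- A word fixing a parameter vector at the fundamental roots fixes it at every root. -/
theorem tchar_wl_of_fix {M : List ℕ} (hM : ∀ p ∈ M, p < D.rank) {z : ℕ → Fˣ}
    (h : ∀ i : Fin D.rank, c.tchar z (c.wl M (D.simple i)) = c.chi z i) {s : ℕ}
    (hs : s < D.nroots) : c.tchar z (c.wl M s) = c.tchar z s := by
  rw [c.tchar_wl z hM hs, c.tchar_eq_chi z hs]
  exact Finset.prod_congr rfl fun i _ => by rw [h i]

/-- Centralisers of sets of torus elements only depend on the words fixing them. -/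
theorem commute_of_stab {Z : Set (ℕ → Fˣ)} {z' : ℕ → Fˣ}
    (hstab : ∀ M : List ℕ, (∀ p ∈ M, p < D.rank) →
      (∀ z ∈ Z, ∀ i : Fin D.rank, c.tchar z (c.wl M (D.simple i)) = c.chi z i) →
      ∀ i : Fin D.rank, c.tchar z' (c.wl M (D.simple i)) = c.chi z' i)
    (hodd : ∀ s < D.nroots, c.tchar z' s = (c.tchar z' s)⁻¹ → c.tchar z' s = 1)
    {g : GL D.Idx F} (hg : g ∈ D.group F) (hcomm : ∀ z ∈ Z, g * c.torus z = c.torus z * g) :
    g * c.torus z' = c.torus z' * g := by
  obtain ⟨b, hb, a, ha, L, hL, u, hu, rfl⟩ := c.bruhat_exists hg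
  obtain ⟨v, hv, d, hd, rfl⟩ := c.mem_borel_iff.1 hb
  have hall : ∀ z ∈ Z, c.nw F L * c.torus z * (c.nw F L)⁻¹ = c.torus z ∧
      c.torus z * v * (c.torus z)⁻¹ = v ∧ c.torus z * u * (c.torus z)⁻¹ = u := fun z hz =>
    c.conj_factors hL hv hd ha hu (hcomm z hz)
  have hn : c.nw F L * c.torus z' * (c.nw F L)⁻¹ = c.torus z' := by
    refine c.nw_conj_torus hL fun s hs => c.tchar_wl_of_fix hL (hstab L hL fun z hz i => ?_) hs
    exact c.tchar_of_nw_conj hL (hall z hz).1 (c.simple_lt i.2)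
  have hU : ∀ w ∈ D.posUnipotent F, (∀ z ∈ Z, c.torus z * w * (c.torus z)⁻¹ = w) →
      c.torus z' * w = w * c.torus z' := by
    intro w hw hfix
    rw [c.posUnipotent_eq] at hw
    obtain ⟨t, rfl⟩ := c.exists_oprod _ c.T.h rfl le_rfl w hw
    rw [← mul_inv_eq_iff_eq_mul, c.torus_conj_oprod, Cert.oprod, Cert.oprod]
    congr 1
    refine List.map_congr_left fun r hr => ?_
    rw [List.mem_range'_1] at hr
    by_cases ht : t r = 0
    · rw [ht, mul_zero]
    have h1 : ∀ z ∈ Z, c.tchar z r = 1 := fun z hz => by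
      have h := hfix z hz
      rw [c.torus_conj_oprod] at h
      have e := c.oprod_inj _ c.T.h rfl le_rfl _ _ h r hr.1 (by omega)
      exact Units.ext (mul_eq_right₀ ht |>.1 e)
    obtain ⟨M, hM, hMr, hMfix⟩ := c.exists_reflection (F := F) (show r < D.nroots by omega)
    have h2 := c.tchar_wl_of_fix hM (hstab M hM fun z hz => hMfix z (h1 z hz))
      (show r < D.nroots by omega)
    rw [hMr, c.tchar_neg _ (show r < D.nroots by omega)] at h2
    rw [hodd r (by omega) h2.symm, Units.val_one, one_mul]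
  have hv' := hU v hv fun z hz => (hall z hz).2.1
  have hu' := hU u (c.KS_invSet_le_U hL hu) fun z hz => (hall z hz).2.2
  rw [mul_inv_eq_iff_eq_mul] at hn
  have hdc : d * c.torus z' = c.torus z' * d := c.H_commutative hd (c.torus_mem z')
  have hac : a * c.torus z' = c.torus z' * a := c.H_commutative ha (c.torus_mem z')
  calc v * d * (a * c.nw F L) * u * c.torus z'
      = v * d * (a * c.nw F L) * (u * c.torus z') := by group
    _ = v * d * (a * c.nw F L) * (c.torus z' * u) := by rw [hu']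
    _ = v * d * a * (c.nw F L * c.torus z') * u := by group
    _ = v * d * a * (c.torus z' * c.nw F L) * u := by rw [hn]
    _ = v * d * (a * c.torus z') * c.nw F L * u := by group
    _ = v * d * (c.torus z' * a) * c.nw F L * u := by rw [hac]
    _ = v * (d * c.torus z') * a * c.nw F L * u := by group
    _ = v * (c.torus z' * d) * a * c.nw F L * u := by rw [hdc]
    _ = (v * c.torus z') * (d * a * c.nw F L * u) := by group
    _ = (c.torus z' * v) * (d * a * c.nw F L * u) := by rw [hv']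
    _ = _ := by group

/-- The matrices of words are as many as the words of a transversal. -/
theorem card_weylMat {Ls : List (List Rep)} (hc : c.T.checkLevels Ls = true)
    (hlen : Ls.length = D.rank) : Nat.card c.weylMat = (chainWords Ls).length := by
  classical
  obtain ⟨hlt, hex, hpw, -⟩ := c.chain_spec Ls hc hlen.le
  have hw : ∀ i : Fin (chainWords Ls).length, ∀ p ∈ (chainWords Ls)[i], p < D.rank := fun i p hp =>
    hlen ▸ hlt _ (List.getElem_mem _) p hp
  have hsame : ∀ {L M : List ℕ}, (∀ p ∈ L, p < D.rank) → (∀ p ∈ M, p < D.rank) →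
      (c.wmat L = c.wmat M ↔ c.Same L M) := by
    intro L M hL hM
    refine ⟨fun h q hq => c.vec_inj (c.wl_lt hL (c.simple_lt hq)) (c.wl_lt hM (c.simple_lt hq))
      fun j hj => congrFun (congrFun h ⟨q, hq⟩) ⟨j, hj⟩, fun h => Matrix.ext fun i j => ?_⟩
    simp only [wmat, Matrix.of_apply, h i i.2]
  choose a haW ha using fun i => c.exists_weylMat (hw i)
  rw [← Nat.card_fin (chainWords Ls).length]
  refine (Nat.card_congr (Equiv.ofBijective (fun i => (⟨a i, haW i⟩ : c.weylMat))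
    ⟨fun i j e => ?_, fun u => ?_⟩)).symm
  · have e' : a i = a j := congrArg Subtype.val e
    have h := (hsame (hw i) (hw j)).1 (by rw [← ha i, ← ha j, e'])
    by_contra hne
    rw [List.pairwise_iff_getElem] at hpw
    rcases lt_or_gt_of_ne hne with hlt' | hlt'
    · exact hpw i.1 j.1 i.2 j.2 hlt' h
    · exact hpw j.1 i.1 j.2 i.2 hlt' fun q hq => (h q hq).symm
  · obtain ⟨L, hL, e⟩ := u.2
    obtain ⟨v, hv, hs⟩ := hex L (fun p hp => hlen.symm ▸ hL p hp)
    obtain ⟨i, hi, rfl⟩ := List.getElem_of_mem hv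
    refine ⟨⟨i, hi⟩, Subtype.ext (Units.ext ?_)⟩
    rw [ha, e]
    exact (hsame (hw ⟨i, hi⟩) hL).2 fun q hq => (hs q hq).symm

/-- An `r`-element fixed by the field automorphism comes from the group over the small field. -/
theorem exists_of_fixed {L : Type*} [Field L] [Fintype F] [Fintype L] (ι : F →+* L) (φ : L →+* L)
    (hrange : Set.range ι = {t | φ t = t}) {g₀ : ℕ}
    (hg₀ : g₀ * Nat.card (D.diagonalSubgroup F) = (Fintype.card F - 1) ^ D.rank)
    {Y : GL D.Idx L} (hY : Y ∈ D.group L) (hfix : Matrix.GeneralLinearGroup.map φ Y = Y)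
    {m : ℕ} (hm : Y ^ m = 1) (hco : g₀.Coprime m) :
    ∃ y ∈ D.group F, Matrix.GeneralLinearGroup.map ι y = Y := by
  classical
  obtain ⟨G0, hG0⟩ : ∃ G0, G0 = (D.group F).map (Matrix.GeneralLinearGroup.map (n := D.Idx) ι) :=
    ⟨_, rfl⟩
  obtain ⟨l, hl, a, ha, hfa, rfl⟩ := c.exists_fixed_mul hY hfix
  rw [← c.group_mapHom hrange, ← hG0] at hl
  obtain ⟨σ, hσ⟩ : ∃ σ : GL D.Idx L →* GL D.Idx L, σ = Matrix.GeneralLinearGroup.map φ := ⟨_, rfl⟩
  -- the fixed torus
  obtain ⟨T, hT⟩ : ∃ T : Subgroup (GL D.Idx L),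
      T = D.diagonalSubgroup L ⊓ σ.eqLocus (MonoidHom.id _) := ⟨_, rfl⟩
  have hTmem : ∀ x, x ∈ T ↔ x ∈ D.diagonalSubgroup L ∧ Matrix.GeneralLinearGroup.map φ x = x := by
    intro x; rw [hT, hσ]; exact Iff.rfl
  have hTfix : ∀ x ∈ T, ∃ w : ℕ → Lˣ, c.torus w = x ∧
      ∀ s < D.nroots, φ (c.tchar w s : L) = (c.tchar w s : L) := by
    intro x hx
    obtain ⟨hxH, hxf⟩ := (hTmem x).1 hx
    rw [c.diagonalSubgroup_eq] at hxH
    obtain ⟨w, rfl⟩ := hxH
    refine ⟨w, rfl, fun s hs => ?_⟩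
    rw [c.torus_map] at hxf
    have h := congrArg Units.val ((dg_eq_iff D L).1 hxf s hs)
    have h2 : ((c.tchar (fun i => Units.map (φ : L →* L) (w i)) s : Lˣ) : L) =
        φ (c.tchar w s : L) := by
      simp only [Cert.tchar, Units.coe_prod, Units.val_zpow_eq_zpow_val, Units.coe_map,
        MonoidHom.coe_coe, map_prod, map_zpow₀]
    exact h2.symm.trans h
  have ha' : a ∈ T := (hTmem a).2 ⟨ha, hfa⟩
  have hnorm : ∀ x ∈ T, ∀ y ∈ G0, x * y * x⁻¹ ∈ G0 := by
    intro x hx
    obtain ⟨w, rfl, hw⟩ := hTfix x hx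
    intro y hy
    rw [hG0, c.group_mapHom hrange] at hy ⊢
    induction hy using Subgroup.closure_induction with
    | mem y hy =>
      obtain ⟨s, t, ht, hy⟩ := hy
      obtain rfl := c.eq_xg_iff.1 hy
      by_cases hs : s < D.nroots
      · rw [c.torus_conj_xg w hs]
        exact Subgroup.subset_closure ⟨s, _, by rw [map_mul, hw s hs, ht], rfl⟩
      · have e : c.xg s t = 1 := Units.ext (by simp [ChevalleyDatum.x, hs])
        rw [e, mul_one, mul_inv_cancel]
        exact one_mem _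
    | one => rw [mul_one, mul_inv_cancel]; exact one_mem _
    | mul p q _ _ hp hq =>
      rw [show c.torus w * (p * q) * (c.torus w)⁻¹ =
        (c.torus w * p * (c.torus w)⁻¹) * (c.torus w * q * (c.torus w)⁻¹) by group]
      exact mul_mem hp hq
    | inv p _ hp =>
      rw [show c.torus w * p⁻¹ * (c.torus w)⁻¹ = (c.torus w * p * (c.torus w)⁻¹)⁻¹ by group]
      exact inv_mem hp
  -- the index of the small torus
  have hag : a ^ g₀ ∈ G0 := by
    obtain ⟨HF, hHF⟩ : ∃ HF, HF = (D.diagonalSubgroup F).map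
        (Matrix.GeneralLinearGroup.map (n := D.Idx) ι) := ⟨_, rfl⟩
    have hHFle : HF ≤ T := by
      rw [hHF, Subgroup.map_le_iff_le_comap]
      intro x hx
      rw [c.diagonalSubgroup_eq] at hx
      obtain ⟨w, rfl⟩ := hx
      refine (hTmem _).2 ⟨by rw [c.torus_mapHom]; exact c.torus_mem _, ?_⟩
      refine Units.ext (Matrix.ext fun i j => ?_)
      exact hrange.le ⟨_, rfl⟩
    have hHFG : HF ≤ G0 := by
      rw [hHF, hG0]
      exact Subgroup.map_mono fun x hx => c.B_le_group (c.H_le_B hx)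
    have hinjι : Function.Injective (Matrix.GeneralLinearGroup.map (n := D.Idx) ι) :=
      fun x y e => Units.ext (Matrix.ext fun i j =>
        ι.injective (congrArg (fun v : GL D.Idx L => (v : Matrix D.Idx D.Idx L) i j) e))
    have hcardHF : Nat.card HF = Nat.card (D.diagonalSubgroup F) := by
      rw [hHF, Subgroup.card_map_of_injective hinjι]
    -- the fixed torus has at most (q - 1) ^ rank elements
    have hdvd : Nat.card T ∣ (Fintype.card F - 1) ^ D.rank := by
      have hval : ∀ (x : T) (i : Fin D.rank), ∃ t : Fˣ, ∀ w : ℕ → Lˣ, c.torus w = x →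
          ι (t : F) = (c.chi w i : L) := by
        intro x i
        obtain ⟨w, hwx, hw⟩ := hTfix x x.2
        obtain ⟨t, ht⟩ := hrange.ge (hw _ (c.simple_lt i.2))
        refine ⟨Units.mk0 t (fun e => (c.chi w i).ne_zero (by
          rw [chi, ← ht, e, map_zero])), fun w' hw' => ?_⟩
        have h2 : c.tchar w' (D.simple i) = c.tchar w (D.simple i) :=
          (dg_eq_iff D L).1 (hw'.trans hwx.symm) _ (c.simple_lt i.2)
        rw [Units.val_mk0, ht, chi, h2]
      choose f hf using hval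
      have hfw : ∀ x : T, ∃ w : ℕ → Lˣ, c.torus w = x := fun x => ⟨_, (hTfix x x.2).choose_spec.1⟩
      have hmul : ∀ x y : T, f (x * y) = f x * f y := by
        intro x y
        obtain ⟨w, hw⟩ := hfw x
        obtain ⟨w', hw'⟩ := hfw y
        funext i
        refine Units.ext (ι.injective ?_)
        rw [Pi.mul_apply, Units.val_mul, map_mul, hf x i w hw, hf y i w' hw',
          hf (x * y) i (w * w') (by rw [map_mul, hw, hw', Subgroup.coe_mul]), c.chi_mul,
          Pi.mul_apply, Units.val_mul]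
      have hinjf : Function.Injective (MonoidHom.mk' f hmul) := by
        intro x y e
        obtain ⟨w, hw⟩ := hfw x
        obtain ⟨w', hw'⟩ := hfw y
        refine Subtype.ext ?_
        rw [← hw, ← hw']
        refine c.torus_eq_of_chi (funext fun i => Units.ext ?_)
        rw [← hf x i w hw, ← hf y i w' hw']
        exact congrArg (fun t : Fˣ => ι (t : F)) (congrFun e i)
      have h := Subgroup.card_dvd_of_injective _ hinjf
      rw [Nat.card_fun, Nat.card_units, Nat.card_fin, Nat.card_eq_fintype_card (α := F)] at h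
      exact h
    have hTc : ∀ x ∈ T, ∀ y ∈ T, x * y = y * x := fun x hx y hy =>
      c.H_commutative ((hTmem x).1 hx).1 ((hTmem y).1 hy).1
    haveI : (HF.subgroupOf T).Normal := ⟨fun x hx y => by
      have h : y * x * y⁻¹ = x := Subtype.ext (by
        rw [Subgroup.coe_mul, Subgroup.coe_mul, hTc _ y.2 _ x.2, Subgroup.coe_inv,
          mul_inv_cancel_right])
      rw [h]; exact hx⟩
    have hidx : (HF.subgroupOf T).index ∣ g₀ := by
      rw [← hg₀, ← (HF.subgroupOf T).card_mul_index,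
        Nat.card_congr (Subgroup.subgroupOfEquivOfLe hHFle).toEquiv, hcardHF, mul_comm g₀] at hdvd
      exact (mul_dvd_mul_iff_left (Nat.card_pos).ne').1 hdvd
    obtain ⟨e, he⟩ := hidx
    refine hHFG ?_
    have h := Subgroup.pow_index_mem (HF.subgroupOf T) ⟨a, ha'⟩
    rw [Subgroup.mem_subgroupOf, Subgroup.coe_pow] at h
    rw [he, pow_mul]
    exact pow_mem h e
  have hpow : ∀ k : ℕ, (l * a) ^ k * (a ^ k)⁻¹ ∈ G0 := by
    intro k
    induction k with
    | zero => simp
    | succ k ih =>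
      have e : (l * a) ^ (k + 1) * (a ^ (k + 1))⁻¹ =
          (l * a) ^ k * (a ^ k)⁻¹ * (a ^ k * l * (a ^ k)⁻¹) := by
        rw [pow_succ, pow_succ]; group
      rw [e]
      exact mul_mem ih (hnorm _ (pow_mem ha' k) _ hl)
  have h1 : (l * a) ^ g₀ ∈ G0 := by
    have := mul_mem (hpow g₀) hag
    rwa [inv_mul_cancel_right] at this
  have h2 : l * a ∈ G0 := by
    have := Int.gcd_eq_gcd_ab g₀ m
    rw [Int.gcd_natCast_natCast, hco.gcd_eq_one, Nat.cast_one] at this
    have e : l * a = ((l * a) ^ g₀) ^ Int.gcdA g₀ m := by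
      conv_lhs => rw [← _root_.zpow_one (l * a), this, _root_.zpow_add, _root_.zpow_mul,
        _root_.zpow_mul, zpow_natCast, zpow_natCast, hm, _root_.one_zpow, mul_one]
    rw [e]
    exact zpow_mem h1 _
  rw [hG0] at h2
  exact h2

set_option maxHeartbeats 1000000 in
/-- Sylow subgroups for primes prime to `q` and to the order of the Weyl group. -/
theorem sylow_homocyclic_of_ext {L : Type*} [Field L] [Fintype F] [Fintype L] (ι : F →+* L)
    {q : ℕ} (hF : Fintype.card F = q) (φ : L →+* L) (hφ : ∀ t, φ t = t ^ q)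
    {r : ℕ} [Fact r.Prime] (hrq : ¬ r ∣ q)
    (hL : Fintype.card L = q ^ orderOf (q : ZMod r))
    {Ls : List (List Rep)} {ds : List ℕ} (hc : c.T.checkLevels Ls = true)
    (hlen : Ls.length = D.rank) (hpoly : checkPoly D.rank Ls ds = true)
    (hds : ∀ e ∈ ds, 0 < e ∧ ¬ r ∣ e) (hr2 : r ≠ 2) (hrW : ¬ r ∣ (chainWords Ls).length)
    {gF gL : ℕ} (hgF : gF * Nat.card (D.diagonalSubgroup F) = (Fintype.card F - 1) ^ D.rank)
    (hgL : gL * Nat.card (D.diagonalSubgroup L) = (Fintype.card L - 1) ^ D.rank)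
    (hrgF : ¬ r ∣ gF) (hrgL : ¬ r ∣ gL) (hrG : r ∣ Nat.card ↥(D.group F))
    (P : Sylow r ↥(D.group F)) :
    Nonempty (↥(P : Subgroup ↥(D.group F)) ≃*
      (Fin (ds.filter (fun e => orderOf (q : ZMod r) ∣ e)).length →
        Multiplicative (ZMod (r ^ padicValNat r
          ((Polynomial.cyclotomic (orderOf (q : ZMod r)) ℤ).eval (q : ℤ)).natAbs)))) := by
  classical
  have hrp : r.Prime := Fact.out
  have hq : 1 < q := hF ▸ Fintype.one_lt_card
  haveI : Finite ↥(D.group F) := Subtype.finite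
  obtain ⟨a₀, ha₀⟩ : ∃ a, a = (ds.filter (fun e => orderOf (q : ZMod r) ∣ e)).length := ⟨_, rfl⟩
  obtain ⟨d, hd⟩ : ∃ d, d = orderOf (q : ZMod r) := ⟨_, rfl⟩
  obtain ⟨b, hb⟩ : ∃ b, b = padicValNat r ((Polynomial.cyclotomic d ℤ).eval (q : ℤ)).natAbs :=
    ⟨_, rfl⟩
  rw [← ha₀, ← hd, ← hb]
  rw [← hd] at hL
  have hq0 : (q : ZMod r) ≠ 0 := fun h => hrq ((ZMod.natCast_eq_zero_iff _ _).1 h)
  have hdr : d ∣ r - 1 := hd ▸ ZMod.orderOf_dvd_card_sub_one hq0
  have hd0 : 0 < d := Nat.pos_of_dvd_of_pos hdr (by have := hrp.two_le; omega)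
  have hrd : ¬ r ∣ d := fun h => by
    have h1 := Nat.le_of_dvd (by have := hrp.two_le; omega) (h.trans hdr)
    have := hrp.two_le
    omega
  -- the r-part of the order
  have hqr : ∀ k, ¬ r ∣ q ^ k := fun k h => hrq (hrp.dvd_of_dvd_pow h)
  have hcardG : (Nat.card ↥(D.group F)).factorization r = a₀ * b := by
    have h := c.card_group_formula (F := F) hc hlen hpoly hgF
    rw [hF] at h
    obtain ⟨h1, h2⟩ := SylowTorus.padicValNat_prod (r := r) hq ds hds
    have hg0 : gF ≠ 0 := fun e => hrgF (e ▸ dvd_zero r)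
    have h' := congrArg (fun x : ℕ => x.factorization r) h
    rw [Nat.factorization_mul hg0 (Nat.card_pos).ne',
      Nat.factorization_mul (pow_ne_zero _ (by omega)) h2, Finsupp.add_apply, Finsupp.add_apply,
      Nat.factorization_eq_zero_of_not_dvd hrgF,
      Nat.factorization_eq_zero_of_not_dvd (hqr _), zero_add, zero_add,
      Nat.factorization_def ((ds.map fun e => q ^ e - 1).prod) hrp, h1] at h'
    rw [h', ha₀, hb, hd]
  have hb0 : 0 < b := by
    have h := hrp.factorization_pos_of_dvd (Nat.card_pos).ne' hrG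
    rw [hcardG] at h
    exact Nat.pos_of_mul_pos_left h
  obtain ⟨m, hm⟩ : ∃ m, m = r ^ b := ⟨_, rfl⟩
  rw [← hm]
  haveI : NeZero m := ⟨hm ▸ pow_ne_zero _ hrp.ne_zero⟩
  have hm1 : 1 < m := hm ▸ Nat.one_lt_pow hb0.ne' hrp.one_lt
  haveI : Fact (1 < m) := ⟨hm1⟩
  haveI : IsLocalRing (ZMod m) := by
    subst hm
    exact IsLocalRing.of_surjective' (PadicInt.toZModPow b (p := r))
      (ZMod.ringHom_surjective _)
  -- the multiplicative group of L
  have hvL : (Fintype.card L - 1).factorization r = b := by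
    rw [hL, Nat.factorization_def _ hrp, SylowTorus.padicValNat_pow_sub_one hq hd0 hrd, ← hd,
      if_pos dvd_rfl, hb]
  have hmL : m ∣ Fintype.card L - 1 := by
    rw [hm, ← hvL]; exact Nat.ordProj_dvd _ _
  have hqm : ((q : ZMod m)) ^ d = 1 := by
    have h := (ZMod.natCast_eq_zero_iff _ m).2 hmL
    rw [hL, Nat.cast_sub (Nat.one_le_pow d q (by omega)), Nat.cast_pow, Nat.cast_one,
      sub_eq_zero] at h
    exact h
  obtain ⟨η, hη⟩ : ∃ η : Lˣ, orderOf η = m := by
    obtain ⟨g, hg⟩ := IsCyclic.exists_ofOrder_eq_natCard (α := Lˣ)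
    rw [Nat.card_units, Nat.card_eq_fintype_card] at hg
    obtain ⟨e, he⟩ := hmL
    have hL1 : 1 < Fintype.card L := Fintype.one_lt_card
    have he0 : e ≠ 0 := by rintro rfl; rw [mul_zero] at he; omega
    refine ⟨g ^ e, ?_⟩
    rw [orderOf_pow_of_dvd he0 (by rw [hg, he]; exact dvd_mul_left _ _), hg, he,
      Nat.mul_div_cancel _ (Nat.pos_of_ne_zero he0)]
  obtain ⟨E, hE⟩ : ∃ E : ZMod m → Lˣ, ∀ k : ℤ, E (k : ZMod m) = η ^ k := by
    refine ⟨fun x => η ^ (x.val : ℤ), fun k => ?_⟩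
    show η ^ (((k : ZMod m).val : ℕ) : ℤ) = η ^ k
    rw [← mul_inv_eq_one, ← _root_.zpow_sub, ← orderOf_dvd_iff_zpow_eq_one, hη,
      ← ZMod.intCast_zmod_eq_zero_iff_dvd]
    simp
  have hlift : ∀ x : ZMod m, ((x.val : ℤ) : ZMod m) = x := fun x => by simp
  have hEadd : ∀ x y, E (x + y) = E x * E y := fun x y => by
    rw [← hlift x, ← hlift y, ← Int.cast_add, hE, hE, hE, _root_.zpow_add]
  have hEinj : Function.Injective E := fun x y h => by
    rw [← hlift x, ← hlift y, hE, hE, ← mul_inv_eq_one, ← _root_.zpow_sub,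
      ← orderOf_dvd_iff_zpow_eq_one, hη, ← ZMod.intCast_zmod_eq_zero_iff_dvd, Int.cast_sub,
      sub_eq_zero, hlift, hlift] at h
    exact h
  have hE0 : E 0 = 1 := by
    have h := hE 0
    rwa [Int.cast_zero, _root_.zpow_zero] at h
  have hEm : ∀ x, E x ^ m = 1 := fun x => by
    rw [← hlift x, hE, ← zpow_natCast, ← _root_.zpow_mul, mul_comm, _root_.zpow_mul,
      zpow_natCast, zpow_natCast, orderOf_dvd_iff_pow_eq_one.1 hη.dvd, one_pow]
  have hEsurj : ∀ u : Lˣ, u ^ m = 1 → ∃ x, E x = u := fun u hu => by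
    have hprim : IsPrimitiveRoot ((η : Lˣ) : L) m :=
      IsPrimitiveRoot.coe_units_iff.2 (hη ▸ IsPrimitiveRoot.orderOf η)
    obtain ⟨k, -, hk⟩ := hprim.eq_pow_of_pow_eq_one (show ((u : Lˣ) : L) ^ m = 1 by
      rw [← Units.val_pow_eq_pow_val, hu, Units.val_one])
    exact ⟨((k : ℤ) : ZMod m), by rw [hE, zpow_natCast]; exact Units.ext (by
      rw [Units.val_pow_eq_pow_val, hk])⟩
  have hodd : ∀ u : Lˣ, u ^ m = 1 → u = u⁻¹ → u = 1 := by
    intro u hu hinv
    have h2 : u ^ 2 = 1 := by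
      rw [sq]
      nth_rewrite 2 [hinv]
      exact mul_inv_cancel u
    have hco : Nat.Coprime 2 m := by
      rw [hm]
      exact Nat.Coprime.pow_right _ ((Nat.coprime_primes Nat.prime_two hrp).2 (Ne.symm hr2))
    simpa [hco.gcd_eq_one] using (pow_gcd_eq_one (a := u) (m := 2) (n := m)).2 ⟨h2, hu⟩
  -- torsion of the torus
  have htors : ∀ z : ℕ → Lˣ, (∃ k, c.torus z ^ r ^ k = 1) →
      (∀ s < D.nroots, c.tchar z s ^ m = 1) ∧ c.torus z ^ m = 1 := by
    rintro z ⟨k, hk⟩
    rw [← map_pow] at hk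
    have hchi : ∀ s < D.nroots, c.tchar z s ^ m = 1 := fun s hs => by
      have h2 := (dg_eq_iff D L).1 (hk.trans (map_one (dg D L)).symm) s hs
      change c.tchar (z ^ r ^ k) s = 1 at h2
      rw [c.tchar_pow, ← orderOf_dvd_iff_pow_eq_one, Nat.dvd_prime_pow hrp] at h2
      obtain ⟨i, -, hi⟩ := h2
      rw [← orderOf_dvd_iff_pow_eq_one, hi, hm]
      refine pow_dvd_pow _ ?_
      rw [← hvL]
      refine (hrp.pow_dvd_iff_le_factorization ?_).1 ?_
      · have : 1 < Fintype.card L := Fintype.one_lt_card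
        omega
      · rw [← hi, ← Fintype.card_units, ← Nat.card_eq_fintype_card]
        exact orderOf_dvd_natCard _
    refine ⟨hchi, ?_⟩
    rw [← map_pow, Cert.torus_apply, ← map_one (dg D L)]
    refine dg_ext D L fun s hs => ?_
    rw [c.tchar_pow, hchi s hs]
    rfl
  -- every logarithm occurs
  have hzf : ∀ v : Fin D.rank → ZMod m, ∃ z : ℕ → Lˣ, ∀ i, c.chi z i = E (v i) := by
    obtain ⟨S⟩ := Sylow.nonempty (p := r) (G := ↥(D.diagonalSubgroup L))
    have hS : ∀ x : (S : Subgroup ↥(D.diagonalSubgroup L)), ∃ z : ℕ → Lˣ,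
        c.torus z = ((x : ↥(D.diagonalSubgroup L)) : GL D.Idx L) ∧
          ∀ i : Fin D.rank, ∃ v, E v = c.chi z i := by
      intro x
      have hx := (x : ↥(D.diagonalSubgroup L)).2
      obtain ⟨z, hz⟩ := (c.diagonalSubgroup_eq (F := L)).le hx
      refine ⟨z, hz, fun i => hEsurj _ ((htors z ?_).1 _ (c.simple_lt i.2))⟩
      obtain ⟨k, hk⟩ := S.isPGroup' x
      refine ⟨k, ?_⟩
      rw [hz, ← Subgroup.coe_pow, ← Subgroup.coe_pow, hk]
      rfl
    choose z hz hzv using hS
    choose f hf using hzv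
    have hinj : Function.Injective f := fun x y e => by
      refine Subtype.ext (Subtype.ext ?_)
      rw [← hz x, ← hz y]
      exact c.torus_eq_of_chi (funext fun i => by rw [← hf x i, ← hf y i, e])
    have hcard : Nat.card (S : Subgroup ↥(D.diagonalSubgroup L)) =
        Nat.card (Fin D.rank → ZMod m) := by
      have h := congrArg (fun x : ℕ => x.factorization r) hgL
      rw [Nat.factorization_mul (fun e => hrgL (by rw [e]; exact dvd_zero r)) (Nat.card_pos).ne',
        Finsupp.add_apply, Nat.factorization_eq_zero_of_not_dvd hrgL, zero_add,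
        Nat.factorization_pow, Finsupp.smul_apply, hvL, smul_eq_mul] at h
      rw [S.card_eq_multiplicity, h, Nat.card_fun, Nat.card_fin, Nat.card_zmod, hm, ← pow_mul,
        mul_comm]
    intro v
    obtain ⟨x, hx⟩ := ((Nat.bijective_iff_injective_and_card f).2 ⟨hinj, hcard⟩).2 v
    exact ⟨z x, fun i => by rw [← hx, hf x i]⟩
  choose zf hzf using hzf
  have htauadd : ∀ v w, c.torus (zf (v + w)) = c.torus (zf v) * c.torus (zf w) := fun v w => by
    rw [← map_mul]
    refine c.torus_eq_of_chi (funext fun i => ?_)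
    rw [c.chi_mul, Pi.mul_apply, hzf, hzf, hzf, Pi.add_apply, hEadd]
  have htauinj : ∀ v w, c.torus (zf v) = c.torus (zf w) → v = w := fun v w h => funext fun i => by
    refine hEinj ?_
    rw [← hzf v i, ← hzf w i]
    exact (dg_eq_iff D L).1 h _ (c.simple_lt i.2)
  have hlog : ∀ x ∈ D.diagonalSubgroup L, (∃ k, x ^ r ^ k = 1) → ∃ v, c.torus (zf v) = x := by
    intro x hx hxr
    rw [c.diagonalSubgroup_eq] at hx
    obtain ⟨z, rfl⟩ := hx
    choose v hv using fun i : Fin D.rank => hEsurj _ ((htors z hxr).1 _ (c.simple_lt i.2))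
    exact ⟨v, c.torus_eq_of_chi (funext fun i => by rw [hzf, hv]; rfl)⟩
  have hact : ∀ (M : List ℕ), (∀ p ∈ M, p < D.rank) → ∀ v (i : Fin D.rank),
      c.tchar (zf v) (c.wl M (D.simple i)) =
        E ((((c.wmat M).map (Int.castRingHom (ZMod m))) *ᵥ v) i) := by
    intro M hM v i
    have h := congrFun (c.tchar_wl_simple (zf v) hM) i
    rw [show c.chi (zf v) = fun j => η ^ ((v j).val : ℤ) from funext fun j => by
      rw [hzf, ← hE, hlift], CycMatrix.mpow_zpow, Matrix.vecMul_transpose] at h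
    change _ = η ^ _ at h
    rw [← hE] at h
    refine h.trans (congrArg E ?_)
    simp [Matrix.mulVec, dotProduct]
  -- the fixed field and the maps
  have hφι : ∀ t, φ (ι t) = ι t := fun t => by rw [hφ, ← map_pow, ← hF, FiniteField.pow_card]
  have hrange : Set.range ι = {t | φ t = t} := by
    ext t
    refine ⟨fun ⟨x, hx⟩ => hx ▸ hφι x, fun ht => ?_⟩
    by_contra hno
    set Q : Polynomial L := Polynomial.X ^ q - Polynomial.X
    have hdeg : Q.natDegree = q := FiniteField.X_pow_card_sub_X_natDegree_eq L hq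
    have hQ0 : Q ≠ 0 := FiniteField.X_pow_card_sub_X_ne_zero L hq
    have h := Polynomial.card_le_degree_of_subset_roots (p := Q)
      (Z := insert t (Finset.univ.image ι)) (fun x hx => by
        rw [Finset.mem_val, Finset.mem_insert, Finset.mem_image] at hx
        rw [Polynomial.mem_roots hQ0]
        rcases hx with rfl | ⟨y, -, rfl⟩
        · simp [Q, ← hφ, show φ x = x from ht]
        · simp [Q, ← hφ, hφι])
    rw [Finset.card_insert_of_notMem (fun h => hno (by simpa using h)),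
      Finset.card_image_of_injective _ ι.injective, Finset.card_univ, hF, hdeg] at h
    omega
  obtain ⟨mι, hmι⟩ : ∃ m : GL D.Idx F →* GL D.Idx L,
      m = Matrix.GeneralLinearGroup.map ι := ⟨_, rfl⟩
  obtain ⟨σ, hσ⟩ : ∃ m : GL D.Idx L →* GL D.Idx L,
      m = Matrix.GeneralLinearGroup.map φ := ⟨_, rfl⟩
  have hσι : ∀ y, σ (mι y) = mι y := fun y => by
    rw [hσ, hmι]
    exact Units.ext (Matrix.ext fun i j => hφι _)
  have hinj : Function.Injective mι := fun x y e => by
    rw [hmι] at e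
    exact Units.ext (Matrix.ext fun i j =>
      ι.injective (congrArg (fun v : GL D.Idx L => (v : Matrix D.Idx D.Idx L) i j) e))
  have hσt : ∀ y : ℕ → Lˣ, σ (c.torus y) = c.torus (y ^ q) := fun y => by
    rw [hσ, c.torus_map]
    congr 1
    funext i
    exact Units.ext (by simp [hφ])
  -- conjugate P into the torus
  obtain ⟨g, hg, hgP⟩ : ∃ g ∈ D.group L, ∀ y ∈ (P : Subgroup ↥(D.group F)),
      ∃ v, g * mι (y : GL D.Idx F) * g⁻¹ = c.torus (zf v) := by
    have hle : D.diagonalSubgroup L ≤ D.group L := fun a ha => c.B_le_group (c.H_le_B ha)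
    obtain ⟨HH, hHH⟩ : ∃ HH, HH = (D.diagonalSubgroup L).subgroupOf (D.group L) := ⟨_, rfl⟩
    obtain ⟨S⟩ := Sylow.nonempty (p := r) (G := ↥HH)
    obtain ⟨R, hR⟩ := (S.isPGroup'.map HH.subtype).exists_le_sylow
    have hcardH : Nat.card HH = Nat.card (D.diagonalSubgroup L) :=
      hHH ▸ Nat.card_congr (Subgroup.subgroupOfEquivOfLe hle).toEquiv
    have hG : ∃ k, Nat.card ↥(D.group L) = Nat.card HH * k ∧ ¬ r ∣ k := by
      refine ⟨Fintype.card L ^ (D.nroots / 2) *
        ((chainWords Ls).map fun v => Fintype.card L ^ c.invN v).sum, ?_, fun h => hrW ?_⟩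
      · rw [c.card_group (F := L) hc hlen, hcardH]; ring
      · rw [← ZMod.natCast_eq_zero_iff] at h ⊢
        have h1 : ((Fintype.card L : ℕ) : ZMod r) = 1 := by
          rw [hL, Nat.cast_pow, hd, pow_orderOf_eq_one]
        rw [Nat.cast_mul, Nat.cast_pow, h1, one_pow, one_mul, Nat.cast_list_sum, List.map_map] at h
        rw [← h]
        simp [Function.comp_def, h1]
    obtain ⟨k, hk, hrk⟩ := hG
    have hRH : (R : Subgroup ↥(D.group L)) ≤ HH := by
      have hcard : Nat.card (R : Subgroup ↥(D.group L)) ≤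
          Nat.card ((S : Subgroup ↥HH).map HH.subtype) := by
        have hk0 : k ≠ 0 := fun e => hrk (e ▸ dvd_zero r)
        rw [Subgroup.card_map_of_injective HH.subtype_injective, R.card_eq_multiplicity,
          S.card_eq_multiplicity, hk, Nat.factorization_mul (Nat.card_pos).ne' hk0,
          Finsupp.add_apply, Nat.factorization_eq_zero_of_not_dvd hrk, add_zero]
      rw [← Subgroup.eq_of_le_of_card_ge hR hcard]
      exact Subgroup.map_subtype_le _
    let j : ↥(D.group F) →* ↥(D.group L) :=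
      (mι.comp (D.group F).subtype).codRestrict (D.group L) fun y =>
        hmι ▸ c.mapHom_mem_group ι y.2
    obtain ⟨Q, hQ⟩ := (P.isPGroup'.map j).exists_le_sylow
    obtain ⟨a, ha⟩ := MulAction.exists_smul_eq ↥(D.group L) Q R
    refine ⟨a, a.2, fun y hy => (hlog _ ?_ ?_).imp fun v hv => hv.symm⟩
    · have hmem : a * j y * a⁻¹ ∈ HH := hRH (by
        rw [← ha, Sylow.coe_subgroup_smul]
        exact Subgroup.smul_mem_pointwise_smul _ (MulAut.conj a) _
          (hQ (Subgroup.mem_map_of_mem j hy)))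
      rw [hHH, Subgroup.mem_subgroupOf] at hmem
      exact hmem
    · obtain ⟨k, hk⟩ := P.isPGroup' ⟨y, hy⟩
      refine ⟨k, ?_⟩
      have hk' : (y : ↥(D.group F)) ^ r ^ k = 1 := by
        have := congrArg Subtype.val hk
        simpa using this
      rw [conj_pow, ← map_pow, ← Subgroup.coe_pow, hk', Subgroup.coe_one, map_one, mul_one,
        mul_inv_cancel]
  obtain ⟨S₀, hS₀⟩ : ∃ S₀ : Set (Fin D.rank → ZMod m), S₀ = {v | ∃ y ∈ (P : Subgroup ↥(D.group F)),
      g * mι (y : GL D.Idx F) * g⁻¹ = c.torus (zf v)} := ⟨_, rfl⟩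
  -- the twisting word
  obtain ⟨k, hk⟩ : ∃ k, k = σ g * g⁻¹ := ⟨_, rfl⟩
  have hkmem : k ∈ D.group L := hk ▸ mul_mem (hσ ▸ c.group_map φ hg) (inv_mem hg)
  have hkS : ∀ v ∈ S₀, k * c.torus (zf v) * k⁻¹ = c.torus (zf v ^ q) := by
    intro v hv
    rw [hS₀] at hv
    obtain ⟨y, -, hy⟩ := hv
    rw [← hσt, ← hy, map_mul, map_mul, map_inv, hσι, hk]
    group
  obtain ⟨bb, hbb, aa, haa, L₀, hL₀, uu, huu, hke⟩ := c.bruhat_exists hkmem
  obtain ⟨vv, hvv, dd, hdd, hbe⟩ := c.mem_borel_iff.1 hbb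
  have hconj : ∀ v ∈ S₀,
      c.nw L L₀ * c.torus (zf v) * (c.nw L L₀)⁻¹ = c.torus (zf v ^ q) := fun v hv => by
    refine (c.conj_factors hL₀ hvv hdd haa huu ?_).1
    rw [← hbe, ← hke]
    exact mul_inv_eq_iff_eq_mul.1 (hkS v hv)
  have hL' : ∀ p ∈ L₀.reverse, p < D.rank := fun p hp => hL₀ p (List.mem_reverse.1 hp)
  obtain ⟨A, hA⟩ : ∃ A : Matrix (Fin D.rank) (Fin D.rank) (ZMod m),
      A = (c.wmat L₀.reverse).map (Int.castRingHom (ZMod m)) := ⟨_, rfl⟩
  have hEq : ∀ x : ZMod m, E x ^ q = E ((q : ZMod m) * x) := fun x => by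
    conv_rhs => rw [← hlift x, ← Int.cast_natCast q, ← Int.cast_mul, hE]
    conv_lhs => rw [← hlift x, hE, ← zpow_natCast, ← _root_.zpow_mul, mul_comm]
  have hrel : ∀ v, c.nw L L₀ * c.torus (zf v) * (c.nw L L₀)⁻¹ = c.torus (zf v ^ q) ↔
      A *ᵥ v = (q : ZMod m) • v := by
    intro v
    constructor
    · intro h
      funext i
      refine hEinj ?_
      rw [hA, ← hact _ hL', Pi.smul_apply, smul_eq_mul, ← hEq, ← hzf]
      have h1 := c.tchar_of_nw_conj hL₀ h (c.wl_lt hL' (c.simple_lt i.2))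
      rw [c.wl_reverse hL₀ (c.simple_lt i.2), c.tchar_pow] at h1
      exact h1.symm
    · intro h
      refine c.nw_conj_torus hL₀ fun s hs => ?_
      have h1 : c.wl L₀.reverse (c.wl L₀ s) = s := by
        have := c.wl_reverse (L := L₀.reverse) hL' hs
        rwa [List.reverse_reverse] at this
      have hlt := c.wl_lt hL₀ hs
      conv_rhs => rw [← h1, c.tchar_wl _ hL' hlt]
      rw [c.tchar_pow, c.tchar_eq_chi _ hlt, ← Finset.prod_pow]
      refine Finset.prod_congr rfl fun i _ => ?_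
      rw [hact _ hL', ← hA, h, Pi.smul_apply, smul_eq_mul, ← hEq, ← hzf, ← zpow_natCast,
        ← zpow_natCast, ← _root_.zpow_mul, ← _root_.zpow_mul, mul_comm]
  have hAS : ∀ v ∈ S₀, A *ᵥ v = (q : ZMod m) • v := fun v hv => (hrel v).1 (hconj v hv)
  -- the stabiliser and the projection
  obtain ⟨aU, haW, haU⟩ := c.exists_weylMat hL'
  haveI : Finite c.weylMat := c.finite_weylMat
  set ρ := (Int.castRingHom (ZMod m)).mapMatrix (m := Fin D.rank) with hρ
  have hρA : ρ (aU : Matrix (Fin D.rank) (Fin D.rank) ℤ) = A := by rw [hA, haU]; rfl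
  let Γ : Subgroup c.weylMat :=
    { carrier := {u | ∀ v ∈ S₀, ρ ((u : (Matrix (Fin D.rank) (Fin D.rank) ℤ)ˣ) :
        Matrix (Fin D.rank) (Fin D.rank) ℤ) *ᵥ v = v}
      one_mem' := fun v _ => by simp
      mul_mem' := fun {x y} hx hy v hv => by
        rw [Subgroup.coe_mul, Units.val_mul, map_mul, ← Matrix.mulVec_mulVec, hy v hv, hx v hv]
      inv_mem' := fun {x} hx v hv => by
        conv_lhs => rw [← hx v hv]
        rw [Matrix.mulVec_mulVec, ← map_mul, Subgroup.coe_inv, Units.inv_mul, map_one,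
          Matrix.one_mulVec] }
  letI : Fintype Γ := Fintype.ofFinite _
  have hunit : ∀ n : ℕ, ¬ r ∣ n → IsUnit ((n : ZMod m)) := fun n hn => by
    rw [ZMod.isUnit_iff_coprime, hm]
    exact Nat.Coprime.pow_right _ (hrp.coprime_iff_not_dvd.2 hn).symm
  have hΓ : IsUnit ((Fintype.card Γ : ℕ) : ZMod m) := hunit _ fun h => hrW (by
    rw [← c.card_weylMat hc hlen]
    exact h.trans (Nat.card_eq_fintype_card (α := Γ) ▸ Subgroup.card_subgroup_dvd_card Γ))
  obtain ⟨k₀, hk₀⟩ : ∃ k₀, k₀ = orderOf (⟨aU, haW⟩ : c.weylMat) * d := ⟨_, rfl⟩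
  have hk₀u : IsUnit ((k₀ : ℕ) : ZMod m) := by
    refine hunit _ fun h => ?_
    rw [hk₀] at h
    rcases hrp.dvd_mul.1 h with h | h
    · exact hrW (c.card_weylMat hc hlen ▸ h.trans (orderOf_dvd_natCard _))
    · exact hrd h
  have hAk : A ^ k₀ = 1 := by
    rw [← hρA, ← map_pow, ← Units.val_pow_eq_pow_val, hk₀, pow_mul]
    have := congrArg Subtype.val (pow_orderOf_eq_one (⟨aU, haW⟩ : c.weylMat))
    rw [Subgroup.coe_pow] at this
    rw [this, Subgroup.coe_one, one_pow, Units.val_one, map_one]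
  obtain ⟨w, hw⟩ : ∃ w : ZMod m, w * (q : ZMod m) = 1 :=
    ⟨(q : ZMod m) ^ (d - 1), by rw [← pow_succ, Nat.sub_add_cancel hd0, hqm]⟩
  have hwk : w ^ k₀ = 1 := by
    have h : (q : ZMod m) ^ k₀ = 1 := by rw [hk₀, mul_comm, pow_mul, hqm, one_pow]
    have := congrArg (· ^ k₀) hw
    simp only [mul_pow, h, mul_one, one_pow] at this
    exact this
  obtain ⟨i₁, hi₁⟩ := hΓ.exists_left_inv
  obtain ⟨i₂, hi₂⟩ := hk₀u.exists_left_inv
  obtain ⟨P₁, hP₁⟩ : ∃ M : Matrix (Fin D.rank) (Fin D.rank) (ZMod m), M = i₁ • ∑ u : Γ,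
      ρ (((u : c.weylMat) : (Matrix (Fin D.rank) (Fin D.rank) ℤ)ˣ) :
        Matrix (Fin D.rank) (Fin D.rank) ℤ) := ⟨_, rfl⟩
  obtain ⟨P₂, hP₂⟩ : ∃ M : Matrix (Fin D.rank) (Fin D.rank) (ZMod m),
      M = i₂ • ∑ i ∈ Finset.range k₀, w ^ i • A ^ i := ⟨_, rfl⟩
  have hAP₂ : A * P₂ = (q : ZMod m) • P₂ := by
    have hshift : ∑ i ∈ Finset.range k₀, w ^ (i + 1) • A ^ (i + 1) =
        ∑ i ∈ Finset.range k₀, w ^ i • A ^ i := by
      have h1 := Finset.sum_range_succ' (fun i => w ^ i • A ^ i) k₀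
      rw [Finset.sum_range_succ, hwk, hAk, one_smul, pow_zero, pow_zero, one_smul] at h1
      exact (add_right_cancel h1).symm
    have h2 : w • (A * ∑ i ∈ Finset.range k₀, w ^ i • A ^ i) =
        ∑ i ∈ Finset.range k₀, w ^ i • A ^ i := by
      conv_rhs => rw [← hshift]
      rw [Finset.mul_sum, Finset.smul_sum]
      refine Finset.sum_congr rfl fun i _ => ?_
      rw [mul_smul_comm, smul_smul, pow_succ' w, pow_succ' A]
    rw [hP₂, mul_smul_comm, smul_comm (q : ZMod m) i₂]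
    congr 1
    conv_rhs => rw [← h2]
    rw [smul_smul, mul_comm (q : ZMod m), hw, one_smul]
  have hP₁B : ∀ u : Γ, ρ (((u : c.weylMat) : (Matrix (Fin D.rank) (Fin D.rank) ℤ)ˣ) :
      Matrix (Fin D.rank) (Fin D.rank) ℤ) * P₁ = P₁ := by
    intro u
    rw [hP₁, mul_smul_comm, Finset.mul_sum]
    congr 1
    exact Fintype.sum_equiv (Equiv.mulLeft u) _ _ fun x => by
      rw [← map_mul, ← Units.val_mul, ← Subgroup.coe_mul, ← Subgroup.coe_mul]
      rfl
  have hnorm : ∀ u : Γ, (⟨aU, haW⟩ : c.weylMat) * u * (⟨aU, haW⟩ : c.weylMat)⁻¹ ∈ Γ := by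
    intro u v hv
    have h' : ρ ((aU⁻¹ : (Matrix (Fin D.rank) (Fin D.rank) ℤ)ˣ) :
        Matrix (Fin D.rank) (Fin D.rank) ℤ) *ᵥ v = w • v := by
      have h1 : ρ ((aU⁻¹ : (Matrix (Fin D.rank) (Fin D.rank) ℤ)ˣ) :
          Matrix (Fin D.rank) (Fin D.rank) ℤ) *ᵥ (A *ᵥ v) = v := by
        rw [Matrix.mulVec_mulVec, ← hρA, ← map_mul, Units.inv_mul, map_one, Matrix.one_mulVec]
      rw [hAS v hv, Matrix.mulVec_smul] at h1
      conv_rhs => rw [← h1, smul_smul, hw, one_smul]
    rw [Subgroup.coe_mul, Subgroup.coe_mul, Units.val_mul, Units.val_mul, map_mul, map_mul,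
      ← Matrix.mulVec_mulVec, ← Matrix.mulVec_mulVec, Subgroup.coe_inv, h', Matrix.mulVec_smul,
      u.2 v hv, Matrix.mulVec_smul, show ρ (aU : Matrix (Fin D.rank) (Fin D.rank) ℤ) = A from hρA,
      hAS v hv, smul_smul, hw, one_smul]
  have hP₁A : A * P₁ = P₁ * A := by
    rw [hP₁, mul_smul_comm, smul_mul_assoc, Finset.mul_sum, Finset.sum_mul]
    congr 1
    refine Fintype.sum_bijective (fun u : Γ => (⟨_, hnorm u⟩ : Γ))
      (Finite.injective_iff_bijective.1 fun x y h => Subtype.ext ?_) _ _ fun u => ?_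
    · exact mul_left_cancel (mul_right_cancel (congrArg Subtype.val h))
    · rw [← hρA, ← map_mul, ← map_mul]
      simp
  have hP₂₁ : P₂ * P₁ = P₁ * P₂ := by
    rw [hP₂, smul_mul_assoc, mul_smul_comm, Finset.sum_mul, Finset.mul_sum]
    congr 1
    refine Finset.sum_congr rfl fun i _ => ?_
    rw [smul_mul_assoc, mul_smul_comm, (Commute.pow_left hP₁A i).eq]
  -- the enlarged group
  let Sp : Submodule (ZMod m) (Fin D.rank → ZMod m) := LinearMap.range (Matrix.toLin' (P₁ * P₂))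
  have hSpA : ∀ v ∈ Sp, A *ᵥ v = (q : ZMod m) • v := by
    rintro _ ⟨x, rfl⟩
    rw [Matrix.toLin'_apply, Matrix.mulVec_mulVec, ← hP₂₁, ← mul_assoc, hAP₂, smul_mul_assoc,
      Matrix.smul_mulVec]
  have hSpB : ∀ v ∈ Sp, ∀ u : Γ, ρ (((u : c.weylMat) : (Matrix (Fin D.rank) (Fin D.rank) ℤ)ˣ) :
      Matrix (Fin D.rank) (Fin D.rank) ℤ) *ᵥ v = v := by
    rintro _ ⟨x, rfl⟩ u
    rw [Matrix.toLin'_apply, Matrix.mulVec_mulVec, ← mul_assoc, hP₁B]
  have hproj : ∀ v, A *ᵥ v = (q : ZMod m) • v → (∀ u : Γ,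
      ρ (((u : c.weylMat) : (Matrix (Fin D.rank) (Fin D.rank) ℤ)ˣ) :
        Matrix (Fin D.rank) (Fin D.rank) ℤ) *ᵥ v = v) →
      (P₁ * P₂) *ᵥ v = v := by
    intro v h1 h2
    have hAi : ∀ i : ℕ, (A ^ i) *ᵥ v = (q : ZMod m) ^ i • v := by
      intro i
      induction i with
      | zero => simp
      | succ i ih => rw [pow_succ, ← Matrix.mulVec_mulVec, h1, Matrix.mulVec_smul, ih, smul_smul,
          pow_succ']
    have h3 : P₂ *ᵥ v = v := by
      rw [hP₂, Matrix.smul_mulVec, Matrix.sum_mulVec,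
        Finset.sum_congr rfl fun i _ => (by
          rw [Matrix.smul_mulVec, hAi, smul_smul, ← mul_pow, hw, one_pow, one_smul] :
            (w ^ i • A ^ i) *ᵥ v = v),
        Finset.sum_const, Finset.card_range, ← Nat.cast_smul_eq_nsmul (ZMod m), smul_smul, hi₂,
        one_smul]
    rw [← Matrix.mulVec_mulVec, h3, hP₁, Matrix.smul_mulVec, Matrix.sum_mulVec,
      Finset.sum_congr rfl fun u _ => h2 u, Finset.sum_const, Finset.card_univ,
      ← Nat.cast_smul_eq_nsmul (ZMod m), smul_smul, hi₁, one_smul]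
  have hS₀Sp : ∀ v ∈ S₀, v ∈ Sp := fun v hv =>
    ⟨v, hproj v (hAS v hv) fun u => u.2 v hv⟩
  have hreal : ∀ v ∈ Sp, ∃ y : ↥(D.group F),
      g * mι (y : GL D.Idx F) * g⁻¹ = c.torus (zf v) := by
    intro v hv
    obtain ⟨n₀, hn₀⟩ : ∃ x, x = c.nw L L₀ := ⟨_, rfl⟩
    have hn₀mem : n₀ ∈ D.group L := hn₀ ▸ c.N_le_group (c.nw_mem_N hL₀)
    have hc₀ : ∀ z ∈ zf '' S₀, (n₀⁻¹ * k) * c.torus z = c.torus z * (n₀⁻¹ * k) := by
      rintro _ ⟨s, hs, rfl⟩
      calc n₀⁻¹ * k * c.torus (zf s) = n₀⁻¹ * (k * c.torus (zf s) * k⁻¹) * k := by group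
        _ = n₀⁻¹ * (n₀ * c.torus (zf s) * n₀⁻¹) * k := by rw [hkS s hs, hn₀, hconj s hs]
        _ = _ := by group
    have hc₁ := c.commute_of_stab (z' := zf v) (fun M hM hMS => ?_)
      (fun s hs h => hodd _ ((htors (zf v) ?_).1 s hs) h)
      (mul_mem (inv_mem hn₀mem) hkmem) hc₀
    rotate_left
    · intro i
      obtain ⟨bU, hbW, hbU⟩ := c.exists_weylMat hM
      have hbΓ : (⟨bU, hbW⟩ : c.weylMat) ∈ Γ := fun s hs => funext fun j => hEinj (by
        have h1 := hMS _ ⟨s, hs, rfl⟩ j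
        rw [hact M hM, hzf] at h1
        rw [← h1, hρ, RingHom.mapMatrix_apply]
        simp only [hbU])
      rw [hact M hM, hzf, ← hbU]
      exact congrArg E (congrFun (hSpB v hv ⟨_, hbΓ⟩) i)
    · refine ⟨b, ?_⟩
      rw [← hm, ← map_pow]
      refine (c.torus_eq_of_chi (z' := 1) (funext fun i => ?_)).trans (map_one _)
      rw [c.chi_one, chi, c.tchar_pow, Pi.one_apply]
      rw [show c.tchar (zf v) (D.simple i) = E (v i) from hzf v i, hEm]
    obtain ⟨Y, hY⟩ : ∃ Y, Y = g⁻¹ * c.torus (zf v) * g := ⟨_, rfl⟩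
    have hYmem : Y ∈ D.group L := hY ▸ mul_mem (mul_mem (inv_mem hg)
      (c.B_le_group (c.H_le_B (c.torus_mem _)))) hg
    have hYfix : σ Y = Y := by
      rw [hY, map_mul, map_mul, map_inv, hσt, ← (hrel v).2 (hSpA v hv), ← hn₀,
        show σ g = k * g by rw [hk, inv_mul_cancel_right]]
      calc (k * g)⁻¹ * (n₀ * c.torus (zf v) * n₀⁻¹) * (k * g)
          = g⁻¹ * ((n₀⁻¹ * k)⁻¹ * (c.torus (zf v) * (n₀⁻¹ * k))) * g := by group
        _ = _ := by rw [← hc₁]; group
    have hYm : Y ^ m = 1 := by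
      rw [hY, show g⁻¹ * c.torus (zf v) * g = g⁻¹ * c.torus (zf v) * g⁻¹⁻¹ by rw [inv_inv],
        conj_pow, (htors (zf v) ⟨b, ?_⟩).2, mul_one, mul_inv_cancel]
      rw [← hm, ← map_pow]
      refine (c.torus_eq_of_chi (z' := 1) (funext fun i => ?_)).trans (map_one _)
      rw [c.chi_one, chi, c.tchar_pow, Pi.one_apply]
      rw [show c.tchar (zf v) (D.simple i) = E (v i) from hzf v i, hEm]
    obtain ⟨y, hy, hyY⟩ := c.exists_of_fixed ι φ hrange hgF hYmem (by rw [← hσ]; exact hYfix) hYm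
      (by rw [hm]; exact Nat.Coprime.pow_right _ (hrp.coprime_iff_not_dvd.2 hrgF).symm)
    refine ⟨⟨y, hy⟩, ?_⟩
    rw [hmι, hyY, hY]
    group
  choose y hy using hreal
  let θ : Multiplicative Sp →* ↥(D.group F) := MonoidHom.mk'
    (fun v => y (Multiplicative.toAdd v).1 (Multiplicative.toAdd v).2) fun v w =>
      Subtype.ext (hinj (mul_left_cancel (a := g) (mul_right_cancel (b := g⁻¹) (by
        rw [hy, Subgroup.coe_mul, map_mul mι,
          show ∀ A B : GL D.Idx L, g * (A * B) * g⁻¹ = g * A * g⁻¹ * (g * B * g⁻¹) from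
            fun A B => by group, hy, hy, ← htauadd]
        rfl))))
  have hθinj : Function.Injective θ := fun v w h => by
    have h1 := hy (Multiplicative.toAdd v).1 (Multiplicative.toAdd v).2
    rw [show y (Multiplicative.toAdd v).1 (Multiplicative.toAdd v).2 =
      y (Multiplicative.toAdd w).1 (Multiplicative.toAdd w).2 from h, hy] at h1
    exact Multiplicative.toAdd.injective (Subtype.ext (htauinj _ _ h1.symm))
  have hθgrp : IsPGroup r θ.range := by
    refine IsPGroup.of_surjective (G := Multiplicative Sp) (fun v => ⟨b, ?_⟩) θ.rangeRestrict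
      θ.rangeRestrict_surjective
    refine Multiplicative.toAdd.injective (Subtype.ext (funext fun i => ?_))
    rw [toAdd_pow, ← hm, toAdd_one]
    simp
  have hPθ : (P : Subgroup ↥(D.group F)) ≤ θ.range := by
    intro p hp
    obtain ⟨v, hv⟩ := hgP p hp
    have hv₀ : v ∈ S₀ := by rw [hS₀]; exact ⟨p, hp, hv⟩
    refine ⟨Multiplicative.ofAdd ⟨v, hS₀Sp v hv₀⟩, Subtype.ext (hinj
      (mul_left_cancel (a := g) (mul_right_cancel (b := g⁻¹) ?_)))⟩
    exact (hy v (hS₀Sp v hv₀)).trans hv.symm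
  have heqP : θ.range = (P : Subgroup ↥(D.group F)) := P.is_maximal' hθgrp hPθ
  have hcardSp : Nat.card Sp = m ^ a₀ := by
    rw [← Nat.card_congr (Multiplicative.toAdd (α := Sp)), Nat.card_congr
      (MonoidHom.ofInjective hθinj).toEquiv, heqP, P.card_eq_multiplicity, hcardG, hm, ← pow_mul,
      mul_comm]
  haveI : Module.Projective (ZMod m) Sp := by
    refine Module.Projective.of_split Sp.subtype
      ((Matrix.toLin' (P₁ * P₂)).rangeRestrict) (LinearMap.ext fun v => Subtype.ext ?_)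
    show (P₁ * P₂) *ᵥ (v : Fin D.rank → ZMod m) = v
    exact hproj _ (hSpA v v.2) fun u => hSpB v v.2 u
  haveI : Module.Finite (ZMod m) Sp := Module.Finite.of_finite
  haveI : Module.Free (ZMod m) Sp := Module.free_of_flat_of_isLocalRing
  let B := Module.Free.chooseBasis (ZMod m) Sp
  letI : Fintype (Module.Free.ChooseBasisIndex (ZMod m) Sp) := Fintype.ofFinite _
  have hidx : Fintype.card (Module.Free.ChooseBasisIndex (ZMod m) Sp) = a₀ := by
    have h := Nat.card_congr B.equivFun.toEquiv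
    rw [hcardSp, Nat.card_fun, Nat.card_zmod, Nat.card_eq_fintype_card] at h
    exact (Nat.pow_right_injective hm1 h).symm
  let e₁ : Sp ≃+ (Fin a₀ → ZMod m) :=
    (B.equivFun.trans (LinearEquiv.funCongrLeft (ZMod m) (ZMod m)
      ((Fintype.equivFinOfCardEq hidx)).symm)).toAddEquiv
  exact ⟨((MulEquiv.subgroupCongr heqP).symm.trans (MonoidHom.ofInjective hθinj).symm).trans
    ((AddEquiv.toMultiplicative e₁).trans (MulEquiv.funMultiplicative _ _))⟩

end CertFull

end Cfsg.Agent.Lie.Chev
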