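import Cfsg.Agent.Lib.Lie.Chev.StTorusStart
import Cfsg.Agent.Lib.Lie.Chev.SylowTorus
import Cfsg.Agent.Lib.Lie.Chev.StTorus
import Cfsg.Agent.Lib.Grp.SectionAutomizer

/-! Elements of order prime to `q` and to the order of the Weyl group: conjugation into the split
torus over an extension, and the fixed points of the twisted tori obtained this way. -/

set_option autoImplicit false
set_option maxRecDepth 4000

namespace Cfsg.Agent.Lie.Chev

open Cfsg.Lie Matrix

namespace CertFull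

variable {D : ChevalleyDatum} (c : CertFull D) {L : Type*} [Field L]

include c

/-- A parameter vector with prescribed values at the fundamental roots. -/
theorem exists_param_chi [Fintype L]
    (hH : Nat.card (D.diagonalSubgroup L) = (Fintype.card L - 1) ^ D.rank)
    (ξ : Fin D.rank → Lˣ) : ∃ z : ℕ → Lˣ, c.chi z = ξ := by
  classical
  let ext0 : (Fin D.rank → Lˣ) → ℕ → Lˣ := fun v i => if h : i < D.rank then v ⟨i, h⟩ else 1
  have hinj : Function.Injective fun v => c.chi (ext0 v) := fun v w h => funext fun i => by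
    simpa [ext0] using c.torus_injective hH _ _ (c.torus_eq_of_chi h) i i.2
  obtain ⟨v, hv⟩ := (Finite.injective_iff_surjective.1 hinj) ξ
  exact ⟨_, hv⟩

theorem diagonal_le_group : D.diagonalSubgroup L ≤ D.group L :=
  fun _ ha => c.B_le_group (c.H_le_B ha)

/-- The index of the split torus is prime to `r` over a field with `1 + r t` elements. -/
theorem not_dvd_torus_index [Fintype L] {r : ℕ} {Ls : List (List Rep)}
    (hc : c.T.checkLevels Ls = true) (hlen : Ls.length = D.rank)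
    (hL1 : ((Fintype.card L : ℕ) : ZMod r) = 1) (hrW : ¬ r ∣ (chainWords Ls).length) :
    ¬ r ∣ ((D.diagonalSubgroup L).subgroupOf (D.group L)).index := by
  intro h
  have hmul := ((D.diagonalSubgroup L).subgroupOf (D.group L)).card_mul_index
  rw [Nat.card_congr (Subgroup.subgroupOfEquivOfLe c.diagonal_le_group).toEquiv,
    c.card_group (F := L) hc hlen] at hmul
  obtain ⟨k, hk⟩ : ∃ k, k = Fintype.card L ^ (D.nroots / 2) *
      ((chainWords Ls).map fun v => Fintype.card L ^ c.invN v).sum := ⟨_, rfl⟩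
  have e : ((D.diagonalSubgroup L).subgroupOf (D.group L)).index = k := by
    haveI : Finite ↥(D.diagonalSubgroup L) := Subtype.finite
    refine Nat.eq_of_mul_eq_mul_left (Nat.card_pos (α := D.diagonalSubgroup L)) ?_
    rw [hmul, hk]; ring
  refine hrW ?_
  rw [e, hk, ← ZMod.natCast_eq_zero_iff, Nat.cast_mul, Nat.cast_pow, hL1, one_pow, one_mul,
    Nat.cast_list_sum, List.map_map] at h
  rw [← ZMod.natCast_eq_zero_iff, ← h]
  simp [Function.comp_def, hL1]

/-- Primary subgroups of a subgroup above the split torus are conjugate into the torus there. -/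
theorem exists_conj_diag [Fintype L] {r : ℕ} [Fact r.Prime]
    (hT : ¬ r ∣ ((D.diagonalSubgroup L).subgroupOf (D.group L)).index)
    {H : Subgroup ↥(D.group L)} (hle : (D.diagonalSubgroup L).subgroupOf (D.group L) ≤ H)
    {P : Subgroup ↥(D.group L)} (hPH : P ≤ H) (hP : IsPGroup r P) :
    ∃ g ∈ H, ∀ x ∈ P,
      ((g * x * g⁻¹ : ↥(D.group L)) : GL D.Idx L) ∈ D.diagonalSubgroup L := by
  classical
  haveI : Finite ↥(D.group L) := Subtype.finite
  obtain ⟨T, hTdef⟩ : ∃ T, T = (D.diagonalSubgroup L).subgroupOf (D.group L) := ⟨_, rfl⟩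
  rw [← hTdef] at hT hle
  have hT' : ¬ r ∣ (T.subgroupOf H).index := fun h =>
    hT (h.trans (Subgroup.relIndex_dvd_index_of_le hle))
  obtain ⟨g, hg⟩ := Grp.SectionAut.exists_conj_le hT'
    (hP.of_equiv (Subgroup.subgroupOfEquivOfLe hPH).symm)
  refine ⟨g, g.2, fun x hx => ?_⟩
  have h := Subgroup.mem_subgroupOf.1 (hg ⟨x, hPH hx⟩ (Subgroup.mem_subgroupOf.2 hx))
  rw [hTdef, Subgroup.mem_subgroupOf] at h
  exact h

theorem sigma_torus {φ : L →+* L} {q : ℕ} (hφ : ∀ t, φ t = t ^ q) (z : ℕ → Lˣ) :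
    Matrix.GeneralLinearGroup.map φ (c.torus z) = c.torus (z ^ q) := by
  rw [c.torus_map]
  congr 1
  funext i
  exact Units.ext (by simp [hφ])

/-- The word of a fixed conjugate of torus elements, and the fixed points it gives. -/
theorem exists_twist {φ : L →+* L} {q : ℕ} (hφ : ∀ t, φ t = t ^ q) {g : GL D.Idx L}
    (hg : g ∈ D.group L) {Z : Set (ℕ → Lˣ)}
    (hfix : ∀ z ∈ Z,
      Matrix.GeneralLinearGroup.map φ (g⁻¹ * c.torus z * g) = g⁻¹ * c.torus z * g) :
    ∃ W : List ℕ, (∀ p ∈ W, p < D.rank) ∧ (∀ z ∈ Z, c.Twisted q W z) ∧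
      ((∀ s < D.nroots, ∃ z ∈ Z, c.tchar z s ≠ 1) → ∀ z' : ℕ → Lˣ, c.Twisted q W z' →
        Matrix.GeneralLinearGroup.map φ (g⁻¹ * c.torus z' * g) = g⁻¹ * c.torus z' * g) := by
  obtain ⟨σ, hσ⟩ : ∃ σ : GL D.Idx L →* GL D.Idx L, σ = Matrix.GeneralLinearGroup.map φ :=
    ⟨_, rfl⟩
  obtain ⟨k, hk⟩ : ∃ k, k = σ g * g⁻¹ := ⟨_, rfl⟩
  have hkmem : k ∈ D.group L := hk ▸ mul_mem (hσ ▸ c.group_map φ hg) (inv_mem hg)
  have hσt : ∀ z, σ (c.torus z) = c.torus (z ^ q) := fun z => by rw [hσ]; exact c.sigma_torus hφ z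
  have hiff : ∀ z, σ (g⁻¹ * c.torus z * g) = g⁻¹ * c.torus z * g ↔
      k * c.torus z = c.torus (z ^ q) * k := by
    intro z
    rw [map_mul, map_mul, map_inv, hσt, hk]
    constructor
    · intro h
      calc σ g * g⁻¹ * c.torus z = σ g * (g⁻¹ * c.torus z * g) * g⁻¹ := by group
        _ = σ g * ((σ g)⁻¹ * c.torus (z ^ q) * σ g) * g⁻¹ := by rw [h]
        _ = _ := by group
    · intro h
      calc (σ g)⁻¹ * c.torus (z ^ q) * σ g
          = (σ g)⁻¹ * (c.torus (z ^ q) * (σ g * g⁻¹)) * g := by group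
        _ = (σ g)⁻¹ * (σ g * g⁻¹ * c.torus z) * g := by rw [h]
        _ = _ := by group
  have hfix' : ∀ z ∈ Z, k * c.torus z = c.torus (z ^ q) * k := fun z hz =>
    (hiff z).1 (by rw [hσ]; exact hfix z hz)
  obtain ⟨b, hb, a, ha, W, hW, u, hu, hkeq⟩ := c.bruhat_exists hkmem
  obtain ⟨v, hv, d, hd, hbeq⟩ := c.mem_borel_iff.1 hb
  rw [hbeq] at hkeq
  have hall : ∀ z ∈ Z, c.nw L W * c.torus z * (c.nw L W)⁻¹ = c.torus (z ^ q) ∧
      c.torus (z ^ q) * v * (c.torus (z ^ q))⁻¹ = v ∧ c.torus z * u * (c.torus z)⁻¹ = u :=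
    fun z hz => c.conj_factors hW hv hd ha hu (by rw [← hkeq]; exact hfix' z hz)
  have htw : ∀ z ∈ Z, c.Twisted q W z := fun z hz => c.twisted_of_nw hW (hall z hz).1
  refine ⟨W, hW, htw, fun hne z' hz' => ?_⟩
  have hU : ∀ w ∈ D.posUnipotent L, (∀ s < D.nroots, ∃ z : ℕ → Lˣ, c.tchar z s ≠ 1 ∧
      c.torus z * w * (c.torus z)⁻¹ = w) → w = 1 := by
    intro w hw hwfix
    rw [c.posUnipotent_eq] at hw
    obtain ⟨t, rfl⟩ := c.exists_oprod _ c.T.h rfl le_rfl w hw
    refine List.prod_eq_one fun x hx => ?_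
    obtain ⟨s, hs, rfl⟩ := List.mem_map.1 hx
    rw [List.mem_range'_1] at hs
    obtain ⟨z, hz1, hz2⟩ := hwfix s (by omega)
    rw [c.torus_conj_oprod] at hz2
    have e := c.oprod_inj _ c.T.h rfl le_rfl _ _ hz2 s hs.1 (by omega)
    have ht : t s = 0 := by
      by_contra ht
      exact hz1 (Units.ext (mul_eq_right₀ ht |>.1 e))
    rw [ht, c.xg_zero]
  have hv1 : v = 1 := by
    refine hU v hv fun s hs => ?_
    obtain ⟨z, hz, hz1⟩ := hne (c.wl W.reverse s)
      (c.wl_lt (fun p hp => hW p (List.mem_reverse.1 hp)) hs)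
    refine ⟨z ^ q, ?_, (hall z hz).2.1⟩
    have h := htw z hz _ (c.wl_lt (fun p hp => hW p (List.mem_reverse.1 hp)) hs)
    rw [c.wl_reverse hW hs] at h
    rw [c.tchar_pow, h]
    exact hz1
  have hu1 : u = 1 := by
    refine hU u (c.KS_invSet_le_U hW hu) fun s hs => ?_
    obtain ⟨z, hz, hz1⟩ := hne s hs
    exact ⟨z, hz1, (hall z hz).2.2⟩
  have hn := c.nw_of_twisted hW hz'
  rw [hv1, hu1, one_mul, mul_one] at hkeq
  have h1 : ∀ x ∈ D.diagonalSubgroup L, x * c.torus (z' ^ q) = c.torus (z' ^ q) * x :=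
    fun x hx => c.H_commutative hx (c.torus_mem _)
  rw [← hσ, hiff z', hkeq, mul_assoc, ← mul_assoc (c.torus (z' ^ q)), ← h1 d hd, mul_assoc d]
  congr 1
  calc a * c.nw L W * c.torus z' = a * (c.nw L W * c.torus z' * (c.nw L W)⁻¹) * c.nw L W := by
        group
    _ = _ := by rw [hn, h1 a ha, mul_assoc]

/-- A twisted parameter vector from its values at the fundamental roots. -/
theorem twisted_of_chi {q : ℕ} {W : List ℕ} (hW : ∀ p ∈ W, p < D.rank) {z : ℕ → Lˣ}
    (h : ∀ i : Fin D.rank, c.tchar z (c.wl W.reverse (D.simple i)) = c.chi z i ^ q) :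
    c.Twisted q W z := by
  intro s hs
  have hR : ∀ p ∈ W.reverse, p < D.rank := fun p hp => hW p (List.mem_reverse.1 hp)
  have hlt := c.wl_lt hW hs
  have h1 : c.wl W.reverse (c.wl W s) = s := by
    have := c.wl_reverse (L := W.reverse) hR hs
    rwa [List.reverse_reverse] at this
  conv_rhs => rw [← h1, c.tchar_wl z hR hlt]
  rw [c.tchar_eq_chi z hlt, ← Finset.prod_pow]
  refine Finset.prod_congr rfl fun i _ => ?_
  rw [h i, ← zpow_natCast, ← zpow_natCast, ← _root_.zpow_mul, ← _root_.zpow_mul, mul_comm]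

/-- The centraliser in the group over the small field of an element with regular eigenvector is
commutative. -/
theorem commute_of_regular {F : Type*} [Field F] [Fintype L] (ι : F →+* L) {q n r : ℕ}
    [Fact r.Prime] (hn : n.totient = D.rank) (hn1 : 1 < n) (hrn : ¬ r ∣ n) (hrl : D.rank + 1 < r)
    (hrank : 0 < D.rank) (hr : (r : ℤ) ∣ (Polynomial.cyclotomic n ℤ).eval (q : ℤ))
    (hrL : r ∣ Fintype.card L - 1) (hq0 : (q : ZMod r) ≠ 0) {g : GL D.Idx L} (hg : g ∈ D.group L)
    {z : ℕ → Lˣ} {x : ↥(D.group F)}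
    (hgz : g * Matrix.GeneralLinearGroup.map ι (x : GL D.Idx F) * g⁻¹ = c.torus z)
    (hzr : ∀ s < D.nroots, c.tchar z s ^ r = 1) (hne : ∃ s < D.nroots, c.tchar z s ≠ 1)
    {W : List ℕ} (hW : ∀ p ∈ W, p < D.rank) (hrel : c.Twisted q W z) {y₁ y₂ : ↥(D.group F)}
    (h₁ : Commute y₁ x) (h₂ : Commute y₂ x) : Commute y₁ y₂ := by
  classical
  obtain ⟨eb, heb0, hae, hfixe⟩ := c.exists_eigen hrL hW hzr hne hrel
  have hWr : ∀ p ∈ W.reverse, p < D.rank := fun p hp => hW p (List.mem_reverse.1 hp)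
  obtain ⟨aU, haW, haU⟩ := c.exists_weylMat hWr
  haveI : Finite c.weylMat := c.finite_weylMat
  have hcharpoly : (c.wmat W.reverse).charpoly = Polynomial.cyclotomic n ℤ := by
    refine CycMatrix.charpoly_eq_cyclotomic (by rw [Fintype.card_fin, hn]) hrn (by omega)
      (q := (q : ℤ)) hr (k := orderOf (⟨aU, haW⟩ : c.weylMat)) (orderOf_pos _) ?_ heb0
      (by rw [Int.cast_natCast]; exact hae)
    rw [← haU, ← Units.val_pow_eq_pow_val]
    have := congrArg Subtype.val (pow_orderOf_eq_one (⟨aU, haW⟩ : c.weylMat))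
    rw [Subgroup.coe_pow] at this
    rw [this]
    rfl
  have hirr : Irreducible ((aU : Matrix (Fin D.rank) (Fin D.rank) ℤ).map
      (Int.castRingHom ℚ)).charpoly := by
    rw [haU, Matrix.charpoly_map, hcharpoly, Polynomial.map_cyclotomic]
    exact Polynomial.cyclotomic.irreducible_rat (by omega)
  have hstab : ∀ M : List ℕ, (∀ p ∈ M, p < D.rank) →
      (∀ i : Fin D.rank, c.tchar z (c.wl M (D.simple i)) = c.chi z i) →
      ∀ s < D.nroots, c.wl M s = s := by
    intro M hM hfix s hs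
    obtain ⟨b, hbW, hb⟩ := c.exists_weylMat hM
    have h1 : b = 1 := CycMatrix.stab_trivial (by rw [Fintype.card_fin]; exact hrl) haW hirr heb0
      hq0 (by rw [haU]; exact hae) hbW (by rw [hb]; exact hfixe M hM hfix)
    refine c.wl_eq_self_of_wmat hM ?_ hs
    rw [← hb, h1]
    rfl
  have hreg : ∀ s < D.nroots, c.tchar z s ≠ 1 := by
    intro s hs h1
    obtain ⟨M, hM, hMs, hMfix⟩ := c.exists_reflection (F := L) hs
    exact c.neg_ne hs (hMs.symm.trans (hstab M hM (hMfix z h1) s hs))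
  have hCH : ∀ y : ↥(D.group F), Commute y x →
      g * Matrix.GeneralLinearGroup.map ι (y : GL D.Idx F) * g⁻¹ ∈ D.diagonalSubgroup L := by
    intro y hy
    refine c.mem_H_of_commute_of_pos hreg (fun M hM heq p hp => ?_)
      (mul_mem (mul_mem hg (c.mapHom_mem_group ι y.2)) (inv_mem hg)) ?_
    · rw [hstab M hM (fun i => heq _ (c.simple_lt i.2)) _ (c.simple_lt hp)]
      exact c.pos_simple hp
    · rw [← hgz]
      exact ((hy.map (D.group F).subtype).map (Matrix.GeneralLinearGroup.map ι)).map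
        (MulAut.conj g).toMonoidHom
  have h := c.H_commutative (hCH y₁ h₁) (hCH y₂ h₂)
  have hinj : Function.Injective fun y : ↥(D.group F) =>
      g * Matrix.GeneralLinearGroup.map ι (y : GL D.Idx F) * g⁻¹ := fun a b e => by
    simp only [mul_left_inj, mul_right_inj] at e
    exact Subtype.ext (Units.ext (Matrix.ext fun i j => ι.injective
      (congrArg (fun v : GL D.Idx L => (v : Matrix D.Idx D.Idx L) i j) e)))
  refine hinj ?_
  simp only [Subgroup.coe_mul, map_mul]
  calc g * (Matrix.GeneralLinearGroup.map ι (y₁ : GL D.Idx F) *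
        Matrix.GeneralLinearGroup.map ι (y₂ : GL D.Idx F)) * g⁻¹
      = (g * Matrix.GeneralLinearGroup.map ι (y₁ : GL D.Idx F) * g⁻¹) *
        (g * Matrix.GeneralLinearGroup.map ι (y₂ : GL D.Idx F) * g⁻¹) := by group
    _ = (g * Matrix.GeneralLinearGroup.map ι (y₂ : GL D.Idx F) * g⁻¹) *
        (g * Matrix.GeneralLinearGroup.map ι (y₁ : GL D.Idx F) * g⁻¹) := h
    _ = _ := by group

end CertFull

end Cfsg.Agent.Lie.Chev
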