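/- Coset representatives and diagonalisation of the Cartan matrix of type B2. -/
import Cfsg.Agent.Lib.Lie.Chev.Order
import Cfsg.Agent.Lib.Lie.Chev.CertsFull

set_option autoImplicit false

namespace Cfsg.Agent.Lie.Chev

/-- Representatives at level 1 for type B2. -/
def repsB2L1 : List Rep := [
  ⟨[], 0, [5, 4], 0⟩,
  ⟨[0], 0, [2, 7], 5⟩]

/-- Representatives at level 2 for type B2. -/
def repsB2L2 : List Rep := [
  ⟨[], 0, [5, 4], 0⟩,
  ⟨[1], 0, [6, 3], 4⟩,
  ⟨[0, 1], 1, [6, 0], 6⟩,
  ⟨[1, 0, 1], 2, [5, 0], 7⟩]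

/-- The chain of type B2. -/
def chainB2 : List (List Rep) := [repsB2L2, repsB2L1]

theorem chainB2_ok : certFullB2.T.checkLevels chainB2 = true := by decide +kernel

theorem chainB2_len : chainB2.length = Cfsg.Lie.chevB2.rank := rfl

theorem chainB2_poly : checkPoly Cfsg.Lie.chevB2.rank chainB2 [2, 4] = true := by
  decide +kernel

theorem cardHB2 (F : Type*) [Field F] [Fintype F] :
    Nat.card (Cfsg.Lie.chevB2.diagonalSubgroup F) =
      ∏ i, (Fintype.card F - 1) / (Fintype.card F - 1).gcd (![1, 2] i) :=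
  certFullB2.card_H (l := 2) rfl
    (A := !![2, -2; -1, 2])
    (P := !![0, -1; 1, 2])
    (P' := !![2, 1; -1, 0])
    (Q := !![1, 2; 0, 1])
    (Q' := !![1, -2; 0, 1])
    (![1, 2]) (by decide +kernel) (by decide +kernel) (by decide +kernel)
    (by decide +kernel) (by decide +kernel) (by decide +kernel)

end Cfsg.Agent.Lie.Chev
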