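/- Coset representatives and diagonalisation of the Cartan matrix of type E6. -/
import Cfsg.Agent.Lib.Lie.Chev.Order
import Cfsg.Agent.Lib.Lie.Chev.CertsFull

set_option autoImplicit false

namespace Cfsg.Agent.Lie.Chev

/-- Representatives at level 1 for type E6. -/
def repsE6L1 : List Rep := [
  ⟨[], 0, [56, 46, 42, 39, 37, 36], 0⟩,
  ⟨[0], 0, [15, 46, 57, 39, 37, 36], 56⟩]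

/-- Representatives at level 2 for type E6. -/
def repsE6L2 : List Rep := [
  ⟨[], 0, [56, 46, 42, 39, 37, 36], 0⟩,
  ⟨[1], 0, [56, 25, 42, 47, 37, 36], 46⟩]

/-- Representatives at level 3 for type E6. -/
def repsE6L3 : List Rep := [
  ⟨[], 0, [56, 46, 42, 39, 37, 36], 0⟩,
  ⟨[2], 0, [57, 46, 29, 43, 37, 36], 42⟩,
  ⟨[0, 2], 1, [42, 46, 14, 58, 37, 36], 57⟩]

/-- Representatives at level 4 for type E6. -/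
def repsE6L4 : List Rep := [
  ⟨[], 0, [56, 46, 42, 39, 37, 36], 0⟩,
  ⟨[3], 0, [56, 47, 43, 32, 40, 36], 39⟩,
  ⟨[1, 3], 1, [56, 39, 50, 24, 48, 36], 47⟩,
  ⟨[2, 3], 1, [57, 50, 39, 28, 44, 36], 43⟩,
  ⟨[2, 1, 3], 2, [57, 43, 47, 21, 51, 36], 43⟩,
  ⟨[0, 2, 3], 3, [42, 61, 39, 13, 59, 36], 58⟩,
  ⟨[0, 2, 1, 3], 4, [42, 58, 47, 10, 62, 36], 58⟩,
  ⟨[3, 2, 1, 3], 4, [58, 42, 46, 21, 53, 36], 50⟩,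
  ⟨[3, 0, 2, 1, 3], 6, [43, 57, 46, 10, 64, 36], 50⟩,
  ⟨[2, 3, 0, 2, 1, 3], 8, [39, 56, 46, 10, 67, 36], 61⟩]

/-- Representatives at level 5 for type E6. -/
def repsE6L5 : List Rep := [
  ⟨[], 0, [56, 46, 42, 39, 37, 36], 0⟩,
  ⟨[4], 0, [56, 46, 42, 40, 34, 38], 37⟩,
  ⟨[3, 4], 1, [56, 47, 43, 37, 31, 41], 40⟩,
  ⟨[1, 3, 4], 2, [56, 39, 50, 37, 23, 49], 48⟩,
  ⟨[2, 3, 4], 2, [57, 50, 39, 37, 27, 45], 44⟩,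
  ⟨[2, 1, 3, 4], 3, [57, 43, 47, 37, 20, 52], 44⟩,
  ⟨[0, 2, 3, 4], 4, [42, 61, 39, 37, 12, 60], 59⟩,
  ⟨[0, 2, 1, 3, 4], 5, [42, 58, 47, 37, 9, 63], 59⟩,
  ⟨[3, 2, 1, 3, 4], 5, [58, 42, 46, 40, 18, 54], 51⟩,
  ⟨[3, 0, 2, 1, 3, 4], 7, [43, 57, 46, 40, 7, 65], 51⟩,
  ⟨[4, 3, 2, 1, 3, 4], 8, [59, 42, 46, 39, 18, 55], 53⟩,
  ⟨[2, 3, 0, 2, 1, 3, 4], 9, [39, 56, 46, 44, 4, 68], 62⟩,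
  ⟨[4, 3, 0, 2, 1, 3, 4], 9, [44, 57, 46, 39, 7, 66], 53⟩,
  ⟨[4, 2, 3, 0, 2, 1, 3, 4], 11, [40, 56, 46, 43, 4, 69], 53⟩,
  ⟨[3, 4, 2, 3, 0, 2, 1, 3, 4], 13, [37, 56, 47, 42, 4, 70], 64⟩,
  ⟨[1, 3, 4, 2, 3, 0, 2, 1, 3, 4], 14, [37, 56, 39, 42, 4, 71], 67⟩]

/-- Representatives at level 6 for type E6. -/
def repsE6L6 : List Rep := [
  ⟨[], 0, [56, 46, 42, 39, 37, 36], 0⟩,
  ⟨[5], 0, [56, 46, 42, 39, 38, 35], 36⟩,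
  ⟨[4, 5], 1, [56, 46, 42, 40, 36, 33], 38⟩,
  ⟨[3, 4, 5], 2, [56, 47, 43, 37, 36, 30], 41⟩,
  ⟨[1, 3, 4, 5], 3, [56, 39, 50, 37, 36, 22], 49⟩,
  ⟨[2, 3, 4, 5], 3, [57, 50, 39, 37, 36, 26], 45⟩,
  ⟨[2, 1, 3, 4, 5], 4, [57, 43, 47, 37, 36, 19], 45⟩,
  ⟨[0, 2, 3, 4, 5], 5, [42, 61, 39, 37, 36, 11], 60⟩,
  ⟨[0, 2, 1, 3, 4, 5], 6, [42, 58, 47, 37, 36, 8], 60⟩,
  ⟨[3, 2, 1, 3, 4, 5], 6, [58, 42, 46, 40, 36, 17], 52⟩,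
  ⟨[3, 0, 2, 1, 3, 4, 5], 8, [43, 57, 46, 40, 36, 6], 52⟩,
  ⟨[4, 3, 2, 1, 3, 4, 5], 9, [59, 42, 46, 39, 38, 16], 54⟩,
  ⟨[2, 3, 0, 2, 1, 3, 4, 5], 10, [39, 56, 46, 44, 36, 3], 63⟩,
  ⟨[4, 3, 0, 2, 1, 3, 4, 5], 10, [44, 57, 46, 39, 38, 5], 54⟩,
  ⟨[5, 4, 3, 2, 1, 3, 4, 5], 11, [60, 42, 46, 39, 37, 16], 55⟩,
  ⟨[4, 2, 3, 0, 2, 1, 3, 4, 5], 12, [40, 56, 46, 43, 38, 2], 54⟩,
  ⟨[5, 4, 3, 0, 2, 1, 3, 4, 5], 13, [45, 57, 46, 39, 37, 5], 55⟩,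
  ⟨[3, 4, 2, 3, 0, 2, 1, 3, 4, 5], 15, [37, 56, 47, 42, 41, 1], 65⟩,
  ⟨[5, 4, 2, 3, 0, 2, 1, 3, 4, 5], 15, [41, 56, 46, 43, 37, 2], 55⟩,
  ⟨[1, 3, 4, 2, 3, 0, 2, 1, 3, 4, 5], 17, [37, 56, 39, 42, 49, 0], 68⟩,
  ⟨[5, 3, 4, 2, 3, 0, 2, 1, 3, 4, 5], 17, [38, 56, 47, 42, 40, 1], 55⟩,
  ⟨[5, 1, 3, 4, 2, 3, 0, 2, 1, 3, 4, 5], 19, [38, 56, 39, 42, 48, 0], 55⟩,
  ⟨[4, 5, 3, 4, 2, 3, 0, 2, 1, 3, 4, 5], 20, [36, 56, 48, 42, 39, 1], 66⟩,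
  ⟨[4, 5, 1, 3, 4, 2, 3, 0, 2, 1, 3, 4, 5], 21, [36, 56, 40, 42, 47, 0], 66⟩,
  ⟨[3, 4, 5, 1, 3, 4, 2, 3, 0, 2, 1, 3, 4, 5], 23, [36, 56, 37, 43, 46, 0], 69⟩,
  ⟨[2, 3, 4, 5, 1, 3, 4, 2, 3, 0, 2, 1, 3, 4, 5], 24, [36, 57, 37, 39, 46, 0], 70⟩,
  ⟨[0, 2, 3, 4, 5, 1, 3, 4, 2, 3, 0, 2, 1, 3, 4, 5], 25, [36, 42, 37, 39, 46, 0], 71⟩]

/-- The chain of type E6. -/
def chainE6 : List (List Rep) := [repsE6L6, repsE6L5, repsE6L4, repsE6L3, repsE6L2, repsE6L1]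

theorem chainE6_ok : certFullE6.T.checkLevels chainE6 = true := by decide +kernel

theorem chainE6_len : chainE6.length = Cfsg.Lie.chevE6.rank := rfl

theorem chainE6_poly : checkPoly Cfsg.Lie.chevE6.rank chainE6 [2, 5, 6, 8, 9, 12] = true := by
  decide +kernel

theorem cardHE6 (F : Type*) [Field F] [Fintype F] :
    Nat.card (Cfsg.Lie.chevE6.diagonalSubgroup F) =
      ∏ i, (Fintype.card F - 1) / (Fintype.card F - 1).gcd (![1, 1, 1, 1, 1, 3] i) :=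
  certFullE6.card_H (l := 6) rfl
    (A := !![2, 0, -1, 0, 0, 0; 0, 2, 0, -1, 0, 0; -1, 0, 2, -1, 0, 0; 0, -1, -1, 2, -1, 0; 0, 0, 0, -1, 2, -1; 0, 0, 0, 0, -1, 2])
    (P := !![-1, 0, 0, 0, 0, 0; 0, -1, 0, 0, 0, 0; 1, -2, 0, -1, 0, 0; 2, -3, 0, -2, -1, 0; -2, 1, -1, 0, 0, 0; -5, 0, -4, -3, -2, -1])
    (P' := !![-1, 0, 0, 0, 0, 0; 0, -1, 0, 0, 0, 0; 2, -1, 0, 0, -1, 0; -1, 2, -1, 0, 0, 0; 0, -1, 2, -1, 0, 0; 0, 0, -1, 2, 4, -1])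
    (Q := !![0, 0, 0, 0, 1, -2; 0, 0, 0, 0, 2, -3; 1, 0, 0, 0, 2, -4; 0, 1, 0, 0, 4, -6; 0, 0, 1, 0, 4, -5; 0, 0, 0, 1, 4, -4])
    (Q' := !![-2, 0, 1, 0, 0, 0; 0, -2, 0, 1, 0, 0; 2, -3, 0, 0, 1, 0; 4, -4, 0, 0, 0, 1; -3, 2, 0, 0, 0, 0; -2, 1, 0, 0, 0, 0])
    (![1, 1, 1, 1, 1, 3]) (by decide +kernel) (by decide +kernel) (by decide +kernel)
    (by decide +kernel) (by decide +kernel) (by decide +kernel)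

end Cfsg.Agent.Lie.Chev
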