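/- Coset representatives and diagonalisation of the Cartan matrix of type E7. -/
import Cfsg.Agent.Lib.Lie.Chev.Order
import Cfsg.Agent.Lib.Lie.Chev.CertsFull

set_option autoImplicit false

namespace Cfsg.Agent.Lie.Chev

/-- Representatives at level 1 for type E7. -/
def repsE7L1 : List Rep := [
  ⟨[], 0, [93, 78, 73, 69, 66, 64, 63], 0⟩,
  ⟨[0], 0, [32, 78, 94, 69, 66, 64, 63], 93⟩]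

/-- Representatives at level 2 for type E7. -/
def repsE7L2 : List Rep := [
  ⟨[], 0, [93, 78, 73, 69, 66, 64, 63], 0⟩,
  ⟨[1], 0, [93, 47, 73, 79, 66, 64, 63], 78⟩]

/-- Representatives at level 3 for type E7. -/
def repsE7L3 : List Rep := [
  ⟨[], 0, [93, 78, 73, 69, 66, 64, 63], 0⟩,
  ⟨[2], 0, [94, 78, 52, 74, 66, 64, 63], 73⟩,
  ⟨[0, 2], 1, [73, 78, 31, 95, 66, 64, 63], 94⟩]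

/-- Representatives at level 4 for type E7. -/
def repsE7L4 : List Rep := [
  ⟨[], 0, [93, 78, 73, 69, 66, 64, 63], 0⟩,
  ⟨[3], 0, [93, 79, 74, 56, 70, 64, 63], 69⟩,
  ⟨[1, 3], 1, [93, 69, 83, 46, 80, 64, 63], 79⟩,
  ⟨[2, 3], 1, [94, 83, 69, 51, 75, 64, 63], 74⟩,
  ⟨[2, 1, 3], 2, [94, 74, 79, 42, 84, 64, 63], 74⟩,
  ⟨[0, 2, 3], 3, [73, 99, 69, 30, 96, 64, 63], 95⟩,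
  ⟨[0, 2, 1, 3], 4, [73, 95, 79, 26, 100, 64, 63], 95⟩,
  ⟨[3, 2, 1, 3], 4, [95, 73, 78, 42, 87, 64, 63], 83⟩,
  ⟨[3, 0, 2, 1, 3], 6, [74, 94, 78, 26, 103, 64, 63], 83⟩,
  ⟨[2, 3, 0, 2, 1, 3], 8, [69, 93, 78, 26, 109, 64, 63], 99⟩]

/-- Representatives at level 5 for type E7. -/
def repsE7L5 : List Rep := [
  ⟨[], 0, [93, 78, 73, 69, 66, 64, 63], 0⟩,
  ⟨[4], 0, [93, 78, 73, 70, 59, 67, 63], 66⟩,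
  ⟨[3, 4], 1, [93, 79, 74, 66, 55, 71, 63], 70⟩,
  ⟨[1, 3, 4], 2, [93, 69, 83, 66, 45, 81, 63], 80⟩,
  ⟨[2, 3, 4], 2, [94, 83, 69, 66, 50, 76, 63], 75⟩,
  ⟨[2, 1, 3, 4], 3, [94, 74, 79, 66, 41, 85, 63], 75⟩,
  ⟨[0, 2, 3, 4], 4, [73, 99, 69, 66, 29, 97, 63], 96⟩,
  ⟨[0, 2, 1, 3, 4], 5, [73, 95, 79, 66, 25, 101, 63], 96⟩,
  ⟨[3, 2, 1, 3, 4], 5, [95, 73, 78, 70, 38, 88, 63], 84⟩,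
  ⟨[3, 0, 2, 1, 3, 4], 7, [74, 94, 78, 70, 22, 104, 63], 84⟩,
  ⟨[4, 3, 2, 1, 3, 4], 8, [96, 73, 78, 69, 38, 90, 63], 87⟩,
  ⟨[2, 3, 0, 2, 1, 3, 4], 9, [69, 93, 78, 75, 16, 110, 63], 100⟩,
  ⟨[4, 3, 0, 2, 1, 3, 4], 9, [75, 94, 78, 69, 22, 106, 63], 87⟩,
  ⟨[4, 2, 3, 0, 2, 1, 3, 4], 11, [70, 93, 78, 74, 16, 112, 63], 87⟩,
  ⟨[3, 4, 2, 3, 0, 2, 1, 3, 4], 13, [66, 93, 79, 73, 16, 115, 63], 103⟩,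
  ⟨[1, 3, 4, 2, 3, 0, 2, 1, 3, 4], 14, [66, 93, 69, 73, 16, 119, 63], 109⟩]

/-- Representatives at level 6 for type E7. -/
def repsE7L6 : List Rep := [
  ⟨[], 0, [93, 78, 73, 69, 66, 64, 63], 0⟩,
  ⟨[5], 0, [93, 78, 73, 69, 67, 61, 65], 64⟩,
  ⟨[4, 5], 1, [93, 78, 73, 70, 64, 58, 68], 67⟩,
  ⟨[3, 4, 5], 2, [93, 79, 74, 66, 64, 54, 72], 71⟩,
  ⟨[1, 3, 4, 5], 3, [93, 69, 83, 66, 64, 44, 82], 81⟩,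
  ⟨[2, 3, 4, 5], 3, [94, 83, 69, 66, 64, 49, 77], 76⟩,
  ⟨[2, 1, 3, 4, 5], 4, [94, 74, 79, 66, 64, 40, 86], 76⟩,
  ⟨[0, 2, 3, 4, 5], 5, [73, 99, 69, 66, 64, 28, 98], 97⟩,
  ⟨[0, 2, 1, 3, 4, 5], 6, [73, 95, 79, 66, 64, 24, 102], 97⟩,
  ⟨[3, 2, 1, 3, 4, 5], 6, [95, 73, 78, 70, 64, 37, 89], 85⟩,
  ⟨[3, 0, 2, 1, 3, 4, 5], 8, [74, 94, 78, 70, 64, 21, 105], 85⟩,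
  ⟨[4, 3, 2, 1, 3, 4, 5], 9, [96, 73, 78, 69, 67, 35, 91], 88⟩,
  ⟨[2, 3, 0, 2, 1, 3, 4, 5], 10, [69, 93, 78, 75, 64, 15, 111], 101⟩,
  ⟨[4, 3, 0, 2, 1, 3, 4, 5], 10, [75, 94, 78, 69, 67, 19, 107], 88⟩,
  ⟨[5, 4, 3, 2, 1, 3, 4, 5], 11, [97, 73, 78, 69, 66, 35, 92], 90⟩,
  ⟨[4, 2, 3, 0, 2, 1, 3, 4, 5], 12, [70, 93, 78, 74, 67, 13, 113], 88⟩,
  ⟨[5, 4, 3, 0, 2, 1, 3, 4, 5], 13, [76, 94, 78, 69, 66, 19, 108], 90⟩,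
  ⟨[3, 4, 2, 3, 0, 2, 1, 3, 4, 5], 15, [66, 93, 79, 73, 71, 10, 116], 104⟩,
  ⟨[5, 4, 2, 3, 0, 2, 1, 3, 4, 5], 15, [71, 93, 78, 74, 66, 13, 114], 90⟩,
  ⟨[1, 3, 4, 2, 3, 0, 2, 1, 3, 4, 5], 17, [66, 93, 69, 73, 81, 6, 120], 110⟩,
  ⟨[5, 3, 4, 2, 3, 0, 2, 1, 3, 4, 5], 17, [67, 93, 79, 73, 70, 10, 117], 90⟩,
  ⟨[5, 1, 3, 4, 2, 3, 0, 2, 1, 3, 4, 5], 19, [67, 93, 69, 73, 80, 6, 121], 90⟩,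
  ⟨[4, 5, 3, 4, 2, 3, 0, 2, 1, 3, 4, 5], 20, [64, 93, 80, 73, 69, 10, 118], 106⟩,
  ⟨[4, 5, 1, 3, 4, 2, 3, 0, 2, 1, 3, 4, 5], 21, [64, 93, 70, 73, 79, 6, 122], 106⟩,
  ⟨[3, 4, 5, 1, 3, 4, 2, 3, 0, 2, 1, 3, 4, 5], 23, [64, 93, 66, 74, 78, 6, 123], 112⟩,
  ⟨[2, 3, 4, 5, 1, 3, 4, 2, 3, 0, 2, 1, 3, 4, 5], 24, [64, 94, 66, 69, 78, 6, 124], 115⟩,
  ⟨[0, 2, 3, 4, 5, 1, 3, 4, 2, 3, 0, 2, 1, 3, 4, 5], 25, [64, 73, 66, 69, 78, 6, 125], 119⟩]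

/-- Representatives at level 7 for type E7. -/
def repsE7L7 : List Rep := [
  ⟨[], 0, [93, 78, 73, 69, 66, 64, 63], 0⟩,
  ⟨[6], 0, [93, 78, 73, 69, 66, 65, 62], 63⟩,
  ⟨[5, 6], 1, [93, 78, 73, 69, 67, 63, 60], 65⟩,
  ⟨[4, 5, 6], 2, [93, 78, 73, 70, 64, 63, 57], 68⟩,
  ⟨[3, 4, 5, 6], 3, [93, 79, 74, 66, 64, 63, 53], 72⟩,
  ⟨[1, 3, 4, 5, 6], 4, [93, 69, 83, 66, 64, 63, 43], 82⟩,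
  ⟨[2, 3, 4, 5, 6], 4, [94, 83, 69, 66, 64, 63, 48], 77⟩,
  ⟨[2, 1, 3, 4, 5, 6], 5, [94, 74, 79, 66, 64, 63, 39], 77⟩,
  ⟨[0, 2, 3, 4, 5, 6], 6, [73, 99, 69, 66, 64, 63, 27], 98⟩,
  ⟨[0, 2, 1, 3, 4, 5, 6], 7, [73, 95, 79, 66, 64, 63, 23], 98⟩,
  ⟨[3, 2, 1, 3, 4, 5, 6], 7, [95, 73, 78, 70, 64, 63, 36], 86⟩,
  ⟨[3, 0, 2, 1, 3, 4, 5, 6], 9, [74, 94, 78, 70, 64, 63, 20], 86⟩,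
  ⟨[4, 3, 2, 1, 3, 4, 5, 6], 10, [96, 73, 78, 69, 67, 63, 34], 89⟩,
  ⟨[2, 3, 0, 2, 1, 3, 4, 5, 6], 11, [69, 93, 78, 75, 64, 63, 14], 102⟩,
  ⟨[4, 3, 0, 2, 1, 3, 4, 5, 6], 11, [75, 94, 78, 69, 67, 63, 18], 89⟩,
  ⟨[5, 4, 3, 2, 1, 3, 4, 5, 6], 12, [97, 73, 78, 69, 66, 65, 33], 91⟩,
  ⟨[4, 2, 3, 0, 2, 1, 3, 4, 5, 6], 13, [70, 93, 78, 74, 67, 63, 12], 89⟩,
  ⟨[5, 4, 3, 0, 2, 1, 3, 4, 5, 6], 14, [76, 94, 78, 69, 66, 65, 17], 91⟩,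
  ⟨[6, 5, 4, 3, 2, 1, 3, 4, 5, 6], 15, [98, 73, 78, 69, 66, 64, 33], 92⟩,
  ⟨[3, 4, 2, 3, 0, 2, 1, 3, 4, 5, 6], 16, [66, 93, 79, 73, 71, 63, 9], 105⟩,
  ⟨[5, 4, 2, 3, 0, 2, 1, 3, 4, 5, 6], 16, [71, 93, 78, 74, 66, 65, 11], 91⟩,
  ⟨[6, 5, 4, 3, 0, 2, 1, 3, 4, 5, 6], 17, [77, 94, 78, 69, 66, 64, 17], 92⟩,
  ⟨[1, 3, 4, 2, 3, 0, 2, 1, 3, 4, 5, 6], 19, [66, 93, 69, 73, 81, 63, 5], 111⟩,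
  ⟨[5, 3, 4, 2, 3, 0, 2, 1, 3, 4, 5, 6], 19, [67, 93, 79, 73, 70, 65, 8], 91⟩,
  ⟨[6, 5, 4, 2, 3, 0, 2, 1, 3, 4, 5, 6], 20, [72, 93, 78, 74, 66, 64, 11], 92⟩,
  ⟨[5, 1, 3, 4, 2, 3, 0, 2, 1, 3, 4, 5, 6], 22, [67, 93, 69, 73, 80, 65, 4], 91⟩,
  ⟨[4, 5, 3, 4, 2, 3, 0, 2, 1, 3, 4, 5, 6], 23, [64, 93, 80, 73, 69, 68, 7], 107⟩,
  ⟨[6, 5, 3, 4, 2, 3, 0, 2, 1, 3, 4, 5, 6], 23, [68, 93, 79, 73, 70, 64, 8], 92⟩,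
  ⟨[4, 5, 1, 3, 4, 2, 3, 0, 2, 1, 3, 4, 5, 6], 25, [64, 93, 70, 73, 79, 68, 3], 107⟩,
  ⟨[6, 5, 1, 3, 4, 2, 3, 0, 2, 1, 3, 4, 5, 6], 25, [68, 93, 69, 73, 80, 64, 4], 92⟩,
  ⟨[6, 4, 5, 3, 4, 2, 3, 0, 2, 1, 3, 4, 5, 6], 26, [65, 93, 80, 73, 69, 67, 7], 92⟩,
  ⟨[3, 4, 5, 1, 3, 4, 2, 3, 0, 2, 1, 3, 4, 5, 6], 28, [64, 93, 66, 74, 78, 72, 2], 113⟩,
  ⟨[6, 4, 5, 1, 3, 4, 2, 3, 0, 2, 1, 3, 4, 5, 6], 28, [65, 93, 70, 73, 79, 67, 3], 92⟩,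
  ⟨[5, 6, 4, 5, 3, 4, 2, 3, 0, 2, 1, 3, 4, 5, 6], 30, [63, 93, 81, 73, 69, 66, 7], 108⟩,
  ⟨[2, 3, 4, 5, 1, 3, 4, 2, 3, 0, 2, 1, 3, 4, 5, 6], 31, [64, 94, 66, 69, 78, 77, 1], 116⟩,
  ⟨[6, 3, 4, 5, 1, 3, 4, 2, 3, 0, 2, 1, 3, 4, 5, 6], 31, [65, 93, 66, 74, 78, 71, 2], 92⟩,
  ⟨[5, 6, 4, 5, 1, 3, 4, 2, 3, 0, 2, 1, 3, 4, 5, 6], 32, [63, 93, 71, 73, 79, 66, 3], 108⟩,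
  ⟨[0, 2, 3, 4, 5, 1, 3, 4, 2, 3, 0, 2, 1, 3, 4, 5, 6], 34, [64, 73, 66, 69, 78, 98, 0], 120⟩,
  ⟨[6, 2, 3, 4, 5, 1, 3, 4, 2, 3, 0, 2, 1, 3, 4, 5, 6], 34, [65, 94, 66, 69, 78, 76, 1], 92⟩,
  ⟨[5, 6, 3, 4, 5, 1, 3, 4, 2, 3, 0, 2, 1, 3, 4, 5, 6], 35, [63, 93, 67, 74, 78, 70, 2], 108⟩,
  ⟨[6, 0, 2, 3, 4, 5, 1, 3, 4, 2, 3, 0, 2, 1, 3, 4, 5, 6], 37, [65, 73, 66, 69, 78, 97, 0], 92⟩,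
  ⟨[5, 6, 2, 3, 4, 5, 1, 3, 4, 2, 3, 0, 2, 1, 3, 4, 5, 6], 38, [63, 94, 67, 69, 78, 75, 1], 108⟩,
  ⟨[4, 5, 6, 3, 4, 5, 1, 3, 4, 2, 3, 0, 2, 1, 3, 4, 5, 6], 39, [63, 93, 64, 75, 78, 69, 2], 114⟩,
  ⟨[5, 6, 0, 2, 3, 4, 5, 1, 3, 4, 2, 3, 0, 2, 1, 3, 4, 5, 6], 40, [63, 73, 67, 69, 78, 96, 0], 108⟩,
  ⟨[4, 5, 6, 2, 3, 4, 5, 1, 3, 4, 2, 3, 0, 2, 1, 3, 4, 5, 6], 41, [63, 94, 64, 70, 78, 74, 1], 114⟩,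
  ⟨[4, 5, 6, 0, 2, 3, 4, 5, 1, 3, 4, 2, 3, 0, 2, 1, 3, 4, 5, 6], 43, [63, 73, 64, 70, 78, 95, 0], 114⟩,
  ⟨[3, 4, 5, 6, 2, 3, 4, 5, 1, 3, 4, 2, 3, 0, 2, 1, 3, 4, 5, 6], 44, [63, 95, 64, 66, 79, 73, 1], 117⟩,
  ⟨[3, 4, 5, 6, 0, 2, 3, 4, 5, 1, 3, 4, 2, 3, 0, 2, 1, 3, 4, 5, 6], 45, [63, 74, 64, 66, 79, 94, 0], 117⟩,
  ⟨[1, 3, 4, 5, 6, 2, 3, 4, 5, 1, 3, 4, 2, 3, 0, 2, 1, 3, 4, 5, 6], 46, [63, 99, 64, 66, 69, 73, 1], 118⟩,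
  ⟨[1, 3, 4, 5, 6, 0, 2, 3, 4, 5, 1, 3, 4, 2, 3, 0, 2, 1, 3, 4, 5, 6], 47, [63, 83, 64, 66, 69, 94, 0], 118⟩,
  ⟨[2, 3, 4, 5, 6, 0, 2, 3, 4, 5, 1, 3, 4, 2, 3, 0, 2, 1, 3, 4, 5, 6], 47, [63, 69, 64, 66, 83, 93, 0], 121⟩,
  ⟨[2, 1, 3, 4, 5, 6, 0, 2, 3, 4, 5, 1, 3, 4, 2, 3, 0, 2, 1, 3, 4, 5, 6], 49, [63, 79, 64, 66, 74, 93, 0], 121⟩,
  ⟨[3, 2, 1, 3, 4, 5, 6, 0, 2, 3, 4, 5, 1, 3, 4, 2, 3, 0, 2, 1, 3, 4, 5, 6], 51, [63, 78, 64, 70, 73, 93, 0], 122⟩,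
  ⟨[4, 3, 2, 1, 3, 4, 5, 6, 0, 2, 3, 4, 5, 1, 3, 4, 2, 3, 0, 2, 1, 3, 4, 5, 6], 52, [63, 78, 67, 69, 73, 93, 0], 123⟩,
  ⟨[5, 4, 3, 2, 1, 3, 4, 5, 6, 0, 2, 3, 4, 5, 1, 3, 4, 2, 3, 0, 2, 1, 3, 4, 5, 6], 53, [65, 78, 66, 69, 73, 93, 0], 124⟩,
  ⟨[6, 5, 4, 3, 2, 1, 3, 4, 5, 6, 0, 2, 3, 4, 5, 1, 3, 4, 2, 3, 0, 2, 1, 3, 4, 5, 6], 54, [64, 78, 66, 69, 73, 93, 0], 125⟩]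

/-- The chain of type E7. -/
def chainE7 : List (List Rep) := [repsE7L7, repsE7L6, repsE7L5, repsE7L4, repsE7L3, repsE7L2, repsE7L1]

theorem chainE7_ok : certFullE7.T.checkLevels chainE7 = true := by decide +kernel

theorem chainE7_len : chainE7.length = Cfsg.Lie.chevE7.rank := rfl

theorem chainE7_poly : checkPoly Cfsg.Lie.chevE7.rank chainE7 [2, 6, 8, 10, 12, 14, 18] = true := by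
  decide +kernel

theorem cardHE7 (F : Type*) [Field F] [Fintype F] :
    Nat.card (Cfsg.Lie.chevE7.diagonalSubgroup F) =
      ∏ i, (Fintype.card F - 1) / (Fintype.card F - 1).gcd (![1, 1, 1, 1, 1, 1, 2] i) :=
  certFullE7.card_H (l := 7) rfl
    (A := !![2, 0, -1, 0, 0, 0, 0; 0, 2, 0, -1, 0, 0, 0; -1, 0, 2, -1, 0, 0, 0; 0, -1, -1, 2, -1, 0, 0; 0, 0, 0, -1, 2, -1, 0; 0, 0, 0, 0, -1, 2, -1; 0, 0, 0, 0, 0, -1, 2])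
    (P := !![-1, 0, 0, 0, 0, 0, 0; 0, -1, 0, 0, 0, 0, 0; 1, -2, 0, -1, 0, 0, 0; 2, -3, 0, -2, -1, 0, 0; 3, -4, 0, -3, -2, -1, 0; -2, 1, -1, 0, 0, 0, 0; -4, -1, -4, -4, -3, -2, -1])
    (P' := !![-1, 0, 0, 0, 0, 0, 0; 0, -1, 0, 0, 0, 0, 0; 2, -1, 0, 0, 0, -1, 0; -1, 2, -1, 0, 0, 0, 0; 0, -1, 2, -1, 0, 0, 0; 0, 0, -1, 2, -1, 0, 0; 0, 0, 0, -1, 2, 4, -1])
    (Q := !![0, 0, 0, 0, 0, 1, -2; 0, 0, 0, 0, 0, 2, -3; 1, 0, 0, 0, 0, 2, -4; 0, 1, 0, 0, 0, 4, -6; 0, 0, 1, 0, 0, 4, -5; 0, 0, 0, 1, 0, 4, -4; 0, 0, 0, 0, 1, 4, -3])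
    (Q' := !![-2, 0, 1, 0, 0, 0, 0; 0, -2, 0, 1, 0, 0, 0; 2, -3, 0, 0, 1, 0, 0; 4, -4, 0, 0, 0, 1, 0; 6, -5, 0, 0, 0, 0, 1; -3, 2, 0, 0, 0, 0, 0; -2, 1, 0, 0, 0, 0, 0])
    (![1, 1, 1, 1, 1, 1, 2]) (by decide +kernel) (by decide +kernel) (by decide +kernel)
    (by decide +kernel) (by decide +kernel) (by decide +kernel)

end Cfsg.Agent.Lie.Chev
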