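/- Coset representatives and diagonalisation of the Cartan matrix of type F4. -/
import Cfsg.Agent.Lib.Lie.Chev.Order
import Cfsg.Agent.Lib.Lie.Chev.CertsFull

set_option autoImplicit false

namespace Cfsg.Agent.Lie.Chev

/-- Representatives at level 1 for type F4. -/
def repsF4L1 : List Rep := [
  ⟨[], 0, [33, 27, 25, 24], 0⟩,
  ⟨[0], 0, [14, 34, 25, 24], 33⟩]

/-- Representatives at level 2 for type F4. -/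
def repsF4L2 : List Rep := [
  ⟨[], 0, [33, 27, 25, 24], 0⟩,
  ⟨[1], 0, [34, 20, 30, 24], 27⟩,
  ⟨[0, 1], 1, [27, 13, 41, 24], 34⟩]

/-- Representatives at level 3 for type F4. -/
def repsF4L3 : List Rep := [
  ⟨[], 0, [33, 27, 25, 24], 0⟩,
  ⟨[2], 0, [33, 28, 22, 26], 25⟩,
  ⟨[1, 2], 1, [34, 28, 17, 31], 28⟩,
  ⟨[0, 1, 2], 2, [27, 35, 6, 42], 35⟩,
  ⟨[2, 1, 2], 2, [35, 27, 17, 32], 30⟩,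
  ⟨[2, 0, 1, 2], 3, [28, 34, 6, 43], 30⟩,
  ⟨[1, 2, 0, 1, 2], 5, [28, 33, 6, 45], 37⟩,
  ⟨[2, 1, 2, 0, 1, 2], 6, [27, 33, 6, 46], 41⟩]

/-- Representatives at level 4 for type F4. -/
def repsF4L4 : List Rep := [
  ⟨[], 0, [33, 27, 25, 24], 0⟩,
  ⟨[3], 0, [33, 27, 26, 23], 24⟩,
  ⟨[2, 3], 1, [33, 28, 24, 21], 26⟩,
  ⟨[1, 2, 3], 2, [34, 28, 24, 16], 29⟩,
  ⟨[0, 1, 2, 3], 3, [27, 35, 24, 5], 36⟩,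
  ⟨[2, 1, 2, 3], 3, [35, 27, 26, 15], 31⟩,
  ⟨[2, 0, 1, 2, 3], 4, [28, 34, 26, 4], 31⟩,
  ⟨[3, 2, 1, 2, 3], 5, [36, 27, 25, 15], 32⟩,
  ⟨[1, 2, 0, 1, 2, 3], 6, [28, 33, 31, 2], 38⟩,
  ⟨[3, 2, 0, 1, 2, 3], 6, [29, 34, 25, 4], 32⟩,
  ⟨[2, 1, 2, 0, 1, 2, 3], 8, [27, 33, 32, 1], 42⟩,
  ⟨[3, 1, 2, 0, 1, 2, 3], 8, [29, 33, 30, 2], 32⟩,
  ⟨[3, 2, 1, 2, 0, 1, 2, 3], 10, [27, 33, 32, 0], 47⟩,
  ⟨[2, 3, 1, 2, 0, 1, 2, 3], 11, [29, 33, 30, 1], 47⟩,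
  ⟨[2, 3, 2, 1, 2, 0, 1, 2, 3], 12, [28, 33, 31, 0], 32⟩,
  ⟨[1, 2, 3, 1, 2, 0, 1, 2, 3], 13, [29, 34, 25, 1], 39⟩,
  ⟨[1, 2, 3, 2, 1, 2, 0, 1, 2, 3], 14, [28, 34, 26, 0], 39⟩,
  ⟨[0, 1, 2, 3, 1, 2, 0, 1, 2, 3], 15, [36, 27, 25, 1], 40⟩,
  ⟨[0, 1, 2, 3, 2, 1, 2, 0, 1, 2, 3], 16, [35, 27, 26, 0], 40⟩,
  ⟨[2, 1, 2, 3, 2, 1, 2, 0, 1, 2, 3], 16, [27, 35, 24, 0], 43⟩,
  ⟨[2, 0, 1, 2, 3, 2, 1, 2, 0, 1, 2, 3], 18, [34, 28, 24, 0], 43⟩,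
  ⟨[1, 2, 0, 1, 2, 3, 2, 1, 2, 0, 1, 2, 3], 20, [33, 28, 24, 0], 44⟩,
  ⟨[2, 1, 2, 0, 1, 2, 3, 2, 1, 2, 0, 1, 2, 3], 21, [33, 27, 26, 0], 45⟩,
  ⟨[3, 2, 1, 2, 0, 1, 2, 3, 2, 1, 2, 0, 1, 2, 3], 22, [33, 27, 25, 1], 46⟩]

/-- The chain of type F4. -/
def chainF4 : List (List Rep) := [repsF4L4, repsF4L3, repsF4L2, repsF4L1]

theorem chainF4_ok : certFullF4.T.checkLevels chainF4 = true := by decide +kernel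

theorem chainF4_len : chainF4.length = Cfsg.Lie.chevF4.rank := rfl

theorem chainF4_poly : checkPoly Cfsg.Lie.chevF4.rank chainF4 [2, 6, 8, 12] = true := by
  decide +kernel

theorem cardHF4 (F : Type*) [Field F] [Fintype F] :
    Nat.card (Cfsg.Lie.chevF4.diagonalSubgroup F) =
      ∏ i, (Fintype.card F - 1) / (Fintype.card F - 1).gcd (![1, 1, 1, 1] i) :=
  certFullF4.card_H (l := 4) rfl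
    (A := !![2, -1, 0, 0; -1, 2, -2, 0; 0, -1, 2, -1; 0, 0, -1, 2])
    (P := !![-1, 0, 0, 0; 1, 0, -1, 0; -2, -1, 0, 0; -2, -2, -2, -1])
    (P' := !![-1, 0, 0, 0; 2, 0, -1, 0; -1, -1, 0, 0; 0, 2, 2, -1])
    (Q := !![0, 0, 1, -2; 1, 0, 2, -4; 0, 0, 2, -3; 0, 1, 2, -2])
    (Q' := !![-2, 1, 0, 0; 2, 0, -2, 1; -3, 0, 2, 0; -2, 0, 1, 0])
    (![1, 1, 1, 1]) (by decide +kernel) (by decide +kernel) (by decide +kernel)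
    (by decide +kernel) (by decide +kernel) (by decide +kernel)

end Cfsg.Agent.Lie.Chev
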