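import Cfsg.Agent.Lib.Lie.Chev.OrderG2
import Cfsg.Agent.Lib.Lie.Chev.OrderB2
import Cfsg.Agent.Lib.Lie.Chev.OrderD4
import Cfsg.Agent.Lib.Lie.Chev.OrderF4
import Cfsg.Agent.Lib.Lie.Chev.OrderE6
import Cfsg.Agent.Lib.Lie.Chev.OrderE7
import Cfsg.Agent.Lib.Lie.Chev.OrderE8

/-! The torus orders of the tabulated types with their divisors. -/

set_option autoImplicit false

namespace Cfsg.Agent.Lie.Chev

/-- Multiply a quotient by the gcd back. -/
theorem gcd_mul_div (m d : ℕ) : Nat.gcd d m * (m / Nat.gcd m d) = m := by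
  rw [Nat.gcd_comm]; exact Nat.mul_div_cancel' (Nat.gcd_dvd_left m d)

variable (F : Type*) [Field F] [Fintype F]

theorem torusOrderG2 : 1 * Nat.card (Cfsg.Lie.chevG2.diagonalSubgroup F) =
    (Fintype.card F - 1) ^ Cfsg.Lie.chevG2.rank := by
  rw [cardHG2 F]
  show _ = (Fintype.card F - 1) ^ 2
  simp [Fin.prod_univ_succ]
  ring

theorem torusOrderB2 : Nat.gcd 2 (Fintype.card F - 1) * Nat.card (Cfsg.Lie.chevB2.diagonalSubgroup F) =
    (Fintype.card F - 1) ^ Cfsg.Lie.chevB2.rank := by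
  rw [cardHB2 F]
  show _ = (Fintype.card F - 1) ^ 2
  simp [Fin.prod_univ_succ]
  generalize Fintype.card F - 1 = m
  have h := gcd_mul_div m 2
  set g := m / Nat.gcd m 2
  linear_combination (m ^ 1) * h

theorem torusOrderD4 : Nat.gcd 2 (Fintype.card F - 1) ^ 2 * Nat.card (Cfsg.Lie.chevD4.diagonalSubgroup F) =
    (Fintype.card F - 1) ^ Cfsg.Lie.chevD4.rank := by
  rw [cardHD4 F]
  show _ = (Fintype.card F - 1) ^ 4
  simp [Fin.prod_univ_succ]
  generalize Fintype.card F - 1 = m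
  have h := gcd_mul_div m 2
  set g := m / Nat.gcd m 2
  linear_combination (m ^ 2 * Nat.gcd 2 m * g + m ^ 3) * h

theorem torusOrderF4 : 1 * Nat.card (Cfsg.Lie.chevF4.diagonalSubgroup F) =
    (Fintype.card F - 1) ^ Cfsg.Lie.chevF4.rank := by
  rw [cardHF4 F]
  show _ = (Fintype.card F - 1) ^ 4
  simp [Fin.prod_univ_succ]
  ring

theorem torusOrderE6 : Nat.gcd 3 (Fintype.card F - 1) * Nat.card (Cfsg.Lie.chevE6.diagonalSubgroup F) =
    (Fintype.card F - 1) ^ Cfsg.Lie.chevE6.rank := by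
  rw [cardHE6 F]
  show _ = (Fintype.card F - 1) ^ 6
  simp [Fin.prod_univ_succ]
  generalize Fintype.card F - 1 = m
  have h := gcd_mul_div m 3
  set g := m / Nat.gcd m 3
  linear_combination (m ^ 5) * h

theorem torusOrderE7 : Nat.gcd 2 (Fintype.card F - 1) * Nat.card (Cfsg.Lie.chevE7.diagonalSubgroup F) =
    (Fintype.card F - 1) ^ Cfsg.Lie.chevE7.rank := by
  rw [cardHE7 F]
  show _ = (Fintype.card F - 1) ^ 7
  simp [Fin.prod_univ_succ]
  generalize Fintype.card F - 1 = m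
  have h := gcd_mul_div m 2
  set g := m / Nat.gcd m 2
  linear_combination (m ^ 6) * h

theorem torusOrderE8 : 1 * Nat.card (Cfsg.Lie.chevE8.diagonalSubgroup F) =
    (Fintype.card F - 1) ^ Cfsg.Lie.chevE8.rank := by
  rw [cardHE8 F]
  show _ = (Fintype.card F - 1) ^ 8
  simp [Fin.prod_univ_succ]
  ring

end Cfsg.Agent.Lie.Chev
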