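import Cfsg.Agent.Lib.Lie.Chev.SteinbergInst
import Cfsg.Agent.Lib.Lie.Chev.OrderE6
import Cfsg.Agent.Lib.Lie.Chev.OrderE7
import Cfsg.Agent.Lib.Lie.Chev.OrderE8

/-! The centres of the Steinberg groups of types E₆ and E₇, detected in E₇ and E₈. -/

set_option autoImplicit false

namespace Cfsg.Agent.Lie.Chev

open Cfsg.Lie

theorem eq_of_intBeq : ∀ {x y : ℤ}, intBeq x y = true → x = y
  | .ofNat a, .ofNat b => fun h => by simp only [intBeq, Nat.beq_eq] at h; rw [h]
  | .negSucc a, .negSucc b => fun h => by simp only [intBeq, Nat.beq_eq] at h; rw [h]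
  | .ofNat _, .negSucc _ => fun h => by simp [intBeq] at h
  | .negSucc _, .ofNat _ => fun h => by simp [intBeq] at h

/-- Equality of commutator terms. -/
def termsBeq : List (ℕ × ℤ × ℕ × ℕ) → List (ℕ × ℤ × ℕ × ℕ) → Bool
  | [], [] => true
  | (a, C, i, j) :: L, (b, C', i', j') :: M =>
      Nat.beq a b && intBeq C C' && Nat.beq i i' && Nat.beq j j' && termsBeq L M
  | _, _ => false

theorem termsBeq_iff : ∀ {L M : List (ℕ × ℤ × ℕ × ℕ)}, termsBeq L M = true → L = M
  | [], [] => fun _ => rfl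
  | (a, C, i, j) :: L, (b, C', i', j') :: M => fun h => by
      simp only [termsBeq, Bool.and_eq_true, Nat.beq_eq] at h
      obtain ⟨⟨⟨⟨rfl, hC⟩, rfl⟩, rfl⟩, hL⟩ := h
      rw [eq_of_intBeq hC, termsBeq_iff hL]
  | [], _ :: _ => fun h => by simp [termsBeq] at h
  | _ :: _, [] => fun h => by simp [termsBeq] at h

namespace Tables

variable (S T : Tables) (io : List ℕ)

/-- An embedding of root systems preserving the structure constants. -/
def checkEmb : Bool :=
  Nat.ble S.l T.l &&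
  (List.range S.l).all (fun i => Nat.beq (io.getD (S.simple i) 0) (T.simple i)) &&
  (List.range S.n).all fun r =>
    let a := io.getD r 0
    Nat.blt a T.n && Nat.beq (io.getD (S.neg r) 0) (T.neg a) &&
    (List.range S.n).all fun s =>
      Bool.or (Bool.or (Nat.beq s r) (Nat.beq s (S.neg r)))
        (let b := io.getD s 0
         (!(Nat.beq b a)) && (!(Nat.beq b (T.neg a))) &&
          termsBeq (T.commTerms a b) ((S.commTerms r s).map fun x => (io.getD x.1 0, x.2)))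

end Tables

section Embed

variable {D E : ChevalleyDatum} (c : CertFull D) (d : CertFull E) {io : List ℕ} (F : Type*) [Field F]

/-- The root element of a symbol in the larger group. -/
def embVal (io : List ℕ) (x : Fin D.nroots × F) : GL E.Idx F := d.xg (io.getD x.1 0) x.2

include c in
theorem exists_embHom (hchk : c.T.checkEmb d.T io = true) :
    ∃ ψ : D.SteinbergGroup F →* GL E.Idx F, ∀ i < D.rank, i < E.rank ∧ ∀ t : F,
      ψ ((c.stGroupData F).h (D.simple i) t) = d.hg (E.simple i) t := by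
  simp only [Tables.checkEmb, List.all_eq_true, List.mem_range, Bool.and_eq_true, Bool.or_eq_true,
    Nat.beq_eq, Nat.ble_eq, Nat.blt_eq, Bool.not_eq_true'] at hchk
  obtain ⟨⟨hl, hsimple⟩, hroot⟩ := hchk
  have h1 : ∀ r < D.nroots, io.getD r 0 < E.nroots ∧
      io.getD (D.neg r) 0 = E.neg (io.getD r 0) := by
    intro r hr
    obtain ⟨⟨ha, hn⟩, -⟩ := hroot r (c.nroots_eq ▸ hr)
    rw [← d.nroots_eq] at ha
    exact ⟨ha, by rw [c.neg_eq hr, d.neg_eq ha, hn]⟩
  have hX : ∀ r < D.nroots, ∀ t : F,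
      FreeGroup.lift (embVal d F io) (D.stX r t) = d.xg (io.getD r 0) t := by
    intro r hr t
    rw [ChevalleyDatum.stX, dif_pos hr, FreeGroup.lift_apply_of]
    rfl
  have hH : ∀ r < D.nroots, ∀ t : F,
      FreeGroup.lift (embVal d F io) (D.stH r t) = d.hg (io.getD r 0) t := by
    intro r hr t
    rw [ChevalleyDatum.stH, ChevalleyDatum.stWord, ChevalleyDatum.hWord, ChevalleyDatum.nWord,
      ChevalleyDatum.nWord]
    simp only [List.cons_append, List.nil_append, List.map_cons, List.map_nil, List.prod_cons,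
      List.prod_nil, map_mul, map_one, mul_one, hX r hr, hX _ (c.neg_lt hr), (h1 r hr).2,
      Cert.hg, Cert.ng, mul_assoc]
  have hval : ∀ g ∈ D.steinbergRels F, FreeGroup.lift (embVal d F io) g = 1 := by
    rintro g ((⟨r, t, u, hr, rfl⟩ | ⟨r, s, t, u, hr, hs, e1, e2, rfl⟩) |
      ⟨r, t, u, hr, ht, hu, rfl⟩)
    · simp only [map_mul, map_inv, hX r hr, ← d.xg_add, mul_inv_cancel]
    · obtain ⟨-, hpair⟩ := hroot r (c.nroots_eq ▸ hr)
      obtain ⟨ha, hna⟩ := h1 r hr
      obtain ⟨hb, -⟩ := h1 s hs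
      have hh := hpair s (c.nroots_eq ▸ hs)
      rw [← c.neg_eq hr, ← d.neg_eq ha] at hh
      obtain ⟨⟨b1, b2⟩, b3⟩ := hh.resolve_left (by rintro (e | e); exacts [e1 e, e2 e])
      have b1' : io.getD s 0 ≠ io.getD r 0 := Nat.ne_of_beq_eq_false b1
      have b2' : io.getD s 0 ≠ E.neg (io.getD r 0) := Nat.ne_of_beq_eq_false b2
      have b3' := termsBeq_iff b3
      have hw : FreeGroup.lift (embVal d F io) (D.stWord (D.commWord F r s t u)) =
          ((d.T.commTerms (io.getD r 0) (io.getD s 0)).map fun x =>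
            d.xg x.1 ((x.2.1 : F) * (-t) ^ x.2.2.1 * u ^ x.2.2.2)).prod := by
        rw [b3', ChevalleyDatum.stWord, ChevalleyDatum.commWord, c.commTerms_eq hr hs,
          map_list_prod, List.map_map, List.map_map, List.map_map]
        exact congrArg List.prod (List.map_congr_left fun x hx =>
          hX _ (c.mem_commTerms hr hs hx).1 _)
      simp only [map_mul, map_inv, hX r hr, hX s hs, hw]
      rw [mul_inv_eq_one, mul_assoc _ (d.xg (io.getD s 0) u), d.xg_comm ha hb b1' b2']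
      group
    · have ha := (h1 r hr).1
      simp only [map_mul, map_inv, hH r hr]
      have e : d.hg (io.getD r 0) ((Units.mk0 t ht : Fˣ) : F) *
          d.hg (io.getD r 0) ((Units.mk0 u hu : Fˣ) : F) =
          d.hg (io.getD r 0) ((Units.mk0 t ht * Units.mk0 u hu : Fˣ) : F) := by
        rw [d.hg_eq ha, d.hg_eq ha, d.hg_eq ha, ← map_mul]
        refine dg_ext E F fun s _ => ?_
        simp only [Pi.mul_apply, CertFull.pairChar, mul_zpow]
      simp only [Units.val_mul, Units.val_mk0] at e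
      rw [mul_inv_eq_one, e]
  refine ⟨PresentedGroup.toGroup hval, fun i hi => ?_⟩
  have hiE : i < E.rank := by rw [c.rank_eq] at hi; rw [d.rank_eq]; omega
  refine ⟨hiE, fun t => ?_⟩
  rw [c.stGroup_h]
  refine (hH _ (c.simple_lt hi) t).trans ?_
  rw [c.simple_eq hi, d.simple_eq hiE, hsimple i (c.rank_eq ▸ hi)]

include c d in
/-- The order of the centre. -/
theorem card_center_steinberg [Fintype F] (hN : checkNbr c.T = true)
    (hchk : c.T.checkEmb d.T io = true) {l m : ℕ} (hl : D.rank = l) (hm : E.rank = m)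
    {P P' Q Q' : Matrix (Fin l) (Fin l) ℤ} (e : Fin l → ℕ) (hP : P * P' = 1) (hP' : P' * P = 1)
    (hQ : Q * Q' = 1) (hQ' : Q' * Q = 1)
    (hA : P * Matrix.of (fun i j : Fin l => c.T.cartan i (c.T.simple j)) * Q =
      Matrix.diagonal (fun i => (e i : ℤ)))
    {B : Matrix (Fin m) (Fin l) ℤ}
    (hB : Matrix.of (fun (i : Fin l) (j : Fin m) => d.T.cartan i (d.T.simple j)) * B = 1) :
    Nat.card (Subgroup.center (D.SteinbergGroup F)) * (∏ i, (Fintype.card F - 1) /
      (Fintype.card F - 1).gcd (e i)) = (Fintype.card F - 1) ^ l := by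
  set A := c.stGroupData F
  obtain ⟨ψ, hψ⟩ := exists_embHom c d F hchk
  obtain ⟨Φ, hsingle, hΦ, hrange⟩ := A.exists_torusHom hN (c.stGroup_R3 F) hl
  set M := Matrix.of (fun i j : Fin l => c.T.cartan i (c.T.simple j))
  have hker : ∀ z : Fin l → Fˣ, Φ z ∈ A.θ.ker ↔ z ∈ (mpow (G := Fˣ) M).ker := by
    intro z
    rw [MonoidHom.mem_ker, MonoidHom.mem_ker, hΦ, Cert.torus_apply, ← map_one (dg D F),
      dg_eq_iff]
    have key : ∀ j : Fin l, c.tchar (fun i => if h : i < l then z ⟨i, h⟩ else 1) (D.simple j) =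
        mpow M z j := by
      intro j
      have hj : (j : ℕ) < D.rank := hl ▸ j.2
      rw [Cert.tchar, c.simple_eq hj, hl, Finset.prod_range]
      show _ = ∏ i, z i ^ M i j
      refine Finset.prod_congr rfl fun i _ => ?_
      simp [M]
    constructor
    · intro h
      funext j
      rw [← key, h _ (c.simple_lt (hl ▸ j.2))]
      rfl
    · intro h s hs
      rw [c.tchar_eq_prod _ hs]
      refine Finset.prod_eq_one fun j hj => ?_
      rw [Finset.mem_range, hl] at hj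
      rw [key ⟨j, hj⟩, h, Pi.one_apply, _root_.one_zpow]
  -- the map is injective, seen in the larger group
  let pad : (Fin l → Fˣ) →* (ℕ → Fˣ) :=
    MonoidHom.mk' (fun z i => if h : i < l then z ⟨i, h⟩ else 1) fun z w => by
      funext i; by_cases h : i < l <;> simp [h]
  have hψΦ : ψ.comp Φ = d.torus.comp pad := by
    refine MonoidHom.pi_ext fun i a => ?_
    obtain ⟨hiE, hi'⟩ := hψ i (hl ▸ i.2)
    rw [MonoidHom.comp_apply, MonoidHom.comp_apply, hsingle, hi',
      d.hg_eq_torus (d.simple_lt hiE), Cert.torus_apply, Cert.torus_apply]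
    refine dg_ext E F fun u _ => ?_
    rw [Cert.tchar, Cert.tchar]
    refine Finset.prod_congr rfl fun j hj => ?_
    congr 1
    rw [Finset.mem_range] at hj
    show a ^ d.T.coroot (E.simple i) j =
      if h : j < l then (Pi.mulSingle i a : Fin l → Fˣ) ⟨j, h⟩ else 1
    rw [(d.linear_node hiE).2 j hj]
    by_cases hjl : j < l
    · rw [dif_pos hjl, Pi.mulSingle_apply]
      by_cases e : (i : ℕ) = j
      · subst e; simp
      · rw [if_neg (fun h : (⟨j, hjl⟩ : Fin l) = i => e (congrArg Fin.val h).symm)]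
        simp [Ne.symm e, e]
    · rw [dif_neg hjl]
      have e : (i : ℕ) ≠ j := fun e => hjl (e ▸ i.2)
      simp [Ne.symm e, e]
  have hinj : Function.Injective Φ := by
    refine (injective_iff_map_eq_one Φ).2 fun z hz => ?_
    have h : d.torus (pad z) = 1 := by
      rw [← MonoidHom.comp_apply, ← hψΦ, MonoidHom.comp_apply, hz, map_one]
    rw [Cert.torus_apply, ← map_one (dg E F), dg_eq_iff] at h
    have hlm : l ≤ m := by
      simp only [Tables.checkEmb, Bool.and_eq_true, Nat.ble_eq] at hchk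
      rw [← hl, ← hm, c.rank_eq, d.rank_eq]
      exact hchk.1.1
    have hj : ∀ j : Fin m, ∏ i : Fin l, z i ^ d.T.cartan i (d.T.simple j) = 1 := by
      intro j
      have hjE : (j : ℕ) < E.rank := hm ▸ j.2
      have h3 := h _ (d.simple_lt hjE)
      rw [Cert.tchar, d.simple_eq hjE] at h3
      rw [← Finset.prod_subset (s₁ := Finset.range l) (Finset.range_mono (by omega)) fun i _ hi => ?_,
        Finset.prod_range] at h3
      · refine Eq.trans (Finset.prod_congr rfl fun i _ => ?_) h3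
        simp [pad]
      · rw [Finset.mem_range] at hi
        simp [pad, hi]
    funext k
    have hk : ∀ i : Fin l,
        ∑ j : Fin m, d.T.cartan i (d.T.simple j) * B j k = if i = k then 1 else 0 := by
      intro i
      have := congrFun (congrFun hB i) k
      rwa [Matrix.mul_apply, Matrix.one_apply] at this
    calc z k = ∏ i : Fin l, z i ^ (∑ j : Fin m, d.T.cartan i (d.T.simple j) * B j k) := by
          rw [Finset.prod_eq_single k]
          · rw [hk, if_pos rfl, zpow_one]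
          · intro i _ hi; rw [hk, if_neg hi, zpow_zero]
          · simp
      _ = ∏ j : Fin m, (∏ i : Fin l, z i ^ d.T.cartan i (d.T.simple j)) ^ B j k := by
          simp only [← zpow_sum_eq, _root_.zpow_mul, ← Finset.prod_zpow]
          rw [Finset.prod_comm]
      _ = 1 := Finset.prod_eq_one fun j _ => by rw [hj, _root_.one_zpow]
  let E' : (mpow (G := Fˣ) M).ker ≃ Subgroup.center (D.SteinbergGroup F) :=
    Equiv.ofBijective (fun z => ⟨Φ z.1, A.ker_eq_center hN ▸ (hker z.1).2 z.2⟩)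
      ⟨fun z w h => Subtype.ext (hinj (congrArg Subtype.val h)), fun g => by
        have hg : (g : D.SteinbergGroup F) ∈ A.θ.ker := by rw [A.ker_eq_center hN]; exact g.2
        obtain ⟨z, hz⟩ := hrange (A.ker_le hN hg).1
        exact ⟨⟨z, (hker z).1 (hz ▸ hg)⟩, Subtype.ext hz⟩⟩
  rw [← Nat.card_congr E']
  have hG : Nat.card Fˣ = Fintype.card F - 1 := by
    rw [Nat.card_units, Nat.card_eq_fintype_card]
  have h := Subgroup.card_eq_card_quotient_mul_card_subgroup (mpow (G := Fˣ) M).ker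
  rw [Nat.card_congr (QuotientGroup.quotientKerEquivRange _).toEquiv,
    card_range_mpow (G := Fˣ) e hP hP' hQ hQ' hA, Nat.card_pi, Finset.prod_const,
    Finset.card_fin, hG] at h
  rw [mul_comm, ← h]

end Embed

/-- The roots of E₆ inside E₇. -/
def ioE67 : List ℕ := [6, 10, 13, 15, 16, 19, 21, 22, 24, 25, 26, 28, 29, 30, 31, 32, 35, 37, 38, 40, 41, 42, 44, 45, 46, 47, 49, 50, 51, 52, 54, 55, 56, 58, 59, 61, 64, 66, 67, 69, 70, 71, 73, 74, 75, 76, 78, 79, 80, 81, 83, 84, 85, 87, 88, 90, 93, 94, 95, 96, 97, 99, 100, 101, 103, 104, 106, 109, 110, 112, 115, 119]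

/-- The roots of E₇ inside E₈. -/
def ioE78 : List ℕ := [13, 20, 25, 29, 32, 34, 35, 39, 42, 44, 45, 48, 50, 51, 53, 54, 55, 58, 60, 61, 63, 64, 65, 67, 68, 69, 70, 72, 73, 74, 75, 76, 77, 80, 82, 83, 85, 86, 87, 89, 90, 91, 92, 94, 95, 96, 97, 98, 100, 101, 102, 103, 104, 106, 107, 108, 109, 111, 112, 113, 115, 116, 118, 121, 123, 124, 126, 127, 128, 130, 131, 132, 133, 135, 136, 137, 138, 139, 141, 142, 143, 144, 145, 147, 148, 149, 150, 152, 153, 154, 156, 157, 159, 162, 163, 164, 165, 166, 167, 169, 170, 171, 172, 174, 175, 176, 178, 179, 181, 184, 185, 186, 188, 189, 191, 194, 195, 197, 200, 204, 205, 207, 210, 214, 219, 226]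

theorem embE67 : certFullE6.T.checkEmb certFullE7.T ioE67 = true := by decide +kernel

theorem embE78 : certFullE7.T.checkEmb certFullE8.T ioE78 = true := by decide +kernel

theorem card_center_E6 (F : Type*) [Field F] [Fintype F] :
    Nat.card (Subgroup.center (Cfsg.Lie.chevE6.SteinbergGroup F)) =
      Nat.gcd 3 (Fintype.card F - 1) := by
  have h := card_center_steinberg certFullE6 certFullE7 F (by decide +kernel) embE67 (l := 6)
    (m := 7) rfl rfl (P := !![-1, 0, 0, 0, 0, 0; 0, -1, 0, 0, 0, 0; 1, -2, 0, -1, 0, 0; 2, -3, 0, -2, -1, 0; -2, 1, -1, 0, 0, 0; -5, 0, -4, -3, -2, -1]) (P' := !![-1, 0, 0, 0, 0, 0; 0, -1, 0, 0, 0, 0; 2, -1, 0, 0, -1, 0; -1, 2, -1, 0, 0, 0; 0, -1, 2, -1, 0, 0; 0, 0, -1, 2, 4, -1]) (Q := !![0, 0, 0, 0, 1, -2; 0, 0, 0, 0, 2, -3; 1, 0, 0, 0, 2, -4; 0, 1, 0, 0, 4, -6; 0, 0, 1, 0, 4, -5; 0, 0, 0, 1, 4, -4]) (Q' := !![-2, 0, 1, 0, 0, 0; 0, -2, 0, 1, 0, 0; 2, -3, 0, 0, 1, 0; 4, -4, 0, 0, 0, 1; -3, 2, 0, 0, 0, 0; -2,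 1, 0, 0, 0, 0])
    ![1, 1, 1, 1, 1, 3] (by decide +kernel) (by decide +kernel) (by decide +kernel)
    (by decide +kernel) (by decide +kernel) (B := !![-2, 1, -1, 0, 0, 0; -4, 2, -2, 0, 0, 0; -5, 2, -2, 0, 0, 0; -8, 3, -4, 0, 0, 0; -7, 2, -4, -1, 0, 0; -6, 1, -4, -2, -1, 0; -5, 0, -4, -3, -2, -1]) (by decide +kernel)
  set n := Fintype.card F - 1
  have hn : 0 < n := Nat.sub_pos_of_lt Fintype.one_lt_card
  simp only [Fin.prod_univ_succ, Fin.prod_univ_zero, Matrix.cons_val_zero, Matrix.cons_val_succ,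
    Nat.gcd_one_right, Nat.div_one, mul_one] at h
  have h2 := Nat.div_mul_cancel (Nat.gcd_dvd_left n 3)
  rw [Nat.gcd_comm 3 n]
  refine Nat.eq_of_mul_eq_mul_right (show 0 < n * (n * (n * (n * (n * (n / n.gcd 3))))) from ?_)
    (h.trans ?_)
  · have : 0 < n / n.gcd 3 := Nat.div_pos (Nat.gcd_le_left 3 hn) (Nat.gcd_pos_of_pos_left 3 hn)
    positivity
  · calc n ^ 6 = n * (n * (n * (n * (n * (n / n.gcd 3 * n.gcd 3))))) := by rw [h2]; ring
      _ = _ := by ring

theorem card_center_E7 (F : Type*) [Field F] [Fintype F] :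
    Nat.card (Subgroup.center (Cfsg.Lie.chevE7.SteinbergGroup F)) =
      Nat.gcd 2 (Fintype.card F - 1) := by
  have h := card_center_steinberg certFullE7 certFullE8 F (by decide +kernel) embE78 (l := 7)
    (m := 8) rfl rfl (P := !![-1, 0, 0, 0, 0, 0, 0; 0, -1, 0, 0, 0, 0, 0; 1, -2, 0, -1, 0, 0, 0; 2, -3, 0, -2, -1, 0, 0; 3, -4, 0, -3, -2, -1, 0; -2, 1, -1, 0, 0, 0, 0; -4, -1, -4, -4, -3, -2, -1]) (P' := !![-1, 0, 0, 0, 0, 0, 0; 0, -1, 0, 0, 0, 0, 0; 2, -1, 0, 0, 0, -1, 0; -1, 2, -1, 0, 0, 0, 0; 0, -1, 2, -1, 0, 0, 0; 0, 0, -1, 2, -1, 0, 0; 0, 0, 0, -1, 2, 4, -1]) (Q := !![0, 0, 0, 0, 0, 1, -2; 0, 0, 0, 0, 0, 2, -3; 1, 0, 0, 0, 0, 2, -4; 0, 1, 0, 0, 0, 4, -6; 0, 0, 1, 0, 0, 4, -5; 0, 0, 0, 1, 0, 4, -4; 0, 0, 0, 0, 1, 4, -3]) (Q' := !![-2, 0, 1, 0, 0, 0, 0; 0, -2, 0, 1, 0, 0, 0; 2, -3, 0, 0, 1, 0, 0; 4, -4, 0, 0, 0, 1, 0; 6, -5, 0, 0, 0, 0, 1; -3, 2, 0, 0, 0, 0, 0; -2, 1, 0, 0, 0, 0, 0])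
    ![1, 1, 1, 1, 1, 1, 2] (by decide +kernel) (by decide +kernel) (by decide +kernel)
    (by decide +kernel) (by decide +kernel) (B := !![-2, 1, -1, 0, 0, 0, 0; -4, 2, -2, 0, 0, 0, 0; -5, 2, -2, 0, 0, 0, 0; -8, 3, -4, 0, 0, 0, 0; -7, 2, -4, -1, 0, 0, 0; -6, 1, -4, -2, -1, 0, 0; -5, 0, -4, -3, -2, -1, 0; -4, -1, -4, -4, -3, -2, -1]) (by decide +kernel)
  set n := Fintype.card F - 1
  have hn : 0 < n := Nat.sub_pos_of_lt Fintype.one_lt_card
  simp only [Fin.prod_univ_succ, Fin.prod_univ_zero, Matrix.cons_val_zero, Matrix.cons_val_succ,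
    Nat.gcd_one_right, Nat.div_one, mul_one] at h
  have h2 := Nat.div_mul_cancel (Nat.gcd_dvd_left n 2)
  rw [Nat.gcd_comm 2 n]
  refine Nat.eq_of_mul_eq_mul_right
    (show 0 < n * (n * (n * (n * (n * (n * (n / n.gcd 2)))))) from ?_) (h.trans ?_)
  · have : 0 < n / n.gcd 2 := Nat.div_pos (Nat.gcd_le_left 2 hn) (Nat.gcd_pos_of_pos_left 2 hn)
    positivity
  · calc n ^ 7 = n * (n * (n * (n * (n * (n * (n / n.gcd 2 * n.gcd 2)))))) := by rw [h2]; ring
      _ = _ := by ring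

end Cfsg.Agent.Lie.Chev
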