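import Cfsg.Agent.Lib.Lie.Chev.SteinbergInst

/-! Central extensions of groups with Steinberg's relations: the relations lift. -/

set_option autoImplicit false

namespace Cfsg.Agent.Lie.Chev

open Cfsg.Lie
open scoped commutatorElement

namespace Tables

variable (T : Tables)

/-- The root commutes with the root elements of `simple q`. -/
def commutesWith (q y : ℕ) : Bool :=
  !(Nat.beq y (T.simple q)) && !(Nat.beq y (T.neg (T.simple q))) &&
    (T.commTerms (T.simple q) y).isEmpty

/-- An arbitrary scalar on a fundamental root. -/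
def fullScalar (q : ℕ) : Bool :=
  (List.range T.l).any fun i =>
    (T.cartan i (T.simple q) == -1) ||
      (List.range T.l).any fun j => T.cartan i (T.simple q) + T.cartan j (T.simple q) == -1

/-- A commutator formula expressing a fundamental root through commuting ones. -/
def innerPair (q : ℕ) : Bool :=
  (List.range T.n).any fun a => (List.range T.n).any fun b =>
    !(Nat.beq b a) && !(Nat.beq b (T.neg a)) &&
    (T.commutesWith q a && T.commutesWith q b &&
      ((T.commTerms a b).any fun x =>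
        Nat.beq x.1 (T.simple q) && (x.2.1 * x.2.1 == 1) && Nat.beq x.2.2.2 1) &&
      decide ((T.commTerms a b).map Prod.fst).Nodup &&
      ((T.commTerms a b).all fun x => Nat.beq x.1 (T.simple q) || T.commutesWith q x.1))

/-- A torus element fixing `s` and moving a fundamental root. -/
def separates (q s : ℕ) : Bool :=
  (List.range T.l).any fun i => (List.range T.l).any fun j =>
    [(1 : ℤ), -1, 2, -2, 3, -3, 0].any fun e => [(0 : ℤ), 1, -1, 2, -2, 3, -3].any fun f =>
      (e * T.cartan i s + f * T.cartan j s == 0) &&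
        Nat.ble 1 (e * T.cartan i (T.simple q) + f * T.cartan j (T.simple q)).natAbs &&
        Nat.ble (e * T.cartan i (T.simple q) + f * T.cartan j (T.simple q)).natAbs 3

end Tables

/-- The table facts for lifting the relations. -/
def checkUniv (T : Tables) : Bool :=
  T.allNodes fun q =>
    (T.allRoots fun s => Nat.beq s (T.simple q) || Nat.beq s (T.neg (T.simple q)) ||
      T.separates q s) &&
    (T.fullScalar q || T.innerPair q)

/-- A unit with `a ^ d ≠ 1`. -/
theorem exists_zpow_ne_one {F : Type*} [Field F] (hF : ∃ s : Finset F, 4 < s.card) {d : ℤ}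
    (h1 : 1 ≤ d.natAbs) (h3 : d.natAbs ≤ 3) : ∃ a : Fˣ, ((a ^ d : Fˣ) : F) ≠ 1 := by
  classical
  obtain ⟨s, hs⟩ := hF
  have hcard : (Polynomial.nthRootsFinset d.natAbs (1 : F)).card ≤ d.natAbs := by
    rw [Polynomial.nthRootsFinset_def]
    exact (Multiset.toFinset_card_le _).trans (Polynomial.card_nthRoots _ _)
  obtain ⟨x, hx⟩ : ∃ x, x ∈ (s.erase 0) \ Polynomial.nthRootsFinset d.natAbs (1 : F) := by
    refine Finset.card_pos.1 ?_
    have := Finset.le_card_sdiff (Polynomial.nthRootsFinset d.natAbs (1 : F)) (s.erase 0)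
    have := Finset.pred_card_le_card_erase (a := (0 : F)) (s := s)
    omega
  rw [Finset.mem_sdiff, Finset.mem_erase, Polynomial.mem_nthRootsFinset (by omega)] at hx
  refine ⟨Units.mk0 x hx.1.1, fun e => hx.2 ?_⟩
  rw [Units.val_zpow_eq_zpow_val, Units.val_mk0] at e
  rcases Int.natAbs_eq d with h | h <;> rw [h] at e
  · exact_mod_cast e
  · rwa [_root_.zpow_neg, inv_eq_one, zpow_natCast] at e

/-- A scalar `k` with `k ≠ 0, 1` and `k (1 - k) ≠ 1`. -/
theorem exists_good_scalar {F : Type*} [Field F] (hF : ∃ s : Finset F, 4 < s.card) :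
    ∃ k : F, k ≠ 0 ∧ 1 - k ≠ 0 ∧ k * (1 - k) ≠ 1 := by
  classical
  obtain ⟨s, hs⟩ := hF
  by_contra hne
  push Not at hne
  have hbad : ∀ k ∈ (s.erase 0).erase 1, k * (1 - k) = 1 := fun k hk => by
    simp only [Finset.mem_erase] at hk
    exact hne k hk.2.1 (sub_ne_zero.2 (Ne.symm hk.1))
  have : ((s.erase 0).erase 1).card ≤ 2 := by
    by_contra h
    rw [not_le, Finset.two_lt_card] at h
    obtain ⟨a, ha, b, hb, c, hc, hab, hac, hbc⟩ := h
    have e1 : (a - b) * (1 - a - b) = 0 := by linear_combination hbad a ha - hbad b hb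
    have e2 : (a - c) * (1 - a - c) = 0 := by linear_combination hbad a ha - hbad c hc
    have f1 := (mul_eq_zero.1 e1).resolve_left (sub_ne_zero.2 hab)
    have f2 := (mul_eq_zero.1 e2).resolve_left (sub_ne_zero.2 hac)
    exact hbc (by linear_combination f2 - f1)
  have := Finset.pred_card_le_card_erase (a := (0 : F)) (s := s)
  have := Finset.pred_card_le_card_erase (a := (1 : F)) (s := s.erase 0)
  omega

/-- A homomorphism with central values kills a perfect group. -/
theorem central_hom_eq_one {X E : Type*} [Group X] [Group E] (φ : X →* E)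
    (hφ : ∀ x, φ x ∈ Subgroup.center E) {x : X} (hx : x ∈ commutator X) : φ x = 1 := by
  suffices commutator X ≤ φ.ker from MonoidHom.mem_ker.1 (this hx)
  rw [commutator_def, Subgroup.commutator_le]
  intro a _ b _
  rw [MonoidHom.mem_ker, map_commutatorElement, commutatorElement_eq_one_iff_mul_comm]
  exact Subgroup.mem_center_iff.1 (hφ b) _

namespace CertFull

variable {D : ChevalleyDatum} (c : CertFull D)
include c

/-- Two independent roots are positive in some transported positive system. -/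
theorem exists_pos_pair {r s : ℕ} (hr : r < D.nroots) (hs : s < D.nroots) (h1 : s ≠ r)
    (h2 : s ≠ D.neg r) :
    ∃ L : List ℕ, (∀ p ∈ L, p < D.rank) ∧ ∃ a b, c.Pos a ∧ c.Pos b ∧ c.wl L a = r ∧
      c.wl L b = s := by
  obtain ⟨L, q, hL, hq, rfl⟩ := c.exists_wl_simple hr
  have hα := c.simple_lt hq
  have hR : ∀ p ∈ L.reverse, p < D.rank := fun p hp => hL p (List.mem_reverse.1 hp)
  set s₀ := c.wl L.reverse s
  have hs₀ : s₀ < D.nroots := c.wl_lt hR hs
  have es : c.wl L s₀ = s := c.wl_reverse hL hs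
  by_cases hp : c.Pos s₀
  · exact ⟨L, hL, _, _, c.pos_simple hq, hp, rfl, es⟩
  have hn : c.Pos (D.neg s₀) := (c.not_pos_iff hs₀).1 hp
  have hne : D.neg s₀ ≠ D.simple q := fun e =>
    h2 (by rw [← es, ← c.wl_neg hL hα, ← e, c.neg_neg hs₀])
  obtain ⟨M, hM, hlong⟩ := c.exists_longest
  have hMR : ∀ p ∈ M.reverse, p < D.rank := fun p hp => hM p (List.mem_reverse.1 hp)
  have hqM : ∀ p ∈ q :: M, p < D.rank := by simpa using ⟨hq, hM⟩
  have hws := c.w_lt hq hs₀
  have hp1 : ¬ c.Pos (c.w q s₀) := by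
    have := (c.pos_w hq hn hne).1
    rw [c.w_neg hq hs₀] at this
    exact (c.not_pos_iff hws).2 this
  have hp2 : ¬ c.Pos (D.neg (D.simple q)) := fun h => (c.not_pos_iff hα).2 h (c.pos_simple hq)
  have hpre : ∀ e' < D.nroots, ¬ c.Pos e' → c.Pos (c.wl M.reverse e') := fun e' he hneg => by
    have hlt := c.wl_lt hMR he
    by_contra hne'
    have h3 := hlong _ ((c.not_pos_iff hlt).1 hne')
    rw [c.wl_neg hM hlt, c.wl_reverse hM he] at h3
    exact h3 ((c.not_pos_iff he).1 hneg)
  refine ⟨L ++ q :: M, fun p hp' => (List.mem_append.1 hp').elim (hL p) (hqM p), _, _,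
    hpre _ (c.neg_lt hα) hp2, hpre _ hws hp1, ?_, ?_⟩
  · rw [c.wl_append, Cert.wl_cons, c.wl_reverse hM (c.neg_lt hα), c.w_neg hq hα, c.w_simple hq,
      c.neg_neg hα]
  · rw [c.wl_append, Cert.wl_cons, c.wl_reverse hM hws, c.w_w hq hs₀, es]

end CertFull

namespace StData

variable {D : ChevalleyDatum} {c : CertFull D} {F : Type*} [Field F] {Γ : Type*} [Group Γ]
  (A : StData c F Γ) (hN : checkNbr c.T = true)

omit A in
theorem chi_eq {p s : ℕ} (hp : p < D.rank) (hs : s < D.nroots) (a : Fˣ) :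
    chi (c := c) p a s = a ^ c.T.cartan p s := by
  have h1 := c.hg_eq (c.simple_lt hp) a
  rw [c.hg_eq_torus (c.simple_lt hp), Cert.torus_apply, dg_eq_iff] at h1
  refine (h1 _ hs).trans ?_
  rw [CertFull.pairChar, c.pairing_simple hp]

include hN

theorem h_scale {p s : ℕ} (hp : p < D.rank) (hs : s < D.nroots) (a : Fˣ) (v : F) :
    A.h (D.simple p) (a : F) * A.X s v * (A.h (D.simple p) (a : F))⁻¹ =
      A.X s (((a ^ c.T.cartan p s : Fˣ) : F) * v) := by
  rw [A.h_conj hN hp a hs, chi_eq hp hs]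

/-- An element of the torus has a scalar on every root. -/
theorem H_scale {g : Γ} (hg : g ∈ A.H) {s : ℕ} (hs : s < D.nroots) :
    ∃ k : Fˣ, ∀ v : F, g * A.X s v * g⁻¹ = A.X s (k * v) := by
  induction hg using Subgroup.closure_induction with
  | mem g hg =>
    obtain ⟨p, t, hp, rfl⟩ := hg
    exact ⟨_, fun v => A.h_conj hN hp t hs v⟩
  | one => exact ⟨1, fun v => by simp⟩
  | mul a b _ _ ha hb =>
    obtain ⟨k, hk⟩ := ha
    obtain ⟨k', hk'⟩ := hb
    refine ⟨k * k', fun v => ?_⟩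
    rw [Units.val_mul, mul_assoc (k : F), ← hk, ← hk']
    group
  | inv a _ ha =>
    obtain ⟨k, hk⟩ := ha
    refine ⟨k⁻¹, fun v => ?_⟩
    have h := hk ((k⁻¹ : Fˣ) * v)
    rw [← mul_assoc, ← Units.val_mul, mul_inv_cancel, Units.val_one, one_mul] at h
    rw [← h]; group

/-- Transport of a torus element by a word. -/
theorem nw_scale {L : List ℕ} (hL : ∀ p ∈ L, p < D.rank) {s : ℕ} (hs : s < D.nroots) {g : Γ}
    {k : F} (hk : ∀ v : F, g * A.X s v * g⁻¹ = A.X s (k * v)) (v : F) :
    (A.nw L * g * (A.nw L)⁻¹) * A.X (c.wl L s) v * (A.nw L * g * (A.nw L)⁻¹)⁻¹ =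
      A.X (c.wl L s) (k * v) := by
  have h := A.nw_conj hN hL hs ((c.wsign L s : F) * v)
  have h' := A.nw_conj hN hL hs (k * ((c.wsign L s : F) * v))
  rw [← mul_assoc, c.wsign_sq, one_mul] at h
  rw [show (c.wsign L s : F) * (k * ((c.wsign L s : F) * v)) = k * v by
    linear_combination (k * v) * c.wsign_sq (F := F) L s] at h'
  rw [← h', ← hk, ← h]
  group

/-- Any root is moved by some torus element. -/
theorem exists_mover (hF : ∃ s : Finset F, 4 < s.card) {r : ℕ} (hr : r < D.nroots) :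
    ∃ g ∈ A.H, ∃ k : F, k ≠ 1 ∧ ∀ v : F, g * A.X r v * g⁻¹ = A.X r (k * v) := by
  obtain ⟨L, q, hL, hq, rfl⟩ := c.exists_wl_simple hr
  obtain ⟨a, ha⟩ := exists_zpow_ne_one hF (d := 2) (by norm_num) (by norm_num)
  refine ⟨_, A.nw_conj_H hN hL (A.h_mem_H hq a.ne_zero), _, ha,
    A.nw_scale hN hL (c.simple_lt hq) fun v => ?_⟩
  rw [A.h_scale hN hq (c.simple_lt hq), ← c.cartan_eq hq (c.simple_lt hq),
    c.cartan_simple_self hq]

/-- A torus element fixing one root and moving another. -/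
theorem exists_separator (hU : checkUniv c.T = true) (hF : ∃ s : Finset F, 4 < s.card)
    {r s : ℕ} (hr : r < D.nroots) (hs : s < D.nroots) (h1 : s ≠ r) (h2 : s ≠ D.neg r) :
    ∃ g ∈ A.H, (∀ v : F, g * A.X s v * g⁻¹ = A.X s v) ∧
      ∃ k : F, k ≠ 1 ∧ ∀ v : F, g * A.X r v * g⁻¹ = A.X r (k * v) := by
  obtain ⟨L, q, hL, hq, rfl⟩ := c.exists_wl_simple hr
  have hR : ∀ p ∈ L.reverse, p < D.rank := fun p hp => hL p (List.mem_reverse.1 hp)
  have hα := c.simple_lt hq
  have hs' : c.wl L.reverse s < D.nroots := c.wl_lt hR hs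
  have es : c.wl L (c.wl L.reverse s) = s := c.wl_reverse hL hs
  simp only [checkUniv, Tables.allNodes, Tables.allRoots, List.all_eq_true, List.mem_range,
    Bool.and_eq_true, Bool.or_eq_true, Nat.beq_eq] at hU
  have hsep := (hU q (c.rank_eq ▸ hq)).1 _ (c.nroots_eq ▸ hs')
  rw [← c.simple_eq hq, ← c.neg_eq hα] at hsep
  rcases hsep with (e | e) | hsep
  · exact absurd (by rw [← es, e]) h1
  · exact absurd (by rw [← es, e, c.wl_neg hL hα]) h2
  simp only [Tables.separates, List.any_eq_true, List.mem_range, Bool.and_eq_true, beq_iff_eq,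
    Nat.ble_eq] at hsep
  obtain ⟨i, hi, j, hj, e, -, f, -, ⟨h0, hd1⟩, hd3⟩ := hsep
  rw [← c.rank_eq] at hi hj
  rw [← c.simple_eq hq] at hd1 hd3
  obtain ⟨a, ha⟩ := exists_zpow_ne_one hF hd1 hd3
  set g := A.h (D.simple i) ((a ^ e : Fˣ) : F) * A.h (D.simple j) ((a ^ f : Fˣ) : F)
  have hg : ∀ x < D.nroots, ∀ v : F, g * A.X x v * g⁻¹ =
      A.X x (((a ^ (e * c.T.cartan i x + f * c.T.cartan j x) : Fˣ) : F) * v) := by
    intro x hx v
    rw [_root_.zpow_add, _root_.zpow_mul, _root_.zpow_mul, Units.val_mul, mul_assoc (a := (_ : F)),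
      ← A.h_scale hN hi hx, ← A.h_scale hN hj hx]
    simp only [g]
    group
  have hgH : g ∈ A.H := mul_mem (A.h_mem_H hi (Units.ne_zero _)) (A.h_mem_H hj (Units.ne_zero _))
  refine ⟨_, A.nw_conj_H hN hL hgH, fun v => ?_, _, ha, A.nw_scale hN hL hα (hg _ hα)⟩
  have := A.nw_scale hN hL hs' (g := g) (k := 1)
    (fun v => by rw [hg _ hs', h0]; simp) v
  rwa [es, one_mul] at this

include A in
theorem perfect_of_large (hF : ∃ s : Finset F, 4 < s.card) : commutator Γ = ⊤ := by
  rw [eq_top_iff, ← A.gen, Subgroup.closure_le]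
  rintro x ⟨r, hr, t, rfl⟩
  obtain ⟨g, -, k, hk, hgk⟩ := A.exists_mover hN hF hr
  have e : A.X r t = ⁅g, A.X r (t / (k - 1))⁆ := by
    rw [commutatorElement_def, hgk, A.X_inv hr, A.add r hr]
    congr 1
    have := sub_ne_zero.2 hk
    field_simp
    ring
  rw [e, commutator_def]
  exact Subgroup.commutator_mem_commutator (Subgroup.mem_top _) (Subgroup.mem_top _)

/-- Perfectness and the torus elements used by the lifting. -/
structure Movers : Prop where
  perfect : commutator Γ = ⊤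
  mover : ∀ r < D.nroots, ∃ g ∈ A.H, ∃ k : F, k ≠ 1 ∧ ∀ v : F,
    g * A.X r v * g⁻¹ = A.X r (k * v)
  sep : ∀ r < D.nroots, ∀ s < D.nroots, s ≠ r → s ≠ D.neg r → c.T.commTerms r s ≠ [] →
    ∃ g ∈ A.H, (∀ v : F, g * A.X r v * g⁻¹ = A.X r v) ∧
      ∃ k : F, k ≠ 1 ∧ ∀ v : F, g * A.X s v * g⁻¹ = A.X s (k * v)

/-- A preimage. -/
noncomputable def pre {E : Type*} [Group E] (π : E →* Γ) (hπ : Function.Surjective π) (x : Γ) : E :=
  Function.surjInv hπ x

omit hN in
theorem π_pre {E : Type*} [Group E] (π : E →* Γ) (hπ : Function.Surjective π) (x : Γ) :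
    π (pre π hπ x) = x := Function.surjInv_eq hπ x

/-- Commuting root elements have commuting lifts. -/
def LiftsCommute {E : Type*} [Group E] (π : E →* Γ) (hπ : Function.Surjective π) : Prop :=
  ∀ r < D.nroots, ∀ s < D.nroots, (s = r ∨ (s ≠ D.neg r ∧ c.T.commTerms r s = [])) → ∀ t u : F,
    Commute (pre π hπ (A.X r t)) (pre π hπ (A.X s u))

include A in
/-- Over a field with more than four elements there are enough torus elements. -/
theorem movers_of_large (hU : checkUniv c.T = true) (hF : ∃ s : Finset F, 4 < s.card) :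
    A.Movers where
  perfect := A.perfect_of_large hN hF
  mover r hr := A.exists_mover hN hF hr
  sep r hr s hs h1 h2 _ := A.exists_separator hN hU hF hs hr (Ne.symm h1)
    (fun e => h2 (by rw [e, c.neg_neg hs]))

section Lift

variable (hU : checkUniv c.T = true) (hF : ∃ s : Finset F, 4 < s.card) (hM : A.Movers)
  {E : Type*} [Group E] (π : E →* Γ) (hπ : Function.Surjective π)
  (hc : π.ker ≤ Subgroup.center E)
include hM hπ hc

/-- Preimages of the centre are central. -/
theorem lift_center {e : E} (he : A.θ (π e) = 1) : e ∈ Subgroup.center E := by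
  have hcen : ∀ f : E, ⁅e, f⁆ ∈ Subgroup.center E := fun f => hc (by
    rw [MonoidHom.mem_ker, map_commutatorElement, commutatorElement_eq_one_iff_mul_comm]
    exact (Subgroup.mem_center_iff.1 ((A.ker_le hN).trans inf_le_right he) _).symm)
  let φ : E →* E := MonoidHom.mk' (fun f => ⁅e, f⁆) fun f f' => by
    rw [show ⁅e, f * f'⁆ = ⁅e, f⁆ * (f * ⁅e, f'⁆ * f⁻¹) by group,
      Subgroup.mem_center_iff.1 (hcen f') f, mul_inv_cancel_right]
  rw [Subgroup.mem_center_iff]
  intro f
  obtain ⟨d, hd, hdf⟩ : ∃ d ∈ commutator E, π d = π f := by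
    have : π f ∈ (commutator E).map π := by
      rw [commutator_def, Subgroup.map_commutator, Subgroup.map_top_of_surjective π hπ,
        ← commutator_def, hM.perfect]
      trivial
    exact Subgroup.mem_map.1 this
  have hz : d⁻¹ * f ∈ Subgroup.center E := hc (by simp [MonoidHom.mem_ker, hdf])
  have h1 : φ (d⁻¹ * f) = 1 := commutatorElement_eq_one_iff_mul_comm.2
    (Subgroup.mem_center_iff.1 hz e)
  have h2 : φ f = 1 := by
    rw [map_mul, map_inv, central_hom_eq_one φ hcen hd, inv_one, one_mul] at h1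
    exact h1
  exact (commutatorElement_eq_one_iff_mul_comm.1 h2).symm

theorem comm_congr {e e' f f' : E} (h1 : A.θ (π e) = A.θ (π e'))
    (h2 : A.θ (π f) = A.θ (π f')) : ⁅e, f⁆ = ⁅e', f'⁆ := by
  have he := A.lift_center hN hM π hπ hc (e := e'⁻¹ * e) (by simp [h1])
  have hf := A.lift_center hN hM π hπ hc (e := f'⁻¹ * f) (by simp [h2])
  obtain ⟨z, hz, rfl⟩ : ∃ z ∈ Subgroup.center E, e = e' * z := ⟨_, he, by group⟩
  obtain ⟨y, hy, rfl⟩ : ∃ y ∈ Subgroup.center E, f = f' * y := ⟨_, hf, by group⟩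
  rw [commutatorElement_def, commutatorElement_def]
  calc e' * z * (f' * y) * (e' * z)⁻¹ * (f' * y)⁻¹
      = e' * (z * f') * ((y * z⁻¹) * e'⁻¹) * (f' * y)⁻¹ := by group
    _ = e' * (f' * z) * (e'⁻¹ * (y * z⁻¹)) * (f' * y)⁻¹ := by
        rw [← Subgroup.mem_center_iff.1 hz f',
          Subgroup.mem_center_iff.1 (mul_mem hy (inv_mem hz)) e'⁻¹]
    _ = e' * f' * ((z * e'⁻¹) * (y * z⁻¹)) * (f' * y)⁻¹ := by group
    _ = e' * f' * ((e'⁻¹ * z) * (y * z⁻¹)) * (f' * y)⁻¹ := by
        rw [← Subgroup.mem_center_iff.1 hz e'⁻¹]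
    _ = e' * f' * e'⁻¹ * (y * z) * z⁻¹ * (f' * y)⁻¹ := by
        rw [Subgroup.mem_center_iff.1 hz y]; group
    _ = _ := by group

/-- The lifted root element. -/
noncomputable def Y (r : ℕ) (t : F) : E :=
  if h : r < D.nroots then
    ⁅pre π hπ (hM.mover r h).choose,
      pre π hπ (A.X r (t / ((hM.mover r h).choose_spec.2.choose - 1)))⁆
  else 1

omit hc in
theorem π_Y {r : ℕ} (hr : r < D.nroots) (t : F) : π (A.Y hM π hπ r t) = A.X r t := by
  have hspec := (hM.mover r hr).choose_spec.2.choose_spec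
  have := sub_ne_zero.2 hspec.1
  rw [Y, dif_pos hr, map_commutatorElement, π_pre, π_pre, commutatorElement_def, hspec.2,
    A.X_inv hr, A.add r hr]
  congr 1
  field_simp
  ring

omit hc in
theorem θ_Y {r : ℕ} (hr : r < D.nroots) (t : F) : A.θ (π (A.Y hM π hπ r t)) = c.xg r t := by
  rw [A.π_Y hN hM π hπ hr, A.θX r hr]

/-- The torus scales the lifted root elements. -/
theorem Y_scale {r : ℕ} (hr : r < D.nroots) {g : E} (hg : π g ∈ A.H) {k : F}
    (hk : ∀ v : F, π g * A.X r v * (π g)⁻¹ = A.X r (k * v)) (t : F) :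
    g * A.Y hM π hπ r t * g⁻¹ = A.Y hM π hπ r (k * t) := by
  rw [Y, dif_pos hr, Y, dif_pos hr, conjugate_commutatorElement]
  refine A.comm_congr hN hM π hπ hc ?_ ?_
  · have hm := A.θ_H (hM.mover r hr).choose_spec.1
    simp only [map_mul, map_inv, π_pre]
    rw [c.H_commutative (A.θ_H hg) hm, mul_inv_cancel_right]
  · have h : π (g * pre π hπ (A.X r (t / ((hM.mover r hr).choose_spec.2.choose - 1))) *
        g⁻¹) = A.X r (k * (t / ((hM.mover r hr).choose_spec.2.choose - 1))) := by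
      rw [map_mul π, map_mul π, map_inv π, π_pre, hk]
    rw [h, π_pre, mul_div_assoc]

theorem comm_Y_iff {r s : ℕ} (hr : r < D.nroots) (hs : s < D.nroots) (t u : F) :
    ⁅A.Y hM π hπ r t, A.Y hM π hπ s u⁆ = ⁅pre π hπ (A.X r t), pre π hπ (A.X s u)⁆ :=
  A.comm_congr hN hM π hπ hc (by rw [A.π_Y hN hM π hπ hr, π_pre])
    (by rw [A.π_Y hN hM π hπ hs, π_pre])

/-- Commutators of lifts are biadditive where the root elements commute. -/
theorem cc_add {r : ℕ} (hr : r < D.nroots) {y : E} (t t' : F)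
    (hcomm : ∀ t, Commute (A.X r t) (π y)) :
    ⁅pre π hπ (A.X r (t + t')), y⁆ =
      ⁅pre π hπ (A.X r t), y⁆ * ⁅pre π hπ (A.X r t'), y⁆ := by
  have hcen : ∀ t, ⁅pre π hπ (A.X r t), y⁆ ∈ Subgroup.center E := fun t => hc (by
    rw [MonoidHom.mem_ker, map_commutatorElement, π_pre, commutatorElement_eq_one_iff_mul_comm]
    exact hcomm t)
  rw [A.comm_congr hN hM π hπ hc (e' := pre π hπ (A.X r t) * pre π hπ (A.X r t')) (f' := y)
    (by rw [map_mul π, π_pre, π_pre, π_pre, A.add r hr]) rfl]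
  set a := pre π hπ (A.X r t)
  set b := pre π hπ (A.X r t')
  rw [show ⁅a * b, y⁆ = (a * ⁅b, y⁆ * a⁻¹) * ⁅a, y⁆ by group,
    Subgroup.mem_center_iff.1 (hcen t') a, mul_inv_cancel_right,
    Subgroup.mem_center_iff.1 (hcen t') ⁅a, y⁆]

include hU hF in
/-- Distinct commuting root elements have commuting lifts. -/
theorem cc_distinct {r s : ℕ} (hr : r < D.nroots) (hs : s < D.nroots) (h1 : s ≠ r)
    (h2 : s ≠ D.neg r) (he : c.T.commTerms r s = []) (t u : F) :
    Commute (pre π hπ (A.X r t)) (pre π hπ (A.X s u)) := by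
  obtain ⟨g, hg, hgs, k, hk, hgr⟩ := A.exists_separator hN hU hF hr hs h1 h2
  have hcomm : ∀ t, Commute (A.X r t) (π (pre π hπ (A.X s u))) := fun t => by
    rw [π_pre]
    have := A.comm r hr s hs h1 h2 t u
    rw [he, List.map_nil, List.prod_nil, mul_one] at this
    exact this.symm
  set y := pre π hπ (A.X s u) with hy
  have hinv : ∀ t, ⁅pre π hπ (A.X r (k * t)), y⁆ = ⁅pre π hπ (A.X r t), y⁆ := fun t => by
    have hcen : ⁅pre π hπ (A.X r t), y⁆ ∈ Subgroup.center E := hc (by
      rw [MonoidHom.mem_ker, map_commutatorElement, π_pre, commutatorElement_eq_one_iff_mul_comm]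
      exact hcomm t)
    have e := conjugate_commutatorElement (pre π hπ (A.X r t)) y (pre π hπ g)
    rw [Subgroup.mem_center_iff.1 hcen, mul_inv_cancel_right] at e
    rw [e]
    exact A.comm_congr hN hM π hπ hc (by simp only [map_mul, map_inv, π_pre, ← hgr])
      (by simp only [hy, map_mul π, map_inv π, π_pre, hgs])
  have h0 := A.cc_add hN hM π hπ hc hr (t / (k - 1)) t hcomm
  have := sub_ne_zero.2 hk
  rw [show t / (k - 1) + t = k * (t / (k - 1)) by field_simp; ring, hinv, left_eq_mul] at h0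
  exact commutatorElement_eq_one_iff_commute.1 h0

include hU hF in
/-- A root subgroup has commuting lifts. -/
theorem cc_same {r : ℕ} (hr : r < D.nroots) (t u : F) :
    Commute (pre π hπ (A.X r t)) (pre π hπ (A.X r u)) := by
  have hXX : ∀ {r : ℕ} (_ : r < D.nroots) (u t : F),
      Commute (A.X r t) (π (pre π hπ (A.X r u))) := fun {r} hr u t => by
    rw [π_pre, Commute, SemiconjBy, A.add r hr, A.add r hr, add_comm]
  suffices key : ∀ q < D.rank, ∀ t u : F,
      Commute (pre π hπ (A.X (D.simple q) t)) (pre π hπ (A.X (D.simple q) u)) by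
    obtain ⟨L, q, hL, hq, rfl⟩ := c.exists_wl_simple hr
    have h := commutatorElement_eq_one_iff_commute.2
      (key q hq ((c.wsign L (D.simple q) : F) * t) ((c.wsign L (D.simple q) : F) * u))
    have e := conjugate_commutatorElement (pre π hπ (A.X (D.simple q) ((c.wsign L (D.simple q) : F) * t)))
      (pre π hπ (A.X (D.simple q) ((c.wsign L (D.simple q) : F) * u))) (pre π hπ (A.nw L))
    rw [h, mul_one, mul_inv_cancel] at e
    refine commutatorElement_eq_one_iff_commute.1 (Eq.trans ?_ e.symm)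
    have hx : ∀ t : F, A.X (c.wl L (D.simple q)) t =
        A.nw L * A.X (D.simple q) ((c.wsign L (D.simple q) : F) * t) * (A.nw L)⁻¹ := fun t => by
      rw [A.nw_conj hN hL (c.simple_lt hq), ← mul_assoc, c.wsign_sq, one_mul]
    exact A.comm_congr hN hM π hπ hc (by simp only [map_mul, map_inv, π_pre, ← hx])
      (by simp only [map_mul, map_inv, π_pre, ← hx])
  intro q hq t u
  have hα := c.simple_lt hq
  have hU' := hU
  simp only [checkUniv, Tables.allNodes, List.all_eq_true, List.mem_range, Bool.and_eq_true,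
    Bool.or_eq_true] at hU'
  rcases (hU' q (c.rank_eq ▸ hq)).2 with hfull | hin
  · -- every scalar is available
    have hscal : ∀ k : Fˣ, ∃ g ∈ A.H, ∀ v : F,
        g * A.X (D.simple q) v * g⁻¹ = A.X (D.simple q) (k * v) := by
      intro k
      simp only [Tables.fullScalar, List.any_eq_true, List.mem_range, Bool.or_eq_true,
        beq_iff_eq, ← c.simple_eq hq] at hfull
      obtain ⟨i, hi, h | ⟨j, hj, h⟩⟩ := hfull
      · rw [← c.rank_eq] at hi
        refine ⟨A.h (D.simple i) ((k⁻¹ : Fˣ) : F), A.h_mem_H hi (Units.ne_zero _), fun v => ?_⟩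
        rw [A.h_scale hN hi hα, h, _root_.zpow_neg, zpow_one, inv_inv]
      · rw [← c.rank_eq] at hi hj
        refine ⟨A.h (D.simple i) ((k⁻¹ : Fˣ) : F) * A.h (D.simple j) ((k⁻¹ : Fˣ) : F),
          mul_mem (A.h_mem_H hi (Units.ne_zero _)) (A.h_mem_H hj (Units.ne_zero _)), fun v => ?_⟩
        have e : k = k⁻¹ ^ c.T.cartan i (D.simple q) * k⁻¹ ^ c.T.cartan j (D.simple q) := by
          rw [← _root_.zpow_add, h, _root_.zpow_neg, zpow_one, inv_inv]
        conv_rhs => rw [e, Units.val_mul, mul_assoc, ← A.h_scale hN hi hα, ← A.h_scale hN hj hα]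
        group
    let z : F → F → E := fun a b => ⁅pre π hπ (A.X (D.simple q) a), pre π hπ (A.X (D.simple q) b)⁆
    have hzc : ∀ a b, z a b ∈ Subgroup.center E := fun a b => hc (by
      simp only [MonoidHom.mem_ker, z, map_commutatorElement, commutatorElement_eq_one_iff_commute]
      rw [π_pre]; exact hXX hα b a)
    have hadd : ∀ a a' b, z (a + a') b = z a b * z a' b := fun a a' b =>
      A.cc_add hN hM π hπ hc hα a a' (hXX hα b)
    have hadd' : ∀ a b b', z a (b + b') = z a b * z a b' := fun a b b' => by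
      simp only [z]
      rw [← commutatorElement_inv, A.cc_add hN hM π hπ hc hα b b' (hXX hα a), _root_.mul_inv_rev,
        commutatorElement_inv, commutatorElement_inv, Subgroup.mem_center_iff.1 (hzc a b)]
    have hinv : ∀ (k : Fˣ) a b, z (k * a) (k * b) = z a b := fun k a b => by
      obtain ⟨g, -, hg⟩ := hscal k
      have e := conjugate_commutatorElement (pre π hπ (A.X (D.simple q) a))
        (pre π hπ (A.X (D.simple q) b)) (pre π hπ g)
      rw [Subgroup.mem_center_iff.1 (hzc a b), mul_inv_cancel_right] at e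
      refine Eq.trans ?_ e.symm
      exact A.comm_congr hN hM π hπ hc (by simp only [map_mul, map_inv, π_pre, ← hg])
        (by simp only [map_mul, map_inv, π_pre, ← hg])
    obtain ⟨k, hk0, hk1, hk⟩ := exists_good_scalar hF
    have hd : 1 / (k * (1 - k)) - 1 ≠ 0 := by
      rw [sub_ne_zero, Ne, div_eq_one_iff_eq (mul_ne_zero hk0 hk1)]; exact Ne.symm hk
    refine commutatorElement_eq_one_iff_commute.1 ?_
    show z t u = 1
    set v := u / (1 / (k * (1 - k)) - 1)
    have e1 : z (k * t) v = z t (k⁻¹ * v) := by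
      have := hinv (Units.mk0 k hk0) t (k⁻¹ * v)
      rwa [Units.val_mk0, ← mul_assoc, mul_inv_cancel₀ hk0, one_mul] at this
    have e2 : z ((1 - k) * t) v = z t ((1 - k)⁻¹ * v) := by
      have := hinv (Units.mk0 _ hk1) t ((1 - k)⁻¹ * v)
      rwa [Units.val_mk0, ← mul_assoc, mul_inv_cancel₀ hk1, one_mul] at this
    have h3 := hadd (k * t) ((1 - k) * t) v
    rw [show k * t + (1 - k) * t = t by ring, e1, e2, ← hadd',
      show k⁻¹ * v + (1 - k)⁻¹ * v = v + u by
        have hv : v * (1 / (k * (1 - k)) - 1) = u := div_mul_cancel₀ _ hd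
        rw [← hv]; field_simp; ring, hadd', left_eq_mul] at h3
    exact h3
  · -- the root is a commutator of commuting ones
    simp only [Tables.innerPair, List.any_eq_true, List.mem_range, Bool.and_eq_true,
      Bool.not_eq_true', decide_eq_true_eq, List.all_eq_true, Bool.or_eq_true, beq_iff_eq] at hin
    obtain ⟨a, ha, b, hb, hne, ⟨⟨⟨hwa, hwb⟩, x, hx, hxq⟩, hnd⟩, hwx⟩ := hin
    obtain ⟨⟨hxr, hC⟩, hj⟩ := hxq
    rw [Nat.beq_eq] at hxr hj
    rw [← c.nroots_eq] at ha hb
    have hab : b ≠ a ∧ b ≠ D.neg a := by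
      refine ⟨fun e => ?_, fun e => ?_⟩
      · rw [beq_of_eq e] at hne; exact Bool.noConfusion hne.1
      · rw [c.neg_eq ha] at e; rw [beq_of_eq e] at hne; exact Bool.noConfusion hne.2
    let M : Subgroup Γ := (Subgroup.centralizer {pre π hπ (A.X (D.simple q) u)}).map π
    suffices A.X (D.simple q) t ∈ M by
      obtain ⟨w, hw, ew⟩ := Subgroup.mem_map.1 this
      rw [Subgroup.mem_centralizer_singleton_iff] at hw
      refine commutatorElement_eq_one_iff_commute.1 ?_
      rw [A.comm_congr hN hM π hπ hc (e' := w) (f' := pre π hπ (A.X (D.simple q) u))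
        (by rw [π_pre, ew]) rfl, commutatorElement_eq_one_iff_mul_comm]
      exact hw
    have hM : ∀ y < D.nroots, c.T.commutesWith q y = true → ∀ v : F, A.X y v ∈ M := by
      intro y hy h v
      simp only [Tables.commutesWith, Bool.and_eq_true, Bool.not_eq_true',
        List.isEmpty_iff, ← c.simple_eq hq] at h
      obtain ⟨⟨h1, h2⟩, h3⟩ := h
      refine Subgroup.mem_map.2 ⟨pre π hπ (A.X y v), ?_, π_pre π hπ _⟩
      rw [Subgroup.mem_centralizer_singleton_iff]
      refine (A.cc_distinct hN hU hF hM π hπ hc hα hy (fun e => ?_) (fun e => ?_) h3 u v).symm.eq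
      · rw [beq_of_eq e] at h1; cases h1
      · rw [← c.neg_eq hα, beq_of_eq e] at h2; cases h2
    obtain ⟨l₁, l₂, hl⟩ := List.append_of_mem hx
    obtain ⟨x1, C, i, j⟩ := x
    obtain rfl : x1 = D.simple q := hxr.trans (c.simple_eq hq).symm
    obtain rfl : j = 1 := hj
    have hC' : (C : F) * C = 1 := by exact_mod_cast congrArg (Int.cast : ℤ → F) hC
    have hother : ∀ y ∈ l₁ ++ l₂, ∀ v, A.X y.1 v ∈ M := by
      intro y hy v
      have hy' : y ∈ c.T.commTerms a b := by
        rw [hl]; rcases List.mem_append.1 hy with h | h <;> simp [h]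
      refine hM _ (c.mem_commTerms ha hb hy').1 ((hwx y hy').resolve_left fun e => ?_) v
      rw [Nat.beq_eq, ← c.simple_eq hq] at e
      rw [hl, List.map_append, List.map_cons] at hnd
      have := (List.nodup_middle.1 hnd)
      rw [List.nodup_cons] at this
      exact this.1 (by rw [← List.map_append]; exact List.mem_map.2 ⟨y, hy, e⟩)
    set σ : F := (C : F) * (-1) ^ i
    have hσ : σ * σ = 1 := by
      simp only [σ]
      rw [show (C : F) * (-1) ^ i * ((C : F) * (-1) ^ i) = ((C : F) * C) * ((-1) * (-1)) ^ i by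
        rw [mul_pow]; ring, hC']
      simp
    have hcomm := A.comm a ha b hb hab.1 hab.2 (1 : F) (σ * t)
    rw [hl, List.map_append, List.map_cons, List.prod_append, List.prod_cons] at hcomm
    simp only [pow_one, show (C : F) * (-1) ^ i * (σ * t) = t by
      show σ * (σ * t) = t
      rw [← mul_assoc, hσ, one_mul]] at hcomm
    have key : ∀ {P Q R S T U : Γ}, P = Q * (R * (S * U)) → T = S →
        T = R⁻¹ * Q⁻¹ * P * U⁻¹ := fun {P Q R S T U} h1 h2 => by rw [h1, h2]; group
    rw [key hcomm rfl]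
    have hpr : ∀ (l : List (ℕ × ℤ × ℕ × ℕ)), (∀ y ∈ l, y ∈ l₁ ++ l₂) → ∀ w : ℕ × ℤ × ℕ × ℕ → F,
        (l.map fun y => A.X y.1 (w y)).prod ∈ M := fun l hl' w =>
      Subgroup.list_prod_mem _ fun g hg => by
        obtain ⟨y, hy, rfl⟩ := List.mem_map.1 hg
        exact hother y (hl' y hy) _
    refine mul_mem (mul_mem (mul_mem (inv_mem (hpr l₁ (fun y hy => by simp [hy]) _))
      (inv_mem (mul_mem (hM a ha hwa _) (hM b hb hwb _))))
      (mul_mem (hM b hb hwb _) (hM a ha hwa _))) (inv_mem (hpr l₂ (fun y hy => by simp [hy]) _))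

include hU hF in
/-- Commuting lifts over a field with more than four elements. -/
theorem liftsCommute_of_large : A.LiftsCommute π hπ := by
  intro r hr s hs h t u
  by_cases e : s = r
  · subst e; exact A.cc_same hN hU hF hM π hπ hc hr t u
  · obtain ⟨h2, h3⟩ := h.resolve_left e
    exact A.cc_distinct hN hU hF hM π hπ hc hr hs e h2 h3 t u

variable (hC : A.LiftsCommute π hπ)
include hC

/-- (R1) for the lifts. -/
theorem Y_add {r : ℕ} (hr : r < D.nroots) (t u : F) :
    A.Y hM π hπ r t * A.Y hM π hπ r u = A.Y hM π hπ r (t + u) := by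
  have hcomm : Commute (pre π hπ (A.X r (t / ((hM.mover r hr).choose_spec.2.choose - 1))))
      (A.Y hM π hπ r u) := by
    refine commutatorElement_eq_one_iff_commute.1 ?_
    rw [A.comm_congr hN hM π hπ hc (e' := pre π hπ
      (A.X r (t / ((hM.mover r hr).choose_spec.2.choose - 1))))
      (f' := pre π hπ (A.X r u)) rfl (by rw [A.π_Y hN hM π hπ hr, π_pre])]
    exact commutatorElement_eq_one_iff_commute.2 (hC _ hr _ hr (Or.inl rfl) _ _)
  simp only [Y, dif_pos hr] at hcomm ⊢
  set m := pre π hπ (hM.mover r hr).choose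
  set x := pre π hπ (A.X r (t / ((hM.mover r hr).choose_spec.2.choose - 1)))
  set y := pre π hπ (A.X r (u / ((hM.mover r hr).choose_spec.2.choose - 1)))
  refine (Eq.trans (A.comm_congr hN hM π hπ hc (e' := m) (f' := x * y) rfl
    (by rw [map_mul π, π_pre, π_pre, π_pre, A.add r hr, add_div])) ?_).symm
  rw [show ⁅m, x * y⁆ = ⁅m, x⁆ * (x * ⁅m, y⁆ * x⁻¹) by group, hcomm.eq, mul_inv_cancel_right]

theorem Y_zero {r : ℕ} (hr : r < D.nroots) : A.Y hM π hπ r 0 = 1 := by
  have := A.Y_add hN hM π hπ hc hC hr 0 0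
  rwa [add_zero, mul_eq_left] at this

theorem Y_inv {r : ℕ} (hr : r < D.nroots) (t : F) :
    (A.Y hM π hπ r t)⁻¹ = A.Y hM π hπ r (-t) := by
  rw [inv_eq_iff_mul_eq_one, A.Y_add hN hM π hπ hc hC hr, add_neg_cancel,
    A.Y_zero hN hM π hπ hc hC hr]

/-- (R2) in conjugation form. -/
def ConjRel (r s : ℕ) : Prop :=
  ∀ t u : F, A.Y hM π hπ r t * A.Y hM π hπ s u * (A.Y hM π hπ r t)⁻¹ =
    A.Y hM π hπ s u * ((c.T.commTerms r s).map fun x =>
      A.Y hM π hπ x.1 ((x.2.1 : F) * (-(-t)) ^ x.2.2.1 * u ^ x.2.2.2)).prod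

/-- The lifts of the roots in a set, from index `m` on. -/
def W (L : List ℕ) (P : ℕ → Prop) (m : ℕ) : Subgroup E :=
  Subgroup.closure {g | ∃ (x : ℕ) (v : F), c.Pos x ∧ P x ∧ m ≤ x ∧
    g = A.Y hM π hπ (c.wl L x) v}

omit hC in
theorem W_scale {L : List ℕ} (hL : ∀ p ∈ L, p < D.rank) {P : ℕ → Prop} {m : ℕ} {g k : E}
    (hg : π g ∈ A.H) (hk : k ∈ A.W hM π hπ L P m) : g * k * g⁻¹ ∈ A.W hM π hπ L P m := by
  refine conj_closure_mem ?_ hk
  rintro w ⟨x, v, hx, hP, hm, rfl⟩
  obtain ⟨l, hl⟩ := A.H_scale hN hg (c.wl_lt hL hx.2)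
  rw [A.Y_scale hN hM π hπ hc (c.wl_lt hL hx.2) hg hl]
  exact Subgroup.subset_closure ⟨x, _, hx, hP, hm, rfl⟩

omit hc hC in
theorem θ_mem_of_W {L : List ℕ} (hL : ∀ p ∈ L, p < D.rank) {P : ℕ → Prop} {m : ℕ} {k : E}
    (hk : k ∈ A.W hM π hπ L P m) :
    (c.nw F L)⁻¹ * A.θ (π k) * c.nw F L ∈ c.K F m := by
  induction hk using Subgroup.closure_induction with
  | mem g hg =>
    obtain ⟨s, t, hs, -, hm, rfl⟩ := hg
    rw [A.θ_Y hN hM π hπ (c.wl_lt hL hs.2), c.xg_wl hL hs.2, ← mul_assoc, ← mul_assoc,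
      inv_mul_cancel, one_mul, inv_mul_cancel_right]
    exact c.xg_mem_K hs hm _
  | one => simp [one_mem]
  | mul a b _ _ ha hb => simpa [mul_assoc] using mul_mem ha hb
  | inv a _ ha => simpa [mul_assoc] using inv_mem ha

/-- Where the relations hold the lifts map injectively. -/
theorem W_inj {L : List ℕ} (hL : ∀ p ∈ L, p < D.rank) {P : ℕ → Prop}
    (hrel : ∀ x y, c.Pos x → c.Pos y → P x → P y → x ≠ y →
      A.ConjRel hM π hπ (c.wl L x) (c.wl L y) ∧ ∀ z ∈ c.T.commTerms x y, P z.1) :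
    ∀ (d m : ℕ), D.nroots - m = d → c.T.h ≤ m → ∀ k ∈ A.W hM π hπ L P m,
      A.θ (π k) = 1 → k = 1 := by
  intro d
  induction d with
  | zero =>
    intro m hd _ k hk _
    have : A.W hM π hπ L P m = ⊥ := by
      rw [eq_bot_iff, W, Subgroup.closure_le]
      rintro g ⟨s, t, hs, -, hms, -⟩
      have := hs.2
      omega
    rwa [this, Subgroup.mem_bot] at hk
  | succ d ih =>
    intro m hd hm k hk he
    by_cases hPm : P m
    swap
    · refine ih (m + 1) (by omega) (by omega) k ?_ he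
      refine (Subgroup.closure_mono ?_) hk
      rintro g ⟨x, v, hx, hP, hmx, rfl⟩
      exact ⟨x, v, hx, hP, hmx.lt_of_ne (by rintro rfl; exact hPm hP), rfl⟩
    have hm' : c.Pos m := ⟨hm, by omega⟩
    have hlt := c.wl_lt hL hm'.2
    have hconj : ∀ (v : F) {k : E}, k ∈ A.W hM π hπ L P (m + 1) →
        A.Y hM π hπ (c.wl L m) v * k * (A.Y hM π hπ (c.wl L m) v)⁻¹ ∈
          A.W hM π hπ L P (m + 1) := by
      intro v k hk
      refine conj_closure_mem ?_ hk
      rintro g ⟨s, u, hs, hP, hms, rfl⟩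
      obtain ⟨hr2, hcl⟩ := hrel m s hm' hs hPm hP (by omega)
      rw [hr2 v u]
      refine mul_mem (Subgroup.subset_closure ⟨s, u, hs, hP, hms, rfl⟩)
        (Subgroup.list_prod_mem _ fun g hg => ?_)
      obtain ⟨x, hx, rfl⟩ := List.mem_map.1 hg
      obtain ⟨y, hy, e⟩ := c.commTerms_wl hL hm'.2 hs.2 hx
      obtain ⟨h1, -, h3⟩ := c.commTerms_gt hm' hs hy
      exact Subgroup.subset_closure ⟨y.1, _, h1, hcl y hy, by omega, by rw [e]⟩
    obtain ⟨a, k', hk', rfl⟩ : ∃ (a : F) (k' : E), k' ∈ A.W hM π hπ L P (m + 1) ∧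
        k = A.Y hM π hπ (c.wl L m) a * k' := by
      clear he
      induction hk using Subgroup.closure_induction with
      | mem g hg =>
        obtain ⟨s, u, hs, hP, hms, rfl⟩ := hg
        rcases hms.lt_or_eq with h | rfl
        · exact ⟨0, _, Subgroup.subset_closure ⟨s, u, hs, hP, h, rfl⟩,
            by rw [A.Y_zero hN hM π hπ hc hC hlt, one_mul]⟩
        · exact ⟨u, 1, one_mem _, by rw [mul_one]⟩
      | one => exact ⟨0, 1, one_mem _, by rw [A.Y_zero hN hM π hπ hc hC hlt, mul_one]⟩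
      | mul a b _ _ ha hb =>
        obtain ⟨x, k, hk, rfl⟩ := ha
        obtain ⟨y, k', hk', rfl⟩ := hb
        refine ⟨x + y, (A.Y hM π hπ (c.wl L m) y)⁻¹ * k * A.Y hM π hπ (c.wl L m) y * k',
          mul_mem ?_ hk', by rw [← A.Y_add hN hM π hπ hc hC hlt]; group⟩
        have := hconj (-y) hk
        rwa [← A.Y_inv hN hM π hπ hc hC hlt, inv_inv] at this
      | inv a _ ha =>
        obtain ⟨x, k, hk, rfl⟩ := ha
        refine ⟨-x, A.Y hM π hπ (c.wl L m) x * k⁻¹ * (A.Y hM π hπ (c.wl L m) x)⁻¹,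
          hconj x (inv_mem hk), ?_⟩
        rw [← A.Y_inv hN hM π hπ hc hC hlt]; group
    have h2 := A.θ_mem_of_W hN hM π hπ hL hk'
    rw [map_mul π, map_mul A.θ, A.θ_Y hN hM π hπ hlt, c.xg_wl hL hm'.2] at he
    obtain ⟨e1, e2⟩ := c.xg_mul_K_inj hm' (a := (c.wsign L m : F) * a) (b := 0) h2 (one_mem _)
      (by
        rw [c.xg_zero, mul_one]
        calc _ = (c.nw F L)⁻¹ * (c.nw F L * c.xg m ((c.wsign L m : F) * a) * (c.nw F L)⁻¹ *
              A.θ (π k')) * c.nw F L := by group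
          _ = 1 := by rw [he]; group)
    have ha0 : a = 0 := (mul_eq_zero.1 e1).resolve_left (c.wsign_ne_zero _ _)
    have hk1 : A.θ (π k') = 1 := by
      calc A.θ (π k') = c.nw F L * ((c.nw F L)⁻¹ * A.θ (π k') * c.nw F L) * (c.nw F L)⁻¹ := by
            group
        _ = 1 := by rw [e2]; group
    rw [ha0, A.Y_zero hN hM π hπ hc hC hlt, one_mul]
    exact ih (m + 1) (by omega) (by omega) k' hk' hk1

/-- (R2) for a pair of roots in a transported positive system. -/
theorem conjRel_pos {L : List ℕ} (hL : ∀ p ∈ L, p < D.rank) : ∀ (n a b : ℕ), c.Pos a → c.Pos b →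
    a ≠ b → 2 * D.nroots - (a + b) = n → A.ConjRel hM π hπ (c.wl L a) (c.wl L b) := by
  intro n
  induction n using Nat.strong_induction_on with
  | _ n ih =>
    intro a b ha hb hab hn
    have hr := c.wl_lt hL ha.2
    have hs := c.wl_lt hL hb.2
    have h1 : c.wl L b ≠ c.wl L a := fun e => hab (c.wl_inj hL hb.2 ha.2 e).symm
    have h2 : c.wl L b ≠ D.neg (c.wl L a) := by
      rw [← c.wl_neg hL ha.2]
      exact fun e => (c.not_pos_iff ha.2).2
        (c.wl_inj hL hb.2 (c.neg_lt ha.2) e ▸ hb) ha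
    let P : ℕ → Prop := fun x => x = b ∨ (a < x ∧ b < x)
    have hinj : ∀ k ∈ A.W hM π hπ L P c.T.h, ∀ k' ∈ A.W hM π hπ L P c.T.h,
        A.θ (π k) = A.θ (π k') → k = k' := by
      intro k hk k' hk' e
      rw [← inv_mul_eq_one]
      refine A.W_inj hN hM π hπ hc hC hL (fun x y hx hy hPx hPy hxy => ?_) _ _ rfl le_rfl _
        (mul_mem (inv_mem hk) hk') (by simp [e])
      have := ha.2; have := hb.2; have := hx.2; have := hy.2
      refine ⟨ih (2 * D.nroots - (x + y)) ?_ x y hx hy hxy rfl, fun z hz => Or.inr ?_⟩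
      · rcases hPx with rfl | hPx <;> rcases hPy with rfl | hPy <;> omega
      · obtain ⟨-, z1, z2⟩ := c.commTerms_gt hx hy hz
        rcases hPx with rfl | hPx <;> rcases hPy with rfl | hPy <;> omega
    by_cases he : c.T.commTerms (c.wl L a) (c.wl L b) = []
    · intro t u
      have h := hC _ hr _ hs (Or.inr ⟨h2, he⟩) t u
      rw [he, List.map_nil, List.prod_nil, mul_one]
      refine mul_inv_eq_iff_eq_mul.2 (commutatorElement_eq_one_iff_mul_comm.1 ?_)
      rw [A.comm_Y_iff hN hM π hπ hc hr hs]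
      exact commutatorElement_eq_one_iff_commute.2 h
    obtain ⟨g₀, hg₀, hfix, k, hk, hmove⟩ := hM.sep _ hr _ hs h1 h2 he
    intro t u
    set g := pre π hπ g₀
    have hgπ : π g = g₀ := π_pre π hπ g₀
    let Q : F → E := fun u => A.Y hM π hπ (c.wl L b) u *
      ((c.T.commTerms (c.wl L a) (c.wl L b)).map fun x =>
        A.Y hM π hπ x.1 ((x.2.1 : F) * (-(-t)) ^ x.2.2.1 * u ^ x.2.2.2)).prod
    have hQW : ∀ u, Q u ∈ A.W hM π hπ L P c.T.h := fun u => by
      refine mul_mem (Subgroup.subset_closure ⟨b, u, hb, Or.inl rfl, hb.1, rfl⟩)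
        (Subgroup.list_prod_mem _ fun w hw => ?_)
      obtain ⟨x, hx, rfl⟩ := List.mem_map.1 hw
      obtain ⟨y, hy, e⟩ := c.commTerms_wl hL ha.2 hb.2 hx
      obtain ⟨p1, p2, p3⟩ := c.commTerms_gt ha hb hy
      exact Subgroup.subset_closure ⟨y.1, _, p1, Or.inr ⟨p2, p3⟩, p1.1, by rw [e]⟩
    have hQπ : ∀ u, π (Q u) =
        A.X (c.wl L a) t * A.X (c.wl L b) u * (A.X (c.wl L a) t)⁻¹ := fun u => by
      rw [A.X_conj hr hs h1 h2]
      simp only [Q, map_mul π, map_list_prod, List.map_map, A.π_Y hN hM π hπ hs]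
      refine congrArg (A.X (c.wl L b) u * List.prod ·) (List.map_congr_left fun x hx => ?_)
      exact A.π_Y hN hM π hπ (c.mem_commTerms hr hs hx).1 _
    set Ya := A.Y hM π hπ (c.wl L a) t
    have hpa : π Ya = A.X (c.wl L a) t := A.π_Y hN hM π hπ hr t
    have hk1 := sub_ne_zero.2 hk
    set v := u / (k - 1) with hv
    have hu : A.Y hM π hπ (c.wl L b) u = ⁅g, A.Y hM π hπ (c.wl L b) v⁆ := by
      rw [commutatorElement_def, A.Y_scale hN hM π hπ hc hs (hgπ ▸ hg₀)
        (fun w => by rw [hgπ]; exact hmove w), A.Y_inv hN hM π hπ hc hC hs,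
        A.Y_add hN hM π hπ hc hC hs]
      congr 1
      rw [hv]; field_simp; ring
    show Ya * A.Y hM π hπ (c.wl L b) u * Ya⁻¹ = Q u
    rw [hu, conjugate_commutatorElement, A.comm_congr hN hM π hπ hc (e' := g) (f' := Q v)
      (by
        rw [map_mul π, map_mul π, map_inv π, hpa, hgπ]
        congr 1
        calc A.X (c.wl L a) t * g₀ * (A.X (c.wl L a) t)⁻¹
            = (g₀ * A.X (c.wl L a) t * g₀⁻¹) * g₀ * (A.X (c.wl L a) t)⁻¹ := by rw [hfix t]
          _ = g₀ * (A.X (c.wl L a) t * (A.X (c.wl L a) t)⁻¹) := by group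
          _ = g₀ := by rw [mul_inv_cancel, mul_one])
      (by rw [hQπ, map_mul π, map_mul π, map_inv π, hpa, A.π_Y hN hM π hπ hs])]
    refine hinj _ ?_ _ (hQW u) ?_
    · rw [commutatorElement_def]
      exact mul_mem (A.W_scale hN hM π hπ hc hL (hgπ ▸ hg₀) (hQW v)) (inv_mem (hQW v))
    · rw [hQπ, map_commutatorElement π, hgπ, hQπ]
      congr 1
      set x := A.X (c.wl L a) t
      have hgx : x * g₀ * x⁻¹ = g₀ := by
        calc x * g₀ * x⁻¹ = (g₀ * x * g₀⁻¹) * g₀ * x⁻¹ := by rw [hfix t]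
          _ = g₀ * (x * x⁻¹) := by group
          _ = g₀ := by rw [mul_inv_cancel, mul_one]
      rw [show ⁅g₀, x * A.X (c.wl L b) v * x⁻¹⁆ = x * ⁅g₀, A.X (c.wl L b) v⁆ * x⁻¹ by
        rw [conjugate_commutatorElement, hgx]]
      congr 2
      rw [← A.π_Y hN hM π hπ hs u, hu, map_commutatorElement π, hgπ, A.π_Y hN hM π hπ hs]

/-- (R2) for any pair. -/
theorem conjRel {r s : ℕ} (hr : r < D.nroots) (hs : s < D.nroots) (h1 : s ≠ r)
    (h2 : s ≠ D.neg r) : A.ConjRel hM π hπ r s := by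
  suffices ∃ L : List ℕ, (∀ p ∈ L, p < D.rank) ∧ ∃ a b, c.Pos a ∧ c.Pos b ∧ c.wl L a = r ∧
      c.wl L b = s by
    obtain ⟨L, hL, a, b, ha, hb, rfl, rfl⟩ := this
    exact A.conjRel_pos hN hM π hπ hc hC hL _ a b ha hb (fun e => h1 (by rw [e])) rfl
  exact c.exists_pos_pair hr hs h1 h2

/-- (R2) for the lifts. -/
theorem Y_comm {r s : ℕ} (hr : r < D.nroots) (hs : s < D.nroots) (h1 : s ≠ r)
    (h2 : s ≠ D.neg r) (t u : F) :
    A.Y hM π hπ s u * A.Y hM π hπ r t = A.Y hM π hπ r t * A.Y hM π hπ s u *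
      ((c.T.commTerms r s).map fun x =>
        A.Y hM π hπ x.1 ((x.2.1 : F) * (-t) ^ x.2.2.1 * u ^ x.2.2.2)).prod := by
  have h := A.conjRel hN hM π hπ hc hC hr hs h1 h2 (-t) u
  rw [neg_neg, ← A.Y_inv hN hM π hπ hc hC hr, inv_inv] at h
  rw [mul_assoc (A.Y hM π hπ r t), ← h]
  group

end Lift

end StData

namespace CertFull

variable {D : ChevalleyDatum} (c : CertFull D) (F : Type*) [Field F]
include c

/-- Central extensions of the cover split where the lifts commute. -/
theorem exists_section_of (hN : checkNbr c.T = true) (hM : (c.stCoverData F).Movers)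
    {E : Type*} [Group E] (π : E →* D.SteinbergCover F)
    (hπ : Function.Surjective π) (hc : π.ker ≤ Subgroup.center E)
    (hC : (c.stCoverData F).LiftsCommute π hπ) :
    ∃ τ : D.SteinbergCover F →* E, π.comp τ = MonoidHom.id _ := by
  set A := c.stCoverData F
  have hX : ∀ {r : ℕ} (hr : r < D.nroots) (t : F), FreeGroup.lift
      (fun x : Fin D.nroots × F => A.Y hM π hπ x.1 x.2) (D.stX r t) =
      A.Y hM π hπ r t := fun {r} hr t => by
    rw [ChevalleyDatum.stX, dif_pos hr, FreeGroup.lift_apply_of]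
  have hrel : ∀ g ∈ D.steinbergRelsAB F, FreeGroup.lift
      (fun x : Fin D.nroots × F => A.Y hM π hπ x.1 x.2) g = 1 := by
    rintro g (⟨r, t, u, hr, rfl⟩ | ⟨r, s, t, u, hr, hs, h1, h2, rfl⟩)
    · simp only [map_mul, map_inv, hX hr, A.Y_add hN hM π hπ hc hC hr, mul_inv_cancel]
    · rw [map_mul, map_inv]
      rw [mul_inv_eq_one]
      simp only [map_mul, map_inv, hX hr, hX hs]
      rw [ChevalleyDatum.stWord, ChevalleyDatum.commWord, c.commTerms_eq hr hs, map_list_prod,
        List.map_map, List.map_map,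
        mul_assoc _ (A.Y hM π hπ s u), A.Y_comm hN hM π hπ hc hC hr hs h1 h2]
      have key : ∀ a b z : E, a⁻¹ * b⁻¹ * (b * a * z) = z := fun a b z => by group
      rw [key]
      exact congrArg List.prod (List.map_congr_left fun x hx =>
        (hX (c.mem_commTerms hr hs hx).1 _).symm)
  refine ⟨PresentedGroup.toGroup hrel, PresentedGroup.ext fun x => ?_⟩
  rw [MonoidHom.comp_apply, PresentedGroup.toGroup.of, A.π_Y hN hM π hπ x.1.2]
  show PresentedGroup.mk _ (D.stX x.1 x.2) = _
  rw [ChevalleyDatum.stX, dif_pos x.1.2]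
  rfl

/-- Every central extension of the cover splits. -/
theorem exists_section (hN : checkNbr c.T = true) (hU : checkUniv c.T = true)
    (hF : ∃ s : Finset F, 4 < s.card) {E : Type*} [Group E] (π : E →* D.SteinbergCover F)
    (hπ : Function.Surjective π) (hc : π.ker ≤ Subgroup.center E) :
    ∃ τ : D.SteinbergCover F →* E, π.comp τ = MonoidHom.id _ := by
  have hM := (c.stCoverData F).movers_of_large hN hU hF
  exact c.exists_section_of F hN hM π hπ hc
    ((c.stCoverData F).liftsCommute_of_large hN hU hF hM π hπ hc)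

/-- The cover lifts uniquely along central extensions. -/
theorem existsUnique_lift (hN : checkNbr c.T = true) (hU : checkUniv c.T = true)
    (hF : ∃ s : Finset F, 4 < s.card) {G E : Type*} [Group G] [Group E] (p : E →* G)
    (hp : Function.Surjective p) (hc : p.ker ≤ Subgroup.center E)
    (σ : D.SteinbergCover F →* G) :
    ∃! τ : D.SteinbergCover F →* E, p.comp τ = σ := by
  let P : Subgroup (E × D.SteinbergCover F) :=
    (p.comp (MonoidHom.fst _ _)).eqLocus (σ.comp (MonoidHom.snd _ _))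
  let π : ↥P →* D.SteinbergCover F := (MonoidHom.snd _ _).comp P.subtype
  have hπ : Function.Surjective π := fun x => by
    obtain ⟨e, he⟩ := hp (σ x)
    exact ⟨⟨(e, x), he⟩, rfl⟩
  have hcπ : π.ker ≤ Subgroup.center ↥P := by
    rintro ⟨⟨e, x⟩, hex⟩ he
    obtain rfl : x = 1 := he
    have he' : e ∈ p.ker := by
      rw [MonoidHom.mem_ker]
      exact (show p e = σ 1 from hex).trans (map_one σ)
    rw [Subgroup.mem_center_iff]
    rintro ⟨⟨f, y⟩, hfy⟩
    exact Subtype.ext (Prod.ext (Subgroup.mem_center_iff.1 (hc he') f)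
      ((mul_one y).trans (one_mul y).symm))
  obtain ⟨τ, hτ⟩ := c.exists_section F hN hU hF π hπ hcπ
  refine ⟨((MonoidHom.fst _ _).comp P.subtype).comp τ, MonoidHom.ext fun x => ?_, fun τ' h' => ?_⟩
  · have h1 : p (τ x).1.1 = σ (τ x).1.2 := (τ x).2
    have h2 : (τ x).1.2 = x := DFunLike.congr_fun hτ x
    rw [h2] at h1
    exact h1
  · set τ₀ := ((MonoidHom.fst _ _).comp P.subtype).comp τ
    have h0 : ∀ x, p (τ₀ x) = p (τ' x) := fun x => by
      have h1 : p (τ x).1.1 = σ (τ x).1.2 := (τ x).2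
      have h2 : (τ x).1.2 = x := DFunLike.congr_fun hτ x
      rw [h2] at h1
      exact h1.trans (DFunLike.congr_fun h' x).symm
    have hz : ∀ x, (τ₀ x)⁻¹ * τ' x ∈ Subgroup.center E := fun x => hc (by
      rw [MonoidHom.mem_ker, map_mul, map_inv, h0, inv_mul_cancel])
    let ψ : D.SteinbergCover F →* E :=
      MonoidHom.mk' (fun x => (τ₀ x)⁻¹ * τ' x) fun x y => by
        rw [map_mul, map_mul]
        calc (τ₀ x * τ₀ y)⁻¹ * (τ' x * τ' y) = (τ₀ y)⁻¹ * ((τ₀ x)⁻¹ * τ' x) * τ' y := by group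
          _ = ((τ₀ x)⁻¹ * τ' x) * (τ₀ y)⁻¹ * τ' y := by rw [Subgroup.mem_center_iff.1 (hz x)]
          _ = _ := by group
    refine MonoidHom.ext fun x => ?_
    have h1 : ψ x = 1 := central_hom_eq_one ψ hz
      (by rw [(c.stCoverData F).perfect_of_large hN hF]; trivial)
    exact (inv_mul_eq_one.1 h1).symm

end CertFull

set_option maxHeartbeats 4000000 in
/-- The certified data of the seven types, with the facts for lifting. -/
theorem exists_univCert {D : ChevalleyDatum} (hD : D ∈ [chevG2, chevB2, chevD4, chevF4, chevE6,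
    chevE7, chevE8]) : ∃ c : CertFull D, checkNbr c.T = true ∧ checkUniv c.T = true := by
  simp only [List.mem_cons, List.not_mem_nil, or_false] at hD
  rcases hD with rfl | rfl | rfl | rfl | rfl | rfl | rfl
  exacts [⟨certFullG2, by decide +kernel, by decide +kernel⟩,
    ⟨certFullB2, by decide +kernel, by decide +kernel⟩,
    ⟨certFullD4, by decide +kernel, by decide +kernel⟩,
    ⟨certFullF4, by decide +kernel, by decide +kernel⟩,
    ⟨certFullE6, by decide +kernel, by decide +kernel⟩,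
    ⟨certFullE7, by decide +kernel, by decide +kernel⟩,
    ⟨certFullE8, by decide +kernel, by decide +kernel⟩]

end Cfsg.Agent.Lie.Chev
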