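import Cfsg.Agent.Lib.Lie.Chev.SteinbergFinite
import Cfsg.Agent.Lib.Lie.Chev.SteinbergUniv
import Cfsg.Prelude.Def_KGroupFacts

/-! The Schur multiplier of a Chevalley group from its universal central extension. -/

set_option autoImplicit false

universe u v w

namespace Cfsg.Agent.Lie.Chev

open Cfsg.Lie
open scoped commutatorElement

/-- A finite universal central extension computes the multiplier. -/
theorem hasSchurMultiplier_of_universal {G Δ : Type u} [Group G] [Group Δ] [Finite Δ] (θ : Δ →* G)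
    (hθ : Function.Surjective θ) (hc : θ.ker ≤ Subgroup.center Δ) (hperf : commutator Δ = ⊤)
    (hlift : ∀ (E : Type u) [Group E] (π : E →* G), Function.Surjective π →
      π.ker ≤ Subgroup.center E → ∃ τ : Δ →* E, π.comp τ = θ)
    {A : Type v} [CommGroup A] (e : A ≃* θ.ker) : Cfsg.HasSchurMultiplier G A := by
  refine ⟨⟨Δ, inferInstance, inferInstance, θ, ⟨hθ, hc, fun x _ => hperf ▸ Subgroup.mem_top x⟩,
    ⟨e.symm⟩⟩, ?_⟩
  intro Γ _ _ σ hσ
  obtain ⟨τ, hτ⟩ := hlift Γ σ hσ.1 hσ.2.1
  have hτ' : ∀ x, σ (τ x) = θ x := fun x => DFunLike.congr_fun hτ x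
  have hcomm : commutator Γ ≤ τ.range := by
    rw [commutator_def, Subgroup.commutator_le]
    intro a _ b _
    obtain ⟨x, hx⟩ := hθ (σ a)
    obtain ⟨y, hy⟩ := hθ (σ b)
    have hza : (τ x)⁻¹ * a ∈ Subgroup.center Γ := hσ.2.1 (by
      rw [MonoidHom.mem_ker, map_mul, map_inv, hτ', hx, inv_mul_cancel])
    have hzb : (τ y)⁻¹ * b ∈ Subgroup.center Γ := hσ.2.1 (by
      rw [MonoidHom.mem_ker, map_mul, map_inv, hτ', hy, inv_mul_cancel])
    rw [show a = τ x * ((τ x)⁻¹ * a) by group, show b = τ y * ((τ y)⁻¹ * b) by group]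
    set z := (τ x)⁻¹ * a
    set z' := (τ y)⁻¹ * b
    have e : ⁅τ x * z, τ y * z'⁆ = ⁅τ x, τ y⁆ := by
      rw [commutatorElement_def, commutatorElement_def]
      calc τ x * z * (τ y * z') * (τ x * z)⁻¹ * (τ y * z')⁻¹
          = τ x * (z * (τ y * z')) * z⁻¹ * (τ x)⁻¹ * z'⁻¹ * (τ y)⁻¹ := by group
        _ = τ x * τ y * (z' * (τ x)⁻¹) * z'⁻¹ * (τ y)⁻¹ := by
            rw [← Subgroup.mem_center_iff.1 hza]; group
        _ = _ := by rw [← Subgroup.mem_center_iff.1 hzb]; group
    rw [e, ← map_commutatorElement]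
    exact ⟨_, rfl⟩
  refine ⟨((τ.comp θ.ker.subtype).codRestrict σ.ker fun x => ?_).comp e.toMonoidHom, ?_⟩
  · rw [MonoidHom.mem_ker, MonoidHom.comp_apply, hτ']
    exact x.2
  rintro ⟨k, hk⟩
  obtain ⟨x, rfl⟩ := hcomm (hσ.2.2 hk)
  have hx : x ∈ θ.ker := by rw [MonoidHom.mem_ker, ← hτ']; exact hk
  obtain ⟨a, ha⟩ := e.surjective ⟨x, hx⟩
  refine ⟨a, Subtype.ext ?_⟩
  show τ (e a : Δ) = τ x
  rw [ha]

/-- A group of order one or of prime order is the cyclic one. -/
theorem exists_zmod_equiv {A : Type u} [Group A] {n : ℕ} (h : Nat.card A = n)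
    (hn : n = 1 ∨ n.Prime) : Nonempty (Multiplicative (ZMod n) ≃* A) := by
  have hc : IsCyclic A := by
    rcases hn with rfl | hp
    · haveI : Subsingleton A := (Nat.card_eq_one_iff_unique.1 h).1
      exact isCyclic_of_subsingleton
    · haveI := Fact.mk hp
      exact isCyclic_of_prime_card h
  subst h
  exact ⟨zmodCyclicMulEquiv hc⟩

namespace StData

variable {D : ChevalleyDatum} {c : CertFull D} {F : Type*} [Field F] {Γ : Type*} [Group Γ]
  (A : StData c F Γ)

/-- The map onto the Chevalley group. -/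
def toGroup : Γ →* ↥(D.group F) := A.θ.codRestrict _ A.θ_mem_group

theorem toGroup_surjective : Function.Surjective A.toGroup := fun g => by
  obtain ⟨x, hx⟩ := A.θ_surj g.2
  exact ⟨x, Subtype.ext hx⟩

theorem ker_toGroup : A.toGroup.ker = A.θ.ker := MonoidHom.ker_codRestrict _ _ _

include A in
/-- Over a finite field the abstract group is finite. -/
theorem finite_of_finite [Finite F] (hN : checkNbr c.T = true) : Finite Γ := by
  obtain ⟨Φ, -, -, hrange⟩ :=
    A.exists_torusHom hN (fun p hp => A.h_mul_of_finite hN hp) (l := D.rank) rfl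
  haveI : Finite Φ.range := (Set.finite_range Φ).to_subtype
  have hle : A.toGroup.ker ≤ Φ.range := by
    rw [A.ker_toGroup]
    exact (A.ker_le hN).trans (inf_le_left.trans hrange)
  haveI : Finite A.toGroup.ker := Finite.of_injective _ (Subgroup.inclusion_injective hle)
  haveI : Finite (Γ ⧸ A.toGroup.ker) := Finite.of_equiv _
    (QuotientGroup.quotientKerEquivOfSurjective _ A.toGroup_surjective).symm.toEquiv
  exact Finite.of_equiv _ (Subgroup.groupEquivQuotientProdSubgroup (s := A.toGroup.ker)).symm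

end StData

namespace CertFull

variable {D : ChevalleyDatum} (c : CertFull D) (F : Type u) [Field F] [Finite F]
include c

/-- The multiplier from the centre of the cover, given that its central extensions split. -/
theorem schurMultiplier_of_lift (hN : checkNbr c.T = true)
    (hperf : commutator (D.SteinbergCover F) = ⊤)
    (hlift : ∀ (E : Type u) [Group E] (π : E →* ↥(D.group F)), Function.Surjective π →
      π.ker ≤ Subgroup.center E → ∃ τ, π.comp τ = (c.stCoverData F).toGroup)
    {n : ℕ} (hcard : Nat.card (Subgroup.center (D.SteinbergCover F)) = n) (hn : n = 1 ∨ n.Prime) :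
    Cfsg.HasCyclicSchurMultiplier ↥(D.group F) n := by
  set A := c.stCoverData F
  haveI := A.finite_of_finite hN
  have hk : A.toGroup.ker = Subgroup.center (D.SteinbergCover F) := by
    rw [A.ker_toGroup, A.ker_eq_center hN]
  obtain ⟨e⟩ := exists_zmod_equiv hcard hn
  exact hasSchurMultiplier_of_universal A.toGroup A.toGroup_surjective hk.le hperf hlift
    (e.trans (MulEquiv.subgroupCongr hk.symm))

theorem card_center_cover (hN : checkNbr c.T = true) :
    Nat.card (Subgroup.center (D.SteinbergCover F)) =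
      Nat.card (Subgroup.center (D.SteinbergGroup F)) := by
  obtain ⟨e, -⟩ := c.exists_cover_equiv F hN
  exact Nat.card_congr (Subgroup.centerCongr e).toEquiv

/-- The large fields. -/
theorem schurMultiplier_of_large (hN : checkNbr c.T = true) (hU : checkUniv c.T = true)
    (hF : ∃ s : Finset F, 4 < s.card)
    {n : ℕ} (hcard : Nat.card (Subgroup.center (D.SteinbergCover F)) = n) (hn : n = 1 ∨ n.Prime) :
    Cfsg.HasCyclicSchurMultiplier ↥(D.group F) n :=
  c.schurMultiplier_of_lift F hN ((c.stCoverData F).perfect_of_large hN hF)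
    (fun E _ π hπ hc => (c.existsUnique_lift F hN hU hF π hπ hc _).exists) hcard hn

end CertFull

end Cfsg.Agent.Lie.Chev
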