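import Cfsg.Agent.Lib.Lie.Chev.TwistSimple
import Cfsg.Agent.Lib.Lie.Chev.AutBorel

/-! An automorphism of a finite twisted group, composed with an inner one, fixes both unipotent
subgroups and permutes the root subgroups of the orbits of fundamental roots. -/

set_option autoImplicit false

namespace Cfsg.Agent.Lie.Chev

open Cfsg.Lie Matrix
open scoped Pointwise

namespace CertFull

variable {D : ChevalleyDatum} (c : CertFull D) {F : Type*} [Field F]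

include c

/-- Conjugation of the group of a set of roots by a word. -/
theorem nw_conj_KS {L : List ℕ} (hL : ∀ p ∈ L, p < D.rank) {S S' : Set ℕ} (hS : ∀ r ∈ S, c.Pos r)
    (hS' : ∀ r ∈ S', c.Pos r) (h : ∀ r ∈ S, c.wl L r ∈ S') {x : GL D.Idx F}
    (hx : x ∈ c.KS F S c.T.h) : c.nw F L * x * (c.nw F L)⁻¹ ∈ c.KS F S' c.T.h := by
  refine (Subgroup.closure_le ((c.KS F S' c.T.h).comap
    (MulAut.conj (c.nw F L)).toMonoidHom)).2 ?_ hx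
  rintro g ⟨r, t, hr, -, rfl⟩
  show c.nw F L * c.xg r t * (c.nw F L)⁻¹ ∈ c.KS F S' c.T.h
  rw [c.nw_mul_xg hL (hS r hr).2, mul_inv_cancel_right]
  exact c.xg_mem_KS (h r hr) (hS' _ (h r hr)).1 _

/-- The torus normalises the group of a set of roots. -/
theorem H_conj_KS {S : Set ℕ} (hS : ∀ r ∈ S, c.Pos r) {a x : GL D.Idx F}
    (ha : a ∈ D.diagonalSubgroup F) (hx : x ∈ c.KS F S c.T.h) :
    a * x * a⁻¹ ∈ c.KS F S c.T.h := by
  refine conj_closure_mem ?_ hx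
  rintro g ⟨r, t, hr, hm, rfl⟩
  rw [c.diagonalSubgroup_eq] at ha
  obtain ⟨z, rfl⟩ := ha
  rw [c.torus_conj_xg z (hS r hr).2]
  exact c.xg_mem_KS hr hm _

/-- A word making all fundamental roots negative makes all positive roots negative. -/
theorem all_neg_of_simple {L : List ℕ} (hL : ∀ p ∈ L, p < D.rank)
    (h : ∀ p < D.rank, ¬ c.Pos (c.wl L (D.simple p))) {r : ℕ} (hr : c.Pos r) :
    ¬ c.Pos (c.wl L r) := by
  intro hp
  obtain ⟨j, hj, hv⟩ := c.exists_vec_pos hp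
  rw [c.wl_vec hL hr.2 hj] at hv
  have : ∑ i ∈ Finset.range D.rank, c.T.vec r i * c.T.vec (c.wl L (D.simple i)) j ≤ 0 := by
    refine Finset.sum_nonpos fun i hi => ?_
    rw [Finset.mem_range] at hi
    exact mul_nonpos_of_nonneg_of_nonpos ((c.vec_nonneg hr.2 hr.1).1 i hi)
      (c.vec_nonpos (c.wl_lt hL (c.simple_lt hi)) (h i hi) hj)
  omega

end CertFull

namespace Twist

variable {D : ChevalleyDatum} {c : CertFull D} {F : Type*} [Field F] {T : Twist c F}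

namespace Datum

variable (Y : Datum T)

/-- `θ` preserves membership in `S`. -/
def FixG (θ : ↥Y.G₁ ≃* ↥Y.G₁) (S : Subgroup (GL D.Idx F)) : Prop :=
  ∀ g : ↥Y.G₁, (θ g : GL D.Idx F) ∈ S ↔ (g : GL D.Idx F) ∈ S

/-- The fixed positive unipotent elements. -/
def U₁ (_Y : Datum T) : Subgroup (GL D.Idx F) := D.posUnipotent F ⊓ T.fix

/-- The fixed negative unipotent elements. -/
def V₁ (_Y : Datum T) : Subgroup (GL D.Idx F) := D.negUnipotent F ⊓ T.fix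

/-- The fixed root group of an orbit. -/
def X (_Y : Datum T) (J : List ℕ) : Subgroup (GL D.Idx F) := c.KS F (c.invSet J) c.T.h ⊓ T.fix

/-- The opposite fixed root group of an orbit. -/
def Xm (J : List ℕ) : Subgroup (GL D.Idx F) :=
  (Y.X J).map (MulAut.conj (c.nw F J)).toMonoidHom

theorem mem_Xm {J : List ℕ} {g : GL D.Idx F} :
    g ∈ Y.Xm J ↔ (c.nw F J)⁻¹ * g * c.nw F J ∈ Y.X J := by
  rw [Xm, Subgroup.mem_map_equiv, MulAut.conj_symm_apply]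

/-- Membership of the minimal parabolic subgroup of an orbit. -/
def InPar (_Y : Datum T) (J : List ℕ) (g : GL D.Idx F) : Prop :=
  g ∈ D.borelSubgroup F ⊓ T.fix ∨ ∃ x ∈ D.borelSubgroup F ⊓ T.fix,
    ∃ y ∈ D.borelSubgroup F ⊓ T.fix, g = x * c.nw F J * y

variable [Finite F]

theorem mem_G₁ {g : GL D.Idx F} (h : g ∈ T.fix) : g ∈ Y.G₁ := by rwa [Y.eq_fix]

theorem U₁_le : Y.U₁ ≤ Y.G₁ := fun _ h => Y.mem_G₁ h.2

theorem V₁_le : Y.V₁ ≤ Y.G₁ := fun _ h => Y.mem_G₁ h.2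

theorem U₁_le_B : Y.U₁ ≤ D.borelSubgroup F ⊓ T.fix := fun _ h =>
  ⟨Subgroup.mem_sup_left h.1, h.2⟩

theorem conj_B_U₁ {b u : GL D.Idx F} (hb : b ∈ D.borelSubgroup F ⊓ T.fix) (hu : u ∈ Y.U₁) :
    b * u * b⁻¹ ∈ Y.U₁ :=
  ⟨c.conj_B_U hb.1 hu.1, mul_mem (mul_mem hb.2 hu.2) (T.fix.inv_mem hb.2)⟩

theorem conj_B_U₁_iff {b u : GL D.Idx F} (hb : b ∈ D.borelSubgroup F ⊓ T.fix) :
    b * u * b⁻¹ ∈ Y.U₁ ↔ u ∈ Y.U₁ := by
  refine ⟨fun h => ?_, Y.conj_B_U₁ hb⟩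
  have := Y.conj_B_U₁ (inv_mem hb) h
  simpa [mul_assoc] using this

theorem H_conj_V₁ {a v : GL D.Idx F} (ha : a ∈ D.diagonalSubgroup F ⊓ T.fix) :
    a * v * a⁻¹ ∈ Y.V₁ ↔ v ∈ Y.V₁ := by
  have key : ∀ a : GL D.Idx F, a ∈ D.diagonalSubgroup F ⊓ T.fix → ∀ v ∈ Y.V₁,
      a * v * a⁻¹ ∈ Y.V₁ := fun a ha v hv =>
    ⟨(c.mem_V_conj ha.1).2 hv.1, mul_mem (mul_mem ha.2 hv.2) (T.fix.inv_mem ha.2)⟩
  refine ⟨fun h => ?_, key a ha v⟩
  have := key _ (inv_mem ha) _ h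
  simpa [mul_assoc] using this

include Y in
theorem exists_fix_ne_one {S : Set ℕ} (hS : c.IsClosed S) (hst : ∀ r ∈ S, T.ρ r ∈ S)
    (hne : S.Nonempty) : ∃ x ∈ c.KS F S c.T.h ⊓ T.fix, x ≠ 1 := by
  haveI : Nonempty S := hne.to_subtype
  haveI : Finite S :=
    Set.Finite.to_subtype ((Set.finite_Iio D.nroots).subset fun r hr => (hS.1 r hr).2)
  have hcard := (Y.G.card_fix_KS Y.lifts hS hst).2
  by_contra hall
  push Not at hall
  have hbot : c.KS F S c.T.h ⊓ T.fix = ⊥ :=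
    eq_bot_iff.2 fun x hx => Subgroup.mem_bot.2 (hall x hx)
  rw [hbot, Subgroup.card_bot, one_pow] at hcard
  have := Finite.one_lt_card (α := F)
  exact (Nat.one_lt_pow Nat.card_pos.ne' this).ne hcard

/-- The normaliser of the fixed positive unipotent subgroup is the fixed Borel subgroup. -/
theorem mem_B_of_conj {g : GL D.Idx F} (hg : g ∈ T.fix)
    (h : ∀ u ∈ Y.U₁, g * u * g⁻¹ ∈ Y.U₁) : g ∈ D.borelSubgroup F := by
  obtain ⟨b, hb, i, hi, u, hu, rfl⟩ := Y.exists_bruhat_fix hg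
  obtain ⟨hw, hC, -⟩ := Y.wd_spec hi
  have huB : u ∈ D.borelSubgroup F ⊓ T.fix :=
    ⟨Subgroup.mem_sup_left (c.KS_invSet_le_U hw hu.1), hu.2⟩
  set n := c.nw F (Y.W.wd i) with hn
  have hn' : ∀ v ∈ Y.U₁, n * v * n⁻¹ ∈ Y.U₁ := by
    intro v hv
    have h1 := h _ (Y.conj_B_U₁ (inv_mem huB) hv)
    rw [← Y.conj_B_U₁_iff hb]
    convert h1 using 1
    group
  by_cases hpos : ∀ q < D.rank, c.Pos (c.wl (Y.W.wd i) (D.simple q))
  · exact mul_mem (mul_mem hb.1 (c.H_le_B (c.nw_mem_H hw hpos))) huB.1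
  push Not at hpos
  obtain ⟨q, hq, hneg⟩ := hpos
  obtain ⟨x, hx, hne⟩ := Y.exists_fix_ne_one (c.invSet_closed hw) (invSet_stable hw hC)
    ⟨D.simple q, c.pos_simple hq, hneg⟩
  have h1 : n * x * n⁻¹ ∈ D.negUnipotent F := by
    simpa [hn] using c.conj_inv_mem_V (one_mem _) hw hx.1
  have h2 := c.borel_inf_negUnipotent.1.le
    ⟨Subgroup.mem_sup_left (hn' x ⟨c.KS_invSet_le_U hw hx.1, hx.2⟩).1, h1⟩
  rw [Subgroup.mem_bot, conj_eq_one_iff] at h2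
  exact absurd h2 hne

theorem isPGroup_U₁ {p : ℕ} [Fact p.Prime] [CharP F p] : IsPGroup p Y.U₁ := by
  cases nonempty_fintype F
  obtain ⟨n, hp, hn⟩ := FiniteField.card F p
  have h := Y.card_U_fix
  rw [Nat.card_eq_fintype_card (α := F), hn, ← pow_mul] at h
  obtain ⟨k, -, hk⟩ := (Nat.dvd_prime_pow hp).1 (Dvd.dvd.trans (dvd_pow_self _ Y.e_pos.ne') h.dvd)
  exact IsPGroup.of_card (n := k) hk

/-- Every subgroup of the order of the fixed unipotent subgroup is a conjugate of it. -/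
theorem exists_conj_U₁ (S : Subgroup ↥Y.G₁)
    (hS : Nat.card S = Nat.card (Y.U₁.subgroupOf Y.G₁)) :
    ∃ x : ↥Y.G₁, ∀ g : ↥Y.G₁, g ∈ S ↔ ((x * g * x⁻¹ : ↥Y.G₁) : GL D.Idx F) ∈ Y.U₁ := by
  cases nonempty_fintype F
  obtain ⟨p, hchar⟩ := CharP.exists F
  obtain ⟨n, hp, hn⟩ := FiniteField.card F p
  haveI := Fact.mk hp
  set U' := Y.U₁.subgroupOf Y.G₁ with hU'
  have hPU : IsPGroup p U' :=
    (Y.isPGroup_U₁ (p := p)).of_equiv (Subgroup.subgroupOfEquivOfLe Y.U₁_le).symm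
  obtain ⟨Q, hQ⟩ := hPU.exists_le_sylow
  have hQU : (Q : Subgroup ↥Y.G₁) = U' := by
    refine le_antisymm ?_ hQ
    haveI : Group.IsNilpotent ↥(Q : Subgroup ↥Y.G₁) := Q.2.isNilpotent
    by_contra hle
    set U'' := U'.subgroupOf (Q : Subgroup ↥Y.G₁) with hU''
    have hlt : U'' < ⊤ := by
      rw [lt_top_iff_ne_top, hU'', Ne, Subgroup.subgroupOf_eq_top]
      exact hle
    obtain ⟨⟨x, hxQ⟩, hxN, hxU⟩ :=
      SetLike.exists_of_lt (Group.normalizerCondition_of_isNilpotent U'' hlt)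
    have hxB : (x : GL D.Idx F) ∈ D.borelSubgroup F := by
      refine Y.mem_B_of_conj (Y.le_fix x.2) fun u hu => ?_
      have h1 := (Subgroup.mem_normalizer_iff.1 hxN
        (⟨⟨u, Y.U₁_le hu⟩, hQ hu⟩ : ↥(Q : Subgroup ↥Y.G₁))).1 hu
      exact h1
    obtain ⟨k, hk⟩ := IsPGroup.iff_orderOf.1 Q.2 ⟨x, hxQ⟩
    have hcop : (Fintype.card F - 1).Coprime (orderOf (x : GL D.Idx F)) := by
      rw [Subgroup.orderOf_coe, ← Subgroup.orderOf_mk x hxQ, hk, hn]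
      refine Nat.Coprime.pow_right _ ((Nat.Prime.coprime_iff_not_dvd hp).2 fun hd => ?_).symm
      have h2 : p ∣ p ^ (n : ℕ) := dvd_pow_self _ n.2.ne'
      have h3 := Nat.dvd_sub h2 hd
      rw [Nat.sub_sub_self (Nat.one_le_pow _ _ hp.pos)] at h3
      exact hp.one_lt.ne' (Nat.dvd_one.1 h3)
    exact hxU ⟨c.mem_U_of_coprime hxB hcop, Y.le_fix x.2⟩
  obtain ⟨k, hk⟩ := IsPGroup.iff_card.1 hPU
  obtain ⟨R, hR⟩ := (IsPGroup.of_card (G := S) (n := k) (hS.trans hk)).exists_le_sylow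
  obtain ⟨x, hx⟩ := MulAction.exists_smul_eq ↥Y.G₁ R Q
  have hcR : Nat.card (R : Subgroup ↥Y.G₁) = Nat.card U' := by
    rw [← hQU]; exact Sylow.card_eq_multiplicity R |>.trans (Sylow.card_eq_multiplicity Q).symm
  have hSR : S = R := Subgroup.eq_of_le_of_card_ge hR (by rw [hcR, hS])
  refine ⟨x, fun g => ?_⟩
  rw [hSR]
  have e : (Q : Subgroup ↥Y.G₁) = MulAut.conj x • (R : Subgroup ↥Y.G₁) := by
    rw [← hx]; rfl
  have : x * g * x⁻¹ ∈ (Q : Subgroup ↥Y.G₁) ↔ g ∈ (R : Subgroup ↥Y.G₁) := by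
    rw [e, ← MulAut.conj_apply, ← MulAut.smul_def]
    exact Subgroup.smul_mem_pointwise_smul_iff
  rw [← this, hQU]
  exact Subgroup.mem_subgroupOf

section Top

variable {i : ℕ} (hi : i < Y.W.N) (htop : ∀ p < D.rank, ¬ c.Pos (c.wl (Y.W.wd i) (D.simple p)))

include hi htop

theorem conj_top_iff {g : GL D.Idx F} : g ∈ Y.U₁ ↔
    c.nw F (Y.W.wd i) * g * (c.nw F (Y.W.wd i))⁻¹ ∈ Y.V₁ := by
  have hL := (Y.wd_spec hi).1
  have hn := Y.nw_wd_fix hi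
  have h := c.mem_U_iff_conj_mem_V (F := F) (one_mem _) hL
    (fun r hr => c.all_neg_of_simple hL htop hr) g
  rw [one_mul] at h
  constructor
  · exact fun hg => ⟨h.1 hg.1, mul_mem (mul_mem hn hg.2) (T.fix.inv_mem hn)⟩
  · refine fun hg => ⟨h.2 hg.1, ?_⟩
    have := mul_mem (mul_mem (inv_mem hn) hg.2) hn
    simpa [mul_assoc] using this

theorem card_V₁ : Nat.card Y.V₁ = Nat.card Y.U₁ := by
  refine Nat.card_congr ((MulAut.conj (c.nw F (Y.W.wd i))).toEquiv.symm.subtypeEquiv fun g => ?_)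
  rw [Y.conj_top_iff hi htop]
  simp [mul_assoc]

/-- An automorphism differs by an inner one from one fixing `U₁` and `V₁`. -/
theorem exists_fix_UV (θ : ↥Y.G₁ ≃* ↥Y.G₁) :
    ∃ x : ↥Y.G₁, Y.FixG (θ.trans (MulAut.conj x)) Y.U₁ ∧
      Y.FixG (θ.trans (MulAut.conj x)) Y.V₁ := by
  have hcard : ∀ ψ : ↥Y.G₁ ≃* ↥Y.G₁, ∀ S : Subgroup ↥Y.G₁,
      Nat.card (S.map ψ.toMonoidHom) = Nat.card S := fun ψ S =>
    Subgroup.card_map_of_injective ψ.injective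
  obtain ⟨x, hx⟩ := Y.exists_conj_U₁ ((Y.U₁.subgroupOf Y.G₁).map θ.toMonoidHom) (hcard θ _)
  set θ₁ := θ.trans (MulAut.conj x) with hθ₁
  have hU : Y.FixG θ₁ Y.U₁ := by
    intro g
    rw [show θ₁ g = x * θ g * x⁻¹ from rfl, ← hx, Subgroup.mem_map_equiv, Subgroup.mem_subgroupOf]
    simp
  have hVc : Nat.card ((Y.V₁.subgroupOf Y.G₁).map θ₁.toMonoidHom) =
      Nat.card (Y.U₁.subgroupOf Y.G₁) := by
    rw [hcard θ₁, Nat.card_congr (Subgroup.subgroupOfEquivOfLe Y.V₁_le).toEquiv,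
      Nat.card_congr (Subgroup.subgroupOfEquivOfLe Y.U₁_le).toEquiv, Y.card_V₁ hi htop]
  obtain ⟨y, hy⟩ := Y.exists_conj_U₁ _ hVc
  have hy' : ∀ g : ↥Y.G₁, (g : GL D.Idx F) ∈ Y.V₁ ↔
      (y : GL D.Idx F) * (θ₁ g : GL D.Idx F) * (y : GL D.Idx F)⁻¹ ∈ Y.U₁ := by
    intro g
    have h := hy (θ₁ g)
    rw [Subgroup.mem_map_equiv, MulEquiv.symm_apply_apply, Subgroup.mem_subgroupOf] at h
    simpa using h
  obtain ⟨b, hb, j, hj, u, hu, e⟩ := Y.exists_bruhat_fix (inv_mem (Y.le_fix y.2))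
  obtain ⟨hw, hC, -⟩ := Y.wd_spec hj
  set n := c.nw F (Y.W.wd j) with hn
  have hnfix := Y.nw_wd_fix hj
  have huB : u ∈ D.borelSubgroup F ⊓ T.fix :=
    ⟨Subgroup.mem_sup_left (c.KS_invSet_le_U hw hu.1), hu.2⟩
  have hlong : ∀ r, c.Pos r → ¬ c.Pos (c.wl (Y.W.wd j) r) := by
    intro r hr hp
    obtain ⟨z, hz, hne⟩ := Y.exists_fix_ne_one (c.keepSet_closed hw)
      (fun s hs => ⟨T.ρ_pos s hs.1, by rw [hC s hs.1.2]; exact T.ρ_pos _ hs.2⟩) ⟨r, hr, hp⟩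
    have hzU : z ∈ Y.U₁ := ⟨c.KS_le_U (c.keepSet_closed hw) _ hz.1, hz.2⟩
    have hnz : n * z * n⁻¹ ∈ Y.U₁ := by
      refine ⟨?_, mul_mem (mul_mem hnfix hz.2) (T.fix.inv_mem hnfix)⟩
      rw [c.U_eq_KS]
      exact c.nw_conj_KS (S := c.keepSet (Y.W.wd j)) (S' := c.keepSet []) hw (fun s hs => hs.1) (fun s hs => hs.1)
        (fun s (hs : s ∈ c.keepSet (Y.W.wd j)) => (⟨hs.2, hs.2⟩ : _ ∧ _)) hz.1
    -- a non-trivial element of the image of `V₁` inside `U₁`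
    set w := b * (n * z * n⁻¹) * b⁻¹ with hwdef
    have hwU : w ∈ Y.U₁ := Y.conj_B_U₁ hb hnz
    obtain ⟨g, hg⟩ := θ₁.surjective ⟨w, Y.U₁_le hwU⟩
    have hgU : (g : GL D.Idx F) ∈ Y.U₁ := (hU g).1 (by rw [hg]; exact hwU)
    have hgV : (g : GL D.Idx F) ∈ Y.V₁ := by
      rw [hy', hg]
      have h1 := Y.conj_B_U₁ (inv_mem huB) hzU
      have h2 : (y : GL D.Idx F) * w * (y : GL D.Idx F)⁻¹ = u⁻¹ * z * u⁻¹⁻¹ := by
        rw [show (y : GL D.Idx F) = (b * n * u)⁻¹ by rw [← e, inv_inv], hwdef]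
        group
      exact h2 ▸ h1
    have h1 := c.borel_inf_negUnipotent.1.le ⟨Subgroup.mem_sup_left hgU.1, hgV.1⟩
    rw [Subgroup.mem_bot] at h1
    rw [show g = 1 from Subtype.ext h1, map_one] at hg
    have h2 : w = 1 := (congrArg Subtype.val hg).symm
    rw [hwdef, conj_eq_one_iff, conj_eq_one_iff] at h2
    exact hne h2
  obtain ⟨v, hv, d, hd, rfl⟩ := T.borel_fix hb
  refine ⟨⟨v, Y.U₁_le hv⟩⁻¹ * x, fun g => ?_, fun g => ?_⟩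
  · rw [map_mul]
    show (v⁻¹ * (θ₁ g : GL D.Idx F) * v⁻¹⁻¹) ∈ _ ↔ _
    rw [← hU g, Y.conj_B_U₁_iff (inv_mem (Y.U₁_le_B hv))]
  · rw [map_mul]
    show (v⁻¹ * (θ₁ g : GL D.Idx F) * v⁻¹⁻¹) ∈ _ ↔ _
    have hj' : ∀ {z : GL D.Idx F}, z ∈ Y.U₁ ↔ n * z * n⁻¹ ∈ Y.V₁ := fun {z} =>
      Y.conj_top_iff hj (fun p hp => hlong _ (c.pos_simple hp))
    rw [hy' g, show (y : GL D.Idx F) = (v * d * n * u)⁻¹ by rw [← e, inv_inv]]
    rw [← Y.conj_B_U₁_iff huB, hj', ← Y.H_conj_V₁ (inv_mem hd)]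
    have : ∀ A B : GL D.Idx F, A = B → (A ∈ Y.V₁ ↔ B ∈ Y.V₁) := fun A B h => by rw [h]
    exact this _ _ (by group)

end Top

variable {θ : ↥Y.G₁ ≃* ↥Y.G₁}

theorem fixG_symm {S : Subgroup (GL D.Idx F)} (h : Y.FixG θ S) : Y.FixG θ.symm S := fun g => by
  rw [← h, MulEquiv.apply_symm_apply]

theorem mem_B_iff_conj {g : ↥Y.G₁} : (g : GL D.Idx F) ∈ D.borelSubgroup F ↔
    ∀ u : ↥Y.G₁, (u : GL D.Idx F) ∈ Y.U₁ → ((g * u * g⁻¹ : ↥Y.G₁) : GL D.Idx F) ∈ Y.U₁ := by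
  refine ⟨fun h u hu => Y.conj_B_U₁ ⟨h, Y.le_fix g.2⟩ hu, fun h => ?_⟩
  exact Y.mem_B_of_conj (Y.le_fix g.2) fun u hu => h ⟨u, Y.U₁_le hu⟩ hu

theorem fix_B (hU : Y.FixG θ Y.U₁) (g : ↥Y.G₁) :
    (θ g : GL D.Idx F) ∈ D.borelSubgroup F ↔ (g : GL D.Idx F) ∈ D.borelSubgroup F := by
  rw [Y.mem_B_iff_conj, Y.mem_B_iff_conj]
  constructor
  · intro h u hu
    rw [← hU, map_mul, map_mul, map_inv]
    exact h _ ((hU u).2 hu)
  · intro h u hu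
    obtain ⟨w, rfl⟩ := θ.surjective u
    rw [← map_inv, ← map_mul, ← map_mul, hU]
    exact h w ((hU w).1 hu)

/-- The fixed torus: the elements of the Borel subgroup normalising `V₁`. -/
theorem mem_H_iff {i : ℕ} (hi : i < Y.W.N)
    (htop : ∀ p < D.rank, ¬ c.Pos (c.wl (Y.W.wd i) (D.simple p))) {g : ↥Y.G₁} :
    (g : GL D.Idx F) ∈ D.diagonalSubgroup F ↔ (g : GL D.Idx F) ∈ D.borelSubgroup F ∧
      ∀ v : ↥Y.G₁, (v : GL D.Idx F) ∈ Y.V₁ → ((g * v * g⁻¹ : ↥Y.G₁) : GL D.Idx F) ∈ Y.V₁ := by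
  refine ⟨fun h => ⟨c.H_le_B h, fun v hv => (Y.H_conj_V₁ ⟨h, Y.le_fix g.2⟩).2 hv⟩,
    fun ⟨hB, hV⟩ => ?_⟩
  obtain ⟨u, hu, a, ha, e⟩ := T.borel_fix ⟨hB, Y.le_fix g.2⟩
  set n := c.nw F (Y.W.wd i) with hn
  have hnfix := Y.nw_wd_fix hi
  have huV : ∀ w ∈ Y.V₁, u * w * u⁻¹ ∈ Y.V₁ := by
    intro w hw
    have hw' : a⁻¹ * w * a⁻¹⁻¹ ∈ Y.V₁ := (Y.H_conj_V₁ (inv_mem ha)).2 hw
    have h1 := hV ⟨_, Y.V₁_le hw'⟩ hw'
    simp only [Subgroup.coe_mul, Subgroup.coe_inv, e] at h1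
    convert h1 using 1
    group
  have hm : n⁻¹ * u * n ∈ D.borelSubgroup F := by
    refine Y.mem_B_of_conj (mul_mem (mul_mem (inv_mem hnfix) hu.2) hnfix) fun z hz => ?_
    rw [Y.conj_top_iff hi htop] at hz ⊢
    rw [← hn] at hz ⊢
    have := huV _ hz
    convert this using 1
    group
  obtain ⟨w, hw, b, hb, e2⟩ := c.mem_borel_iff.1 hm
  have hL := (Y.wd_spec hi).1
  have hlong : ∀ r, c.Pos r → ¬ c.Pos (c.wl (Y.W.wd i) r) := fun r hr =>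
    c.all_neg_of_simple hL htop hr
  have hu2 : u ∈ D.diagonalSubgroup F := by
    refine c.borel_inf_negUnipotent.2.le ⟨Subgroup.mem_sup_left hu.1, ?_⟩
    rw [show u = (n * w * n⁻¹) * (n * b * n⁻¹) by
      rw [show n * w * n⁻¹ * (n * b * n⁻¹) = n * (w * b) * n⁻¹ by group, ← e2]; group]
    refine mul_mem (Subgroup.mem_sup_left ?_)
      (Subgroup.mem_sup_right (c.N_conj_H (c.nw_mem_N hL) hb))
    have := (c.mem_U_iff_conj_mem_V (one_mem _) hL hlong w).1 hw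
    rwa [one_mul] at this
  rw [e]
  exact mul_mem hu2 ha.1

theorem fix_H {i : ℕ} (hi : i < Y.W.N)
    (htop : ∀ p < D.rank, ¬ c.Pos (c.wl (Y.W.wd i) (D.simple p)))
    (hU : Y.FixG θ Y.U₁) (hV : Y.FixG θ Y.V₁) (g : ↥Y.G₁) :
    (θ g : GL D.Idx F) ∈ D.diagonalSubgroup F ↔ (g : GL D.Idx F) ∈ D.diagonalSubgroup F := by
  rw [Y.mem_H_iff hi htop, Y.mem_H_iff hi htop, Y.fix_B hU]
  refine and_congr_right fun _ => ⟨fun h v hv => ?_, fun h v hv => ?_⟩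
  · rw [← hV, map_mul, map_mul, map_inv]
    exact h _ ((hV v).2 hv)
  · obtain ⟨w, rfl⟩ := θ.surjective v
    rw [← map_inv, ← map_mul, ← map_mul, hV]
    exact h w ((hV w).1 hv)

/-! ### The parabolic subgroups -/

theorem exists_par {J : List ℕ} (hJ : J ∈ Y.W.Jw) :
    ∃ P : Subgroup (GL D.Idx F), ∀ g, g ∈ P ↔ Y.InPar J g := by
  obtain ⟨-, hlt, -⟩ := Y.W.J_spec hJ
  have hfix : ∀ {g}, Y.InPar J g → g ∈ T.fix := by
    rintro g (h | ⟨x, hx, y, hy, rfl⟩)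
    exacts [h.2, mul_mem (mul_mem hx.2 (Y.nw_J_fix hJ)) hy.2]
  have hform : ∀ {g}, Y.InPar J g → ∃ L : List ℕ, (∀ p ∈ L, p ∈ J) ∧
      ∃ x ∈ D.borelSubgroup F, ∃ y ∈ D.borelSubgroup F, g = x * c.nw F L * y := by
    rintro g (h | ⟨x, hx, y, hy, rfl⟩)
    · exact ⟨[], by simp, g, h.1, 1, one_mem _, by simp⟩
    · exact ⟨J, fun _ h => h, x, hx.1, y, hy.1, rfl⟩
  refine ⟨⟨⟨⟨{g | Y.InPar J g}, fun {a b} ha hb => ?_⟩, Or.inl (one_mem _)⟩, fun {a} ha => ?_⟩,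
    fun g => Iff.rfl⟩
  · obtain ⟨L, hL, x, hx, y, hy, ea⟩ := hform ha
    obtain ⟨L', hL', x', hx', y', hy', eb⟩ := hform hb
    obtain ⟨z, hz, K, hK, z', hz', e⟩ := orbit_mul hlt hL (mul_mem hy hx') hL'
    refine Y.parabolic_fix hJ (mul_mem (hfix ha) (hfix hb)) hK (mul_mem hx hz) (mul_mem hz' hy') ?_
    rw [ea, eb, show x * c.nw F L * y * (x' * c.nw F L' * y') =
      x * (c.nw F L * (y * x') * c.nw F L') * y' by group, e]
    group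
  · rcases ha with h | ⟨x, hx, y, hy, rfl⟩
    · exact Or.inl (inv_mem h)
    have hsq := Y.nJ_sq hJ
    refine Or.inr ⟨y⁻¹ * (c.nw F J * c.nw F J)⁻¹, mul_mem (inv_mem hy)
      (inv_mem ⟨c.H_le_B hsq.1, hsq.2⟩), x⁻¹, inv_mem hx, ?_⟩
    group

theorem nJ_notMem_B {J : List ℕ} (hJ : J ∈ Y.W.Jw) : c.nw F J ∉ D.borelSubgroup F := by
  obtain ⟨hne, hlt, hC, -, hJneg, -⟩ := Y.W.J_spec hJ
  intro hB
  obtain ⟨x, hx, hne'⟩ := Y.exists_ne_one hJ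
  have h1 : c.nw F J * x * (c.nw F J)⁻¹ ∈ D.negUnipotent F := by
    simpa using c.conj_inv_mem_V (one_mem _) hlt hx.1
  have h2 := c.borel_inf_negUnipotent.1.le
    ⟨mul_mem (mul_mem hB (Subgroup.mem_sup_left (c.KS_invSet_le_U hlt hx.1))) ((D.borelSubgroup F).inv_mem hB), h1⟩
  rw [Subgroup.mem_bot, conj_eq_one_iff] at h2
  exact hne' h2

theorem nJ_inPar_iff {J K : List ℕ} (hJ : J ∈ Y.W.Jw) (hK : K ∈ Y.W.Jw) :
    Y.InPar J (c.nw F K) ↔ K = J := by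
  constructor
  · rintro (h | ⟨x, hx, y, hy, e⟩)
    · exact absurd h.1 (Y.nJ_notMem_B hK)
    obtain ⟨hKne, hKlt, -, -, hKneg, -⟩ := Y.W.J_spec hK
    obtain ⟨-, hJlt, -, -, -, -, hsup⟩ := Y.W.J_spec hJ
    have hs : c.Same K J := c.same_of_coset hKlt hJlt (one_mem _) (one_mem _) hx.1 hy.1
      (by rw [one_mul, mul_one]; exact e)
    obtain ⟨p, hp⟩ := List.exists_mem_of_ne_nil K hKne
    have hpl := hKlt p hp
    have hmem : D.simple p ∈ c.invSet J := ⟨c.pos_simple hpl, hs p hpl ▸ hKneg p hp⟩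
    exact Y.disjoint K hK J hJ p hp
      (hsup _ hmem p hpl (by rw [c.vec_simple hpl hpl, if_pos rfl]; exact one_ne_zero))
  · rintro rfl
    exact Or.inr ⟨1, one_mem _, 1, one_mem _, by simp⟩

theorem exists_nJ_mem {M : Subgroup ↥Y.G₁} (hM : Y.bnPair.B ≤ M)
    {m : ↥Y.G₁} (hm : m ∈ M) (hmB : (m : GL D.Idx F) ∉ D.borelSubgroup F) :
    ∃ J ∈ Y.W.Jw, ∃ n ∈ M, (n : GL D.Idx F) = c.nw F J := by
  by_contra hne
  push Not at hne
  have hJ : {s | s ∈ Y.bnPair.S ∧ s ∈ M} = (∅ : Set ↥Y.G₁) := by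
    refine Set.eq_empty_iff_forall_notMem.2 ?_
    rintro s ⟨⟨J, hJ, hs⟩, hsM⟩
    exact hne J hJ s hsM hs
  rw [Lie.eq_parabolic Y.bnPair M hM, hJ, Cfsg.BNPair.parabolic, Subgroup.closure_empty,
    sup_bot_eq] at hm
  exact hmB hm.1

theorem exists_inPar_image (hU : Y.FixG θ Y.U₁) {J : List ℕ} (hJ : J ∈ Y.W.Jw) :
    ∃ K ∈ Y.W.Jw, ∀ g : ↥Y.G₁, Y.InPar K (θ g : GL D.Idx F) → Y.InPar J (g : GL D.Idx F) := by
  obtain ⟨P, hP⟩ := Y.exists_par hJ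
  set M := (P.subgroupOf Y.G₁).map θ.toMonoidHom with hMdef
  have hM : ∀ g : ↥Y.G₁, θ g ∈ M ↔ Y.InPar J (g : GL D.Idx F) := by
    intro g
    rw [hMdef, Subgroup.mem_map_equiv, MulEquiv.symm_apply_apply, Subgroup.mem_subgroupOf, hP]
  have hBM : Y.bnPair.B ≤ M := by
    intro g hg
    obtain ⟨h, rfl⟩ := θ.surjective g
    exact (hM h).2 (Or.inl ⟨(Y.fix_B hU h).1 hg.1, Y.le_fix h.2⟩)
  let m : ↥Y.G₁ := ⟨c.nw F J, Y.n_mem J hJ⟩
  obtain ⟨K, hK, n, hn, en⟩ := Y.exists_nJ_mem hBM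
    ((hM m).2 ((Y.nJ_inPar_iff hJ hJ).2 rfl))
    (fun h => Y.nJ_notMem_B hJ ((Y.fix_B hU m).1 h))
  refine ⟨K, hK, fun g hg => (hM g).1 ?_⟩
  rcases hg with hg | ⟨x, hx, y, hy, e⟩
  · exact hBM ⟨hg.1, Y.mem_G₁ hg.2⟩
  rw [show θ g = ⟨x, Y.mem_G₁ hx.2⟩ * n * ⟨y, Y.mem_G₁ hy.2⟩ from Subtype.ext (by
    simp only [Subgroup.coe_mul, en, e])]
  exact mul_mem (mul_mem (hBM ⟨hx.1, Y.mem_G₁ hx.2⟩) hn) (hBM ⟨hy.1, Y.mem_G₁ hy.2⟩)

theorem exists_inPar_perm (hU : Y.FixG θ Y.U₁) {J : List ℕ} (hJ : J ∈ Y.W.Jw) :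
    ∃ K ∈ Y.W.Jw, ∀ g : ↥Y.G₁,
      Y.InPar K (θ g : GL D.Idx F) ↔ Y.InPar J (g : GL D.Idx F) := by
  obtain ⟨K, hK, h1⟩ := Y.exists_inPar_image hU hJ
  obtain ⟨R, hR, h2⟩ := Y.exists_inPar_image (Y.fixG_symm hU) hK
  have h3 : ∀ g : ↥Y.G₁, Y.InPar R (g : GL D.Idx F) → Y.InPar K (θ g : GL D.Idx F) :=
    fun g hg => h2 (θ g) (by rwa [MulEquiv.symm_apply_apply])
  obtain rfl : R = J := (Y.nJ_inPar_iff hJ hR).1
    (h1 ⟨_, Y.n_mem R hR⟩ (h3 ⟨_, Y.n_mem R hR⟩ ((Y.nJ_inPar_iff hR hR).2 rfl)))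
  exact ⟨K, hK, fun g => ⟨h1 g, h3 g⟩⟩

theorem X_fix {J : List ℕ} {x : GL D.Idx F} (h : x ∈ Y.X J) : x ∈ T.fix := h.2

theorem Xm_le_V₁ {J : List ℕ} (hJ : J ∈ Y.W.Jw) : Y.Xm J ≤ Y.V₁ := by
  obtain ⟨-, hlt, -⟩ := Y.W.J_spec hJ
  rintro g ⟨x, hx, rfl⟩
  exact ⟨by simpa using c.conj_inv_mem_V (one_mem _) hlt hx.1,
    mul_mem (mul_mem (Y.nw_J_fix hJ) hx.2) (T.fix.inv_mem (Y.nw_J_fix hJ))⟩

theorem Xm_inPar {J : List ℕ} (hJ : J ∈ Y.W.Jw) {g : GL D.Idx F} (hg : g ∈ Y.Xm J) :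
    Y.InPar J g := by
  obtain ⟨-, hlt, -⟩ := Y.W.J_spec hJ
  obtain ⟨P, hP⟩ := Y.exists_par hJ
  obtain ⟨x, hx, rfl⟩ := hg
  have hn : c.nw F J ∈ P := (hP _).2 ((Y.nJ_inPar_iff hJ hJ).2 rfl)
  have hxP : x ∈ P := (hP _).2 (Or.inl ⟨Subgroup.mem_sup_left (c.KS_invSet_le_U hlt hx.1), hx.2⟩)
  exact (hP _).1 (mul_mem (mul_mem hn hxP) (inv_mem hn))

/-- An element of the parabolic outside the Borel subgroup in split form. -/
theorem inPar_split {J : List ℕ} (hJ : J ∈ Y.W.Jw) {g : GL D.Idx F} (h : Y.InPar J g)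
    (hB : g ∉ D.borelSubgroup F) :
    ∃ b ∈ D.borelSubgroup F ⊓ T.fix, ∃ w ∈ Y.X J, g = b * c.nw F J * w := by
  rcases h with h | ⟨x, hx, y, hy, rfl⟩
  · exact absurd h.1 hB
  obtain ⟨u, hu, a, ha, rfl⟩ := T.borel_fix hy
  obtain ⟨-, hlt, hC, -⟩ := Y.W.J_spec hJ
  have hu' : a⁻¹ * u * a ∈ Y.U₁ := by
    have := Y.conj_B_U₁ (inv_mem (⟨c.H_le_B ha.1, ha.2⟩ : a ∈ D.borelSubgroup F ⊓ T.fix)) hu
    rwa [inv_inv] at this
  obtain ⟨k, hk, w, hw, e⟩ := Y.keep_split hJ hu'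
  set n := c.nw F J with hn
  have hnk : n * k * n⁻¹ ∈ D.borelSubgroup F ⊓ T.fix := by
    refine ⟨Subgroup.mem_sup_left ?_, mul_mem (mul_mem (Y.nw_J_fix hJ) hk.2)
      (T.fix.inv_mem (Y.nw_J_fix hJ))⟩
    rw [c.U_eq_KS]
    exact c.nw_conj_KS (S := c.keepSet J) (S' := c.keepSet []) hlt (fun s hs => hs.1)
      (fun s hs => hs.1) (fun s hs => (⟨hs.2, hs.2⟩ : _ ∧ _)) hk.1
  have hna : n * a * n⁻¹ ∈ D.borelSubgroup F ⊓ T.fix :=
    ⟨c.H_le_B (c.N_conj_H (c.nw_mem_N hlt) ha.1),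
      mul_mem (mul_mem (Y.nw_J_fix hJ) ha.2) (T.fix.inv_mem (Y.nw_J_fix hJ))⟩
  refine ⟨x * (n * a * n⁻¹) * (n * k * n⁻¹), mul_mem (mul_mem hx hna) hnk, w, hw, ?_⟩
  rw [show u * a = a * (k * w) by rw [← e]; group]
  group

/-- The negative unipotent elements of a parabolic subgroup. -/
theorem inPar_V_iff {J : List ℕ} (hJ : J ∈ Y.W.Jw) {g : GL D.Idx F} :
    Y.InPar J g ∧ g ∈ Y.V₁ ↔ g ∈ Y.Xm J := by
  refine ⟨fun ⟨h, hV⟩ => ?_, fun h => ⟨Y.Xm_inPar hJ h, Y.Xm_le_V₁ hJ h⟩⟩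
  obtain ⟨-, hlt, -⟩ := Y.W.J_spec hJ
  have zero : ∀ {g : GL D.Idx F}, g ∈ D.borelSubgroup F → g ∈ D.negUnipotent F → g = 1 :=
    fun h1 h2 => Subgroup.mem_bot.1 (c.borel_inf_negUnipotent.1.le ⟨h1, h2⟩)
  by_cases hgB : g ∈ D.borelSubgroup F
  · rw [zero hgB hV.1]; exact one_mem _
  -- the second factor determines an element of the parabolic lying in `V`
  classical
  let P' := {z : GL D.Idx F // z ∈ Y.Xm J ∧ z ≠ 1}
  have hsplit : ∀ z : P', ∃ w ∈ Y.X J, ∃ b ∈ D.borelSubgroup F ⊓ T.fix,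
      z.1 = b * c.nw F J * w := fun z => by
    obtain ⟨b, hb, w, hw, e⟩ := Y.inPar_split hJ (Y.Xm_inPar hJ z.2.1)
      (fun hB => z.2.2 (zero hB (Y.Xm_le_V₁ hJ z.2.1).1))
    exact ⟨w, hw, b, hb, e⟩
  choose f hf b hb he using hsplit
  have hf1 : ∀ z, f z ≠ 1 := by
    intro z e1
    have h := he z
    rw [e1, mul_one] at h
    obtain ⟨x, hx, ex⟩ := z.2.1
    set n := c.nw F J
    have h2 : n * x = b z * (n * n) := by
      rw [← mul_assoc, ← h, ← ex]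
      simp [mul_assoc, n]
    have hnB : n ∈ D.borelSubgroup F := by
      rw [show n = b z * (n * n) * x⁻¹ by rw [← h2, mul_inv_cancel_right]]
      exact mul_mem (mul_mem (hb z).1 (c.H_le_B (Y.nJ_sq hJ).1))
        (inv_mem (Subgroup.mem_sup_left (c.KS_invSet_le_U hlt hx.1)))
    exact Y.nJ_notMem_B hJ hnB
  let F' : P' → {w : GL D.Idx F // w ∈ Y.X J ∧ w ≠ 1} := fun z => ⟨f z, hf z, hf1 z⟩
  have hinj : Function.Injective F' := by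
    intro z z' e
    have ew : f z = f z' := congrArg Subtype.val e
    have h1 : z.1 * z'.1⁻¹ = b z * (b z')⁻¹ := by rw [he z, he z', ew]; group
    have h2 := zero (h1 ▸ mul_mem (hb z).1 (inv_mem (hb z').1))
      (mul_mem (Y.Xm_le_V₁ hJ z.2.1).1 (inv_mem (Y.Xm_le_V₁ hJ z'.2.1).1))
    exact Subtype.ext (mul_inv_eq_one.1 h2)
  let e' : P' ≃ {w : GL D.Idx F // w ∈ Y.X J ∧ w ≠ 1} :=
    (MulAut.conj (c.nw F J)).toEquiv.symm.subtypeEquiv fun z => by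
      rw [Y.mem_Xm]
      simp only [mul_assoc, Equiv.symm_symm, MulEquiv.toEquiv_eq_coe, MulEquiv.coe_toEquiv_symm,
        MulAut.conj_symm_apply, ne_eq]
      refine and_congr_right fun _ => not_congr ⟨fun h => by rw [h]; simp, fun h => ?_⟩
      have := congrArg (fun a => c.nw F J * a * (c.nw F J)⁻¹) h
      simpa [mul_assoc] using this
  have hsurj : Function.Surjective F' :=
    (Finite.injective_iff_surjective (f := e'.symm ∘ F')).1 (e'.symm.injective.comp hinj) |>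
      fun h w => (h (e'.symm w)).imp fun z hz => e'.symm.injective hz
  obtain ⟨b₀, hb₀, w, hw, e⟩ := Y.inPar_split hJ h hgB
  by_cases hw1 : w = 1
  · exfalso
    rw [hw1, mul_one] at e
    obtain ⟨i, hi, htop⟩ := Y.top
    obtain ⟨hL, -, -⟩ := Y.wd_spec hi
    set n := c.nw F (Y.W.wd i) with hn
    have hz : n⁻¹ * g * n ∈ D.posUnipotent F := by
      rw [c.mem_U_iff_conj_mem_V (one_mem _) hL (fun r hr => c.all_neg_of_simple hL htop hr),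
        one_mul, ← hn]
      simpa [mul_assoc] using hV.1
    have h1 := c.bruhat_unique (one_mem _) hb₀.1 (c.nw_mem_N hL)
      (mul_mem (c.nw_mem_N hlt) (c.nw_mem_N hL)) hz (one_mem _) (by rw [← hn, e]; group)
    rw [← hn] at h1
    have h2 : c.nw F J ∈ D.borelSubgroup F := by
      have := c.N_conj_H (F := F) (c.nw_mem_N hL) h1
      simpa [mul_assoc, hn] using c.H_le_B this
    exact Y.nJ_notMem_B hJ h2
  · obtain ⟨z, hz⟩ := hsurj ⟨w, hw, hw1⟩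
    have ew : f z = w := congrArg Subtype.val hz
    have h1 : g * z.1⁻¹ = b₀ * (b z)⁻¹ := by rw [e, he z, ew]; group
    have h2 := zero (h1 ▸ mul_mem hb₀.1 (inv_mem (hb z).1))
      (mul_mem hV.1 (inv_mem (Y.Xm_le_V₁ hJ z.2.1).1))
    rw [mul_inv_eq_one.1 h2]
    exact z.2.1

/-- The negative root groups are permuted. -/
theorem exists_neg_image (hU : Y.FixG θ Y.U₁) (hV : Y.FixG θ Y.V₁) {J : List ℕ}
    (hJ : J ∈ Y.W.Jw) : ∃ K ∈ Y.W.Jw, ∀ g : ↥Y.G₁,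
      (θ g : GL D.Idx F) ∈ Y.Xm K ↔ (g : GL D.Idx F) ∈ Y.Xm J := by
  obtain ⟨K, hK, h⟩ := Y.exists_inPar_perm hU hJ
  exact ⟨K, hK, fun g => by rw [← Y.inPar_V_iff hK, ← Y.inPar_V_iff hJ, h, hV]⟩

/-- The positive root groups are permuted. -/
theorem exists_pos_image {i : ℕ} (hi : i < Y.W.N)
    (htop : ∀ p < D.rank, ¬ c.Pos (c.wl (Y.W.wd i) (D.simple p)))
    (hsq : ∀ q < D.rank, c.Pos (c.wl (Y.W.wd i ++ Y.W.wd i) (D.simple q)))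
    (hflip : ∀ J ∈ Y.W.Jw, ∀ r ∈ c.invSet J,
      c.wl J.reverse (c.wl (Y.W.wd i) r) ∈ c.invSet J)
    (hU : Y.FixG θ Y.U₁) (hV : Y.FixG θ Y.V₁) {J : List ℕ} (hJ : J ∈ Y.W.Jw) :
    ∃ K ∈ Y.W.Jw, ∀ g : ↥Y.G₁, (θ g : GL D.Idx F) ∈ Y.X K ↔ (g : GL D.Idx F) ∈ Y.X J := by
  obtain ⟨hL, -, -⟩ := Y.wd_spec hi
  set n := c.nw F (Y.W.wd i) with hn
  have hnfix : n ∈ T.fix := Y.nw_wd_fix hi
  have hflipX : ∀ J ∈ Y.W.Jw, ∀ g : GL D.Idx F, g ∈ Y.X J ↔ n * g * n⁻¹ ∈ Y.Xm J := by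
    intro J hJ
    obtain ⟨-, hlt, -⟩ := Y.W.J_spec hJ
    have hltr : ∀ p ∈ J.reverse, p < D.rank := fun p hp => hlt p (List.mem_reverse.1 hp)
    obtain ⟨k, hk, K, hK, ek⟩ := c.mem_monomial_iff.1
      (inv_mem (c.nw_mem_N (F := F) hlt) : (c.nw F J)⁻¹ ∈ D.monomialSubgroup F)
    have hKl : ∀ s < D.nroots, c.wl K s = c.wl J.reverse s := by
      intro s hs
      have h1 := c.wl_eq_of_eq (F := F) (L := J ++ K) (M := []) (one_mem _)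
        (c.N_conj_H (c.nw_mem_N hlt) (inv_mem hk))
        (fun p hp => (List.mem_append.1 hp).elim (hlt p) (hK p)) (by simp)
        (by
          have h2 : c.nw F K = k⁻¹ * (c.nw F J)⁻¹ := by rw [ek]; group
          rw [one_mul, c.nw_append, h2, Cert.nw_nil, mul_one]
          group) hs
      rw [c.wl_append, Cert.wl_nil] at h1
      have h3 := congrArg (c.wl J.reverse) h1
      have h4 := c.wl_reverse hltr (c.wl_lt hK hs)
      rw [List.reverse_reverse] at h4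
      rwa [h4] at h3
    have key : ∀ g ∈ Y.X J, n * g * n⁻¹ ∈ Y.Xm J := by
      intro g hg
      rw [Y.mem_Xm]
      refine ⟨?_, mul_mem (mul_mem (T.fix.inv_mem (Y.nw_J_fix hJ))
        (mul_mem (mul_mem hnfix hg.2) (T.fix.inv_mem hnfix))) (Y.nw_J_fix hJ)⟩
      have h1 := c.nw_conj_KS (F := F) (S := c.invSet J) (S' := c.invSet J)
        (L := K ++ Y.W.wd i) (fun p hp => (List.mem_append.1 hp).elim (hK p) (hL p))
        (fun r hr => hr.1) (fun r hr => hr.1) (fun r hr => by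
          rw [c.wl_append, hKl _ (c.wl_lt hL hr.1.2)]
          exact hflip J hJ r hr) hg.1
      have h2 := c.H_conj_KS (fun r (hr : r ∈ c.invSet J) => hr.1) hk h1
      have e : (c.nw F J)⁻¹ * (n * g * n⁻¹) * c.nw F J =
          k * (c.nw F (K ++ Y.W.wd i) * g * (c.nw F (K ++ Y.W.wd i))⁻¹) * k⁻¹ :=
        calc (c.nw F J)⁻¹ * (n * g * n⁻¹) * c.nw F J
            = (c.nw F J)⁻¹ * (n * g * n⁻¹) * ((c.nw F J)⁻¹)⁻¹ := by rw [inv_inv]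
          _ = _ := by rw [ek, c.nw_append, ← hn]; group
      exact e ▸ h2
    intro g
    refine ⟨key g, fun h => ?_⟩
    let φ : {g : GL D.Idx F // g ∈ Y.X J} → {g : GL D.Idx F // g ∈ Y.Xm J} := fun g =>
      ⟨n * g.1 * n⁻¹, key g.1 g.2⟩
    have hinj : Function.Injective φ := fun a b e =>
      Subtype.ext (mul_left_cancel (mul_right_cancel (congrArg Subtype.val e)))
    let ψ : {g : GL D.Idx F // g ∈ Y.Xm J} ≃ {g : GL D.Idx F // g ∈ Y.X J} :=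
      (MulAut.conj (c.nw F J)).toEquiv.symm.subtypeEquiv fun z => by
        rw [Y.mem_Xm]
        simp [mul_assoc]
    obtain ⟨z, hz⟩ := (Finite.injective_iff_surjective (f := ψ ∘ φ)).1
      (ψ.injective.comp hinj) (ψ ⟨_, h⟩)
    have e := congrArg Subtype.val (ψ.injective hz)
    rw [← show z.1 = g from mul_left_cancel (mul_right_cancel e)]
    exact z.2
  have hn2 : n * n ∈ D.diagonalSubgroup F := by
    rw [hn, ← c.nw_append]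
    exact c.nw_mem_H (fun p hp => (List.mem_append.1 hp).elim (hL p) (hL p)) hsq
  have hUV : ∀ g : GL D.Idx F, g ∈ Y.U₁ ↔ n * g * n⁻¹ ∈ Y.V₁ := fun g => Y.conj_top_iff hi htop
  have hVU : ∀ g : GL D.Idx F, g ∈ Y.V₁ ↔ n * g * n⁻¹ ∈ Y.U₁ := by
    intro g
    rw [hUV, show n * (n * g * n⁻¹) * n⁻¹ = (n * n) * g * (n * n)⁻¹ by group,
      Y.H_conj_V₁ ⟨hn2, mul_mem hnfix hnfix⟩]
  set m : ↥Y.G₁ := ⟨n, Y.mem_G₁ hnfix⟩ with hm
  set θ' := ((MulAut.conj m).symm.trans θ).trans (MulAut.conj m) with hθ'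
  have hθ'g : ∀ g : ↥Y.G₁, (θ' g : GL D.Idx F) =
      n * (θ ((MulAut.conj m).symm g) : GL D.Idx F) * n⁻¹ := fun g => rfl
  have hc : ∀ g : ↥Y.G₁, n * (((MulAut.conj m).symm g : ↥Y.G₁) : GL D.Idx F) * n⁻¹ = g := fun g => by
    simp [hm, MulAut.conj_symm_apply, mul_assoc]
  have hU' : Y.FixG θ' Y.U₁ := fun g => by
    rw [hθ'g, ← hVU, hV, hVU, hc]
  have hV' : Y.FixG θ' Y.V₁ := fun g => by
    rw [hθ'g, ← hUV, hU, hUV, hc]
  obtain ⟨K, hK, h⟩ := Y.exists_neg_image hU' hV' hJ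
  refine ⟨K, hK, fun g => ?_⟩
  have := h (MulAut.conj m g)
  rw [hθ'g, MulEquiv.symm_apply_apply, ← hflipX K hK] at this
  rw [this, hflipX J hJ]
  rfl

end Datum

end Twist

end Cfsg.Agent.Lie.Chev
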