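import Cfsg.Agent.Lib.Lie.Chev.AutSteinberg
import Cfsg.Agent.Lib.Lie.Chev.Order
import Cfsg.Prelude.Def_KGroupFacts

/-! The order of the outer automorphism group of a finite Chevalley group. -/

set_option autoImplicit false

namespace Cfsg.Agent.Lie.Chev

open Cfsg.Lie Matrix

/-- The automorphism group of a finite field. -/
theorem card_ringAut_eq {F : Type*} [Field F] [Fintype F] {p f : ℕ} [Fact p.Prime]
    (hF : Fintype.card F = p ^ f) : IsCyclic (RingAut F) ∧ Nat.card (RingAut F) = f := by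
  haveI : CharP F p := charP_of_card_eq_prime_pow hF
  letI : Algebra (ZMod p) F := ZMod.algebra F p
  have hfin : Module.finrank (ZMod p) F = f := by
    have h := Module.card_eq_pow_finrank (K := ZMod p) (V := F)
    rw [hF, ZMod.card] at h
    exact (Nat.pow_right_injective (Fact.out : p.Prime).two_le h).symm
  let e : (F ≃ₐ[ZMod p] F) ≃* RingAut F :=
    { toFun := fun a => a.toRingEquiv
      invFun := fun σ => AlgEquiv.ofRingEquiv (f := σ) fun x => by
        show σ.toRingHom.comp (algebraMap (ZMod p) F) x = algebraMap (ZMod p) F x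
        rw [RingHom.ext_zmod (σ.toRingHom.comp (algebraMap (ZMod p) F)) (algebraMap (ZMod p) F)]
      left_inv := fun a => AlgEquiv.ext fun _ => rfl
      right_inv := fun σ => RingEquiv.ext fun _ => rfl
      map_mul' := fun _ _ => rfl }
  refine ⟨isCyclic_of_surjective e e.surjective, ?_⟩
  rw [← Nat.card_congr e.toEquiv, IsGalois.card_aut_eq_finrank, hfin]

/-- The exponent of a graph automorphism is injective as a map of the field. -/
theorem pow_graphExp_inj (D : ChevalleyDatum) {F : Type*} [Field F] [Finite F] (i j : ℕ) {a b : F}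
    (h : a ^ D.graphExp (ringChar F) i j = b ^ D.graphExp (ringChar F) i j) : a = b := by
  cases nonempty_fintype F
  rw [ChevalleyDatum.graphExp] at h
  split at h
  · have hp : (ringChar F).Prime := CharP.char_is_prime F _
    haveI := Fact.mk hp
    exact frobenius_inj F (ringChar F) h
  · simpa using h

namespace CertFull

variable {D : ChevalleyDatum} (c : CertFull D) {F : Type*} [Field F]

include c

/-- An automorphism is determined by its values on the fundamental root elements. -/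
theorem aut_ext {a b : ↥(D.group F) ≃* ↥(D.group F)}
    (h : ∀ (i : Fin D.rank) (t : F), a (c.xG (D.simple i) t) = b (c.xG (D.simple i) t) ∧
      a (c.xG (D.neg (D.simple i)) t) = b (c.xG (D.neg (D.simple i)) t)) : a = b := by
  refine MulEquiv.ext fun y => ?_
  exact c.simple_induction (P := fun y => a y = b y) (fun i hi t => h ⟨i, hi⟩ t) (by simp)
    (fun u v hu hv => by simp [hu, hv]) (fun u hu => by simp [hu]) y

theorem notMem_Up {p : ℕ} (hp : p < D.rank) {t : F}
    (h : c.xg (D.simple p) t ∈ Up D F p) : t = 0 := by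
  have h1 := c.Up_le_U p (c.np_conj_Up hp h)
  rw [Cert.np, c.ng_conj hp (c.simple_lt hp), c.w_simple hp, mul_inv_cancel_right] at h1
  have h2 := c.eq_zero_of_mem (c.neg_lt (c.simple_lt hp)) (c.not_pos_neg_simple hp)
    (Subgroup.mem_sup_left h1)
  have h3 := c.eta_F_sq (F := F) p (D.simple p)
  rcases mul_eq_zero.1 h2 with h4 | h4
  · rw [h4, zero_mul] at h3
    exact absurd h3 zero_ne_one
  · exact h4

/-- Root elements of different fundamental roots differ. -/
theorem xG_simple_inj {i j : Fin D.rank} {a b : F} (ha : a ≠ 0)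
    (h : c.xG (D.simple i) a = c.xG (D.simple j) b) : i = j ∧ a = b := by
  have h' : c.xg (D.simple i) a = c.xg (D.simple j) b := congrArg Subtype.val h
  by_cases e : i = j
  · subst e
    exact ⟨rfl, c.xg_inj (c.simple_lt i.2) h'⟩
  · refine absurd (c.notMem_Up i.2 (h' ▸ c.xg_mem_Up (c.pos_simple j.2) ?_ b)) ha
    exact fun e' => e (Fin.ext (c.simple_inj i.2 j.2 e'.symm))

/-- The only Sylow subgroup containing all fundamental root subgroups is `U`. -/
theorem conj_U_eq_of_simple [Finite F] (y : ↥(D.group F))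
    (h : ∀ i : Fin D.rank, ∃ t : F, t ≠ 0 ∧
      (y : GL D.Idx F) * c.xg (D.simple i) t * (y : GL D.Idx F)⁻¹ ∈ D.posUnipotent F) :
    (y : GL D.Idx F) ∈ D.borelSubgroup F := by
  obtain ⟨b, hb, a, ha, L, hL, u, hu, e⟩ := c.bruhat_exists y.2
  have huU := c.KS_invSet_le_U hL hu
  rw [e]
  refine mul_mem (mul_mem hb (c.H_le_B (c.mem_H_of_wl ha hL fun q hq => ?_)))
    (Subgroup.mem_sup_left huU)
  by_contra hneg
  obtain ⟨t, ht, h1⟩ := h ⟨q, hq⟩
  set n := a * c.nw F L with hn
  have h2 : n * (u * c.xg (D.simple q) t * u⁻¹) * n⁻¹ ∈ D.posUnipotent F := by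
    have := c.conj_B_U (inv_mem hb) h1
    rw [e] at this
    simpa [mul_assoc, hn] using this
  obtain ⟨k₁, hk₁, t₁, e1⟩ := c.exists_Up_mul hq huU
  set v := u * c.xg (D.simple q) t * u⁻¹ with hv
  have hvU : v ∈ D.posUnipotent F :=
    mul_mem (mul_mem huU (c.xg_mem_U (c.pos_simple hq) t)) (inv_mem huU)
  -- `v` only involves roots kept positive
  have hv' := hvU
  rw [c.posUnipotent_eq] at hv'
  obtain ⟨v₁, hv₁, x, hx, e3⟩ := c.exists_mul_KS (c.keepSet_closed hL) (c.invSet_closed hL)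
    (fun r hr => by by_cases h : c.Pos (c.wl L r); exacts [Or.inl ⟨hr, h⟩, Or.inr ⟨hr, h⟩])
    _ c.T.h rfl le_rfl _ hv'
  have hx1 : x = 1 := by
    have hk := c.conj_keep_mem_U ha hL hv₁
    have h4 : n * x * n⁻¹ ∈ D.posUnipotent F := by
      have := mul_mem (inv_mem hk) h2
      rw [e3, ← hn] at this
      simpa [mul_assoc] using this
    have h5 := c.borel_inf_negUnipotent.1.le
      ⟨Subgroup.mem_sup_left h4, c.conj_inv_mem_V ha hL hx⟩
    rwa [Subgroup.mem_bot, conj_eq_one_iff] at h5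
  have hvUp : v ∈ Up D F q := by
    rw [e3, hx1, mul_one]
    refine (Subgroup.closure_le _).2 ?_ hv₁
    rintro g ⟨r, s, hr, -, rfl⟩
    exact c.xg_mem_Up hr.1 (fun e' => hneg (e' ▸ hr.2)) s
  have hnorm := c.rootSubgroups_le_normalizer_Up (F := F) hq
  have hx' : ∀ s : F, ∀ k ∈ Up D F q,
      c.xg (D.simple q) s * k * (c.xg (D.simple q) s)⁻¹ ∈ Up D F q := fun s k hk =>
    c.xg_conj_Up hq (Or.inl rfl) s hk
  have h6 : c.xg (D.simple q) t₁ * c.xg (D.simple q) t * (c.xg (D.simple q) t₁)⁻¹ ∈ Up D F q := by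
    have := mul_mem (mul_mem (inv_mem hk₁) hvUp) hk₁
    rw [hv, e1] at this
    simpa [mul_assoc] using this
  have hc : c.xg (D.simple q) t₁ * c.xg (D.simple q) t * (c.xg (D.simple q) t₁)⁻¹ =
      c.xg (D.simple q) t := by
    rw [mul_inv_eq_iff_eq_mul, ← c.xg_add, ← c.xg_add, add_comm]
  rw [hc] at h6
  exact ht (c.notMem_Up hq h6)

/-- An automorphism mapping fundamental root subgroups to such fixes `U`. -/
theorem fix_U_of_simple [Finite F] {a : ↥(D.group F) ≃* ↥(D.group F)}
    (π : Equiv.Perm (Fin D.rank)) (h : ∀ i : Fin D.rank, ∃ t s : F, s ≠ 0 ∧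
      a (c.xG (D.simple i) t) = c.xG (D.simple (π i)) s) : Fix a (D.posUnipotent F) := by
  obtain ⟨y, hy⟩ := c.exists_conj_U (((D.posUnipotent F).subgroupOf (D.group F)).map a.toMonoidHom)
    (Subgroup.card_map_of_injective a.injective)
  have hmem : ∀ g : ↥(D.group F), (g : GL D.Idx F) ∈ D.posUnipotent F ↔
      (y : GL D.Idx F) * (a g : GL D.Idx F) * (y : GL D.Idx F)⁻¹ ∈ D.posUnipotent F := by
    intro g
    have h1 := hy (a g)
    rw [Subgroup.mem_map_equiv, MulEquiv.symm_apply_apply, Subgroup.mem_subgroupOf] at h1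
    simpa using h1
  have hyB := c.conj_U_eq_of_simple y fun j => by
    obtain ⟨t, s, hs, e⟩ := h (π.symm j)
    rw [Equiv.apply_symm_apply] at e
    refine ⟨s, hs, ?_⟩
    have h2 := (hmem (c.xG (D.simple (π.symm j)) t)).1 (c.xg_mem_U (c.pos_simple (π.symm j).2) t :
      (c.xG (D.simple (π.symm j)) t : GL D.Idx F) ∈ D.posUnipotent F)
    rwa [e, xG_coe] at h2
  intro g
  rw [hmem g]
  exact (Subgroup.mem_normalizer_iff.1 (c.B_le_normalizer_U hyB) _)

/-- The flip of the longest word exchanges `U` and `V`. -/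
theorem exists_flip [Finite F] : ∃ (n : ↥(D.group F)) (τ : Equiv.Perm (Fin D.rank)),
    (∀ g : ↥(D.group F), (g : GL D.Idx F) ∈ D.posUnipotent F ↔
      ((MulAut.conj n g : ↥(D.group F)) : GL D.Idx F) ∈ D.negUnipotent F) ∧
    ∀ (i : Fin D.rank) (s : F), ∃ t : F, (s ≠ 0 → t ≠ 0) ∧
      MulAut.conj n (c.xG (D.simple i) t) = c.xG (D.neg (D.simple (τ i))) s := by
  obtain ⟨L, hL, hlong⟩ := c.exists_longest
  obtain ⟨τ, hτ⟩ := c.exists_node_flip hL hlong
  refine ⟨⟨1 * c.nw F L, c.N_le_group (mul_mem (one_mem _) (c.nw_mem_N hL))⟩, τ,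
    fun g => c.mem_U_iff_conj_mem_V (one_mem _) hL hlong _,
    fun i s => ⟨(c.wsign L (D.simple i) : F) * s,
      fun ht => mul_ne_zero (c.wsign_ne_zero _ _) ht, Subtype.ext ?_⟩⟩
  have hw : c.wl L (D.simple i) = D.neg (D.simple (τ i)) := by
    rw [← hτ i, c.wl_neg hL (c.simple_lt i.2), c.neg_neg (c.wl_lt hL (c.simple_lt i.2))]
  show 1 * c.nw F L * c.xg _ _ * (1 * c.nw F L)⁻¹ = _
  rw [one_mul, c.nw_mul_xg hL (c.simple_lt i.2), mul_inv_cancel_right, hw, ← mul_assoc, c.wsign_sq,
    one_mul]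
  rfl

theorem fix_V_of_simple [Finite F] {a : ↥(D.group F) ≃* ↥(D.group F)}
    (π : Equiv.Perm (Fin D.rank)) (h : ∀ i : Fin D.rank, ∃ t s : F, s ≠ 0 ∧
      a (c.xG (D.neg (D.simple i)) t) = c.xG (D.neg (D.simple (π i))) s) :
    Fix a (D.negUnipotent F) := by
  obtain ⟨n, τ, hn, hmap⟩ := c.exists_flip (F := F)
  set a' := ((MulAut.conj n).trans a).trans (MulAut.conj n).symm with ha'
  have key : ∀ g, MulAut.conj n (a' g) = a (MulAut.conj n g) := fun g => by
    rw [ha', MulEquiv.trans_apply, MulEquiv.trans_apply, MulEquiv.apply_symm_apply]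
  have hU : Fix a' (D.posUnipotent F) := by
    refine c.fix_U_of_simple (τ.trans (π.trans τ.symm)) fun i => ?_
    obtain ⟨t, s, hs, e⟩ := h (τ i)
    obtain ⟨t', -, et⟩ := hmap i t
    obtain ⟨s', hs', es⟩ := hmap (τ.symm (π (τ i))) s
    rw [Equiv.apply_symm_apply] at es
    refine ⟨t', s', hs' hs, (MulAut.conj n).injective ?_⟩
    rw [key, et, e]
    exact es.symm
  intro g
  obtain ⟨h, rfl⟩ := (MulAut.conj n).surjective g
  rw [← key, ← hn, ← hn, hU]

/-! ### The kernel -/

/-- Two composites of diagonal, graph and field automorphisms differing by an inner automorphism. -/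
theorem exists_torus_of_conj [Finite F] {a b : ↥(D.group F) ≃* ↥(D.group F)}
    {π π' : Equiv.Perm (Fin D.rank)} {u u' v v' : Fin D.rank → F → F}
    (ha : ∀ (i : Fin D.rank) t, a (c.xG (D.simple i) t) = c.xG (D.simple (π i)) (u i t) ∧
      a (c.xG (D.neg (D.simple i)) t) = c.xG (D.neg (D.simple (π i))) (v i t))
    (hb : ∀ (i : Fin D.rank) t, b (c.xG (D.simple i) t) = c.xG (D.simple (π' i)) (u' i t) ∧
      b (c.xG (D.neg (D.simple i)) t) = c.xG (D.neg (D.simple (π' i))) (v' i t))
    (hu : ∀ i, u i 1 ≠ 0) (hv : ∀ i, v i 1 ≠ 0) (hu' : ∀ i, u' i 1 ≠ 0) (hv' : ∀ i, v' i 1 ≠ 0)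
    (x : ↥(D.group F)) (e : ∀ g, a g = x * b g * x⁻¹) :
    ∃ z : ℕ → Fˣ, (x : GL D.Idx F) = c.torus z := by
  have aU := c.fix_U_of_simple π fun i => ⟨1, u i 1, hu i, (ha i 1).1⟩
  have aV := c.fix_V_of_simple π fun i => ⟨1, v i 1, hv i, (ha i 1).2⟩
  have bU := c.fix_U_of_simple π' fun i => ⟨1, u' i 1, hu' i, (hb i 1).1⟩
  have bV := c.fix_V_of_simple π' fun i => ⟨1, v' i 1, hv' i, (hb i 1).2⟩
  have conjS : ∀ S : Subgroup (GL D.Idx F), S ≤ D.group F → Fix a S → Fix b S →
      ∀ v ∈ S, (x : GL D.Idx F) * v * (x : GL D.Idx F)⁻¹ ∈ S := by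
    intro S hS hA hB v hv
    obtain ⟨g, hg⟩ := b.surjective ⟨v, hS hv⟩
    have h1 := (hA g).2 ((hB g).1 (by rw [hg]; exact hv))
    rw [e, hg] at h1
    simpa using h1
  have hxB := c.mem_B_of_conj x.2 (conjS _ c.U_le_group aU bU)
  obtain ⟨w, hw, d, hd, ex⟩ := c.mem_borel_iff.1 hxB
  have hwV : ∀ v ∈ D.negUnipotent F, w * v * w⁻¹ ∈ D.negUnipotent F := by
    intro v hv
    have h1 := conjS _ c.V_le_group aV bV (d⁻¹ * v * d) (by
      have := (c.mem_V_conj (v := v) (inv_mem hd)).2 hv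
      rwa [inv_inv] at this)
    rw [ex] at h1
    simpa [mul_assoc] using h1
  obtain ⟨L, hL, hlong⟩ := c.exists_longest
  set n := (1 : GL D.Idx F) * c.nw F L with hn
  have hnN : n ∈ D.monomialSubgroup F := mul_mem (one_mem _) (c.nw_mem_N hL)
  have hB : n⁻¹ * w * n ∈ D.borelSubgroup F := by
    refine c.mem_B_of_conj (mul_mem (mul_mem (inv_mem (c.N_le_group hnN)) (c.U_le_group hw))
      (c.N_le_group hnN)) fun y hy => ?_
    rw [c.mem_U_iff_conj_mem_V (one_mem _) hL hlong] at hy ⊢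
    rw [← hn] at hy ⊢
    have := hwV _ hy
    simpa [mul_assoc] using this
  obtain ⟨w', hw', d', hd', e2⟩ := c.mem_borel_iff.1 hB
  have hw2 : w ∈ D.diagonalSubgroup F := by
    refine c.borel_inf_negUnipotent.2.le ⟨Subgroup.mem_sup_left hw, ?_⟩
    rw [show w = (n * w' * n⁻¹) * (n * d' * n⁻¹) by
      rw [show n * w' * n⁻¹ * (n * d' * n⁻¹) = n * (w' * d') * n⁻¹ by group, ← e2]; group]
    exact mul_mem (Subgroup.mem_sup_left ((c.mem_U_iff_conj_mem_V (one_mem _) hL hlong _).1 hw'))
      (Subgroup.mem_sup_right (c.N_conj_H hnN hd'))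
  have hxH : (x : GL D.Idx F) ∈ D.diagonalSubgroup F := by rw [ex]; exact mul_mem hw2 hd
  rw [c.diagonalSubgroup_eq] at hxH
  obtain ⟨z, hz⟩ := hxH
  exact ⟨z, hz.symm⟩

/-! ### The count -/

/-- The permutations carried by graph automorphisms. -/
def GraphPerm (F : Type*) [Field F] : Type :=
  {π : Equiv.Perm (Fin D.rank) // D.IsDiagramSymmetry π ∧ ∃ g : ↥(D.group F) ≃* ↥(D.group F),
    ∀ (i : Fin D.rank) (t : F),
      g (c.xG (D.simple i) t) =
        c.xG (D.simple (π i)) (t ^ D.graphExp (ringChar F) i (π i)) ∧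
      g (c.xG (D.neg (D.simple i)) t) =
        c.xG (D.neg (D.simple (π i))) (t ^ D.graphExp (ringChar F) i (π i))}

/-- The values on the fundamental roots of the characters of the diagonal subgroup. -/
def torusValues (F : Type*) [Field F] : Subgroup (Fin D.rank → Fˣ) :=
  MonoidHom.range
    (MonoidHom.mk' (fun w : ℕ → Fˣ => fun i : Fin D.rank => c.tchar w (D.simple i))
      (fun w w' => funext fun i => by
        simp only [Cert.tchar, Pi.mul_apply, ← Finset.prod_mul_distrib, mul_zpow]))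

theorem mem_torusValues {z : Fin D.rank → Fˣ} :
    z ∈ c.torusValues F ↔ ∃ w : ℕ → Fˣ, ∀ i : Fin D.rank, c.tchar w (D.simple i) = z i := by
  constructor
  · rintro ⟨w, hw⟩
    exact ⟨w, fun i => congrFun hw i⟩
  · rintro ⟨w, hw⟩
    exact ⟨w, funext hw⟩

theorem nodeChar_mul (z z' : Fin D.rank → Fˣ) :
    c.nodeChar (z * z') = c.nodeChar z * c.nodeChar z' := by
  funext r
  simp only [nodeChar, Pi.mul_apply, mul_zpow, Finset.prod_mul_distrib]

theorem nodeChar_tchar (w : ℕ → Fˣ) {s : ℕ} (hs : s < D.nroots) :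
    c.nodeChar (fun i => c.tchar w (D.simple i)) s = c.tchar w s := by
  rw [c.tchar_eq_prod w hs, nodeChar, Finset.prod_range
    (f := fun j => c.tchar w (D.simple j) ^ c.T.vec s j)]

/-- The number of classes of diagonal automorphisms. -/
theorem card_diag_classes [Fintype F] {g : ℕ}
    (hg : g * Nat.card (D.diagonalSubgroup F) = (Fintype.card F - 1) ^ D.rank) :
    Nat.card ((Fin D.rank → Fˣ) ⧸ c.torusValues F) = g := by
  let ev : (Fin D.rank → Fˣ) →* GL D.Idx F :=
    (dg D F).comp (MonoidHom.mk' (fun z => c.nodeChar z) (c.nodeChar_mul))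
  have hev : Function.Injective ev := by
    intro z z' e
    funext i
    have h := (dg_eq_iff D F).1 e (D.simple i) (c.simple_lt i.2)
    simpa [c.nodeChar_simple] using h
  have hmap : (c.torusValues F).map ev = D.diagonalSubgroup F := by
    rw [c.diagonalSubgroup_eq, torusValues, MonoidHom.map_range]
    congr 1
    refine MonoidHom.ext fun w => ?_
    rw [Cert.torus_apply]
    exact dg_ext D F fun s hs => c.nodeChar_tchar w hs
  have hcard : Nat.card (c.torusValues F) = Nat.card (D.diagonalSubgroup F) := by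
    rw [← hmap, Subgroup.card_map_of_injective hev]
  have h1 := (c.torusValues F).card_eq_card_quotient_mul_card_subgroup
  rw [Nat.card_pi, Finset.prod_const, Finset.card_univ, Fintype.card_fin, Nat.card_units,
    Nat.card_eq_fintype_card, hcard, ← hg] at h1
  exact (Nat.eq_of_mul_eq_mul_right Nat.card_pos h1).symm

theorem card_out [Fintype F] (hC : c.Classified F) {g : ℕ}
    (hg : g * Nat.card (D.diagonalSubgroup F) = (Fintype.card F - 1) ^ D.rank) :
    Nat.card (Cfsg.Out ↥(D.group F)) =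
      g * Nat.card (c.GraphPerm F) * Nat.card (RingAut F) := by
  rw [← c.card_diag_classes hg, ← Nat.card_prod, ← Nat.card_prod]
  refine (Nat.card_congr (Equiv.ofBijective ?_ ?_)).symm
  · exact fun q => QuotientGroup.mk
      (((c.diagAuto (c.nodeChar_isRootCharacter q.1.1.out) : MulAut ↥(D.group F)) *
        Classical.choose q.1.2.2.2) * c.fieldAuto q.2)
  have hfield : ∀ (s : F ≃+* F) (r : ℕ) (t : F), c.fieldAuto s (c.xG r t) = c.xG r (s t) := by
    intro s r t
    exact Subtype.ext (c.xg_map (s : F →+* F) r t)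
  have hdm : ∀ (z z' : Fin D.rank → Fˣ),
      (c.diagAuto (c.nodeChar_isRootCharacter (F := F) (z * z')) : MulAut ↥(D.group F)) =
        c.diagAuto (c.nodeChar_isRootCharacter z) * c.diagAuto (c.nodeChar_isRootCharacter z') := by
    intro z z'
    refine c.aut_ext fun i t => ?_
    simp only [MulAut.mul_apply, c.diagAuto_xG _ (c.simple_lt i.2),
      c.diagAuto_xG _ (c.neg_lt (c.simple_lt i.2)), c.nodeChar_mul, Pi.mul_apply, Units.val_mul,
      mul_assoc, and_self]
  have hinner : ∀ z ∈ c.torusValues F,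
      (c.diagAuto (c.nodeChar_isRootCharacter (F := F) z) : MulAut ↥(D.group F)) ∈
        Cfsg.Inn ↥(D.group F) := by
    intro z hz
    obtain ⟨w, hw⟩ := c.mem_torusValues.1 hz
    refine ⟨⟨c.torus w, c.B_le_group (c.H_le_B (c.torus_mem w))⟩, MulEquiv.ext fun y => ?_⟩
    refine Subtype.ext ?_
    show c.torus w * (y : GL D.Idx F) * (c.torus w)⁻¹ =
      dg D F (c.nodeChar z) * (y : GL D.Idx F) * (dg D F (c.nodeChar z))⁻¹
    rw [Cert.torus_apply, show z = fun i : Fin D.rank => c.tchar w (D.simple i) from funext fun i => (hw i).symm,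
      dg_ext D F fun s hs => c.nodeChar_tchar w hs]
  constructor
  · rintro ⟨⟨Q, P⟩, s⟩ ⟨⟨Q', P'⟩, s'⟩ e
    set z := Q.out
    set z' := Q'.out
    set gP := Classical.choose P.2.2 with hgP
    set gP' := Classical.choose P'.2.2 with hgP'
    have sP := Classical.choose_spec P.2.2
    have sP' := Classical.choose_spec P'.2.2
    rw [← hgP] at sP
    rw [← hgP'] at sP'
    obtain ⟨x, hx⟩ := QuotientGroup.eq.1 e
    set a : MulAut ↥(D.group F) := c.diagAuto (c.nodeChar_isRootCharacter z) * gP * c.fieldAuto s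
    set b : MulAut ↥(D.group F) :=
      c.diagAuto (c.nodeChar_isRootCharacter z') * gP' * c.fieldAuto s'
    have ha : ∀ (i : Fin D.rank) (t : F),
        a (c.xG (D.simple i) t) = c.xG (D.simple (P.1 i))
          ((z (P.1 i) : F) * s t ^ D.graphExp (ringChar F) i (P.1 i)) ∧
        a (c.xG (D.neg (D.simple i)) t) = c.xG (D.neg (D.simple (P.1 i)))
          (((z (P.1 i))⁻¹ : Fˣ) * s t ^ D.graphExp (ringChar F) i (P.1 i)) := fun i t => by
      refine ⟨?_, ?_⟩
      · simp only [a, MulAut.mul_apply, hfield, (sP i _).1,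
          c.diagAuto_xG _ (c.simple_lt (P.1 i).2), c.nodeChar_simple]
      · simp only [a, MulAut.mul_apply, hfield, (sP i _).2,
          c.diagAuto_xG _ (c.neg_lt (c.simple_lt (P.1 i).2)),
          (c.nodeChar_isRootCharacter z).1 _ (c.simple_lt (P.1 i).2), c.nodeChar_simple]
    have hb : ∀ (i : Fin D.rank) (t : F),
        b (c.xG (D.simple i) t) = c.xG (D.simple (P'.1 i))
          ((z' (P'.1 i) : F) * s' t ^ D.graphExp (ringChar F) i (P'.1 i)) ∧
        b (c.xG (D.neg (D.simple i)) t) = c.xG (D.neg (D.simple (P'.1 i)))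
          (((z' (P'.1 i))⁻¹ : Fˣ) * s' t ^ D.graphExp (ringChar F) i (P'.1 i)) := fun i t => by
      refine ⟨?_, ?_⟩
      · simp only [b, MulAut.mul_apply, hfield, (sP' i _).1,
          c.diagAuto_xG _ (c.simple_lt (P'.1 i).2), c.nodeChar_simple]
      · simp only [b, MulAut.mul_apply, hfield, (sP' i _).2,
          c.diagAuto_xG _ (c.neg_lt (c.simple_lt (P'.1 i).2)),
          (c.nodeChar_isRootCharacter z').1 _ (c.simple_lt (P'.1 i).2), c.nodeChar_simple]
    -- `b = a * conj x`, rewritten with the inner factor on the left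
    have hab : ∀ y, b y = a x * a y * (a x)⁻¹ := fun y => by
      have := DFunLike.congr_fun hx y
      rw [MulAut.mul_apply, MulAut.conj_apply] at this
      rw [← map_mul, ← map_inv, ← map_mul, this, ← MulAut.mul_apply, mul_inv_cancel,
        MulAut.one_apply]
    obtain ⟨w, hw⟩ := c.exists_torus_of_conj
      (u := fun i t => (z' (P'.1 i) : F) * s' t ^ D.graphExp (ringChar F) i (P'.1 i))
      (v := fun i t => ((z' (P'.1 i))⁻¹ : Fˣ) * s' t ^ D.graphExp (ringChar F) i (P'.1 i))
      (u' := fun i t => (z (P.1 i) : F) * s t ^ D.graphExp (ringChar F) i (P.1 i))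
      (v' := fun i t => ((z (P.1 i))⁻¹ : Fˣ) * s t ^ D.graphExp (ringChar F) i (P.1 i))
      hb ha (fun i => by simp) (fun i => by simp) (fun i => by simp) (fun i => by simp) (a x) hab
    have key : ∀ (i : Fin D.rank) (t : F),
        c.xG (D.simple (P'.1 i)) ((z' (P'.1 i) : F) * s' t ^ D.graphExp (ringChar F) i (P'.1 i)) =
          c.xG (D.simple (P.1 i)) ((c.tchar w (D.simple (P.1 i)) : F) *
            ((z (P.1 i) : F) * s t ^ D.graphExp (ringChar F) i (P.1 i))) := by
      intro i t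
      rw [← (hb i t).1, hab, (ha i t).1]
      refine Subtype.ext ?_
      rw [Subgroup.coe_mul, Subgroup.coe_mul, Subgroup.coe_inv, hw, xG_coe,
        c.torus_conj_xg w (c.simple_lt (P.1 i).2)]
      rfl
    have hP : P = P' := by
      refine Subtype.ext (Equiv.ext fun i => ?_)
      exact (c.xG_simple_inj (by simp) (key i 1)).1.symm
    subst hP
    have hz : ∀ i, z' i = c.tchar w (D.simple i) * z i := by
      intro j
      obtain ⟨i, rfl⟩ := P.1.surjective j
      refine Units.ext ?_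
      simpa using (c.xG_simple_inj (by simp) (key i 1)).2
    have hQ : Q = Q' := by
      rw [← QuotientGroup.out_eq' Q, ← QuotientGroup.out_eq' Q', QuotientGroup.eq]
      refine c.mem_torusValues.2 ⟨w, fun i => ?_⟩
      show _ = (z i)⁻¹ * z' i
      rw [hz, mul_comm (c.tchar w _), inv_mul_cancel_left]
    subst hQ
    have hs : s = s' := by
      refine RingEquiv.ext fun t => ?_
      let i : Fin D.rank := ⟨0, c.one_le_rank⟩
      have h1 := c.xg_inj (c.simple_lt (P.1 i).2) (congrArg Subtype.val (key i t))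
      rw [← mul_assoc, ← Units.val_mul, ← hz (P.1 i)] at h1
      exact pow_graphExp_inj D _ _ (mul_left_cancel₀ (Units.ne_zero _) h1).symm
    subst hs
    rfl
  · intro y
    obtain ⟨θ, rfl⟩ := QuotientGroup.mk_surjective y
    obtain ⟨x, d, gr, f, ⟨χ, hχ, hd⟩, ⟨π, hsym, hπ⟩, ⟨s, hs⟩, e⟩ := c.decomposition hC θ
    have hg' : ∀ (i : Fin D.rank) (t : F),
        gr (c.xG (D.simple i) t) =
          c.xG (D.simple (π i)) (t ^ D.graphExp (ringChar F) i (π i)) ∧
        gr (c.xG (D.neg (D.simple i)) t) =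
          c.xG (D.neg (D.simple (π i))) (t ^ D.graphExp (ringChar F) i (π i)) := fun i t =>
      ⟨Subtype.ext (c.eq_xg_iff.1 ((hπ _ i t).1 (c.xg_val _ _))),
        Subtype.ext (c.eq_xg_iff.1 ((hπ _ i t).2 (c.xg_val _ _)))⟩
    let P : c.GraphPerm F := ⟨π, hsym, gr, hg'⟩
    let z : Fin D.rank → Fˣ := fun i => χ (D.simple i)
    refine ⟨((QuotientGroup.mk z, P), s), ?_⟩
    have hgP : Classical.choose P.2.2 = gr := by
      refine c.aut_ext fun i t => ?_
      have sP := Classical.choose_spec P.2.2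
      exact ⟨(sP i t).1.trans (hg' i t).1.symm, (sP i t).2.trans (hg' i t).2.symm⟩
    have hf' : c.fieldAuto s = f := c.aut_ext fun i t =>
      ⟨(hfield s _ t).trans (Subtype.ext (c.eq_xg_iff.1
          (hs _ _ t (c.simple_lt i.2) (c.xg_val _ _)))).symm,
        (hfield s _ t).trans (Subtype.ext (c.eq_xg_iff.1
          (hs _ _ t (c.neg_lt (c.simple_lt i.2)) (c.xg_val _ _)))).symm⟩
    have hd' : c.diagAuto (c.nodeChar_isRootCharacter z) = d := by
      have he : d = c.diagAuto hχ := by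
        refine MulEquiv.ext fun y => Subtype.ext (Units.ext ?_)
        rw [hd y]
        show _ = ((dg D F χ * (y : GL D.Idx F) * (dg D F χ)⁻¹ : GL D.Idx F) :
          Matrix D.Idx D.Idx F)
        rw [← map_inv, Units.val_mul, Units.val_mul, dg_val, dg_val]
        rfl
      rw [he]
      refine c.aut_ext fun i t => ?_
      rw [c.diagAuto_xG _ (c.simple_lt i.2), c.diagAuto_xG _ (c.simple_lt i.2),
        c.diagAuto_xG _ (c.neg_lt (c.simple_lt i.2)), c.diagAuto_xG _ (c.neg_lt (c.simple_lt i.2)),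
        (c.nodeChar_isRootCharacter z).1 _ (c.simple_lt i.2), hχ.1 _ (c.simple_lt i.2),
        c.nodeChar_simple]
      exact ⟨rfl, rfl⟩
    obtain ⟨h, hh⟩ := QuotientGroup.mk_out_eq_mul (c.torusValues F) z
    show QuotientGroup.mk _ = (QuotientGroup.mk θ : Cfsg.Out ↥(D.group F))
    rw [show ((QuotientGroup.mk z : (Fin D.rank → Fˣ) ⧸ c.torusValues F)).out = z * h.1 from hh,
      hdm, hgP, hf', hd']
    have hθ : θ = MulAut.conj x * (d * gr * f) := MulEquiv.ext fun y => by
      rw [e y]; rfl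
    rw [hθ, show d * c.diagAuto (c.nodeChar_isRootCharacter h.1) * gr * f =
      (d * c.diagAuto (c.nodeChar_isRootCharacter h.1) * d⁻¹) * (d * gr * f) by group,
      QuotientGroup.mk_mul, QuotientGroup.mk_mul (N := Cfsg.Inn ↥(D.group F)) (MulAut.conj x),
      (QuotientGroup.eq_one_iff _).2 ((Cfsg.innNormal _).conj_mem _ (hinner _ h.2) d),
      (QuotientGroup.eq_one_iff (N := Cfsg.Inn ↥(D.group F)) (MulAut.conj x)).2 ⟨x, rfl⟩]

end CertFull

end Cfsg.Agent.Lie.Chev
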