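import Cfsg.Agent.Lib.Lie.Chev.AutParabolic
import Cfsg.Agent.Lib.Lie.Chev.SimpleGens
import Cfsg.Agent.Lib.Lie.Chev.Simple

/-! The action on the fundamental root subgroups of a normalised automorphism: a field automorphism
on each node, with the relations coming from the torus. -/

set_option autoImplicit false

namespace Cfsg.Agent.Lie.Chev

open Cfsg.Lie Matrix

/-- An automorphism of the multiplicative structure on squares of a finite field that is additive
is multiplicative. -/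
theorem map_mul_of_map_sq {F : Type*} [Field F] [Finite F] (f : F → F)
    (hadd : ∀ a b, f (a + b) = f a + f b) (h1 : f 1 = 1)
    (hsq : ∀ t u, f (t ^ 2 * u) = f t ^ 2 * f u) (t u : F) : f (t * u) = f t * f u := by
  by_cases h2 : (2 : F) = 0
  · have : ringChar F = 2 := by
      have := CharTwo.of_one_ne_zero_of_two_eq_zero (R := F) one_ne_zero h2
      exact ringChar.eq F 2
    obtain ⟨r, rfl⟩ := FiniteField.isSquare_of_char_two this t
    rw [← pow_two, hsq]
    have := hsq r 1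
    rw [mul_one, h1, mul_one] at this
    rw [this]
  · have e1 := hsq (t + 1) u
    rw [show (t + 1) ^ 2 * u = t ^ 2 * u + (t * u + t * u) + u by ring, hadd, hadd, hadd, hsq,
      hadd, h1] at e1
    refine mul_left_cancel₀ h2 ?_
    linear_combination e1

namespace CertFull

variable {D : ChevalleyDatum} (c : CertFull D) {F : Type*} [Field F]

include c

/-! ### Diagonal automorphisms -/

/-- The character with prescribed values on the fundamental roots. -/
def nodeChar (z : Fin D.rank → Fˣ) (r : ℕ) : Fˣ := ∏ i : Fin D.rank, z i ^ c.T.vec r i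

theorem nodeChar_isRootCharacter (z : Fin D.rank → Fˣ) : D.IsRootCharacter (c.nodeChar z) := by
  constructor
  · intro r hr
    simp only [nodeChar, ← Finset.prod_inv_distrib]
    exact Finset.prod_congr rfl fun i _ => by rw [c.vec_neg hr i.2, _root_.zpow_neg]
  · intro r s k hr hs h
    rw [c.chainRoot_eq hr hs] at h
    simp only [nodeChar, ← Finset.prod_mul_distrib]
    refine Finset.prod_congr rfl fun i _ => ?_
    rw [← _root_.zpow_add, c.chainRoot_vec hr hs le_rfl h i.2]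
    push_cast
    ring_nf

theorem nodeChar_simple (z : Fin D.rank → Fˣ) (p : Fin D.rank) :
    c.nodeChar z (D.simple p) = z p := by
  rw [nodeChar, Finset.prod_eq_single p]
  · rw [c.vec_simple p.2 p.2, if_pos rfl, zpow_one]
  · intro b _ hb
    rw [c.vec_simple p.2 b.2, if_neg (fun e => hb (Fin.ext e)), zpow_zero]
  · simp

theorem isRootCharacter_inv {χ : ℕ → Fˣ} (hχ : D.IsRootCharacter χ) : D.IsRootCharacter χ⁻¹ :=
  ⟨fun r hr => by simp [hχ.1 r hr], fun r s k hr hs h => by simp [hχ.2 r s k hr hs h, mul_comm]⟩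

theorem dg_conj_group {χ : ℕ → Fˣ} (hχ : D.IsRootCharacter χ) {g : GL D.Idx F}
    (hg : g ∈ D.group F) : dg D F χ * g * (dg D F χ)⁻¹ ∈ D.group F := by
  rw [c.group_eq] at hg ⊢
  refine conj_closure_mem ?_ hg
  rintro g ⟨r, hr, t, rfl⟩
  rw [c.dg_mul_xg hχ hr, mul_inv_cancel_right]
  exact Subgroup.subset_closure ⟨r, hr, _, rfl⟩

theorem dg_conj_B {χ : ℕ → Fˣ} (hχ : D.IsRootCharacter χ) {g : GL D.Idx F}
    (hg : g ∈ D.borelSubgroup F) : dg D F χ * g * (dg D F χ)⁻¹ ∈ D.borelSubgroup F := by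
  obtain ⟨u, hu, a, ha, rfl⟩ := c.mem_borel_iff.1 hg
  have h1 : dg D F χ * u * (dg D F χ)⁻¹ ∈ D.posUnipotent F := by
    refine conj_closure_mem ?_ hu
    rintro g ⟨r, t, hr, hg⟩
    obtain rfl := c.eq_xg_iff.1 hg
    have hr' := c.posRoot_iff.1 hr
    rw [c.dg_mul_xg hχ hr'.2, mul_inv_cancel_right]
    exact c.xg_mem_U hr' _
  have h2 : dg D F χ * a = a * dg D F χ := by
    rw [c.diagonalSubgroup_eq] at ha
    obtain ⟨z, rfl⟩ := ha
    rw [Cert.torus_apply, ← map_mul, ← map_mul, mul_comm]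
  rw [show dg D F χ * (u * a) * (dg D F χ)⁻¹ = dg D F χ * u * (dg D F χ)⁻¹ * a by
    rw [mul_assoc (dg D F χ * u), show (dg D F χ)⁻¹ * a = a * (dg D F χ)⁻¹ from
      (Commute.inv_left h2).eq]
    group]
  exact mul_mem (Subgroup.mem_sup_left h1) (c.H_le_B ha)

/-- Conjugation by a diagonal matrix. -/
noncomputable def diagAuto {χ : ℕ → Fˣ} (hχ : D.IsRootCharacter χ) :
    ↥(D.group F) ≃* ↥(D.group F) where
  toFun g := ⟨dg D F χ * g * (dg D F χ)⁻¹, c.dg_conj_group hχ g.2⟩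
  invFun g := ⟨(dg D F χ)⁻¹ * g * dg D F χ, by
    have := c.dg_conj_group (c.isRootCharacter_inv hχ) g.2
    rwa [map_inv, inv_inv] at this⟩
  left_inv g := Subtype.ext (by simp [mul_assoc])
  right_inv g := Subtype.ext (by simp [mul_assoc])
  map_mul' g h := Subtype.ext (by simp [mul_assoc])

theorem diagAuto_isDiagonalAut {χ : ℕ → Fˣ} (hχ : D.IsRootCharacter χ) :
    D.IsDiagonalAut (c.diagAuto hχ) := by
  refine ⟨χ, hχ, fun g => ?_⟩
  show ((dg D F χ * (g : GL D.Idx F) * (dg D F χ)⁻¹ : GL D.Idx F) : Matrix D.Idx D.Idx F) = _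
  rw [← map_inv, Units.val_mul, Units.val_mul, dg_val, dg_val]
  rfl

theorem diagAuto_xG {χ : ℕ → Fˣ} (hχ : D.IsRootCharacter χ) {r : ℕ} (hr : r < D.nroots) (t : F) :
    c.diagAuto hχ (c.xG r t) = c.xG r ((χ r : F) * t) := by
  refine Subtype.ext ?_
  show dg D F χ * c.xg r t * (dg D F χ)⁻¹ = _
  rw [c.dg_mul_xg hχ hr, mul_inv_cancel_right]
  rfl

theorem diagAuto_symm_xG {χ : ℕ → Fˣ} (hχ : D.IsRootCharacter χ) {r : ℕ} (hr : r < D.nroots)
    (t : F) : (c.diagAuto hχ).symm (c.xG r t) = c.xG r (((χ r)⁻¹ : Fˣ) * t) := by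
  rw [MulEquiv.symm_apply_eq, c.diagAuto_xG hχ hr, ← mul_assoc, ← Units.val_mul, mul_inv_cancel,
    Units.val_one, one_mul]

theorem diagAuto_fix_B {χ : ℕ → Fˣ} (hχ : D.IsRootCharacter χ) :
    Fix (c.diagAuto hχ) (D.borelSubgroup F) := by
  intro g
  refine ⟨fun h => ?_, c.dg_conj_B hχ⟩
  have h' : dg D F χ * (g : GL D.Idx F) * (dg D F χ)⁻¹ ∈ D.borelSubgroup F := h
  have := c.dg_conj_B (c.isRootCharacter_inv hχ) h'
  rw [map_inv, inv_inv] at this
  simpa [mul_assoc] using this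

/-! ### Rank one -/

/-- The element `n_r(t)` of the group. -/
def ngG (r : ℕ) (t : F) : ↥(D.group F) := c.xG r t * c.xG (D.neg r) (-t⁻¹) * c.xG r t

@[simp] theorem ngG_coe (r : ℕ) (t : F) : (c.ngG r t : GL D.Idx F) = c.ng r t := rfl

theorem ng_mono {p : ℕ} (hp : p < D.rank) {t : F} (ht : t ≠ 0) {s : ℕ} (hs : s < D.nroots) :
    ∃ k : F, k ≠ 0 ∧ ∀ u : F, c.ng (D.simple p) t * c.xg s u * (c.ng (D.simple p) t)⁻¹ =
      c.xg (c.w p s) (k * u) := by
  obtain ⟨k, hk, h⟩ := c.mono_mul_xg (L := [p]) (c.hg_mem (c.simple_lt hp) ht)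
    (by simpa using hp) hs
  refine ⟨k, hk, fun u => ?_⟩
  have e := h u
  rw [show c.nw F [p] = c.np F p by simp [Cert.nw]] at e
  rw [c.ng_eq_hg_mul_np, e, mul_inv_cancel_right]
  simp

variable {θ : ↥(D.group F) ≃* ↥(D.group F)}

theorem rank_one {i j : ℕ} (hi : i < D.rank) (hj : j < D.rank) {f g : F → F}
    (hf : ∀ t, θ (c.xG (D.simple i) t) = c.xG (D.simple j) (f t))
    (hg : ∀ t, θ (c.xG (D.neg (D.simple i)) t) = c.xG (D.neg (D.simple j)) (g t))
    (h1 : f 1 = 1) {t : F} (ht : t ≠ 0) :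
    f t ≠ 0 ∧ g (-t⁻¹) = -(f t)⁻¹ := by
  have hα := c.simple_lt hi
  have hβ := c.simple_lt hj
  have hf0 : f t ≠ 0 := by
    intro e
    have h2 := hf t
    rw [e] at h2
    have h3 : c.xG (D.simple j) (0 : F) = θ 1 := by
      rw [map_one]; exact Subtype.ext (c.xg_zero _)
    exact ht ((c.xg_eq_one_iff hα t).1 (congrArg Subtype.val (θ.injective (h2.trans h3))))
  refine ⟨hf0, ?_⟩
  by_contra hne
  set a := f t
  set δ := g (-t⁻¹) + a⁻¹ with hδdef
  have hδ : δ ≠ 0 := fun e => hne (eq_neg_of_add_eq_zero_left e)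
  -- the image of `n_i(t)`
  have hX : (θ (c.ngG (D.simple i) t) : GL D.Idx F) = c.xg (D.simple j) a *
      c.xg (D.neg (D.simple j)) (g (-t⁻¹)) * c.xg (D.simple j) a := by
    simp only [ngG, map_mul, hf, hg, Subgroup.coe_mul, xG_coe, a]
  obtain ⟨k, -, hk⟩ := c.ng_mono (F := F) hi ht hα
  have h2 : θ (c.ngG (D.simple i) t * c.xG (D.simple i) 1 * (c.ngG (D.simple i) t)⁻¹) =
      c.xG (D.neg (D.simple j)) (g (k * 1)) := by
    rw [← hg]
    congr 1
    refine Subtype.ext ?_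
    simp only [Subgroup.coe_mul, Subgroup.coe_inv, ngG_coe, xG_coe, hk, c.w_simple hi]
  have h3 := congrArg Subtype.val h2
  simp only [map_mul, map_inv, hf, h1, Subgroup.coe_mul, Subgroup.coe_inv, xG_coe, hX] at h3
  obtain ⟨m, hm, hm'⟩ := c.ng_mono (F := F) hj (neg_ne_zero.2 hf0) (c.neg_lt hβ)
  have hwn : c.w j (D.neg (D.simple j)) = D.simple j := by
    rw [c.w_neg hj hβ, c.w_simple hj, c.neg_neg hβ]
  set Z := c.xg (D.neg (D.simple j)) δ
  set X := c.xg (D.simple j) a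
  -- the element `Z` normalises the root subgroup
  have h4 : X⁻¹ * (Z * c.xg (D.simple j) 1 * Z⁻¹) * X =
      c.xg (D.simple j) (m * g (k * 1)) := by
    rw [← hwn, ← hm', hwn, ← h3, ← c.ng_inv, inv_inv, Cert.ng]
    have e : c.xg (D.neg (D.simple j)) (g (-t⁻¹)) = c.xg (D.neg (D.simple j)) (-a⁻¹) * Z := by
      rw [← c.xg_add, hδdef, neg_add_cancel_comm_assoc]
    have e2 : X * c.xg (D.simple j) 1 * X⁻¹ = c.xg (D.simple j) 1 := by
      rw [mul_inv_eq_iff_eq_mul, ← c.xg_add, ← c.xg_add, add_comm]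
    rw [e]
    conv_lhs => rw [← e2]
    simp only [X]
    group
  have h5 : Z * c.xg (D.simple j) 1 * Z⁻¹ = c.xg (D.simple j) (m * g (k * 1)) := by
    calc Z * c.xg (D.simple j) 1 * Z⁻¹ =
        X * (X⁻¹ * (Z * c.xg (D.simple j) 1 * Z⁻¹) * X) * X⁻¹ := by group
      _ = _ := by rw [h4, mul_inv_eq_iff_eq_mul, ← c.xg_add, ← c.xg_add, add_comm]
  -- impossible, as `Z` lies in the other double coset
  obtain ⟨b, hb, eZ⟩ := c.xg_neg_eq hj hδ
  set Y := c.xg (D.simple j) δ⁻¹
  obtain ⟨n, hn, hconj⟩ := c.mono_mul_xg (L := [j]) hb (by simpa using hj) hβ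
  rw [show c.nw F [j] = c.np F j by simp [Cert.nw]] at hconj
  have h6 : c.xg (D.neg (D.simple j)) n ∈ D.borelSubgroup F := by
    have e : c.xg (D.neg (D.simple j)) n = Y⁻¹ * (Z * c.xg (D.simple j) 1 * Z⁻¹) * Y := by
      have e1 := hconj 1
      simp only [Cert.wl_cons, Cert.wl_nil, c.w_simple hj, mul_one] at e1
      have e2 : Y * c.xg (D.simple j) 1 * Y⁻¹ = c.xg (D.simple j) 1 := by
        rw [mul_inv_eq_iff_eq_mul, ← c.xg_add, ← c.xg_add, add_comm]
      calc c.xg (D.neg (D.simple j)) n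
          = b * c.np F j * c.xg (D.simple j) 1 * (b * c.np F j)⁻¹ := by
            rw [e1, mul_inv_cancel_right]
        _ = b * c.np F j * (Y * c.xg (D.simple j) 1 * Y⁻¹) * (b * c.np F j)⁻¹ := by rw [e2]
        _ = _ := by
          rw [show Z = Y * (b * c.np F j) * Y from eZ]
          group
    rw [e, h5]
    exact mul_mem (mul_mem (inv_mem (c.xg_mem_B (c.pos_simple hj) _))
      (c.xg_mem_B (c.pos_simple hj) _)) (c.xg_mem_B (c.pos_simple hj) _)
  exact hn (c.eq_zero_of_mem (c.neg_lt hβ) (c.not_pos_neg_simple hj) h6)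

/-- On each node the automorphism is given by a field automorphism. -/
theorem exists_ringEquiv [Finite F] {i j : ℕ} (hi : i < D.rank) (hj : j < D.rank) {f g : F → F}
    (hf : ∀ t, θ (c.xG (D.simple i) t) = c.xG (D.simple j) (f t))
    (hg : ∀ t, θ (c.xG (D.neg (D.simple i)) t) = c.xG (D.neg (D.simple j)) (g t))
    (h1 : f 1 = 1) : ∃ σ : F ≃+* F, ∀ t, f t = σ t ∧ g t = σ t := by
  have hα := c.simple_lt hi
  have hβ := c.simple_lt hj
  have hadd : ∀ a b, f (a + b) = f a + f b := by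
    intro a b
    refine c.xg_inj hβ ?_
    have := congrArg Subtype.val ((hf (a + b)).symm.trans
      (by rw [c.xG_add, map_mul, hf, hf, ← c.xG_add]))
    exact this
  have hgadd : ∀ a b, g (a + b) = g a + g b := by
    intro a b
    refine c.xg_inj (c.neg_lt hβ) ?_
    have := congrArg Subtype.val ((hg (a + b)).symm.trans
      (by rw [c.xG_add, map_mul, hg, hg, ← c.xG_add]))
    exact this
  let fh : F →+ F := AddMonoidHom.mk' f hadd
  let gh : F →+ F := AddMonoidHom.mk' g hgadd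
  have hneg : f (-1) = -1 := by
    show fh (-1) = -1
    rw [map_neg]
    exact congrArg Neg.neg h1
  have hng : ∀ t, t ≠ 0 → θ (c.ngG (D.simple i) t) = c.ngG (D.simple j) (f t) := by
    intro t ht
    simp only [ngG, map_mul, hf, hg, (c.rank_one hi hj hf hg h1 ht).2]
  have hsq : ∀ t u, f (t ^ 2 * u) = f t ^ 2 * f u := by
    intro t u
    by_cases ht : t = 0
    · have h0 : f 0 = 0 := map_zero fh
      subst ht
      simp [h0]
    obtain ⟨hft, -⟩ := c.rank_one hi hj hf hg h1 ht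
    have key : ∀ {p : ℕ} (hp : p < D.rank) (s : F) (hs : s ≠ 0) (v : F),
        c.hg (D.simple p) s * c.xg (D.simple p) v =
          c.xg (D.simple p) (s ^ 2 * v) * c.hg (D.simple p) s := by
      intro p hp s hs v
      have e := c.hg_mul_xg (c.simple_lt hp) (c.simple_lt hp) (Units.mk0 s hs) v
      rw [c.pairing_simple hp, ← c.cartan_eq hp (c.simple_lt hp), c.cartan_simple_self hp] at e
      simpa [zpow_ofNat] using e
    have h2 : c.ngG (D.simple i) t * c.ngG (D.simple i) (-1) * c.xG (D.simple i) u =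
        c.xG (D.simple i) (t ^ 2 * u) * (c.ngG (D.simple i) t * c.ngG (D.simple i) (-1)) :=
      Subtype.ext (key hi t ht u)
    have h3 := congrArg (fun x => (θ x : GL D.Idx F)) h2
    simp only [map_mul, hng t ht, hng (-1) (by simp), hf, hneg, Subgroup.coe_mul, ngG_coe,
      xG_coe] at h3
    exact (c.xg_inj hβ (mul_right_cancel ((key hj (f t) hft (f u)).symm.trans h3))).symm
  have hmul := map_mul_of_map_sq f hadd h1 hsq
  let rh : F →+* F := { fh with map_one' := h1, map_mul' := hmul }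
  have hb : Function.Bijective rh := Finite.injective_iff_bijective.1 rh.injective
  refine ⟨RingEquiv.ofBijective rh hb, fun t => ⟨rfl, ?_⟩⟩
  show g t = rh t
  by_cases ht : t = 0
  · subst ht
    rw [show g 0 = 0 from map_zero gh, map_zero]
  obtain ⟨-, h2⟩ := c.rank_one hi hj hf hg h1 (t := -t⁻¹) (by simpa using ht)
  rw [inv_neg, inv_inv, neg_neg, show f (-t⁻¹) = rh (-t⁻¹) from rfl, map_neg, map_inv₀, inv_neg,
    inv_inv, neg_neg] at h2
  exact h2

/-- The relation between two nodes. -/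
theorem node_relation {i j i' j' : ℕ} (hi : i < D.rank) (hj : j < D.rank) (hi' : i' < D.rank)
    (hj' : j' < D.rank) {σ τ : F ≃+* F}
    (h : ∀ t, θ (c.xG (D.simple i) t) = c.xG (D.simple i') (σ t) ∧
      θ (c.xG (D.neg (D.simple i)) t) = c.xG (D.neg (D.simple i')) (σ t))
    (h' : ∀ t, θ (c.xG (D.simple j) t) = c.xG (D.simple j') (τ t)) {t : F} (ht : t ≠ 0) :
    τ t ^ D.cartan i (D.simple j) = σ t ^ D.cartan i' (D.simple j') := by
  have key : ∀ {p q : ℕ} (hp : p < D.rank) (hq : q < D.rank) (s : F) (hs : s ≠ 0) (v : F),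
      c.hg (D.simple p) s * c.xg (D.simple q) v =
        c.xg (D.simple q) (s ^ D.cartan p (D.simple q) * v) * c.hg (D.simple p) s := by
    intro p q hp hq s hs v
    have e := c.hg_mul_xg (c.simple_lt hp) (c.simple_lt hq) (Units.mk0 s hs) v
    rw [c.pairing_simple hp, ← c.cartan_eq hp (c.simple_lt hq)] at e
    simpa [Units.val_zpow_eq_zpow_val] using e
  have h2 : c.ngG (D.simple i) t * c.ngG (D.simple i) (-1) * c.xG (D.simple j) 1 =
      c.xG (D.simple j) (t ^ D.cartan i (D.simple j) * 1) *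
        (c.ngG (D.simple i) t * c.ngG (D.simple i) (-1)) := Subtype.ext (key hi hj t ht 1)
  have hng : ∀ s : F, θ (c.ngG (D.simple i) s) = c.ngG (D.simple i') (σ s) := fun s => by
    simp only [ngG, map_mul, (h _).1, (h _).2, map_neg, map_inv₀]
  have h3 := congrArg (fun x => (θ x : GL D.Idx F)) h2
  simp only [map_mul, hng, h', map_neg, map_one, Subgroup.coe_mul, ngG_coe, xG_coe, mul_one] at h3
  have h4 := (key hi' hj' (σ t) (by simpa using ht) 1).symm.trans h3
  rw [mul_one] at h4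
  have h5 := c.xg_inj (c.simple_lt hj') (mul_right_cancel h4)
  rw [map_zpow₀] at h5
  exact h5.symm

/-! ### Adjacency -/

theorem comm_mem_B_of_cartan {i j : ℕ} (hi : i < D.rank) (hj : j < D.rank) (hne : i ≠ j)
    (h : D.cartan j (D.simple i) = 0) :
    c.np F j * c.np F i * (c.np F j)⁻¹ * (c.np F i)⁻¹ ∈ D.borelSubgroup F := by
  have hα := c.simple_lt hi
  have hw : c.w j (D.simple i) = D.simple i := by
    rw [← c.reflectRoot_eq hj hα, ChevalleyDatum.reflectRoot]
    rw [if_neg fun e => hne (c.simple_inj hi hj e), if_neg fun e =>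
      c.not_pos_neg_simple hj (by rw [← e]; exact c.pos_simple hi)]
    simp [h]
  have hη : (c.T.eta j (D.simple i) : F) ≠ 0 := fun e => by
    have := c.eta_F_sq (F := F) j (D.simple i)
    rw [e, zero_mul] at this
    exact zero_ne_one this
  set η := (c.T.eta j (D.simple i) : F) with hηdef
  have e1 : ∀ u : F, c.np F j * c.xg (D.simple i) u * (c.np F j)⁻¹ =
      c.xg (D.simple i) (η * u) := fun u => by
    rw [Cert.np, c.ng_conj hj hα, hw, mul_inv_cancel_right]
  have e2 : ∀ u : F, c.np F j * c.xg (D.neg (D.simple i)) u * (c.np F j)⁻¹ =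
      c.xg (D.neg (D.simple i)) (η * u) := fun u => by
    rw [Cert.np, c.ng_conj hj (c.neg_lt hα), c.w_neg hj hα, hw, c.eta_neg hj hα,
      mul_inv_cancel_right]
  have e3 : c.np F j * c.np F i * (c.np F j)⁻¹ = c.ng (D.simple i) η := by
    calc c.np F j * c.np F i * (c.np F j)⁻¹
        = (c.np F j * c.xg (D.simple i) 1 * (c.np F j)⁻¹) *
          (c.np F j * c.xg (D.neg (D.simple i)) (-1⁻¹) * (c.np F j)⁻¹) *
          (c.np F j * c.xg (D.simple i) 1 * (c.np F j)⁻¹) := by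
          rw [show c.np F i = c.xg (D.simple i) 1 * c.xg (D.neg (D.simple i)) (-1⁻¹) *
            c.xg (D.simple i) 1 from rfl]
          group
      _ = _ := by
        rw [e1, e2, mul_one, inv_one, mul_neg_one, Cert.ng,
          inv_eq_of_mul_eq_one_right (c.eta_F_sq (F := F) j (D.simple i))]
  rw [e3, c.ng_eq_hg_mul_np, mul_inv_cancel_right]
  exact c.H_le_B (c.hg_mem hα hη)

theorem cartan_zero_iff {i j : ℕ} (hi : i < D.rank) (hj : j < D.rank) (hne : i ≠ j) :
    D.cartan j (D.simple i) = 0 ↔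
      c.np F j * c.np F i * (c.np F j)⁻¹ * (c.np F i)⁻¹ ∈ D.borelSubgroup F := by
  refine ⟨c.comm_mem_B_of_cartan hi hj hne, fun h => ?_⟩
  exact c.cartan_eq_zero_of_comm (F := F) hi hj hne
    (c.comm_mem_B_of_cartan hj hi hne.symm (c.cartan_eq_zero_of_comm (F := F) hj hi hne.symm h))

theorem cartan_zero_map {π : Equiv.Perm (Fin D.rank)} (hB : Fix θ (D.borelSubgroup F))
    (hnp : ∀ i : Fin D.rank, (θ (c.ngG (D.simple i) 1) : GL D.Idx F) = c.np F (π i))
    {i j : Fin D.rank} (hne : i ≠ j) :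
    D.cartan (π i) (D.simple (π j)) = 0 ↔ D.cartan i (D.simple j) = 0 := by
  have hne' : (j : ℕ) ≠ i := fun e => hne (Fin.ext e).symm
  rw [c.cartan_zero_iff (F := F) (π j).2 (π i).2 (fun e => hne (π.injective (Fin.ext e)).symm),
    c.cartan_zero_iff (F := F) j.2 i.2 hne']
  have h := hB (c.ngG (D.simple i) 1 * c.ngG (D.simple j) 1 * (c.ngG (D.simple i) 1)⁻¹ *
    (c.ngG (D.simple j) 1)⁻¹)
  simpa [hnp, Cert.np] using h

/-! ### The normalised form -/

/-- Every automorphism is, up to an inner and a diagonal one, a node permutation with field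
automorphisms. -/
theorem exists_normal_aut [Finite F] (θ : ↥(D.group F) ≃* ↥(D.group F)) :
    ∃ (x : ↥(D.group F)) (d θ' : ↥(D.group F) ≃* ↥(D.group F)) (π : Equiv.Perm (Fin D.rank))
      (σ : Fin D.rank → F ≃+* F),
      D.IsDiagonalAut d ∧ (∀ y, θ y = x * d (θ' y) * x⁻¹) ∧
      (∀ (i : Fin D.rank) (t : F), θ' (c.xG (D.simple i) t) = c.xG (D.simple (π i)) (σ i t) ∧
        θ' (c.xG (D.neg (D.simple i)) t) = c.xG (D.neg (D.simple (π i))) (σ i t)) ∧
      (∀ i j : Fin D.rank, i ≠ j →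
        (D.cartan (π i) (D.simple (π j)) = 0 ↔ D.cartan i (D.simple j) = 0)) ∧
      ∀ (i j : Fin D.rank) (t : F), t ≠ 0 →
        σ j t ^ D.cartan i (D.simple j) = σ i t ^ D.cartan (π i) (D.simple (π j)) := by
  obtain ⟨x, hU, hV⟩ := c.exists_fix_UV θ
  set θ₁ := θ.trans (MulAut.conj x) with hθ₁
  obtain ⟨π, f, g, hfg⟩ := c.exists_root_maps hU hV
  have hf : ∀ (i : Fin D.rank) t, θ₁ (c.xG (D.simple i) t) = c.xG (D.simple (π i)) (f i t) := fun i t =>
    Subtype.ext (hfg i t).1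
  have hg : ∀ (i : Fin D.rank) t, θ₁ (c.xG (D.neg (D.simple i)) t) = c.xG (D.neg (D.simple (π i))) (g i t) :=
    fun i t => Subtype.ext (hfg i t).2
  have hne : ∀ i : Fin D.rank, f i 1 ≠ 0 := by
    intro i e
    have h2 := hf i 1
    rw [e] at h2
    have h3 : c.xG (D.simple (π i)) (0 : F) = θ₁ 1 := by
      rw [map_one]; exact Subtype.ext (c.xg_zero _)
    exact one_ne_zero ((c.xg_eq_one_iff (c.simple_lt i.2) 1).1
      (congrArg Subtype.val (θ₁.injective (h2.trans h3))))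
  set z : Fin D.rank → Fˣ := fun j => Units.mk0 (f (π.symm j) 1) (hne _) with hz
  have hχ := c.nodeChar_isRootCharacter z
  set d := c.diagAuto hχ with hd
  set θ₂ := θ₁.trans d.symm with hθ₂
  have hf2 : ∀ (i : Fin D.rank) t, θ₂ (c.xG (D.simple i) t) = c.xG (D.simple (π i)) ((f i 1)⁻¹ * f i t) := by
    intro i t
    rw [hθ₂, MulEquiv.trans_apply, hf, hd, c.diagAuto_symm_xG hχ (c.simple_lt (π i).2),
      c.nodeChar_simple, hz]
    simp
  have hg2 : ∀ (i : Fin D.rank) t, θ₂ (c.xG (D.neg (D.simple i)) t) =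
      c.xG (D.neg (D.simple (π i))) (f i 1 * g i t) := by
    intro i t
    rw [hθ₂, MulEquiv.trans_apply, hg, hd,
      c.diagAuto_symm_xG hχ (c.neg_lt (c.simple_lt (π i).2)), hχ.1 _ (c.simple_lt (π i).2),
      c.nodeChar_simple, hz]
    simp
  have hone : ∀ i, (f i 1)⁻¹ * f i 1 = 1 := fun i => inv_mul_cancel₀ (hne i)
  choose σ hσ using fun i : Fin D.rank =>
    c.exists_ringEquiv i.2 (π i).2 (hf2 i) (hg2 i) (hone i)
  have hmaps : ∀ (i : Fin D.rank) (t : F),
      θ₂ (c.xG (D.simple i) t) = c.xG (D.simple (π i)) (σ i t) ∧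
      θ₂ (c.xG (D.neg (D.simple i)) t) = c.xG (D.neg (D.simple (π i))) (σ i t) := fun i t =>
    ⟨by rw [hf2, (hσ i t).1], by rw [hg2, (hσ i t).2]⟩
  have hB : Fix θ₂ (D.borelSubgroup F) := by
    intro y
    rw [hθ₂, MulEquiv.trans_apply, ← c.mem_B_of_fix hU y, c.fix_symm (c.diagAuto_fix_B hχ)]
  refine ⟨x⁻¹, d, θ₂, π, σ, c.diagAuto_isDiagonalAut hχ, fun y => ?_, hmaps, fun i j hij =>
    c.cartan_zero_map hB (fun i => ?_) hij, fun i j t ht =>
    c.node_relation i.2 j.2 (π i).2 (π j).2 (hmaps i) (fun s => (hmaps j s).1) ht⟩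
  · rw [hθ₂, MulEquiv.trans_apply, MulEquiv.apply_symm_apply, hθ₁, MulEquiv.trans_apply,
      MulAut.conj_apply]
    group
  · simp only [ngG, map_mul, (hmaps i _).1, (hmaps i _).2, Subgroup.coe_mul, xG_coe, map_one,
      inv_one, map_neg, Cert.np, Cert.ng]

end CertFull

end Cfsg.Agent.Lie.Chev
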