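import Cfsg.Agent.Lib.Lie.Chev.SLTwo
import Cfsg.Agent.Lib.Lie.Chev.AutRootData

/-! An injective endomorphism of a group respecting an image of the two dimensional special linear
group is given there by an automorphism of the field. -/

set_option autoImplicit false

namespace Cfsg.Agent.Lie.Chev

open Matrix
open scoped MatrixGroups

variable {L : Type*} [Field L] {G : Type*} [Group G] {Φ : SL(2, L) →* G}

/-- The element `n(t)`. -/
def nSL (t : L) : SL(2, L) := upSL t * loSL (-t⁻¹) * upSL t

theorem upSL_add (a b : L) : upSL (a + b) = upSL a * upSL b := by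
  refine ext_two ?_ ?_ ?_ ?_ <;> simp [mul_val, upSL_val, add_comm]

theorem loSL_add (a b : L) : loSL (a + b) = loSL a * loSL b := by
  refine ext_two ?_ ?_ ?_ ?_ <;> simp [mul_val, loSL_val]

theorem upSL_zero : upSL (0 : L) = 1 := by
  refine ext_two ?_ ?_ ?_ ?_ <;> simp [upSL_val]

theorem loSL_zero : loSL (0 : L) = 1 := by
  refine ext_two ?_ ?_ ?_ ?_ <;> simp [loSL_val]

theorem nSL_conj_up {t : L} (ht : t ≠ 0) (u : L) :
    nSL t * upSL u = loSL (-(u / (t * t))) * nSL t := by
  refine ext_two ?_ ?_ ?_ ?_ <;>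
    simp [nSL, upSL_val, loSL_val, Matrix.mul_apply, Fin.sum_univ_two, ht] <;>
    field_simp <;> ring

theorem nSL_sq_conj_up {t : L} (ht : t ≠ 0) (u : L) :
    nSL t * nSL (-1) * upSL u = upSL (t * t * u) * (nSL t * nSL (-1)) := by
  refine ext_two ?_ ?_ ?_ ?_ <;>
    simp [nSL, upSL_val, loSL_val, Matrix.mul_apply, Fin.sum_univ_two, ht] <;>
    field_simp <;> ring

/-- The kernel has no element with non-zero upper right entry. -/
theorem upper_eq_zero (hup : ∀ a : L, Φ (upSL a) = 1 → a = 0)
    (hdisj : ∀ a c : L, Φ (loSL c) = Φ (upSL a) → c = 0) {k : SL(2, L)} (hk : Φ k = 1) :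
    k.1 0 1 = 0 := by
  by_contra hb
  -- conjugate to vanishing upper left entry
  set x := k.1 0 0 / k.1 0 1 with hx
  set n := loSL x * k * loSL (-x) with hn
  have hn1 : Φ n = 1 := by
    rw [hn, map_mul, map_mul, hk, mul_one, ← map_mul, ← loSL_add, add_neg_cancel, loSL_zero,
      map_one]
  have e00 : n.1 0 0 = 0 := by
    simp [hn, hx, mul_val, loSL_val, Matrix.mul_apply, Matrix.vecMul, dotProduct, Fin.sum_univ_two]
    field_simp
    ring
  have e01 : n.1 0 1 = k.1 0 1 := by
    simp [hn, mul_val, loSL_val, Matrix.mul_apply, Matrix.vecMul, dotProduct, Fin.sum_univ_two]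
  clear_value n
  have hd := det_two n
  rw [e00, e01, zero_mul, zero_sub] at hd
  have e : n * upSL 1 = loSL (-(1 / (k.1 0 1 * k.1 0 1))) * n := by
    refine ext_two ?_ ?_ ?_ ?_ <;>
      simp only [mul_val, upSL_val, loSL_val, Matrix.mul_apply, Fin.sum_univ_two, e00, e01] <;>
      simp
    field_simp
    linear_combination -hd
  have h2 := congrArg Φ e
  rw [map_mul, map_mul, hn1, one_mul, mul_one] at h2
  have h3 := hdisj 1 _ h2.symm
  simp [hb] at h3

/-- On an image of the special linear group an automorphism is a field automorphism. -/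
theorem rank_one_aut [Finite L] (hup : ∀ a : L, Φ (upSL a) = 1 → a = 0)
    (hdisj : ∀ a c : L, Φ (loSL c) = Φ (upSL a) → c = 0) {θ : G →* G}
    (hθ : Function.Injective θ) {f g : L → L} (hf : ∀ t, θ (Φ (upSL t)) = Φ (upSL (f t)))
    (hg : ∀ t, θ (Φ (loSL t)) = Φ (loSL (g t))) (h1 : f 1 = 1) :
    ∃ σ : L ≃+* L, ∀ t, f t = σ t ∧ g t = σ t := by
  have hupInj : ∀ a b : L, Φ (upSL a) = Φ (upSL b) → a = b := by
    intro a b e
    refine sub_eq_zero.1 (hup _ ?_)
    have h := congrArg (fun x => Φ (upSL (-b)) * x) e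
    simp only [← map_mul, ← upSL_add, neg_add_cancel, upSL_zero, map_one] at h
    rw [← h]
    congr 2
    ring
  have hloInj : ∀ a b : L, Φ (loSL a) = Φ (loSL b) → a = b := by
    intro a b e
    refine sub_eq_zero.1 (hdisj 0 _ ?_)
    have h := congrArg (fun x => Φ (loSL (-b)) * x) e
    simp only [← map_mul, ← loSL_add, neg_add_cancel, loSL_zero, map_one] at h
    rw [upSL_zero, map_one, ← h]
    congr 2
    ring
  have hadd : ∀ a b, f (a + b) = f a + f b := fun a b => hupInj _ _ (by
    rw [← hf, upSL_add, map_mul, map_mul, hf, hf, ← map_mul, ← upSL_add])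
  have hgadd : ∀ a b, g (a + b) = g a + g b := fun a b => hloInj _ _ (by
    rw [← hg, loSL_add, map_mul, map_mul, hg, hg, ← map_mul, ← loSL_add])
  let fh : L →+ L := AddMonoidHom.mk' f hadd
  let gh : L →+ L := AddMonoidHom.mk' g hgadd
  have hf0 : ∀ t, t ≠ 0 → f t ≠ 0 := by
    intro t ht e
    refine ht (hup t (hθ ?_))
    rw [hf, e, upSL_zero, map_one, map_one]
  have hb : ∀ t, t ≠ 0 → g (-t⁻¹) = -(f t)⁻¹ := by
    intro t ht
    set a := f t
    set b := g (-t⁻¹)
    set X := upSL a * loSL b * upSL a with hX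
    have h2 := congrArg (fun x => θ (Φ x)) (nSL_conj_up ht 1)
    simp only [nSL, map_mul, hf, hg, h1] at h2
    simp only [← map_mul] at h2
    set C := g (-(1 / (t * t)))
    have hk : Φ ((loSL C * X)⁻¹ * (X * upSL 1)) = 1 := by
      rw [map_mul Φ, map_inv, show Φ (X * upSL 1) = Φ (loSL C * X) from h2, inv_mul_cancel]
    have h3 : Φ (X * ((loSL C * X)⁻¹ * (X * upSL 1)) * X⁻¹) = 1 := by
      rw [map_mul Φ, map_mul Φ X, hk, mul_one, map_inv, mul_inv_cancel]
    have h4 := upper_eq_zero hup hdisj h3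
    have e : X * ((loSL C * X)⁻¹ * (X * upSL 1)) * X⁻¹ = loSL (-C) * (X * upSL 1 * X⁻¹) := by
      rw [show loSL (-C) = (loSL C)⁻¹ from eq_inv_of_mul_eq_one_left (by
        rw [← loSL_add, neg_add_cancel, loSL_zero])]
      group
    rw [e] at h4
    have hXi : X⁻¹ = upSL (-a) * loSL (-b) * upSL (-a) := by
      refine inv_eq_of_mul_eq_one_right ?_
      rw [hX, show upSL a * loSL b * upSL a * (upSL (-a) * loSL (-b) * upSL (-a)) =
        upSL a * (loSL b * (upSL a * upSL (-a)) * loSL (-b)) * upSL (-a) by group,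
        ← upSL_add, add_neg_cancel, upSL_zero, mul_one, ← loSL_add, add_neg_cancel, loSL_zero,
        mul_one, ← upSL_add, add_neg_cancel, upSL_zero]
    rw [hXi, hX] at h4
    simp [mul_val, upSL_val, loSL_val, Matrix.mul_apply, Fin.sum_univ_two] at h4
    have h5 : (1 + a * b) ^ 2 = 0 := by linear_combination h4
    have h6 : a * b = -1 := by linear_combination pow_eq_zero_iff (two_ne_zero) |>.1 h5
    have ha : a ≠ 0 := hf0 t ht
    have h7 : b = -1 / a := by rw [eq_div_iff ha]; linear_combination h6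
    rwa [neg_div, one_div] at h7
  have hn : ∀ t, t ≠ 0 → θ (Φ (nSL t)) = Φ (nSL (f t)) := by
    intro t ht
    simp only [nSL, map_mul, hf, hg, hb t ht]
  have hneg : f (-1) = -1 := by
    show fh (-1) = -1
    rw [map_neg]
    exact congrArg Neg.neg h1
  have hsq : ∀ t u, f (t ^ 2 * u) = f t ^ 2 * f u := by
    intro t u
    by_cases ht : t = 0
    · subst ht
      simp [show f 0 = 0 from map_zero fh]
    have h2 := congrArg (fun x => θ (Φ x)) (nSL_sq_conj_up ht u)
    simp only [map_mul, hn t ht, hn (-1) (by simp), hf, hneg] at h2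
    rw [← map_mul, ← map_mul, nSL_sq_conj_up (hf0 t ht), map_mul, map_mul] at h2
    rw [pow_two, pow_two]
    exact (hupInj _ _ (mul_right_cancel h2)).symm
  have hmul := map_mul_of_map_sq f hadd h1 hsq
  let rh : L →+* L := { fh with map_one' := h1, map_mul' := hmul }
  have hbij : Function.Bijective rh := Finite.injective_iff_bijective.1 rh.injective
  refine ⟨RingEquiv.ofBijective rh hbij, fun t => ⟨rfl, ?_⟩⟩
  show g t = rh t
  by_cases ht : t = 0
  · subst ht
    rw [show g 0 = 0 from map_zero gh, map_zero]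
  have h2 := hb (-t⁻¹) (by simpa using ht)
  rw [inv_neg, inv_inv, neg_neg, show f (-t⁻¹) = rh (-t⁻¹) from rfl, map_neg, map_inv₀, inv_neg,
    inv_inv, neg_neg] at h2
  exact h2

end Cfsg.Agent.Lie.Chev
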