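import Cfsg.Agent.Lib.Lie.Chev.TwistFrob

/-! Shared lemmas for the twisted families ²E₆ and ³D₄. -/

set_option autoImplicit false

namespace Cfsg.Agent.Lie.Chev

open Cfsg.Lie Matrix
open scoped commutatorElement

/-- The `q`-th power map of a field with `q ^ e` elements is a ring endomorphism. -/
theorem exists_qPow {K : Type*} [Field K] [Fintype K] {q e : ℕ} (hq : IsPrimePow q)
    (hK : Fintype.card K = q ^ e) : ∃ f : K →+* K, ∀ t, f t = t ^ q := by
  obtain ⟨p, k, hp, -, rfl⟩ := (isPrimePow_def _).1 hq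
  rw [← Nat.prime_iff] at hp
  obtain ⟨p', hp'⟩ := CharP.exists K
  obtain ⟨n, hpp, hn⟩ := FiniteField.card K p'
  have hdvd : p' ∣ (p ^ k) ^ e := by
    rw [← hK, hn]; exact dvd_pow_self _ n.ne_zero
  obtain rfl := (Nat.prime_dvd_prime_iff_eq hpp hp).1 (hpp.dvd_of_dvd_pow (hpp.dvd_of_dvd_pow hdvd))
  haveI : ExpChar K p' := ExpChar.prime hpp
  exact ⟨iterateFrobenius K p' k, fun t => by simp [iterateFrobenius_def]⟩

theorem mul2_comm {G : Type*} [Group G] {a₁ a₂ b₁ b₂ : G} (h : Commute a₂ b₁) :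
    a₁ * a₂ * (b₁ * b₂) = (a₁ * b₁) * (a₂ * b₂) := by
  calc a₁ * a₂ * (b₁ * b₂) = a₁ * (a₂ * b₁) * b₂ := by group
    _ = a₁ * (b₁ * a₂) * b₂ := by rw [h.eq]
    _ = _ := by group

theorem mul3_comm {G : Type*} [Group G] {a₁ a₂ a₃ b₁ b₂ b₃ : G} (h21 : Commute a₂ b₁)
    (h31 : Commute a₃ b₁) (h32 : Commute a₃ b₂) :
    a₁ * a₂ * a₃ * (b₁ * b₂ * b₃) = (a₁ * b₁) * (a₂ * b₂) * (a₃ * b₃) := by
  rw [mul2_comm (b₁ := b₁ * b₂) (h31.mul_right h32), mul2_comm h21]

/-- The words whose elements lie in a generated subgroup. -/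
theorem wordProd_mem {D : ChevalleyDatum} (c : CertFull D) {F : Type*} [Field F]
    {S : Set (List (ℕ × F))} {w : List (ℕ × F)} (hw : w ∈ S) :
    (w.map fun p => c.xg p.1 p.2).prod ∈ D.genSubgroup F S := by
  refine Subgroup.subset_closure ⟨w, hw, ?_⟩
  clear hw
  induction w with
  | nil => simp [ChevalleyDatum.wordMat]
  | cons p w ih =>
    rw [List.map_cons, List.prod_cons, Units.val_mul, ih]
    simp [ChevalleyDatum.wordMat]

/-- A generator of a subgroup generated by words. -/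
theorem eq_wordProd {D : ChevalleyDatum} (c : CertFull D) {F : Type*} [Field F]
    {w : List (ℕ × F)} {g : GL D.Idx F}
    (hg : (g : Matrix D.Idx D.Idx F) = D.wordMat F w) :
    g = (w.map fun p => c.xg p.1 p.2).prod := by
  refine Units.ext (hg.trans ?_)
  clear hg
  induction w with
  | nil => simp [ChevalleyDatum.wordMat]
  | cons p w ih =>
    rw [List.map_cons, List.prod_cons, Units.val_mul, ← ih]
    simp [ChevalleyDatum.wordMat]

namespace Tables

variable (T : Tables)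

/-- The orders of the products of two orbit words. -/
def checkCox (Jw : List (List ℕ)) (m : ℕ → ℕ → ℕ) : Bool :=
  (List.range Jw.length).all fun a => (List.range Jw.length).all fun b =>
    let L := Jw.getD a [] ++ Jw.getD b []
    Nat.blt 0 (m a b) &&
    (T.allNodes fun q => Nat.beq ((T.wlT L)^[m a b] (T.simple q)) (T.simple q)) &&
    (List.range (m a b)).all fun i => Nat.beq i 0 ||
      (List.range T.l).any fun q => !(Nat.beq ((T.wlT L)^[i] (T.simple q)) (T.simple q))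

end Tables

namespace CertFull

variable {D : ChevalleyDatum} (c : CertFull D) {F : Type*} [Field F]

include c

theorem torus_congr {y y' : ℕ → Fˣ} (h : ∀ j < D.rank, y j = y' j) : c.torus y = c.torus y' := by
  rw [Cert.torus_apply, Cert.torus_apply]
  refine dg_ext D F fun u _ => ?_
  exact Finset.prod_congr rfl fun i hi => by rw [h i (Finset.mem_range.1 hi)]

/-- Elements `n_r(t)` of commuting root pairs commute. -/
theorem ng_commute {r s : ℕ} (hr : r < D.nroots) (hs : s < D.nroots)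
    (h : ∀ a ∈ [r, D.neg r], ∀ b ∈ [s, D.neg s], b ≠ a ∧ b ≠ D.neg a ∧ c.T.commTerms a b = [])
    (t u : F) : Commute (c.ng r t) (c.ng s u) := by
  have key : ∀ a ∈ [r, D.neg r], ∀ b ∈ [s, D.neg s], ∀ t u : F,
      Commute (c.xg a t) (c.xg b u) := fun a ha b hb t u => by
    obtain ⟨h1, h2, h3⟩ := h a ha b hb
    have hlt : ∀ {x y}, x < D.nroots → y ∈ [x, D.neg x] → y < D.nroots := by
      intro x y hx hy
      simp only [List.mem_cons, List.not_mem_nil, or_false] at hy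
      rcases hy with rfl | rfl
      · exact hx
      · exact c.neg_lt hx
    exact c.xg_commute (hlt hr ha) (hlt hs hb) h1 h2 h3 t u
  have hrs : ∀ a ∈ [r, D.neg r], ∀ t : F, Commute (c.xg a t) (c.ng s u) := fun a ha t =>
    ((key a ha s (by simp) t _).mul_right (key a ha _ (by simp) t _)).mul_right
      (key a ha s (by simp) t _)
  exact ((hrs r (by simp) _).mul_left (hrs _ (by simp) _)).mul_left (hrs r (by simp) _)

end CertFull

namespace Twist.Datum

variable {D : ChevalleyDatum} {c : CertFull D} {F : Type*} [Field F] {T : Twist c F}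
variable [Finite F] (Y : Datum T)

/-- The exponent of `q` attached to a listed element. -/
def lenOf (W : T.FixedWeyl) (i : ℕ) : ℕ :=
  ((W.E.get i).word.map fun j => c.T.invT (W.Jw.getD j [])).sum

theorem card_KS_q {q : ℕ} (hQ : Nat.card F = q ^ Y.e) {i : ℕ} (hi : i < Y.W.N) :
    Nat.card ↥(c.KS F (c.invSet (Y.W.wd i)) c.T.h ⊓ T.fix) = q ^ lenOf Y.W i := by
  refine Nat.pow_left_injective Y.e_pos.ne' ?_
  show _ ^ Y.e = _ ^ Y.e
  rw [Y.card_KS_inv hi, hQ, ← pow_mul, ← pow_mul, mul_comm]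
  rfl

theorem card_U_q {q : ℕ} (hQ : Nat.card F = q ^ Y.e) :
    Nat.card ↥(D.posUnipotent F ⊓ T.fix) = q ^ (D.nroots / 2) := by
  refine Nat.pow_left_injective Y.e_pos.ne' ?_
  show _ ^ Y.e = _ ^ Y.e
  rw [Y.card_U_fix, hQ, ← pow_mul, ← pow_mul, mul_comm]

theorem card_G₁_q {q : ℕ} (hQ : Nat.card F = q ^ Y.e) :
    Nat.card Y.G₁ = q ^ (D.nroots / 2) * Nat.card ↥(D.diagonalSubgroup F ⊓ T.fix) *
      (((List.range Y.W.N).map (lenOf Y.W)).map fun n => q ^ n).sum := by
  rw [Y.card_G₁, Y.card_U_q hQ]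
  congr 1
  rw [List.map_map, ← List.sum_toFinset _ List.nodup_range, List.toFinset_range]
  exact Finset.sum_congr rfl fun i hi => Y.card_KS_q hQ (Finset.mem_range.1 hi)

/-- The conjugate by an orbit element of a fixed element supported on the negatives of the orbit. -/
theorem mem_commutator_of_neg {J : List ℕ} (hJ : J ∈ Y.W.Jw) {g : GL D.Idx F}
    (h : c.nw F J * g * (c.nw F J)⁻¹ ∈ ⁅Y.G₁, Y.G₁⁆) : g ∈ ⁅Y.G₁, Y.G₁⁆ := by
  have h' := Y.conj_mem_commutator (inv_mem (Y.n_mem J hJ)) h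
  rwa [show (c.nw F J)⁻¹ * (c.nw F J * g * (c.nw F J)⁻¹) * ((c.nw F J)⁻¹)⁻¹ = g by group] at h'

theorem np_conj_xg_neg {p : ℕ} (hp : p < D.rank) (t : F) :
    c.np F p * c.xg (D.neg (D.simple p)) t * (c.np F p)⁻¹ =
      c.xg (D.simple p) ((c.T.eta p (D.neg (D.simple p)) : F) * t) := by
  rw [Cert.np, c.ng_conj hp (c.neg_lt (c.simple_lt hp)), mul_inv_cancel_right,
    c.w_neg hp (c.simple_lt hp), c.w_simple hp, c.neg_neg (c.simple_lt hp)]

variable {W' : Type*} [Group W']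

/-- The Weyl group from a table check. -/
theorem exists_coxeterHom_of_check {k : ℕ} (M : CoxeterMatrix (Fin k)) (hk : Y.W.Jw.length = k)
    (hnd : Y.W.Jw.Nodup) (m : ℕ → ℕ → ℕ) (hm : ∀ a b : Fin k, M.M a b = m a b)
    (hchk : c.T.checkCox Y.W.Jw m = true) :
    ∃ φ : ↥(D.monomialSubgroup F ⊓ Y.G₁) →* M.Group, Function.Surjective φ ∧
      φ.ker = (D.diagonalSubgroup F ⊓ Y.G₁).subgroupOf (D.monomialSubgroup F ⊓ Y.G₁) := by
  refine Y.exists_coxeterHom M hk hnd fun a b => ?_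
  simp only [Tables.checkCox, Tables.allNodes, List.all_eq_true, List.mem_range, Bool.and_eq_true,
    Nat.blt_eq, Nat.beq_eq, Bool.or_eq_true, List.any_eq_true, Bool.not_eq_true'] at hchk
  obtain ⟨⟨h1, h2⟩, h3⟩ := hchk a (hk ▸ a.2) b (hk ▸ b.2)
  have hwl : c.T.wlT (Y.W.Jw.getD a [] ++ Y.W.Jw.getD b []) =
      c.wl (Y.W.Jw.getD a [] ++ Y.W.Jw.getD b []) := funext (c.wlT_eq _)
  rw [hwl] at h2 h3
  rw [hm]
  refine ⟨h1, fun q hq => ?_, fun i hi hi0 => ?_⟩
  · rw [c.simple_eq hq]; exact h2 q (c.rank_eq ▸ hq)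
  · rcases h3 i hi with h | ⟨q, hq, h⟩
    · omega
    · refine ⟨q, c.rank_eq.symm ▸ hq, fun e => ?_⟩
      rw [c.simple_eq (c.rank_eq.symm ▸ hq)] at e
      rw [beq_of_eq e] at h
      exact Bool.noConfusion h

end Twist.Datum

end Cfsg.Agent.Lie.Chev
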