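import Cfsg.Agent.Lib.Lie.Chev.TwistAut
import Cfsg.Agent.Lib.Lie.Chev.RankOneAut
import Cfsg.Agent.Lib.Lie.Chev.Order
import Cfsg.Agent.Lib.Lie.Chev.AutOut
import Cfsg.Agent.Lib.Lie.Chev.TwistCommon

/-! The homomorphisms from two dimensional special linear groups into a twisted group belonging
to the orbits of fundamental roots. -/

set_option autoImplicit false

namespace Cfsg.Agent.Lie.Chev

open Cfsg.Lie Matrix
open scoped MatrixGroups

/-- A product of homomorphisms with commuting values. -/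
theorem exists_prodHom {H G : Type*} [Group H] [Group G] {ι : Type*} (φ : ι → H →* G) :
    ∀ l : List ι, l.Pairwise (fun i j => ∀ g h, Commute (φ i g) (φ j h)) →
      ∃ Ψ : H →* G, ∀ g, Ψ g = (l.map fun i => φ i g).prod := by
  intro l
  induction l with
  | nil => exact fun _ => ⟨1, fun g => rfl⟩
  | cons i l ih =>
    intro h
    rw [List.pairwise_cons] at h
    obtain ⟨Ψ, hΨ⟩ := ih h.2
    refine ⟨MonoidHom.mk' (fun g => φ i g * Ψ g) fun g g' => ?_,
      fun g => by simp [hΨ]⟩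
    have hc : Commute (Ψ g) (φ i g') := by
      rw [hΨ]
      refine Commute.list_prod_left _ _ fun x hx => ?_
      obtain ⟨j, hj, rfl⟩ := List.mem_map.1 hx
      exact (h.1 j hj g' g).symm
    rw [map_mul, map_mul, mul2_comm hc]

namespace CertFull

variable {D : ChevalleyDatum} (c : CertFull D) {F : Type*} [Field F]

include c

open Classical in
/-- The homomorphism at a fundamental root. -/
noncomputable def slNode (p : ℕ) : SL(2, F) →* GL D.Idx F :=
  if h : p < D.rank then Classical.choose (c.exists_sl_root (F := F) (c.simple_lt h)) else 1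

theorem slNode_spec {p : ℕ} (h : p < D.rank) :
    ((c.slNode p : SL(2, F) →* GL D.Idx F).range =
      D.rootSubgroup F (D.simple p) ⊔ D.rootSubgroup F (D.neg (D.simple p))) ∧
    (∀ t : F, c.slNode p (upSL t) = c.xg (D.simple p) t) ∧
    ∀ t : F, c.slNode p (loSL t) = c.xg (D.neg (D.simple p)) t := by
  rw [slNode, dif_pos h]
  obtain ⟨h1, h2⟩ := Classical.choose_spec (c.exists_sl_root (F := F) (c.simple_lt h))
  exact ⟨h1, fun t => (h2 _ t).1 rfl, fun t => (h2 _ t).2 rfl⟩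

theorem slNode_nSL {p : ℕ} (h : p < D.rank) (t : F) :
    c.slNode p (nSL t) = c.ng (D.simple p) t := by
  obtain ⟨-, h1, h2⟩ := c.slNode_spec (F := F) h
  simp only [nSL, map_mul, h1, h2, Cert.ng]

theorem slNode_commute {p p' : ℕ} (hp : p < D.rank) (hp' : p' < D.rank)
    (h : ∀ a b : ℕ, a = D.simple p ∨ a = D.neg (D.simple p) →
      b = D.simple p' ∨ b = D.neg (D.simple p') → ∀ t u : F, Commute (c.xg a t) (c.xg b u))
    (g g' : SL(2, F)) : Commute (c.slNode p g) (c.slNode p' g') := by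
  have key : (c.slNode p : SL(2, F) →* GL D.Idx F).range ≤
      Subgroup.centralizer ((c.slNode p' : SL(2, F) →* GL D.Idx F).range : Set (GL D.Idx F)) := by
    rw [Subgroup.le_centralizer_iff, (c.slNode_spec hp).1, (c.slNode_spec hp').1]
    have : ∀ b, b = D.simple p' ∨ b = D.neg (D.simple p') → D.rootSubgroup F b ≤
        Subgroup.centralizer
          (↑(D.rootSubgroup F (D.simple p) ⊔ D.rootSubgroup F (D.neg (D.simple p))) : Set _) := by
      intro b hb
      rw [Subgroup.le_centralizer_iff]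
      have : ∀ a, a = D.simple p ∨ a = D.neg (D.simple p) → D.rootSubgroup F a ≤
          Subgroup.centralizer (D.rootSubgroup F b : Set (GL D.Idx F)) := by
        intro a ha
        rw [ChevalleyDatum.rootSubgroup, ChevalleyDatum.rootSubgroup, Subgroup.centralizer_closure,
          Subgroup.closure_le]
        rintro x ⟨t, hx⟩
        obtain rfl := c.eq_xg_iff.1 hx
        rintro y ⟨u, hy⟩
        obtain rfl := c.eq_xg_iff.1 hy
        exact ((h a b ha hb t u).symm).eq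
      exact sup_le (this _ (Or.inl rfl)) (this _ (Or.inr rfl))
    exact sup_le (this _ (Or.inl rfl)) (this _ (Or.inr rfl))
  exact Subgroup.mem_centralizer_iff.1 (key ⟨g, rfl⟩) _ ⟨g', rfl⟩ |>.symm

end CertFull

namespace Twist

variable {D : ChevalleyDatum} {c : CertFull D} {F : Type*} [Field F] {T : Twist c F}

/-- The product of root elements over an orbit. -/
noncomputable def upProd (c : CertFull D) (E : ℕ → F →+* F) (J : List ℕ) (t : F) : GL D.Idx F :=
  (J.map fun p => c.xg (D.simple p) (E p t)).prod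

/-- The product of negative root elements over an orbit. -/
noncomputable def loProd (c : CertFull D) (E : ℕ → F →+* F) (J : List ℕ) (t : F) : GL D.Idx F :=
  (J.map fun p => c.xg (D.neg (D.simple p)) (E p t)).prod

/-- A field and field endomorphisms for each orbit of fundamental roots. -/
structure Nodes (Y : Datum T) where
  m : ℕ
  J : Fin m → List ℕ
  J_mem : ∀ i, J i ∈ Y.W.Jw
  J_surj : ∀ K ∈ Y.W.Jw, ∃ i, J i = K
  J_inj : Function.Injective J
  L : Fin m → Subfield F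
  E : ℕ → F →+* F
  pow : ∀ p, ∃ k : ℕ, ∀ t : F, E p t = t ^ k
  big : Fin m
  big_top : ∀ t : F, t ∈ L big
  card : ∀ i, Nat.card (L i) ^ Y.e = Nat.card F ^ c.T.invT (J i)
  orth : ∀ i, (J i).Pairwise fun p p' => ∀ a b : ℕ, a = D.simple p ∨ a = D.neg (D.simple p) →
    b = D.simple p' ∨ b = D.neg (D.simple p') → ∀ t u : F, Commute (c.xg a t) (c.xg b u)
  up_fix : ∀ i, ∀ t ∈ L i, upProd c E (J i) t ∈ T.fix
  gens : Y.G₁ ≤ Subgroup.closure
    {g | ∃ i, ∃ t ∈ L i, g = upProd c E (J i) t ∨ g = loProd c E (J i) t}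

namespace Nodes

variable {Y : Datum T} (N : Nodes Y)

theorem lt {i : Fin N.m} {p : ℕ} (hp : p ∈ N.J i) : p < D.rank :=
  (Y.W.J_spec (N.J_mem i)).2.1 p hp

theorem node_unique {i j : Fin N.m} {p : ℕ} (h : p ∈ N.J i) (h' : p ∈ N.J j) : i = j :=
  N.J_inj (Y.disjoint _ (N.J_mem i) _ (N.J_mem j) p h h')

theorem exists_node {p : ℕ} (hp : p < D.rank) : ∃ i, p ∈ N.J i := by
  obtain ⟨K, hK, hpK⟩ := Y.W.node_mem hp
  obtain ⟨i, rfl⟩ := N.J_surj K hK
  exact ⟨i, hpK⟩

/-- The orbit of a node. -/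
noncomputable def node (p : Fin D.rank) : Fin N.m := Classical.choose (N.exists_node p.2)

theorem mem_node (p : Fin D.rank) : (p : ℕ) ∈ N.J (N.node p) :=
  Classical.choose_spec (N.exists_node p.2)

theorem node_eq {i : Fin N.m} {p : Fin D.rank} (h : (p : ℕ) ∈ N.J i) : N.node p = i :=
  N.node_unique (N.mem_node p) h

theorem exists_Phi (i : Fin N.m) : ∃ Ψ : SL(2, N.L i) →* GL D.Idx F, ∀ g, Ψ g =
    ((N.J i).map fun p => c.slNode p
      (Matrix.SpecialLinearGroup.map ((N.E p).comp (N.L i).subtype) g)).prod := by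
  refine exists_prodHom (fun p => (c.slNode p).comp
    (Matrix.SpecialLinearGroup.map ((N.E p).comp (N.L i).subtype))) _ ?_
  exact (N.orth i).imp_of_mem fun hp hp' h g g' =>
    c.slNode_commute (N.lt hp) (N.lt hp') h _ _

/-- The homomorphism of an orbit. -/
noncomputable def Phi (i : Fin N.m) : SL(2, N.L i) →* GL D.Idx F :=
  Classical.choose (N.exists_Phi i)

theorem Phi_apply (i : Fin N.m) (g : SL(2, N.L i)) : N.Phi i g =
    ((N.J i).map fun p => c.slNode p
      (Matrix.SpecialLinearGroup.map ((N.E p).comp (N.L i).subtype) g)).prod :=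
  Classical.choose_spec (N.exists_Phi i) g

theorem map_upSL {L : Type*} [Field L] (e : L →+* F) (t : L) :
    Matrix.SpecialLinearGroup.map e (upSL t) = upSL (e t) := by
  refine ext_two ?_ ?_ ?_ ?_ <;> simp [upSL_val, Matrix.SpecialLinearGroup.map_apply_coe]

theorem map_loSL {L : Type*} [Field L] (e : L →+* F) (t : L) :
    Matrix.SpecialLinearGroup.map e (loSL t) = loSL (e t) := by
  refine ext_two ?_ ?_ ?_ ?_ <;> simp [loSL_val, Matrix.SpecialLinearGroup.map_apply_coe]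

theorem map_nSL {L : Type*} [Field L] (e : L →+* F) (t : L) :
    Matrix.SpecialLinearGroup.map e (nSL t) = nSL (e t) := by
  simp only [nSL, map_mul, map_upSL, map_loSL, map_neg, map_inv₀]

theorem Phi_up (i : Fin N.m) (t : N.L i) : N.Phi i (upSL t) = upProd c N.E (N.J i) t := by
  rw [N.Phi_apply, upProd]
  refine congrArg List.prod (List.map_congr_left fun p hp => ?_)
  rw [map_upSL, (c.slNode_spec (N.lt hp)).2.1]
  rfl

theorem Phi_lo (i : Fin N.m) (t : N.L i) : N.Phi i (loSL t) = loProd c N.E (N.J i) t := by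
  rw [N.Phi_apply, loProd]
  refine congrArg List.prod (List.map_congr_left fun p hp => ?_)
  rw [map_loSL, (c.slNode_spec (N.lt hp)).2.2]
  rfl

theorem Phi_n (i : Fin N.m) : N.Phi i (nSL 1) = c.nw F (N.J i) := by
  rw [N.Phi_apply, Cert.nw]
  refine congrArg List.prod (List.map_congr_left fun p hp => ?_)
  rw [map_nSL, map_one, c.slNode_nSL (N.lt hp)]
  rfl

theorem up_mem_X (i : Fin N.m) (t : N.L i) : upProd c N.E (N.J i) t ∈ Y.X (N.J i) := by
  refine ⟨?_, N.up_fix i t t.2⟩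
  refine Subgroup.list_prod_mem _ fun g hg => ?_
  obtain ⟨p, hp, rfl⟩ := List.mem_map.1 hg
  have hpos := c.pos_simple (N.lt hp)
  have hmem : D.simple p ∈ c.invSet (N.J i) := ⟨hpos, (Y.W.J_spec (N.J_mem i)).2.2.2.2.1 p hp⟩
  exact c.xg_mem_KS hmem hpos.1 _

theorem up_eq_one {i : Fin N.m} {t : F} (h : upProd c N.E (N.J i) t = 1) : t = 0 := by
  obtain ⟨hne, -⟩ := Y.W.J_spec (N.J_mem i)
  cases hJ : N.J i with
  | nil => exact absurd hJ hne
  | cons p l =>
    have hp : p < D.rank := N.lt (i := i) (by rw [hJ]; simp)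
    have horth := N.orth i
    rw [hJ, List.pairwise_cons] at horth
    have hl : ((l.map fun q => c.xg (D.simple q) (N.E q t))).prod ∈ Up D F p := by
      refine Subgroup.list_prod_mem _ fun g hg => ?_
      obtain ⟨q, hq, rfl⟩ := List.mem_map.1 hg
      have hql : q < D.rank := N.lt (i := i) (by rw [hJ]; simp [hq])
      refine c.xg_mem_Up (c.pos_simple hql) (fun e => ?_) _
      obtain rfl := c.simple_inj hql hp e
      exact c.not_commute_opp_self (F := F) hp fun a b =>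
        horth.1 q hq _ _ (Or.inl rfl) (Or.inr rfl) a b
    rw [upProd, hJ, List.map_cons, List.prod_cons, mul_eq_one_iff_eq_inv] at h
    exact (map_eq_zero (N.E p)).1 (c.notMem_Up hp (h ▸ inv_mem hl))

variable [Finite F]

theorem X_eq (i : Fin N.m) {x : GL D.Idx F} :
    x ∈ Y.X (N.J i) ↔ ∃ t : N.L i, upProd c N.E (N.J i) t = x := by
  obtain ⟨hne, hlt, hC, -⟩ := Y.W.J_spec (N.J_mem i)
  obtain ⟨p, hp⟩ := List.exists_mem_of_ne_nil _ hne
  haveI : Finite (c.invSet (N.J i)) :=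
    Set.Finite.to_subtype ((Set.finite_Iio D.nroots).subset fun r hr => hr.1.2)
  have hcard := (Y.G.card_fix_KS Y.lifts (c.invSet_closed hlt) (Datum.invSet_stable hlt hC)).2
  rw [c.invSet_card, ← c.invT_eq hlt, ← N.card i] at hcard
  have hc : Nat.card (Y.X (N.J i)) = Nat.card (N.L i) := Nat.pow_left_injective Y.e_pos.ne' hcard
  let φ : N.L i → Y.X (N.J i) := fun t => ⟨_, N.up_mem_X i t⟩
  have hinj : Function.Injective φ := by
    intro a b e
    have e' : N.Phi i (upSL a) = N.Phi i (upSL b) := by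
      rw [N.Phi_up, N.Phi_up]; exact congrArg Subtype.val e
    have h1 : N.Phi i (upSL (a - b)) = 1 := by
      rw [sub_eq_add_neg, upSL_add, map_mul, e', ← map_mul, ← upSL_add, add_neg_cancel, upSL_zero,
        map_one]
    rw [N.Phi_up] at h1
    exact sub_eq_zero.1 (Subtype.ext (N.up_eq_one h1))
  have hbij : Function.Bijective φ :=
    (Nat.bijective_iff_injective_and_card φ).2 ⟨hinj, hc.symm⟩
  refine ⟨fun hx => (hbij.2 ⟨x, hx⟩).imp fun t ht => congrArg Subtype.val ht, ?_⟩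
  rintro ⟨t, rfl⟩
  exact N.up_mem_X i t

theorem nw_conj_up (i : Fin N.m) (t : N.L i) :
    c.nw F (N.J i) * upProd c N.E (N.J i) t * (c.nw F (N.J i))⁻¹ =
      loProd c N.E (N.J i) ((-t : N.L i) : F) := by
  rw [← N.Phi_n, ← N.Phi_up, ← N.Phi_lo, ← map_inv, ← map_mul, ← map_mul,
    nSL_conj_up one_ne_zero, mul_inv_cancel_right, mul_one, div_one]

theorem Xm_eq (i : Fin N.m) {x : GL D.Idx F} :
    x ∈ Y.Xm (N.J i) ↔ ∃ t : N.L i, loProd c N.E (N.J i) t = x := by
  constructor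
  · rintro ⟨y, hy, rfl⟩
    obtain ⟨t, rfl⟩ := (N.X_eq i).1 hy
    exact ⟨-t, (N.nw_conj_up i t).symm⟩
  · rintro ⟨t, rfl⟩
    refine ⟨upProd c N.E (N.J i) (((-t : N.L i)) : F), N.up_mem_X i _, ?_⟩
    simpa using N.nw_conj_up i (-t)

theorem lo_mem_Xm (i : Fin N.m) (t : N.L i) : loProd c N.E (N.J i) t ∈ Y.Xm (N.J i) :=
  (N.Xm_eq i).2 ⟨t, rfl⟩

theorem up_mem_U₁ (i : Fin N.m) (t : N.L i) : upProd c N.E (N.J i) t ∈ Y.U₁ :=
  ⟨c.KS_invSet_le_U (Y.W.J_spec (N.J_mem i)).2.1 (N.up_mem_X i t).1, N.up_fix i t t.2⟩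

theorem lo_mem_V₁ (i : Fin N.m) (t : N.L i) : loProd c N.E (N.J i) t ∈ Y.V₁ :=
  Y.Xm_le_V₁ (N.J_mem i) (N.lo_mem_Xm i t)

theorem Phi_mem (i : Fin N.m) (g : SL(2, N.L i)) : N.Phi i g ∈ Y.G₁ := by
  have hup : ∀ t, upSL t ∈ Y.G₁.comap (N.Phi i) := fun t => by
    rw [Subgroup.mem_comap, N.Phi_up]; exact Y.U₁_le (N.up_mem_U₁ i t)
  have hlo : ∀ t, loSL t ∈ Y.G₁.comap (N.Phi i) := fun t => by
    rw [Subgroup.mem_comap, N.Phi_lo]; exact Y.V₁_le (N.lo_mem_V₁ i t)
  rw [← Subgroup.mem_comap]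
  have key : ∀ h : SL(2, N.L i), h.1 1 0 ≠ 0 → h ∈ Y.G₁.comap (N.Phi i) := by
    intro h hc
    have e : h = upSL ((h.1 0 0 - 1) / h.1 1 0) * loSL (h.1 1 0) *
        upSL ((h.1 1 1 - 1) / h.1 1 0) := by
      refine ext_two ?_ ?_ ?_ ?_ <;>
        simp [upSL_val, loSL_val, Matrix.mul_apply, Fin.sum_univ_two]
      all_goals field_simp
      all_goals first
        | linear_combination (-1 : N.L i) * det_two h
        | linear_combination (0 : N.L i) * det_two h
    rw [e]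
    exact mul_mem (mul_mem (hup _) (hlo _)) (hup _)
  by_cases hc : g.1 1 0 = 0
  · have h1 := key (g * loSL 1) (by
      simp [loSL_val, Matrix.mul_apply, Fin.sum_univ_two, hc]
      intro e; simpa [hc, e] using det_two g)
    have := mul_mem h1 (inv_mem (hlo 1))
    rwa [mul_inv_cancel_right] at this
  · exact key g hc

/-- The homomorphism of an orbit into the twisted group. -/
noncomputable def PhiG (i : Fin N.m) : SL(2, N.L i) →* ↥Y.G₁ :=
  (N.Phi i).codRestrict Y.G₁ (N.Phi_mem i)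

/-- The positive root elements of an orbit. -/
noncomputable def upG (i : Fin N.m) (t : N.L i) : ↥Y.G₁ := N.PhiG i (upSL t)

/-- The negative root elements of an orbit. -/
noncomputable def loG (i : Fin N.m) (t : N.L i) : ↥Y.G₁ := N.PhiG i (loSL t)

@[simp] theorem upG_coe (i : Fin N.m) (t : N.L i) :
    (N.upG i t : GL D.Idx F) = upProd c N.E (N.J i) t := N.Phi_up i t

@[simp] theorem loG_coe (i : Fin N.m) (t : N.L i) :
    (N.loG i t : GL D.Idx F) = loProd c N.E (N.J i) t := N.Phi_lo i t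

theorem PhiG_up_eq_one (i : Fin N.m) (a : N.L i) (h : N.PhiG i (upSL a) = 1) : a = 0 :=
  Subtype.ext (N.up_eq_one (by
    have := congrArg Subtype.val h
    rwa [show (N.PhiG i (upSL a) : GL D.Idx F) = _ from N.upG_coe i a] at this))

theorem PhiG_disj (i : Fin N.m) (a b : N.L i) (h : N.PhiG i (loSL b) = N.PhiG i (upSL a)) :
    b = 0 := by
  have h1 : N.Phi i (loSL b) = N.Phi i (upSL a) := congrArg Subtype.val h
  rw [N.Phi_lo, N.Phi_up] at h1
  have h2 := c.borel_inf_negUnipotent.1.le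
    ⟨Subgroup.mem_sup_left (h1 ▸ (N.up_mem_U₁ i a).1), (N.lo_mem_V₁ i b).1⟩
  rw [Subgroup.mem_bot] at h2
  have h3 := N.nw_conj_up i (-b)
  rw [neg_neg, h2, conj_eq_one_iff] at h3
  exact neg_eq_zero.1 (Subtype.ext (N.up_eq_one h3))

theorem hom_ext {M : Type*} [Group M] {a b : ↥Y.G₁ →* M}
    (h : ∀ i t, a (N.upG i t) = b (N.upG i t) ∧ a (N.loG i t) = b (N.loG i t)) : a = b := by
  refine MonoidHom.ext fun g => ?_
  have key : ∀ g' : GL D.Idx F, g' ∈ Y.G₁ → ∀ hg : g' ∈ Y.G₁, a ⟨g', hg⟩ = b ⟨g', hg⟩ := by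
    intro g' hg'
    refine Subgroup.closure_induction (p := fun x _ => x ∈ Y.G₁ ∧ ∀ hg : x ∈ Y.G₁,
      a ⟨x, hg⟩ = b ⟨x, hg⟩) ?_ ⟨one_mem _, fun _ => (map_one a).trans (map_one b).symm⟩
      ?_ ?_ (N.gens hg') |>.2
    · rintro x ⟨i, t, ht, rfl | rfl⟩
      · refine ⟨Y.U₁_le (N.up_mem_U₁ i ⟨t, ht⟩), fun hg => ?_⟩
        rw [show (⟨_, hg⟩ : ↥Y.G₁) = N.upG i ⟨t, ht⟩ from Subtype.ext (N.upG_coe i ⟨t, ht⟩).symm]
        exact (h i _).1
      · refine ⟨Y.V₁_le (N.lo_mem_V₁ i ⟨t, ht⟩), fun hg => ?_⟩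
        rw [show (⟨_, hg⟩ : ↥Y.G₁) = N.loG i ⟨t, ht⟩ from Subtype.ext (N.loG_coe i ⟨t, ht⟩).symm]
        exact (h i _).2
    · rintro x y - - ⟨hx, ex⟩ ⟨hy, ey⟩
      refine ⟨mul_mem hx hy, fun hg => ?_⟩
      rw [show (⟨x * y, hg⟩ : ↥Y.G₁) = ⟨x, hx⟩ * ⟨y, hy⟩ from rfl, map_mul, map_mul, ex, ey]
    · rintro x - ⟨hx, ex⟩
      refine ⟨inv_mem hx, fun hg => ?_⟩
      rw [show (⟨x⁻¹, hg⟩ : ↥Y.G₁) = (⟨x, hx⟩)⁻¹ from rfl, map_inv, map_inv, ex]
  exact key g g.2 g.2

/-- Opposite root groups of different orbits commute. -/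
theorem commute_opp {i j : Fin N.m} (hij : i ≠ j) (t : N.L i) (u : N.L j) :
    Commute (upProd c N.E (N.J i) t) (loProd c N.E (N.J j) u) := by
  refine Commute.list_prod_left _ _ fun x hx => Commute.list_prod_right _ _ fun y hy => ?_
  obtain ⟨p, hp, rfl⟩ := List.mem_map.1 hx
  obtain ⟨q, hq, rfl⟩ := List.mem_map.1 hy
  exact c.commute_opp (N.lt hp) (N.lt hq) (fun e => hij (N.node_unique hp (e ▸ hq))) _ _

theorem not_commute_opp_self (i : Fin N.m) :
    ¬ ∀ t u : N.L i, Commute (N.upG i t) (N.loG i u) := by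
  intro h
  have hc : Commute (N.PhiG i (nSL (1 : N.L i))) (N.upG i 1) := by
    have hu : ∀ t : N.L i, Commute (N.upG i t) (N.upG i 1) := fun t => by
      show _ = _
      rw [upG, upG, ← map_mul, ← map_mul, ← upSL_add, ← upSL_add, add_comm]
    rw [nSL, map_mul, map_mul]
    exact ((hu _).mul_left (h 1 _).symm).mul_left (hu _)
  have e := hc.eq
  rw [upG, ← map_mul, nSL_conj_up one_ne_zero, map_mul] at e
  have e2 := N.PhiG_disj i 1 _ (mul_right_cancel e)
  simp at e2

end Nodes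

end Twist

end Cfsg.Agent.Lie.Chev
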