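import Cfsg.Agent.Lib.Lie.Chev.TwistCommon
import Cfsg.Agent.Lib.Lie.Chev.TwistDataE6
import Cfsg.Agent.Lib.Lie.Chev.OrderE6
import Cfsg.Prelude.Def_LieTwisted

/-! The group ²E₆(q) as the fixed subgroup of the graph automorphism twisted by the `q`-th power
map. -/

set_option autoImplicit false

namespace Cfsg.Agent.Lie.Chev.E6

open Cfsg.Lie Matrix
open scoped commutatorElement

theorem graphE6_values :
    (graphE6.ρ 56 = 36 ∧ graphE6.ρ 36 = 56 ∧ graphE6.ρ 42 = 37 ∧ graphE6.ρ 37 = 42 ∧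
      graphE6.ρ 46 = 46 ∧ graphE6.ρ 39 = 39 ∧ graphE6.ρ 15 = 35 ∧ graphE6.ρ 35 = 15 ∧
      graphE6.ρ 29 = 34 ∧ graphE6.ρ 34 = 29 ∧ graphE6.ρ 25 = 25 ∧ graphE6.ρ 32 = 32) ∧
    ([56, 36, 42, 37, 46, 39, 15, 35, 29, 34, 25, 32].all fun r => graphE6.ε r == 1) = true := by
  decide

/-- The two roots of each orbit of size two commute, with their negatives. -/
theorem commTerms_nil : ([(56, 36), (42, 37)].all fun p =>
    [p.1, 71 - p.1].all fun a => [p.2, 71 - p.2].all fun b =>
      !(Nat.beq b a) && !(Nat.beq b (71 - a)) && (certFullE6.T.commTerms a b).isEmpty) = true := by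
  decide +kernel

theorem simple_values : chevE6.simple 0 = 56 ∧ chevE6.simple 1 = 46 ∧ chevE6.simple 2 = 42 ∧
    chevE6.simple 3 = 39 ∧ chevE6.simple 4 = 37 ∧ chevE6.simple 5 = 36 ∧ chevE6.rank = 6 ∧
    chevE6.nroots = 72 ∧ chevE6.neg 56 = 15 ∧ chevE6.neg 36 = 35 ∧ chevE6.neg 42 = 29 ∧
    chevE6.neg 37 = 34 ∧ chevE6.neg 46 = 25 ∧ chevE6.neg 39 = 32 := by
  decide

variable {K : Type*} [Field K] (f : K →+* K)

/-- The twisting endomorphism. -/
noncomputable def tw : Twist certFullE6 K := graphE6.twist f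

theorem act_x {r : ℕ} (hr : r < 72) (hε : graphE6.ε r = 1) (t : K) :
    (tw f).act (certFullE6.xg r t) = certFullE6.xg (graphE6.ρ r) (f t) := by
  rw [(tw f).act_xg (show r < chevE6.nroots from hr)]
  show certFullE6.xg (graphE6.ρ r) ((graphE6.ε r : K) * f t) = _
  rw [hε, Int.cast_one, one_mul]

/-- An orbit of size two. -/
def IsPair (r r' : ℕ) : Prop := (r = 56 ∧ r' = 36) ∨ (r = 42 ∧ r' = 37)

theorem comm_x {r r' a b : ℕ} (h : IsPair r r') (ha : a ∈ [r, 71 - r]) (hb : b ∈ [r', 71 - r'])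
    (t u : K) : Commute (certFullE6.xg a t) (certFullE6.xg b u) := by
  have hc := commTerms_nil
  simp only [List.all_eq_true, Bool.and_eq_true, Bool.not_eq_true', List.isEmpty_iff] at hc
  obtain ⟨⟨h1, h2⟩, h3⟩ := hc (r, r') (by rcases h with ⟨rfl, rfl⟩ | ⟨rfl, rfl⟩ <;> simp) a ha b hb
  have hlt : a < 72 ∧ b < 72 := by
    simp only [List.mem_cons, List.not_mem_nil, or_false] at ha hb
    rcases h with ⟨rfl, rfl⟩ | ⟨rfl, rfl⟩ <;> omega
  have e : chevE6.neg a = 71 - a := certFullE6.neg_eq hlt.1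
  refine certFullE6.xg_commute hlt.1 hlt.2 (fun e' => ?_) (fun e' => ?_) h3 t u
  · rw [e', beq_of_eq rfl] at h1; exact Bool.noConfusion h1
  · rw [beq_of_eq (e'.trans e)] at h2; exact Bool.noConfusion h2

theorem ngs_commute {r r' : ℕ} (h : IsPair r r') (t u : K) :
    Commute (certFullE6.ng r t) (certFullE6.ng r' u) := by
  have hn : chevE6.neg r = 71 - r ∧ chevE6.neg r' = 71 - r' := by
    rcases h with ⟨rfl, rfl⟩ | ⟨rfl, rfl⟩ <;>
      exact ⟨certFullE6.neg_eq (by show _ < 72; omega), certFullE6.neg_eq (by show _ < 72; omega)⟩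
  have key : ∀ a ∈ [r, 71 - r], ∀ t : K, Commute (certFullE6.xg a t) (certFullE6.ng r' u) := by
    intro a ha t
    rw [Cert.ng, hn.2]
    exact ((comm_x h ha (by simp) t _).mul_right (comm_x h ha (by simp) t _)).mul_right
      (comm_x h ha (by simp) t _)
  rw [Cert.ng, hn.1]
  exact ((key r (by simp) _).mul_left (key _ (by simp) _)).mul_left (key r (by simp) _)

variable [Fintype K] {q : ℕ} (hf : ∀ t, f t = t ^ q) (hK : Fintype.card K = q ^ 2)

include hf hK

theorem pow_sq (t : K) : f (f t) = t := by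
  rw [hf, hf, ← pow_mul, ← sq, ← hK, FiniteField.pow_card]

theorem one_lt_q : 1 < q := by
  have h := Fintype.one_lt_card (α := K)
  rw [hK] at h
  rcases Nat.lt_or_ge 1 q with h' | h'
  · exact h'
  · exfalso
    have := Nat.pow_le_pow_left h' 2
    omega

omit hK in
theorem gen1 {r : ℕ} (hr : r ∈ [46, 25, 39, 32]) {t : K} (ht : f t = t) :
    certFullE6.xg r t ∈ twistedE6 K q := by
  have h := wordProd_mem certFullE6 (S := e6Words K q) (w := [(r, t)])
    (Or.inl ⟨t, by rwa [← hf], r, by simpa [e6p2, e6m2, e6p4, e6m4] using hr, rfl⟩)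
  simpa [twistedE6] using h

omit hK in
theorem gen2 {r r' : ℕ} (h : (r, r') ∈ [(56, 36), (15, 35), (42, 37), (29, 34)]) (t : K) :
    certFullE6.xg r t * certFullE6.xg r' (f t) ∈ twistedE6 K q := by
  have hw := wordProd_mem certFullE6 (S := e6Words K q) (w := [(r, t), (r', t ^ q)])
    (Or.inr ⟨t, (r, r'), by simpa [e6p1, e6p6, e6m1, e6m6, e6p3, e6p5, e6m3, e6m5] using h, rfl⟩)
  simpa [twistedE6, hf t] using hw

omit hK in
theorem ng1_mem {r : ℕ} (h : r = 46 ∨ r = 39) {t : K} (ht : f t = t) :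
    certFullE6.ng r t ∈ twistedE6 K q := by
  obtain ⟨-, -, -, -, -, -, -, -, -, -, -, -, n46, n39⟩ := simple_values
  rcases h with rfl | rfl
  · rw [Cert.ng, n46]
    exact mul_mem (mul_mem (gen1 f hf (by simp) ht)
      (gen1 f hf (by simp) (by rw [map_neg, map_inv₀, ht]))) (gen1 f hf (by simp) ht)
  · rw [Cert.ng, n39]
    exact mul_mem (mul_mem (gen1 f hf (by simp) ht)
      (gen1 f hf (by simp) (by rw [map_neg, map_inv₀, ht]))) (gen1 f hf (by simp) ht)

omit hK in
theorem ng2_mem {r r' : ℕ} (h : IsPair r r') (s : K) :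
    certFullE6.ng r s * certFullE6.ng r' (f s) ∈ twistedE6 K q := by
  have e1 : f (-s⁻¹) = -(f s)⁻¹ := by rw [map_neg, map_inv₀]
  have hn : chevE6.neg r = 71 - r ∧ chevE6.neg r' = 71 - r' := by
    rcases h with ⟨rfl, rfl⟩ | ⟨rfl, rfl⟩ <;>
      exact ⟨certFullE6.neg_eq (by show _ < 72; omega), certFullE6.neg_eq (by show _ < 72; omega)⟩
  have key : (certFullE6.xg r s * certFullE6.xg r' (f s)) *
      (certFullE6.xg (71 - r) (-s⁻¹) * certFullE6.xg (71 - r') (f (-s⁻¹))) *
      (certFullE6.xg r s * certFullE6.xg r' (f s)) =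
      certFullE6.ng r s * certFullE6.ng r' (f s) := by
    rw [e1, Cert.ng, Cert.ng, hn.1, hn.2,
      mul2_comm (comm_x h (by simp) (by simp) _ _).symm,
      mul2_comm ((comm_x h (by simp) (by simp) _ _).symm.mul_left
        (comm_x h (by simp) (by simp) _ _).symm)]
  have h1 : (r, r') ∈ [(56, 36), (15, 35), (42, 37), (29, 34)] ∧
      (71 - r, 71 - r') ∈ [(56, 36), (15, 35), (42, 37), (29, 34)] := by
    rcases h with ⟨rfl, rfl⟩ | ⟨rfl, rfl⟩ <;> simp
  rw [← key]
  exact mul_mem (mul_mem (gen2 f hf h1.1 _) (gen2 f hf h1.2 _)) (gen2 f hf h1.1 _)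

omit hK in
theorem hg2_mem {r r' : ℕ} (h : IsPair r r') (s : K) :
    certFullE6.hg r s * certFullE6.hg r' (f s) ∈ twistedE6 K q := by
  rw [Cert.hg, Cert.hg, ← mul2_comm (ngs_commute h _ _).symm]
  have h' := ng2_mem f hf h (-1 : K)
  simp only [map_neg, map_one] at h'
  exact mul_mem (ng2_mem f hf h s) h'

theorem le_fix : twistedE6 K q ≤ (tw f).fix := by
  obtain ⟨⟨r1, r2, r3, r4, r5, r6, r7, r8, r9, r10, r11, r12⟩, he⟩ := graphE6_values
  simp only [List.all_eq_true, beq_iff_eq] at he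
  refine (Subgroup.closure_le _).2 ?_
  rintro g ⟨w, hw, hg⟩
  obtain rfl := eq_wordProd certFullE6 hg
  have hx : ∀ (r : ℕ), r < 72 → ∀ t : K, certFullE6.xg r t ∈ chevE6.group K := fun r hr t =>
    certFullE6.xg_mem_group hr t
  rcases hw with ⟨t, ht, r, hr, rfl⟩ | ⟨t, rs, hrs, rfl⟩
  · have hft : f t = t := by rw [hf, ht]
    simp only [e6p2, e6m2, e6p4, e6m4, List.mem_cons, List.not_mem_nil, or_false] at hr
    simp only [List.map_cons, List.map_nil, List.prod_cons, List.prod_nil, mul_one]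
    refine (tw f).mem_fix.2 ⟨hx r (by omega) t, ?_⟩
    rcases hr with rfl | rfl | rfl | rfl
    · rw [act_x f (by omega) (he 46 (by simp)), r5, hft]
    · rw [act_x f (by omega) (he 25 (by simp)), r11, hft]
    · rw [act_x f (by omega) (he 39 (by simp)), r6, hft]
    · rw [act_x f (by omega) (he 32 (by simp)), r12, hft]
  · simp only [e6p1, e6p6, e6m1, e6m6, e6p3, e6p5, e6m3, e6m5, List.mem_cons, List.not_mem_nil,
      or_false] at hrs
    simp only [List.map_cons, List.map_nil, List.prod_cons, List.prod_nil, mul_one, ← hf]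
    have key : ∀ a b : ℕ, a < 72 → b < 72 → graphE6.ρ a = b → graphE6.ρ b = a →
        graphE6.ε a = 1 → graphE6.ε b = 1 →
        Commute (certFullE6.xg a t) (certFullE6.xg b (f t)) →
        certFullE6.xg a t * certFullE6.xg b (f t) ∈ (tw f).fix := by
      intro a b ha hb h1 h2 h3 h4 hc
      refine (tw f).mem_fix.2 ⟨mul_mem (hx a ha _) (hx b hb _), ?_⟩
      rw [(tw f).act_mul (hx a ha _) (hx b hb _), act_x f ha h3, act_x f hb h4, h1, h2,
        pow_sq f hf hK]
      exact hc.symm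
    rcases hrs with rfl | rfl | rfl | rfl
    · exact key 56 36 (by omega) (by omega) r1 r2 (he 56 (by simp)) (he 36 (by simp))
        (comm_x (r := 56) (r' := 36) (Or.inl ⟨rfl, rfl⟩) (by simp) (by simp) _ _)
    · exact key 15 35 (by omega) (by omega) r7 r8 (he 15 (by simp)) (he 35 (by simp))
        (comm_x (r := 56) (r' := 36) (Or.inl ⟨rfl, rfl⟩) (by simp) (by simp) _ _)
    · exact key 42 37 (by omega) (by omega) r3 r4 (he 42 (by simp)) (he 37 (by simp))
        (comm_x (r := 42) (r' := 37) (Or.inr ⟨rfl, rfl⟩) (by simp) (by simp) _ _)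
    · exact key 29 34 (by omega) (by omega) r9 r10 (he 29 (by simp)) (he 34 (by simp))
        (comm_x (r := 42) (r' := 37) (Or.inr ⟨rfl, rfl⟩) (by simp) (by simp) _ _)

theorem nw_fix : ∀ J ∈ orbitsE6, (tw f).act (certFullE6.nw K J) = certFullE6.nw K J := by
  obtain ⟨s0, s1, s2, s3, s4, s5, hr, -⟩ := simple_values
  intro J hJ
  simp only [orbitsE6, List.mem_cons, List.not_mem_nil, or_false] at hJ
  have hlt : ∀ p ∈ J, p < chevE6.rank := by
    rw [hr]; rcases hJ with rfl | rfl | rfl | rfl <;> simp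
  rw [(tw f).act_nw hlt]
  rcases hJ with rfl | rfl | rfl | rfl
  · rfl
  · rfl
  · show certFullE6.nw K [4, 2] = certFullE6.nw K [2, 4]
    simp only [Cert.nw_cons, Cert.nw_nil, mul_one, Cert.np, s2, s4]
    exact (ngs_commute (Or.inr ⟨rfl, rfl⟩) _ _).eq.symm
  · show certFullE6.nw K [5, 0] = certFullE6.nw K [0, 5]
    simp only [Cert.nw_cons, Cert.nw_nil, mul_one, Cert.np, s0, s5]
    exact (ngs_commute (Or.inl ⟨rfl, rfl⟩) _ _).eq.symm

/-- The fixed elements of the Weyl group. -/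
noncomputable def weyl : (tw f).FixedWeyl where
  Jw := orbitsE6
  E := twistE6Reps
  N := 1152
  order := twistE6Order
  orbits := orbitsE6_ok
  list := twistE6Reps_ok
  nw_fix := nw_fix f hf hK

omit hf hK [Fintype K] in
theorem checkFrob_ok : certFullE6.T.checkFrob graphE6.ρ graphE6.ε 2 = true := by decide +kernel

/-- The grading. -/
noncomputable def grading : (tw f).Grading 2 :=
  (tw f).frobGrading (one_lt_q f hf hK) (by rw [Nat.card_eq_fintype_card, hK]) (by omega) hf
    (fun _ => rfl) checkFrob_ok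

theorem n_mem : ∀ J ∈ orbitsE6, certFullE6.nw K J ∈ twistedE6 K q := by
  obtain ⟨s0, s1, s2, s3, s4, s5, -⟩ := simple_values
  intro J hJ
  simp only [orbitsE6, List.mem_cons, List.not_mem_nil, or_false] at hJ
  rcases hJ with rfl | rfl | rfl | rfl <;>
    simp only [Cert.nw_cons, Cert.nw_nil, mul_one, Cert.np, s0, s1, s2, s3, s4, s5]
  · exact ng1_mem f hf (Or.inl rfl) (map_one f)
  · exact ng1_mem f hf (Or.inr rfl) (map_one f)
  · have h := ng2_mem f hf (r := 42) (r' := 37) (Or.inr ⟨rfl, rfl⟩) (1 : K)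
    simpa only [map_one] using h
  · have h := ng2_mem f hf (r := 56) (r' := 36) (Or.inl ⟨rfl, rfl⟩) (1 : K)
    simpa only [map_one] using h

omit hK hf [Fintype K] in
theorem root_reached : ∀ r ∈ List.range' 36 36,
    ((List.range 1152).any fun i => (twistE6Reps.get i).img.any (Nat.beq r)) = true := by
  decide +kernel

theorem lifts : (grading f hf hK).Lifts (twistedE6 K q) := by
  obtain ⟨⟨r1, r2, r3, r4, r5, r6, -⟩, he⟩ := graphE6_values
  simp only [List.all_eq_true, beq_iff_eq] at he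
  obtain ⟨s0, s1, s2, s3, s4, s5, hrk, hnr, -⟩ := simple_values
  refine (tw f).frob_lifts (weyl f hf hK) _ (le_fix f hf hK) (fun i hi => ?_) (fun r hr => ?_)
    (fun p hp a ha => ?_)
  · have h := ((weyl f hf hK).step_spec i hi).1
    unfold Twist.FixedWeyl.wd
    revert h
    induction ((weyl f hf hK).E.get i).word with
    | nil => intro _; exact one_mem _
    | cons j w ih =>
      intro h
      rw [show flatW (weyl f hf hK).Jw (j :: w) =
        (weyl f hf hK).Jw.getD j [] ++ flatW (weyl f hf hK).Jw w by simp [flatW],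
        certFullE6.nw_append]
      exact mul_mem (n_mem f hf hK _ ((weyl f hf hK).getD_mem (h j (by simp))))
        (ih fun k hk => h k (by simp [hk]))
  · have h := root_reached r (by
      rw [List.mem_range'_1]
      exact ⟨hr.1, hr.2⟩)
    simp only [List.any_eq_true, List.mem_range, Nat.beq_eq] at h
    obtain ⟨i, hi, x, hx, rfl⟩ := h
    obtain ⟨k, hk, ex⟩ := List.getElem_of_mem hx
    obtain ⟨-, h2, h3, -⟩ := (weyl f hf hK).step_spec i hi
    have hk' : k < chevE6.rank := h2 ▸ hk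
    refine ⟨i, hi, k, hk', ?_⟩
    rw [← h3 k hk']
    exact (List.getD_eq_getElem _ _ hk).trans ex
  · have hstep : ∀ (r : ℕ) (x : K), graphE6.ε r = 1 →
        (tw f).step (r, x) = (graphE6.ρ r, f x) := by
      intro r x h
      show (graphE6.ρ r, (graphE6.ε r : K) * f x) = _
      rw [h, Int.cast_one, one_mul]
    rw [hrk] at hp
    have hper : ∀ r, (grading f hf hK).per r = if graphE6.ρ r = r then 1 else 2 := fun r => rfl
    have one : ∀ r : ℕ, graphE6.ε r = 1 → graphE6.ρ r = r → r ∈ [46, 25, 39, 32] →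
        (tw f).step^[(grading f hf hK).per r] (r, a) = (r, a) →
        ((List.range ((grading f hf hK).per r)).map fun k =>
          certFullE6.xg ((tw f).step^[k] (r, a)).1 ((tw f).step^[k] (r, a)).2).prod ∈
            twistedE6 K q := by
      intro r he hr hmem h
      rw [hper, if_pos hr, Function.iterate_one, hstep r _ he, hr, Prod.mk.injEq] at h
      rw [hper, if_pos hr]
      simp only [List.range_succ, List.range_zero, List.nil_append, List.map_cons, List.map_nil,
        List.prod_cons, List.prod_nil, mul_one, Function.iterate_zero, id_eq]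
      exact gen1 f hf hmem h.2
    have two : ∀ r r' : ℕ, graphE6.ε r = 1 → graphE6.ρ r = r' → r' ≠ r →
        certFullE6.xg r a * certFullE6.xg r' (f a) ∈ twistedE6 K q →
        ((List.range ((grading f hf hK).per r)).map fun k =>
          certFullE6.xg ((tw f).step^[k] (r, a)).1 ((tw f).step^[k] (r, a)).2).prod ∈
            twistedE6 K q := by
      intro r r' he hr hne h
      rw [hper, if_neg (by rw [hr]; exact hne)]
      simp only [List.range_succ, List.range_zero, List.nil_append, List.singleton_append,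
        List.map_cons, List.map_nil, List.prod_cons, List.prod_nil, mul_one,
        Function.iterate_succ_apply', Function.iterate_zero, id_eq, hstep r _ he, hr]
      exact h
    rcases (show p = 0 ∨ p = 1 ∨ p = 2 ∨ p = 3 ∨ p = 4 ∨ p = 5 by omega) with
      rfl | rfl | rfl | rfl | rfl | rfl
    · rw [s0]; exact two 56 36 (he 56 (by simp)) r1 (by omega) (gen2 f hf (by simp) a)
    · rw [s1] at ha ⊢; exact one 46 (he 46 (by simp)) r5 (by simp) ha
    · rw [s2]; exact two 42 37 (he 42 (by simp)) r3 (by omega) (gen2 f hf (by simp) a)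
    · rw [s3] at ha ⊢; exact one 39 (he 39 (by simp)) r6 (by simp) ha
    · rw [s4]
      refine two 37 42 (he 37 (by simp)) r4 (by omega) ?_
      rw [(comm_x (r := 42) (r' := 37) (Or.inr ⟨rfl, rfl⟩) (by simp) (by simp) _ _).symm.eq]
      have h := gen2 f hf (r := 42) (r' := 37) (by simp) (f a)
      rwa [pow_sq f hf hK] at h
    · rw [s5]
      refine two 36 56 (he 36 (by simp)) r2 (by omega) ?_
      rw [(comm_x (r := 56) (r' := 36) (Or.inl ⟨rfl, rfl⟩) (by simp) (by simp) _ _).symm.eq]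
      have h := gen2 f hf (r := 56) (r' := 36) (by simp) (f a)
      rwa [pow_sq f hf hK] at h

/-! ### The torus -/

omit hK hf [Fintype K] in
/-- The vectors fixed by the twist. -/
noncomputable def zOf : Kˣ × Kˣ × Kˣ × Kˣ →* (ℕ → Kˣ) where
  toFun x j :=
    if j = 0 then x.1 else if j = 1 then x.2.2.1 else if j = 2 then x.2.1
    else if j = 3 then x.2.2.2 else if j = 4 then Units.map (f : K →* K) x.2.1
    else if j = 5 then Units.map (f : K →* K) x.1 else 1
  map_one' := by funext j; simp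
  map_mul' x y := by funext j; simp only [Pi.mul_apply]; split_ifs <;> simp

omit hK hf [Fintype K] in
theorem zOf_apply (x : Kˣ × Kˣ × Kˣ × Kˣ) :
    zOf f x 0 = x.1 ∧ zOf f x 1 = x.2.2.1 ∧ zOf f x 2 = x.2.1 ∧ zOf f x 3 = x.2.2.2 ∧
    zOf f x 4 = Units.map (f : K →* K) x.2.1 ∧ zOf f x 5 = Units.map (f : K →* K) x.1 :=
  ⟨rfl, rfl, rfl, rfl, rfl, rfl⟩

omit hf hK [Fintype K] in
theorem tchar_simple (z : ℕ → Kˣ) :
    certFullE6.tchar z 56 = z 0 * z 0 * (z 2)⁻¹ ∧
    certFullE6.tchar z 46 = z 1 * z 1 * (z 3)⁻¹ ∧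
    certFullE6.tchar z 42 = z 2 * z 2 * (z 0 * z 3)⁻¹ ∧
    certFullE6.tchar z 39 = z 3 * z 3 * (z 1 * z 2 * z 4)⁻¹ ∧
    certFullE6.tchar z 37 = z 4 * z 4 * (z 3 * z 5)⁻¹ ∧
    certFullE6.tchar z 36 = z 5 * z 5 * (z 4)⁻¹ := by
  have hA : [56, 46, 42, 39, 37, 36].map (fun r => (List.range 6).map fun i => certFullE6.T.cartan i r) =
      [[2, 0, -1, 0, 0, 0], [0, 2, 0, -1, 0, 0], [-1, 0, 2, -1, 0, 0], [0, -1, -1, 2, -1, 0],
        [0, 0, 0, -1, 2, -1], [0, 0, 0, 0, -1, 2]] := by decide +kernel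
  simp only [List.map_cons, List.map_nil, List.range_succ, List.range_zero, List.nil_append,
    List.cons_append, List.cons.injEq, and_true] at hA
  simp only [Cert.tchar, show chevE6.rank = 6 from rfl, Finset.prod_range_succ,
    Finset.prod_range_zero, one_mul, hA, zpow_two, _root_.zpow_neg, zpow_one, _root_.zpow_zero,
    mul_one, _root_.mul_inv_rev]
  refine ⟨?_, ?_, ?_, ?_, ?_, ?_⟩ <;> simp only [mul_comm, mul_assoc, mul_left_comm]

omit hf hK [Fintype K] in
/-- The kernel of the torus map. -/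
theorem torus_eq_one_iff {z : ℕ → Kˣ} : certFullE6.torus z = 1 ↔
    z 0 ^ 3 = 1 ∧ z 1 = 1 ∧ z 2 = z 0 * z 0 ∧ z 3 = 1 ∧ z 4 = z 0 ∧ z 5 = z 0 * z 0 := by
  obtain ⟨a, b, d, e, g, i⟩ := tchar_simple z
  obtain ⟨s0, s1, s2, s3, s4, s5, hrk, -⟩ := simple_values
  constructor
  · intro h
    have h' : ∀ s < 72, certFullE6.tchar z s = 1 := fun s hs =>
      (dg_eq_iff chevE6 K).1 (h.trans (map_one (dg chevE6 K)).symm) s hs
    rw [h' _ (by omega), eq_comm, mul_inv_eq_one] at a b d e g i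
    -- work with values in the field
    have A : (z 2 : K) = z 0 * z 0 := by rw [← a, Units.val_mul]
    have B : (z 3 : K) = z 1 * z 1 := by rw [← b, Units.val_mul]
    have I : (z 4 : K) = z 5 * z 5 := by rw [← i, Units.val_mul]
    have D : (z 2 : K) * z 2 = z 0 * z 3 := by rw [← Units.val_mul, d, Units.val_mul]
    have E : (z 3 : K) * z 3 = z 1 * z 2 * z 4 := by
      rw [← Units.val_mul, e, Units.val_mul, Units.val_mul]
    have G : (z 4 : K) * z 4 = z 3 * z 5 := by rw [← Units.val_mul, g, Units.val_mul]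
    have n0 : (z 0 : K) ≠ 0 := (z 0).ne_zero
    have n5 : (z 5 : K) ≠ 0 := (z 5).ne_zero
    have n1 : (z 1 : K) ≠ 0 := (z 1).ne_zero
    have h3 : (z 3 : K) = (z 0 : K) ^ 3 := mul_left_cancel₀ n0 (by rw [← D, A]; ring)
    have h5 : (z 5 : K) ^ 3 = (z 0 : K) ^ 3 := mul_left_cancel₀ n5 (by
      rw [← h3, mul_comm (z 5 : K) (z 3 : K), ← G, I]; ring)
    have hz1 : (z 1 : K) * z 1 = (z 0 : K) ^ 3 := by rw [← B, h3]
    have hE : (z 0 : K) ^ 6 = z 1 * ((z 0 : K) ^ 2 * (z 5 : K) ^ 2) := by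
      calc (z 0 : K) ^ 6 = z 3 * z 3 := by rw [h3]; ring
        _ = _ := by rw [E, A, I]; ring
    have hz5 : (z 5 : K) = (z 0 : K) ^ 2 := by
      have h12 : (z 0 : K) ^ 12 = (z 0 : K) ^ 7 * (z 5 : K) ^ 4 := by
        calc (z 0 : K) ^ 12 = ((z 0 : K) ^ 6) ^ 2 := by ring
          _ = _ := by rw [hE]; linear_combination ((z 0 : K) ^ 4 * (z 5 : K) ^ 4) * hz1
      refine mul_left_cancel₀ (pow_ne_zero 10 n0) ?_
      linear_combination (z 0 : K) ^ 7 * (z 5 : K) * (-1 : K) * h5 - h12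
    have h03 : (z 0 : K) ^ 3 = 1 := by
      rw [hz5] at h5
      exact mul_left_cancel₀ (pow_ne_zero 3 n0) (by linear_combination h5)
    have hz4 : (z 4 : K) = z 0 := by rw [I, hz5]; linear_combination (z 0 : K) * h03
    have hone : (z 1 : K) = 1 := by
      rw [hz5] at hE
      refine mul_right_cancel₀ (pow_ne_zero 6 n0) ?_
      linear_combination -hE
    refine ⟨?_, ?_, ?_, ?_, ?_, ?_⟩ <;> refine Units.ext ?_ <;>
      try simp only [Units.val_pow_eq_pow_val, Units.val_one, Units.val_mul]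
    · exact h03
    · exact hone
    · exact A
    · rw [h3, h03]
    · exact hz4
    · rw [hz5]; ring
  · rintro ⟨h0, h1, h2, h3, h4, h5⟩
    rw [Cert.torus_apply, ← map_one (dg chevE6 K)]
    refine dg_ext chevE6 K fun u hu => ?_
    rw [certFullE6.tchar_eq_prod _ hu]
    refine Finset.prod_eq_one fun j hj => ?_
    have h0' : z 0 * z 0 * z 0 = 1 := by rw [← h0, pow_three, mul_assoc]
    rw [hrk, Finset.mem_range] at hj
    rcases (show j = 0 ∨ j = 1 ∨ j = 2 ∨ j = 3 ∨ j = 4 ∨ j = 5 by omega) with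
      rfl | rfl | rfl | rfl | rfl | rfl
    · rw [s0, a, h2, mul_inv_cancel, _root_.one_zpow]
    · rw [s1, b, h1, h3]; simp
    · rw [s2, d, h2, h3, mul_one, show z 0 * z 0 * (z 0 * z 0) = z 0 * z 0 * z 0 * z 0 by
        simp only [mul_assoc], h0', one_mul, mul_inv_cancel, _root_.one_zpow]
    · rw [s3, e, h1, h2, h3, h4]
      simp only [one_mul]
      rw [h0', inv_one, _root_.one_zpow]
    · rw [s4, g, h3, h4, h5, one_mul, mul_inv_cancel, _root_.one_zpow]
    · rw [s5, i, h4, h5, show z 0 * z 0 * (z 0 * z 0) = z 0 * z 0 * z 0 * z 0 by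
        simp only [mul_assoc], h0', one_mul, mul_inv_cancel, _root_.one_zpow]

omit hK hf [Fintype K] in
/-- The units fixed by the endomorphism. -/
def fixU : Subgroup Kˣ := (Units.map (f : K →* K)).eqLocus (MonoidHom.id Kˣ)

omit hK hf [Fintype K] in
theorem mem_fixU {t : Kˣ} : t ∈ fixU f ↔ f (t : K) = t :=
  ⟨fun h => congrArg Units.val h, fun h => Units.ext h⟩

omit hK hf [Fintype K] in
/-- The fixed torus, parametrised. -/
noncomputable def param : Kˣ × Kˣ × ↥(fixU f) × ↥(fixU f) →* GL chevE6.Idx K :=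
  certFullE6.torus.comp ((zOf f).comp
    ((MonoidHom.id Kˣ).prodMap ((MonoidHom.id Kˣ).prodMap
      ((fixU f).subtype.prodMap (fixU f).subtype))))

omit hK hf [Fintype K] in
theorem param_apply (s u : Kˣ) (t v : ↥(fixU f)) :
    param f (s, u, t, v) = certFullE6.torus (zOf f (s, u, (t : Kˣ), (v : Kˣ))) := rfl

theorem param_fix (x : Kˣ × Kˣ × ↥(fixU f) × ↥(fixU f)) : param f x ∈ (tw f).fix := by
  obtain ⟨s, u, ⟨t, ht⟩, ⟨v, hv⟩⟩ := x
  rw [mem_fixU] at ht hv
  rw [param_apply]
  refine (tw f).mem_fix.2 ⟨certFullE6.B_le_group (certFullE6.H_le_B (certFullE6.torus_mem _)), ?_⟩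
  rw [(tw f).act_torus]
  refine certFullE6.torus_congr fun j hj => Units.ext ?_
  rw [(tw f).zAct_apply _ hj]
  change f (zOf f (s, u, t, v) (graphE6.τ' j) : K) = _
  rw [show chevE6.rank = 6 from rfl] at hj
  have hτ : graphE6.τ' 0 = 5 ∧ graphE6.τ' 1 = 1 ∧ graphE6.τ' 2 = 4 ∧ graphE6.τ' 3 = 3 ∧
      graphE6.τ' 4 = 2 ∧ graphE6.τ' 5 = 0 := by decide
  obtain ⟨z0, z1, z2, z3, z4, z5⟩ := zOf_apply f (s, u, t, v)
  obtain ⟨t0, t1, t2, t3, t4, t5⟩ := hτ
  rcases (show j = 0 ∨ j = 1 ∨ j = 2 ∨ j = 3 ∨ j = 4 ∨ j = 5 by omega) with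
    rfl | rfl | rfl | rfl | rfl | rfl
  · rw [t0, z5, z0]; exact pow_sq f hf hK (s : K)
  · rw [t1, z1]; exact ht
  · rw [t2, z4, z2]; exact pow_sq f hf hK (u : K)
  · rw [t3, z3]; exact hv
  · rw [t4, z2, z4]; rfl
  · rw [t5, z0, z5]; rfl

omit hK in
theorem param_mem (x : Kˣ × Kˣ × ↥(fixU f) × ↥(fixU f)) : param f x ∈ twistedE6 K q := by
  obtain ⟨s, u, ⟨t, ht⟩, ⟨v, hv⟩⟩ := x
  rw [mem_fixU] at ht hv
  obtain ⟨s0, s1, s2, s3, s4, s5, hrk, -⟩ := simple_values
  have hone : ∀ r, certFullE6.hg r (1 : K) = 1 := fun r => by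
    rw [Cert.hg, ← certFullE6.ng_inv, mul_inv_cancel]
  have htor : ∀ y : Kˣ × Kˣ × Kˣ × Kˣ, certFullE6.torus (zOf f y) =
      certFullE6.hg 56 (zOf f y 0 : K) * certFullE6.hg 46 (zOf f y 1 : K) *
      certFullE6.hg 42 (zOf f y 2 : K) * certFullE6.hg 39 (zOf f y 3 : K) *
      certFullE6.hg 37 (zOf f y 4 : K) * certFullE6.hg 36 (zOf f y 5 : K) := fun y => by
    rw [certFullE6.torus_eq_prod]
    show (List.map _ (List.range 6)).prod = _
    simp only [List.range_succ, List.range_zero, List.nil_append, List.cons_append,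
      List.map_cons, List.map_nil, List.prod_cons, List.prod_nil, mul_one, s0, s1, s2, s3, s4, s5,
      ← mul_assoc]
  rw [param_apply, show ((s, u, t, v) : Kˣ × Kˣ × Kˣ × Kˣ) =
    (s, 1, 1, 1) * (1, u, 1, 1) * (1, 1, t, 1) * (1, 1, 1, v) by simp, map_mul, map_mul, map_mul,
    map_mul, map_mul, map_mul]
  refine mul_mem (mul_mem (mul_mem ?_ ?_) ?_) ?_ <;> rw [htor]
  · simpa [(zOf_apply f (s, 1, 1, 1)), hone] using
      hg2_mem f hf (r := 56) (r' := 36) (Or.inl ⟨rfl, rfl⟩) (s : K)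
  · simpa [(zOf_apply f (1, u, 1, 1)), hone] using
      hg2_mem f hf (r := 42) (r' := 37) (Or.inr ⟨rfl, rfl⟩) (u : K)
  · simp only [(zOf_apply f (1, 1, t, 1)), map_one, Units.val_one, hone, one_mul, mul_one]
    exact mul_mem (ng1_mem f hf (Or.inl rfl) ht) (ng1_mem f hf (Or.inl rfl) (by simp))
  · simp only [(zOf_apply f (1, 1, 1, v)), map_one, Units.val_one, hone, one_mul, mul_one]
    exact mul_mem (ng1_mem f hf (Or.inr rfl) hv) (ng1_mem f hf (Or.inr rfl) (by simp))

/-- Every fixed element of the torus is parametrised. -/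
theorem exists_param {g : GL chevE6.Idx K} (hg : g ∈ chevE6.diagonalSubgroup K ⊓ (tw f).fix) :
    ∃ x, param f x = g := by
  obtain ⟨hH, hfix⟩ := Subgroup.mem_inf.1 hg
  rw [certFullE6.diagonalSubgroup_eq] at hH
  obtain ⟨z, rfl⟩ := hH
  have hact := ((tw f).mem_fix.1 hfix).2
  rw [(tw f).act_torus] at hact
  set k : ℕ → Kˣ := fun j => (tw f).zAct z j * (z j)⁻¹
  have hk : certFullE6.torus k = 1 := by
    rw [show k = (tw f).zAct z * z⁻¹ from rfl, map_mul, map_inv, hact, mul_inv_cancel]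
  obtain ⟨k0, k1, k2, k3, k4, k5⟩ := torus_eq_one_iff.1 hk
  have hval : ∀ j, j < 6 → f (z (graphE6.τ' j) : K) = z j * k j := by
    intro j hj
    show _ = (z j : K) * (((tw f).zAct z j * (z j)⁻¹ : Kˣ) : K)
    rw [← Units.val_mul, mul_comm (z j) (_ * _), inv_mul_cancel_right]
    exact ((tw f).zAct_apply z (show j < chevE6.rank from hj)).symm
  obtain ⟨t0, t1, t2, t3, t4, t5⟩ : graphE6.τ' 0 = 5 ∧ graphE6.τ' 1 = 1 ∧ graphE6.τ' 2 = 4 ∧
      graphE6.τ' 3 = 3 ∧ graphE6.τ' 4 = 2 ∧ graphE6.τ' 5 = 0 := by decide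
  have v0 := hval 0 (by omega)
  have v1 := hval 1 (by omega)
  have v2 := hval 2 (by omega)
  have v3 := hval 3 (by omega)
  have v4 := hval 4 (by omega)
  have v5 := hval 5 (by omega)
  rw [t0] at v0
  rw [t1, k1, Units.val_one, mul_one] at v1
  rw [t2, k2, Units.val_mul] at v2
  rw [t3, k3, Units.val_one, mul_one] at v3
  rw [t4, k4] at v4
  rw [t5, k5, Units.val_mul] at v5
  set w : K := (k 0 : K)
  have hw : w ^ 3 = 1 := by
    simp only [w, ← Units.val_pow_eq_pow_val, k0, Units.val_one]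
  have hfw : f w = w := by
    have h := pow_sq f hf hK (z 0 : K)
    rw [v5, map_mul, map_mul, v0] at h
    have h1 : w * (f w * f w) = 1 :=
      mul_left_cancel₀ (z 0).ne_zero (by rw [← mul_assoc, h, mul_one])
    have h3 : f w ^ 3 = 1 := by rw [← map_pow, hw, map_one]
    calc f w = w ^ 3 * f w := by rw [hw, one_mul]
      _ = w ^ 2 * (w * (f w * f w)) * (f w) ^ 2 := by linear_combination (-(w ^ 3 * f w)) * h3
      _ = w * (w * (f w * f w)) * 1 := by rw [h1]; ring_nf; linear_combination w * h1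
      _ = w := by rw [h1]; ring
  refine ⟨(z 0 * (k 0 * k 0), z 2 * k 0, ⟨z 1, (mem_fixU f).2 v1⟩, ⟨z 3, (mem_fixU f).2 v3⟩), ?_⟩
  rw [param_apply]
  set ker : ℕ → Kˣ := fun j => if j = 0 then k 0 * k 0 else if j = 2 then k 0
    else if j = 4 then k 0 * k 0 else if j = 5 then k 0 else 1
  have hcong : certFullE6.torus (zOf f (z 0 * (k 0 * k 0), z 2 * k 0, z 1, z 3)) =
      certFullE6.torus z * certFullE6.torus ker := by
    rw [← map_mul]
    refine certFullE6.torus_congr fun j hj => ?_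
    rw [show chevE6.rank = 6 from rfl] at hj
    rw [Pi.mul_apply]
    obtain ⟨a0, a1, a2, a3, a4, a5⟩ := zOf_apply f (z 0 * (k 0 * k 0), z 2 * k 0, z 1, z 3)
    rcases (show j = 0 ∨ j = 1 ∨ j = 2 ∨ j = 3 ∨ j = 4 ∨ j = 5 by omega) with
      rfl | rfl | rfl | rfl | rfl | rfl
    · rw [a0]; rfl
    · rw [a1]; exact (mul_one _).symm
    · rw [a2]; rfl
    · rw [a3]; exact (mul_one _).symm
    · rw [a4]
      refine Units.ext ?_
      show f ((z 2 * k 0 : Kˣ) : K) = ((z 4 * (k 0 * k 0) : Kˣ) : K)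
      simp only [Units.val_mul, map_mul, v4]
      show (z 4 : K) * w * f w = (z 4 : K) * (w * w)
      rw [hfw]; ring
    · rw [a5]
      refine Units.ext ?_
      show f ((z 0 * (k 0 * k 0) : Kˣ) : K) = ((z 5 * k 0 : Kˣ) : K)
      simp only [Units.val_mul, map_mul, v5]
      show (z 5 : K) * (w * w) * (f w * f w) = (z 5 : K) * w
      rw [hfw]; linear_combination ((z 5 : K) * w) * hw
  have hk3 : k 0 * k 0 * k 0 = 1 := by rw [← k0, pow_three, mul_assoc]
  have hker : certFullE6.torus ker = 1 := by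
    refine torus_eq_one_iff.2 ⟨?_, rfl, ?_, rfl, rfl, ?_⟩
    · show (k 0 * k 0) ^ 3 = 1
      rw [mul_pow, k0, one_mul]
    · show k 0 = k 0 * k 0 * (k 0 * k 0)
      rw [← mul_assoc, hk3, one_mul]
    · show k 0 = k 0 * k 0 * (k 0 * k 0)
      rw [← mul_assoc, hk3, one_mul]
  rw [hcong, hker, mul_one]

theorem H_le : chevE6.diagonalSubgroup K ⊓ (tw f).fix ≤ twistedE6 K q := by
  intro g hg
  obtain ⟨x, rfl⟩ := exists_param f hf hK hg
  exact param_mem f hf x

/-- ²E₆(q) as a twisted group. -/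
noncomputable def datum : Twist.Datum (tw f) where
  e := 2
  e_pos := by omega
  G₁ := twistedE6 K q
  W := weyl f hf hK
  G := grading f hf hK
  lifts := lifts f hf hK
  le_fix := le_fix f hf hK
  H_le := H_le f hf hK
  n_mem := n_mem f hf hK
  disjoint := by
    show ∀ J ∈ orbitsE6, ∀ J' ∈ orbitsE6, ∀ p ∈ J, p ∈ J' → J = J'
    decide
  top := ⟨1151, (show (1151 : ℕ) < 1152 by decide), fun p hp hpos => by
    obtain ⟨-, h2, h3, -⟩ := (weyl f hf hK).step_spec 1151 (show (1151 : ℕ) < 1152 by decide)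
    have h := twistE6_top
    simp only [List.all_eq_true, Nat.blt_eq] at h
    have h4 := h _ (List.getElem_mem (h2.symm ▸ hp : p < _))
    change ((weyl f hf hK).E.get 1151).img[p]'_ < _ at h4
    rw [← List.getD_eq_getElem _ 0, h3 p hp] at h4
    exact absurd hpos.1 (by omega)⟩

/-- The order of the fixed torus. -/
theorem card_H : Nat.gcd 3 (q + 1) * Nat.card ↥(chevE6.diagonalSubgroup K ⊓ (tw f).fix) =
    (q ^ 2 - 1) ^ 2 * (q - 1) ^ 2 := by
  classical
  have hq := one_lt_q f hf hK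
  have hU : Nat.card Kˣ = q ^ 2 - 1 := by
    rw [Nat.card_units, Nat.card_eq_fintype_card, hK]
  have hT : Nat.card ↥(fixU f) = q - 1 := by
    have h := card_pow_eq_self (F := K) hq (e := 2) (by rw [Nat.card_eq_fintype_card, hK])
    let e : {a : K // a ^ q = a} ≃ Option ↥(fixU f) :=
      { toFun := fun a => if h : a.1 = 0 then none
          else some ⟨Units.mk0 a.1 h, (mem_fixU f).2 (by simp [hf, a.2])⟩
        invFun := fun o => o.elim ⟨0, zero_pow (by omega)⟩ fun u => ⟨((u : Kˣ) : K), by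
          show ((u : Kˣ) : K) ^ q = _
          rw [← hf]; exact (mem_fixU f).1 u.2⟩
        left_inv := fun a => by
          by_cases h : a.1 = 0
          · simp [h, Subtype.ext_iff]
          · simp [h]
        right_inv := fun o => by
          cases o with
          | none => simp
          | some u => simp [(u : Kˣ).ne_zero] }
    rw [Nat.card_congr e, Finite.card_option] at h
    omega
  have hrange : (param f).range = chevE6.diagonalSubgroup K ⊓ (tw f).fix := by
    refine le_antisymm ?_ fun g hg => exists_param f hf hK hg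
    rintro g ⟨x, rfl⟩
    exact ⟨certFullE6.torus_mem _, param_fix f hf hK x⟩
  have hker : Nat.card (param f).ker = Nat.gcd 3 (q + 1) := by
    have hroots : Nat.card (powMonoidHom (Nat.gcd 3 (q + 1)) : Kˣ →* Kˣ).ker =
        Nat.gcd 3 (q + 1) := by
      rw [IsCyclic.card_powMonoidHom_ker, hU]
      refine Nat.gcd_eq_right ((Nat.gcd_dvd_right 3 (q + 1)).trans ⟨q - 1, ?_⟩)
      rw [show q ^ 2 - 1 = (q + 1) * (q - 1) by simpa using Nat.sq_sub_sq q 1]
    rw [← hroots]
    have spec : ∀ w : Kˣ, w ^ Nat.gcd 3 (q + 1) = 1 ↔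
        w ^ 3 = 1 ∧ Units.map (f : K →* K) w = w * w := by
      intro w
      have hfw : Units.map (f : K →* K) w = w ^ q := Units.ext (by simp [hf])
      rw [hfw, pow_gcd_eq_one]
      refine and_congr_right fun h3 => ?_
      rw [pow_succ]
      have h3' : w * w * w = 1 := by rw [← h3, pow_three, mul_assoc]
      constructor
      · intro h; exact mul_right_cancel (b := w) (by rw [h, h3'])
      · intro h; rw [h, h3']
    refine Nat.card_congr
      { toFun := fun x => ⟨x.1.1, ?_⟩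
        invFun := fun w => ⟨(w.1, w.1 * w.1, 1, 1), ?_⟩
        left_inv := fun x => ?_
        right_inv := fun w => rfl }
    · obtain ⟨⟨s, u, t, v⟩, hx⟩ := x
      obtain ⟨h0, -, -, -, -, h5⟩ := torus_eq_one_iff.1 (MonoidHom.mem_ker.1 hx)
      exact MonoidHom.mem_ker.2 ((spec s).2 ⟨h0, h5⟩)
    · obtain ⟨w, hw⟩ := w
      obtain ⟨h3, hfw⟩ := (spec w).1 (MonoidHom.mem_ker.1 hw)
      refine MonoidHom.mem_ker.2 (torus_eq_one_iff.2 ⟨h3, rfl, rfl, rfl, ?_, hfw⟩)
      show Units.map (f : K →* K) (w * w) = w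
      rw [map_mul, hfw, show w * w * (w * w) = w ^ 3 * w by
        rw [pow_three]; simp only [mul_assoc], h3, one_mul]
    · obtain ⟨⟨s, u, t, v⟩, hx⟩ := x
      obtain ⟨-, h1, h2, h3, -, -⟩ := torus_eq_one_iff.1 (MonoidHom.mem_ker.1 hx)
      exact Subtype.ext (Prod.ext rfl (Prod.ext h2.symm (Prod.ext (Subtype.ext h1.symm)
        (Subtype.ext h3.symm))))
  rw [← hker, ← hrange, ← Nat.card_congr (QuotientGroup.quotientKerEquivRange (param f)).toEquiv,
    mul_comm, ← (param f).ker.card_eq_card_quotient_mul_card_subgroup, Nat.card_prod,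
    Nat.card_prod, Nat.card_prod, hU, hT]
  ring

omit hK hf [Fintype K] in
theorem invT_orbits : orbitsE6.map certFullE6.T.invT = [1, 1, 2, 2] := by decide +kernel

omit hK hf [Fintype K] in
theorem poly_ok :
    isZeroP (addP
      (mulP ((List.range 1152).foldr (fun i acc =>
          addP (monoP ((twistE6Reps.get i).word.map fun j => [1, 1, 2, 2].getD j 0).sum) acc) [])
        (mulP (mulP [-1, 0, 1] [-1, 0, 1]) (mulP [-1, 1] [-1, 1])))
      (([[-1, 0, 1], addP [1] (monoP 5), addP [-1] (monoP 6), addP [-1] (monoP 8),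
        addP [1] (monoP 9), addP [-1] (monoP 12)].foldr mulP [1]).map (-1 * ·))) = true := by
  decide +kernel

theorem sum_eq (x : ℤ) :
    (((List.range 1152).map (fun i => Twist.Datum.lenOf (weyl f hf hK) i)).map
      fun n => x ^ n).sum * ((x ^ 2 - 1) ^ 2 * (x - 1) ^ 2) =
    (x ^ 2 - 1) * (x ^ 5 + 1) * (x ^ 6 - 1) * (x ^ 8 - 1) * (x ^ 9 + 1) * (x ^ 12 - 1) := by
  have hlen : ∀ i ∈ List.range 1152, Twist.Datum.lenOf (weyl f hf hK) i =
      ((twistE6Reps.get i).word.map fun j => [1, 1, 2, 2].getD j 0).sum := by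
    intro i hi
    rw [List.mem_range] at hi
    unfold Twist.Datum.lenOf
    refine congrArg List.sum (List.map_congr_left fun j hj => ?_)
    have hj' : j < orbitsE6.length := ((weyl f hf hK).step_spec i hi).1 j hj
    show certFullE6.T.invT (orbitsE6.getD j []) = _
    rw [show [1, 1, 2, 2] = orbitsE6.map certFullE6.T.invT from invT_orbits.symm,
      List.getD_eq_getElem (orbitsE6.map certFullE6.T.invT) 0
        (by rw [List.length_map]; exact hj'), List.getElem_map,
      ← List.getD_eq_getElem _ [] hj']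
  rw [List.map_congr_left hlen]
  have h := evalP_isZeroP x _ poly_ok
  have hfold : ∀ L : List ℕ, evalP x (L.foldr (fun i acc =>
      addP (monoP ((twistE6Reps.get i).word.map fun j => [1, 1, 2, 2].getD j 0).sum) acc) []) =
      ((L.map fun i => ((twistE6Reps.get i).word.map fun j => [1, 1, 2, 2].getD j 0).sum).map
        fun n => x ^ n).sum := by
    intro L
    induction L with
    | nil => rfl
    | cons a L ih => simp only [List.foldr_cons, evalP_addP, evalP_monoP, ih, List.map_cons, List.sum_cons]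
  rw [evalP_addP, evalP_smul, evalP_mulP, hfold, evalP_mulP, evalP_mulP, evalP_mulP,
    evalP_foldr] at h
  simp only [List.map_cons, List.map_nil, List.prod_cons, List.prod_nil, evalP_addP, evalP_monoP,
    evalP] at h
  linear_combination h

theorem card_U : Nat.card ↥(chevE6.posUnipotent K ⊓ twistedE6 K q) = q ^ 36 := by
  have h := (datum f hf hK).card_U_q (q := q) (by rw [Nat.card_eq_fintype_card, hK]; rfl)
  rw [show twistedE6 K q = (tw f).fix from (datum f hf hK).eq_fix, h]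
  rfl

theorem card_diag : Nat.gcd 3 (q + 1) * Nat.card ↥(chevE6.diagonalSubgroup K ⊓ twistedE6 K q) =
    (q - 1) ^ 4 * (q + 1) ^ 2 := by
  rw [show twistedE6 K q = (tw f).fix from (datum f hf hK).eq_fix, card_H f hf hK,
    show q ^ 2 - 1 = (q + 1) * (q - 1) by simpa using Nat.sq_sub_sq q 1]
  ring

theorem card_group : Nat.gcd 3 (q + 1) * Nat.card ↥(twistedE6 K q) =
    q ^ 36 * (q ^ 2 - 1) * (q ^ 5 + 1) * (q ^ 6 - 1) * (q ^ 8 - 1) * (q ^ 9 + 1) * (q ^ 12 - 1) := by
  have h := (datum f hf hK).card_G₁_q (q := q) (by rw [Nat.card_eq_fintype_card, hK]; rfl)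
  set S : ℕ := (((List.range 1152).map (fun i => Twist.Datum.lenOf (weyl f hf hK) i)).map
    fun n => q ^ n).sum with hS
  change Nat.card ↥(twistedE6 K q) =
    q ^ 36 * Nat.card ↥(chevE6.diagonalSubgroup K ⊓ (tw f).fix) * S at h
  have hH := card_H f hf hK
  rw [h, show Nat.gcd 3 (q + 1) * (q ^ 36 * Nat.card ↥(chevE6.diagonalSubgroup K ⊓ (tw f).fix) * S) =
    q ^ 36 * (Nat.gcd 3 (q + 1) * Nat.card ↥(chevE6.diagonalSubgroup K ⊓ (tw f).fix)) * S by ring, hH]
  have hs := sum_eq f hf hK (q : ℤ)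
  have hcast : ((S : ℕ) : ℤ) =
      (((List.range 1152).map (fun i => Twist.Datum.lenOf (weyl f hf hK) i)).map
        fun n => (q : ℤ) ^ n).sum := by
    rw [hS, Nat.cast_list_sum, List.map_map]
    simp [Function.comp_def, List.map_map]
  rw [← hcast] at hs
  have hq := one_lt_q f hf hK
  have hp : ∀ n, 1 ≤ q ^ n := fun n => Nat.one_le_pow _ _ (by omega)
  refine Int.natCast_inj.1 ?_
  push_cast [hp 2, hp 6, hp 8, hp 12, show 1 ≤ q by omega]
  linear_combination ((q : ℤ) ^ 36) * hs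

/-! ### Perfectness -/

omit hK hf [Fintype K] in
theorem pair_values : certFullE6.T.commTerms 39 46 = [(47, 1, 1, 1)] ∧
    certFullE6.T.wlT (flatW orbitsE6 (twistE6Reps.get 2).word) 47 = 46 ∧
    certFullE6.T.wlT (flatW orbitsE6 (twistE6Reps.get 1).word) 47 = 39 ∧
    ((List.range' 36 36).filter fun r => Nat.blt (certFullE6.T.wlT [0, 5] r) 36) = [36, 56] ∧
    ((List.range' 36 36).filter fun r => Nat.blt (certFullE6.T.wlT [2, 4] r) 36) = [37, 42] := by
  decide +kernel

omit hK hf [Fintype K] in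
theorem invSet_pair {J : List ℕ} (hJ : ∀ p ∈ J, p < chevE6.rank) (r : ℕ) :
    r ∈ certFullE6.invSet J ↔
      r ∈ (List.range' 36 36).filter fun r => Nat.blt (certFullE6.T.wlT J r) 36 := by
  rw [List.mem_filter, List.mem_range'_1, Nat.blt_eq, certFullE6.wlT_eq]
  constructor
  · intro hr
    refine ⟨⟨hr.1.1, hr.1.2⟩, ?_⟩
    by_contra h'
    exact hr.2 ⟨by show 36 ≤ _; omega, certFullE6.wl_lt hJ hr.1.2⟩
  · intro hr
    exact ⟨⟨hr.1.1, hr.1.2⟩, fun h => absurd h.1 (by show ¬ 36 ≤ _; omega)⟩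

theorem perfect : commutator ↥(twistedE6 K q) = ⊤ := by
  obtain ⟨⟨r1, r2, r3, r4, r5, r6, r7, r8, r9, r10, r11, r12⟩, he⟩ := graphE6_values
  simp only [List.all_eq_true, beq_iff_eq] at he
  obtain ⟨s0, s1, s2, s3, s4, s5, hrk, hnr, n56, n36, n42, n37, n46, n39⟩ := simple_values
  obtain ⟨hcomm, hw2, hw1, hinv05, hinv24⟩ := pair_values
  set Z := datum f hf hK
  have hJ1 : [1] ∈ Z.W.Jw := by show [1] ∈ orbitsE6; decide
  have hJ3 : [3] ∈ Z.W.Jw := by show [3] ∈ orbitsE6; decide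
  have hJ24 : [2, 4] ∈ Z.W.Jw := by show [2, 4] ∈ orbitsE6; decide
  have hJ05 : [0, 5] ∈ Z.W.Jw := by show [0, 5] ∈ orbitsE6; decide
  have hfix : ∀ r ∈ [39, 46], ∀ t : K, f t = t → certFullE6.xg r t ∈ (tw f).fix := by
    intro r hr t ht
    simp only [List.mem_cons, List.not_mem_nil, or_false] at hr
    refine le_fix f hf hK (gen1 f hf ?_ ht)
    rcases hr with rfl | rfl <;> simp
  have hlong : ∀ p, p = 1 ∨ p = 3 → ∀ t : K, f t = t →
      certFullE6.xg (chevE6.simple p) t ∈ ⁅Z.G₁, Z.G₁⁆ := by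
    intro p hp t ht
    have hfr : ∀ u : K, (∃ n : ℤ, u = (n : K) * t) → certFullE6.xg 39 u ∈ (tw f).fix :=
      fun u ⟨n, hu⟩ => hfix 39 (by simp) u (by rw [hu, map_mul, map_intCast, ht])
    rcases hp with rfl | rfl
    · exact Z.mem_commutator_pair (r := 39) (s := 46) (θ := 47) (by rw [hnr]; omega)
        (by rw [hnr]; omega) (by omega) (by rw [n39]; omega) (Or.inl rfl) hcomm (i := 2)
        (show (2 : ℕ) < 1152 by decide) (by rw [hrk]; omega) (by rw [hnr]; omega)
        (by rw [← certFullE6.wlT_eq, s1]; exact hw2) hfr (hfix 46 (by simp) 1 (map_one f))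
    · exact Z.mem_commutator_pair (r := 39) (s := 46) (θ := 47) (by rw [hnr]; omega)
        (by rw [hnr]; omega) (by omega) (by rw [n39]; omega) (Or.inl rfl) hcomm (i := 1)
        (show (1 : ℕ) < 1152 by decide) (by rw [hrk]; omega) (by rw [hnr]; omega)
        (by rw [← certFullE6.wlT_eq, s3]; exact hw1) hfr (hfix 46 (by simp) 1 (map_one f))
  obtain ⟨w, hw⟩ : ∃ s : Kˣ, s * s ≠ 1 := by
    by_contra hall
    push Not at hall
    classical
    have hsub : (Finset.univ : Finset Kˣ) ⊆ {1, -1} := fun s _ => by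
      have : (s : K) * s = 1 := by rw [← Units.val_mul, hall s, Units.val_one]
      rcases mul_self_eq_one_iff.1 this with e | e
      · simp [Units.ext_iff, e]
      · simp [Units.ext_iff, e]
    have h := (Finset.card_le_card hsub).trans Finset.card_le_two
    rw [Finset.card_univ, Fintype.card_units, hK] at h
    have h4 : 2 ^ 2 ≤ q ^ 2 := Nat.pow_le_pow_left (one_lt_q f hf hK) 2
    omega
  have hinj : Function.Injective (Units.map (f : K →* K)) := fun a b e =>
    Units.ext (f.injective (congrArg Units.val e))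
  have hshort : ∀ J, J = [0, 5] ∨ J = [2, 4] →
      ∀ x ∈ certFullE6.KS K (certFullE6.invSet J) certFullE6.T.h ⊓ (tw f).fix,
        x ∈ ⁅Z.G₁, Z.G₁⁆ := by
    intro J hJ x hx
    have hlt : ∀ p ∈ J, p < chevE6.rank := by rcases hJ with rfl | rfl <;> simp [hrk]
    have hJm : J ∈ Z.W.Jw := by rcases hJ with rfl | rfl <;> assumption
    rcases hJ with rfl | rfl
    · refine Z.mem_commutator_torus (certFullE6.invSet_closed hlt)
        (fun r hr => (tw f).ρ_mem_invSet hlt ((Z.W.J_spec hJm).2.2.1) hr)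
        (param_fix f hf hK (w, 1, 1, 1)) (fun r hr => ?_) hx
      rw [invSet_pair hlt, hinv05] at hr
      simp only [List.mem_cons, List.not_mem_nil, or_false] at hr
      obtain ⟨c56, -, -, -, -, c36⟩ := tchar_simple (zOf f (w, 1, 1, 1))
      obtain ⟨a0, -, a2, -, a4, a5⟩ := zOf_apply f (w, 1, 1, 1)
      rcases hr with rfl | rfl
      · show certFullE6.tchar (zOf f (w, 1, 1, 1)) 36 ≠ 1
        rw [c36, a5, a4, map_one, inv_one, mul_one, ← map_mul]
        exact fun e => hw (hinj (by rw [e, map_one]))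
      · show certFullE6.tchar (zOf f (w, 1, 1, 1)) 56 ≠ 1
        rw [c56, a0, a2, inv_one, mul_one]
        exact hw
    · refine Z.mem_commutator_torus (certFullE6.invSet_closed hlt)
        (fun r hr => (tw f).ρ_mem_invSet hlt ((Z.W.J_spec hJm).2.2.1) hr)
        (param_fix f hf hK (1, w, 1, 1)) (fun r hr => ?_) hx
      rw [invSet_pair hlt, hinv24] at hr
      simp only [List.mem_cons, List.not_mem_nil, or_false] at hr
      obtain ⟨-, -, c42, -, c37, -⟩ := tchar_simple (zOf f (1, w, 1, 1))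
      obtain ⟨a0, -, a2, a3, a4, a5⟩ := zOf_apply f (1, w, 1, 1)
      rcases hr with rfl | rfl
      · show certFullE6.tchar (zOf f (1, w, 1, 1)) 37 ≠ 1
        rw [c37, a5, a4, a3, map_one, mul_one, inv_one, mul_one, ← map_mul]
        exact fun e => hw (hinj (by rw [e, map_one]))
      · show certFullE6.tchar (zOf f (1, w, 1, 1)) 42 ≠ 1
        rw [c42, a2, a0, a3, mul_one, inv_one, mul_one]
        exact hw
  have hpairMem : ∀ J r r', J ∈ Z.W.Jw → (J = [0, 5] ∨ J = [2, 4]) →
      r ∈ certFullE6.invSet J → r' ∈ certFullE6.invSet J → ∀ a b : K,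
      certFullE6.xg (chevE6.neg r) a * certFullE6.xg (chevE6.neg r') b ∈ (tw f).fix →
      certFullE6.xg (chevE6.neg r) a * certFullE6.xg (chevE6.neg r') b ∈ ⁅Z.G₁, Z.G₁⁆ := by
    intro J r r' hJm hJ hr hr' a b hfixg
    obtain ⟨-, hlt, -, -, -, hinvol, -⟩ := Z.W.J_spec hJm
    have hneg : ∀ r ∈ certFullE6.invSet J, ∀ u : K,
        certFullE6.nw K J * certFullE6.xg (chevE6.neg r) u * (certFullE6.nw K J)⁻¹ ∈
          certFullE6.KS K (certFullE6.invSet J) certFullE6.T.h := by
      intro r hrS u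
      have hn := certFullE6.neg_lt hrS.1.2
      rw [certFullE6.nw_mul_xg hlt hn, mul_inv_cancel_right]
      have hx := certFullE6.wl_lt hlt hrS.1.2
      have hpos : certFullE6.Pos (certFullE6.wl J (chevE6.neg r)) := by
        rw [certFullE6.wl_neg hlt hrS.1.2]
        exact (certFullE6.not_pos_iff hx).1 hrS.2
      have hmem : certFullE6.wl J (chevE6.neg r) ∈ certFullE6.invSet J := ⟨hpos, by
        rw [hinvol _ hn]
        exact fun h => (certFullE6.not_pos_iff hrS.1.2).2 h hrS.1⟩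
      exact certFullE6.xg_mem_KS hmem hpos.1 _
    refine Z.mem_commutator_of_neg hJm (hshort J hJ _ ?_)
    refine Subgroup.mem_inf.2 (And.intro ?_ ?_)
    swap
    · exact (tw f).fix.mul_mem ((tw f).fix.mul_mem (Z.nw_J_fix hJm) hfixg)
        ((tw f).fix.inv_mem (Z.nw_J_fix hJm))
    set n := certFullE6.nw K J
    rw [show ∀ a b : GL chevE6.Idx K, n * (a * b) * n⁻¹ = (n * a * n⁻¹) * (n * b * n⁻¹) from
      fun a b => by group]
    exact mul_mem (hneg r hr _) (hneg r' hr' _)
  have hS : (56 ∈ certFullE6.invSet [0, 5] ∧ 36 ∈ certFullE6.invSet [0, 5]) ∧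
      42 ∈ certFullE6.invSet [2, 4] ∧ 37 ∈ certFullE6.invSet [2, 4] := by
    rw [invSet_pair (by simp [hrk]), invSet_pair (by simp [hrk]), invSet_pair (by simp [hrk]),
      invSet_pair (by simp [hrk]), hinv05, hinv24]
    simp
  refine Z.perfect_of_gens rfl ?_
  rintro g ⟨w', hw', hg⟩
  obtain rfl := eq_wordProd certFullE6 hg
  have hfixg := le_fix f hf hK (wordProd_mem certFullE6 hw')
  rcases hw' with ⟨t, ht, r, hr, rfl⟩ | ⟨t, rs, hrs, rfl⟩
  · have hft : f t = t := by rw [hf, ht]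
    simp only [e6p2, e6m2, e6p4, e6m4, List.mem_cons, List.not_mem_nil, or_false] at hr
    simp only [List.map_cons, List.map_nil, List.prod_cons, List.prod_nil, mul_one]
    rcases hr with rfl | rfl | rfl | rfl
    · rw [← s1]; exact hlong 1 (Or.inl rfl) t hft
    · refine Z.mem_commutator_of_neg hJ1 ?_
      rw [show certFullE6.nw K [1] = certFullE6.np K 1 by simp, ← n46, ← s1,
        Twist.Datum.np_conj_xg_neg (show (1 : ℕ) < chevE6.rank by rw [hrk]; omega)]
      exact hlong 1 (Or.inl rfl) _ (by rw [map_mul, map_intCast, hft])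
    · rw [← s3]; exact hlong 3 (Or.inr rfl) t hft
    · refine Z.mem_commutator_of_neg hJ3 ?_
      rw [show certFullE6.nw K [3] = certFullE6.np K 3 by simp, ← n39, ← s3,
        Twist.Datum.np_conj_xg_neg (show (3 : ℕ) < chevE6.rank by rw [hrk]; omega)]
      exact hlong 3 (Or.inr rfl) _ (by rw [map_mul, map_intCast, hft])
  · simp only [e6p1, e6p6, e6m1, e6m6, e6p3, e6p5, e6m3, e6m5, List.mem_cons, List.not_mem_nil,
      or_false] at hrs
    simp only [List.map_cons, List.map_nil, List.prod_cons, List.prod_nil, mul_one] at hfixg ⊢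
    rcases hrs with rfl | rfl | rfl | rfl
    · refine hshort [0, 5] (Or.inl rfl) _ (Subgroup.mem_inf.2 ⟨?_, hfixg⟩)
      exact mul_mem (certFullE6.xg_mem_KS hS.1.1 (by show 36 ≤ 56; omega) _)
        (certFullE6.xg_mem_KS hS.1.2 (by show 36 ≤ 36; omega) _)
    · show certFullE6.xg 15 t * certFullE6.xg 35 (t ^ q) ∈ _
      rw [← n56, ← n36]
      refine hpairMem [0, 5] 56 36 hJ05 (Or.inl rfl) hS.1.1 hS.1.2 _ _ ?_
      rw [n56, n36]
      exact hfixg
    · refine hshort [2, 4] (Or.inr rfl) _ (Subgroup.mem_inf.2 ⟨?_, hfixg⟩)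
      exact mul_mem (certFullE6.xg_mem_KS hS.2.1 (by show 36 ≤ 42; omega) _)
        (certFullE6.xg_mem_KS hS.2.2 (by show 36 ≤ 37; omega) _)
    · show certFullE6.xg 29 t * certFullE6.xg 34 (t ^ q) ∈ _
      rw [← n42, ← n37]
      refine hpairMem [2, 4] 42 37 hJ24 (Or.inr rfl) hS.2.1 hS.2.2 _ _ ?_
      rw [n42, n37]
      exact hfixg

theorem chain : (datum f hf hK).Chain := by
  intro a ha
  change a + 1 < 4 at ha
  have h : ([0, 1, 2].all fun a => (List.range 6).any fun q =>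
      !(Nat.beq (certFullE6.T.wlT (orbitsE6.getD a [] ++ orbitsE6.getD (a + 1) [])
          (certFullE6.T.simple q))
        (certFullE6.T.wlT (orbitsE6.getD (a + 1) [] ++ orbitsE6.getD a [])
          (certFullE6.T.simple q)))) = true := by decide +kernel
  simp only [List.all_eq_true, List.any_eq_true, List.mem_range, Bool.not_eq_true'] at h
  obtain ⟨j, hj, hne⟩ := h a (by simp only [List.mem_cons, List.not_mem_nil, or_false]; omega)
  have hj' : j < chevE6.rank := hj
  refine ⟨j, hj', fun e => ?_⟩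
  rw [List.getD_eq_getElem _ _ (show a < orbitsE6.length by show a < 4; omega),
    List.getD_eq_getElem _ _ (show a + 1 < orbitsE6.length from ha), certFullE6.wlT_eq,
    certFullE6.wlT_eq, ← certFullE6.simple_eq hj'] at hne
  have e' : certFullE6.wl (orbitsE6[a]'(show a < 4 by omega) ++ orbitsE6[a + 1]'ha) (chevE6.simple j) =
      certFullE6.wl (orbitsE6[a + 1]'ha ++ orbitsE6[a]'(show a < 4 by omega)) (chevE6.simple j) := e
  exact Bool.noConfusion (hne.symm.trans (beq_of_eq e'))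

theorem simple :
    IsSimpleGroup ↥(twistedE6 K q) ∧ ¬ IsMulCommutative ↥(twistedE6 K q) :=
  (datum f hf hK).simple (by show orbitsE6 ≠ []; decide) (chain f hf hK) (perfect f hf hK)

end Cfsg.Agent.Lie.Chev.E6
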