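import Cfsg.Agent.Lib.Lie.Chev.TwistOutTools
import Cfsg.Agent.Lib.Lie.Chev.TwistE6

/-! The outer automorphism group of ²E₆(q). -/

set_option autoImplicit false
set_option maxRecDepth 20000

namespace Cfsg.Agent.Lie.Chev.E6

open Cfsg.Lie Matrix

theorem top_values :
    ((List.range 6).all fun p => Nat.blt (certFullE6.T.wlT (flatW orbitsE6 (twistE6Reps.get 1151).word)
      (certFullE6.T.simple p)) 36) = true ∧
    ((List.range 6).all fun p => Nat.ble 36 (certFullE6.T.wlT (flatW orbitsE6 (twistE6Reps.get 1151).word ++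
      flatW orbitsE6 (twistE6Reps.get 1151).word) (certFullE6.T.simple p))) = true ∧
    (orbitsE6.all fun J =>
      ((List.range' 36 36).filter fun r => Nat.blt (certFullE6.T.wlT J r) 36).all fun r =>
        ((List.range' 36 36).filter fun r => Nat.blt (certFullE6.T.wlT J r) 36).any
          (Nat.beq (certFullE6.T.wlT J.reverse
            (certFullE6.T.wlT (flatW orbitsE6 (twistE6Reps.get 1151).word) r)))) = true ∧
    orbitsE6.map certFullE6.T.invT = [1, 1, 2, 2] ∧
    ([(46, 39), (39, 42), (39, 37), (42, 56), (42, 36), (37, 56), (37, 36)].map fun r =>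
      certFullE6.T.pairing r.1 r.2) = [-1, -1, -1, -1, 0, 0, -1] ∧
    ([(46, 42), (46, 37), (46, 56), (46, 36), (39, 56), (39, 36)].all fun r =>
      !(Nat.beq r.2 r.1) && !(Nat.beq r.2 (71 - r.1)) &&
        (certFullE6.T.commTerms r.1 r.2).isEmpty) = true ∧
    certFullE6.T.wlT [2, 4] 39 ≠ 39 := by
  decide +kernel

/-- The roots of distant orbits commute. -/
theorem far_commute {K : Type*} [Field K] {a b : ℕ}
    (h : (a, b) ∈ [(46, 42), (46, 37), (46, 56), (46, 36), (39, 56), (39, 36)]) (t u : K) :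
    Commute (certFullE6.xg a t) (certFullE6.xg b u) := by
  obtain ⟨-, -, -, -, -, hc, -⟩ := top_values
  simp only [List.all_eq_true, Bool.and_eq_true, Bool.not_eq_true', List.isEmpty_iff] at hc
  obtain ⟨⟨h1, h2⟩, h3⟩ := hc _ h
  have hlt : a < 72 ∧ b < 72 := by
    simp only [List.mem_cons, List.not_mem_nil, or_false, Prod.mk.injEq] at h
    omega
  have e : chevE6.neg a = 71 - a := certFullE6.neg_eq hlt.1
  refine certFullE6.xg_commute hlt.1 hlt.2 (fun e' => ?_) (fun e' => ?_) h3 t u
  · rw [e', beq_of_eq rfl] at h1; exact Bool.noConfusion h1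
  · rw [beq_of_eq (e'.trans e)] at h2; exact Bool.noConfusion h2

variable {K : Type*} [Field K] [Fintype K] (f : K →+* K) {q : ℕ} (hf : ∀ t, f t = t ^ q)
  (hK : Fintype.card K = q ^ 2)

include hf hK

/-- The field endomorphisms of the nodes. -/
def nodeEnd (p : ℕ) : K →+* K := if p = 4 then f else if p = 5 then f else RingHom.id K

theorem card_fixField :
    Nat.card ↥(RingHom.eqLocusField f (RingHom.id K)) = q := by
  refine Eq.trans (Nat.card_congr (Equiv.subtypeEquivRight fun t => ?_))
    (card_pow_eq_self (F := K) (one_lt_q f hf hK) (e := 2) (by rw [Nat.card_eq_fintype_card, hK]))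
  show f t = t ↔ _
  rw [hf]

/-- The orbits with their fields. -/
noncomputable def nodes : Twist.Nodes (datum f hf hK) where
  m := 4
  J i := if i = 0 then [1] else if i = 1 then [3] else if i = 2 then [2, 4] else [0, 5]
  J_mem i := by
    show _ ∈ orbitsE6
    fin_cases i <;> simp [orbitsE6]
  J_surj J hJ := by
    change J ∈ orbitsE6 at hJ
    simp only [orbitsE6, List.mem_cons, List.not_mem_nil, or_false] at hJ
    rcases hJ with rfl | rfl | rfl | rfl
    exacts [⟨0, rfl⟩, ⟨1, rfl⟩, ⟨2, rfl⟩, ⟨3, rfl⟩]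
  J_inj i j h := by fin_cases i <;> fin_cases j <;> simp_all
  L i := if i = 0 then RingHom.eqLocusField f (RingHom.id K)
    else if i = 1 then RingHom.eqLocusField f (RingHom.id K) else ⊤
  E := nodeEnd f
  pow p := by
    unfold nodeEnd
    split_ifs
    · exact ⟨q, hf⟩
    · exact ⟨q, hf⟩
    · exact ⟨1, fun t => (pow_one t).symm⟩
  big := 3
  big_top t := trivial
  card i := by
    obtain ⟨-, -, -, hi, -⟩ := top_values
    simp only [orbitsE6, List.map_cons, List.map_nil, List.cons.injEq, and_true] at hi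
    obtain ⟨i1, i3, i24, i05⟩ := hi
    fin_cases i
    · show Nat.card ↥(RingHom.eqLocusField f (RingHom.id K)) ^ 2 =
        Nat.card K ^ certFullE6.T.invT [1]
      rw [card_fixField f hf hK, i1, Nat.card_eq_fintype_card, hK, pow_one]
    · show Nat.card ↥(RingHom.eqLocusField f (RingHom.id K)) ^ 2 =
        Nat.card K ^ certFullE6.T.invT [3]
      rw [card_fixField f hf hK, i3, Nat.card_eq_fintype_card, hK, pow_one]
    · show Nat.card ↥(⊤ : Subfield K) ^ 2 = Nat.card K ^ certFullE6.T.invT [2, 4]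
      rw [i24, Nat.card_congr (Subfield.topEquiv (K := K)).toEquiv]
    · show Nat.card ↥(⊤ : Subfield K) ^ 2 = Nat.card K ^ certFullE6.T.invT [0, 5]
      rw [i05, Nat.card_congr (Subfield.topEquiv (K := K)).toEquiv]
  orth i := by
    obtain ⟨s0, s1, s2, s3, s4, s5, -, -, n56, n36, n42, n37, -⟩ := simple_values
    fin_cases i
    · exact List.pairwise_singleton _ _
    · exact List.pairwise_singleton _ _
    · show List.Pairwise _ [2, 4]
      simp only [List.pairwise_cons, List.mem_cons, List.not_mem_nil, or_false, forall_eq,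
        IsEmpty.forall_iff, implies_true, and_true, List.Pairwise.nil, s2, s4, n42, n37]
      exact fun a b ha hb t u => comm_x (r := 42) (r' := 37) (Or.inr ⟨rfl, rfl⟩)
        (by simpa using ha) (by simpa using hb) t u
    · show List.Pairwise _ [0, 5]
      simp only [List.pairwise_cons, List.mem_cons, List.not_mem_nil, or_false, forall_eq,
        IsEmpty.forall_iff, implies_true, and_true, List.Pairwise.nil, s0, s5, n56, n36]
      exact fun a b ha hb t u => comm_x (r := 56) (r' := 36) (Or.inl ⟨rfl, rfl⟩)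
        (by simpa using ha) (by simpa using hb) t u
  up_fix i t ht := by
    obtain ⟨s0, s1, s2, s3, s4, s5, -⟩ := simple_values
    refine le_fix f hf hK ?_
    fin_cases i
    · simpa [Twist.upProd, nodeEnd, s1] using gen1 f hf (r := 46) (by simp) (show f t = t from ht)
    · simpa [Twist.upProd, nodeEnd, s3] using gen1 f hf (r := 39) (by simp) (show f t = t from ht)
    · simpa [Twist.upProd, nodeEnd, s2, s4] using gen2 f hf (r := 42) (r' := 37) (by simp) t
    · simpa [Twist.upProd, nodeEnd, s0, s5] using gen2 f hf (r := 56) (r' := 36) (by simp) t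
  gens := by
    obtain ⟨s0, s1, s2, s3, s4, s5, -, -, n56, n36, n42, n37, n46, n39⟩ := simple_values
    show twistedE6 K q ≤ _
    refine (Subgroup.closure_le _).2 ?_
    rintro g ⟨w, hw, hg⟩
    obtain rfl := eq_wordProd certFullE6 hg
    refine Subgroup.subset_closure ?_
    rcases hw with ⟨t, ht, r, hr, rfl⟩ | ⟨t, rs, hrs, rfl⟩
    · simp only [e6p2, e6m2, e6p4, e6m4, List.mem_cons, List.not_mem_nil, or_false] at hr
      have hft : f t = t := by rw [hf, ht]
      rcases hr with rfl | rfl | rfl | rfl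
      · exact ⟨0, t, hft, Or.inl (by simp [Twist.upProd, nodeEnd, s1])⟩
      · exact ⟨0, t, hft, Or.inr (by simp [Twist.loProd, nodeEnd, s1, n46])⟩
      · exact ⟨1, t, hft, Or.inl (by simp [Twist.upProd, nodeEnd, s3])⟩
      · exact ⟨1, t, hft, Or.inr (by simp [Twist.loProd, nodeEnd, s3, n39])⟩
    · simp only [e6p1, e6p6, e6m1, e6m6, e6p3, e6p5, e6m3, e6m5, List.mem_cons, List.not_mem_nil,
        or_false] at hrs
      rcases hrs with rfl | rfl | rfl | rfl
      · exact ⟨3, t, trivial, Or.inl (by simp [Twist.upProd, nodeEnd, s0, s5, hf t])⟩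
      · exact ⟨3, t, trivial, Or.inr (by simp [Twist.loProd, nodeEnd, s0, s5, n56, n36, hf t])⟩
      · exact ⟨2, t, trivial, Or.inl (by simp [Twist.upProd, nodeEnd, s2, s4, hf t])⟩
      · exact ⟨2, t, trivial, Or.inr (by simp [Twist.loProd, nodeEnd, s2, s4, n42, n37, hf t])⟩

theorem linked : (nodes f hf hK).Linked (0 : Fin 4) (1 : Fin 4) ∧
    (nodes f hf hK).Linked (1 : Fin 4) (2 : Fin 4) ∧
    (nodes f hf hK).Linked (2 : Fin 4) (3 : Fin 4) := by
  obtain ⟨-, -, -, -, hp, -⟩ := top_values
  obtain ⟨s0, s1, s2, s3, s4, s5, -⟩ := simple_values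
  simp only [List.map_cons, List.map_nil, List.cons.injEq, and_true] at hp
  refine ⟨fun s hs => ⟨hs, fun p' hp' => ?_⟩, fun s hs => ⟨trivial, fun p' hp' => ?_⟩,
    fun s hs => ⟨trivial, fun p' hp' => ?_⟩⟩
  · change p' ∈ [3] at hp'
    obtain rfl := List.mem_singleton.1 hp'
    simp [nodes, nodeEnd, s1, s3, hp]
  · have hs' : Units.map (f : K →* K) s = s := Units.ext hs
    change p' ∈ [2, 4] at hp'
    simp only [List.mem_cons, List.not_mem_nil, or_false] at hp'
    rcases hp' with rfl | rfl <;> simp [nodes, nodeEnd, s2, s3, s4, hp, hs'] <;> rfl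
  · change p' ∈ [0, 5] at hp'
    simp only [List.mem_cons, List.not_mem_nil, or_false] at hp'
    rcases hp' with rfl | rfl <;> simp [nodes, nodeEnd, s0, s2, s4, s5, hp] <;> rfl

theorem rigid {θ : ↥(datum f hf hK).G₁ ≃* ↥(datum f hf hK).G₁} {π : Fin 4 → Fin 4}
    (hπ : ∀ (i : Fin 4) (g : ↥(datum f hf hK).G₁),
      (θ g : GL chevE6.Idx K) ∈ (datum f hf hK).X ((nodes f hf hK).J (π i)) ↔
        (g : GL chevE6.Idx K) ∈ (datum f hf hK).X ((nodes f hf hK).J i)) (i : Fin 4) : π i = i := by
  set N := nodes f hf hK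
  have hinj : Function.Injective π := N.perm_injective hπ
  have hcard : ∀ i : Fin 4, Nat.card (N.L i) = if i.val < 2 then q else q ^ 2 := by
    intro i
    fin_cases i
    · exact card_fixField f hf hK
    · exact card_fixField f hf hK
    · exact (Nat.card_congr (Subfield.topEquiv (K := K)).toEquiv).trans
        (by rw [Nat.card_eq_fintype_card, hK]; rfl)
    · exact (Nat.card_congr (Subfield.topEquiv (K := K)).toEquiv).trans
        (by rw [Nat.card_eq_fintype_card, hK]; rfl)
  have hside : ∀ i : Fin 4, (π i).val < 2 ↔ i.val < 2 := by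
    intro i
    have h := N.card_L_eq (hπ i)
    rw [hcard i, hcard (π i)] at h
    have hne : q ≠ q ^ 2 := (lt_self_pow₀ (one_lt_q f hf hK) (by omega)).ne
    split_ifs at h with h1 h2 h2
    · simp [h1, h2]
    · exact absurd h hne
    · exact absurd h.symm hne
    · simp [h1, h2]
  obtain ⟨s0, s1, s2, s3, s4, s5, -⟩ := simple_values
  have c02 : N.Comm₂ (0 : Fin 4) (2 : Fin 4) := N.comm₂_of_roots fun p hp r hr t u => by
    change p ∈ [1] at hp
    change r ∈ [2, 4] at hr
    simp only [List.mem_cons, List.not_mem_nil, or_false] at hp hr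
    rcases hr with rfl | rfl <;> subst hp
    · rw [s1, s2]; exact far_commute (by simp) t u
    · rw [s1, s4]; exact far_commute (by simp) t u
  have c03 : N.Comm₂ (0 : Fin 4) (3 : Fin 4) := N.comm₂_of_roots fun p hp r hr t u => by
    change p ∈ [1] at hp
    change r ∈ [0, 5] at hr
    simp only [List.mem_cons, List.not_mem_nil, or_false] at hp hr
    rcases hr with rfl | rfl <;> subst hp
    · rw [s1, s0]; exact far_commute (by simp) t u
    · rw [s1, s5]; exact far_commute (by simp) t u
  have c13 : N.Comm₂ (1 : Fin 4) (3 : Fin 4) := N.comm₂_of_roots fun p hp r hr t u => by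
    change p ∈ [3] at hp
    change r ∈ [0, 5] at hr
    simp only [List.mem_cons, List.not_mem_nil, or_false] at hp hr
    rcases hr with rfl | rfl <;> subst hp
    · rw [s3, s0]; exact far_commute (by simp) t u
    · rw [s3, s5]; exact far_commute (by simp) t u
  have n12 : ¬ N.Comm₂ (1 : Fin 4) (2 : Fin 4) := fun h => by
    have e := N.wl_eq_of_comm₂ (p := 3) rfl (show (1 : Fin 4) ≠ 2 by decide) h
    change certFullE6.wl [2, 4] (chevE6.simple 3) = chevE6.simple 3 at e
    rw [s3, ← certFullE6.wlT_eq] at e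
    exact top_values.2.2.2.2.2.2 e
  have lo : ∀ j : Fin 4, j.val < 2 → j = 0 ∨ j = 1 := by decide
  have up : ∀ j : Fin 4, ¬ j.val < 2 → j = 2 ∨ j = 3 := by decide
  obtain h2 | h2 := up _ (mt (hside 2).1 (by decide))
  · obtain h1 | h1 := lo _ ((hside 1).2 (by decide))
    · exact absurd (N.comm₂_transfer (hπ 1) (hπ 2) (by rw [h1, h2]; exact c02)) n12
    · have h0 : π 0 = 0 := (lo _ ((hside 0).2 (by decide))).resolve_right
        fun e => absurd (hinj (e.trans h1.symm)) (by decide)
      have h3 : π 3 = 3 := (up _ (mt (hside 3).1 (by decide))).resolve_left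
        fun e => absurd (hinj (e.trans h2.symm)) (by decide)
      fin_cases i <;> assumption
  · obtain h1 | h1 := lo _ ((hside 1).2 (by decide))
    · exact absurd (N.comm₂_transfer (hπ 1) (hπ 2) (by rw [h1, h2]; exact c03)) n12
    · exact absurd (N.comm₂_transfer (hπ 1) (hπ 2) (by rw [h1, h2]; exact c13)) n12

theorem torus_range {g : GL chevE6.Idx K}
    (hg : g ∈ chevE6.diagonalSubgroup K ⊓ (tw f).fix) : g ∈ (nodes f hf hK).dz.range := by
  obtain ⟨⟨s, u, ⟨t, ht⟩, ⟨v, hv⟩⟩, rfl⟩ := exists_param f hf hK hg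
  rw [mem_fixU] at ht hv
  rw [param_apply]
  obtain ⟨a0, a1, a2, a3, a4, a5⟩ := zOf_apply f (s, u, t, v)
  obtain ⟨c56, c46, c42, c39, c37, c36⟩ := tchar_simple (zOf f (s, u, t, v))
  obtain ⟨s0, s1, s2, s3, s4, s5, -⟩ := simple_values
  refine (nodes f hf hK).torus_mem_range _ fun i => ?_
  change Fin 4 at i
  fin_cases i
  · refine ⟨⟨(certFullE6.tchar (zOf f (s, u, t, v)) 46 : K), ?_⟩, fun p hp => ?_⟩
    · show f _ = _
      rw [c46, a1, a3]
      simp [ht, hv]
    · change p ∈ [1] at hp
      obtain rfl := List.mem_singleton.1 hp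
      simp [nodes, nodeEnd, s1]
  · refine ⟨⟨(certFullE6.tchar (zOf f (s, u, t, v)) 39 : K), ?_⟩, fun p hp => ?_⟩
    · show f _ = _
      rw [c39, a1, a2, a3, a4]
      simp [ht, hv, pow_sq f hf hK (u : K)]
      ring
    · change p ∈ [3] at hp
      obtain rfl := List.mem_singleton.1 hp
      simp [nodes, nodeEnd, s3]
  · refine ⟨⟨(certFullE6.tchar (zOf f (s, u, t, v)) 42 : K), trivial⟩, fun p hp => ?_⟩
    change p ∈ [2, 4] at hp
    simp only [List.mem_cons, List.not_mem_nil, or_false] at hp
    rcases hp with rfl | rfl <;>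
      simp [nodes, nodeEnd, s2, s4, c42, c37, a0, a2, a3, a4, a5, hv, mul_comm]
  · refine ⟨⟨(certFullE6.tchar (zOf f (s, u, t, v)) 56 : K), trivial⟩, fun p hp => ?_⟩
    change p ∈ [0, 5] at hp
    simp only [List.mem_cons, List.not_mem_nil, or_false] at hp
    rcases hp with rfl | rfl <;>
      simp [nodes, nodeEnd, s0, s5, c56, c36, a0, a2, a4, a5]

theorem card_out :
    Nat.card (Cfsg.Out ↥(twistedE6 K q)) = Nat.gcd 3 (q + 1) * Nat.card (RingAut K) := by
  obtain ⟨h1, h2, h3, -⟩ := top_values
  simp only [List.all_eq_true, List.mem_range, Nat.blt_eq, Nat.ble_eq, List.any_eq_true,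
    Nat.beq_eq] at h1 h2 h3
  have hlt : ∀ p < 6, certFullE6.T.simple p = chevE6.simple p := fun p hp =>
    (certFullE6.simple_eq (show p < chevE6.rank from hp)).symm
  have hw : (datum f hf hK).W.wd 1151 = flatW orbitsE6 (twistE6Reps.get 1151).word := rfl
  have hi : 1151 < (datum f hf hK).W.N := (show (1151 : ℕ) < 1152 by decide)
  have hwd := ((datum f hf hK).wd_spec hi).1
  obtain ⟨l01, l12, l23⟩ := linked f hf hK
  exact (nodes f hf hK).card_out hi
    (fun p hp => by
      rw [hw]
      intro hpos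
      have := h1 p hp
      rw [certFullE6.wlT_eq, hlt p hp] at this
      exact absurd hpos.1 (by show ¬ 36 ≤ _; omega))
    (fun p hp => by
      have := h2 p hp
      rw [certFullE6.wlT_eq, hlt p hp] at this
      rw [hw]
      exact ⟨this, certFullE6.wl_lt (fun x hx => hwd x (by
        rw [hw]; exact (List.mem_append.1 hx).elim id id)) (certFullE6.simple_lt hp)⟩)
    (fun J hJ r hr => by
      have hJlt := ((datum f hf hK).W.J_spec hJ).2.1
      rw [invSet_pair hJlt] at hr ⊢
      obtain ⟨x, hx, e⟩ := h3 J hJ r hr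
      rw [hw, ← certFullE6.wlT_eq, ← certFullE6.wlT_eq, e]
      exact hx)
    (fun θ π hπ i => rigid f hf hK hπ i)
    (fun P hb hstep i => by
      change Fin 4 at i
      have p3 : P (3 : Fin 4) := hb
      have p2 := hstep _ _ l23 p3
      have p1 := hstep _ _ l12 p2
      have p0 := hstep _ _ l01 p1
      fin_cases i <;> assumption)
    (fun g hg => torus_range f hf hK hg)
    (g := Nat.gcd 3 (q + 1)) (by
      rw [card_H f hf hK]
      show _ = ∏ i : Fin 4, _
      rw [Fin.prod_univ_four]
      show _ = (Nat.card ↥(RingHom.eqLocusField f (RingHom.id K)) - 1) *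
        (Nat.card ↥(RingHom.eqLocusField f (RingHom.id K)) - 1) *
        (Nat.card ↥(⊤ : Subfield K) - 1) * (Nat.card ↥(⊤ : Subfield K) - 1)
      rw [card_fixField f hf hK, Nat.card_congr (Subfield.topEquiv (K := K)).toEquiv,
        Nat.card_eq_fintype_card, hK]
      ring)

end Cfsg.Agent.Lie.Chev.E6
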