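import Cfsg.Agent.Lib.Lie.Chev.Centralizer

/-! Chevalley groups over a subfield cut out by a field endomorphism: trivial centraliser and
normalisers of the intermediate subgroups. -/

set_option autoImplicit false

namespace Cfsg.Agent.Lie.Chev

open Cfsg.Lie Matrix

variable {D : ChevalleyDatum} {F : Type*} [Field F]

/-- The subgroup generated by the root elements with parameters fixed by an endomorphism. -/
def fixedRootGroup (D : ChevalleyDatum) (σ : F →+* F) : Subgroup (GL D.Idx F) :=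
  Subgroup.closure {g | ∃ (s : ℕ) (t : F), σ t = t ∧ (g : Matrix D.Idx D.Idx F) = D.x F s t}

theorem x_map (σ : F →+* F) (r : ℕ) (t : F) : (D.x F r t).map σ = D.x F r (σ t) := by
  unfold ChevalleyDatum.x
  split
  · ext i j
    rcases i with i | u <;> rcases j with j | s <;>
      simp only [ChevalleyDatum.xMat, Matrix.map_apply, Matrix.of_apply] <;>
      (repeat' split) <;>
      simp [List.map_map, Function.comp_def, map_list_sum]
  · rw [Matrix.map_one _ (map_zero σ) (map_one σ)]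

namespace CertFull

variable (c : CertFull D)

include c

theorem xg_map (σ : F →+* F) (r : ℕ) (t : F) :
    Matrix.GeneralLinearGroup.map σ (c.xg r t) = c.xg r (σ t) := Units.ext (x_map σ r t)

theorem oprod_map (σ : F →+* F) (m : ℕ) (t : ℕ → F) :
    Matrix.GeneralLinearGroup.map σ (c.oprod m t) = c.oprod m (fun r => σ (t r)) := by
  rw [Cert.oprod, Cert.oprod, map_list_prod, List.map_map]
  congr 1
  exact List.map_congr_left fun r _ => c.xg_map σ r (t r)

theorem ng_map (σ : F →+* F) (r : ℕ) (t : F) :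
    Matrix.GeneralLinearGroup.map σ (c.ng r t) = c.ng r (σ t) := by
  simp only [Cert.ng, map_mul, c.xg_map, map_neg, map_inv₀]

theorem nw_map (σ : F →+* F) (L : List ℕ) :
    Matrix.GeneralLinearGroup.map σ (c.nw F L) = c.nw F L := by
  rw [Cert.nw, map_list_prod, List.map_map]
  congr 1
  exact List.map_congr_left fun p _ => by
    simp only [Function.comp_apply, Cert.np, c.ng_map, map_one]

theorem group_map (σ : F →+* F) {g : GL D.Idx F} (hg : g ∈ D.group F) :
    Matrix.GeneralLinearGroup.map σ g ∈ D.group F := by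
  rw [c.group_eq] at hg
  induction hg using Subgroup.closure_induction with
  | mem g hg =>
    obtain ⟨r, hr, t, rfl⟩ := hg
    rw [c.xg_map]
    exact c.xg_mem_group hr _
  | one => simp [one_mem]
  | mul a b _ _ ha hb => rw [map_mul]; exact mul_mem ha hb
  | inv a _ ha => rw [map_inv]; exact inv_mem ha

theorem U_map (σ : F →+* F) {g : GL D.Idx F} (hg : g ∈ D.posUnipotent F) :
    Matrix.GeneralLinearGroup.map σ g ∈ D.posUnipotent F := by
  rw [c.posUnipotent_eq] at hg ⊢
  obtain ⟨t, rfl⟩ := c.exists_oprod _ c.T.h rfl le_rfl g hg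
  rw [c.oprod_map]
  exact c.oprod_mem le_rfl _

theorem KS_map (σ : F →+* F) {S : Set ℕ} {m : ℕ} {g : GL D.Idx F} (hg : g ∈ c.KS F S m) :
    Matrix.GeneralLinearGroup.map σ g ∈ c.KS F S m := by
  induction hg using Subgroup.closure_induction with
  | mem g hg =>
    obtain ⟨r, t, hr, hm, rfl⟩ := hg
    rw [c.xg_map]
    exact c.xg_mem_KS hr hm _
  | one => simp [one_mem]
  | mul a b _ _ ha hb => rw [map_mul]; exact mul_mem ha hb
  | inv a _ ha => rw [map_inv]; exact inv_mem ha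

theorem H_map (σ : F →+* F) {g : GL D.Idx F} (hg : g ∈ D.diagonalSubgroup F) :
    Matrix.GeneralLinearGroup.map σ g ∈ D.diagonalSubgroup F := by
  induction hg using Subgroup.closure_induction with
  | mem g hg =>
    obtain ⟨r, t, hr, ht, e⟩ := hg
    obtain rfl : g = c.hg r t := Units.ext (e.trans (c.hg_val r t).symm)
    simp only [Cert.hg, map_mul, c.ng_map, map_neg, map_one]
    exact c.hg_mem hr ((map_ne_zero σ).2 ht)
  | one => simp [one_mem]
  | mul a b _ _ ha hb => rw [map_mul]; exact mul_mem ha hb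
  | inv a _ ha => rw [map_inv]; exact inv_mem ha

/-- An element of the group commuting with all root elements at `1` lies in the Borel subgroup. -/
theorem mem_borel_of_commute {g : GL D.Idx F} (hg : g ∈ D.group F)
    (h : ∀ s < D.nroots, Commute g (c.xg s 1)) : g ∈ D.borelSubgroup F := by
  obtain ⟨b, hb, a, ha, L, hL, u, hu, rfl⟩ := c.bruhat_exists hg
  by_cases hq : ∀ q < D.rank, c.Pos (c.wl L (D.simple q))
  · exact mul_mem (mul_mem hb (c.H_le_B (c.mem_H_of_wl ha hL hq)))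
      (Subgroup.mem_sup_left (c.KS_invSet_le_U hL hu))
  exfalso
  push Not at hq
  obtain ⟨q, hq, hneg⟩ := hq
  have hα := c.simple_lt hq
  set x := c.xg (D.simple q) (1 : F) with hxdef
  have hxU : x ∈ D.posUnipotent F := c.xg_mem_U (c.pos_simple hq) 1
  have huU := c.KS_invSet_le_U hL hu
  have hux : u * x ∈ c.K F c.T.h := by rw [← c.posUnipotent_eq]; exact mul_mem huU hxU
  obtain ⟨v, hv, w, hw, e⟩ := c.exists_mul_KS (c.keepSet_closed hL) (c.invSet_closed hL)
    (fun r hr => by by_cases h : c.Pos (c.wl L r); exacts [Or.inl ⟨hr, h⟩, Or.inr ⟨hr, h⟩])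
    _ c.T.h rfl le_rfl _ hux
  have hcomm := (h _ hα).eq
  rw [← hxdef, mul_assoc, e] at hcomm
  set n := a * c.nw F L with hn
  obtain ⟨-, hwu⟩ := c.bruhat_unique_factors ha hL
    (mul_mem hb (Subgroup.mem_sup_left (c.conj_keep_mem_U ha hL hv)))
    (mul_mem (Subgroup.mem_sup_left hxU) hb) hw hu
    (show b * (n * v * n⁻¹) * n * w = x * b * n * u by
      calc b * (n * v * n⁻¹) * n * w = b * n * (v * w) := by group
        _ = x * (b * n * u) := hcomm
        _ = _ := by group)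
  rw [hwu] at e
  have hvUp : v ∈ Up D F q := by
    refine (Subgroup.closure_le _).2 ?_ hv
    rintro _ ⟨r, t, hr, -, rfl⟩
    exact c.xg_mem_Up hr.1 (fun e => hneg (e ▸ hr.2)) t
  obtain ⟨k, hk, t, hkt⟩ := c.exists_Up_mul hq huU
  have hxUp : x ∈ Up D F q := by
    have e2 : x = k⁻¹ * v * k := by
      have hc : c.xg (D.simple q) t * x = x * c.xg (D.simple q) t := by
        rw [hxdef, ← c.xg_add, ← c.xg_add, add_comm]
      have e3 : v = u * x * u⁻¹ := by rw [e]; group
      rw [e3, hkt]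
      calc x = x * c.xg (D.simple q) t * (c.xg (D.simple q) t)⁻¹ := by group
        _ = _ := by rw [← hc]; group
    rw [e2]
    exact mul_mem (mul_mem (inv_mem hk) hvUp) hk
  have h1 := c.Up_le_U q (c.np_conj_Up hq hxUp)
  rw [hxdef, Cert.np, c.ng_conj hq hα, mul_inv_cancel_right, c.w_simple hq, mul_one] at h1
  have h2 := c.borel_inf_negUnipotent.1.le (Subgroup.mem_inf.2 ⟨Subgroup.mem_sup_left h1,
    c.xg_mem_V (F := F) (c.neg_lt hα) (fun hp => (c.not_pos_iff hα).2 hp (c.pos_simple hq)) _⟩)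
  rw [Subgroup.mem_bot, c.xg_eq_one_iff (c.neg_lt hα)] at h2
  exact left_ne_zero_of_mul (a := (c.T.eta q (D.simple q) : F)) (b := (c.T.eta q (D.simple q) : F))
    (by rw [c.eta_F_sq]; exact one_ne_zero) h2

/-- The centraliser in the group of the root elements at `1` is trivial. -/
theorem eq_one_of_commute {g : GL D.Idx F} (hg : g ∈ D.group F)
    (h : ∀ s < D.nroots, Commute g (c.xg s 1)) : g = 1 := by
  obtain ⟨L, hL, hlong⟩ := c.exists_longest
  set n := c.nw F L with hn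
  have hnN := c.nw_mem_N (F := F) hL
  have hnG : n ∈ D.group F := c.N_le_group hnN
  have h' : ∀ s < D.nroots, Commute (n⁻¹ * g * n) (c.xg s 1) := fun s hs => by
    have key : Commute g (c.xg (c.wl L s) (c.wsign L s : F)) := by
      rcases mul_self_eq_one_iff.1 (c.wsign_sq (F := F) L s) with e | e <;> rw [e]
      · exact h _ (c.wl_lt hL hs)
      · rw [← c.xg_inv]; exact (h _ (c.wl_lt hL hs)).inv_right
    have e2 : c.xg (c.wl L s) (c.wsign L s : F) = n * c.xg s 1 * n⁻¹ := by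
      rw [hn, c.nw_mul_xg hL hs, mul_inv_cancel_right, mul_one]
    rw [e2] at key
    calc n⁻¹ * g * n * c.xg s 1 = n⁻¹ * (g * (n * c.xg s 1 * n⁻¹)) * n := by group
      _ = n⁻¹ * (n * c.xg s 1 * n⁻¹ * g) * n := by rw [key.eq]
      _ = _ := by group
  obtain ⟨u, hu, a, ha, e⟩ := c.mem_borel_iff.1
    (c.mem_borel_of_commute (mul_mem (mul_mem (inv_mem hnG) hg) hnG) h')
  have huV : n * u * n⁻¹ ∈ D.negUnipotent F := by
    have hle : (D.posUnipotent F).map (MulAut.conj n).toMonoidHom ≤ D.negUnipotent F := by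
      rw [ChevalleyDatum.posUnipotent, MonoidHom.map_closure, Subgroup.closure_le]
      rintro x ⟨y, ⟨r, t, hr, hy⟩, rfl⟩
      obtain rfl := c.eq_xg_iff.1 hy
      have hr' := c.posRoot_iff.1 hr
      show n * c.xg r t * n⁻¹ ∈ D.negUnipotent F
      rw [hn, c.nw_mul_xg hL hr'.2, mul_inv_cancel_right]
      exact c.xg_mem_V (c.wl_lt hL hr'.2) (hlong r hr') _
    exact hle ⟨u, hu, rfl⟩
  have hgH : g ∈ D.diagonalSubgroup F := by
    refine c.borel_inf_negUnipotent.2.le (Subgroup.mem_inf.2 ⟨c.mem_borel_of_commute hg h, ?_⟩)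
    rw [show g = (n * u * n⁻¹) * (n * a * n⁻¹) by
      calc g = n * (n⁻¹ * g * n) * n⁻¹ := by group
        _ = _ := by rw [e]; group]
    exact mul_mem (Subgroup.mem_sup_left huV) (Subgroup.mem_sup_right (c.N_conj_H hnN ha))
  rw [c.diagonalSubgroup_eq] at hgH
  obtain ⟨z, rfl⟩ := hgH
  rw [Cert.torus_apply, ← map_one (dg D F)]
  refine dg_ext D F fun s hs => ?_
  have h3 := c.torus_conj_xg z hs (1 : F)
  rw [(h s hs).eq, mul_inv_cancel_right, mul_one] at h3
  exact Units.ext (c.xg_inj hs h3).symm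

theorem U_fixed_mem {σ : F →+* F} {u : GL D.Idx F} (hu : u ∈ D.posUnipotent F)
    (h : Matrix.GeneralLinearGroup.map σ u = u) : u ∈ fixedRootGroup D σ := by
  rw [c.posUnipotent_eq] at hu
  obtain ⟨t, rfl⟩ := c.exists_oprod _ c.T.h rfl le_rfl u hu
  rw [c.oprod_map] at h
  refine Subgroup.list_prod_mem _ fun g hg => ?_
  obtain ⟨r, hr, rfl⟩ := List.mem_map.1 hg
  rw [List.mem_range'_1] at hr
  exact Subgroup.subset_closure
    ⟨r, t r, c.oprod_inj _ c.T.h rfl le_rfl _ _ h r hr.1 (by omega), rfl⟩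

theorem nw_mem_fixed (σ : F →+* F) (L : List ℕ) : c.nw F L ∈ fixedRootGroup D σ := by
  refine Subgroup.list_prod_mem _ fun g hg => ?_
  obtain ⟨p, -, rfl⟩ := List.mem_map.1 hg
  refine mul_mem (mul_mem ?_ ?_) ?_
  · exact Subgroup.subset_closure ⟨_, _, map_one σ, rfl⟩
  · exact Subgroup.subset_closure ⟨_, _, by simp, rfl⟩
  · exact Subgroup.subset_closure ⟨_, _, map_one σ, rfl⟩

theorem H_fixed_conj {σ : F →+* F} {a : GL D.Idx F} (ha : a ∈ D.diagonalSubgroup F)
    (hfix : Matrix.GeneralLinearGroup.map σ a = a) {g : GL D.Idx F}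
    (hg : g ∈ fixedRootGroup D σ) : a * g * a⁻¹ ∈ fixedRootGroup D σ := by
  refine conj_closure_mem ?_ hg
  rintro g ⟨s, t, ht, hg⟩
  obtain rfl := c.eq_xg_iff.1 hg
  by_cases hs : s < D.nroots
  · obtain ⟨z, rfl⟩ : a ∈ (c.torus (F := F)).range := by rw [← c.diagonalSubgroup_eq]; exact ha
    have h := congrArg (Matrix.GeneralLinearGroup.map σ) (c.torus_conj_xg z hs t)
    rw [map_mul, map_mul, map_inv, hfix, c.xg_map, c.xg_map, ht, c.torus_conj_xg z hs] at h
    rw [c.torus_conj_xg z hs]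
    exact Subgroup.subset_closure ⟨s, _, (c.xg_inj hs h).symm, rfl⟩
  · have e : c.xg s t = 1 := Units.ext (by simp [ChevalleyDatum.x, hs])
    rw [e, mul_one, mul_inv_cancel]
    exact one_mem _

/-- A fixed element is a product of fixed root elements and a fixed diagonal element. -/
theorem exists_fixed_mul {σ : F →+* F} {g : GL D.Idx F} (hg : g ∈ D.group F)
    (hfix : Matrix.GeneralLinearGroup.map σ g = g) :
    ∃ l ∈ fixedRootGroup D σ, ∃ a ∈ D.diagonalSubgroup F,
      Matrix.GeneralLinearGroup.map σ a = a ∧ g = l * a := by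
  obtain ⟨b, hb, a₀, ha₀, L, hL, u, hu, rfl⟩ := c.bruhat_exists hg
  obtain ⟨u₁, hu₁, a₁, ha₁, hb₁⟩ := c.mem_borel_iff.1 (mul_mem hb (c.H_le_B ha₀))
  have hg' : b * (a₀ * c.nw F L) * u = u₁ * a₁ * (1 * c.nw F L) * u := by
    rw [one_mul, ← hb₁]; group
  rw [hg'] at hfix ⊢
  simp only [map_mul, map_one, c.nw_map] at hfix
  obtain ⟨e1, e2⟩ := c.bruhat_unique_factors (one_mem _) hL
    (mul_mem (Subgroup.mem_sup_left (c.U_map σ hu₁)) (c.H_le_B (c.H_map σ ha₁)))
    (mul_mem (Subgroup.mem_sup_left hu₁) (c.H_le_B ha₁)) (c.KS_map σ hu) hu hfix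
  set φ := Matrix.GeneralLinearGroup.map (n := D.Idx) σ
  have e3 : u₁⁻¹ * φ u₁ = a₁ * (φ a₁)⁻¹ := by
    calc u₁⁻¹ * φ u₁ = u₁⁻¹ * (φ u₁ * φ a₁) * (φ a₁)⁻¹ := by group
      _ = _ := by rw [e1]; group
  have e4 := c.U_inf_H.le (Subgroup.mem_inf.2 ⟨mul_mem (inv_mem hu₁) (c.U_map σ hu₁),
    e3 ▸ mul_mem ha₁ (inv_mem (c.H_map σ ha₁))⟩)
  rw [Subgroup.mem_bot] at e4
  have hfu₁ : φ u₁ = u₁ := (inv_mul_eq_one.1 e4).symm
  have hfa : φ a₁ = a₁ := (mul_inv_eq_one.1 (e3 ▸ e4)).symm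
  refine ⟨u₁ * (a₁ * (c.nw F L * u) * a₁⁻¹), mul_mem (c.U_fixed_mem hu₁ hfu₁) (c.H_fixed_conj ha₁ hfa
    (mul_mem (c.nw_mem_fixed σ L) (c.U_fixed_mem (c.KS_invSet_le_U hL hu) e2))), a₁, ha₁, hfa, ?_⟩
  group

/-- The centraliser and normaliser of a group between the fixed root group and the fixed points. -/
theorem centralizer_normalizer {σ : F →+* F} (K : Subgroup (GL D.Idx F)) (hKG : K ≤ D.group F)
    (hLK : fixedRootGroup D σ ≤ K) (hKfix : ∀ g ∈ K, Matrix.GeneralLinearGroup.map σ g = g) :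
    D.group F ⊓ Subgroup.centralizer (K : Set (GL D.Idx F)) = ⊥ ∧
    ∀ g ∈ D.group F, (g ∈ Subgroup.normalizer (K : Set (GL D.Idx F)) ↔
      Matrix.GeneralLinearGroup.map σ g = g) := by
  set φ := Matrix.GeneralLinearGroup.map (n := D.Idx) σ
  have hcent : ∀ g ∈ D.group F, (∀ k ∈ K, Commute g k) → g = 1 := fun g hg hc =>
    c.eq_one_of_commute hg fun s _ =>
      hc _ (hLK (Subgroup.subset_closure ⟨s, 1, map_one σ, rfl⟩))
  refine ⟨(Subgroup.eq_bot_iff_forall _).2 fun g hg => ?_, fun g hg => ⟨fun hn => ?_, fun hfix => ?_⟩⟩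
  · obtain ⟨h1, h2⟩ := Subgroup.mem_inf.1 hg
    exact hcent g h1 fun k hk => (Subgroup.mem_centralizer_iff.1 h2 k hk).symm
  · have h1 := hcent (g⁻¹ * φ g) (mul_mem (inv_mem hg) (c.group_map σ hg)) fun k hk => by
      have h2 := hKfix _ ((Subgroup.mem_normalizer_iff.1 hn k).1 hk)
      rw [map_mul, map_mul, map_inv, hKfix k hk] at h2
      calc g⁻¹ * φ g * k = g⁻¹ * (φ g * k * (φ g)⁻¹) * φ g := by group
        _ = _ := by rw [h2]; group
    exact (inv_mul_eq_one.1 h1).symm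
  · have key : ∀ x ∈ D.group F, φ x = x → ∀ k ∈ K, x * k * x⁻¹ ∈ K := by
      intro x hx hfx k hk
      obtain ⟨l, hl, a, ha, hfa, rfl⟩ := c.exists_fixed_mul hx hfx
      obtain ⟨l', hl', a', ha', -, rfl⟩ := c.exists_fixed_mul (hKG hk) (hKfix k hk)
      have ha'K : a' ∈ K := by
        have := mul_mem (inv_mem (hLK hl')) hk
        rwa [inv_mul_cancel_left] at this
      rw [show l * a * (l' * a') * (l * a)⁻¹ = l * ((a * l' * a⁻¹) * (a * a' * a⁻¹)) * l⁻¹ by group,
        c.H_commutative ha ha', mul_inv_cancel_right]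
      exact mul_mem (mul_mem (hLK hl) (mul_mem (hLK (c.H_fixed_conj ha hfa hl')) ha'K)) (inv_mem (hLK hl))
    refine Subgroup.mem_normalizer_iff.2 fun k => ⟨key g hg hfix k, fun hk => ?_⟩
    have := key g⁻¹ (inv_mem hg) (by rw [map_inv, hfix]) _ hk
    simpa [mul_assoc] using this

end CertFull

end Cfsg.Agent.Lie.Chev
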