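import Cfsg.Agent.Lib.Lie.Chev.Twist

/-! The exceptional isogenies in characteristic two and three: in characteristic `p` the adjoint
module has a submodule belonging to the short roots, and the representation on the quotient is the
representation on the submodule composed with a map of root subgroups exchanging the two lengths. -/

set_option autoImplicit false

namespace Cfsg.Agent.Lie.Chev

open Cfsg.Lie Matrix

/-- The terms of a vector at one coordinate, moved to coordinate `0`. -/
def atRow (row : ℕ) (L : List Term) : List Term :=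
  (L.filter fun q => Nat.beq q.row row).map fun q => ⟨0, q.ea, q.eb, q.ec, q.coef⟩

/-- All collected coefficients are divisible by `p`. -/
def zeroMod (p : ℕ) (L : List Term) : Bool :=
  (merge L).all fun q => Nat.beq (q.coef.natAbs % p) 0

theorem ev_atRow {ι : Type*} (enum : ι → ℕ) {F : Type*} [CommRing F] (t u v : F) (i : ι)
    (L : List Term) :
    ev enum t u v L i = ev (fun _ : Unit => 0) t u v (atRow (enum i) L) () := by
  induction L with
  | nil => simp [ev, atRow]
  | cons q L ih =>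
    rw [ev_cons, Pi.add_apply, ih]
    by_cases h : enum i = q.row
    · have hb : Nat.beq q.row (enum i) = true := by rw [Nat.beq_eq]; exact h.symm
      rw [if_pos h, atRow, atRow, List.filter_cons, if_pos hb, List.map_cons, ev_cons, Pi.add_apply]
      simp [Term.val]
    · have hb : Nat.beq q.row (enum i) = false := by
        rw [Bool.eq_false_iff]; exact fun e => h (Nat.eq_of_beq_eq_true e).symm
      rw [if_neg h, zero_add, atRow, atRow, List.filter_cons, if_neg (by simp [hb])]

theorem ev_zeroMod {p : ℕ} {F : Type*} [CommRing F] [CharP F p] (t u v : F) {L : List Term}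
    (h : zeroMod p L = true) : ev (fun _ : Unit => 0) t u v L () = 0 := by
  rw [← ev_merge]
  refine List.sum_eq_zero ?_
  intro x hx
  obtain ⟨q, hq, rfl⟩ := List.mem_map.1 hx
  simp only [zeroMod, List.all_eq_true, Nat.beq_eq] at h
  have hc : (q.coef : F) = 0 := by
    rw [CharP.intCast_eq_zero_iff F p, Int.natCast_dvd]
    exact Nat.dvd_of_mod_eq_zero (h q hq)
  simp [Term.val, hc]

namespace CertFull

variable {D : ChevalleyDatum} (c : CertFull D)

/-- The data of an isogeny exchanging long and short roots. -/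
structure IsoData (c : CertFull D) where
  p : ℕ
  ρ : ℕ → ℕ
  short : ℕ → Bool
  τ : ℕ → ℕ
  Il : List ℕ
  Ql : List ℕ
  wit : List (ℕ × ℕ)

namespace IsoData

variable {c} (X : c.IsoData)

/-- The exponent at the image of a root. -/
def expo (r : ℕ) : ℕ := bif X.short r then X.p else 1

/-- The conditions on the roots and nodes. -/
def checkRoots : Bool :=
  (c.T.allNodes fun p =>
    Nat.blt (X.τ p) c.T.l && Nat.beq (X.τ (X.τ p)) p &&
    Nat.beq (X.ρ (c.T.simple p)) (c.T.simple (X.τ p)) &&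
    c.T.allRoots fun s => Nat.beq (X.ρ (c.T.refl p s)) (c.T.refl (X.τ p) (X.ρ s))) &&
  c.T.allRoots fun r =>
    Nat.blt (X.ρ r) c.T.n && Nat.beq (X.ρ (X.ρ r)) r &&
    (Nat.blt r c.T.h || Nat.ble c.T.h (X.ρ r)) &&
    Nat.beq (X.ρ (c.T.neg r)) (c.T.neg (X.ρ r)) && (X.short (c.T.neg r) == X.short r) &&
    (!(X.short r) || X.Il.any fun i => Nat.beq i (c.T.l + r))

/-- The fundamental roots are spanned by short roots, one at a time. -/
def checkSpan : List ℕ → List (ℕ × ℕ) → Bool
  | known, [] => c.T.allNodes fun j => known.any (Nat.beq j)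
  | known, (q, s) :: L =>
    Nat.blt q c.T.l && Nat.blt s c.T.n && X.short s && !(intZero (c.T.vec s q)) &&
    (c.T.allNodes fun j => Nat.beq j q || intZero (c.T.vec s j) || known.any (Nat.beq j)) &&
    checkSpan (q :: known) L

/-- The two lists split the coordinates. -/
def checkSplit : Bool :=
  Nat.beq X.Il.length X.Ql.length && Nat.beq (X.Il.length + X.Ql.length) c.T.dim &&
    (X.Il ++ X.Ql).all (fun i => Nat.blt i c.T.dim) &&
    (List.range c.T.dim).all fun i => (X.Il ++ X.Ql).any (Nat.beq i)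

/-- One root: the submodule is invariant, and the quotient is the submodule at the image root. -/
def checkMatAt (r : ℕ) : Bool :=
  (List.range X.Il.length).all fun b =>
    let colI := c.T.xCol r 1 0 0 1 (X.Il.getD b 0)
    let colQ := c.T.xCol r 1 0 0 1 (X.Ql.getD b 0)
    let colR := c.T.xCol (X.ρ r) (X.expo r) 0 0 1 (X.Il.getD b 0)
    (List.range X.Il.length).all fun a =>
      zeroMod X.p (atRow (X.Ql.getD a 0) colI) &&
      zeroMod X.p (atRow (X.Ql.getD a 0) colQ ++
        (atRow (X.Il.getD a 0) colR).map Term.negate)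

/-- All conditions. -/
def check : Bool :=
  X.checkRoots && X.checkSpan [] X.wit && X.checkSplit && c.T.allRoots fun r => X.checkMatAt r

variable {X} (hX : X.check = true)

include hX

theorem node_spec {p : ℕ} (hp : p < D.rank) :
    X.τ p < D.rank ∧ X.τ (X.τ p) = p ∧ X.ρ (D.simple p) = D.simple (X.τ p) ∧
    ∀ s < D.nroots, X.ρ (c.w p s) = c.w (X.τ p) (X.ρ s) := by
  simp only [check, checkRoots, Tables.allNodes, Tables.allRoots, Bool.and_eq_true,
    List.all_eq_true, List.mem_range, Nat.blt_eq, Nat.beq_eq, ← c.rank_eq, ← c.nroots_eq] at hX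
  obtain ⟨⟨⟨h1, h2⟩, h3⟩, h4⟩ := hX.1.1.1.1 p hp
  rw [← c.simple_eq hp, ← c.simple_eq h1] at h3
  exact ⟨h1, h2, h3, h4⟩

theorem root_spec {r : ℕ} (hr : r < D.nroots) :
    X.ρ r < D.nroots ∧ X.ρ (X.ρ r) = r ∧ (c.Pos r → c.Pos (X.ρ r)) ∧
    X.ρ (D.neg r) = D.neg (X.ρ r) ∧ X.short (D.neg r) = X.short r ∧
    (X.short r = true → D.rank + r ∈ X.Il) ∧ X.checkMatAt r = true := by
  simp only [check, checkRoots, Tables.allNodes, Tables.allRoots, Bool.and_eq_true,
    List.all_eq_true, List.mem_range, Nat.blt_eq, Nat.beq_eq, Bool.or_eq_true, Nat.ble_eq,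
    beq_iff_eq, List.any_eq_true, Bool.not_eq_true', ← c.rank_eq, ← c.nroots_eq] at hX
  obtain ⟨⟨⟨⟨⟨h1, h2⟩, h3⟩, h4⟩, h5⟩, h6⟩ := hX.1.1.1.2 r hr
  rw [← c.neg_eq hr, ← c.neg_eq h1] at h4
  rw [← c.neg_eq hr] at h5
  refine ⟨h1, h2, fun hp => ⟨?_, h1⟩, h4, h5, fun hs => ?_, hX.2 r hr⟩
  · rcases h3 with h3 | h3
    · exact absurd hp.1 (by omega)
    · exact h3
  · rcases h6 with h6 | ⟨i, hi, e⟩
    · rw [hs] at h6; exact Bool.noConfusion h6
    · exact e ▸ hi

theorem split_spec : X.Il.length = X.Ql.length ∧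
    X.Il.length + X.Ql.length = D.rank + D.nroots ∧
    (∀ i ∈ X.Il ++ X.Ql, i < D.rank + D.nroots) ∧
    ∀ i < D.rank + D.nroots, i ∈ X.Il ++ X.Ql := by
  simp only [check, checkSplit, Tables.dim, Bool.and_eq_true,
    List.all_eq_true, List.mem_range, Nat.blt_eq, Nat.beq_eq,
    List.any_eq_true, ← c.rank_eq, ← c.nroots_eq] at hX
  obtain ⟨⟨⟨h1, h2⟩, h3⟩, h4⟩ := hX.1.2
  refine ⟨h1, h2, h3, fun i hi => ?_⟩
  obtain ⟨x, hx, rfl⟩ := h4 i hi
  exact hx

theorem span_spec : X.checkSpan [] X.wit = true := by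
  simp only [check, Bool.and_eq_true] at hX
  exact hX.1.1.2

/-- A coordinate from its position. -/
def coord (i : ℕ) (h : i < D.rank + D.nroots) : D.Idx :=
  if hl : i < D.rank then Sum.inl ⟨i, hl⟩ else Sum.inr ⟨i - D.rank, by omega⟩

omit hX in
theorem enum_coord (i : ℕ) (h : i < D.rank + D.nroots) : enum D (coord i h) = i := by
  unfold coord
  split
  · rfl
  · simp [enum]; omega

theorem getD_Il_lt (a : Fin X.Il.length) : X.Il.getD a 0 < D.rank + D.nroots := by
  rw [List.getD_eq_getElem _ _ a.2]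
  exact (split_spec hX).2.2.1 _ (List.mem_append_left _ (List.getElem_mem a.2))

theorem getD_Ql_lt (a : Fin X.Il.length) : X.Ql.getD a 0 < D.rank + D.nroots := by
  rw [List.getD_eq_getElem _ _ ((split_spec hX).1 ▸ a.2)]
  exact (split_spec hX).2.2.1 _ (List.mem_append_right _ (List.getElem_mem _))

/-- The coordinates of the submodule. -/
def eI (a : Fin X.Il.length) : D.Idx := coord (X.Il.getD a 0) (getD_Il_lt hX a)

/-- The coordinates of the quotient. -/
def eQ (a : Fin X.Il.length) : D.Idx := coord (X.Ql.getD a 0) (getD_Ql_lt hX a)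

theorem enum_eI (a : Fin X.Il.length) : enum D (eI hX a) = X.Il.getD a 0 := enum_coord _ _

theorem enum_eQ (a : Fin X.Il.length) : enum D (eQ hX a) = X.Ql.getD a 0 := enum_coord _ _

theorem bijective_coords :
    Function.Bijective (Sum.elim (eI hX) (eQ hX)) := by
  obtain ⟨hlen, htot, -, hall⟩ := split_spec hX
  have hsurj : Function.Surjective (Sum.elim (eI hX) (eQ hX)) := by
    intro j
    rcases List.mem_append.1 (hall _ (enum_lt D j)) with h | h
    · obtain ⟨k, hk, e⟩ := List.getElem_of_mem h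
      refine ⟨Sum.inl ⟨k, hk⟩, enum_injective D ?_⟩
      rw [Sum.elim_inl, enum_eI, List.getD_eq_getElem _ _ hk, e]
    · obtain ⟨k, hk, e⟩ := List.getElem_of_mem h
      refine ⟨Sum.inr ⟨k, hlen ▸ hk⟩, enum_injective D ?_⟩
      rw [Sum.elim_inr, enum_eQ, List.getD_eq_getElem _ _ hk, e]
  refine (Fintype.bijective_iff_surjective_and_card _).2 ⟨hsurj, ?_⟩
  simp only [Fintype.card_sum, Fintype.card_fin, ChevalleyDatum.Idx]
  omega

variable {F : Type*} [Field F]

/-- The block of the submodule. -/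
def sub1 (g : Matrix D.Idx D.Idx F) : Matrix (Fin X.Il.length) (Fin X.Il.length) F :=
  g.submatrix (eI hX) (eI hX)

/-- The block of the quotient. -/
def sub2 (g : Matrix D.Idx D.Idx F) : Matrix (Fin X.Il.length) (Fin X.Il.length) F :=
  g.submatrix (eQ hX) (eQ hX)

/-- The submodule is invariant. -/
def Tri (g : Matrix D.Idx D.Idx F) : Prop := ∀ a b, g (eQ hX a) (eI hX b) = 0

theorem sum_split (f : D.Idx → F) :
    ∑ j, f j = ∑ a, f (eI hX a) + ∑ a, f (eQ hX a) := by
  rw [← (bijective_coords hX).sum_comp, Fintype.sum_sum_type]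
  rfl

theorem eI_eQ_ne (a b : Fin X.Il.length) : eI hX a ≠ eQ hX b := fun h => by
  have := (bijective_coords hX).1 (a₁ := Sum.inl a) (a₂ := Sum.inr b) h
  simp at this

theorem eI_inj : Function.Injective (eI hX) := fun a b h => by
  simpa using (bijective_coords hX).1 (a₁ := Sum.inl a) (a₂ := Sum.inl b) h

theorem eQ_inj : Function.Injective (eQ hX) := fun a b h => by
  simpa using (bijective_coords hX).1 (a₁ := Sum.inr a) (a₂ := Sum.inr b) h

theorem tri_one : Tri hX (1 : Matrix D.Idx D.Idx F) := fun a b =>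
  Matrix.one_apply_ne (eI_eQ_ne hX b a).symm

theorem tri_mul {g h : Matrix D.Idx D.Idx F} (hg : Tri hX g) (hh : Tri hX h) :
    Tri hX (g * h) := fun a b => by
  rw [Matrix.mul_apply, sum_split hX]
  simp [hg a, fun x => hh x b]

theorem sub1_mul {g h : Matrix D.Idx D.Idx F} (hh : Tri hX h) :
    sub1 hX (g * h) = sub1 hX g * sub1 hX h := by
  ext a b
  simp only [sub1, Matrix.submatrix_apply, Matrix.mul_apply]
  rw [sum_split hX]
  simp [fun x => hh x b]

theorem sub2_mul {g h : Matrix D.Idx D.Idx F} (hg : Tri hX g) :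
    sub2 hX (g * h) = sub2 hX g * sub2 hX h := by
  ext a b
  simp only [sub2, Matrix.submatrix_apply, Matrix.mul_apply]
  rw [sum_split hX]
  simp [hg a]

/-- The invertible matrices leaving the submodule invariant. -/
def triGroup (F : Type*) [Field F] : Subgroup (GL D.Idx F) where
  carrier := {g | Tri hX (g : Matrix D.Idx D.Idx F) ∧
    Tri hX ((g⁻¹ : GL D.Idx F) : Matrix D.Idx D.Idx F)}
  one_mem' := by simp [tri_one]
  mul_mem' := fun {a b} ha hb => ⟨tri_mul hX ha.1 hb.1, by
    rw [_root_.mul_inv_rev, Units.val_mul]; exact tri_mul hX hb.2 ha.2⟩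
  inv_mem' := fun {a} ha => ⟨ha.2, by rw [inv_inv]; exact ha.1⟩

variable {p : ℕ} [CharP F p]

theorem x_entry {r : ℕ} (hr : r < D.nroots) (t : F) (e : ℕ) (i j : D.Idx) :
    D.x F r (t ^ e) i j =
      ev (fun _ : Unit => 0) t 1 1 (atRow (enum D i) (c.T.xCol r e 0 0 1 (enum D j))) () := by
  rw [← ev_atRow (enum D)]
  have h := c.x_eq_evMat t 1 1 r e 0 0 1 hr
  simp only [Int.cast_one, one_mul, pow_zero, mul_one] at h
  rw [← h]
  rfl

theorem tri_xg (hp : X.p = p) {r : ℕ} (hr : r < D.nroots) (t : F) :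
    Tri hX ((c.xg r t : GL D.Idx F) : Matrix D.Idx D.Idx F) := by
  intro a b
  have h := (root_spec hX hr).2.2.2.2.2.2
  simp only [checkMatAt, List.all_eq_true, List.mem_range, Bool.and_eq_true] at h
  rw [c.xg_val, ← pow_one t, x_entry hX hr, enum_eQ, enum_eI]
  exact ev_zeroMod t 1 1 (hp ▸ (h b b.2 a a.2).1)

theorem sub_xg (hp : X.p = p) {r : ℕ} (hr : r < D.nroots) (t : F) :
    sub2 hX ((c.xg r t : GL D.Idx F) : Matrix D.Idx D.Idx F) =
      sub1 hX ((c.xg (X.ρ r) (t ^ X.expo r) : GL D.Idx F) : Matrix D.Idx D.Idx F) := by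
  ext a b
  have h := (root_spec hX hr).2.2.2.2.2.2
  simp only [checkMatAt, List.all_eq_true, List.mem_range, Bool.and_eq_true] at h
  have h' := ev_zeroMod (F := F) (p := p) t 1 1 (hp ▸ (h b b.2 a a.2).2)
  rw [ev_append, ev_negate, Pi.add_apply, Pi.neg_apply, add_neg_eq_zero] at h'
  simp only [sub1, sub2, Matrix.submatrix_apply, c.xg_val]
  rw [x_entry hX (root_spec hX hr).1 t (X.expo r), enum_eI, enum_eI, ← h', ← pow_one t,
    x_entry hX hr, enum_eQ, enum_eQ, pow_one]

theorem group_le_tri (hp : X.p = p) : D.group F ≤ triGroup hX F := by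
  rw [c.group_eq]
  refine (Subgroup.closure_le _).2 ?_
  rintro g ⟨r, hr, t, rfl⟩
  exact ⟨tri_xg hX hp hr t, by rw [c.xg_inv]; exact tri_xg hX hp hr (-t)⟩

omit hX in
theorem val_one' : ((1 : GL D.Idx F) : Matrix D.Idx D.Idx F) = 1 := rfl

/-- The representation on the submodule. -/
noncomputable def rep1 (hp : X.p = p) :
    ↥(D.group F) →* GL (Fin X.Il.length) F :=
  MonoidHom.toHomUnits
    { toFun := fun g => sub1 hX ((g : GL D.Idx F) : Matrix D.Idx D.Idx F)
      map_one' := Matrix.submatrix_one _ (eI_inj hX)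
      map_mul' := fun g h => sub1_mul hX (group_le_tri hX hp h.2).1 }

/-- The representation on the quotient. -/
noncomputable def rep2 (hp : X.p = p) :
    ↥(D.group F) →* GL (Fin X.Il.length) F :=
  MonoidHom.toHomUnits
    { toFun := fun g => sub2 hX ((g : GL D.Idx F) : Matrix D.Idx D.Idx F)
      map_one' := Matrix.submatrix_one _ (eQ_inj hX)
      map_mul' := fun g h => sub2_mul hX (group_le_tri hX hp g.2).1 }

omit [CharP F p] in
theorem code_eq_of_short {L : List ℕ} (hL : ∀ q ∈ L, q < D.rank)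
    (h : ∀ s < D.nroots, X.short s = true → c.wl L s = s) :
    ∀ q < D.rank, c.Pos (c.wl L (D.simple q)) := by
  have key : ∀ (W : List (ℕ × ℕ)) (known : List ℕ), X.checkSpan known W = true →
      (∀ j ∈ known, j < D.rank → c.wl L (D.simple j) = D.simple j) →
      ∀ q < D.rank, c.wl L (D.simple q) = D.simple q := by
    intro W
    induction W with
    | nil =>
      intro known hk hfix q hq
      simp only [checkSpan, Tables.allNodes, List.all_eq_true, List.any_eq_true, List.mem_range,
        Nat.beq_eq, ← c.rank_eq] at hk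
      obtain ⟨j, hj, rfl⟩ := hk q hq
      exact hfix _ hj hq
    | cons w W ih =>
      obtain ⟨q₀, s⟩ := w
      intro known hk hfix
      simp only [checkSpan, Tables.allNodes, Bool.and_eq_true, List.all_eq_true, List.any_eq_true,
        List.mem_range, Nat.blt_eq, Nat.beq_eq, Bool.or_eq_true, Bool.not_eq_true',
        intZero_iff, ← c.rank_eq, ← c.nroots_eq] at hk
      obtain ⟨⟨⟨⟨⟨hq₀, hs⟩, hsh⟩, hne⟩, hz⟩, hrest⟩ := hk
      have hne' : c.T.vec s q₀ ≠ 0 := fun e => by simp [e, intZero] at hne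
      refine ih (q₀ :: known) hrest fun j hj hjl => ?_
      rcases List.mem_cons.1 hj with rfl | hj
      · have e1 := c.code_wl hL hs
        rw [h s hs hsh] at e1
        have e2 := c.code_wl (L := []) (by simp) hs
        simp only [Cert.wl_nil] at e2
        rw [e2] at e1
        have e3 : c.T.vec s j * c.T.code (D.simple j) =
            c.T.vec s j * c.T.code (c.wl L (D.simple j)) := by
          rw [← sub_eq_zero, ← mul_sub]
          rw [← sub_eq_zero, ← Finset.sum_sub_distrib,
            Finset.sum_eq_single j] at e1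
          · rw [mul_sub]; exact e1
          · intro i hi hij
            rw [Finset.mem_range] at hi
            rcases hz i hi with (h' | h') | ⟨k, hk, rfl⟩
            · exact absurd h' hij
            · rw [h', zero_mul, zero_mul, sub_zero]
            · rw [hfix _ hk hi, sub_self]
          · intro hn; exact absurd (Finset.mem_range.2 hjl) hn
        exact (c.code_inj (c.simple_lt hjl) (c.wl_lt hL (c.simple_lt hjl))
          (mul_left_cancel₀ hne' e3)).symm
      · exact hfix j hj hjl
  intro q hq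
  rw [key X.wit [] (span_spec hX) (by simp) q hq]
  exact c.pos_simple hq

theorem rep1_injective (hp : X.p = p) : Function.Injective (rep1 (F := F) hX hp) := by
  rw [← MonoidHom.ker_eq_bot_iff, eq_bot_iff]
  refine le_trans (Subgroup.normal_le_normalCore.2 ?_) c.core_eq_bot.le
  intro g hg
  rw [Subgroup.mem_subgroupOf]
  have hk : sub1 hX ((g : GL D.Idx F) : Matrix D.Idx D.Idx F) = 1 := by
    have := congrArg Units.val (MonoidHom.mem_ker.1 hg)
    exact this
  obtain ⟨b, hb, a, ha, L, hL, u, hu, e⟩ := c.bruhat_exists g.2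
  obtain ⟨u₁, hu₁, a₁, ha₁, rfl⟩ := c.mem_borel_iff.1 hb
  have huU := c.KS_invSet_le_U hL hu
  have ha' : a₁ * a ∈ D.diagonalSubgroup F := mul_mem ha₁ ha
  set m := a₁ * a * c.nw F L with hm
  set w := u₁⁻¹ * u⁻¹ with hw
  have hwU : w ∈ D.posUnipotent F := mul_mem (inv_mem hu₁) (inv_mem huU)
  have hG := group_le_tri (F := F) hX hp
  have hu1t : u₁⁻¹ ∈ triGroup hX F := hG (c.B_le_group (Subgroup.mem_sup_left (inv_mem hu₁)))
  have hut : u⁻¹ ∈ triGroup hX F := hG (c.B_le_group (Subgroup.mem_sup_left (inv_mem huU)))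
  have hme : m = u₁⁻¹ * (g : GL D.Idx F) * u⁻¹ := by rw [hm, e]; group
  have hblock : sub1 hX (m : Matrix D.Idx D.Idx F) = sub1 hX (w : Matrix D.Idx D.Idx F) := by
    rw [hme, hw, Units.val_mul, Units.val_mul, Units.val_mul, sub1_mul hX hut.1,
      sub1_mul hX (hG g.2).1, hk, mul_one, sub1_mul hX hut.1]
  have hfix : ∀ s < D.nroots, X.short s = true → c.wl L s = s := by
    intro s hs hsh
    obtain ⟨i, hi, hie⟩ := List.getElem_of_mem ((root_spec hX hs).2.2.2.2.2.1 hsh)
    have hidx : eI hX ⟨i, hi⟩ = Sum.inr ⟨s, hs⟩ := enum_injective D (by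
      rw [enum_eI, List.getD_eq_getElem _ _ hi, hie]; rfl)
    have h1 := congrFun (congrFun hblock ⟨i, hi⟩) ⟨i, hi⟩
    simp only [sub1, Matrix.submatrix_apply, hidx] at h1
    have h2 : (w : Matrix D.Idx D.Idx F) (Sum.inr ⟨s, hs⟩) (Sum.inr ⟨s, hs⟩) = 1 := by
      by_contra hne
      refine lt_irrefl _ ((c.posUnipotent_le_unitri hwU).1 (Sum.inr ⟨s, hs⟩)
        (Sum.inr ⟨s, hs⟩) ?_)
      simpa [sub_eq_zero] using hne
    rw [h2] at h1
    obtain ⟨k, -, hk'⟩ := c.H_smul_evec ha' (c.wl L s)
    have h3 := congrFun (show (m : Matrix D.Idx D.Idx F) *ᵥ evec D F s =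
      ((c.wsign L s : F) * k) • evec D F (c.wl L s) by
        rw [hm, Units.val_mul, ← Matrix.mulVec_mulVec, c.nw_evec hL hs, Matrix.mulVec_smul, hk',
          smul_smul]) (Sum.inr ⟨s, hs⟩)
    rw [← single_inr D F ⟨s, hs⟩, Matrix.mulVec_single_one, Matrix.col_apply, h1] at h3
    by_contra hne
    simp [evec, Ne.symm hne] at h3
  have hmB : m ∈ D.borelSubgroup F := c.H_le_B (c.mem_H_of_wl ha' hL (code_eq_of_short hX hL hfix))
  have eg : (g : GL D.Idx F) = u₁ * m * u := by rw [hme]; group
  rw [eg]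
  exact mul_mem (mul_mem (Subgroup.mem_sup_left hu₁) hmB) (Subgroup.mem_sup_left huU)

theorem rep2_range (hp : X.p = p) (g : ↥(D.group F)) :
    rep2 hX hp g ∈ (rep1 (F := F) hX hp).range := by
  obtain ⟨g, hg⟩ := g
  have h2 := hg
  rw [c.group_eq] at h2
  induction h2 using Subgroup.closure_induction with
  | mem g h =>
    obtain ⟨r, hr, t, rfl⟩ := h
    exact ⟨⟨c.xg (X.ρ r) (t ^ X.expo r), c.xg_mem_group (root_spec hX hr).1 _⟩,
      Units.ext (sub_xg hX hp hr t).symm⟩
  | one => exact ⟨1, by rw [map_one]; exact (map_one (rep2 hX hp)).symm⟩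
  | mul a b ha hb iha ihb =>
    rw [← c.group_eq] at ha hb
    have := mul_mem (iha ha) (ihb hb)
    rwa [← map_mul] at this
  | inv a ha iha =>
    rw [← c.group_eq] at ha
    have := inv_mem (iha ha)
    rwa [← map_inv] at this

/-- The special isogeny composed with a field endomorphism. -/
noncomputable def endo (hp : X.p = p) (f : F →+* F) : ↥(D.group F) →* ↥(D.group F) :=
  (MonoidHom.ofInjective (rep1_injective hX hp)).symm.toMonoidHom.comp
    (((rep2 hX hp).comp
      (((Matrix.GeneralLinearGroup.map f).comp (D.group F).subtype).codRestrict _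
        fun g => c.group_map f g.2)).codRestrict _ fun _ => rep2_range hX hp _)

theorem endo_xg (hp : X.p = p) (f : F →+* F) {r : ℕ} (hr : r < D.nroots) (t : F) :
    endo hX hp f ⟨c.xg r t, c.xg_mem_group hr t⟩ =
      ⟨c.xg (X.ρ r) (f t ^ X.expo r), c.xg_mem_group (root_spec hX hr).1 _⟩ := by
  unfold endo
  rw [MonoidHom.comp_apply, MulEquiv.coe_toMonoidHom, MulEquiv.symm_apply_eq]
  refine Subtype.ext ?_
  refine Units.ext ?_
  show sub2 hX ((Matrix.GeneralLinearGroup.map f (c.xg r t) : GL D.Idx F) : Matrix D.Idx D.Idx F) = _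
  rw [c.xg_map, sub_xg hX hp hr]
  rfl

/-- The field endomorphism at a root. -/
def phi [ExpChar F p] (f : F →+* F) (r : ℕ) : F →+* F :=
  bif X.short r then (frobenius F p).comp f else f

omit hX in
theorem phi_apply [ExpChar F p] (hp : X.p = p) (f : F →+* F) (r : ℕ) (t : F) :
    phi (X := X) (p := p) f r t = f t ^ X.expo r := by
  unfold phi expo
  cases X.short r
  · simp
  · simp [frobenius_def, hp]

/-- The twisting endomorphism. -/
noncomputable def twist [ExpChar F p] (hp : X.p = p) (f : F →+* F) : Twist c F where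
  ρ := X.ρ
  τ := X.τ
  τ' := X.τ
  ε := fun _ => 1
  φ := phi (X := X) (p := p) f
  σ := (D.group F).subtype.comp (endo hX hp f)
  τ_lt p' hp' := (node_spec hX hp').1
  τ'_lt p' hp' := (node_spec hX hp').1
  τ'_τ p' hp' := (node_spec hX hp').2.1
  τ_τ' p' hp' := (node_spec hX hp').2.1
  ρ_simple p' hp' := (node_spec hX hp').2.2.1
  ρ_lt r hr := (root_spec hX hr).1
  ρ_pos r hr := (root_spec hX hr.2).2.2.1 hr
  ρ_neg r hr := (root_spec hX hr).2.2.2.1
  ρ_inj r hr s hs e := by rw [← (root_spec hX hr).2.1, e, (root_spec hX hs).2.1]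
  ρ_w p' hp' s hs := (node_spec hX hp').2.2.2 s hs
  ε_sq _ _ := rfl
  ε_simple _ _ := ⟨rfl, rfl⟩
  φ_neg_simple p' hp' := by
    simp only [phi, (root_spec hX (c.simple_lt hp')).2.2.2.2.1]
  σ_xg r hr t := by
    rw [MonoidHom.comp_apply, endo_xg hX hp f hr, Int.cast_one, one_mul,
      phi_apply hp f r t]
    rfl

end IsoData

end CertFull

end Cfsg.Agent.Lie.Chev
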