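import Cfsg.Agent.Lib.Lie.Chev.CertsFull
import Cfsg.Agent.Lib.Lie.Chev.Subfield
import Cfsg.Agent.Lib.Lie.Chev.TwistGraph
import Cfsg.Agent.Lib.Lie.Chev.TwistIso

/-! Field, graph and special isogeny automorphisms of the Chevalley groups. -/

set_option autoImplicit false

namespace Cfsg.Agent.Lie.Chev

open Cfsg.Lie Matrix

namespace CertFull

variable {D : ChevalleyDatum} (c : CertFull D) {F : Type*} [Field F]

section

include c

/-- A field automorphism as an automorphism of the group. -/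
noncomputable def fieldAuto (f : F ≃+* F) : ↥(D.group F) ≃* ↥(D.group F) where
  toFun g := ⟨Matrix.GeneralLinearGroup.map (f : F →+* F) g, c.group_map _ g.2⟩
  invFun g := ⟨Matrix.GeneralLinearGroup.map (f.symm : F →+* F) g, c.group_map _ g.2⟩
  left_inv g := Subtype.ext (Units.ext (by ext i j; simp [Matrix.GeneralLinearGroup.map]))
  right_inv g := Subtype.ext (Units.ext (by ext i j; simp [Matrix.GeneralLinearGroup.map]))
  map_mul' g h := Subtype.ext (by simp)

theorem exists_fieldAuto (f : F ≃+* F) :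
    ∃ α : ↥(D.group F) ≃* ↥(D.group F), ∀ (g : ↥(D.group F)) (r : ℕ) (t : F), r < D.nroots →
      ((g : GL D.Idx F) : Matrix D.Idx D.Idx F) = D.x F r t →
      ((α g : GL D.Idx F) : Matrix D.Idx D.Idx F) = D.x F r (f t) := by
  refine ⟨c.fieldAuto f, fun g r t _ h => ?_⟩
  show (Matrix.GeneralLinearGroup.map (f : F →+* F) (g : GL D.Idx F)).1 = _
  rw [show (g : GL D.Idx F) = c.xg r t from c.eq_xg_iff.1 h, c.xg_map]
  rfl

end

namespace Graph

variable {c} (G : c.Graph)

theorem ρ_five {r : ℕ} (hr : r < D.nroots) :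
    G.ρ ((G.ρ)^[5] r) = r ∧ (G.ρ)^[5] r < D.nroots :=
  ⟨by rw [← Function.iterate_succ_apply' G.ρ]; exact (G.root_spec hr).2.1, G.iterate_lt hr 5⟩

theorem conj_mem {g : GL D.Idx F} (hg : g ∈ D.group F) :
    G.unit F * g * (G.unit F)⁻¹ ∈ D.group F ∧ (G.unit F)⁻¹ * g * G.unit F ∈ D.group F := by
  rw [c.group_eq] at hg
  induction hg using Subgroup.closure_induction with
  | mem g hg =>
    obtain ⟨r, hr, t, rfl⟩ := hg
    constructor
    · rw [G.unit_mul_xg hr, mul_inv_cancel_right]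
      exact c.xg_mem_group (G.root_spec hr).1 _
    · obtain ⟨h1, h2⟩ := G.ρ_five hr
      have e := G.unit_mul_xg (F := F) h2 ((G.ε ((G.ρ)^[5] r) : F) * t)
      rw [h1, ← mul_assoc, ← Int.cast_mul, (G.root_spec h2).2.2.2.2.1, Int.cast_one, one_mul] at e
      rw [mul_assoc, ← e, inv_mul_cancel_left]
      exact c.xg_mem_group h2 _
  | one => simp [one_mem]
  | mul a b _ _ ha hb =>
    refine ⟨?_, ?_⟩
    · rw [show G.unit F * (a * b) * (G.unit F)⁻¹ =
        G.unit F * a * (G.unit F)⁻¹ * (G.unit F * b * (G.unit F)⁻¹) by group]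
      exact mul_mem ha.1 hb.1
    · rw [show (G.unit F)⁻¹ * (a * b) * G.unit F =
        (G.unit F)⁻¹ * a * G.unit F * ((G.unit F)⁻¹ * b * G.unit F) by group]
      exact mul_mem ha.2 hb.2
  | inv a _ ha =>
    refine ⟨?_, ?_⟩
    · rw [show G.unit F * a⁻¹ * (G.unit F)⁻¹ = (G.unit F * a * (G.unit F)⁻¹)⁻¹ by group]
      exact inv_mem ha.1
    · rw [show (G.unit F)⁻¹ * a⁻¹ * G.unit F = ((G.unit F)⁻¹ * a * G.unit F)⁻¹ by group]
      exact inv_mem ha.2

/-- The graph automorphism of the group. -/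
noncomputable def auto : ↥(D.group F) ≃* ↥(D.group F) where
  toFun g := ⟨G.unit F * g * (G.unit F)⁻¹, (G.conj_mem g.2).1⟩
  invFun g := ⟨(G.unit F)⁻¹ * g * G.unit F, (G.conj_mem g.2).2⟩
  left_inv g := Subtype.ext (by simp [mul_assoc])
  right_inv g := Subtype.ext (by simp [mul_assoc])
  map_mul' g h := Subtype.ext (by simp [mul_assoc])

theorem auto_simple (g : ↥(D.group F)) {i : ℕ} (hi : i < D.rank) (t : F) :
    (((g : GL D.Idx F) : Matrix D.Idx D.Idx F) = D.x F (D.simple i) t →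
      ((G.auto g : GL D.Idx F) : Matrix D.Idx D.Idx F) = D.x F (D.simple (G.τ i)) t) ∧
    (((g : GL D.Idx F) : Matrix D.Idx D.Idx F) = D.x F (D.neg (D.simple i)) t →
      ((G.auto g : GL D.Idx F) : Matrix D.Idx D.Idx F) = D.x F (D.neg (D.simple (G.τ i))) t) := by
  obtain ⟨-, -, -, -, h5, h6, h7, -⟩ := G.node_spec hi
  have hs := c.simple_lt hi
  constructor <;> intro h <;>
    show ((G.unit F * (g : GL D.Idx F) * (G.unit F)⁻¹ : GL D.Idx F) : Matrix D.Idx D.Idx F) = _
  · rw [show (g : GL D.Idx F) = c.xg (D.simple i) t from c.eq_xg_iff.1 h, G.unit_mul_xg hs,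
      mul_inv_cancel_right, c.xg_val, h5, h6, Int.cast_one, one_mul]
  · rw [show (g : GL D.Idx F) = c.xg (D.neg (D.simple i)) t from c.eq_xg_iff.1 h,
      G.unit_mul_xg (c.neg_lt hs), mul_inv_cancel_right, c.xg_val, (G.root_spec hs).2.2.2.1, h5, h7,
      Int.cast_one, one_mul]

theorem auto_symm_simple (g : ↥(D.group F)) {i : ℕ} (hi : i < D.rank) (t : F) :
    (((g : GL D.Idx F) : Matrix D.Idx D.Idx F) = D.x F (D.simple i) t →
      ((G.auto.symm g : GL D.Idx F) : Matrix D.Idx D.Idx F) = D.x F (D.simple (G.τ' i)) t) ∧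
    (((g : GL D.Idx F) : Matrix D.Idx D.Idx F) = D.x F (D.neg (D.simple i)) t →
      ((G.auto.symm g : GL D.Idx F) : Matrix D.Idx D.Idx F) =
        D.x F (D.neg (D.simple (G.τ' i))) t) := by
  obtain ⟨-, h2, -, h4, -⟩ := G.node_spec hi
  have hs := c.simple_lt h2
  constructor <;> intro h
  · have hx := (G.auto_simple (F := F) ⟨c.xg (D.simple (G.τ' i)) t, c.xg_mem_group hs t⟩ h2 t).1
      (c.xg_val _ _)
    rw [h4, ← h] at hx
    have hgx : g = G.auto ⟨c.xg (D.simple (G.τ' i)) t, c.xg_mem_group hs t⟩ :=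
      Subtype.ext (Units.ext hx.symm)
    rw [hgx, MulEquiv.symm_apply_apply]
    exact c.xg_val _ _
  · have hx := (G.auto_simple (F := F) ⟨c.xg (D.neg (D.simple (G.τ' i))) t,
      c.xg_mem_group (c.neg_lt hs) t⟩ h2 t).2 (c.xg_val _ _)
    rw [h4, ← h] at hx
    have hgx : g = G.auto ⟨c.xg (D.neg (D.simple (G.τ' i))) t, c.xg_mem_group (c.neg_lt hs) t⟩ :=
      Subtype.ext (Units.ext hx.symm)
    rw [hgx, MulEquiv.symm_apply_apply]
    exact c.xg_val _ _

end Graph

namespace IsoData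

variable {c} {X : c.IsoData} {p : ℕ} [CharP F p]

/-- Over a perfect field the special isogeny is an automorphism. -/
theorem exists_auto (hX : X.check = true) (hp : X.p = p) [ExpChar F p] [PerfectRing F p]
    (hE : ∀ r < D.nroots, X.expo r * X.expo (X.ρ r) = p) :
    ∃ α : ↥(D.group F) ≃* ↥(D.group F), ∀ (g : ↥(D.group F)) (r : ℕ) (t : F), r < D.nroots →
      ((g : GL D.Idx F) : Matrix D.Idx D.Idx F) = D.x F r t →
      ((α g : GL D.Idx F) : Matrix D.Idx D.Idx F) = D.x F (X.ρ r) (t ^ X.expo r) := by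
  set φ := endo hX hp (RingHom.id F)
  set ψ := c.fieldAuto (frobeniusEquiv F p)
  have hsq : ∀ g, φ (φ g) = ψ g := by
    rintro ⟨g, hg⟩
    have hg' := hg
    rw [c.group_eq] at hg'
    induction hg' using Subgroup.closure_induction with
    | mem g h =>
      obtain ⟨r, hr, t, rfl⟩ := h
      have h1 := (root_spec hX hr).1
      show endo hX hp (RingHom.id F) (endo hX hp (RingHom.id F) ⟨_, c.xg_mem_group hr t⟩) = _
      rw [endo_xg hX hp _ hr, endo_xg hX hp _ h1]
      refine Subtype.ext ?_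
      show c.xg _ _ = Matrix.GeneralLinearGroup.map (frobeniusEquiv F p : F →+* F) (c.xg r t)
      rw [c.xg_map, (root_spec hX hr).2.1]
      congr 1
      simp only [RingHom.id_apply, ← pow_mul, hE r hr]
      rfl
    | one =>
      show φ (φ (1 : ↥(D.group F))) = ψ 1
      rw [map_one, map_one, map_one]
    | mul a b ha hb iha ihb =>
      rw [← c.group_eq] at ha hb
      show φ (φ (⟨a, ha⟩ * ⟨b, hb⟩ : ↥(D.group F))) = ψ (⟨a, ha⟩ * ⟨b, hb⟩)
      rw [map_mul, map_mul, map_mul, iha ha, ihb hb]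
    | inv a ha iha =>
      rw [← c.group_eq] at ha
      show φ (φ (⟨a, ha⟩⁻¹ : ↥(D.group F))) = ψ (⟨a, ha⟩⁻¹)
      rw [map_inv, map_inv, map_inv, iha ha]
  have hb : Function.Bijective φ := by
    refine ⟨fun a b e => ψ.injective ?_, fun g => ⟨φ (ψ.symm g), ?_⟩⟩
    · rw [← hsq, ← hsq, e]
    · rw [hsq, MulEquiv.apply_symm_apply]
  refine ⟨MulEquiv.ofBijective φ hb, fun g r t hr h => ?_⟩
  rw [MulEquiv.ofBijective_apply,
    show g = ⟨c.xg r t, c.xg_mem_group hr t⟩ from Subtype.ext (c.eq_xg_iff.1 h)]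
  show ((endo hX hp (RingHom.id F) ⟨c.xg r t, _⟩ : ↥(D.group F)) : GL D.Idx F).1 = _
  rw [endo_xg hX hp _ hr]
  exact c.xg_val _ _

end IsoData

end CertFull

end Cfsg.Agent.Lie.Chev
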