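import Cfsg.Agent.Lib.Lie.Chev.TwistCommon
import Cfsg.Agent.Lib.Lie.Chev.Centralizer
import Cfsg.Agent.Lib.Lie.Chev.GraphAuto
import Cfsg.Agent.Lib.Lie.Chev.SimpleGens
import Cfsg.Prelude.Def_ChevAutomorphisms

/-! Folding: the fixed elements of a graph symmetry form the Chevalley group of the folded type,
acting on the subspace spanned by the signed orbit sums of the basis. -/

set_option autoImplicit false
set_option maxHeartbeats 1000000

namespace Cfsg.Agent.Lie.Chev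

open Cfsg.Lie Matrix

/-- A rectangular matrix given by columns, applied to the value of a list of terms. -/
theorem evRect_mulVec {ι κ : Type*} [Fintype κ] [DecidableEq κ] {F : Type*} [CommRing F]
    (e : ι → ℕ) (e' : κ → ℕ) (t u v : F) (hinj : Function.Injective e') (col : ℕ → List Term)
    (hcol : ∀ c, (∀ i, e' i ≠ c) → col c = []) (L : List Term) :
    (Matrix.of fun i j => ev e t u v (col (e' j)) i) *ᵥ ev e' t u v L =
      ev e t u v (apply col L) := by
  induction L with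
  | nil => simp [ev_nil, apply]
  | cons q L ih =>
    rw [ev_cons, Matrix.mulVec_add, ih]
    show _ = ev e t u v ((col q.row).map (fun p => p.times q) ++ apply col L)
    rw [ev_append]
    congr 1
    funext i
    by_cases hj : ∃ j, e' j = q.row
    · obtain ⟨j, hj⟩ := hj
      have h : (fun i => if e' i = q.row then q.val t u v else 0) = Pi.single j (q.val t u v) := by
        funext k
        rw [Pi.single_apply]
        by_cases hk : k = j
        · simp [hk, hj]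
        · rw [if_neg hk, if_neg (fun h => hk (hinj (h.trans hj.symm)))]
      rw [h, Matrix.mulVec_single, ← hj]
      simp only [ev, Matrix.of_apply, Matrix.col_apply, List.map_map, Pi.smul_apply, op_smul_eq_mul]
      rw [← List.sum_map_mul_right]
      congr 1
      refine List.map_congr_left fun p _ => ?_
      simp only [Function.comp_apply, Term.times, Term.val]
      split_ifs <;> push_cast <;> ring
    · push Not at hj
      have h : (fun i => if e' i = q.row then q.val t u v else 0) = 0 := by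
        funext k
        simp [hj k]
      rw [h, hcol _ hj]
      simp [Matrix.mulVec_zero, ev_nil]

theorem intBeq_eq {x y : ℤ} (h : intBeq x y = true) : x = y := by
  cases x <;> cases y <;> simp [intBeq] at h <;> simp [h]

namespace CertFull

variable {D : ChevalleyDatum} (c : CertFull D) {F : Type*} [Field F]

include c

/-- Two products of subgroups of closed sets of roots, one normalised by the other. -/
theorem KS_split {A B C : Set ℕ} (hA : ∀ r ∈ A, c.Pos r) (hB : ∀ r ∈ B, c.Pos r)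
    (hd : ∀ r ∈ A, r ∉ B) (hcomm : ∀ r ∈ A, ∀ s ∈ B, ∀ x ∈ c.T.commTerms r s, x.1 ∈ B)
    (hBc : ∀ r ∈ B, ∀ s ∈ B, ∀ x ∈ c.T.commTerms r s, x.1 ∈ B)
    (hC : ∀ r ∈ C, r ∈ A ∨ r ∈ B) {g : GL D.Idx F} (hg : g ∈ c.KS F C c.T.h) :
    ∃ v ∈ c.KS F B c.T.h, ∃ w ∈ c.KS F A c.T.h, g = v * w := by
  have hcl : c.IsClosed B := ⟨hB, hBc⟩
  have hnorm : c.KS F A c.T.h ≤ Subgroup.normalizer (c.KS F B c.T.h : Set (GL D.Idx F)) := by
    have key : ∀ r ∈ A, ∀ t : F, ∀ z ∈ c.KS F B c.T.h,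
        c.xg r t * z * (c.xg r t)⁻¹ ∈ c.KS F B c.T.h := by
      intro r hr t z hz
      refine conj_closure_mem ?_ hz
      rintro g ⟨s, u, hs, hle, rfl⟩
      have hne : s ≠ r := fun e => hd r hr (e ▸ hs)
      have hneg : s ≠ D.neg r := fun e =>
        ((c.not_pos_iff (hA r hr).2).2 (e ▸ hB s hs)) (hA r hr)
      have e := c.xg_comm (F := F) (hA r hr).2 (hB s hs).2 hne hneg (-t) u
      rw [c.xg_inv, mul_assoc, e, ← mul_assoc, ← mul_assoc, ← c.xg_add, add_neg_cancel, c.xg_zero,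
        one_mul]
      refine mul_mem (c.xg_mem_KS hs hle u) (Subgroup.list_prod_mem _ fun y hy => ?_)
      obtain ⟨x, hx, rfl⟩ := List.mem_map.1 hy
      exact c.xg_mem_KS (hcomm r hr s hs x hx) (hB _ (hcomm r hr s hs x hx)).1 _
    refine (Subgroup.closure_le _).2 ?_
    rintro g ⟨r, t, hr, -, rfl⟩
    refine Subgroup.mem_normalizer_iff.2 fun z => ⟨key r hr t z, fun h => ?_⟩
    have h2 := key r hr (-t) _ h
    rw [← c.xg_inv] at h2
    simpa [mul_assoc] using h2
  induction hg using Subgroup.closure_induction with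
  | mem g hg =>
    obtain ⟨r, t, hr, hle, rfl⟩ := hg
    rcases hC r hr with h | h
    · exact ⟨1, one_mem _, _, c.xg_mem_KS h hle t, (one_mul _).symm⟩
    · exact ⟨_, c.xg_mem_KS h hle t, 1, one_mem _, (mul_one _).symm⟩
  | one => exact ⟨1, one_mem _, 1, one_mem _, (mul_one _).symm⟩
  | mul a b _ _ ha hb =>
    obtain ⟨v, hv, w, hw, rfl⟩ := ha
    obtain ⟨v', hv', w', hw', rfl⟩ := hb
    refine ⟨v * (w * v' * w⁻¹), mul_mem hv ((Subgroup.mem_normalizer_iff.1 (hnorm hw) v').1 hv'),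
      w * w', mul_mem hw hw', by group⟩
  | inv a _ ha =>
    obtain ⟨v, hv, w, hw, rfl⟩ := ha
    refine ⟨w⁻¹ * v⁻¹ * w, ?_, w⁻¹, inv_mem hw, by group⟩
    have := (Subgroup.mem_normalizer_iff.1 (hnorm (inv_mem hw)) v⁻¹).1 (inv_mem hv)
    rwa [inv_inv] at this

theorem KS_inter {A B : Set ℕ} (hA : c.IsClosed A) (hB : c.IsClosed B) {g : GL D.Idx F}
    (h1 : g ∈ c.KS F A c.T.h) (h2 : g ∈ c.KS F B c.T.h) : g ∈ c.KS F (A ∩ B) c.T.h := by
  obtain ⟨t, ht, e⟩ := c.exists_oprod_KS hA _ c.T.h rfl le_rfl g h1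
  obtain ⟨t', ht', e'⟩ := c.exists_oprod_KS hB _ c.T.h rfl le_rfl g h2
  rw [e]
  refine Subgroup.list_prod_mem _ fun x hx => ?_
  obtain ⟨r, hr, rfl⟩ := List.mem_map.1 hx
  rw [List.mem_range'_1] at hr
  by_cases h : r ∈ A ∧ r ∈ B
  · exact c.xg_mem_KS (show r ∈ A ∩ B from h) hr.1 _
  · have ht0 : t r = 0 := by
      by_cases hA' : r ∈ A
      · rw [c.oprod_inj _ c.T.h rfl le_rfl t t' (e.symm.trans e') r hr.1 (by omega)]
        exact ht' r fun hB' => h ⟨hA', hB'⟩
      · exact ht r hA'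
    rw [ht0, c.xg_zero]
    exact one_mem _

theorem KS_mono_fold {A B : Set ℕ} (h : ∀ r ∈ A, r ∈ B) {g : GL D.Idx F} (hg : g ∈ c.KS F A c.T.h) :
    g ∈ c.KS F B c.T.h :=
  (Subgroup.closure_mono fun _ ⟨r, t, hr, hle, e⟩ => ⟨r, t, h r hr, hle, e⟩ :
    c.KS F A c.T.h ≤ c.KS F B c.T.h) hg

theorem KS_empty : c.KS F (∅ : Set ℕ) c.T.h = ⊥ := by
  rw [eq_bot_iff, CertFull.KS, Subgroup.closure_le]
  rintro g ⟨r, t, hr, -, -⟩
  exact absurd hr (Set.notMem_empty r)

theorem nw_not_mem_H {L : List ℕ} (hL : ∀ p ∈ L, p < D.rank) {p : ℕ} (hp : p < D.rank)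
    (hneg : ¬ c.Pos (c.wl L (D.simple p))) : c.nw F L ∉ D.diagonalSubgroup F := by
  intro hH
  have hα := c.simple_lt hp
  have e := c.nw_mul_xg (F := F) hL hα 1
  have hB : c.nw F L * c.xg (D.simple p) 1 * (c.nw F L)⁻¹ ∈ D.borelSubgroup F :=
    mul_mem (mul_mem (c.H_le_B hH) (c.xg_mem_B (c.pos_simple hp) 1)) (inv_mem (c.H_le_B hH))
  rw [e, mul_inv_cancel_right] at hB
  have h2 := c.borel_inf_negUnipotent.1.le ⟨hB, c.xg_mem_V (c.wl_lt hL hα) hneg _⟩
  rw [Subgroup.mem_bot, c.xg_eq_one_iff (c.wl_lt hL hα), mul_one] at h2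
  have hs : (c.wsign L (D.simple p) : F) * c.wsign L (D.simple p) = 1 := c.wsign_sq _ _
  rw [h2, zero_mul] at hs
  exact zero_ne_one hs

end CertFull

/-- The data of a folding. -/
structure FoldData where
  /-- For each root of the small type, its signed orbit, the representative first. -/
  orb : List (List (ℕ × ℤ))
  /-- For each node of the small type, its orbit of nodes. -/
  nodes : List (List ℕ)
  /-- The node of the small type below a node. -/
  nodeOf : List ℕ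
  /-- The positive roots of the small type by increasing height. -/
  peel : List ℕ
  /-- An inverse of the Cartan matrix of the small type. -/
  inv : List (List ℤ)
  /-- The node of the small type of each orbit word. -/
  jn : List ℕ

namespace FoldData

variable (X : FoldData) (T T' : Tables) (ρ τ : ℕ → ℕ) (ε : ℕ → ℤ)

/-- The signed orbit over a small root. -/
def orbit (s : ℕ) : List (ℕ × ℤ) := X.orb.getD s []

/-- The nodes over a small node. -/
def node (i : ℕ) : List ℕ := X.nodes.getD i []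

/-- The roots over a list of small roots. -/
def rootsOf (L : List ℕ) : List ℕ := L.flatMap fun s => (X.orbit s).map Prod.fst

/-- The embedding of the folded Lie algebra. -/
def pCol (j : ℕ) : List Term :=
  bif Nat.blt j T'.l then (X.node j).map fun p => ⟨p, 0, 0, 0, 1⟩
  else bif Nat.blt j T'.dim then
    (X.orbit (j - T'.l)).map fun rk => ⟨T.l + rk.1, 0, 0, 0, rk.2⟩
  else []

/-- The product of root elements over a small root. -/
def liftCols (s a : ℕ) (k : ℤ) : List (ℕ → List Term) :=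
  (X.orbit s).map fun rk => T.xCol rk.1 a 0 0 (rk.2 * k)

/-- The signed permutation of the basis. -/
def gCol (col : ℕ) : List Term :=
  bif Nat.blt col T.l then [⟨τ col, 0, 0, 0, 1⟩]
  else bif Nat.blt col T.dim then [⟨T.l + ρ (col - T.l), 0, 0, 0, ε (col - T.l)⟩]
  else []

/-- Root elements are intertwined. -/
def checkTwine : Bool :=
  (List.range T'.n).all fun s =>
    ((X.orbit s).all fun rk => Nat.blt rk.1 T.n) &&
    (List.range T'.dim).all fun j =>
      same (applyAll (X.liftCols T s 1 1) (X.pCol T T' j))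
        (Chev.apply (X.pCol T T') (T'.xCol s 1 0 0 1 j))

/-- The lifts are fixed. -/
def checkFix : Bool :=
  (List.range T'.n).all fun s => (List.range T.dim).all fun j =>
    same (applyAll (gCol T ρ τ ε :: X.liftCols T s 1 1) (unitVec j))
      (applyAll (X.liftCols T s 1 1 ++ [gCol T ρ τ ε]) (unitVec j))

/-- The lifts of the reflection elements. -/
def checkN : Bool :=
  (List.range T'.l).all fun i =>
    ((X.node i).all fun p => Nat.blt p T.l) &&
    (List.range T.dim).all fun j =>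
      same (applyAll (X.liftCols T (T'.simple i) 0 1 ++ X.liftCols T (T'.neg (T'.simple i)) 0 (-1) ++
          X.liftCols T (T'.simple i) 0 1) (unitVec j))
        (applyAll ((X.node i).map T.nCol) (unitVec j))

/-- The first coordinate of each column sees only that column. -/
def checkQ : Bool :=
  (List.range T'.dim).all fun j =>
    match X.pCol T T' j with
    | [] => false
    | p :: _ => Nat.blt p.row T.dim && intBeq (p.coef * p.coef) 1 &&
      (List.range T'.dim).all fun i =>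
        intBeq (((X.pCol T T' i).filter fun q => Nat.beq q.row p.row).map Term.coef).sum
          (bif Nat.beq i j then p.coef else 0)

/-- The exponent of a small node in a small root. -/
def expo (s i : ℕ) : ℤ :=
  ((List.range T.l).filter fun p => Nat.beq (X.nodeOf.getD p 0) i).map
    (fun p => T.vec ((X.orbit s).headD (0, 0)).1 p) |>.sum

/-- The torus. -/
def checkTorus : Bool :=
  ((List.range T.l).all fun p => Nat.blt (X.nodeOf.getD p 0) T'.l &&
    ((X.orbit (T'.simple (X.nodeOf.getD p 0))).any fun rk => Nat.beq rk.1 (T.simple p))) &&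
  ((List.range T.n).all fun r => (List.range T'.n).any fun s =>
    (X.orbit s).any fun rk => Nat.beq rk.1 r) &&
  (List.range T'.n).all fun s =>
    match X.orbit s with
    | [] => false
    | hd :: tl => intBeq (hd.2 * hd.2) 1 && !((tl.map Prod.fst).contains hd.1) &&
      ((hd :: tl).all fun rk => (List.range (tl.length + 1)).any fun i => Nat.beq (ρ^[i] hd.1) rk.1) &&
      (List.range T'.l).all fun i =>
        intBeq (((List.range T'.l).map fun j => (X.inv.getD j []).getD i 0 * T'.cartan j s).sum)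
          (X.expo T s i)

/-- Peeling off the orbits of positive roots. -/
def checkPeelAt : List ℕ → Bool
  | [] => true
  | s :: L =>
    let O := (X.orbit s).map Prod.fst
    let R := X.rootsOf L
    Nat.ble T'.h s && Nat.blt s T'.n &&
    (O.all fun a => Nat.ble T.h a && Nat.blt a T.n && O.contains (ρ a) && !(R.contains a) &&
      (O.all fun b => (T.commTerms a b).isEmpty) &&
      R.all fun b => (T.commTerms a b).all fun x => R.contains x.1) &&
    (R.all fun a => Nat.ble T.h a && Nat.blt a T.n && R.contains (ρ a) &&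
      R.all fun b => (T.commTerms a b).all fun x => R.contains x.1) &&
    (T'.commTerms s s).isEmpty && !(L.contains s) &&
    (L.all fun a => Nat.ble T'.h a && Nat.blt a T'.n &&
      L.all fun b => (T'.commTerms a b).all fun x => L.contains x.1) &&
    checkPeelAt L

/-- Peeling off all positive roots. -/
def checkPeel : Bool :=
  X.checkPeelAt T T' ρ X.peel &&
    (List.range' T.h T.h).all fun r => (X.rootsOf X.peel).contains r

/-- The fixed elements of the Weyl group move some root of the small type. -/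
def checkWord (Jw : List (List ℕ)) (E : BT TRep) (N : ℕ) : Bool :=
  ((List.range Jw.length).all fun j =>
    Nat.blt (X.jn.getD j 0) T'.l && (X.node (X.jn.getD j 0) == Jw.getD j [])) &&
  (List.range N).all fun i =>
    let w := (E.get i).word
    w.isEmpty || (List.range T'.l).any fun p =>
      Nat.blt (T'.wlT (w.map fun j => X.jn.getD j 0) (T'.simple p)) T'.h

end FoldData

/-- A checked folding. -/
structure Folding {Do Di : ChevalleyDatum} (c : CertFull Do) (c' : CertFull Di) where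
  G : c.Graph
  X : FoldData
  Jw : List (List ℕ)
  E : BT TRep
  N : ℕ
  order : List ℕ
  orbits : c.T.checkOrbits G.ρ G.τ Jw = true
  list : c.T.checkFixedWeyl Jw E N order = true
  twine : X.checkTwine c.T c'.T = true
  fixed : X.checkFix c.T c'.T G.ρ G.τ G.ε = true
  nlift : X.checkN c.T c'.T = true
  pick : X.checkQ c.T c'.T = true
  torus : X.checkTorus c.T c'.T G.ρ = true
  peel : X.checkPeel c.T c'.T G.ρ = true
  word : X.checkWord c'.T Jw E N = true

namespace Folding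

variable {Do Di : ChevalleyDatum} {c : CertFull Do} {c' : CertFull Di} (Φ : Folding c c')
  (F : Type*) [Field F]

/-- The signed permutation, as an endomorphism. -/
noncomputable def tw : Twist c F := Φ.G.twist (RingHom.id F)

/-- The embedding of the folded Lie algebra. -/
def P : Matrix Do.Idx Di.Idx F :=
  Matrix.of fun i j => ev (enum Do) (0 : F) 0 0 (Φ.X.pCol c.T c'.T (enum Di j)) i

variable {F}

/-- `g'` is the action of `g` on the folded Lie algebra. -/
def Rel (g : GL Do.Idx F) (g' : GL Di.Idx F) : Prop :=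
  (g : Matrix Do.Idx Do.Idx F) * Φ.P F = Φ.P F * (g' : Matrix Di.Idx Di.Idx F)

theorem pCol_out : ∀ j, (∀ i, enum Di i ≠ j) → Φ.X.pCol c.T c'.T j = [] := by
  intro j h
  have hdim : c'.T.dim = Di.rank + Di.nroots := by rw [Tables.dim, c'.rank_eq, c'.nroots_eq]
  have hj : ¬ j < c'.T.dim := fun hj => by
    by_cases hl : j < Di.rank
    · exact h (Sum.inl ⟨j, hl⟩) rfl
    · exact h (Sum.inr ⟨j - Di.rank, by omega⟩) (by simp [enum]; omega)
  have h1 : Nat.blt j c'.T.l = false := by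
    rw [Bool.eq_false_iff]; intro hb; rw [Nat.blt_eq] at hb; unfold Tables.dim at hj; omega
  have h2 : Nat.blt j c'.T.dim = false := by rw [Bool.eq_false_iff]; simpa using hj
  simp [FoldData.pCol, h1, h2]

theorem pCol_const {j : ℕ} : ∀ p ∈ Φ.X.pCol c.T c'.T j, p.ea = 0 ∧ p.eb = 0 ∧ p.ec = 0 := by
  intro p hp
  rw [FoldData.pCol] at hp
  cases h1 : Nat.blt j c'.T.l <;> rw [h1] at hp
  · cases h2 : Nat.blt j c'.T.dim <;> rw [h2] at hp
    · simp at hp
    · simp only [cond_true, cond_false, List.mem_map] at hp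
      obtain ⟨-, -, rfl⟩ := hp
      exact ⟨rfl, rfl, rfl⟩
  · simp only [cond_true, List.mem_map] at hp
    obtain ⟨-, -, rfl⟩ := hp
    exact ⟨rfl, rfl, rfl⟩

theorem P_eq (t : F) : Φ.P F =
    Matrix.of fun i j => ev (enum Do) t 0 0 (Φ.X.pCol c.T c'.T (enum Di j)) i := by
  ext i j
  simp only [P, Matrix.of_apply, ev]
  refine congrArg List.sum (List.map_congr_left fun p hp => ?_)
  obtain ⟨h1, h2, h3⟩ := Φ.pCol_const p hp
  simp [Term.val, h1, h2, h3]

theorem enum_lt_dim (D : ChevalleyDatum) (d : CertFull D) (j : D.Idx) : enum D j < d.T.dim := by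
  rw [Tables.dim, ← d.rank_eq, ← d.nroots_eq]
  exact enum_lt D j

theorem exists_left_inv : ∃ Q : Matrix Di.Idx Do.Idx F, Q * Φ.P F = 1 := by
  classical
  have h := Φ.pick
  simp only [FoldData.checkQ, List.all_eq_true, List.mem_range] at h
  refine ⟨Matrix.of fun j i => ((Φ.X.pCol c.T c'.T (enum Di j)).head?.elim (0 : F) fun p =>
    if enum Do i = p.row then (p.coef : F) else 0), ?_⟩
  ext j j'
  have hj := h _ (enum_lt_dim Di c' j)
  rw [Matrix.mul_apply]
  cases e : Φ.X.pCol c.T c'.T (enum Di j) with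
  | nil => rw [e] at hj; simp at hj
  | cons p L =>
    rw [e] at hj
    simp only [Bool.and_eq_true, Nat.blt_eq, List.all_eq_true, List.mem_range] at hj
    obtain ⟨⟨hrow, hsq⟩, hsum⟩ := hj
    obtain ⟨i, hi⟩ : ∃ i : Do.Idx, enum Do i = p.row := by
      rw [Tables.dim, ← c.rank_eq, ← c.nroots_eq] at hrow
      by_cases hl : p.row < Do.rank
      · exact ⟨Sum.inl ⟨p.row, hl⟩, rfl⟩
      · exact ⟨Sum.inr ⟨p.row - Do.rank, by omega⟩, by simp [enum]; omega⟩
    rw [Finset.sum_eq_single i (fun b _ hb => by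
        simp only [Matrix.of_apply, e, List.head?_cons, Option.elim_some]
        rw [if_neg (fun h' => hb (enum_injective Do (h'.trans hi.symm))), zero_mul])
      (fun h' => absurd (Finset.mem_univ i) h')]
    simp only [Matrix.of_apply, e, List.head?_cons, Option.elim_some, if_pos hi, P]
    have key : ev (enum Do) (0 : F) 0 0 (Φ.X.pCol c.T c'.T (enum Di j')) i =
        (((((Φ.X.pCol c.T c'.T (enum Di j')).filter fun q => Nat.beq q.row p.row).map
          Term.coef).sum : ℤ) : F) := by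
      have hc : ∀ q ∈ Φ.X.pCol c.T c'.T (enum Di j'), q.ea = 0 ∧ q.eb = 0 ∧ q.ec = 0 :=
        fun q hq => Φ.pCol_const q hq
      revert hc
      induction Φ.X.pCol c.T c'.T (enum Di j') with
      | nil => simp [ev]
      | cons q L ih =>
        intro hc
        obtain ⟨h1, h2, h3⟩ := hc q (by simp)
        rw [ev_cons, Pi.add_apply, ih fun x hx => hc x (by simp [hx]), List.filter_cons, hi]
        by_cases hq : q.row = p.row
        · simp [hq, Term.val, h1, h2, h3]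
        · have b : Nat.beq q.row p.row = false := by
            rw [Bool.eq_false_iff]; exact fun h' => hq (Nat.eq_of_beq_eq_true h')
          simp [b, Ne.symm hq]
    rw [key, intBeq_eq (hsum _ (enum_lt_dim Di c' j'))]
    by_cases hjj : j = j'
    · subst hjj
      rw [Nat.beq_refl, cond_true, ← Int.cast_mul, intBeq_eq hsq, Int.cast_one, Matrix.one_apply_eq]
    · have b : Nat.beq (enum Di j') (enum Di j) = false := by
        rw [Bool.eq_false_iff]
        exact fun h' => hjj (enum_injective Di (Nat.eq_of_beq_eq_true h').symm)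
      rw [b, cond_false, Int.cast_zero, mul_zero, Matrix.one_apply_ne hjj]

theorem Rel.unique {g : GL Do.Idx F} {g₁ g₂ : GL Di.Idx F} (h1 : Φ.Rel g g₁) (h2 : Φ.Rel g g₂) :
    g₁ = g₂ := by
  obtain ⟨Q, hQ⟩ := Φ.exists_left_inv (F := F)
  refine Units.ext ?_
  have := congrArg (Q * ·) (h1.symm.trans h2)
  simpa [← Matrix.mul_assoc, hQ] using this

theorem Rel.one : Φ.Rel (1 : GL Do.Idx F) 1 := by simp [Rel]

theorem Rel.mul {g h : GL Do.Idx F} {g' h' : GL Di.Idx F} (h1 : Φ.Rel g g') (h2 : Φ.Rel h h') :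
    Φ.Rel (g * h) (g' * h') := by
  unfold Rel at h1 h2 ⊢
  rw [Units.val_mul, Units.val_mul, Matrix.mul_assoc, h2, ← Matrix.mul_assoc, h1, Matrix.mul_assoc]

theorem Rel.inv {g : GL Do.Idx F} {g' : GL Di.Idx F} (h : Φ.Rel g g') : Φ.Rel g⁻¹ g'⁻¹ := by
  unfold Rel at h ⊢
  calc (↑g⁻¹ : Matrix Do.Idx Do.Idx F) * Φ.P F
      = (↑g⁻¹ : Matrix Do.Idx Do.Idx F) * (Φ.P F * ((g' : Matrix Di.Idx Di.Idx F) * (↑g'⁻¹ : Matrix Di.Idx Di.Idx F))) := by
        rw [Units.mul_inv, Matrix.mul_one]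
    _ = (↑g⁻¹ : Matrix Do.Idx Do.Idx F) *
        ((g : Matrix Do.Idx Do.Idx F) * Φ.P F * (↑g'⁻¹ : Matrix Di.Idx Di.Idx F)) := by
        rw [h, Matrix.mul_assoc (Φ.P F)]
    _ = _ := by
        rw [← Matrix.mul_assoc, ← Matrix.mul_assoc, Units.inv_mul, Matrix.one_mul]

/-- The product over an orbit of root elements. -/
def lift (s : ℕ) (t : F) : GL Do.Idx F :=
  ((Φ.X.orbit s).map fun rk => c.xg rk.1 ((rk.2 : F) * t)).prod

theorem orbit_lt {s : ℕ} (hs : s < Di.nroots) : ∀ rk ∈ Φ.X.orbit s, rk.1 < Do.nroots := by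
  have h := Φ.twine
  simp only [FoldData.checkTwine, List.all_eq_true, List.mem_range, Bool.and_eq_true,
    Nat.blt_eq] at h
  exact fun rk hrk => c.nroots_eq ▸ (h s (c'.nroots_eq ▸ hs)).1 rk hrk

theorem lift_mem_group {s : ℕ} (hs : s < Di.nroots) (t : F) : Φ.lift s t ∈ Do.group F := by
  refine Subgroup.list_prod_mem _ fun g hg => ?_
  obtain ⟨rk, hrk, rfl⟩ := List.mem_map.1 hg
  exact c.xg_mem_group (Φ.orbit_lt hs rk hrk) _

theorem liftCols_out (s a : ℕ) (k : ℤ) : ∀ col ∈ Φ.X.liftCols c.T s a k,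
    ∀ j, (∀ i, enum Do i ≠ j) → col j = [] := by
  intro col hcol
  obtain ⟨rk, -, rfl⟩ := List.mem_map.1 hcol
  exact c.xCol_out _ _ _ _ _

theorem lift_val {s : ℕ} (hs : s < Di.nroots) (t : F) (a : ℕ) (k : ℤ) :
    ((Φ.lift s ((k : F) * t ^ a) : GL Do.Idx F) : Matrix Do.Idx Do.Idx F) =
      ((Φ.X.liftCols c.T s a k).map (evMat (enum Do) t 0 0)).prod := by
  have key : ∀ L : List (ℕ × ℤ), (∀ rk ∈ L, rk.1 < Do.nroots) →
      (((L.map fun rk => c.xg rk.1 ((rk.2 : F) * ((k : F) * t ^ a))).prod : GL Do.Idx F) :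
        Matrix Do.Idx Do.Idx F) =
      ((L.map fun rk => c.T.xCol rk.1 a 0 0 (rk.2 * k)).map (evMat (enum Do) t 0 0)).prod := by
    intro L hL
    induction L with
    | nil => simp
    | cons rk L ih =>
      rw [List.map_cons, List.prod_cons, Units.val_mul, List.map_cons, List.map_cons,
        List.prod_cons, ih fun x hx => hL x (by simp [hx]), c.xg_val,
        c.x_eq_evMat t 0 0 rk.1 a 0 0 _ (hL rk (by simp))]
      congr 2
      push_cast
      ring
  exact key _ (Φ.orbit_lt hs)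

theorem rel_lift {s : ℕ} (hs : s < Di.nroots) (t : F) : Φ.Rel (Φ.lift s t) (c'.xg s t) := by
  have h := Φ.twine
  simp only [FoldData.checkTwine, List.all_eq_true, List.mem_range, Bool.and_eq_true] at h
  unfold Rel
  have e : ((Φ.lift s t : GL Do.Idx F) : Matrix Do.Idx Do.Idx F) =
      ((Φ.X.liftCols c.T s 1 1).map (evMat (enum Do) t 0 0)).prod := by
    simpa using Φ.lift_val hs t 1 1
  rw [e, Φ.P_eq t, c'.xg_val]
  refine Matrix.ext_of_mulVec_single fun j => ?_
  rw [← Matrix.mulVec_mulVec, ← Matrix.mulVec_mulVec]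
  have e2 : (Matrix.of fun i j => ev (enum Do) t 0 0 (Φ.X.pCol c.T c'.T (enum Di j)) i) *ᵥ
      Pi.single j 1 = ev (enum Do) t 0 0 (Φ.X.pCol c.T c'.T (enum Di j)) := by
    rw [Matrix.mulVec_single_one]; rfl
  have e3 : Di.x F s t *ᵥ Pi.single j 1 = ev (enum Di) t 0 0 (c'.T.xCol s 1 0 0 1 (enum Di j)) := by
    rw [show Di.x F s t = evMat (enum Di) t 0 0 (c'.T.xCol s 1 0 0 1) by
      rw [c'.x_eq_evMat t 0 0 s 1 0 0 1 hs]; simp, c'.evMat_single]
  rw [e2, e3, prod_evMat_mulVec (enum Do) t 0 0 (enum_injective Do) _ (Φ.liftCols_out _ _ _),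
    evRect_mulVec (enum Do) (enum Di) t 0 0 (enum_injective Di) _ Φ.pCol_out]
  exact ev_eq_of_same (enum Do) t 0 0 ((h s (c'.nroots_eq ▸ hs)).2 _ (enum_lt_dim Di c' j))

theorem evMat_gCol (t : F) :
    evMat (enum Do) t 0 0 (FoldData.gCol c.T Φ.G.ρ Φ.G.τ Φ.G.ε) = Φ.G.mat F := by
  refine mat_ext Do F (fun i hi => ?_) fun r hr => ?_
  · have h2 : Nat.blt i c.T.l = true := by rw [Nat.blt_eq, ← c.rank_eq]; exact hi
    rw [Φ.G.mat_hvec F hi, ← single_inl Do F ⟨i, hi⟩, c.evMat_single,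
      show enum Do (Sum.inl ⟨i, hi⟩) = i from rfl, FoldData.gCol, h2, cond_true,
      c.ev_single_inl t 0 0 (Φ.G.node_spec hi).1]
    simp
  · have h1 : Nat.blt (Do.rank + r) c.T.dim = true := by
      rw [Nat.blt_eq, Tables.dim, ← c.rank_eq, ← c.nroots_eq]; omega
    have h2 : Nat.blt (Do.rank + r) c.T.l = false := by
      rw [Bool.eq_false_iff]; intro h; rw [Nat.blt_eq, ← c.rank_eq] at h; omega
    rw [Φ.G.mat_evec F hr, ← single_inr Do F ⟨r, hr⟩, c.evMat_single,
      show enum Do (Sum.inr ⟨r, hr⟩) = Do.rank + r from rfl, FoldData.gCol, h1, h2, cond_true,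
      cond_false, show Do.rank + r - c.T.l = r by rw [← c.rank_eq]; omega, c.ev_single_inr]
    simp

theorem gCol_out : ∀ j, (∀ i, enum Do i ≠ j) →
    FoldData.gCol c.T Φ.G.ρ Φ.G.τ Φ.G.ε j = [] := by
  intro j h
  have hdim : c.T.dim = Do.rank + Do.nroots := by rw [Tables.dim, c.rank_eq, c.nroots_eq]
  have hj : ¬ j < c.T.dim := fun hj => by
    by_cases hl : j < Do.rank
    · exact h (Sum.inl ⟨j, hl⟩) rfl
    · exact h (Sum.inr ⟨j - Do.rank, by omega⟩) (by simp [enum]; omega)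
  have h1 : Nat.blt j c.T.l = false := by
    rw [Bool.eq_false_iff]; intro hb; rw [Nat.blt_eq] at hb; unfold Tables.dim at hj; omega
  have h2 : Nat.blt j c.T.dim = false := by rw [Bool.eq_false_iff]; simpa using hj
  simp [FoldData.gCol, h1, h2]

theorem act_eq_conj {g : GL Do.Idx F} (hg : g ∈ Do.group F) :
    (Φ.tw F).act g = Φ.G.unit F * g * (Φ.G.unit F)⁻¹ := by
  rw [(Φ.tw F).act_eq hg]
  show Φ.G.unit F * Matrix.GeneralLinearGroup.map (RingHom.id F) g * (Φ.G.unit F)⁻¹ = _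
  congr 2

theorem mem_fix_iff {g : GL Do.Idx F} :
    g ∈ (Φ.tw F).fix ↔ g ∈ Do.group F ∧
      Φ.G.mat F * (g : Matrix Do.Idx Do.Idx F) = (g : Matrix Do.Idx Do.Idx F) * Φ.G.mat F := by
  rw [(Φ.tw F).mem_fix]
  refine and_congr_right fun hg => ?_
  rw [Φ.act_eq_conj hg, mul_inv_eq_iff_eq_mul, Units.ext_iff, Units.val_mul, Units.val_mul]
  rfl

theorem lift_mem_fix {s : ℕ} (hs : s < Di.nroots) (t : F) : Φ.lift s t ∈ (Φ.tw F).fix := by
  refine Φ.mem_fix_iff.2 ⟨Φ.lift_mem_group hs t, ?_⟩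
  have h := Φ.fixed
  simp only [FoldData.checkFix, List.all_eq_true, List.mem_range] at h
  have e : ((Φ.lift s t : GL Do.Idx F) : Matrix Do.Idx Do.Idx F) =
      ((Φ.X.liftCols c.T s 1 1).map (evMat (enum Do) t 0 0)).prod := by
    simpa using Φ.lift_val hs t 1 1
  have hA : ∀ col ∈ FoldData.gCol c.T Φ.G.ρ Φ.G.τ Φ.G.ε :: Φ.X.liftCols c.T s 1 1,
      ∀ j, (∀ i, enum Do i ≠ j) → col j = [] := by
    intro col hcol
    rcases List.mem_cons.1 hcol with rfl | hcol
    · exact Φ.gCol_out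
    · exact Φ.liftCols_out _ _ _ col hcol
  have hB : ∀ col ∈ Φ.X.liftCols c.T s 1 1 ++ [FoldData.gCol c.T Φ.G.ρ Φ.G.τ Φ.G.ε],
      ∀ j, (∀ i, enum Do i ≠ j) → col j = [] := by
    intro col hcol
    rcases List.mem_append.1 hcol with hcol | hcol
    · exact Φ.liftCols_out _ _ _ col hcol
    · rw [List.mem_singleton] at hcol; subst hcol; exact Φ.gCol_out
  have hsame := prod_eq_of_same (enum Do) t (0 : F) 0 (enum_injective Do) hA hB fun j =>
    ev_eq_of_same (enum Do) t 0 0 (h s (c'.nroots_eq ▸ hs) _ (enum_lt_dim Do c j))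
  rw [List.map_cons, List.prod_cons, List.map_append, List.prod_append, List.map_singleton,
    List.prod_singleton, Φ.evMat_gCol, ← e] at hsame
  exact hsame

variable (F) in
/-- The group generated by the lifts. -/
def G₁ : Subgroup (GL Do.Idx F) :=
  Subgroup.closure {g | ∃ s < Di.nroots, ∃ t : F, g = Φ.lift s t}

theorem lift_mem_G₁ {s : ℕ} (hs : s < Di.nroots) (t : F) : Φ.lift s t ∈ Φ.G₁ F :=
  Subgroup.subset_closure ⟨s, hs, t, rfl⟩

theorem G₁_le_fix : Φ.G₁ F ≤ (Φ.tw F).fix := by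
  refine (Subgroup.closure_le _).2 ?_
  rintro g ⟨s, hs, t, rfl⟩
  exact Φ.lift_mem_fix hs t

theorem exists_rel {g : GL Do.Idx F} (hg : g ∈ Φ.G₁ F) : ∃ g' ∈ Di.group F, Φ.Rel g g' := by
  induction hg using Subgroup.closure_induction with
  | mem g hg =>
    obtain ⟨s, hs, t, rfl⟩ := hg
    exact ⟨_, c'.xg_mem_group hs t, Φ.rel_lift hs t⟩
  | one => exact ⟨1, one_mem _, Rel.one Φ⟩
  | mul a b _ _ ha hb =>
    obtain ⟨a', ha', h1⟩ := ha
    obtain ⟨b', hb', h2⟩ := hb
    exact ⟨_, mul_mem ha' hb', h1.mul Φ h2⟩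
  | inv a _ ha =>
    obtain ⟨a', ha', h1⟩ := ha
    exact ⟨_, inv_mem ha', h1.inv Φ⟩

theorem exists_pre {g' : GL Di.Idx F} (hg : g' ∈ Di.group F) : ∃ g ∈ Φ.G₁ F, Φ.Rel g g' := by
  rw [c'.group_eq] at hg
  induction hg using Subgroup.closure_induction with
  | mem g hg =>
    obtain ⟨s, hs, t, rfl⟩ := hg
    exact ⟨_, Φ.lift_mem_G₁ hs t, Φ.rel_lift hs t⟩
  | one => exact ⟨1, one_mem _, Rel.one Φ⟩
  | mul a b _ _ ha hb =>
    obtain ⟨a', ha', h1⟩ := ha
    obtain ⟨b', hb', h2⟩ := hb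
    exact ⟨_, mul_mem ha' hb', h1.mul Φ h2⟩
  | inv a _ ha =>
    obtain ⟨a', ha', h1⟩ := ha
    exact ⟨_, inv_mem ha', h1.inv Φ⟩

theorem nw_lift {i : ℕ} (hi : i < Di.rank) :
    c.nw F (Φ.X.node i) ∈ Φ.G₁ F ∧ Φ.Rel (c.nw F (Φ.X.node i)) (c'.np F i) := by
  have h := Φ.nlift
  simp only [FoldData.checkN, List.all_eq_true, List.mem_range, Bool.and_eq_true, Nat.blt_eq] at h
  obtain ⟨hlt, hcols⟩ := h i (c'.rank_eq ▸ hi)
  have hlt' : ∀ p ∈ Φ.X.node i, p < Do.rank := fun p hp => c.rank_eq ▸ hlt p hp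
  have hs := c'.simple_lt hi
  have hn := c'.neg_lt hs
  have e1 : c'.T.simple i = Di.simple i := (c'.simple_eq hi).symm
  have e2 : c'.T.neg (c'.T.simple i) = Di.neg (Di.simple i) := by rw [c'.neg_eq hs, e1]
  rw [e1] at hcols
  rw [show c'.T.neg (Di.simple i) = Di.neg (Di.simple i) from (c'.neg_eq hs).symm] at hcols
  set a := Φ.lift (Di.simple i) (1 : F) with ha
  set b := Φ.lift (Di.neg (Di.simple i)) (-1 : F) with hb
  have hval : ∀ {L : List ℕ}, (∀ p ∈ L, p < Do.rank) →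
      ((c.nw F L : GL Do.Idx F) : Matrix Do.Idx Do.Idx F) =
        ((L.map c.T.nCol).map (evMat (enum Do) (1 : F) 0 0)).prod := by
    intro L hL
    induction L with
    | nil => simp
    | cons p L ih =>
      rw [c.nw_cons, Units.val_mul, List.map_cons, List.map_cons, List.prod_cons,
        ih fun q hq => hL q (by simp [hq]), Cert.np, c.ng_val, c.n_eq_evMat (hL p (by simp))]
      congr 1
      ext x y
      simp only [evMat, Matrix.of_apply, ev]
      refine congrArg List.sum (List.map_congr_left fun q hq => ?_)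
      have : q.ea = 0 ∧ q.eb = 0 ∧ q.ec = 0 := by
        revert hq
        simp only [Tables.nCol]
        generalize Nat.blt (enum Do y) c.T.dim = b₁
        generalize Nat.blt (enum Do y) c.T.l = b₂
        generalize (c.T.cartan (enum Do y) (c.T.simple p) == 0) = b₃
        cases b₁ <;> cases b₂ <;> cases b₃ <;> simp
        all_goals (intros; first | (subst_vars; simp) | (rename_i h; rcases h with rfl | rfl <;> simp))
      simp [Term.val, this.1, this.2.1, this.2.2]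
  have key : c.nw F (Φ.X.node i) = a * b * a := by
    refine Units.ext ?_
    have ea : (a : Matrix Do.Idx Do.Idx F) =
        ((Φ.X.liftCols c.T (Di.simple i) 0 1).map (evMat (enum Do) (1 : F) 0 0)).prod := by
      simpa [ha] using Φ.lift_val hs (1 : F) 0 1
    have eb : (b : Matrix Do.Idx Do.Idx F) =
        ((Φ.X.liftCols c.T (Di.neg (Di.simple i)) 0 (-1)).map (evMat (enum Do) (1 : F) 0 0)).prod := by
      simpa [hb] using Φ.lift_val hn (1 : F) 0 (-1)
    rw [hval hlt', Units.val_mul, Units.val_mul, ea, eb, ← List.prod_append, ← List.prod_append,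
      ← List.map_append, ← List.map_append]
    refine (prod_eq_of_same (enum Do) (1 : F) 0 0 (enum_injective Do) (fun col hcol => ?_)
      (fun col hcol => ?_) fun j =>
        ev_eq_of_same (enum Do) (1 : F) 0 0 (hcols _ (enum_lt_dim Do c j))).symm
    · simp only [List.mem_append] at hcol
      rcases hcol with (hcol | hcol) | hcol <;> exact Φ.liftCols_out _ _ _ col hcol
    · obtain ⟨p, -, rfl⟩ := List.mem_map.1 hcol
      intro j hj
      have : Nat.blt j c.T.dim = false := by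
        rw [Bool.eq_false_iff]
        intro hb'
        rw [Nat.blt_eq, Tables.dim, ← c.rank_eq, ← c.nroots_eq] at hb'
        by_cases hl : j < Do.rank
        · exact hj (Sum.inl ⟨j, hl⟩) rfl
        · exact hj (Sum.inr ⟨j - Do.rank, by omega⟩) (by simp [enum]; omega)
      simp [Tables.nCol, this]
  rw [key]
  refine ⟨mul_mem (mul_mem (Φ.lift_mem_G₁ hs _) (Φ.lift_mem_G₁ hn _)) (Φ.lift_mem_G₁ hs _), ?_⟩
  have e : c'.np F i = c'.xg (Di.simple i) 1 * c'.xg (Di.neg (Di.simple i)) (-1) *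
      c'.xg (Di.simple i) 1 := by simp [Cert.np, Cert.ng]
  rw [e]
  exact ((Φ.rel_lift hs _).mul Φ (Φ.rel_lift hn _)).mul Φ (Φ.rel_lift hs _)

theorem jn_spec {j : ℕ} (hj : j < Φ.Jw.length) :
    Φ.X.jn.getD j 0 < Di.rank ∧ Φ.X.node (Φ.X.jn.getD j 0) = Φ.Jw.getD j [] := by
  have h := Φ.word
  simp only [FoldData.checkWord, Bool.and_eq_true, List.all_eq_true, List.mem_range, Nat.blt_eq,
    beq_iff_eq] at h
  exact ⟨c'.rank_eq ▸ (h.1 j hj).1, (h.1 j hj).2⟩

variable (F) in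
/-- The fixed elements of the Weyl group. -/
noncomputable def weyl : (Φ.tw F).FixedWeyl where
  Jw := Φ.Jw
  E := Φ.E
  N := Φ.N
  order := Φ.order
  orbits := Φ.orbits
  list := Φ.list
  nw_fix := fun J hJ => by
    obtain ⟨j, hj, rfl⟩ := List.getElem_of_mem hJ
    obtain ⟨h1, h2⟩ := Φ.jn_spec hj
    rw [← List.getD_eq_getElem _ [] hj, ← h2]
    exact ((Φ.tw F).mem_fix.1 (Φ.G₁_le_fix (Φ.nw_lift h1).1)).2

theorem nw_wd {i : ℕ} (hi : i < Φ.N) :
    c.nw F ((Φ.weyl F).wd i) ∈ Φ.G₁ F ∧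
      Φ.Rel (c.nw F ((Φ.weyl F).wd i)) (c'.nw F ((Φ.E.get i).word.map fun j => Φ.X.jn.getD j 0)) ∧
      ∀ p ∈ (Φ.E.get i).word.map (fun j => Φ.X.jn.getD j 0), p < Di.rank := by
  have hw := ((Φ.weyl F).step_spec i hi).1
  change ∀ j ∈ (Φ.E.get i).word, j < Φ.Jw.length at hw
  show c.nw F (flatW Φ.Jw (Φ.E.get i).word) ∈ _ ∧ Φ.Rel (c.nw F (flatW Φ.Jw (Φ.E.get i).word)) _ ∧ _
  revert hw
  induction (Φ.E.get i).word with
  | nil => intro _; exact ⟨one_mem _, Rel.one Φ, by simp⟩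
  | cons j w ih =>
    intro hw
    obtain ⟨h1, h2, h3⟩ := ih fun k hk => hw k (by simp [hk])
    obtain ⟨hj, hJ⟩ := Φ.jn_spec (hw j (by simp))
    obtain ⟨n1, n2⟩ := Φ.nw_lift (F := F) hj
    rw [show flatW Φ.Jw (j :: w) = Φ.X.node (Φ.X.jn.getD j 0) ++ flatW Φ.Jw w by rw [hJ]; simp [flatW],
      c.nw_append, List.map_cons, c'.nw_cons]
    refine ⟨mul_mem n1 h1, n2.mul Φ h2, fun p hp => ?_⟩
    rcases List.mem_cons.1 hp with rfl | hp
    · exact hj
    · exact h3 p hp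

theorem orbit_spec {s : ℕ} (hs : s < Di.nroots) : ∃ hd tl, Φ.X.orbit s = hd :: tl ∧
    hd.2 * hd.2 = 1 ∧ hd.1 ∉ tl.map Prod.fst ∧ ∀ rk ∈ Φ.X.orbit s, ∃ i ≤ tl.length, (Φ.G.ρ)^[i] hd.1 = rk.1 := by
  have h := Φ.torus
  simp only [FoldData.checkTorus, Bool.and_eq_true, List.all_eq_true, List.mem_range] at h
  have h' := h.2 s (c'.nroots_eq ▸ hs)
  cases e : Φ.X.orbit s with
  | nil => rw [e] at h'; simp at h'
  | cons hd tl =>
    rw [e] at h'
    simp only [Bool.and_eq_true, List.all_eq_true, List.any_eq_true, List.mem_range,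
      Nat.beq_eq] at h'
    refine ⟨hd, tl, rfl, intBeq_eq h'.1.1.1, ?_, fun rk hrk => ?_⟩
    · intro hm
      have hn := h'.1.1.2
      simp only [Bool.not_eq_true'] at hn
      rw [List.contains_iff_mem.2 hm] at hn
      exact Bool.noConfusion hn
    obtain ⟨i, hi, e'⟩ := h'.1.2 rk hrk
    exact ⟨i, by omega, e'⟩

/-- The fixed elements of the torus. -/
theorem torus_spec {a : GL Do.Idx F} (ha : a ∈ Do.diagonalSubgroup F) (hf : a ∈ (Φ.tw F).fix) :
    ∃ a' ∈ Di.diagonalSubgroup F, Φ.Rel a a' ∧ (a' = 1 → a = 1) := by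
  rw [c.diagonalSubgroup_eq] at ha
  obtain ⟨z, rfl⟩ := ha
  set χ := c.tchar z with hχ
  have hρ : ∀ r < Do.nroots, χ (Φ.G.ρ r) = χ r := by
    intro r hr
    have e := congrArg (· *ᵥ evec Do F r) (Φ.mem_fix_iff.1 hf).2
    simp only [← Matrix.mulVec_mulVec, Φ.G.mat_evec F hr, Matrix.mulVec_smul] at e
    rw [show ((c.torus z : GL Do.Idx F) : Matrix Do.Idx Do.Idx F) = Do.charDiag F χ from rfl,
      charDiag_evec, charDiag_evec, Matrix.mulVec_smul, Φ.G.mat_evec F hr, smul_smul, smul_smul] at e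
    have hρr := (Φ.G.root_spec hr).1
    have e' := congrFun e (Sum.inr ⟨Φ.G.ρ r, hρr⟩)
    simp [evec] at e'
    have hε : (Φ.G.ε r : F) * Φ.G.ε r = 1 := by
      rw [← Int.cast_mul, (Φ.G.root_spec hr).2.2.2.2.1, Int.cast_one]
    refine Units.ext ?_
    calc (χ (Φ.G.ρ r) : F) = (Φ.G.ε r : F) * ((Φ.G.ε r : F) * χ (Φ.G.ρ r)) := by
          rw [← mul_assoc, hε, one_mul]
      _ = (χ r : F) := by
          linear_combination (χ r : F) * hε - (Φ.G.ε r : F) * e'
  have hiter : ∀ r < Do.nroots, ∀ i, χ ((Φ.G.ρ)^[i] r) = χ r := by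
    intro r hr i
    induction i with
    | zero => rfl
    | succ i ih => rw [Function.iterate_succ_apply', hρ _ (Φ.G.iterate_lt hr i), ih]
  set χ' : ℕ → Fˣ := fun s => χ ((Φ.X.orbit s).headD (0, 0)).1 with hχ'
  have hconst : ∀ s < Di.nroots, ∀ rk ∈ Φ.X.orbit s, χ rk.1 = χ' s := by
    intro s hs rk hrk
    obtain ⟨hd, tl, e, -, -, htr⟩ := Φ.orbit_spec hs
    obtain ⟨i, -, hi⟩ := htr rk hrk
    rw [← hi, hiter _ (Φ.orbit_lt hs hd (by simp [e]))]
    simp [hχ', e]
  have h := Φ.torus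
  simp only [FoldData.checkTorus, Bool.and_eq_true, List.all_eq_true, List.mem_range,
    List.any_eq_true, Nat.blt_eq, Nat.beq_eq] at h
  obtain ⟨⟨hnode, hcover⟩, hexp⟩ := h
  set z' : ℕ → Fˣ := fun j =>
    ∏ i ∈ Finset.range Di.rank, χ' (Di.simple i) ^ (Φ.X.inv.getD j []).getD i 0 with hz'
  have htchar : ∀ s < Di.nroots, c'.tchar z' s = χ' s := by
    intro s hs
    obtain ⟨hd, tl, e, -, -, -⟩ := Φ.orbit_spec hs
    have hx := hexp s (c'.nroots_eq ▸ hs)
    rw [e] at hx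
    simp only [Bool.and_eq_true, List.all_eq_true, List.mem_range] at hx
    have hhd := Φ.orbit_lt hs hd (by simp [e])
    set g : ℕ → ℕ := fun p => Φ.X.nodeOf.getD p 0
    have hsimple : ∀ p < Do.rank, g p < Di.rank ∧ c.tchar z (Do.simple p) = χ' (Di.simple (g p)) := by
      intro p hp
      obtain ⟨g1, rk, hrk, e'⟩ := hnode p (c.rank_eq ▸ hp)
      have g1' : g p < Di.rank := c'.rank_eq ▸ g1
      rw [← c'.simple_eq g1'] at hrk
      refine ⟨g1', ?_⟩
      rw [← hconst _ (c'.simple_lt g1') rk hrk, e', c.simple_eq hp]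
    have hhead : χ' s = ∏ i ∈ Finset.range Di.rank, χ' (Di.simple i) ^ Φ.X.expo c.T s i := by
      have h0 : χ' s = c.tchar z hd.1 := by simp [hχ', e, hχ]
      rw [h0, c.tchar_eq_prod z hhd, ← Finset.prod_fiberwise_of_maps_to
        (g := g) (t := Finset.range Di.rank)
        fun p hp => Finset.mem_range.2 (hsimple p (Finset.mem_range.1 hp)).1]
      refine Finset.prod_congr rfl fun i _ => ?_
      rw [Finset.prod_congr rfl fun p hp => by
        rw [(hsimple p (Finset.mem_range.1 (Finset.mem_filter.1 hp).1)).2,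
          (Finset.mem_filter.1 hp).2]]
      rw [zpow_sum_eq]
      congr 1
      rw [FoldData.expo, e, ← List.sum_toFinset _ (List.nodup_range.filter _)]
      refine Finset.sum_congr ?_ fun p _ => rfl
      ext p
      simp [g, c.rank_eq]
    rw [hhead, Cert.tchar, hz']
    rw [Finset.prod_congr rfl fun j _ => (Finset.prod_zpow _ _ _).symm, Finset.prod_comm]
    refine Finset.prod_congr rfl fun i hi => ?_
    simp only [← _root_.zpow_mul]
    rw [zpow_sum_eq]
    congr 1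
    rw [← intBeq_eq (hx.2 i (c'.rank_eq ▸ Finset.mem_range.1 hi)),
      ← List.sum_toFinset _ List.nodup_range, List.toFinset_range, c'.rank_eq]
  refine ⟨c'.torus z', c'.torus_mem z', ?_, fun h1 => ?_⟩
  · unfold Rel
    show Do.charDiag F χ * Φ.P F = Φ.P F * Di.charDiag F (c'.tchar z')
    ext i j
    rw [ChevalleyDatum.charDiag, ChevalleyDatum.charDiag, Matrix.diagonal_mul, Matrix.mul_diagonal]
    simp only [P, Matrix.of_apply, ev]
    rw [← List.sum_map_mul_left, ← List.sum_map_mul_right]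
    refine congrArg List.sum (List.map_congr_left fun q hq => ?_)
    by_cases hrow : enum Do i = q.row
    swap
    · simp [hrow]
    rw [if_pos hrow, mul_comm]
    congr 1
    rw [FoldData.pCol] at hq
    rcases j with j | s
    · have h2 : Nat.blt (j : ℕ) c'.T.l = true := by rw [Nat.blt_eq, ← c'.rank_eq]; exact j.isLt
      rw [show enum Di (Sum.inl j) = (j : ℕ) from rfl, h2, cond_true, List.mem_map] at hq
      obtain ⟨p, hp, rfl⟩ := hq
      have hN := Φ.nlift
      simp only [FoldData.checkN, List.all_eq_true, List.mem_range, Bool.and_eq_true,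
        Nat.blt_eq] at hN
      have hp' := c.rank_eq ▸ (hN j (c'.rank_eq ▸ j.isLt)).1 p hp
      rcases i with i | r
      · rfl
      · simp [enum] at hrow; omega
    · have h2 : Nat.blt (Di.rank + (s : ℕ)) c'.T.l = false := by
        rw [Bool.eq_false_iff]; intro h; rw [Nat.blt_eq, ← c'.rank_eq] at h; omega
      have h3 : Nat.blt (Di.rank + (s : ℕ)) c'.T.dim = true := by
        rw [Nat.blt_eq, Tables.dim, ← c'.rank_eq, ← c'.nroots_eq]; omega
      rw [show enum Di (Sum.inr s) = Di.rank + (s : ℕ) from rfl, h2, h3, cond_false, cond_true,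
        show Di.rank + (s : ℕ) - c'.T.l = s by rw [← c'.rank_eq]; omega, List.mem_map] at hq
      obtain ⟨rk, hrk, rfl⟩ := hq
      rcases i with i | r
      · have := i.isLt
        simp [enum, ← c.rank_eq] at hrow; omega
      · have er : (r : ℕ) = rk.1 := by simp [enum, ← c.rank_eq] at hrow; omega
        simp only [Sum.elim_inr]
        rw [er, htchar _ s.isLt, hconst _ s.isLt rk hrk]
  · have h' : ∀ s < Di.nroots, c'.tchar z' s = 1 := fun s hs =>
      (dg_eq_iff Di F).1 (h1.trans (map_one (dg Di F)).symm) s hs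
    rw [Cert.torus_apply, ← map_one (dg Do F)]
    refine dg_ext Do F fun r hr => ?_
    obtain ⟨s, hs, rk, hrk, e⟩ := hcover r (c.nroots_eq ▸ hr)
    have hs' : s < Di.nroots := c'.nroots_eq.symm ▸ hs
    show χ r = 1
    rw [← e, hconst s hs' rk hrk, ← htchar s hs', h' s hs']

theorem act_mem_image {A : Set ℕ} (hA : ∀ r ∈ A, c.Pos r) {g : GL Do.Idx F}
    (hg : g ∈ c.KS F A c.T.h) :
    g ∈ Do.group F ∧ (Φ.tw F).act g ∈ c.KS F (Φ.G.ρ '' A) c.T.h := by
  induction hg using Subgroup.closure_induction with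
  | mem g hg =>
    obtain ⟨r, t, hr, -, rfl⟩ := hg
    refine ⟨c.xg_mem_group (hA r hr).2 t, ?_⟩
    rw [(Φ.tw F).act_xg (hA r hr).2]
    exact c.xg_mem_KS (Set.mem_image_of_mem _ hr) ((Φ.tw F).ρ_pos r (hA r hr)).1 _
  | one => exact ⟨one_mem _, by rw [(Φ.tw F).act_one]; exact one_mem _⟩
  | mul a b _ _ ha hb =>
    exact ⟨mul_mem ha.1 hb.1, by rw [(Φ.tw F).act_mul ha.1 hb.1]; exact mul_mem ha.2 hb.2⟩
  | inv a _ ha =>
    exact ⟨inv_mem ha.1, by rw [(Φ.tw F).act_inv ha.1]; exact inv_mem ha.2⟩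

/-- A fixed element of one orbit is a lift. -/
theorem orbit_fixed {s : ℕ} (hs : s < Di.nroots) (hpos : ∀ rk ∈ Φ.X.orbit s, c.Pos rk.1)
    (hst : ∀ rk ∈ Φ.X.orbit s, Φ.G.ρ rk.1 ∈ (Φ.X.orbit s).map Prod.fst)
    (hnil : ∀ rk ∈ Φ.X.orbit s, ∀ rl ∈ Φ.X.orbit s, c.T.commTerms rk.1 rl.1 = [])
    {w : GL Do.Idx F} (hw : w ∈ c.KS F {r | r ∈ (Φ.X.orbit s).map Prod.fst} c.T.h)
    (hf : w ∈ (Φ.tw F).fix) : ∃ a : F, w = Φ.lift s a := by
  set O : Set ℕ := {r | r ∈ (Φ.X.orbit s).map Prod.fst} with hO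
  have hOpos : ∀ r ∈ O, c.Pos r := fun r hr => by
    obtain ⟨rk, hrk, rfl⟩ := List.mem_map.1 hr; exact hpos rk hrk
  have hOnil : ∀ r ∈ O, ∀ r' ∈ O, c.T.commTerms r r' = [] := fun r hr r' hr' => by
    obtain ⟨rk, hrk, rfl⟩ := List.mem_map.1 hr
    obtain ⟨rl, hrl, rfl⟩ := List.mem_map.1 hr'
    exact hnil rk hrk rl hrl
  have hcl : ∀ {A : Set ℕ}, A ⊆ O → c.IsClosed A := fun hA =>
    ⟨fun r hr => hOpos r (hA hr), fun r hr r' hr' x hx => by
      rw [hOnil r (hA hr) r' (hA hr')] at hx; simp at hx⟩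
  obtain ⟨hd, tl, e, hsq, hnd, htr⟩ := Φ.orbit_spec hs
  have hdO : hd.1 ∈ O := List.mem_map.2 ⟨hd, by simp [e], rfl⟩
  set A : Set ℕ := {r | r ∈ O ∧ r ≠ hd.1} with hA
  have hsplit : ∀ g ∈ c.KS F O c.T.h, ∃ v ∈ c.KS F A c.T.h, ∃ y ∈ c.KS F {hd.1} c.T.h,
      g = v * y := fun g hg =>
    c.KS_split (A := {hd.1}) (B := A) (C := O) (fun r hr => by rw [Set.mem_singleton_iff.1 hr]; exact hOpos _ hdO)
      (fun r hr => hOpos r hr.1) (fun r hr h => h.2 (Set.mem_singleton_iff.1 hr))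
      (fun r hr r' hr' x hx => by
        rw [Set.mem_singleton_iff.1 hr, hOnil _ hdO _ hr'.1] at hx; simp at hx)
      (hcl fun r hr => hr.1).2
      (fun r hr => (em (r = hd.1)).imp id fun h => ⟨hr, h⟩) hg
  have hone : ∀ y ∈ c.KS F {hd.1} c.T.h, ∃ a : F, y = c.xg hd.1 a := by
    intro y hy
    induction hy using Subgroup.closure_induction with
    | mem y hy =>
      obtain ⟨r, t, hr, -, rfl⟩ := hy
      exact ⟨t, by rw [Set.mem_singleton_iff.1 hr]⟩
    | one => exact ⟨0, (c.xg_zero _).symm⟩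
    | mul a b _ _ ha hb =>
      obtain ⟨x, rfl⟩ := ha
      obtain ⟨x', rfl⟩ := hb
      exact ⟨x + x', (c.xg_add _ _ _).symm⟩
    | inv a _ ha =>
      obtain ⟨x, rfl⟩ := ha
      exact ⟨-x, c.xg_inv _ _⟩
  obtain ⟨v, hv, y, hy, rfl⟩ := hsplit w hw
  obtain ⟨a, rfl⟩ := hone y hy
  refine ⟨(hd.2 : F) * a, ?_⟩
  set b := (hd.2 : F) * a
  have hlift : Φ.lift s b = c.xg hd.1 a *
      (tl.map fun rk => c.xg rk.1 ((rk.2 : F) * b)).prod := by
    rw [Folding.lift, e, List.map_cons, List.prod_cons]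
    congr 2
    show (hd.2 : F) * ((hd.2 : F) * a) = a
    rw [← mul_assoc, ← Int.cast_mul, hsq, Int.cast_one, one_mul]
  set R := (tl.map fun rk => c.xg rk.1 ((rk.2 : F) * b)).prod with hR
  have hRmem : R ∈ c.KS F O c.T.h := Subgroup.list_prod_mem _ fun g hg => by
    obtain ⟨rk, hrk, rfl⟩ := List.mem_map.1 hg
    exact c.xg_mem_KS (show rk.1 ∈ O from List.mem_map.2 ⟨rk, by simp [e, hrk], rfl⟩)
      (hpos rk (by simp [e, hrk])).1 _
  have hcomm : ∀ g ∈ c.KS F O c.T.h, ∀ h ∈ c.KS F O c.T.h, Commute g h := by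
    have hgen : ∀ r ∈ O, ∀ r' ∈ O, ∀ t u : F, Commute (c.xg r t) (c.xg r' u) := by
      intro r hr r' hr' t u
      by_cases hne : r' = r
      · subst hne
        show _ = _
        rw [← c.xg_add, ← c.xg_add, add_comm]
      · exact c.xg_commute (hOpos r hr).2 (hOpos r' hr').2 hne (fun e' =>
          ((c.not_pos_iff (hOpos r hr).2).2 (e' ▸ hOpos r' hr')) (hOpos r hr)) (hOnil r hr r' hr') t u
    intro g hg h hh
    induction hg using Subgroup.closure_induction with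
    | mem g hg =>
      obtain ⟨r, t, hr, -, rfl⟩ := hg
      induction hh using Subgroup.closure_induction with
      | mem h hh => obtain ⟨r', u, hr', -, rfl⟩ := hh; exact hgen r hr r' hr' t u
      | one => exact Commute.one_right _
      | mul a b _ _ ha hb => exact ha.mul_right hb
      | inv a _ ha => exact ha.inv_right
    | one => exact Commute.one_left _
    | mul a b _ _ ha hb => exact ha.mul_left hb
    | inv a _ ha => exact ha.inv_left
  -- the quotient avoids the representative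
  set y := (Φ.lift s b)⁻¹ * (v * c.xg hd.1 a) with hy0
  have hRA : R ∈ c.KS F A c.T.h ∨ hd.1 ∈ tl.map Prod.fst := by
    by_cases hmem : hd.1 ∈ tl.map Prod.fst
    · exact Or.inr hmem
    · refine Or.inl (Subgroup.list_prod_mem _ fun g hg => ?_)
      obtain ⟨rk, hrk, rfl⟩ := List.mem_map.1 hg
      exact c.xg_mem_KS (show rk.1 ∈ A from ⟨List.mem_map.2 ⟨rk, by simp [e, hrk], rfl⟩,
        fun h => hmem (List.mem_map.2 ⟨rk, hrk, h⟩)⟩) (hpos rk (by simp [e, hrk])).1 _
  replace hRA := hRA.resolve_right hnd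
  have hyA : y ∈ c.KS F A c.T.h := by
    have hvO : v ∈ c.KS F O c.T.h := c.KS_mono_fold (fun r hr => hr.1) hv
    have hxO : c.xg hd.1 a ∈ c.KS F O c.T.h := c.xg_mem_KS hdO (hOpos _ hdO).1 a
    have : y = R⁻¹ * v := by
      rw [hy0, hlift, (hcomm v hvO _ hxO).eq]
      group
    rw [this]
    exact mul_mem (inv_mem hRA) hv
  have hyf : y ∈ (Φ.tw F).fix := mul_mem (inv_mem (Φ.lift_mem_fix hs b)) hf
  have hall : ∀ i, y ∈ c.KS F ((Φ.G.ρ)^[i] '' A) c.T.h ∧ (Φ.G.ρ)^[i] '' A ⊆ O := by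
    intro i
    induction i with
    | zero => simpa using ⟨hyA, fun r (hr : r ∈ A) => hr.1⟩
    | succ i ih =>
      have := (Φ.act_mem_image (fun r hr => hOpos r (ih.2 hr)) ih.1).2
      rw [((Φ.tw F).mem_fix.1 hyf).2, ← Set.image_comp, ← Function.iterate_succ'] at this
      refine ⟨this, ?_⟩
      rintro r ⟨x, hx, rfl⟩
      rw [Function.iterate_succ_apply']
      obtain ⟨rk, hrk, e'⟩ := List.mem_map.1 (ih.2 ⟨x, hx, rfl⟩)
      rw [← e']
      exact hst rk hrk
  have hinter : ∀ n, y ∈ c.KS F {r | r ∈ O ∧ ∀ i ≤ n, r ∈ (Φ.G.ρ)^[i] '' A} c.T.h := by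
    intro n
    induction n with
    | zero =>
      refine Subgroup.closure_mono ?_ (hall 0).1
      rintro g ⟨r, t, hr, hle, e'⟩
      exact ⟨r, t, ⟨(hall 0).2 hr, fun i hi => by rwa [Nat.le_zero.1 hi]⟩, hle, e'⟩
    | succ n ih =>
      refine Subgroup.closure_mono ?_
        (c.KS_inter (hcl fun r hr => hr.1) (hcl (hall (n + 1)).2) ih (hall (n + 1)).1)
      rintro g ⟨r, t, hr, hle, e'⟩
      exact ⟨r, t, ⟨hr.1.1, fun i hi => (Nat.le_succ_iff.1 hi).elim (hr.1.2 i) fun h => h ▸ hr.2⟩,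
        hle, e'⟩
  have hempty : {r | r ∈ O ∧ ∀ i ≤ tl.length, r ∈ (Φ.G.ρ)^[i] '' A} = (∅ : Set ℕ) := by
    refine Set.eq_empty_of_forall_notMem ?_
    rintro r ⟨hr, hr'⟩
    obtain ⟨rk, hrk, rfl⟩ := List.mem_map.1 hr
    obtain ⟨i, hi, ei⟩ := htr rk hrk
    obtain ⟨x, hx, ex⟩ := hr' i hi
    refine hx.2 ?_
    have hinj : ∀ i, ∀ u < Do.nroots, ∀ v < Do.nroots,
        (Φ.G.ρ)^[i] u = (Φ.G.ρ)^[i] v → u = v := by
      intro i
      induction i with
      | zero => intro u _ v _ h; exact h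
      | succ i ih =>
        intro u hu v hv h
        rw [Function.iterate_succ_apply, Function.iterate_succ_apply] at h
        exact (Φ.tw F).ρ_inj u hu v hv (ih _ (Φ.G.root_spec hu).1 _ (Φ.G.root_spec hv).1 h)
    exact hinj i x (hOpos x hx.1).2 hd.1 (hOpos _ hdO).2 (ex.trans ei.symm)
  have hy1 := hinter tl.length
  rw [hempty, c.KS_empty, Subgroup.mem_bot, hy0, inv_mul_eq_one] at hy1
  exact hy1.symm

/-- The roots over a list of small roots, as a set. -/
def covR (L : List ℕ) : Set ℕ := {r | r ∈ Φ.X.rootsOf L}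

theorem peel_fix : ∀ L : List ℕ, Φ.X.checkPeelAt c.T c'.T Φ.G.ρ L = true →
    ∀ u ∈ c.KS F (Φ.covR L) c.T.h, u ∈ (Φ.tw F).fix →
      u ∈ Φ.G₁ F ∧ ∃ u' ∈ c'.KS F {a | a ∈ L} c'.T.h, Φ.Rel u u' ∧ (u' = 1 → u = 1) := by
  intro L
  induction L with
  | nil =>
    intro _ u hu _
    have : Φ.covR [] = (∅ : Set ℕ) := by ext r; simp [covR, FoldData.rootsOf]
    rw [this, c.KS_empty, Subgroup.mem_bot] at hu
    subst hu
    exact ⟨one_mem _, 1, one_mem _, Rel.one Φ, fun _ => rfl⟩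
  | cons s L ih =>
    intro hchk u hu hf
    simp only [FoldData.checkPeelAt, Bool.and_eq_true, List.all_eq_true, List.contains_iff_mem,
      Nat.ble_eq, Nat.blt_eq, List.isEmpty_iff, Bool.not_eq_true', ← Bool.not_eq_true] at hchk
    obtain ⟨⟨⟨⟨⟨⟨⟨hs1, hs2⟩, hO⟩, hR⟩, hss⟩, hsL⟩, hL⟩, hrec⟩ := hchk
    have hs : s < Di.nroots := c'.nroots_eq.symm ▸ hs2
    set Os : Set ℕ := {r | r ∈ (Φ.X.orbit s).map Prod.fst} with hOs
    have hOp : ∀ r ∈ Os, c.Pos r := fun r hr =>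
      ⟨(hO r hr).1.1.1.1.1, c.nroots_eq.symm ▸ (hO r hr).1.1.1.1.2⟩
    have hRp : ∀ r ∈ Φ.covR L, c.Pos r := fun r hr =>
      ⟨(hR r hr).1.1.1, c.nroots_eq.symm ▸ (hR r hr).1.1.2⟩
    have hd : ∀ r ∈ Os, r ∉ Φ.covR L := fun r hr => (hO r hr).1.1.2
    have hRc : c.IsClosed (Φ.covR L) := ⟨hRp, fun r hr r' hr' x hx => (hR r hr).2 r' hr' x hx⟩
    have hOc : c.IsClosed Os := ⟨hOp, fun r hr r' hr' x hx => by
      rw [(hO r hr).1.2 r' hr'] at hx; simp at hx⟩
    obtain ⟨v, hv, w, hw, rfl⟩ := c.KS_split hOp hRp hd (fun r hr r' hr' x hx => (hO r hr).2 r' hr' x hx)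
      hRc.2 (fun r hr => by
        have hr' : r ∈ Φ.X.rootsOf (s :: L) := hr
        simp only [FoldData.rootsOf, List.flatMap_cons, List.mem_append] at hr'
        exact hr') hu
    have hvG : v ∈ Do.group F := (Φ.act_mem_image hRp hv).1
    have hwG : w ∈ Do.group F := (Φ.act_mem_image hOp hw).1
    have hav : (Φ.tw F).act v ∈ c.KS F (Φ.covR L) c.T.h := by
      refine Subgroup.closure_mono ?_ (Φ.act_mem_image hRp hv).2
      rintro g ⟨r, t, ⟨x, hx, rfl⟩, hle, e⟩
      exact ⟨_, t, (show Φ.G.ρ x ∈ Φ.covR L from (hR x hx).1.2), hle, e⟩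
    have haw : (Φ.tw F).act w ∈ c.KS F Os c.T.h := by
      refine Subgroup.closure_mono ?_ (Φ.act_mem_image hOp hw).2
      rintro g ⟨r, t, ⟨x, hx, rfl⟩, hle, e⟩
      exact ⟨_, t, (show Φ.G.ρ x ∈ Os from (hO x hx).1.1.1.2), hle, e⟩
    have hact := ((Φ.tw F).mem_fix.1 hf).2
    rw [(Φ.tw F).act_mul hvG hwG] at hact
    have h1 : ((Φ.tw F).act v)⁻¹ * v = (Φ.tw F).act w * w⁻¹ := by
      rw [eq_mul_inv_iff_mul_eq, mul_assoc, ← hact, inv_mul_cancel_left]
    have h2 : ((Φ.tw F).act v)⁻¹ * v = 1 := by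
      have := (c.KS_inf_eq_bot hRc hOc fun r hr hr' => hd r hr' hr).le (Subgroup.mem_inf.2
        ⟨mul_mem (inv_mem hav) hv, h1 ▸ mul_mem haw (inv_mem hw)⟩)
      exact Subgroup.mem_bot.1 this
    have hvf : v ∈ (Φ.tw F).fix := (Φ.tw F).mem_fix.2 ⟨hvG, inv_mul_eq_one.1 h2⟩
    have hwf : w ∈ (Φ.tw F).fix := by
      have := mul_mem (inv_mem hvf) hf
      rwa [inv_mul_cancel_left] at this
    obtain ⟨a, rfl⟩ := Φ.orbit_fixed hs (fun rk hrk => hOp _ (List.mem_map.2 ⟨rk, hrk, rfl⟩))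
      (fun rk hrk => (hO _ (List.mem_map.2 ⟨rk, hrk, rfl⟩)).1.1.1.2)
      (fun rk hrk rl hrl => (hO _ (List.mem_map.2 ⟨rk, hrk, rfl⟩)).1.2 _
        (List.mem_map.2 ⟨rl, hrl, rfl⟩)) hw hwf
    obtain ⟨hvG₁, v', hv', hrel, hinj⟩ := ih hrec v hv hvf
    have hLpos : ∀ x ∈ ({a | a ∈ L} : Set ℕ), c'.Pos x := fun x hx =>
      ⟨(hL x hx).1.1, c'.nroots_eq.symm ▸ (hL x hx).1.2⟩
    have hLc : c'.IsClosed {a | a ∈ L} := ⟨hLpos, fun x hx y hy z hz => (hL x hx).2 y hy z hz⟩
    have hspos : c'.Pos s := ⟨hs1, hs⟩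
    have hsc : c'.IsClosed {s} := ⟨fun x hx => by rw [Set.mem_singleton_iff.1 hx]; exact hspos,
      fun x hx y hy z hz => by
        rw [Set.mem_singleton_iff.1 hx, Set.mem_singleton_iff.1 hy, hss] at hz; simp at hz⟩
    refine ⟨mul_mem hvG₁ (Φ.lift_mem_G₁ hs a), v' * c'.xg s a, mul_mem ?_ ?_,
      hrel.mul Φ (Φ.rel_lift hs a), fun h => ?_⟩
    · exact c'.KS_mono_fold (fun r hr => List.mem_cons_of_mem _ hr) hv'
    · exact c'.xg_mem_KS (show s ∈ s :: L from List.mem_cons_self) hs1 a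
    · have h3 : c'.xg s a ∈ c'.KS F {s} c'.T.h ⊓ c'.KS F {a | a ∈ L} c'.T.h := by
        refine Subgroup.mem_inf.2 ⟨c'.xg_mem_KS (Set.mem_singleton s) hs1 a, ?_⟩
        rw [← eq_inv_iff_mul_eq_one] at h
        rw [← inv_inv (c'.xg s a), ← h]
        exact inv_mem hv'
      rw [c'.KS_inf_eq_bot hsc hLc fun r hr hr' => hsL (by rwa [Set.mem_singleton_iff.1 hr] at hr'),
        Subgroup.mem_bot, c'.xg_eq_one_iff hs] at h3
      subst h3
      rw [c'.xg_zero, mul_one] at h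
      rw [hinj h, one_mul]
      simp [Folding.lift, c.xg_zero]

theorem U_fix {u : GL Do.Idx F} (hu : u ∈ Do.posUnipotent F) (hf : u ∈ (Φ.tw F).fix) :
    u ∈ Φ.G₁ F ∧ ∃ u' ∈ Di.posUnipotent F, Φ.Rel u u' ∧ (u' = 1 → u = 1) := by
  have h := Φ.peel
  simp only [FoldData.checkPeel, Bool.and_eq_true, List.all_eq_true, List.mem_range'_1,
    List.contains_iff_mem] at h
  obtain ⟨hpeel, hall⟩ := h
  have hu' : u ∈ c.KS F (Φ.covR Φ.X.peel) c.T.h := by
    rw [c.U_eq_KS] at hu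
    refine Subgroup.closure_mono ?_ hu
    rintro g ⟨r, t, hr, hle, e⟩
    have := hr.1.2
    have := c.h_add_h
    exact ⟨r, t, hall r ⟨hle, by omega⟩, hle, e⟩
  obtain ⟨h1, u', hu1, h2, h3⟩ := Φ.peel_fix Φ.X.peel hpeel u hu' hf
  refine ⟨h1, u', ?_, h2, h3⟩
  rw [c'.U_eq_KS]
  refine Subgroup.closure_mono ?_ hu1
  rintro g ⟨r, t, hr, hle, e⟩
  have hp : c'.Pos r := ⟨hle, by
    have : ∀ L : List ℕ, Φ.X.checkPeelAt c.T c'.T Φ.G.ρ L = true → r ∈ L → r < c'.T.n := by
      intro L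
      induction L with
      | nil => simp
      | cons a L ih =>
        intro hc hm
        simp only [FoldData.checkPeelAt, Bool.and_eq_true, Nat.blt_eq] at hc
        rcases List.mem_cons.1 hm with rfl | hm
        · exact hc.1.1.1.1.1.1.2
        · exact ih hc.2 hm
    exact c'.nroots_eq.symm ▸ this _ hpeel hr⟩
  exact ⟨r, t, ⟨hp, hp⟩, hle, e⟩

/-- An element fixed by the symmetry and trivial on the folded Lie algebra is trivial. -/
theorem eq_one_of_rel {g : GL Do.Idx F} (hg : g ∈ (Φ.tw F).fix) (h : Φ.Rel g 1) : g = 1 := by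
  obtain ⟨b, hb, L, hL, hC, u, hu, rfl⟩ := (Φ.tw F).fix_bruhat hg
  obtain ⟨i, hi, hs⟩ := (Φ.weyl F).exists_rep hL hC
  obtain ⟨hnG, hnrel, hwlt⟩ := Φ.nw_wd (F := F) hi
  have h1 := ((Φ.weyl F).flat_spec ((Φ.weyl F).step_spec i hi).1)
  change (∀ p ∈ (Φ.weyl F).wd i, p < Do.rank) ∧ (Φ.tw F).Comm ((Φ.weyl F).wd i) ∧ _ at h1
  obtain ⟨hwd, hwC, -⟩ := h1
  obtain ⟨k, hk, e⟩ := c.exists_H_mul_of_same (F := F) hL hwd hs
  have hset : c.invSet L = c.invSet ((Φ.weyl F).wd i) := Set.ext fun r =>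
    and_congr_right fun hr => by rw [c.wl_eq_of_same hL hwd hs hr.2]
  rw [e, ← mul_assoc] at hg h ⊢
  rw [hset] at hu
  have hbk := mul_mem hb (c.H_le_B hk)
  obtain ⟨f1, f2⟩ := (Φ.tw F).fix_factors hbk hwd hwC
    ((Φ.tw F).mem_fix.1 (Φ.G₁_le_fix hnG)).2 hu hg
  obtain ⟨v, hv, a, ha, e'⟩ := (Φ.tw F).borel_fix (Subgroup.mem_inf.2 ⟨hbk, f1⟩)
  obtain ⟨hv1, hv2⟩ := Subgroup.mem_inf.1 hv
  obtain ⟨ha1, ha2⟩ := Subgroup.mem_inf.1 ha
  have huU := c.KS_invSet_le_U hwd hu
  obtain ⟨-, v', hv', rv, -⟩ := Φ.U_fix hv1 hv2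
  obtain ⟨-, u', hu', ru, -⟩ := Φ.U_fix huU f2
  obtain ⟨a', ha', ra, iA⟩ := Φ.torus_spec ha1 ha2
  rw [e'] at h ⊢
  set w := (Φ.E.get i).word.map fun j => Φ.X.jn.getD j 0 with hw
  have heq : v' * a' * c'.nw F w * u' = 1 :=
    Rel.unique Φ (((rv.mul Φ ra).mul Φ hnrel).mul Φ ru) h
  have hnH : c'.nw F w ∈ Di.diagonalSubgroup F := by
    have := c'.bruhat_unique (mul_mem (Subgroup.mem_sup_left hv') (c'.H_le_B ha')) (one_mem _)
      (c'.nw_mem_N hwlt) (one_mem _) hu' (one_mem _) (by rw [heq, one_mul, one_mul])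
    simpa using inv_mem this
  have hw0 : (Φ.E.get i).word = [] := by
    have hwc := Φ.word
    simp only [FoldData.checkWord, Bool.and_eq_true, List.all_eq_true, List.mem_range,
      Bool.or_eq_true, List.any_eq_true, List.isEmpty_iff, Nat.blt_eq, c'.wlT_eq] at hwc
    rcases hwc.2 i hi with h0 | ⟨p, hp, hneg⟩
    · exact h0
    · exfalso
      have hp' : p < Di.rank := c'.rank_eq.symm ▸ hp
      rw [← c'.simple_eq hp'] at hneg
      exact c'.nw_not_mem_H hwlt hp' (fun hpos => absurd hpos.1 (Nat.not_le.2 hneg)) hnH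
  have hwdnil : (Φ.weyl F).wd i = [] := by
    show flatW Φ.Jw (Φ.E.get i).word = []
    rw [hw0]; rfl
  rw [hw, hw0, List.map_nil, c'.nw_nil, mul_one] at heq
  have ha1' : a' = 1 := by
    have : a' = v'⁻¹ * u'⁻¹ :=
      calc a' = v'⁻¹ * (v' * a' * u') * u'⁻¹ := by group
        _ = _ := by rw [heq, mul_one]
    have h2 := c'.U_inf_H.le (Subgroup.mem_inf.2
      ⟨this ▸ mul_mem (inv_mem hv') (inv_mem hu'), ha'⟩)
    exact Subgroup.mem_bot.1 h2
  rw [iA ha1', mul_one, hwdnil, c.nw_nil, mul_one] at h ⊢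
  obtain ⟨-, x', -, rx, iX⟩ := Φ.U_fix (mul_mem hv1 huU) (mul_mem hv2 f2)
  exact iX (Rel.unique Φ rx h)

theorem H_le {a : GL Do.Idx F} (ha : a ∈ Do.diagonalSubgroup F) (hf : a ∈ (Φ.tw F).fix) :
    a ∈ Φ.G₁ F := by
  obtain ⟨a', ha', hr, -⟩ := Φ.torus_spec ha hf
  obtain ⟨g, hg, hgr⟩ := Φ.exists_pre (c'.B_le_group (c'.H_le_B ha'))
  have := Φ.eq_one_of_rel (mul_mem (inv_mem (Φ.G₁_le_fix hg)) hf) (by
    simpa using (hgr.inv Φ).mul Φ hr)
  rw [inv_mul_eq_one] at this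
  exact this ▸ hg

theorem fix_eq : (Φ.tw F).fix = Φ.G₁ F := by
  refine le_antisymm (fun g hg => ?_) Φ.G₁_le_fix
  obtain ⟨b, hb, L, hL, hC, u, hu, rfl⟩ := (Φ.tw F).fix_bruhat hg
  obtain ⟨i, hi, hs⟩ := (Φ.weyl F).exists_rep hL hC
  obtain ⟨hnG, -, -⟩ := Φ.nw_wd (F := F) hi
  have h1 := ((Φ.weyl F).flat_spec ((Φ.weyl F).step_spec i hi).1)
  change (∀ p ∈ (Φ.weyl F).wd i, p < Do.rank) ∧ (Φ.tw F).Comm ((Φ.weyl F).wd i) ∧ _ at h1
  obtain ⟨hwd, hwC, -⟩ := h1
  obtain ⟨k, hk, e⟩ := c.exists_H_mul_of_same (F := F) hL hwd hs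
  have hset : c.invSet L = c.invSet ((Φ.weyl F).wd i) := Set.ext fun r =>
    and_congr_right fun hr => by rw [c.wl_eq_of_same hL hwd hs hr.2]
  rw [e, ← mul_assoc] at hg ⊢
  rw [hset] at hu
  have hbk := mul_mem hb (c.H_le_B hk)
  obtain ⟨f1, f2⟩ := (Φ.tw F).fix_factors hbk hwd hwC
    ((Φ.tw F).mem_fix.1 (Φ.G₁_le_fix hnG)).2 hu hg
  obtain ⟨v, hv, a, ha, e'⟩ := (Φ.tw F).borel_fix (Subgroup.mem_inf.2 ⟨hbk, f1⟩)
  rw [e']
  exact mul_mem (mul_mem (mul_mem (Φ.U_fix (Subgroup.mem_inf.1 hv).1 (Subgroup.mem_inf.1 hv).2).1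
    (Φ.H_le (Subgroup.mem_inf.1 ha).1 (Subgroup.mem_inf.1 ha).2)) hnG)
    (Φ.U_fix (c.KS_invSet_le_U hwd hu) f2).1

/-- The fixed subgroup is the Chevalley group of the folded type. -/
theorem equiv : Nonempty (↥(Φ.tw F).fix ≃* ↥(Di.group F)) := by
  have hex : ∀ g : ↥(Φ.tw F).fix, ∃ g' ∈ Di.group F, Φ.Rel (g : GL Do.Idx F) g' := fun g =>
    Φ.exists_rel (Φ.fix_eq.le g.2)
  choose f hf hr using hex
  let θ : ↥(Φ.tw F).fix →* ↥(Di.group F) :=
    MonoidHom.mk' (fun g => ⟨f g, hf g⟩) fun g h => Subtype.ext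
      (Rel.unique Φ (hr (g * h)) ((hr g).mul Φ (hr h)))
  refine ⟨MulEquiv.ofBijective θ ⟨?_, fun g' => ?_⟩⟩
  · refine (injective_iff_map_eq_one θ).2 fun g hg => Subtype.ext (Φ.eq_one_of_rel g.2 ?_)
    have : f g = 1 := congrArg Subtype.val hg
    exact this ▸ hr g
  · obtain ⟨g, hg, hgr⟩ := Φ.exists_pre g'.2
    exact ⟨⟨g, Φ.G₁_le_fix hg⟩, Subtype.ext (Rel.unique Φ (hr _) hgr)⟩

/-- The fixed subgroup of a graph automorphism along the symmetry is the folded group. -/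
theorem equiv_graphAut (φ : MulAut ↥(Do.group F)) (π : Equiv.Perm (Fin Do.rank))
    (hexp : ∀ i j : Fin Do.rank, Do.graphExp (ringChar F) i j = 1)
    (hφ : ∀ (g : ↥(Do.group F)) (i : Fin Do.rank) (t : F),
      (((g : GL Do.Idx F) : Matrix Do.Idx Do.Idx F) = Do.x F (Do.simple i) t →
        ((φ g : GL Do.Idx F) : Matrix Do.Idx Do.Idx F) =
          Do.x F (Do.simple (π i)) (t ^ Do.graphExp (ringChar F) i (π i))) ∧
      (((g : GL Do.Idx F) : Matrix Do.Idx Do.Idx F) = Do.x F (Do.neg (Do.simple i)) t →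
        ((φ g : GL Do.Idx F) : Matrix Do.Idx Do.Idx F) =
          Do.x F (Do.neg (Do.simple (π i))) (t ^ Do.graphExp (ringChar F) i (π i))))
    (hπ : (∀ i : Fin Do.rank, (π i : ℕ) = Φ.G.τ i) ∨ (∀ i : Fin Do.rank, (π i : ℕ) = Φ.G.τ' i))
    (S : Subgroup ↥(Do.group F)) (hS : ∀ g, g ∈ S ↔ φ g = g) :
    Nonempty (↥S ≃* ↥(Di.group F)) := by
  have hagree : (∀ g, φ g = Φ.G.auto g) ∨ ∀ g, φ g = Φ.G.auto.symm g := by
    rcases hπ with hπ | hπ
    · refine Or.inl fun g => ?_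
      refine c.simple_induction (P := fun g => φ g = Φ.G.auto g) (fun i hi t => ?_) (by simp)
        (fun u v hu hv => by simp [hu, hv]) (fun u hu => by simp [hu]) g
      have hs := c.simple_lt hi
      constructor <;> refine Subtype.ext (Units.ext ?_)
      · rw [(hφ ⟨c.xg (Do.simple i) t, c.xg_mem_group hs t⟩ ⟨i, hi⟩ t).1 (c.xg_val _ _), hexp, pow_one, hπ,
          (Φ.G.auto_simple ⟨c.xg (Do.simple i) t, c.xg_mem_group hs t⟩ hi t).1 (c.xg_val _ _)]
      · rw [(hφ ⟨c.xg (Do.neg (Do.simple i)) t, c.xg_mem_group (c.neg_lt hs) t⟩ ⟨i, hi⟩ t).2 (c.xg_val _ _), hexp,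
          pow_one, hπ, (Φ.G.auto_simple ⟨c.xg (Do.neg (Do.simple i)) t, c.xg_mem_group (c.neg_lt hs) t⟩ hi t).2
            (c.xg_val _ _)]
    · refine Or.inr fun g => ?_
      refine c.simple_induction (P := fun g => φ g = Φ.G.auto.symm g) (fun i hi t => ?_) (by simp)
        (fun u v hu hv => by simp [hu, hv]) (fun u hu => by simp [hu]) g
      have hs := c.simple_lt hi
      constructor <;> refine Subtype.ext (Units.ext ?_)
      · rw [(hφ ⟨c.xg (Do.simple i) t, c.xg_mem_group hs t⟩ ⟨i, hi⟩ t).1 (c.xg_val _ _), hexp, pow_one, hπ,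
          (Φ.G.auto_symm_simple ⟨c.xg (Do.simple i) t, c.xg_mem_group hs t⟩ hi t).1 (c.xg_val _ _)]
      · rw [(hφ ⟨c.xg (Do.neg (Do.simple i)) t, c.xg_mem_group (c.neg_lt hs) t⟩ ⟨i, hi⟩ t).2 (c.xg_val _ _), hexp,
          pow_one, hπ, (Φ.G.auto_symm_simple ⟨c.xg (Do.neg (Do.simple i)) t, c.xg_mem_group (c.neg_lt hs) t⟩ hi t).2
            (c.xg_val _ _)]
  have hiff : ∀ g : ↥(Do.group F), φ g = g ↔ (g : GL Do.Idx F) ∈ (Φ.tw F).fix := by
    intro g
    have h1 : ((g : GL Do.Idx F) ∈ (Φ.tw F).fix) ↔ Φ.G.auto g = g := by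
      rw [(Φ.tw F).mem_fix, Φ.act_eq_conj g.2, Subtype.ext_iff]
      exact and_iff_right g.2
    rw [h1]
    rcases hagree with h | h <;> rw [h]
    rw [MulEquiv.symm_apply_eq, eq_comm]
  obtain ⟨e⟩ := Φ.equiv (F := F)
  refine ⟨MulEquiv.trans
    { toFun := fun g => ⟨(g : ↥(Do.group F)), (hiff _).1 ((hS _).1 g.2)⟩
      invFun := fun g => ⟨⟨g.1, (Φ.tw F).fix_le_group g.2⟩, (hS _).2 ((hiff _).2 g.2)⟩
      left_inv := fun g => rfl
      right_inv := fun g => rfl
      map_mul' := fun g g' => rfl } e⟩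

end Folding

end Cfsg.Agent.Lie.Chev
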