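import Cfsg.Agent.Lib.Lie.Chev.TwistE6
import Cfsg.Agent.Lib.Lie.Chev.Fold

/-! The subfield points of ²E₆(q): an intermediate group contains no further unipotent element
unless it contains a further element of the highest short root group. -/

set_option autoImplicit false
set_option maxRecDepth 20000

namespace Cfsg.Agent.Lie.Chev

open Cfsg.Lie Matrix

namespace CertFull

variable {D : ChevalleyDatum} (c : CertFull D) {F : Type*} [Field F]

/-- A set of positive roots absorbing the commutator terms with all positive roots. -/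
def Absorbs (A : Set ℕ) : Prop :=
  (∀ r ∈ A, c.Pos r) ∧ ∀ a, c.Pos a → ∀ r ∈ A, ∀ x ∈ c.T.commTerms a r, x.1 ∈ A

include c

theorem absorbs_conj {A : Set ℕ} (hA : c.Absorbs A) {u : GL D.Idx F} (hu : u ∈ D.posUnipotent F)
    {g : GL D.Idx F} (hg : g ∈ c.KS F A c.T.h) : u * g * u⁻¹ ∈ c.KS F A c.T.h := by
  have key : ∀ a, c.Pos a → ∀ t : F, ∀ g ∈ c.KS F A c.T.h,
      c.xg a t * g * (c.xg a t)⁻¹ ∈ c.KS F A c.T.h := by
    intro a ha t g hg
    refine conj_closure_mem ?_ hg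
    rintro g ⟨s, v, hs, hle, rfl⟩
    by_cases hne : s = a
    · subst hne
      rw [← c.xg_add, c.xg_inv, ← c.xg_add]
      exact c.xg_mem_KS hs hle _
    have hs' := hA.1 s hs
    have hneg : s ≠ D.neg a := fun e => ((c.not_pos_iff ha.2).2 (e ▸ hs')) ha
    rw [c.xg_inv, mul_assoc, c.xg_comm ha.2 hs'.2 hne hneg, ← mul_assoc, ← mul_assoc, ← c.xg_add,
      add_neg_cancel, c.xg_zero, one_mul]
    refine mul_mem (c.xg_mem_KS hs hle v) (Subgroup.list_prod_mem _ fun k hk => ?_)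
    obtain ⟨x, hx, rfl⟩ := List.mem_map.1 hk
    have hxA := hA.2 a ha s hs x hx
    exact c.xg_mem_KS hxA (hA.1 _ hxA).1 _
  have hnorm : u ∈ Subgroup.normalizer (c.KS F A c.T.h : Set (GL D.Idx F)) := by
    refine (Subgroup.closure_le _).2 ?_ hu
    rintro x ⟨r, t, hr, hx⟩
    obtain rfl := c.eq_xg_iff.1 hx
    rw [SetLike.mem_coe, Subgroup.mem_normalizer_iff]
    refine fun k => ⟨key r (c.posRoot_iff.1 hr) t k, fun hk => ?_⟩
    have := key r (c.posRoot_iff.1 hr) (-t) _ hk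
    rw [← c.xg_inv, inv_inv] at this
    simpa [mul_assoc] using this
  exact (Subgroup.mem_normalizer_iff.1 hnorm g).1 hg

theorem KS_le_U' {S : Set ℕ} (hS : ∀ r ∈ S, c.Pos r) :
    c.KS F S c.T.h ≤ D.posUnipotent F := by
  refine (Subgroup.closure_le _).2 ?_
  rintro g ⟨r, t, hr, -, rfl⟩
  exact c.xg_mem_U (hS r hr) t

/-- Commutators with a root element, modulo an absorbing set. -/
theorem comm_mod {A S : Set ℕ} (hA : c.Absorbs A) {p : ℕ} (hp : c.Pos p)
    (hS : ∀ r ∈ S, c.Pos r)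
    (h : ∀ r ∈ S, r ≠ p → ∀ x ∈ c.T.commTerms p r, x.1 ∈ A) (t : F) {g : GL D.Idx F}
    (hg : g ∈ c.KS F S c.T.h) : c.xg p t * g * (c.xg p t)⁻¹ * g⁻¹ ∈ c.KS F A c.T.h := by
  have hU : c.KS F S c.T.h ≤ D.posUnipotent F := c.KS_le_U' hS
  induction hg using Subgroup.closure_induction with
  | mem g hg =>
    obtain ⟨s, v, hs, -, rfl⟩ := hg
    by_cases hne : s = p
    · subst hne
      simp only [c.xg_inv, ← c.xg_add]
      rw [show t + v + -t + -v = 0 by ring, c.xg_zero]
      exact one_mem _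
    have hneg : s ≠ D.neg p := fun e => ((c.not_pos_iff hp.2).2 (e ▸ hS s hs)) hp
    rw [c.xg_inv p, mul_assoc (c.xg p t), c.xg_comm hp.2 (hS s hs).2 hne hneg, ← mul_assoc,
      ← mul_assoc, ← c.xg_add, add_neg_cancel, c.xg_zero, one_mul]
    refine c.absorbs_conj hA (c.xg_mem_U (hS s hs) v) (Subgroup.list_prod_mem _ fun k hk => ?_)
    obtain ⟨x, hx, rfl⟩ := List.mem_map.1 hk
    have hxA := h s hs hne x hx
    exact c.xg_mem_KS hxA (hA.1 _ hxA).1 _
  | one => simp [one_mem]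
  | mul a b ha _ iha ihb =>
    rw [show c.xg p t * (a * b) * (c.xg p t)⁻¹ * (a * b)⁻¹ =
      (c.xg p t * a * (c.xg p t)⁻¹ * a⁻¹) *
        (a * (c.xg p t * b * (c.xg p t)⁻¹ * b⁻¹) * a⁻¹) by group]
    exact mul_mem iha (c.absorbs_conj hA (hU ha) ihb)
  | inv a ha iha =>
    rw [show c.xg p t * a⁻¹ * (c.xg p t)⁻¹ * a⁻¹⁻¹ =
      a⁻¹ * (c.xg p t * a * (c.xg p t)⁻¹ * a⁻¹)⁻¹ * a⁻¹⁻¹ by group]
    exact c.absorbs_conj hA (inv_mem (hU ha)) (inv_mem iha)

/-- A root element outside an absorbing set. -/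
theorem eq_zero_of_mem_absorbs {A : Set ℕ} (hA : c.IsClosed A) {u : ℕ} (hu : c.Pos u)
    (huu : c.T.commTerms u u = []) (huA : u ∉ A) {e : F} (h : c.xg u e ∈ c.KS F A c.T.h) :
    e = 0 := by
  have hcl : c.IsClosed {u} := ⟨fun r hr => by rw [Set.mem_singleton_iff.1 hr]; exact hu,
    fun r hr s hs x hx => by
      rw [Set.mem_singleton_iff.1 hr, Set.mem_singleton_iff.1 hs, huu] at hx; simp at hx⟩
  have := (c.KS_inf_eq_bot hcl hA (fun r hr => by rwa [Set.mem_singleton_iff.1 hr])).le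
    (Subgroup.mem_inf.2 ⟨c.xg_mem_KS (Set.mem_singleton u) hu.1 e, h⟩)
  rwa [Subgroup.mem_bot, c.xg_eq_one_iff hu.2] at this

end CertFull

namespace E6Sub

variable {K : Type*} [Field K] (f : K →+* K)

local notation "XR" => Cert.xg certFullE6.toCert

/-- The orbits of positive roots by height, short before long; with a pair and a root for pushing. -/
def peel : List (ℕ × ℕ × ℕ) :=
  [(36, 37, 38), (37, 36, 38), (39, 39, 39), (46, 46, 46), (38, 43, 45), (40, 36, 41), (47, 47, 47),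
    (41, 42, 45), (48, 36, 49), (44, 44, 44), (45, 48, 55), (49, 42, 52), (51, 51, 51),
    (52, 40, 55), (53, 53, 53), (60, 60, 60), (54, 37, 55), (63, 63, 63), (55, 56, 66),
    (65, 65, 65), (66, 66, 66), (69, 69, 69), (70, 70, 70), (71, 71, 71)]

/-- An entry of the list. -/
def entryAt (i : ℕ) : ℕ × ℕ × ℕ := peel.getD i (0, 0, 0)

/-- The roots of the orbit at an index. -/
def orbitAt (i : ℕ) : List ℕ := [(entryAt i).1, graphE6.ρ (entryAt i).1]

/-- The roots from an index on. -/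
def rootsFrom (i : ℕ) : List ℕ := (List.range' i (24 - i)).flatMap orbitAt

/-- Not below `u`. -/
def notBelow (u w : ℕ) : Bool :=
  (List.range 6).any fun j => decide (certFullE6.T.vec u j < certFullE6.T.vec w j)

/-- The commutator terms are not below `u`. -/
def termsNB (u a b : ℕ) : Bool := (certFullE6.T.commTerms a b).all fun x => notBelow u x.1

theorem roots_ok : ((List.range' 36 36).all fun r =>
      Nat.beq (graphE6.ρ (graphE6.ρ r)) r && Nat.ble 36 (graphE6.ρ r) &&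
      Nat.blt (graphE6.ρ r) 72 && intBeq (graphE6.ε r * graphE6.ε (graphE6.ρ r)) 1 &&
      (certFullE6.T.commTerms r r).isEmpty && (certFullE6.T.commTerms r (graphE6.ρ r)).isEmpty &&
      (rootsFrom 0).contains r) = true ∧
    ((List.range 72).all fun r =>
      !(Nat.beq (graphE6.ρ r) r) || intBeq (graphE6.ε r) 1) = true := by
  decide +kernel

theorem peel_ok : ((List.range 24).all fun i => (orbitAt i).all fun r =>
    Nat.ble 36 r && Nat.blt r 72 && !((rootsFrom (i + 1)).contains r) &&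
      (List.range' 36 36).all fun a =>
        (certFullE6.T.commTerms a r).all fun x => (rootsFrom (i + 1)).contains x.1) = true ∧
    ([21, 22, 23].all fun i => Nat.beq (graphE6.ρ (entryAt i).1) (entryAt i).1) = true ∧
    entryAt 20 = (66, 66, 66) := by
  decide +kernel

theorem push_ok : ((List.range 24).all fun i =>
    Nat.beq (graphE6.ρ (entryAt i).1) (entryAt i).1 || Nat.beq i 20 ||
      (Nat.ble 36 (entryAt i).2.1 && Nat.blt (entryAt i).2.1 72 &&
        Nat.ble 36 (entryAt i).2.2 && Nat.blt (entryAt i).2.2 72 &&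
        !(Nat.beq (graphE6.ρ (entryAt i).2.1) (entryAt i).2.1) &&
        (match certFullE6.T.commTerms (entryAt i).2.1 (entryAt i).1 with
          | [(v, C, a, b)] => Nat.beq v (entryAt i).2.2 && (intBeq C 1 || intBeq C (-1)) &&
              Nat.beq a 1 && Nat.beq b 1
          | _ => false) &&
        termsNB (entryAt i).2.2 (entryAt i).2.1 (graphE6.ρ (entryAt i).1) &&
        termsNB (entryAt i).2.2 (graphE6.ρ (entryAt i).2.1) (entryAt i).1 &&
        termsNB (entryAt i).2.2 (graphE6.ρ (entryAt i).2.1) (graphE6.ρ (entryAt i).1) &&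
        (rootsFrom (i + 1)).all fun r => termsNB (entryAt i).2.2 (entryAt i).2.1 r &&
          termsNB (entryAt i).2.2 (graphE6.ρ (entryAt i).2.1) r)) = true := by
  decide +kernel

theorem root_spec {r : ℕ} (hr : certFullE6.Pos r) :
    graphE6.ρ (graphE6.ρ r) = r ∧ certFullE6.Pos (graphE6.ρ r) ∧
      ((graphE6.ε r : K) * (graphE6.ε (graphE6.ρ r) : K) = 1) ∧
      certFullE6.T.commTerms r r = [] ∧ certFullE6.T.commTerms r (graphE6.ρ r) = [] ∧
      r ∈ rootsFrom 0 := by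
  have h := roots_ok.1
  simp only [List.all_eq_true, List.mem_range'_1, Bool.and_eq_true, Nat.beq_eq, Nat.ble_eq,
    Nat.blt_eq, List.isEmpty_iff, List.contains_iff_mem] at h
  obtain ⟨⟨⟨⟨⟨⟨h1, h2⟩, h3⟩, h4⟩, h5⟩, h6⟩, h7⟩ := h r ⟨hr.1, hr.2⟩
  exact ⟨h1, ⟨h2, h3⟩, by rw [← Int.cast_mul, intBeq_eq h4, Int.cast_one], h5, h6, h7⟩

theorem eps_fixed {r : ℕ} (hr : r < 72) (h : graphE6.ρ r = r) : graphE6.ε r = 1 := by
  have h' := roots_ok.2
  simp only [List.all_eq_true, List.mem_range, Bool.or_eq_true, Bool.not_eq_true'] at h'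
  rcases h' r hr with h1 | h1
  · rw [beq_of_eq h] at h1; exact Bool.noConfusion h1
  · exact intBeq_eq h1

/-! ### The subgroup and its root elements -/

/-- The subfield points. -/
noncomputable def sub : Subgroup (GL chevE6.Idx K) :=
  (E6.tw f).fix ⊓ (Matrix.GeneralLinearGroup.map f).eqLocus (MonoidHom.id _)

theorem mem_sub {g : GL chevE6.Idx K} :
    g ∈ sub f ↔ g ∈ (E6.tw f).fix ∧ Matrix.GeneralLinearGroup.map f g = g :=
  Subgroup.mem_inf

theorem act_xg {r : ℕ} (hr : r < 72) (t : K) :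
    (E6.tw f).act (XR r t) = XR (graphE6.ρ r) ((graphE6.ε r : K) * f t) :=
  (E6.tw f).act_xg (show r < chevE6.nroots from hr) t

theorem long_fix {r : ℕ} (hr : r < 72) (h : graphE6.ρ r = r) {t : K}
    (hx : XR r t ∈ (E6.tw f).fix) : f t = t := by
  have e := ((E6.tw f).mem_fix.1 hx).2
  rw [act_xg f hr, h, eps_fixed hr h, Int.cast_one, one_mul] at e
  exact certFullE6.xg_inj (show r < chevE6.nroots from hr) e

theorem long_mem {r : ℕ} (hr : r < 72) (h : graphE6.ρ r = r) {t : K} (ht : f t = t) :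
    XR r t ∈ sub f := by
  refine (mem_sub f).2 ⟨(E6.tw f).mem_fix.2 ⟨certFullE6.xg_mem_group hr t, ?_⟩, by rw [certFullE6.xg_map, ht]⟩
  rw [act_xg f hr, h, eps_fixed hr h, Int.cast_one, one_mul, ht]

/-- The fixed element on a pair of roots. -/
noncomputable def pair (p : ℕ) (a : K) : GL chevE6.Idx K :=
  XR p a * XR (graphE6.ρ p) ((graphE6.ε p : K) * f a)

theorem pair_comm {p : ℕ} (hp : certFullE6.Pos p) (h : graphE6.ρ p ≠ p) (a b : K) :
    Commute (XR p a) (XR (graphE6.ρ p) b) := by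
  obtain ⟨-, h2, -, -, h6, -⟩ := root_spec (K := K) hp
  exact certFullE6.xg_commute hp.2 h2.2 h (fun e => ((certFullE6.not_pos_iff hp.2).2 (e ▸ h2)) hp) h6 a b

theorem pair_mem_U {p : ℕ} (hp : certFullE6.Pos p) (a : K) : pair f p a ∈ chevE6.posUnipotent K :=
  mul_mem (certFullE6.xg_mem_U hp a) (certFullE6.xg_mem_U (root_spec (K := K) hp).2.1 _)

variable (hff : ∀ t, f (f t) = t)

include hff

theorem pair_mem {p : ℕ} (hp : certFullE6.Pos p) (h : graphE6.ρ p ≠ p) (a : K) :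
    pair f p a ∈ (E6.tw f).fix := by
  obtain ⟨h1, h2, h4, -⟩ := root_spec (K := K) hp
  refine (E6.tw f).mem_fix.2
    ⟨mul_mem (certFullE6.xg_mem_group hp.2 _) (certFullE6.xg_mem_group h2.2 _), ?_⟩
  rw [pair, (E6.tw f).act_mul (certFullE6.xg_mem_group hp.2 _) (certFullE6.xg_mem_group h2.2 _),
    act_xg f hp.2, act_xg f h2.2, h1, map_mul, map_intCast, hff, ← mul_assoc,
    mul_comm (graphE6.ε (graphE6.ρ p) : K), h4, one_mul]
  exact (pair_comm hp h _ _).eq.symm

theorem pair_mem_sub {p : ℕ} (hp : certFullE6.Pos p) (h : graphE6.ρ p ≠ p) {a : K} (ha : f a = a) :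
    pair f p a ∈ sub f := by
  refine (mem_sub f).2 ⟨pair_mem f hff hp h a, ?_⟩
  rw [pair, map_mul, certFullE6.xg_map, certFullE6.xg_map, map_mul, map_intCast, ha, ha]

theorem pair_fix {p : ℕ} (hp : certFullE6.Pos p) (h : graphE6.ρ p ≠ p) {a b : K}
    (hx : XR p a * XR (graphE6.ρ p) b ∈ (E6.tw f).fix) : b = (graphE6.ε p : K) * f a := by
  obtain ⟨h1, h2, h4, -⟩ := root_spec (K := K) hp
  have hy := mul_mem (inv_mem (pair_mem f hff hp h a)) hx
  rw [pair, show (XR p a * XR (graphE6.ρ p) ((graphE6.ε p : K) * f a))⁻¹ *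
    (XR p a * XR (graphE6.ρ p) b) = (XR (graphE6.ρ p) ((graphE6.ε p : K) * f a))⁻¹ *
      XR (graphE6.ρ p) b by group, certFullE6.xg_inv, ← certFullE6.xg_add] at hy
  have e := ((E6.tw f).mem_fix.1 hy).2
  rw [act_xg f h2.2, h1] at e
  generalize hd : -((graphE6.ε p : K) * f a) + b = d at e
  suffices d = 0 by linear_combination hd + this
  have hcl : certFullE6.IsClosed {p} := ⟨fun r hr => by rw [Set.mem_singleton_iff.1 hr]; exact hp,
    fun r hr s hs x hx => by
      rw [Set.mem_singleton_iff.1 hr, Set.mem_singleton_iff.1 hs,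
        (root_spec (K := K) hp).2.2.2.1] at hx
      simp at hx⟩
  exact certFullE6.eq_zero_of_mem_absorbs hcl h2 (root_spec (K := K) h2).2.2.2.1
    (fun hm => h (Set.mem_singleton_iff.1 hm))
    (e ▸ certFullE6.xg_mem_KS (Set.mem_singleton p) hp.1 _)

omit hff

/-! ### The filtration -/

/-- The roots from an index on, as a set. -/
def from_ (i : ℕ) : Set ℕ := {r | r ∈ rootsFrom i}

/-- The orbit at an index, as a set. -/
def orbS (i : ℕ) : Set ℕ := {r | r ∈ orbitAt i}

theorem mem_from {i r : ℕ} : r ∈ from_ i ↔ ∃ j, i ≤ j ∧ j < 24 ∧ r ∈ orbS j := by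
  simp only [from_, orbS, rootsFrom, Set.mem_ofPred_eq, List.mem_flatMap, List.mem_range'_1]
  constructor
  · rintro ⟨j, hj, hr⟩; exact ⟨j, hj.1, by omega, hr⟩
  · rintro ⟨j, h1, h2, hr⟩; exact ⟨j, ⟨h1, by omega⟩, hr⟩

theorem orbS_spec {i r : ℕ} (hi : i < 24) (hr : r ∈ orbS i) :
    certFullE6.Pos r ∧ r ∉ from_ (i + 1) ∧
      ∀ a, certFullE6.Pos a → ∀ x ∈ certFullE6.T.commTerms a r, x.1 ∈ from_ (i + 1) := by
  have h := peel_ok.1
  simp only [List.all_eq_true, List.mem_range, Bool.and_eq_true, Nat.ble_eq, Nat.blt_eq,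
    Bool.not_eq_true', List.mem_range'_1, List.contains_iff_mem] at h
  obtain ⟨⟨⟨h1, h2⟩, h3⟩, h4⟩ := h i hi r hr
  refine ⟨⟨h1, h2⟩, fun hm => ?_, fun a ha x hx => h4 a ⟨ha.1, ha.2⟩ x hx⟩
  rw [List.contains_iff_mem.2 (show r ∈ rootsFrom (i + 1) from hm)] at h3
  exact Bool.noConfusion h3

theorem from_pos {i r : ℕ} (hr : r ∈ from_ i) : certFullE6.Pos r := by
  obtain ⟨j, -, hj, h⟩ := mem_from.1 hr
  exact (orbS_spec hj h).1

theorem from_terms {i a r : ℕ} (ha : certFullE6.Pos a) (hr : r ∈ from_ i) :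
    ∀ x ∈ certFullE6.T.commTerms a r, x.1 ∈ from_ (i + 1) := by
  obtain ⟨j, hij, hj, h⟩ := mem_from.1 hr
  intro x hx
  obtain ⟨k, hk, hk', hk''⟩ := mem_from.1 ((orbS_spec hj h).2.2 a ha x hx)
  exact mem_from.2 ⟨k, by omega, hk', hk''⟩

theorem from_absorbs (i : ℕ) : certFullE6.Absorbs (from_ i) := by
  refine ⟨fun r hr => from_pos hr, fun a ha r hr x hx => ?_⟩
  obtain ⟨k, hk, hk', hk''⟩ := mem_from.1 (from_terms ha hr x hx)
  exact mem_from.2 ⟨k, by omega, hk', hk''⟩

theorem from_closed (i : ℕ) : certFullE6.IsClosed (from_ i) :=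
  ⟨fun r hr => from_pos hr, fun r hr s hs x hx => (from_absorbs i).2 r (from_pos hr) s hs x hx⟩

theorem orbS_ρ {i r : ℕ} (hi : i < 24) (hr : r ∈ orbS i) : graphE6.ρ r ∈ orbS i := by
  have h1 : (entryAt i).1 ∈ orbS i := by simp [orbS, orbitAt]
  obtain ⟨e, -⟩ := root_spec (K := ZMod 2) (orbS_spec hi h1).1
  simp only [orbS, orbitAt, Set.mem_ofPred_eq, List.mem_cons, List.not_mem_nil, or_false] at hr ⊢
  rcases hr with rfl | rfl
  · exact Or.inr rfl
  · exact Or.inl e

theorem from_ρ {i r : ℕ} (hr : r ∈ from_ i) : graphE6.ρ r ∈ from_ i := by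
  obtain ⟨j, hij, hj, h⟩ := mem_from.1 hr
  exact mem_from.2 ⟨j, hij, hj, orbS_ρ hj h⟩

theorem orbS_nil {i r s : ℕ} (hi : i < 24) (hr : r ∈ orbS i) (hs : s ∈ orbS i) :
    certFullE6.T.commTerms r s = [] := by
  have h1 : (entryAt i).1 ∈ orbS i := by simp [orbS, orbitAt]
  have hp := (orbS_spec hi h1).1
  obtain ⟨e, hp', -, n1, n2, -⟩ := root_spec (K := ZMod 2) hp
  obtain ⟨-, -, -, n1', n2', -⟩ := root_spec (K := ZMod 2) hp'
  rw [e] at n2'
  simp only [orbS, orbitAt, Set.mem_ofPred_eq, List.mem_cons, List.not_mem_nil, or_false] at hr hs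
  rcases hr with rfl | rfl <;> rcases hs with rfl | rfl <;> assumption

theorem orbS_closed {i : ℕ} (hi : i < 24) : certFullE6.IsClosed (orbS i) :=
  ⟨fun r hr => (orbS_spec hi hr).1, fun r hr s hs x hx => by
    rw [orbS_nil hi hr hs] at hx; simp at hx⟩

theorem U_eq_from : chevE6.posUnipotent K ≤ certFullE6.KS K (from_ 0) certFullE6.T.h := by
  refine (Subgroup.closure_le _).2 ?_
  rintro g ⟨r, t, hr, hx⟩
  obtain rfl := certFullE6.eq_xg_iff.1 hx
  have hr' := certFullE6.posRoot_iff.1 hr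
  exact certFullE6.xg_mem_KS (show r ∈ from_ 0 from (root_spec (K := K) hr').2.2.2.2.2) hr'.1 t

/-- Splitting off one orbit from a fixed element. -/
theorem peel_split {i : ℕ} (hi : i < 24) {y : GL chevE6.Idx K}
    (hy : y ∈ certFullE6.KS K (from_ i) certFullE6.T.h) (hyf : y ∈ (E6.tw f).fix) :
    ∃ v ∈ certFullE6.KS K (from_ (i + 1)) certFullE6.T.h, v ∈ (E6.tw f).fix ∧
      ∃ w ∈ certFullE6.KS K (orbS i) certFullE6.T.h, w ∈ (E6.tw f).fix ∧ y = v * w := by
  obtain ⟨v, hv, w, hw, rfl⟩ := certFullE6.KS_split (A := orbS i) (B := from_ (i + 1)) (C := from_ i)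
    (fun r hr => (orbS_spec hi hr).1) (fun r hr => from_pos hr)
    (fun r hr => (orbS_spec hi hr).2.1)
    (fun r hr s hs x hx => (from_absorbs (i + 1)).2 r (orbS_spec hi hr).1 s hs x hx)
    (from_closed (i + 1)).2
    (fun r hr => by
      obtain ⟨j, h1, h2, h3⟩ := mem_from.1 hr
      rcases h1.lt_or_eq with h | rfl
      · exact Or.inr (mem_from.2 ⟨j, h, h2, h3⟩)
      · exact Or.inl h3) hy
  have hle : ∀ {S : Set ℕ}, (∀ r ∈ S, certFullE6.Pos r) → ∀ {x : GL chevE6.Idx K},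
      x ∈ certFullE6.KS K S certFullE6.T.h → x ∈ chevE6.group K := fun hS _ hx =>
    certFullE6.B_le_group (Subgroup.mem_sup_left (certFullE6.KS_le_U' hS hx))
  have hvG := hle (fun r hr => from_pos hr) hv
  have hwG := hle (fun r hr => (orbS_spec hi hr).1) hw
  have hact := ((E6.tw f).mem_fix.1 hyf).2
  rw [(E6.tw f).act_mul hvG hwG] at hact
  have hav := (E6.tw f).act_mem_KS (fun r hr => from_pos hr) (fun r hr => from_ρ hr) hv
  have haw := (E6.tw f).act_mem_KS (fun r hr => (orbS_spec hi hr).1)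
    (fun r hr => orbS_ρ hi hr) hw
  have h1 : ((E6.tw f).act v)⁻¹ * v = (E6.tw f).act w * w⁻¹ := by
    rw [eq_mul_inv_iff_mul_eq, mul_assoc, ← hact, inv_mul_cancel_left]
  have h2 := (certFullE6.KS_inf_eq_bot (from_closed (i + 1)) (orbS_closed hi)
    fun r hr hr' => (orbS_spec hi hr').2.1 hr).le (Subgroup.mem_inf.2
      ⟨mul_mem (inv_mem hav) hv, h1 ▸ mul_mem haw (inv_mem hw)⟩)
  rw [Subgroup.mem_bot] at h2
  have hvf : v ∈ (E6.tw f).fix := (E6.tw f).mem_fix.2 ⟨hvG, inv_mul_eq_one.1 h2⟩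
  refine ⟨v, hv, hvf, w, hw, ?_, rfl⟩
  have := mul_mem (inv_mem hvf) hyf
  rwa [inv_mul_cancel_left] at this

theorem KS_two {p p' : ℕ} {S : Set ℕ} (hS : ∀ r ∈ S, r = p ∨ r = p')
    (hc : ∀ a b : K, Commute (XR p a) (XR p' b))
    {w : GL chevE6.Idx K} (hw : w ∈ certFullE6.KS K S certFullE6.T.h) :
    ∃ a b : K, w = XR p a * XR p' b := by
  induction hw using Subgroup.closure_induction with
  | mem w hw =>
    obtain ⟨r, t, hr, -, rfl⟩ := hw
    rcases hS r hr with rfl | rfl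
    · exact ⟨t, 0, by rw [certFullE6.xg_zero, mul_one]⟩
    · exact ⟨0, t, by rw [certFullE6.xg_zero, one_mul]⟩
  | one => exact ⟨0, 0, by rw [certFullE6.xg_zero, certFullE6.xg_zero, mul_one]⟩
  | mul x y _ _ hx hy =>
    obtain ⟨a, b, rfl⟩ := hx
    obtain ⟨a', b', rfl⟩ := hy
    exact ⟨a + a', b + b', by rw [certFullE6.xg_add, certFullE6.xg_add, mul2_comm (hc a' b).symm]⟩
  | inv x _ hx =>
    obtain ⟨a, b, rfl⟩ := hx
    exact ⟨-a, -b, by rw [_root_.mul_inv_rev, certFullE6.xg_inv, certFullE6.xg_inv, (hc (-a) (-b)).eq]⟩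

include hff in
/-- A fixed element of an orbit. -/
theorem orbit_form {i : ℕ} (hi : i < 24) {w : GL chevE6.Idx K}
    (hw : w ∈ certFullE6.KS K (orbS i) certFullE6.T.h) (hwf : w ∈ (E6.tw f).fix) :
    (graphE6.ρ (entryAt i).1 = (entryAt i).1 ∧ w ∈ sub f) ∨
      (graphE6.ρ (entryAt i).1 ≠ (entryAt i).1 ∧ ∃ a, w = pair f (entryAt i).1 a) := by
  set m := (entryAt i).1 with hm
  have hm' : m ∈ orbS i := by simp [orbS, orbitAt, m]
  have hp := (orbS_spec hi hm').1
  have hS : ∀ r ∈ orbS i, r = m ∨ r = graphE6.ρ m := fun r hr => by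
    simpa [orbS, orbitAt] using hr
  by_cases hfx : graphE6.ρ m = m
  · refine Or.inl ⟨hfx, ?_⟩
    obtain ⟨a, b, rfl⟩ := KS_two (p := m) (p' := m) (fun r hr => by
      rcases hS r hr with h | h
      · exact Or.inl h
      · exact Or.inl (h.trans hfx))
      (fun a b => by show _ = _; rw [← certFullE6.xg_add, ← certFullE6.xg_add, add_comm]) hw
    rw [← certFullE6.xg_add] at hwf ⊢
    exact long_mem f hp.2 hfx (long_fix f hp.2 hfx hwf)
  · refine Or.inr ⟨hfx, ?_⟩
    obtain ⟨a, b, rfl⟩ := KS_two hS (fun a b => pair_comm hp hfx a b) hw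
    exact ⟨a, by rw [pair_fix f hff hp hfx hwf, pair]⟩

include hff in
/-- The part above the short roots is in the subgroup. -/
theorem long_tail : ∀ i, 21 ≤ i → ∀ y ∈ certFullE6.KS K (from_ i) certFullE6.T.h, y ∈ (E6.tw f).fix →
    y ∈ sub f := by
  intro i hi
  induction hd : 24 - i generalizing i with
  | zero =>
    intro y hy _
    have : certFullE6.KS K (from_ i) certFullE6.T.h ≤ ⊥ := by
      refine (Subgroup.closure_le _).2 ?_
      rintro g ⟨r, t, hr, -, rfl⟩
      obtain ⟨j, h1, h2, -⟩ := mem_from.1 hr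
      omega
    rw [Subgroup.mem_bot.1 (this hy)]
    exact one_mem _
  | succ d ih =>
    intro y hy hyf
    obtain ⟨v, hv, hvf, w, hw, hwf, rfl⟩ := peel_split f (by omega) hy hyf
    refine mul_mem (ih (i + 1) (by omega) (by omega) v hv hvf) ?_
    rcases orbit_form f hff (by omega) hw hwf with ⟨-, h⟩ | ⟨h, -⟩
    · exact h
    · refine absurd ?_ h
      have h' := peel_ok.2.1
      simp only [List.all_eq_true, Nat.beq_eq] at h'
      exact h' i (by simp only [List.mem_cons, List.not_mem_nil, or_false]; omega)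

/-- The roots not below `u`. -/
def nb (u : ℕ) : Set ℕ := {w | certFullE6.Pos w ∧ notBelow u w = true}

theorem nb_absorbs (u : ℕ) : certFullE6.Absorbs (nb u) := by
  refine ⟨fun r hr => hr.1, fun a ha r hr x hx => ?_⟩
  obtain ⟨h1, -, -⟩ := certFullE6.commTerms_gt ha hr.1 hx
  refine ⟨h1, ?_⟩
  have h2 := hr.2
  simp only [notBelow, List.any_eq_true, List.mem_range, decide_eq_true_eq] at h2 ⊢
  obtain ⟨j, hj, hlt⟩ := h2
  refine ⟨j, hj, ?_⟩
  have hj' : j < chevE6.rank := hj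
  rw [certFullE6.commTerms_vec ha.2 hr.1.2 hj' hx]
  have h0 := (certFullE6.vec_nonneg ha.2 ha.1).1 j hj'
  have h0' := (certFullE6.vec_nonneg hr.1.2 hr.1.1).1 j hj'
  obtain ⟨-, -, hb, -⟩ := certFullE6.mem_commTerms ha.2 hr.1.2 hx
  have hb' : (1 : ℤ) ≤ (x.2.2.2 : ℕ) := by exact_mod_cast hb
  nlinarith [Int.natCast_nonneg x.2.2.1]

theorem not_mem_nb (u : ℕ) : u ∉ nb u := fun h => by
  simp [nb, notBelow] at h

theorem terms_nb {u a b : ℕ} (ha : certFullE6.Pos a) (hb : certFullE6.Pos b) (h : termsNB u a b = true) :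
    ∀ x ∈ certFullE6.T.commTerms a b, x.1 ∈ nb u := fun x hx => by
  simp only [termsNB, List.all_eq_true] at h
  exact ⟨(certFullE6.commTerms_gt ha hb hx).1, h x hx⟩

include hff in
/-- The pushing step. -/
theorem push {i : ℕ} (hi : i < 24) (hi' : i ≠ 20)
    (hfx : graphE6.ρ (entryAt i).1 ≠ (entryAt i).1) {b : K} {g : GL chevE6.Idx K}
    (hg : g ∈ certFullE6.KS K (insert (graphE6.ρ (entryAt i).1) (from_ (i + 1))) certFullE6.T.h)
    (hcomm : Commute (pair f (entryAt i).2.1 1) (XR (entryAt i).1 b * g)) : b = 0 := by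
  have h := push_ok
  simp only [List.all_eq_true, List.mem_range, Bool.or_eq_true, Bool.and_eq_true, Nat.beq_eq,
    Nat.ble_eq, Nat.blt_eq, Bool.not_eq_true'] at h
  obtain ⟨⟨⟨⟨⟨⟨⟨⟨⟨hp1, hp2⟩, hu1⟩, hu2⟩, hpne⟩, hmatch⟩, hA⟩, hB⟩, hC⟩, hR⟩ :=
    ((h i hi).resolve_left fun h => h.elim hfx hi')
  set m := (entryAt i).1
  set p := (entryAt i).2.1
  set u := (entryAt i).2.2
  have hp : certFullE6.Pos p := ⟨hp1, hp2⟩
  have hu : certFullE6.Pos u := ⟨hu1, hu2⟩
  have hpp : graphE6.ρ p ≠ p := fun e => by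
    rw [beq_of_eq e] at hpne; exact Bool.noConfusion hpne
  obtain ⟨-, hp', -⟩ := root_spec (K := K) hp
  have hm : certFullE6.Pos m := (orbS_spec hi (show m ∈ orbS i by simp [orbS, orbitAt, m])).1
  obtain ⟨-, hm', -⟩ := root_spec (K := K) hm
  have hSpos : ∀ r ∈ insert (graphE6.ρ m) (from_ (i + 1)), certFullE6.Pos r := fun r hr => by
    rcases Set.mem_insert_iff.1 hr with rfl | hr
    · exact hm'
    · exact from_pos hr
  have hN := nb_absorbs u
  have hc1 : ∀ r ∈ insert (graphE6.ρ m) (from_ (i + 1)), r ≠ p →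
      ∀ x ∈ certFullE6.T.commTerms p r, x.1 ∈ nb u := fun r hr _ => by
    rcases Set.mem_insert_iff.1 hr with rfl | hr
    · exact terms_nb hp hm' hA
    · exact terms_nb hp (from_pos hr) (hR r hr).1
  set z := XR m b * g with hz
  have hzS : z ∈ certFullE6.KS K (insert m (insert (graphE6.ρ m) (from_ (i + 1)))) certFullE6.T.h :=
    mul_mem (certFullE6.xg_mem_KS (Set.mem_insert _ _) hm.1 b)
      (certFullE6.KS_mono_fold (fun r hr => Set.mem_insert_of_mem _ hr) hg)
  have hc2 := certFullE6.comm_mod hN hp' (fun r hr => by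
      rcases Set.mem_insert_iff.1 hr with rfl | hr
      exacts [hm, hSpos r hr])
    (fun r hr _ => by
      rcases Set.mem_insert_iff.1 hr with rfl | hr
      · exact terms_nb hp' hm hB
      rcases Set.mem_insert_iff.1 hr with rfl | hr
      · exact terms_nb hp' hm' hC
      · exact terms_nb hp' (from_pos hr) (hR r hr).2)
    ((graphE6.ε p : K) * f 1) hzS
  set xp' := XR (graphE6.ρ p) ((graphE6.ε p : K) * f 1)
  have hpU := certFullE6.xg_mem_U (F := K) hp 1
  have e1 : XR p 1 * z * (XR p 1)⁻¹ * z⁻¹ ∈ certFullE6.KS K (nb u) certFullE6.T.h := by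
    have e : XR p 1 * (xp' * z * xp'⁻¹ * z⁻¹) * (XR p 1)⁻¹ *
        (XR p 1 * z * (XR p 1)⁻¹ * z⁻¹) = 1 := by
      have := hcomm.eq
      change XR p 1 * xp' * z = z * (XR p 1 * xp') at this
      calc _ = XR p 1 * xp' * z * (XR p 1 * xp')⁻¹ * z⁻¹ := by group
        _ = 1 := by rw [this]; group
    rw [eq_inv_of_mul_eq_one_right e]
    exact inv_mem (certFullE6.absorbs_conj hN hpU hc2)
  have e2 : XR p 1 * XR m b * (XR p 1)⁻¹ * (XR m b)⁻¹ ∈ certFullE6.KS K (nb u) certFullE6.T.h := by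
    have hg' := certFullE6.absorbs_conj hN (certFullE6.xg_mem_U (F := K) hm b)
      (certFullE6.comm_mod hN hp hSpos hc1 1 hg)
    have := mul_mem e1 (inv_mem hg')
    rw [hz] at this
    simpa [mul_assoc] using this
  have hne : m ≠ p := fun e => by
    rw [← e, (root_spec (K := K) hm).2.2.2.1] at hmatch; exact Bool.noConfusion hmatch
  revert hmatch
  match hct : certFullE6.T.commTerms p m with
  | [(v, C, i', j')] =>
    intro hmatch
    simp only [Bool.and_eq_true, Bool.or_eq_true, Nat.beq_eq] at hmatch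
    obtain ⟨⟨⟨rfl, hC1⟩, rfl⟩, rfl⟩ := hmatch
    have hneg : m ≠ chevE6.neg p := fun e => ((certFullE6.not_pos_iff hp.2).2 (e ▸ hm)) hp
    have e3 := certFullE6.xg_comm hp.2 hm.2 hne hneg (-1 : K) b
    rw [hct] at e3
    simp only [List.map_cons, List.map_nil, List.prod_cons, List.prod_nil, mul_one, neg_neg,
      pow_one] at e3
    rw [← certFullE6.xg_inv] at e3
    rw [mul_assoc (XR p 1), e3, ← mul_assoc, ← mul_assoc, mul_inv_cancel, one_mul] at e2
    have e4 := certFullE6.absorbs_conj hN (inv_mem (certFullE6.xg_mem_U (F := K) hm b)) e2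
    rw [inv_inv] at e4
    simp only [mul_assoc, inv_mul_cancel, mul_one, inv_mul_cancel_left] at e4
    have e5 := certFullE6.eq_zero_of_mem_absorbs ⟨hN.1, fun r hr s hs x hx => hN.2 r hr.1 s hs x hx⟩
      hu (root_spec (K := K) hu).2.2.2.1 (not_mem_nb u) e4
    rcases hC1 with h' | h' <;> rw [intBeq_eq h'] at e5 <;> simpa using e5
  | [] => intro h; exact Bool.noConfusion h
  | _ :: _ :: _ => intro h; exact Bool.noConfusion h

include hff in
/-- No unipotent element outside the subgroup. -/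
theorem U_sub {H : Subgroup (GL chevE6.Idx K)} (hM : sub f ≤ H) (hH : H ≤ (E6.tw f).fix)
    (htop : ∀ a : K, pair f 66 a ∈ H → f a = a) {y : GL chevE6.Idx K}
    (hyU : y ∈ chevE6.posUnipotent K) (hy : y ∈ H) : y ∈ sub f := by
  suffices ∀ i, ∀ y ∈ certFullE6.KS K (from_ i) certFullE6.T.h, y ∈ H → y ∈ sub f from
    this 0 y (U_eq_from hyU) hy
  intro i
  induction hd : 24 - i generalizing i with
  | zero => intro y hy hyH; exact long_tail f hff i (by omega) y hy (hH hyH)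
  | succ d ih =>
    intro y hy hyH
    obtain ⟨v, hv, hvf, w, hw, hwf, rfl⟩ := peel_split f (by omega) hy (hH hyH)
    have hmid : w ∈ sub f → v * w ∈ sub f := fun hwM =>
      mul_mem (ih (i + 1) (by omega) v hv
        ((H.mul_mem_cancel_right (hM hwM)).1 hyH)) hwM
    rcases orbit_form f hff (by omega) hw hwf with ⟨-, h⟩ | ⟨hfx, a, rfl⟩
    · exact hmid h
    set m := (entryAt i).1 with hmdef
    have hi : i < 24 := by omega
    have hmO : m ∈ orbS i := by simp [orbS, orbitAt, m]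
    have hmp := (orbS_spec hi hmO).1
    by_cases h20 : i = 20
    · refine hmid ?_
      have hvM := long_tail f hff (i + 1) (by omega) v hv hvf
      have h1 := (H.mul_mem_cancel_left (hM hvM)).1 hyH
      have e : m = 66 := by rw [hmdef, h20, peel_ok.2.2]
      exact pair_mem_sub f hff hmp hfx (htop a (e ▸ h1))
    refine hmid (pair_mem_sub f hff hmp hfx ?_)
    set φ := Matrix.GeneralLinearGroup.map (n := chevE6.Idx) f
    set Y := v * pair f m a with hY
    have hpush := push_ok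
    simp only [List.all_eq_true, List.mem_range, Bool.or_eq_true, Bool.and_eq_true, Nat.beq_eq,
      Nat.ble_eq, Nat.blt_eq, Bool.not_eq_true'] at hpush
    obtain ⟨⟨⟨⟨⟨⟨⟨⟨⟨hp1, hp2⟩, -⟩, -⟩, hpne⟩, -⟩, -⟩, -⟩, -⟩, -⟩ :=
      ((hpush i hi).resolve_left fun h => h.elim hfx h20)
    set p := (entryAt i).2.1
    have hp : certFullE6.Pos p := ⟨hp1, hp2⟩
    have hpp : graphE6.ρ p ≠ p := fun e => by
      rw [beq_of_eq e] at hpne; exact Bool.noConfusion hpne
    set X := pair f p (1 : K)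
    have hXM : X ∈ sub f := pair_mem_sub f hff hp hpp (map_one f)
    obtain ⟨-, hp', -⟩ := root_spec (K := K) hp
    have hcm : X * Y * X⁻¹ * Y⁻¹ ∈ certFullE6.KS K (from_ (i + 1)) certFullE6.T.h := by
      have hA := from_absorbs (i + 1)
      have hYS : Y ∈ certFullE6.KS K (from_ i) certFullE6.T.h := hy
      have h1 := certFullE6.comm_mod hA hp' (fun r hr => from_pos hr)
        (fun r hr _ x hx => from_terms hp' hr x hx) ((graphE6.ε p : K) * f 1) hYS
      have h2 := certFullE6.comm_mod hA hp (fun r hr => from_pos hr)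
        (fun r hr _ x hx => from_terms hp hr x hx) 1 hYS
      have h3 := mul_mem (certFullE6.absorbs_conj hA (certFullE6.xg_mem_U (F := K) hp 1) h1) h2
      simpa [X, pair, mul_assoc] using h3
    have hfixc := ((mem_sub f).1 (ih (i + 1) (by omega) _ hcm (mul_mem (mul_mem
      (mul_mem (hM hXM) hyH) (inv_mem (hM hXM))) (inv_mem hyH)))).2
    rw [map_mul, map_mul, map_mul, map_inv, map_inv, ((mem_sub f).1 hXM).2] at hfixc
    have hz : Commute X (Y⁻¹ * φ Y) := by
      have e' : X * φ Y * X⁻¹ * (φ Y)⁻¹ = X * Y * X⁻¹ * Y⁻¹ := hfixc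
      show X * (Y⁻¹ * φ Y) = Y⁻¹ * φ Y * X
      have e2 : φ Y * X⁻¹ * (φ Y)⁻¹ = Y * X⁻¹ * Y⁻¹ := by
        refine mul_left_cancel (a := X) ?_
        simpa [mul_assoc] using e'
      calc X * (Y⁻¹ * φ Y) = Y⁻¹ * (Y * X⁻¹ * Y⁻¹)⁻¹ * φ Y := by group
        _ = Y⁻¹ * (φ Y * X⁻¹ * (φ Y)⁻¹)⁻¹ * φ Y := by rw [e2]
        _ = _ := by group
    -- the first coordinate of `Y⁻¹ * φ Y`
    set m' := graphE6.ρ m
    obtain ⟨-, hm'p, -⟩ := root_spec (K := K) hmp
    set b := f a - a with hb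
    set b' := (graphE6.ε m : K) * f (f a) - (graphE6.ε m : K) * f a
    set n := v⁻¹ * φ v with hn
    have hnR : n ∈ certFullE6.KS K (from_ (i + 1)) certFullE6.T.h :=
      mul_mem (inv_mem hv) (certFullE6.KS_map f hv)
    have hφw : φ (pair f m a) = XR m (f a) * XR m' ((graphE6.ε m : K) * f (f a)) := by
      simp only [φ, pair, map_mul, certFullE6.xg_map, map_intCast, m']
    have hsplit : Y⁻¹ * φ Y = XR m b *
        ((XR m b)⁻¹ * ((pair f m a)⁻¹ * n * pair f m a) * XR m b * XR m' b') := by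
      have hsub : ∀ (r : ℕ) (x y : K), XR r (x - y) = XR r x * (XR r y)⁻¹ := fun r x y => by
        rw [certFullE6.xg_inv, ← certFullE6.xg_add, sub_eq_add_neg]
      have hcmp := fun x y => pair_comm (K := K) hmp hfx x y
      have e : (pair f m a)⁻¹ * φ (pair f m a) = XR m b * XR m' b' := by
        rw [hφw, pair, hb, sub_eq_neg_add (f a) a,
          show b' = -((graphE6.ε m : K) * f a) + (graphE6.ε m : K) * f (f a) from sub_eq_neg_add _ _,
          certFullE6.xg_add, certFullE6.xg_add, ← certFullE6.xg_inv, ← certFullE6.xg_inv, _root_.mul_inv_rev]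
        have h' := mul2_comm (a₁ := (XR m a)⁻¹) (a₂ := (XR m' ((graphE6.ε m : K) * f a))⁻¹)
          (b₁ := XR m (f a)) (b₂ := XR m' ((graphE6.ε m : K) * f (f a))) (hcmp _ _).inv_right.symm
        rw [← h']
        congr 1
        exact ((hcmp _ _).inv_inv).eq.symm
      calc Y⁻¹ * φ Y = (pair f m a)⁻¹ * n * pair f m a *
            ((pair f m a)⁻¹ * φ (pair f m a)) := by rw [hY, hn, map_mul]; group
        _ = _ := by rw [e]; group
    rw [hsplit] at hz
    have hA := from_absorbs (i + 1)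
    have hn1 : (pair f m a)⁻¹ * n * pair f m a ∈ certFullE6.KS K (from_ (i + 1)) certFullE6.T.h := by
      have := certFullE6.absorbs_conj hA (inv_mem (pair_mem_U f hmp a)) hnR
      rwa [inv_inv] at this
    have hn2 : (XR m b)⁻¹ * ((pair f m a)⁻¹ * n * pair f m a) * XR m b ∈
        certFullE6.KS K (from_ (i + 1)) certFullE6.T.h := by
      have := certFullE6.absorbs_conj hA (inv_mem (certFullE6.xg_mem_U (F := K) hmp b)) hn1
      rwa [inv_inv] at this
    have := push f hff hi h20 hfx (b := b) (mul_mem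
      (certFullE6.KS_mono_fold (fun r hr => Set.mem_insert_of_mem _ hr) hn2)
      (certFullE6.xg_mem_KS (Set.mem_insert _ _) hm'p.1 b')) hz
    exact sub_eq_zero.1 this

end E6Sub

end Cfsg.Agent.Lie.Chev
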