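/- Perfectness and connectivity checks for the tabulated data. -/
import Cfsg.Agent.Lib.Lie.Chev.CertsFull
import Cfsg.Agent.Lib.Lie.Chev.Simple

set_option autoImplicit false

namespace Cfsg.Agent.Lie.Chev

theorem connG2 : checkConn certFullG2.T = true := by decide +kernel

theorem perfectG2 : checkPerfectOdd certFullG2.T = true := by decide +kernel

theorem connB2 : checkConn certFullB2.T = true := by decide +kernel

theorem perfectB2 : checkPerfectOdd certFullB2.T = true := by decide +kernel

theorem connD4 : checkConn certFullD4.T = true := by decide +kernel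

theorem perfectD4 : checkPerfect certFullD4.T = true := by decide +kernel

theorem connF4 : checkConn certFullF4.T = true := by decide +kernel

theorem perfectF4 : checkPerfect certFullF4.T = true := by decide +kernel

theorem connE6 : checkConn certFullE6.T = true := by decide +kernel

theorem perfectE6 : checkPerfect certFullE6.T = true := by decide +kernel

theorem connE7 : checkConn certFullE7.T = true := by decide +kernel

theorem perfectE7 : checkPerfect certFullE7.T = true := by decide +kernel

theorem connE8 : checkConn certFullE8.T = true := by decide +kernel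

theorem perfectE8 : checkPerfect certFullE8.T = true := by decide +kernel

/-- Perfectness of the simply-connected list. -/
theorem perfect_of_mem {F : Type*} [Field F] {D : Cfsg.Lie.ChevalleyDatum}
    (hD : D ∈ [Cfsg.Lie.chevG2, Cfsg.Lie.chevB2, Cfsg.Lie.chevD4, Cfsg.Lie.chevF4, Cfsg.Lie.chevE6,
      Cfsg.Lie.chevE7, Cfsg.Lie.chevE8])
    (h2 : D = Cfsg.Lie.chevG2 ∨ D = Cfsg.Lie.chevB2 → ∃ a : F, a ≠ 0 ∧ a ≠ 1) :
    commutator ↥(D.group F) = ⊤ := by
  simp only [List.mem_cons, List.not_mem_nil, or_false] at hD
  rcases hD with rfl | rfl | rfl | rfl | rfl | rfl | rfl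
  · exact certFullG2.perfect_odd perfectG2 (h2 (Or.inl rfl))
  · exact certFullB2.perfect_odd perfectB2 (h2 (Or.inr rfl))
  · exact certFullD4.perfect perfectD4
  · exact certFullF4.perfect perfectF4
  · exact certFullE6.perfect perfectE6
  · exact certFullE7.perfect perfectE7
  · exact certFullE8.perfect perfectE8

end Cfsg.Agent.Lie.Chev
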