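import Cfsg.Agent.Lib.Lie.Chev.SteinbergKer
import Cfsg.Agent.Lib.Lie.Chev.SimpleCerts
import Cfsg.Agent.Lib.Lie.Chev.Order
import Cfsg.Prelude.Def_SteinbergCover

/-! The presented groups of Steinberg, and the torus part of the kernel. -/

set_option autoImplicit false

namespace Cfsg.Agent.Lie.Chev

open Cfsg.Lie

namespace StData

variable {D : ChevalleyDatum} {c : CertFull D} {F : Type*} [Field F] {Γ : Type*} [Group Γ]
  (A : StData c F Γ)

/-- With the relations (R3) the abstract torus is a homomorphic image of `(Fˣ)^l`. -/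
theorem exists_torusHom (hN : checkNbr c.T = true)
    (hR3 : ∀ p < D.rank, ∀ a b : Fˣ, A.h (D.simple p) (a : F) * A.h (D.simple p) (b : F) =
      A.h (D.simple p) ((a * b : Fˣ) : F))
    {l : ℕ} (hl : D.rank = l) :
    ∃ Φ : (Fin l → Fˣ) →* Γ, (∀ i a, Φ (Pi.mulSingle i a) = A.h (D.simple i) (a : F)) ∧
      (∀ z, A.θ (Φ z) = c.torus (fun i => if h : i < l then z ⟨i, h⟩ else 1)) ∧
      A.H ≤ Φ.range := by
  have hone : ∀ p < D.rank, A.h (D.simple p) ((1 : Fˣ) : F) = 1 := fun p hp => by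
    have := hR3 p hp 1 1
    rwa [mul_one, mul_eq_left] at this
  have hinv : ∀ p < D.rank, ∀ a : Fˣ,
      (A.h (D.simple p) (a : F))⁻¹ = A.h (D.simple p) ((a⁻¹ : Fˣ) : F) := fun p hp a => by
    rw [inv_eq_iff_mul_eq_one, hR3 p hp, mul_inv_cancel, hone p hp]
  let φ : Fin l → (Fˣ →* Γ) := fun i =>
    MonoidHom.mk' (fun a => A.h (D.simple i) (a : F)) fun a b => (hR3 i (hl ▸ i.2) a b).symm
  have hcomm : ∀ p < D.rank, ∀ q < D.rank, ∀ a b : Fˣ,
      Commute (A.h (D.simple p) (a : F)) (A.h (D.simple q) (b : F)) := by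
    intro p hp q hq a b
    set k : Fˣ := chi (c := c) p a (D.simple q)
    have hq' := c.simple_lt hq
    have e1 := A.h_conj_n hN hp a hq' (b : F)
    have e2 := A.h_conj_n hN hp a hq' (-1 : F)
    rw [mul_neg_one] at e2
    set g := A.h (D.simple p) (a : F)
    have e : g * A.h (D.simple q) (b : F) * g⁻¹ = A.h (D.simple q) (b : F) := by
      conv_lhs => rw [StData.h]
      rw [show g * (A.n (D.simple q) (b : F) * A.n (D.simple q) (-1)) * g⁻¹ =
        (g * A.n (D.simple q) (b : F) * g⁻¹) * (g * A.n (D.simple q) (-1) * g⁻¹) by group, e1, e2,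
        A.n_mul_n hq, neg_neg, ← Units.val_mul, hinv q hq, hR3 q hq]
      congr 2
      rw [mul_comm k b, mul_assoc, mul_inv_cancel, mul_one]
    exact mul_inv_eq_iff_eq_mul.1 e
  have hpair : Pairwise fun i j => ∀ x y, Commute (φ i x) (φ j y) :=
    fun i j _ x y => hcomm i (hl ▸ i.2) j (hl ▸ j.2) x y
  let Φ := MonoidHom.noncommPiCoprod φ hpair
  let pad : (Fin l → Fˣ) →* (ℕ → Fˣ) :=
    MonoidHom.mk' (fun z i => if h : i < l then z ⟨i, h⟩ else 1) fun z w => by
      funext i; by_cases h : i < l <;> simp [h]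
  have hΦ : A.θ.comp Φ = c.torus.comp pad := by
    refine MonoidHom.pi_ext fun i a => ?_
    rw [MonoidHom.comp_apply, MonoidHom.comp_apply, MonoidHom.noncommPiCoprod_mulSingle]
    show A.θ (A.h (D.simple i) (a : F)) = _
    have hi : (i : ℕ) < D.rank := hl ▸ i.2
    rw [A.θh (c.simple_lt hi), c.hg_eq_torus (c.simple_lt hi), Cert.torus_apply,
      Cert.torus_apply]
    refine dg_ext D F fun u _ => ?_
    rw [Cert.tchar, Cert.tchar]
    refine Finset.prod_congr rfl fun j hj => ?_
    congr 1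
    rw [Finset.mem_range] at hj
    show a ^ c.T.coroot (D.simple i) j =
      if h : j < l then (Pi.mulSingle i a : Fin l → Fˣ) ⟨j, h⟩ else 1
    rw [dif_pos (hl ▸ hj), (c.linear_node hi).2 j hj, Pi.mulSingle_apply]
    by_cases e : (i : ℕ) = j
    · subst e; simp
    · rw [if_neg (fun h : (⟨j, hl ▸ hj⟩ : Fin l) = i => e (congrArg Fin.val h).symm)]
      simp [Ne.symm e, e]
  have hrange : A.H ≤ Φ.range := by
    refine (Subgroup.closure_le _).2 ?_
    rintro g ⟨p, t, hp, rfl⟩
    exact ⟨Pi.mulSingle ⟨p, hl ▸ hp⟩ t, MonoidHom.noncommPiCoprod_mulSingle φ _ _⟩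
  exact ⟨Φ, fun i a => MonoidHom.noncommPiCoprod_mulSingle φ i a,
    fun z => by rw [← MonoidHom.comp_apply, hΦ]; rfl, hrange⟩

/-- With the relations (R3) the map is injective when the Cartan matrix is invertible. -/
theorem ker_eq_bot (hN : checkNbr c.T = true)
    (hR3 : ∀ p < D.rank, ∀ a b : Fˣ, A.h (D.simple p) (a : F) * A.h (D.simple p) (b : F) =
      A.h (D.simple p) ((a * b : Fˣ) : F))
    {l : ℕ} (hl : D.rank = l) {B : Matrix (Fin l) (Fin l) ℤ}
    (hB : Matrix.of (fun i j : Fin l => c.T.cartan i (c.T.simple j)) * B = 1) :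
    A.θ.ker = ⊥ := by
  obtain ⟨Φ, -, hΦ, hrange⟩ := A.exists_torusHom hN hR3 hl
  rw [eq_bot_iff]
  intro g hg
  obtain ⟨z, rfl⟩ := hrange (A.ker_le hN hg).1
  have h1 := (hΦ z).symm.trans hg
  rw [Cert.torus_apply, ← map_one (dg D F), dg_eq_iff] at h1
  have h2 : mpow (Matrix.of (fun i j : Fin l => c.T.cartan i (c.T.simple j))) z = 1 := by
    funext j
    have hj : (j : ℕ) < D.rank := hl ▸ j.2
    have h3 := h1 _ (c.simple_lt hj)
    rw [Cert.tchar, c.simple_eq hj, hl, Finset.prod_range] at h3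
    show ∏ i, z i ^ c.T.cartan i (c.T.simple j) = 1
    refine Eq.trans (Finset.prod_congr rfl fun i _ => ?_) h3
    simp
  have hz : z = 1 := by
    rw [← mpow_one z, ← hB, mpow_mul, h2, map_one]
  rw [hz, map_one]
  exact Subgroup.one_mem _

end StData

namespace CertFull

variable {D : ChevalleyDatum} (c : CertFull D) (F : Type*) [Field F]
include c

/-- The root element of a symbol. -/
def symVal (x : Fin D.nroots × F) : GL D.Idx F := c.xg x.1 x.2

theorem lift_stX {r : ℕ} (hr : r < D.nroots) (t : F) :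
    FreeGroup.lift (c.symVal F) (D.stX r t) = c.xg r t := by
  rw [ChevalleyDatum.stX, dif_pos hr, FreeGroup.lift_apply_of]
  rfl

theorem rel_add {g : FreeGroup (Fin D.nroots × F)}
    (hg : ∃ (r : ℕ) (t₁ t₂ : F), r < D.nroots ∧
      g = D.stX r t₁ * D.stX r t₂ * (D.stX r (t₁ + t₂))⁻¹) :
    FreeGroup.lift (c.symVal F) g = 1 := by
  obtain ⟨r, t, u, hr, rfl⟩ := hg
  simp only [map_mul, map_inv, c.lift_stX F hr, ← c.xg_add, mul_inv_cancel]

theorem rel_comm {g : FreeGroup (Fin D.nroots × F)}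
    (hg : ∃ (r s : ℕ) (t u : F), r < D.nroots ∧ s < D.nroots ∧ s ≠ r ∧ s ≠ D.neg r ∧
      g = (D.stX s u)⁻¹ * (D.stX r t)⁻¹ * D.stX s u * D.stX r t *
        (D.stWord (D.commWord F r s t u))⁻¹) :
    FreeGroup.lift (c.symVal F) g = 1 := by
  obtain ⟨r, s, t, u, hr, hs, h1, h2, rfl⟩ := hg
  have hw : FreeGroup.lift (c.symVal F) (D.stWord (D.commWord F r s t u)) =
      ((c.T.commTerms r s).map fun x =>
        c.xg x.1 ((x.2.1 : F) * (-t) ^ x.2.2.1 * u ^ x.2.2.2)).prod := by
    rw [ChevalleyDatum.stWord, ChevalleyDatum.commWord, c.commTerms_eq hr hs, map_list_prod,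
      List.map_map, List.map_map]
    exact congrArg List.prod (List.map_congr_left fun x hx =>
      c.lift_stX F (c.mem_commTerms hr hs hx).1 _)
  simp only [map_mul, map_inv, c.lift_stX F hr, c.lift_stX F hs, hw]
  rw [mul_inv_eq_one, mul_assoc _ (c.xg s u), c.xg_comm hr hs h1 h2]
  group

theorem lift_stH {r : ℕ} (hr : r < D.nroots) (t : F) :
    FreeGroup.lift (c.symVal F) (D.stH r t) = c.hg r t := by
  rw [ChevalleyDatum.stH, ChevalleyDatum.stWord, ChevalleyDatum.hWord, ChevalleyDatum.nWord,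
    ChevalleyDatum.nWord]
  simp only [List.cons_append, List.nil_append, List.map_cons, List.map_nil, List.prod_cons,
    List.prod_nil, map_mul, map_one, mul_one, c.lift_stX F hr, c.lift_stX F (c.neg_lt hr),
    Cert.hg, Cert.ng, mul_assoc]

theorem rel_torus {g : FreeGroup (Fin D.nroots × F)}
    (hg : ∃ (r : ℕ) (t₁ t₂ : F), r < D.nroots ∧ t₁ ≠ 0 ∧ t₂ ≠ 0 ∧
      g = D.stH r t₁ * D.stH r t₂ * (D.stH r (t₁ * t₂))⁻¹) :
    FreeGroup.lift (c.symVal F) g = 1 := by
  obtain ⟨r, t, u, hr, ht, hu, rfl⟩ := hg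
  simp only [map_mul, map_inv, c.lift_stH F hr]
  have e : c.hg r ((Units.mk0 t ht : Fˣ) : F) * c.hg r ((Units.mk0 u hu : Fˣ) : F) =
      c.hg r ((Units.mk0 t ht * Units.mk0 u hu : Fˣ) : F) := by
    rw [c.hg_eq hr, c.hg_eq hr, c.hg_eq hr, ← map_mul]
    refine dg_ext D F fun s _ => ?_
    simp only [Pi.mul_apply, CertFull.pairChar, mul_zpow]
  simp only [Units.val_mul, Units.val_mk0] at e
  rw [mul_inv_eq_one, e]

/-- The data of a presented group containing the relators (R1), (R2). -/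
def stData (rels : Set (FreeGroup (Fin D.nroots × F))) (hsub : D.steinbergRelsAB F ⊆ rels)
    (hval : ∀ g ∈ rels, FreeGroup.lift (c.symVal F) g = 1) :
    StData c F (PresentedGroup rels) where
  θ := PresentedGroup.toGroup hval
  X r t := PresentedGroup.mk rels (D.stX r t)
  θX r hr t := c.lift_stX F hr t
  add r hr t u := by
    rw [← mul_inv_eq_one, ← map_inv, ← map_mul, ← map_mul]
    exact PresentedGroup.one_of_mem (hsub (Or.inl ⟨r, t, u, hr, rfl⟩))
  comm r hr s hs h1 h2 t u := by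
    have h := PresentedGroup.one_of_mem (hsub (Or.inr ⟨r, s, t, u, hr, hs, h1, h2, rfl⟩))
    have hw : PresentedGroup.mk rels (D.stWord (D.commWord F r s t u)) =
        ((c.T.commTerms r s).map fun x => PresentedGroup.mk rels
          (D.stX x.1 ((x.2.1 : F) * (-t) ^ x.2.2.1 * u ^ x.2.2.2))).prod := by
      rw [ChevalleyDatum.stWord, ChevalleyDatum.commWord, c.commTerms_eq hr hs, map_list_prod,
        List.map_map, List.map_map]
      rfl
    simp only [map_mul, map_inv] at h
    rw [mul_inv_eq_one, hw] at h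
    rw [← h]
    group
  gen := by
    rw [eq_top_iff, ← PresentedGroup.closure_range_of rels, Subgroup.closure_le]
    rintro g ⟨⟨r, t⟩, rfl⟩
    refine Subgroup.subset_closure ⟨r, r.2, t, ?_⟩
    rw [ChevalleyDatum.stX, dif_pos r.2]
    rfl

/-- Steinberg's group. -/
def stGroupData : StData c F (D.SteinbergGroup F) :=
  c.stData F (D.steinbergRels F) Set.subset_union_left fun g hg => by
    rcases hg with (hg | hg) | hg
    exacts [c.rel_add F hg, c.rel_comm F hg, c.rel_torus F hg]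

/-- The cover by (R1), (R2). -/
def stCoverData : StData c F (D.SteinbergCover F) :=
  c.stData F (D.steinbergRelsAB F) (subset_refl _) fun g hg => by
    rcases hg with hg | hg
    exacts [c.rel_add F hg, c.rel_comm F hg]

theorem stGroup_h (r : ℕ) (t : F) :
    (c.stGroupData F).h r t = PresentedGroup.mk (D.steinbergRels F) (D.stH r t) := by
  rw [ChevalleyDatum.stH, ChevalleyDatum.stWord, ChevalleyDatum.hWord, ChevalleyDatum.nWord,
    ChevalleyDatum.nWord]
  simp only [List.cons_append, List.nil_append, List.map_cons, List.map_nil, List.prod_cons,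
    List.prod_nil, map_mul, map_one, mul_one, StData.h, StData.n, stGroupData, stData, mul_assoc]

theorem stGroup_R3 (p : ℕ) (hp : p < D.rank) (a b : Fˣ) :
    (c.stGroupData F).h (D.simple p) (a : F) * (c.stGroupData F).h (D.simple p) (b : F) =
      (c.stGroupData F).h (D.simple p) ((a * b : Fˣ) : F) := by
  rw [c.stGroup_h, c.stGroup_h, c.stGroup_h, Units.val_mul, ← mul_inv_eq_one, ← map_inv, ← map_mul,
    ← map_mul]
  exact PresentedGroup.one_of_mem
    (Or.inr ⟨D.simple p, a, b, c.simple_lt hp, a.ne_zero, b.ne_zero, rfl⟩)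

theorem stGroup_ker_bot (hN : checkNbr c.T = true) {l : ℕ} (hl : D.rank = l)
    {B : Matrix (Fin l) (Fin l) ℤ}
    (hB : Matrix.of (fun i j : Fin l => c.T.cartan i (c.T.simple j)) * B = 1) :
    (c.stGroupData F).θ.ker = ⊥ :=
  (c.stGroupData F).ker_eq_bot hN (c.stGroup_R3 F) hl hB

end CertFull

/-- The certified data of the seven types. -/
theorem exists_nbrCert {D : ChevalleyDatum} (hD : D ∈ [chevG2, chevB2, chevD4, chevF4, chevE6,
    chevE7, chevE8]) : ∃ c : CertFull D, checkNbr c.T = true ∧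
      (checkPerfect c.T = true ∨ (D ∈ [chevB2, chevG2] ∧ checkPerfectOdd c.T = true)) := by
  simp only [List.mem_cons, List.not_mem_nil, or_false] at hD
  rcases hD with rfl | rfl | rfl | rfl | rfl | rfl | rfl
  exacts [⟨certFullG2, by decide +kernel, Or.inr ⟨by simp, perfectG2⟩⟩,
    ⟨certFullB2, by decide +kernel, Or.inr ⟨by simp, perfectB2⟩⟩,
    ⟨certFullD4, by decide +kernel, Or.inl perfectD4⟩,
    ⟨certFullF4, by decide +kernel, Or.inl perfectF4⟩,
    ⟨certFullE6, by decide +kernel, Or.inl perfectE6⟩,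
    ⟨certFullE7, by decide +kernel, Or.inl perfectE7⟩,
    ⟨certFullE8, by decide +kernel, Or.inl perfectE8⟩]

end Cfsg.Agent.Lie.Chev
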