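import Cfsg.Agent.Lib.Lie.Chev.SteinbergMult
import Cfsg.Agent.Lib.Lie.Chev.SteinbergCentre

/-! Central extensions split for the simply-laced types E, over every field. -/

set_option autoImplicit false

universe u

namespace Cfsg.Agent.Lie.Chev

open Cfsg.Lie
open scoped commutatorElement

namespace Tables

variable (T : Tables)

/-- The root subgroups commute. -/
def commutes (x y : ℕ) : Bool :=
  Nat.beq x y || (!(Nat.beq y (T.neg x)) && (T.commTerms x y).isEmpty)

/-- The commutator of `a` and `b` lands on `k`. -/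
def sumsTo (a b k : ℕ) : Bool :=
  !(Nat.beq b a) && !(Nat.beq b (T.neg a)) &&
    match T.commTerms a b with
    | (k', _) :: _ => Nat.beq k' k
    | [] => false

/-- The root `k - b`. -/
def summand (b k : ℕ) : Option ℕ := (T.commTerms (T.neg b) k).head?.map Prod.fst

/-- A root `a` with `r + a = r'` and `a + b = s`. -/
def link (r s r' b : ℕ) : Bool :=
  match T.summand b s with
  | some a => Nat.blt a T.n && T.sumsTo a b s && T.sumsTo r a r' && T.commutes r b && T.commutes r' s
  | none => false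

/-- Every commutator formula has at most one term. -/
def checkSingle : Bool :=
  T.allNodes fun q => T.allRoots fun s =>
    let r := T.simple q
    Nat.beq s r || Nat.beq s (T.neg r) ||
      match T.commTerms r s with
      | [] => true
      | [(k, C, i, j)] => Nat.beq i 1 && Nat.beq j 1 && intBeq (C * C) 1 &&
          T.commutes k r && T.commutes k s &&
          (match T.summand s k with
            | some a => Nat.beq a r
            | none => false)
      | _ => false

/-- Every root is a sum. -/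
def checkSum : Bool :=
  T.allRoots fun k => (List.range T.n).any fun b =>
    match T.summand b k with
    | some a => Nat.blt a T.n && T.sumsTo a b k
    | none => false

/-- A root is a sum of two roots commuting with a given commuting one. -/
def checkSplit : Bool :=
  T.allNodes fun q => T.allRoots fun s => !(T.commutes (T.simple q) s) ||
    (List.range T.n).any fun b =>
      match T.summand b (T.simple q) with
      | some a => Nat.blt a T.n && T.sumsTo a b (T.simple q) && T.commutes a s && T.commutes b s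
      | none => false

/-- The sums giving a fundamental root are linked to a fixed one. -/
def checkLinked : Bool :=
  T.allNodes fun q => (List.range T.n).any fun s₀ =>
    match T.summand s₀ (T.simple q) with
    | none => false
    | some r₀ => Nat.blt r₀ T.n && T.sumsTo r₀ s₀ (T.simple q) &&
      ((List.range T.n).any fun b =>
        match T.summand b (T.simple q) with
        | some r' => Nat.blt r' T.n && T.link r₀ s₀ r' b
        | none => false) &&
      T.allRoots fun s =>
        match T.summand s (T.simple q) with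
        | none => true
        | some r => !(T.sumsTo r s (T.simple q)) || (Nat.beq r r₀ && Nat.beq s s₀) ||
            (Nat.beq r s₀ && Nat.beq s r₀) || T.link r₀ s₀ r s || T.link r₀ s₀ s r

end Tables

/-- The table facts for the simply-laced lifting. -/
def checkSL (T : Tables) : Bool :=
  T.checkSingle && T.checkSum && T.checkSplit && T.checkLinked

/-- Commutators only depend on the images modulo a central kernel. -/
theorem comm_congr_central {E Γ : Type*} [Group E] [Group Γ] (π : E →* Γ)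
    (hc : π.ker ≤ Subgroup.center E) {e e' f f' : E} (h1 : π e = π e') (h2 : π f = π f') :
    ⁅e, f⁆ = ⁅e', f'⁆ := by
  have hz : e'⁻¹ * e ∈ Subgroup.center E := hc (by simp [MonoidHom.mem_ker, h1])
  have hy : f'⁻¹ * f ∈ Subgroup.center E := hc (by simp [MonoidHom.mem_ker, h2])
  rw [show e = e' * (e'⁻¹ * e) by group, show f = f' * (f'⁻¹ * f) by group]
  generalize e'⁻¹ * e = z at hz
  generalize f'⁻¹ * f = y at hy
  rw [commutatorElement_def, commutatorElement_def]
  calc e' * z * (f' * y) * (e' * z)⁻¹ * (f' * y)⁻¹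
      = e' * (z * (f' * y)) * z⁻¹ * e'⁻¹ * y⁻¹ * f'⁻¹ := by group
    _ = e' * f' * (y * e'⁻¹) * y⁻¹ * f'⁻¹ := by rw [← Subgroup.mem_center_iff.1 hz]; group
    _ = _ := by rw [← Subgroup.mem_center_iff.1 hy]; group

namespace CertFull

variable {D : ChevalleyDatum} (c : CertFull D)
include c

/-- The commutator terms of transported roots. -/
theorem commTerms_wl_map {L : List ℕ} (hL : ∀ p ∈ L, p < D.rank) {r s : ℕ} (hr : r < D.nroots)
    (hs : s < D.nroots) : ∃ g : ℕ × ℤ × ℕ × ℕ → ℕ × ℤ × ℕ × ℕ,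
      c.T.commTerms (c.wl L r) (c.wl L s) = (c.T.commTerms r s).map g ∧
      ∀ x, (g x).1 = c.wl L x.1 ∧ (g x).2.2 = x.2.2 ∧ (g x).2.1 * (g x).2.1 = x.2.1 * x.2.1 := by
  induction L with
  | nil => exact ⟨id, by simp, fun x => ⟨rfl, rfl, rfl⟩⟩
  | cons p L ih =>
    have hp : p < D.rank := hL p (by simp)
    have hL' : ∀ q ∈ L, q < D.rank := fun q hq => hL q (by simp [hq])
    obtain ⟨g, hg, hg'⟩ := ih hL'
    refine ⟨fun x => c.T.moveTerm p (c.wl L r) (c.wl L s) (g x), ?_, fun x => ?_⟩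
    · rw [Cert.wl_cons, Cert.wl_cons, c.commTerms_w hp (c.wl_lt hL' hr) (c.wl_lt hL' hs), hg,
        List.map_map]
      rfl
    obtain ⟨e1, e2, e3⟩ := hg' x
    refine ⟨?_, ?_, ?_⟩
    · rw [Cert.wl_cons, ← e1]; rfl
    · rw [← e2]; rfl
    · rw [← e3]
      have sq : ∀ (n v : ℕ), c.T.eta p v ^ n * c.T.eta p v ^ n = 1 := fun n v => by
        rw [← mul_pow, c.T.eta_sq, one_pow]
      have sq1 := c.T.eta_sq p
      simp only [Tables.moveTerm]
      linear_combination (exp := 1) (g x).2.1 * (g x).2.1 *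
        (c.T.eta p (c.wl L s) ^ (g x).2.2.2 * c.T.eta p (c.wl L s) ^ (g x).2.2.2 *
          (c.T.eta p (g x).1 * c.T.eta p (g x).1)) * sq (g x).2.2.1 (c.wl L r) +
        (g x).2.1 * (g x).2.1 * (c.T.eta p (g x).1 * c.T.eta p (g x).1) *
          sq (g x).2.2.2 (c.wl L s) +
        (g x).2.1 * (g x).2.1 * sq1 (g x).1

theorem commutes_wl {L : List ℕ} (hL : ∀ p ∈ L, p < D.rank) {r s : ℕ} (hr : r < D.nroots)
    (hs : s < D.nroots) (h : c.T.commutes r s = true) :
    c.T.commutes (c.wl L r) (c.wl L s) = true := by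
  simp only [Tables.commutes, Bool.or_eq_true, Bool.and_eq_true, Bool.not_eq_true',
    List.isEmpty_iff, Nat.beq_eq] at h ⊢
  rcases h with rfl | ⟨h1, h2⟩
  · exact Or.inl rfl
  refine Or.inr ⟨Bool.eq_false_iff.2 fun e => Nat.ne_of_beq_eq_false h1 ?_, ?_⟩
  · rw [← c.neg_eq (c.wl_lt hL hr), ← c.wl_neg hL hr] at e
    rw [← c.neg_eq hr]
    exact c.wl_inj hL hs (c.neg_lt hr) (Nat.eq_of_beq_eq_true e)
  · obtain ⟨g, hg, -⟩ := c.commTerms_wl_map hL hr hs
    rw [hg, h2, List.map_nil]

theorem summand_wl {L : List ℕ} (hL : ∀ p ∈ L, p < D.rank) {r s : ℕ} (hr : r < D.nroots)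
    (hs : s < D.nroots) :
    c.T.summand (c.wl L r) (c.wl L s) = (c.T.summand r s).map (c.wl L) := by
  obtain ⟨g, hg, hg'⟩ := c.commTerms_wl_map hL (c.neg_lt hr) hs
  rw [Tables.summand, Tables.summand, ← c.neg_eq (c.wl_lt hL hr), ← c.neg_eq hr,
    ← c.wl_neg hL hr, hg, List.head?_map, Option.map_map, Option.map_map]
  exact Option.map_congr fun x _ => (hg' x).1

end CertFull

namespace StData

variable {D : ChevalleyDatum} {c : CertFull D} {F : Type*} [Field F] {Γ : Type*} [Group Γ]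
  (A : StData c F Γ)

theorem X_inj {r : ℕ} (hr : r < D.nroots) {t u : F} (h : A.X r t = A.X r u) : t = u := by
  have := congrArg A.θ h
  rw [A.θX r hr, A.θX r hr] at this
  exact c.xg_inj hr this

theorem comm_of_commutes {r s : ℕ} (hr : r < D.nroots) (hs : s < D.nroots)
    (h : c.T.commutes r s = true) (t u : F) : Commute (A.X r t) (A.X s u) := by
  simp only [Tables.commutes, Bool.or_eq_true, Bool.and_eq_true, Bool.not_eq_true',
    List.isEmpty_iff, Nat.beq_eq] at h
  rcases h with rfl | ⟨h1, h2⟩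
  · rw [Commute, SemiconjBy, A.add r hr, A.add r hr, add_comm]
  by_cases e : s = r
  · rw [e, Commute, SemiconjBy, A.add r hr, A.add r hr, add_comm]
  have h1' : s ≠ D.neg r := by
    rw [c.neg_eq hr]; exact Nat.ne_of_beq_eq_false h1
  have := A.comm r hr s hs e h1' t u
  rw [h2, List.map_nil, List.prod_nil, mul_one] at this
  exact this.symm

omit A in
theorem sumsTo_head {r s : ℕ} {x : ℕ × ℤ × ℕ × ℕ} {L : List (ℕ × ℤ × ℕ × ℕ)} (hr : r < D.nroots)
    (h1 : s ≠ r) (h2 : s ≠ D.neg r) (h : c.T.commTerms r s = x :: L) :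
    c.T.sumsTo r s x.1 = true := by
  simp only [Tables.sumsTo, Bool.and_eq_true, Bool.not_eq_true', h]
  exact ⟨⟨Bool.eq_false_iff.2 fun e => h1 (Nat.eq_of_beq_eq_true e), Bool.eq_false_iff.2 fun e => h2
    (by rw [c.neg_eq hr]; exact Nat.eq_of_beq_eq_true e)⟩, Nat.beq_refl _⟩

section SimplyLaced

variable (hN : checkNbr c.T = true) (hS : checkSL c.T = true)

include hS in
omit A in
theorem sumsTo_single {r s k : ℕ} (hr : r < D.nroots) (hs : s < D.nroots)
    (h : c.T.sumsTo r s k = true) :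
    s ≠ r ∧ s ≠ D.neg r ∧ k < D.nroots ∧ ∃ C : ℤ, C * C = 1 ∧ c.T.commTerms r s = [(k, C, 1, 1)] ∧
      c.T.commutes k r = true ∧ c.T.commutes k s = true ∧ c.T.summand s k = some r := by
  simp only [Tables.sumsTo, Bool.and_eq_true, Bool.not_eq_true'] at h
  obtain ⟨⟨h1, h2⟩, h⟩ := h
  have n1 : s ≠ r := Nat.ne_of_beq_eq_false h1
  have n2 : s ≠ D.neg r := by rw [c.neg_eq hr]; exact Nat.ne_of_beq_eq_false h2
  simp only [checkSL, Tables.checkSingle, Tables.allNodes, Tables.allRoots, Bool.and_eq_true,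
    List.all_eq_true, List.mem_range, Bool.or_eq_true, Nat.beq_eq] at hS
  obtain ⟨L, q, hL, hq, rfl⟩ := c.exists_wl_simple hr
  have hR : ∀ p ∈ L.reverse, p < D.rank := fun p hp => hL p (List.mem_reverse.1 hp)
  have hα := c.simple_lt hq
  obtain ⟨s₁, hs₁, rfl⟩ : ∃ s₁, s₁ < D.nroots ∧ c.wl L s₁ = s :=
    ⟨_, c.wl_lt hR hs, c.wl_reverse hL hs⟩
  have hA := hS.1.1.1 q (c.rank_eq ▸ hq) s₁ (c.nroots_eq ▸ hs₁)
  rw [← c.simple_eq hq, ← c.neg_eq hα] at hA
  replace hA := hA.resolve_left (by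
    rintro (e | e)
    · exact n1 (by rw [e])
    · exact n2 (by rw [e, c.wl_neg hL hα]))
  obtain ⟨g, hg, hg'⟩ := c.commTerms_wl_map hL hα hs₁
  rw [hg] at h
  match hm : c.T.commTerms (D.simple q) s₁ with
  | [] => rw [hm] at h; simp at h
  | _ :: _ :: _ => rw [hm] at hA; simp at hA
  | [(k', C, i, j)] =>
    rw [hm] at h hA
    simp only [List.map_cons, Nat.beq_eq] at h
    simp only [Bool.and_eq_true, Nat.beq_eq] at hA
    obtain ⟨⟨⟨⟨⟨rfl, rfl⟩, hC⟩, hkr⟩, hks⟩, hsum⟩ := hA
    have hk' : k' < D.nroots :=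
      (c.mem_commTerms hα hs₁ (by rw [hm]; exact List.mem_singleton_self _)).1
    obtain ⟨e1, e2, e3⟩ := hg' (k', C, 1, 1)
    rw [e1] at h
    subst h
    refine ⟨n1, n2, c.wl_lt hL hk', (g (k', C, 1, 1)).2.1, e3.trans (eq_of_intBeq hC), ?_,
      c.commutes_wl hL hk' hα hkr, c.commutes_wl hL hk' hs₁ hks, ?_⟩
    · rw [hg, hm, List.map_singleton]
      exact congrArg (fun x => [x]) (Prod.ext e1 (Prod.ext rfl e2))
    · rw [c.summand_wl hL hs₁ hk']
      match hsm : c.T.summand s₁ k' with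
      | none => rw [hsm] at hsum; simp at hsum
      | some a =>
        rw [hsm] at hsum
        simp only [Nat.beq_eq] at hsum
        rw [hsum, Option.map_some]

include hS in
/-- The commutator of two root elements. -/
theorem comm_single {r s k : ℕ} (hr : r < D.nroots) (hs : s < D.nroots)
    (h : c.T.sumsTo r s k = true) :
    ∃ C : F, C * C = 1 ∧ ∀ t u : F, ⁅A.X r t, A.X s u⁆ = A.X k (C * t * u) := by
  obtain ⟨h1, h2, hk, C, hC, hL, -, hks, -⟩ := sumsTo_single hS hr hs h
  refine ⟨C, by exact_mod_cast congrArg (Int.cast : ℤ → F) hC, fun t u => ?_⟩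
  have e := A.comm r hr s hs h1 h2 (-t) u
  rw [hL] at e
  simp only [List.map_cons, List.map_nil, List.prod_cons, List.prod_nil, mul_one, pow_one,
    neg_neg] at e
  rw [commutatorElement_def, mul_assoc (A.X r t), A.X_inv hr, e,
    show A.X r t * (A.X r (-t) * A.X s u * A.X k (C * t * u)) * (A.X s u)⁻¹ =
      (A.X r t * A.X r (-t)) * (A.X s u * A.X k (C * t * u)) * (A.X s u)⁻¹ by group,
    A.add r hr, add_neg_cancel, A.X_zero hr, one_mul,
    ← (A.comm_of_commutes hk hs hks (C * t * u) u).eq, mul_inv_cancel_right]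

variable {E : Type*} [Group E] (π : E →* Γ) (hπ : Function.Surjective π)
  (hc : π.ker ≤ Subgroup.center E)

/-- The commutator of two lifted root elements. -/
noncomputable def cf (r s : ℕ) (t u : F) : E := ⁅pre π hπ (A.X r t), pre π hπ (A.X s u)⁆

theorem π_cf (r s : ℕ) (t u : F) : π (A.cf π hπ r s t u) = ⁅A.X r t, A.X s u⁆ := by
  rw [cf, map_commutatorElement, π_pre, π_pre]

theorem cf_swap (r s : ℕ) (t u : F) : A.cf π hπ s r u t = (A.cf π hπ r s t u)⁻¹ := by
  rw [cf, cf, commutatorElement_inv]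

include hπ hc

/-- Transport of a commutator of lifts by conjugation. -/
theorem cf_conj (g : Γ) {r s r' s' : ℕ} {t u t' u' : F} (h1 : g * A.X r t * g⁻¹ = A.X r' t')
    (h2 : g * A.X s u * g⁻¹ = A.X s' u') :
    A.cf π hπ r' s' t' u' = pre π hπ g * A.cf π hπ r s t u * (pre π hπ g)⁻¹ := by
  rw [cf, cf, conjugate_commutatorElement]
  refine comm_congr_central π hc ?_ ?_
  · simp only [map_mul π, map_inv π, π_pre, h1]
  · simp only [map_mul π, map_inv π, π_pre, h2]

include hN hS

/-- Commuting root elements have commuting lifts. -/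
theorem lc {r s : ℕ} (hr : r < D.nroots) (hs : s < D.nroots) (h : c.T.commutes r s = true)
    {e f : E} {t u : F} (he : π e = A.X r t) (hf : π f = A.X s u) : Commute e f := by
  refine commutatorElement_eq_one_iff_commute.1 ?_
  rw [comm_congr_central π hc (e' := pre π hπ (A.X r t)) (f' := pre π hπ (A.X s u))
    (by rw [he, π_pre]) (by rw [hf, π_pre])]
  obtain ⟨L, q, hL, hq, rfl⟩ := c.exists_wl_simple hr
  have hR : ∀ p ∈ L.reverse, p < D.rank := fun p hp => hL p (List.mem_reverse.1 hp)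
  have hα := c.simple_lt hq
  set s₁ := c.wl L.reverse s with hs₁def
  have hs₁ : s₁ < D.nroots := c.wl_lt hR hs
  have es : c.wl L s₁ = s := c.wl_reverse hL hs
  have eα : c.wl L.reverse (c.wl L (D.simple q)) = D.simple q := by
    refine c.wl_inj hL (c.wl_lt hR (c.wl_lt hL hα)) hα ?_
    rw [c.wl_reverse hL (c.wl_lt hL hα)]
  have hcom : c.T.commutes (D.simple q) s₁ = true := by
    simp only [Tables.commutes, Bool.or_eq_true, Bool.and_eq_true, Bool.not_eq_true',
      List.isEmpty_iff, Nat.beq_eq] at h ⊢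
    rcases h with e | ⟨h1, h2⟩
    · exact Or.inl (by rw [hs₁def, ← e, eα])
    refine Or.inr ⟨?_, ?_⟩
    · refine Bool.eq_false_iff.2 fun e => Nat.ne_of_beq_eq_false h1 ?_
      rw [Nat.beq_eq, ← c.neg_eq hα] at e
      rw [← es, e, c.wl_neg hL hα, c.neg_eq (c.wl_lt hL hα)]
    · rw [List.eq_nil_iff_forall_not_mem]
      intro x hx
      rw [← eα, hs₁def] at hx
      obtain ⟨y, hy, -⟩ := c.commTerms_wl hR (c.wl_lt hL hα) hs hx
      rw [h2] at hy
      exact List.not_mem_nil hy
  have hD := hS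
  simp only [checkSL, Tables.checkSplit, Tables.allNodes, Tables.allRoots, Bool.and_eq_true,
    List.all_eq_true, List.mem_range, Bool.or_eq_true, Bool.not_eq_true', List.any_eq_true] at hD
  have hx := hD.1.2 q (c.rank_eq ▸ hq) s₁ (c.nroots_eq ▸ hs₁)
  rw [← c.simple_eq hq, hcom] at hx
  obtain ⟨b, hb, hb'⟩ := hx.resolve_left Bool.noConfusion
  match hsum : c.T.summand b (D.simple q) with
  | none => rw [hsum] at hb'; simp at hb'
  | some a =>
    rw [hsum] at hb'
    simp only [Bool.and_eq_true, Nat.blt_eq] at hb'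
    obtain ⟨⟨⟨ha, hab⟩, has⟩, hbs⟩ := hb'
    rw [← c.nroots_eq] at ha hb
    obtain ⟨C, hC, hCc⟩ := A.comm_single hS ha hb hab
    show A.cf π hπ (c.wl L (D.simple q)) s t u = 1
    rw [A.cf_conj π hπ hc (A.nw L) (r := D.simple q) (s := s₁)
        (t := (c.wsign L (D.simple q) : F) * t) (u := (c.wsign L s₁ : F) * u)
        (by rw [A.nw_conj hN hL hα, ← mul_assoc, c.wsign_sq, one_mul])
        (by rw [A.nw_conj hN hL hs₁, ← mul_assoc, c.wsign_sq, one_mul, es])]
    suffices e : A.cf π hπ (D.simple q) s₁ ((c.wsign L (D.simple q) : F) * t)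
        ((c.wsign L s₁ : F) * u) = 1 by
      rw [e, mul_one, mul_inv_cancel]
    set v := (c.wsign L (D.simple q) : F) * t
    set w := (c.wsign L s₁ : F) * u
    set pa := pre π hπ (A.X a 1)
    set pb := pre π hπ (A.X b (C * v))
    set y := pre π hπ (A.X s₁ w)
    have key : y * ⁅pa, pb⁆ * y⁻¹ = ⁅pa, pb⁆ := by
      rw [conjugate_commutatorElement]
      refine comm_congr_central π hc ?_ ?_
      · simp only [pa, y, map_mul π, map_inv π, π_pre]
        rw [← (A.comm_of_commutes ha hs₁ has 1 w).eq, mul_inv_cancel_right]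
      · simp only [pb, y, map_mul π, map_inv π, π_pre]
        rw [← (A.comm_of_commutes hb hs₁ hbs (C * v) w).eq, mul_inv_cancel_right]
    rw [cf, comm_congr_central π hc (e' := ⁅pa, pb⁆) (f' := y) (by
      rw [π_pre, map_commutatorElement, π_pre, π_pre, hCc, mul_one, ← mul_assoc, hC, one_mul]) rfl]
    exact commutatorElement_eq_one_iff_mul_comm.2 (mul_inv_eq_iff_eq_mul.1 key).symm

/-- Additivity in the second argument. -/
theorem cf_add {r s k : ℕ} (hr : r < D.nroots) (hs : s < D.nroots)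
    (h : c.T.sumsTo r s k = true) (t u u' : F) :
    A.cf π hπ r s t (u + u') = A.cf π hπ r s t u * A.cf π hπ r s t u' := by
  obtain ⟨-, -, hk, -, -, -, -, hks, -⟩ := sumsTo_single hS hr hs h
  obtain ⟨C, -, hC⟩ := A.comm_single hS hr hs h
  rw [cf, comm_congr_central π hc (e' := pre π hπ (A.X r t))
    (f' := pre π hπ (A.X s u) * pre π hπ (A.X s u')) rfl
    (by rw [map_mul π, π_pre, π_pre, π_pre, A.add s hs])]
  show _ = A.cf π hπ r s t u * A.cf π hπ r s t u'
  have hcm : Commute (A.cf π hπ r s t u') (pre π hπ (A.X s u)) :=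
    A.lc hN hS π hπ hc hk hs hks (by rw [A.π_cf, hC]) (π_pre π hπ _)
  simp only [cf] at hcm ⊢
  rw [show ∀ a b d : E, ⁅a, b * d⁆ = ⁅a, b⁆ * (b * ⁅a, d⁆ * b⁻¹) from fun a b d => by group,
    ← hcm.eq, mul_inv_cancel_right]

/-- The Hall-Witt step. -/
theorem cf_link {r s k r' b : ℕ} (hr : r < D.nroots) (hs : s < D.nroots) (hr' : r' < D.nroots)
    (hb : b < D.nroots) (hk : c.T.sumsTo r s k = true) (hl : c.T.link r s r' b = true) :
    ∃ C C' : F, C * C = 1 ∧ C' * C' = 1 ∧ ∀ t v w : F,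
      A.cf π hπ r s t (C * v * w) = A.cf π hπ r' b (C' * t * v) w := by
  obtain ⟨-, -, hkn, -, -, -, -, hks, -⟩ := sumsTo_single hS hr hs hk
  obtain ⟨C₀, -, hC₀⟩ := A.comm_single hS hr hs hk
  simp only [Tables.link] at hl
  match hsum : c.T.summand b s with
  | none => rw [hsum] at hl; simp at hl
  | some a =>
    rw [hsum] at hl
    simp only [Bool.and_eq_true, Nat.blt_eq] at hl
    obtain ⟨⟨⟨⟨ha, hab⟩, hra⟩, hrb⟩, hr's⟩ := hl
    rw [← c.nroots_eq] at ha
    obtain ⟨C, hC2, hC⟩ := A.comm_single hS ha hb hab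
    obtain ⟨C', hC'2, hC'⟩ := A.comm_single hS hr ha hra
    refine ⟨C, C', hC2, hC'2, fun t v w => ?_⟩
    set x := pre π hπ (A.X r t)
    set pa := pre π hπ (A.X a v)
    set pb := pre π hπ (A.X b w)
    have hσ : π ⁅pa, pb⁆ = A.X s (C * v * w) := by
      rw [map_commutatorElement, π_pre, π_pre, hC]
    have hφ : π ⁅x, pa⁆ = A.X r' (C' * t * v) := by
      rw [map_commutatorElement, π_pre, π_pre, hC']
    rw [cf, cf, comm_congr_central π hc (e' := x) (f' := ⁅pa, pb⁆) rfl (by rw [π_pre, hσ]),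
      comm_congr_central π hc (e := pre π hπ (A.X r' (C' * t * v))) (e' := ⁅x, pa⁆)
        (f := pre π hπ (A.X b w)) (f' := pb) (by rw [π_pre, hφ]) rfl]
    set σ := ⁅pa, pb⁆ with hσdef
    set φ := ⁅x, pa⁆ with hφdef
    have h1 : x * σ * x⁻¹ = ⁅φ * pa, pb⁆ := by
      rw [hσdef, conjugate_commutatorElement]
      refine comm_congr_central π hc ?_ ?_
      · rw [hφdef, commutatorElement_def]; congr 1; group
      · simp only [x, pb, map_mul π, map_inv π, π_pre]
        rw [(A.comm_of_commutes hr hb hrb t w).eq, mul_inv_cancel_right]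
    have h2 : Commute φ σ := A.lc hN hS π hπ hc hr' hs hr's hφ hσ
    have h3 : ⁅φ * pa, pb⁆ = σ * ⁅φ, pb⁆ := by
      rw [show ∀ a b d : E, ⁅a * b, d⁆ = a * ⁅b, d⁆ * a⁻¹ * ⁅a, d⁆ from fun a b d => by group,
        ← hσdef, h2.eq, mul_inv_cancel_right]
    have h4 : π ⁅φ, pb⁆ = π ⁅x, σ⁆ := by
      have e1 : π σ * π ⁅φ, pb⁆ = π x * π σ * (π x)⁻¹ := by
        rw [← map_mul π, ← h3, ← h1, map_mul π, map_mul π, map_inv π]
      have hz : π ⁅x, σ⁆ = A.X k (C₀ * t * (C * v * w)) := by
        rw [map_commutatorElement π, hσ, π_pre, hC₀]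
      have e2 : π x * π σ * (π x)⁻¹ = π ⁅x, σ⁆ * π σ := by
        rw [commutatorElement_def x σ, map_mul π, map_mul π, map_mul π, map_inv π, map_inv π,
          inv_mul_cancel_right]
      have e3 : Commute (π ⁅x, σ⁆) (π σ) := by
        rw [hz, hσ]; exact A.comm_of_commutes hkn hs hks _ _
      rw [e2, e3.eq] at e1
      exact mul_left_cancel e1
    have h5 : Commute ⁅φ, pb⁆ σ := A.lc hN hS π hπ hc hkn hs hks
      (t := C₀ * t * (C * v * w)) (by rw [h4, map_commutatorElement, π_pre, hσ, hC₀]) hσ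
    calc ⁅x, σ⁆ = x * σ * x⁻¹ * σ⁻¹ := commutatorElement_def _ _
      _ = σ * ⁅φ, pb⁆ * σ⁻¹ := by rw [h1, h3]
      _ = ⁅φ, pb⁆ := by rw [← h5.eq, mul_inv_cancel_right]

/-- Commutators of lifts landing on one root are determined by their images. -/
theorem cf_unique {r s r' s' k : ℕ} (hr : r < D.nroots) (hs : s < D.nroots) (hr' : r' < D.nroots)
    (hs' : s' < D.nroots) (h : c.T.sumsTo r s k = true) (h' : c.T.sumsTo r' s' k = true)
    {t u t' u' : F} (e : π (A.cf π hπ r s t u) = π (A.cf π hπ r' s' t' u')) :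
    A.cf π hπ r s t u = A.cf π hπ r' s' t' u' := by
  have hkn := (sumsTo_single hS hr hs h).2.2.1
  obtain ⟨L, q, hL, hq, rfl⟩ := c.exists_wl_simple hkn
  have hR : ∀ p ∈ L.reverse, p < D.rank := fun p hp => hL p (List.mem_reverse.1 hp)
  have hα := c.simple_lt hq
  -- pairs over the fundamental root
  have htr : ∀ {r s : ℕ}, r < D.nroots → s < D.nroots →
      c.T.sumsTo r s (c.wl L (D.simple q)) = true →
      c.T.sumsTo (c.wl L.reverse r) (c.wl L.reverse s) (D.simple q) = true := by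
    intro r s hr hs h
    obtain ⟨n1, n2, -, C, -, hterm, -⟩ := sumsTo_single hS hr hs h
    have hr₁ := c.wl_lt hR hr
    have hs₁ := c.wl_lt hR hs
    have er : c.wl L (c.wl L.reverse r) = r := c.wl_reverse hL hr
    have es : c.wl L (c.wl L.reverse s) = s := c.wl_reverse hL hs
    obtain ⟨y, hy, ey⟩ := c.commTerms_wl hL hr₁ hs₁
      (x := (c.wl L (D.simple q), C, 1, 1)) (by rw [er, es, hterm]; exact List.mem_singleton_self _)
    have hy1 : y.1 = D.simple q := c.wl_inj hL (c.mem_commTerms hr₁ hs₁ hy).1 hα ey.symm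
    have m1 : c.wl L.reverse s ≠ c.wl L.reverse r := fun e => n1 (by rw [← es, e, er])
    have m2 : c.wl L.reverse s ≠ D.neg (c.wl L.reverse r) := fun e => n2 (by
      rw [← es, e, c.wl_neg hL hr₁, er])
    match hm : c.T.commTerms (c.wl L.reverse r) (c.wl L.reverse s) with
    | [] => rw [hm] at hy; exact absurd hy List.not_mem_nil
    | z :: Z =>
      have hst := sumsTo_head hr₁ m1 m2 hm
      obtain ⟨-, -, -, C', -, hone, -⟩ := sumsTo_single hS hr₁ hs₁ hst
      rw [hone, List.mem_singleton] at hy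
      rw [hy] at hy1
      exact hy1 ▸ hst
  have hlk := hS
  simp only [checkSL, Tables.checkLinked, Tables.allNodes, Bool.and_eq_true, List.all_eq_true,
    List.mem_range, List.any_eq_true] at hlk
  obtain ⟨s₀, hs₀, hbase⟩ := hlk.2 q (c.rank_eq ▸ hq)
  rw [← c.simple_eq hq] at hbase
  match hsum : c.T.summand s₀ (D.simple q) with
  | none => rw [hsum] at hbase; simp at hbase
  | some r₀ =>
    rw [hsum] at hbase
    simp only [Bool.and_eq_true, Nat.blt_eq, List.any_eq_true, List.mem_range,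
      Tables.allRoots, List.all_eq_true] at hbase
    obtain ⟨⟨⟨hr₀, h₀⟩, b, hb, hb'⟩, hall⟩ := hbase
    rw [← c.nroots_eq] at hr₀ hs₀ hb
    obtain ⟨C₀, hC₀2, hC₀⟩ := A.comm_single hS hr₀ hs₀ h₀
    let S : Set E := Set.range fun w => A.cf π hπ r₀ s₀ 1 w
    have hlinked : ∀ {r' b : ℕ}, r' < D.nroots → b < D.nroots → c.T.link r₀ s₀ r' b = true →
        ∀ t u, A.cf π hπ r' b t u ∈ S := by
      intro r' b hr' hb hl t u
      obtain ⟨C, C', -, hC', hrel⟩ := A.cf_link hN hS π hπ hc hr₀ hs₀ hr' hb h₀ hl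
      refine ⟨C * (C' * t) * u, (hrel 1 (C' * t) u).trans ?_⟩
      rw [mul_one, ← mul_assoc, hC', one_mul]
    have hbase' : ∀ t u, A.cf π hπ r₀ s₀ t u ∈ S := by
      intro t u
      match hsum' : c.T.summand b (D.simple q) with
      | none => rw [hsum'] at hb'; simp at hb'
      | some r₂ =>
        rw [hsum'] at hb'
        simp only [Bool.and_eq_true, Nat.blt_eq] at hb'
        obtain ⟨hr₂, hl⟩ := hb'
        rw [← c.nroots_eq] at hr₂
        obtain ⟨C, C', hC2, -, hrel⟩ := A.cf_link hN hS π hπ hc hr₀ hs₀ hr₂ hb h₀ hl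
        have e1 := hrel t 1 (C * u)
        rw [mul_one, ← mul_assoc, hC2, one_mul] at e1
        rw [e1]
        exact hlinked hr₂ hb hl _ _
    have hSinv : ∀ x ∈ S, x⁻¹ ∈ S := by
      rintro x ⟨w, rfl⟩
      refine ⟨-w, eq_inv_iff_mul_eq_one.2 ?_⟩
      show A.cf π hπ r₀ s₀ 1 (-w) * A.cf π hπ r₀ s₀ 1 w = 1
      rw [← A.cf_add hN hS π hπ hc hr₀ hs₀ h₀, neg_add_cancel, cf, A.X_zero hs₀]
      refine (comm_congr_central π hc (e' := pre π hπ (A.X r₀ 1)) (f' := 1) rfl
        (by rw [π_pre, map_one])).trans ?_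
      exact commutatorElement_one_right _
    have hall' : ∀ {r s : ℕ}, r < D.nroots → s < D.nroots →
        c.T.sumsTo r s (D.simple q) = true → ∀ t u, A.cf π hπ r s t u ∈ S := by
      intro r s hr hs h t u
      have hx := hall s (c.nroots_eq ▸ hs)
      rw [(sumsTo_single hS hr hs h).2.2.2.choose_spec.2.2.2.2] at hx
      simp only [Bool.or_eq_true, Bool.and_eq_true, Bool.not_eq_true', Nat.beq_eq, h] at hx
      rcases hx with (((h' | ⟨rfl, rfl⟩) | ⟨rfl, rfl⟩) | h') | h'
      · exact Bool.noConfusion h'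
      · exact hbase' t u
      · rw [A.cf_swap]; exact hSinv _ (hbase' u t)
      · exact hlinked hr hs h' t u
      · rw [A.cf_swap]; exact hSinv _ (hlinked hs hr h' u t)
    -- pull back to the fundamental root
    have hpull : ∀ {r s : ℕ}, r < D.nroots → s < D.nroots →
        c.T.sumsTo r s (c.wl L (D.simple q)) = true → ∀ t u,
        ∃ x ∈ S, A.cf π hπ r s t u = pre π hπ (A.nw L) * x * (pre π hπ (A.nw L))⁻¹ := by
      intro r s hr hs h t u
      have hr₁ := c.wl_lt hR hr
      have hs₁ := c.wl_lt hR hs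
      refine ⟨_, hall' hr₁ hs₁ (htr hr hs h) ((c.wsign L (c.wl L.reverse r) : F) * t)
        ((c.wsign L (c.wl L.reverse s) : F) * u), A.cf_conj π hπ hc (A.nw L) ?_ ?_⟩
      · rw [A.nw_conj hN hL hr₁, c.wl_reverse hL hr, ← mul_assoc, c.wsign_sq, one_mul]
      · rw [A.nw_conj hN hL hs₁, c.wl_reverse hL hs, ← mul_assoc, c.wsign_sq, one_mul]
    obtain ⟨_, ⟨w, rfl⟩, e1⟩ := hpull hr hs h t u
    obtain ⟨_, ⟨w', rfl⟩, e2⟩ := hpull hr' hs' h' t' u'
    rw [e1, e2] at e ⊢
    simp only [map_mul π, map_inv π, mul_left_inj, mul_right_inj, A.π_cf, hC₀, mul_one] at e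
    have := A.X_inj hα e
    rw [mul_right_inj' (left_ne_zero_of_mul_eq_one hC₀2)] at this
    rw [this]

omit A hN hπ hc in
theorem exists_sum {k : ℕ} (hk : k < D.nroots) :
    ∃ a b, a < D.nroots ∧ b < D.nroots ∧ c.T.sumsTo a b k = true := by
  have hA := hS
  simp only [checkSL, Tables.checkSum, Tables.allRoots, Bool.and_eq_true, List.all_eq_true,
    List.mem_range, List.any_eq_true] at hA
  obtain ⟨b, hb, hb'⟩ := hA.1.1.2 k (c.nroots_eq ▸ hk)
  match hsum : c.T.summand b k with
  | none => rw [hsum] at hb'; simp at hb'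
  | some a =>
    rw [hsum] at hb'
    simp only [Bool.and_eq_true, Nat.blt_eq] at hb'
    exact ⟨a, b, c.nroots_eq.symm ▸ hb'.1, c.nroots_eq.symm ▸ hb, hb'.2⟩

/-- The lifted root elements. -/
theorem exists_lifts : ∃ Y : ℕ → F → E,
    (∀ r < D.nroots, ∀ t, π (Y r t) = A.X r t) ∧
    (∀ r < D.nroots, ∀ t u, Y r t * Y r u = Y r (t + u)) ∧
    (∀ r < D.nroots, ∀ s < D.nroots, s ≠ r → s ≠ D.neg r → ∀ t u,
      Y s u * Y r t = Y r t * Y s u *
        ((c.T.commTerms r s).map fun x =>
          Y x.1 ((x.2.1 : F) * (-t) ^ x.2.2.1 * u ^ x.2.2.2)).prod) := by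
  classical
  have hex : ∀ k, ∃ Y : F → E, k < D.nroots → ∃ a b, a < D.nroots ∧ b < D.nroots ∧
      c.T.sumsTo a b k = true ∧ (∀ t, π (Y t) = A.X k t) ∧
      ∃ C : F, ∀ t, Y t = A.cf π hπ a b 1 (C * t) := by
    intro k
    by_cases hk : k < D.nroots
    · obtain ⟨a, b, ha, hb, hab⟩ := exists_sum hS hk
      obtain ⟨C, hC2, hC⟩ := A.comm_single hS ha hb hab
      refine ⟨fun t => A.cf π hπ a b 1 (C * t), fun _ => ⟨a, b, ha, hb, hab, fun t => ?_, C,
        fun t => rfl⟩⟩
      rw [A.π_cf, hC, mul_one, ← mul_assoc, hC2, one_mul]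
    · exact ⟨fun _ => 1, fun h => absurd h hk⟩
  choose Y hY using hex
  have hπY : ∀ r < D.nroots, ∀ t, π (Y r t) = A.X r t := fun r hr => by
    obtain ⟨a, b, -, -, -, h, -⟩ := hY r hr
    exact h
  have hadd : ∀ r < D.nroots, ∀ t u, Y r t * Y r u = Y r (t + u) := fun r hr t u => by
    obtain ⟨a, b, ha, hb, hab, -, C, h⟩ := hY r hr
    rw [h, h, h, mul_add, A.cf_add hN hS π hπ hc ha hb hab]
  refine ⟨Y, hπY, hadd, fun r hr s hs h1 h2 t u => ?_⟩
  have hinv : ∀ r < D.nroots, ∀ t, (Y r t)⁻¹ = Y r (-t) := fun r hr t => by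
    have h0 : Y r 0 = 1 := by
      have := hadd r hr 0 0
      rwa [add_zero, mul_eq_left] at this
    rw [inv_eq_iff_mul_eq_one, hadd r hr, add_neg_cancel, h0]
  have hΓ := A.comm r hr s hs h1 h2 t u
  match hL : c.T.commTerms r s with
  | [] =>
    rw [List.map_nil, List.prod_nil, mul_one]
    refine (A.lc hN hS π hπ hc hs hr ?_ (hπY s hs u) (hπY r hr t)).eq
    have h2' : r ≠ D.neg s := fun e => h2 (by rw [e, c.neg_neg hs])
    simp only [Tables.commutes, Bool.or_eq_true, Bool.and_eq_true, Bool.not_eq_true',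
      List.isEmpty_iff, Nat.beq_eq]
    refine Or.inr ⟨Bool.eq_false_iff.2 fun e => h2' (by
      rw [c.neg_eq hs]; exact Nat.eq_of_beq_eq_true e), ?_⟩
    -- otherwise the two root elements would not commute
    match hM : c.T.commTerms s r with
    | [] => rfl
    | z :: Z =>
      exfalso
      have hst := sumsTo_head hs (Ne.symm h1) h2' hM
      obtain ⟨-, -, hk, -⟩ := sumsTo_single hS hs hr hst
      obtain ⟨C', hC2, hC'⟩ := A.comm_single hS hs hr hst
      have h0 := A.comm r hr s hs h1 h2 1 1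
      rw [hL, List.map_nil, List.prod_nil, mul_one, ← commutatorElement_eq_one_iff_mul_comm,
        hC', ← A.X_zero hk] at h0
      have := A.X_inj hk h0
      simp only [mul_one] at this
      exact left_ne_zero_of_mul_eq_one hC2 this
  | x :: L =>
    have hst := sumsTo_head hr h1 h2 hL
    obtain ⟨-, -, hk, C, -, hL', hkr, hks, -⟩ := sumsTo_single hS hr hs hst
    rw [hL] at hL'
    rw [hL'] at hL ⊢
    rw [hL] at hΓ
    simp only [List.map_cons, List.map_nil, List.prod_cons, List.prod_nil, mul_one] at hΓ ⊢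
    -- the commutator of the lifts
    have hst' := A.comm_single hS hr hs hst
    obtain ⟨C₁, -, hC₁⟩ := hst'
    obtain ⟨a, b, ha, hb, hab, -, C₂, hC₂⟩ := hY x.1 hk
    set w := (C : F) * (-t) ^ 1 * u ^ 1
    have e1 : A.cf π hπ r s (-t) u = Y x.1 w := by
      rw [hC₂]
      refine A.cf_unique hN hS π hπ hc hr hs ha hb hst hab ?_
      rw [← hC₂, hπY _ hk, A.π_cf, commutatorElement_def, A.X_inv hr, A.X_inv hs, neg_neg,
        mul_assoc (A.X r (-t)), hΓ,
        show A.X r (-t) * (A.X r t * A.X s u * A.X x.1 w) * A.X s (-u) =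
          (A.X r (-t) * A.X r t) * (A.X s u * A.X x.1 w) * A.X s (-u) by group,
        A.add r hr, neg_add_cancel, A.X_zero hr, one_mul,
        ← (A.comm_of_commutes hk hs hks w u).eq, mul_assoc, A.add s hs, add_neg_cancel,
        A.X_zero hs, mul_one]
    have e2 : Commute (Y x.1 w) (Y s u) :=
      A.lc hN hS π hπ hc hk hs hks (hπY _ hk _) (hπY s hs u)
    rw [cf, comm_congr_central π hc (e' := Y r (-t)) (f' := Y s u)
      (by rw [π_pre, hπY r hr]) (by rw [π_pre, hπY s hs]), commutatorElement_def, hinv r hr,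
      neg_neg] at e1
    rw [mul_assoc, ← e2.eq, ← e1, ← hinv r hr]
    group

end SimplyLaced

end StData

namespace CertFull

variable {D : ChevalleyDatum} (c : CertFull D) (F : Type u) [Field F]
include c

/-- Central extensions of the cover split. -/
theorem exists_section_SL (hN : checkNbr c.T = true) (hS : checkSL c.T = true) {E : Type u}
    [Group E] (π : E →* D.SteinbergCover F) (hπ : Function.Surjective π)
    (hc : π.ker ≤ Subgroup.center E) :
    ∃ τ : D.SteinbergCover F →* E, π.comp τ = MonoidHom.id _ := by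
  obtain ⟨Y, hπY, hadd, hcomm⟩ := (c.stCoverData F).exists_lifts hN hS π hπ hc
  have hX : ∀ {r : ℕ} (hr : r < D.nroots) (t : F), FreeGroup.lift
      (fun x : Fin D.nroots × F => Y x.1 x.2) (D.stX r t) = Y r t := fun {r} hr t => by
    rw [ChevalleyDatum.stX, dif_pos hr, FreeGroup.lift_apply_of]
  have hrel : ∀ g ∈ D.steinbergRelsAB F, FreeGroup.lift
      (fun x : Fin D.nroots × F => Y x.1 x.2) g = 1 := by
    rintro g (⟨r, t, u, hr, rfl⟩ | ⟨r, s, t, u, hr, hs, h1, h2, rfl⟩)
    · simp only [map_mul, map_inv, hX hr, hadd r hr, mul_inv_cancel]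
    · rw [map_mul, map_inv, mul_inv_eq_one]
      simp only [map_mul, map_inv, hX hr, hX hs]
      rw [ChevalleyDatum.stWord, ChevalleyDatum.commWord, c.commTerms_eq hr hs, map_list_prod,
        List.map_map, List.map_map, mul_assoc _ (Y s u), hcomm r hr s hs h1 h2]
      have key : ∀ a b z : E, a⁻¹ * b⁻¹ * (b * a * z) = z := fun a b z => by group
      rw [key]
      exact congrArg List.prod (List.map_congr_left fun x hx =>
        (hX (c.mem_commTerms hr hs hx).1 _).symm)
  refine ⟨PresentedGroup.toGroup hrel, PresentedGroup.ext fun x => ?_⟩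
  rw [MonoidHom.comp_apply, PresentedGroup.toGroup.of, hπY x.1 x.1.2]
  show PresentedGroup.mk _ (D.stX x.1 x.2) = _
  rw [ChevalleyDatum.stX, dif_pos x.1.2]
  rfl

omit c in
/-- Split central extensions give lifts. -/
theorem exists_lift_of_split {Δ : Type u} [Group Δ]
    (h : ∀ (E : Type u) [Group E] (π : E →* Δ), Function.Surjective π →
      π.ker ≤ Subgroup.center E → ∃ τ : Δ →* E, π.comp τ = MonoidHom.id _)
    {G E : Type u} [Group G] [Group E] (p : E →* G) (hp : Function.Surjective p)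
    (hc : p.ker ≤ Subgroup.center E) (σ : Δ →* G) : ∃ τ : Δ →* E, p.comp τ = σ := by
  let P : Subgroup (E × Δ) :=
    (p.comp (MonoidHom.fst _ _)).eqLocus (σ.comp (MonoidHom.snd _ _))
  let π : ↥P →* Δ := (MonoidHom.snd _ _).comp P.subtype
  have hπ : Function.Surjective π := fun x => by
    obtain ⟨e, he⟩ := hp (σ x)
    exact ⟨⟨(e, x), he⟩, rfl⟩
  have hcπ : π.ker ≤ Subgroup.center ↥P := by
    rintro ⟨⟨e, x⟩, hex⟩ he
    obtain rfl : x = 1 := he
    have he' : e ∈ p.ker := by
      rw [MonoidHom.mem_ker]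
      exact (show p e = σ 1 from hex).trans (map_one σ)
    rw [Subgroup.mem_center_iff]
    rintro ⟨⟨f, y⟩, hfy⟩
    exact Subtype.ext (Prod.ext (Subgroup.mem_center_iff.1 (hc he') f)
      ((mul_one y).trans (one_mul y).symm))
  obtain ⟨τ, hτ⟩ := h _ π hπ hcπ
  refine ⟨((MonoidHom.fst _ _).comp P.subtype).comp τ, MonoidHom.ext fun x => ?_⟩
  have h1 : p (τ x).1.1 = σ (τ x).1.2 := (τ x).2
  have h2 : (τ x).1.2 = x := DFunLike.congr_fun hτ x
  rw [h2] at h1
  exact h1

/-- The multiplier in the simply-laced case. -/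
theorem schurMultiplier_SL [Finite F] (hN : checkNbr c.T = true) (hS : checkSL c.T = true)
    (hP : checkPerfect c.T = true)
    {n : ℕ} (hcard : Nat.card (Subgroup.center (D.SteinbergCover F)) = n) (hn : n = 1 ∨ n.Prime) :
    Cfsg.HasCyclicSchurMultiplier ↥(D.group F) n :=
  c.schurMultiplier_of_lift F hN ((c.stCoverData F).perfect hN hP)
    (fun _ _ π hπ hc => exists_lift_of_split (fun _ _ π' h1 h2 =>
      c.exists_section_SL F hN hS π' h1 h2) π hπ hc _) hcard hn

end CertFull

end Cfsg.Agent.Lie.Chev
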