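import Cfsg.Agent.Lib.Lie.Chev.Subfield
import Cfsg.Agent.Lib.Lie.Chev.Order
import Cfsg.Prelude.Def_ChevAutomorphisms
import Mathlib.FieldTheory.Finite.GaloisField

/-! Fixed points of field automorphisms of finite Chevalley groups, and involutory field
automorphisms in characteristic two. -/

set_option autoImplicit false

namespace Cfsg.Agent.Lie.Chev

open Cfsg.Lie Matrix

variable {D : ChevalleyDatum} {F : Type*} [Field F]

theorem x_mapHom {K : Type*} [Field K] (ι : K →+* F) (r : ℕ) (t : K) :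
    (D.x K r t).map ι = D.x F r (ι t) := by
  unfold ChevalleyDatum.x
  split
  · ext i j
    rcases i with i | u <;> rcases j with j | s <;>
      simp only [ChevalleyDatum.xMat, Matrix.map_apply, Matrix.of_apply] <;>
      (repeat' split) <;>
      simp [List.map_map, Function.comp_def, map_list_sum]
  · rw [Matrix.map_one _ (map_zero ι) (map_one ι)]

/-- The fixed field of an automorphism of a finite field. -/
theorem exists_fixed_field [Fintype F] (σ : RingAut F) :
    ∃ (F₀ : Type) (_ : Field F₀) (_ : Fintype F₀) (ι : F₀ →+* F),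
      Set.range ι = {t | σ t = t} ∧ Fintype.card F = Fintype.card F₀ ^ orderOf σ := by
  classical
  haveI : Finite (RingAut F) := Finite.of_injective (fun e : RingAut F => (e : F → F)) DFunLike.coe_injective
  letI : Fintype (Subgroup.zpowers σ) := Fintype.ofFinite _
  haveI : FaithfulSMul (Subgroup.zpowers σ) F := ⟨fun h => Subtype.ext (RingEquiv.ext h)⟩
  let E := FixedPoints.subfield (Subgroup.zpowers σ) F
  letI : Fintype E := Fintype.ofFinite _
  obtain ⟨p, hp⟩ := CharP.exists E
  obtain ⟨n, hpp, hn⟩ := FiniteField.card E p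
  haveI := Fact.mk hpp
  letI : Fintype (GaloisField p n) := Fintype.ofFinite _
  have hcard : Fintype.card (GaloisField p n) = Fintype.card E := by
    rw [hn, ← Nat.card_eq_fintype_card]; exact GaloisField.card p n n.ne_zero
  refine ⟨GaloisField p n, inferInstance, inferInstance,
    E.subtype.comp (FiniteField.ringEquivOfCardEq hcard).toRingHom, Set.ext fun t => ?_, ?_⟩
  · constructor
    · rintro ⟨y, rfl⟩
      exact (FiniteField.ringEquivOfCardEq hcard y).2 ⟨σ, Subgroup.mem_zpowers σ⟩
    · intro ht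
      have hmem : t ∈ E := by
        rintro ⟨g, hg⟩
        have hle : Subgroup.zpowers σ ≤ MulAction.stabilizer (RingAut F) t := Subgroup.zpowers_le.2 ht
        exact hle hg
      obtain ⟨y, hy⟩ := (FiniteField.ringEquivOfCardEq hcard).surjective ⟨t, hmem⟩
      exact ⟨y, congrArg Subtype.val hy⟩
  · rw [hcard, Module.card_eq_pow_finrank (K := E) (V := F),
      FixedPoints.finrank_eq_card (Subgroup.zpowers σ) F, ← Nat.card_eq_fintype_card
        (α := Subgroup.zpowers σ), Nat.card_zpowers]

namespace CertFull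

variable (c : CertFull D)

include c

theorem xg_mapHom {K : Type*} [Field K] (ι : K →+* F) (r : ℕ) (t : K) :
    Matrix.GeneralLinearGroup.map ι (c.xg r t) = c.xg r (ι t) := Units.ext (x_mapHom ι r t)

theorem group_mapHom {K : Type*} [Field K] {ι : K →+* F} {σ : F →+* F}
    (hι : Set.range ι = {t | σ t = t}) :
    (D.group K).map (Matrix.GeneralLinearGroup.map (n := D.Idx) ι) = fixedRootGroup D σ := by
  refine le_antisymm ?_ ((Subgroup.closure_le _).2 ?_)
  · rw [c.group_eq, MonoidHom.map_closure, Subgroup.closure_le]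
    rintro _ ⟨g, ⟨r, hr, t, rfl⟩, rfl⟩
    refine Subgroup.subset_closure ⟨r, ι t, ?_, by rw [c.xg_mapHom]; rfl⟩
    exact hι.le ⟨t, rfl⟩
  · rintro g ⟨s, t, ht, hg⟩
    obtain rfl := c.eq_xg_iff.1 hg
    obtain ⟨y, rfl⟩ := hι.ge ht
    by_cases hs : s < D.nroots
    · exact ⟨c.xg s y, c.xg_mem_group hs y, c.xg_mapHom ι s y⟩
    · have e : c.xg s (ι y) = 1 := Units.ext (by simp [ChevalleyDatum.x, hs])
      rw [SetLike.mem_coe, e]
      exact one_mem _

theorem torus_injective [Fintype F]
    (hH : Nat.card (D.diagonalSubgroup F) = (Fintype.card F - 1) ^ D.rank) :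
    ∀ z z' : ℕ → Fˣ, c.torus z = c.torus z' → ∀ i < D.rank, z i = z' i := by
  classical
  have hloc : ∀ z z' : ℕ → Fˣ, (∀ i < D.rank, z i = z' i) → c.torus z = c.torus z' := fun z z' h => by
    rw [c.torus_eq_prod, c.torus_eq_prod]
    congr 1
    exact List.map_congr_left fun i hi => by rw [h i (List.mem_range.1 hi)]
  let f : (Fin D.rank → Fˣ) → D.diagonalSubgroup F := fun z =>
    ⟨c.torus (fun i => if h : i < D.rank then z ⟨i, h⟩ else 1), c.torus_mem _⟩
  have hfs : Function.Surjective f := fun g => by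
    obtain ⟨z, hz⟩ : (g : GL D.Idx F) ∈ (c.torus (F := F)).range := by
      rw [← c.diagonalSubgroup_eq]; exact g.2
    exact ⟨fun i => z i, Subtype.ext ((hloc _ _ fun i hi => by rw [dif_pos hi]).trans hz)⟩
  have hcard : Nat.card (Fin D.rank → Fˣ) = Nat.card (D.diagonalSubgroup F) := by
    rw [hH, Nat.card_fun, Nat.card_units, Nat.card_fin, Nat.card_eq_fintype_card]
  have hfi := (hfs.bijective_of_nat_card_le hcard.le).1
  intro z z' e i hi
  exact congrFun (hfi (a₁ := fun j : Fin D.rank => z j) (a₂ := fun j : Fin D.rank => z' j)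
    (Subtype.ext (((hloc _ _ fun j hj => by rw [dif_pos hj]).trans e).trans
      (hloc _ _ fun j hj => by rw [dif_pos hj])))) ⟨i, hi⟩

theorem torus_map (σ : F →+* F) (z : ℕ → Fˣ) :
    Matrix.GeneralLinearGroup.map σ (c.torus z) =
      c.torus (fun i => Units.map (σ : F →* F) (z i)) := by
  rw [c.torus_eq_prod, c.torus_eq_prod, map_list_prod, List.map_map]
  congr 1
  exact List.map_congr_left fun i _ => by
    simp only [Function.comp_apply, Cert.hg, map_mul, c.ng_map, map_neg, map_one,
      Units.coe_map, MonoidHom.coe_coe]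

/-- The fixed points are generated by the fixed root elements when the torus is simply connected. -/
theorem fixed_mem [Fintype F]
    (hH : Nat.card (D.diagonalSubgroup F) = (Fintype.card F - 1) ^ D.rank) {σ : F →+* F}
    {g : GL D.Idx F} (hg : g ∈ D.group F) (hfix : Matrix.GeneralLinearGroup.map σ g = g) :
    g ∈ fixedRootGroup D σ := by
  obtain ⟨l, hl, a, ha, hfa, rfl⟩ := c.exists_fixed_mul hg hfix
  refine mul_mem hl ?_
  rw [c.diagonalSubgroup_eq] at ha
  obtain ⟨z, rfl⟩ := ha
  rw [c.torus_map] at hfa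
  have hz := c.torus_injective hH _ _ hfa
  rw [c.torus_eq_prod]
  refine Subgroup.list_prod_mem _ fun g hg => ?_
  obtain ⟨i, hi, rfl⟩ := List.mem_map.1 hg
  have hzi : σ (z i : F) = (z i : F) := congrArg Units.val (hz i (List.mem_range.1 hi))
  have hn : ∀ t : F, σ t = t → c.ng (D.simple i) t ∈ fixedRootGroup D σ := fun t ht =>
    mul_mem (mul_mem (Subgroup.subset_closure ⟨_, _, ht, rfl⟩)
      (Subgroup.subset_closure ⟨_, _, by rw [map_neg, map_inv₀, ht], rfl⟩))
      (Subgroup.subset_closure ⟨_, _, ht, rfl⟩)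
  exact mul_mem (hn _ hzi) (hn _ (by simp))

theorem fieldAut_eq {φ : ↥(D.group F) ≃* ↥(D.group F)} {σ : RingAut F}
    (hσ : ∀ (g : ↥(D.group F)) (r : ℕ) (t : F), r < D.nroots →
      ((g : GL D.Idx F) : Matrix D.Idx D.Idx F) = D.x F r t →
      ((φ g : GL D.Idx F) : Matrix D.Idx D.Idx F) = D.x F r (σ t)) (g : ↥(D.group F)) :
    (φ g : GL D.Idx F) = Matrix.GeneralLinearGroup.map σ.toRingHom (g : GL D.Idx F) := by
  obtain ⟨g, hg⟩ := g
  have hg' : g ∈ Subgroup.closure {g | ∃ r < D.nroots, ∃ t : F, g = c.xg r t} := by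
    rw [← c.group_eq]; exact hg
  induction hg' using Subgroup.closure_induction with
  | mem g hg' =>
    obtain ⟨r, hr, t, rfl⟩ := hg'
    exact Units.ext ((hσ _ r t hr rfl).trans (x_map σ.toRingHom r t).symm)
  | one =>
    rw [show (⟨1, hg⟩ : ↥(D.group F)) = 1 from rfl, map_one]
    simp
  | mul a b ha hb iha ihb =>
    rw [show (⟨a * b, hg⟩ : ↥(D.group F)) = ⟨a, by rwa [c.group_eq]⟩ * ⟨b, by rwa [c.group_eq]⟩ from rfl,
      map_mul, Subgroup.coe_mul, iha, ihb]
    simp
  | inv a ha iha =>
    rw [show (⟨a⁻¹, hg⟩ : ↥(D.group F)) = (⟨a, by rwa [c.group_eq]⟩)⁻¹ from rfl, map_inv,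
      Subgroup.coe_inv, iha]
    simp

/-- The order of the field automorphism is that of the automorphism of the field. -/
theorem fieldAut_orderOf {φ : MulAut ↥(D.group F)} {σ : RingAut F}
    (hσ : ∀ (g : ↥(D.group F)) (r : ℕ) (t : F), r < D.nroots →
      ((g : GL D.Idx F) : Matrix D.Idx D.Idx F) = D.x F r t →
      ((φ g : GL D.Idx F) : Matrix D.Idx D.Idx F) = D.x F r (σ t)) : orderOf φ = orderOf σ := by
  have hpow : ∀ (k : ℕ) (r : ℕ) (hr : r < D.nroots) (t : F),
      ((φ ^ k) ⟨c.xg r t, c.xg_mem_group hr t⟩ : ↥(D.group F)) =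
        ⟨c.xg r ((σ ^ k) t), c.xg_mem_group hr _⟩ := by
    intro k
    induction k with
    | zero => intro r hr t; rfl
    | succ k ih =>
      intro r hr t
      rw [pow_succ', MulAut.mul_apply, ih r hr t]
      refine Subtype.ext ?_
      rw [c.fieldAut_eq hσ, c.xg_map, pow_succ']
      rfl
  refine orderOf_eq_orderOf_iff.2 fun k => ⟨fun h => ?_, fun h => ?_⟩
  · refine RingEquiv.ext fun t => ?_
    have hr : D.simple 0 < D.nroots := c.simple_lt c.one_le_rank
    have e := hpow k _ hr t
    rw [h, MulAut.one_apply] at e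
    exact (c.xg_inj hr (congrArg Subtype.val e)).symm
  · refine MulEquiv.ext fun g => ?_
    obtain ⟨g, hg⟩ := g
    have hg' : g ∈ Subgroup.closure {g | ∃ r < D.nroots, ∃ t : F, g = c.xg r t} := by
      rw [← c.group_eq]; exact hg
    rw [MulAut.one_apply]
    induction hg' using Subgroup.closure_induction with
    | mem g hg' =>
      obtain ⟨r, hr, t, rfl⟩ := hg'
      rw [hpow k r hr t]
      refine Subtype.ext ?_
      rw [h]
      rfl
    | one => exact map_one _
    | mul a b ha hb iha ihb =>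
      rw [show (⟨a * b, hg⟩ : ↥(D.group F)) = ⟨a, by rwa [c.group_eq]⟩ * ⟨b, by rwa [c.group_eq]⟩ from rfl,
        map_mul, iha, ihb]
    | inv a ha iha =>
      rw [show (⟨a⁻¹, hg⟩ : ↥(D.group F)) = (⟨a, by rwa [c.group_eq]⟩)⁻¹ from rfl, map_inv, iha]

/-- The fixed points of a field automorphism form the group over the fixed field. -/
theorem fieldAut_fixed [Fintype F]
    (hH : Nat.card (D.diagonalSubgroup F) = (Fintype.card F - 1) ^ D.rank)
    {φ : MulAut ↥(D.group F)} (hφ : D.IsFieldAut φ) :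
    ∃ (F₀ : Type) (_ : Field F₀) (_ : Fintype F₀), Fintype.card F = Fintype.card F₀ ^ orderOf φ ∧
      Nonempty (↥((MulEquiv.toMonoidHom φ).eqLocus (MonoidHom.id ↥(D.group F))) ≃* ↥(D.group F₀)) := by
  obtain ⟨σ, hσ⟩ := hφ
  change ∀ (g : ↥(D.group F)) (r : ℕ) (t : F), r < D.nroots → _ at hσ
  obtain ⟨F₀, i1, i2, ι, hι, hcard⟩ := exists_fixed_field σ
  refine ⟨F₀, i1, i2, by rw [c.fieldAut_orderOf hσ]; exact hcard, ?_⟩
  set ψ := Matrix.GeneralLinearGroup.map (n := D.Idx) ι
  have hψ : Function.Injective ψ := fun a b h => Units.ext (Matrix.ext fun i j =>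
    ι.injective (congrArg (fun g : GL D.Idx F => (g : Matrix D.Idx D.Idx F) i j) h))
  have hle : fixedRootGroup D σ.toRingHom ≤ D.group F := by
    refine (Subgroup.closure_le _).2 ?_
    rintro g ⟨s, t, -, hg⟩
    obtain rfl := c.eq_xg_iff.1 hg
    by_cases hs : s < D.nroots
    · exact c.xg_mem_group hs t
    · rw [SetLike.mem_coe, show c.xg s t = 1 from Units.ext (by simp [ChevalleyDatum.x, hs])]
      exact one_mem _
  have heq : ((MulEquiv.toMonoidHom φ).eqLocus (MonoidHom.id ↥(D.group F))).map (D.group F).subtype =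
      (D.group F₀).map ψ := by
    rw [c.group_mapHom (σ := σ.toRingHom) hι]
    ext g
    constructor
    · rintro ⟨⟨g, hg⟩, hfix, rfl⟩
      have hfix' : φ ⟨g, hg⟩ = ⟨g, hg⟩ := hfix
      exact c.fixed_mem hH hg ((c.fieldAut_eq hσ ⟨g, hg⟩).symm.trans (congrArg Subtype.val hfix'))
    · intro hg
      refine ⟨⟨g, hle hg⟩, Subtype.ext ((c.fieldAut_eq hσ ⟨g, hle hg⟩).trans ?_), rfl⟩
      show Matrix.GeneralLinearGroup.map σ.toRingHom g = g
      induction hg using Subgroup.closure_induction with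
      | mem g hg =>
        obtain ⟨s, t, ht, hg⟩ := hg
        obtain rfl := c.eq_xg_iff.1 hg
        rw [c.xg_map, ht]
      | one => exact map_one _
      | mul a b _ _ ha hb => rw [map_mul, ha, hb]
      | inv a _ ha => rw [map_inv, ha]
  exact ⟨(Subgroup.equivMapOfInjective _ _ (Subgroup.subtype_injective _)).trans
    ((MulEquiv.subgroupCongr heq).trans (Subgroup.equivMapOfInjective _ _ hψ).symm)⟩

/-- Filtration step for an involutory field automorphism in characteristic two. -/
theorem exists_U_split [CharP F 2] {σ : F →+* F}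
    (htr : ∀ t : F, t + σ t = 0 → ∃ y, y + σ y = t) :
    ∀ (d m : ℕ), D.nroots - m = d → c.T.h ≤ m → ∀ u ∈ c.K F m,
      u * Matrix.GeneralLinearGroup.map σ u = 1 →
      ∃ k ∈ c.K F m, k⁻¹ * u * Matrix.GeneralLinearGroup.map σ k = 1 := by
  intro d
  induction d with
  | zero =>
    intro m hd _ u hu _
    rw [c.K_eq_bot (by omega), Subgroup.mem_bot] at hu
    exact ⟨1, one_mem _, by simp [hu]⟩
  | succ d ih =>
    intro m hd hm u hu he
    have hm' : m < D.nroots := by omega
    have hpos : c.Pos m := ⟨hm, hm'⟩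
    obtain ⟨t, rfl⟩ := c.exists_oprod _ m rfl hm u hu
    rw [c.oprod_succ hm'] at hu he ⊢
    set φ := Matrix.GeneralLinearGroup.map (n := D.Idx) σ
    set r := c.oprod (m + 1) t with hr
    have hrK : r ∈ c.K F (m + 1) := c.oprod_mem (by omega) t
    have hφr : φ r ∈ c.K F (m + 1) := by
      rw [hr, c.oprod_map]; exact c.oprod_mem (by omega) _
    rw [map_mul, c.xg_map] at he
    have hconj : ∀ a : F, ∀ w ∈ c.K F (m + 1), c.xg m a * w * c.xg m (-a) ∈ c.K F (m + 1) :=
      fun a w hw => by rw [← c.xg_inv]; exact c.xg_conj_mem_K hpos a hw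
    have hw : c.xg m (-σ (t m)) * r * c.xg m (σ (t m)) ∈ c.K F (m + 1) := by
      have := hconj (-σ (t m)) r hrK
      rwa [neg_neg] at this
    have he2 : c.xg m (t m + σ (t m)) * ((c.xg m (-σ (t m)) * r * c.xg m (σ (t m))) * φ r) =
        c.xg m 0 * 1 := by
      rw [c.xg_zero, one_mul, ← he, c.xg_add, ← c.xg_inv]
      group
    obtain ⟨ht, -⟩ := c.xg_mul_K_inj hpos (mul_mem hw hφr) (one_mem _) he2
    obtain ⟨y, hy⟩ := htr _ ht
    have h2 : -y + t m + σ y = 0 := by
      rw [← hy]; ring_nf; rw [show (2 : F) = 0 from CharTwo.two_eq_zero, mul_zero]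
    set v := (c.xg m y)⁻¹ * (c.xg m (t m) * r) * φ (c.xg m y) with hv
    have hvK : v ∈ c.K F (m + 1) := by
      have e : v = c.xg m (-y + t m + σ y) * (c.xg m (-σ y) * r * c.xg m (σ y)) := by
        rw [hv, c.xg_map, c.xg_inv, c.xg_add, c.xg_add, ← c.xg_inv m (σ y)]
        group
      rw [e, h2, c.xg_zero, one_mul]
      have := hconj (-σ y) r hrK
      rwa [neg_neg] at this
    have hφφ : ∀ g : GL D.Idx F, φ (φ g) = Matrix.GeneralLinearGroup.map (σ.comp σ) g :=
      fun g => Units.ext (Matrix.ext fun i j => rfl)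
    have hve : v * φ v = 1 := by
      have hyy : σ (σ y) = y := by
        have h3 := congrArg σ hy
        rw [map_add] at h3
        rw [← hy] at ht
        have : y + σ (σ y) = 0 := by
          rw [map_add] at ht
          linear_combination ht - (CharTwo.two_eq_zero (R := F)) * σ y
        rw [← CharTwo.add_eq_zero.1 this]
      rw [hv, map_mul, map_mul, map_inv, map_mul, c.xg_map, c.xg_map, c.xg_map, hyy]
      calc (c.xg m y)⁻¹ * (c.xg m (t m) * r) * c.xg m (σ y) *
            ((c.xg m (σ y))⁻¹ * (c.xg m (σ (t m)) * φ r) * c.xg m y)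
          = (c.xg m y)⁻¹ * (c.xg m (t m) * r * (c.xg m (σ (t m)) * φ r)) * c.xg m y := by group
        _ = 1 := by rw [he]; group
    obtain ⟨k, hk, hk'⟩ := ih (m + 1) (by omega) (by omega) v hvK hve
    refine ⟨c.xg m y * k, mul_mem (c.xg_mem_K hpos le_rfl y) (c.K_le (by omega) hk), ?_⟩
    rw [← hk', hv, map_mul]
    group

/-- Involutory field automorphisms in characteristic two: a single class of involutions. -/
theorem fieldAut_coset [Fintype F] [CharP F 2]
    (hodd : ¬ 2 ∣ ((D.posUnipotent F).subgroupOf (D.group F)).index)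
    {φ : MulAut ↥(D.group F)} (hφ : D.IsFieldAut φ) (h2 : orderOf φ = 2)
    (g : ↥(D.group F)) (hg : g * φ g = 1) : ∃ h : ↥(D.group F), g = h⁻¹ * φ h := by
  classical
  obtain ⟨σ, hσ⟩ := hφ
  change ∀ (g : ↥(D.group F)) (r : ℕ) (t : F), r < D.nroots → _ at hσ
  haveI : Fact (Nat.Prime 2) := ⟨Nat.prime_two⟩
  have hσ2 : ∀ t, σ (σ t) = t := by
    have h : σ ^ 2 = 1 := by rw [← h2, c.fieldAut_orderOf hσ, pow_orderOf_eq_one]
    intro t
    have := RingEquiv.congr_fun h t
    rwa [pow_two] at this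
  have hφ2 : ∀ x : ↥(D.group F), φ (φ x) = x := by
    intro x
    have h : φ ^ 2 = 1 := by rw [← h2, pow_orderOf_eq_one]
    have := MulEquiv.congr_fun h x
    rwa [pow_two] at this
  set U := (D.posUnipotent F).subgroupOf (D.group F) with hU
  have hφU : ∀ x ∈ U, φ x ∈ U := by
    intro x hx
    rw [hU, Subgroup.mem_subgroupOf, c.fieldAut_eq hσ]
    exact c.U_map _ hx
  let τ : Equiv.Perm (↥(D.group F) ⧸ U) := Function.Involutive.toPerm
    (Quotient.map' (fun k => g * φ k) fun a b hab => by
      rw [QuotientGroup.leftRel_apply] at hab ⊢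
      rw [show (g * φ a)⁻¹ * (g * φ b) = φ (a⁻¹ * b) by rw [map_mul, map_inv]; group]
      exact hφU _ hab)
    (fun q => by
      induction q using Quotient.inductionOn' with
      | h a =>
        show Quotient.mk'' (g * φ (g * φ a)) = Quotient.mk'' a
        rw [map_mul, hφ2, ← mul_assoc, hg, one_mul])
  obtain ⟨q, hq⟩ := Equiv.Perm.exists_fixed_point_of_prime (p := 2) (n := 1) (σ := τ)
    (by rw [← Nat.card_eq_fintype_card, ← Subgroup.index_eq_card]; exact hodd)
    (by rw [pow_one, pow_two]; exact Equiv.ext fun x => (Function.Involutive.toPerm_involutive _) x)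
  induction q using Quotient.inductionOn' with
  | h k =>
    have hu : k⁻¹ * (g * φ k) ∈ U := QuotientGroup.leftRel_apply.1 (Quotient.eq''.1 hq.symm)
    set u := k⁻¹ * (g * φ k) with hudef
    have hue : u * φ u = 1 := by
      rw [hudef, map_mul, map_mul, hφ2, map_inv]
      calc k⁻¹ * (g * φ k) * ((φ k)⁻¹ * (φ g * k)) = k⁻¹ * (g * φ g) * k := by group
        _ = 1 := by rw [hg]; group
    have hue' : (u : GL D.Idx F) * Matrix.GeneralLinearGroup.map σ.toRingHom (u : GL D.Idx F) = 1 := by
      rw [← c.fieldAut_eq hσ, ← Subgroup.coe_mul, hue]; rfl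
    obtain ⟨j, hj, hje⟩ := c.exists_U_split (σ := σ.toRingHom) (fun t ht => by
        by_contra hne
        push Not at hne
        -- the kernel and the image of `1 + σ` coincide
        let T : F →+ F :=
          { toFun := fun y => y + σ y
            map_zero' := by simp
            map_add' := fun a b => by simp only [map_add]; ring }
        have hrange : T.range ≤ T.ker := by
          rintro _ ⟨y, rfl⟩
          show (y + σ y) + σ (y + σ y) = 0
          rw [map_add, hσ2, add_comm (σ y) y, CharTwo.add_self_eq_zero]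
        have hcard := T.ker.card_mul_index
        rw [AddSubgroup.index_ker] at hcard
        obtain ⟨F₀, _, _, ι, hι, hq⟩ := exists_fixed_field σ
        rw [← c.fieldAut_orderOf hσ, h2] at hq
        have hker : Nat.card T.ker = Fintype.card F₀ := by
          rw [← Nat.card_eq_fintype_card (α := F₀), ← Nat.card_range_of_injective ι.injective, hι]
          refine Nat.card_congr (Equiv.subtypeEquivRight fun y => ?_)
          show y + σ y = 0 ↔ σ y = y
          rw [CharTwo.add_eq_zero]
          exact eq_comm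
        have hpos : 0 < Fintype.card F₀ := Fintype.card_pos
        rw [hker, Nat.card_eq_fintype_card (α := F), hq, pow_two] at hcard
        have heq : T.range = T.ker := AddSubgroup.eq_of_le_of_card_ge hrange (by
          rw [hker]; exact (Nat.eq_of_mul_eq_mul_left hpos hcard).ge)
        obtain ⟨y, hy⟩ := heq.ge (show t ∈ T.ker from ht)
        exact hne y hy) _ c.T.h rfl le_rfl (u : GL D.Idx F) (by rw [← c.posUnipotent_eq]; exact hu) hue'
    have hjG : j ∈ D.group F :=
      c.B_le_group (Subgroup.mem_sup_left (by rw [c.posUnipotent_eq]; exact hj))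
    have hje' : (⟨j, hjG⟩ : ↥(D.group F))⁻¹ * u * φ ⟨j, hjG⟩ = 1 := Subtype.ext (by
      rw [Subgroup.coe_mul, Subgroup.coe_mul, c.fieldAut_eq hσ]; exact hje)
    refine ⟨(k * ⟨j, hjG⟩)⁻¹, ?_⟩
    rw [hudef] at hje'
    rw [inv_inv, map_inv, map_mul]
    calc g = k * ⟨j, hjG⟩ * ((⟨j, hjG⟩ : ↥(D.group F))⁻¹ * (k⁻¹ * (g * φ k)) * φ ⟨j, hjG⟩) *
          (φ k * φ ⟨j, hjG⟩)⁻¹ := by group
      _ = _ := by rw [hje', mul_one]

end CertFull

end Cfsg.Agent.Lie.Chev
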