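/- The special isogeny of type F4 and the elements of the Weyl group commuting with it. -/
import Cfsg.Agent.Lib.Lie.Chev.TwistIso
import Cfsg.Agent.Lib.Lie.Chev.TwistGraph
import Cfsg.Agent.Lib.Lie.Chev.TwistWeyl
import Cfsg.Agent.Lib.Lie.Chev.CertsFull

set_option autoImplicit false
set_option maxRecDepth 20000

namespace Cfsg.Agent.Lie.Chev

open Cfsg.Lie

/-- The exchange of long and short roots. -/
def isoRhoF4 : List ℕ := [3, 7, 8, 0, 9, 11, 18, 1, 2, 4, 15, 5, 16, 21, 23, 10, 12, 19, 6, 17, 22, 13, 20, 14, 33, 27, 34, 25, 30, 41, 28, 35, 37, 24, 26, 31, 42, 32, 43, 45, 46, 29, 36, 38, 47, 39, 40, 44]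

/-- The squared lengths. -/
def isoLenF4 : List ℕ := [2, 2, 2, 1, 2, 2, 2, 1, 1, 1, 1, 1, 1, 1, 1, 2, 2, 2, 1, 1, 1, 2, 2, 2, 2, 2, 2, 1, 1, 1, 2, 2, 2, 1, 1, 1, 1, 1, 1, 1, 1, 2, 2, 2, 1, 2, 2, 2]

/-- The grading of the positive roots. -/
def isoLvlF4 : List ℕ := [0, 0, 0, 0, 0, 0, 0, 0, 0, 0, 0, 0, 0, 0, 0, 0, 0, 0, 0, 0, 0, 0, 0, 0, 1, 1, 2, 1, 3, 5, 3, 4, 6, 1, 2, 4, 7, 6, 8, 9, 10, 5, 7, 8, 11, 9, 10, 11]

/-- The special isogeny of type F4. -/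
def isoF4 : certFullF4.IsoData where
  p := 2
  ρ := lookupN isoRhoF4
  short := fun r => Nat.beq (lookupN isoLenF4 r) 1
  τ := lookupN [3, 2, 1, 0]
  Il := [0, 1, 7, 11, 12, 13, 14, 15, 16, 17, 18, 22, 23, 24, 31, 32, 33, 37, 38, 39, 40, 41, 42, 43, 44, 48]
  Ql := [3, 2, 4, 5, 6, 8, 19, 9, 20, 25, 27, 10, 21, 26, 29, 34, 45, 28, 30, 35, 46, 36, 47, 49, 50, 51]
  wit := [(0, 33), (1, 27), (2, 28), (3, 29)]

theorem isoF4_ok : isoF4.check = true := by decide +kernel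

/-- The orbit words. -/
def orbitsF4 : List (List ℕ) := [[0, 3], [1, 2, 1, 2]]

/-- The fixed elements of the Weyl group of type F4. -/
def twistF4Reps : BT TRep :=
  .node 8
    (.node 4
     (.node 2
      (.node 1
       (.leaf ⟨[], 0, [33, 27, 25, 24], 404298529, [], [1, 2]⟩)
       (.leaf ⟨[0], 0, [14, 34, 26, 23], 387588622, [33, 24], [0, 3]⟩))
      (.node 3
       (.leaf ⟨[1], 0, [37, 20, 22, 32], 538317861, [27, 25, 27, 25], [4, 0]⟩)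
       (.leaf ⟨[1, 0], 1, [10, 35, 31, 15], 253698826, [34, 26, 34, 26], [5, 1]⟩)))
     (.node 6
      (.node 5
       (.leaf ⟨[0, 1], 2, [38, 13, 21, 43], 722799910, [37, 32], [2, 6]⟩)
       (.leaf ⟨[0, 1, 0], 3, [9, 29, 41, 4], 69803273, [38, 43], [3, 7]⟩))
      (.node 7
       (.leaf ⟨[1, 0, 1], 4, [39, 12, 16, 45], 756026407, [35, 31, 35, 31], [8, 4]⟩)
       (.leaf ⟨[1, 0, 1, 0], 5, [8, 29, 41, 2], 36248840, [29, 41, 29, 41], [9, 5]⟩))))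
    (.node 12
     (.node 10
      (.node 9
       (.leaf ⟨[0, 1, 0, 1], 6, [39, 18, 6, 45], 755372583, [39, 45], [6, 10]⟩)
       (.leaf ⟨[0, 1, 0, 1, 0], 7, [8, 35, 31, 2], 35595016, [39, 45], [7, 11]⟩))
      (.node 11
       (.leaf ⟨[1, 0, 1, 0, 1], 8, [38, 18, 6, 43], 721818150, [29, 41, 29, 41], [12, 8]⟩)
       (.leaf ⟨[1, 0, 1, 0, 1, 0], 9, [9, 34, 26, 4], 68821513, [35, 31, 35, 31], [13, 9]⟩)))
     (.node 14
      (.node 13
       (.leaf ⟨[0, 1, 0, 1, 0, 1], 10, [37, 12, 16, 32], 537922597, [38, 43], [10, 14]⟩)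
       (.leaf ⟨[0, 1, 0, 1, 0, 1, 0], 11, [10, 27, 25, 15], 253303562, [37, 32], [11, 15]⟩))
      (.node 15
       (.leaf ⟨[1, 0, 1, 0, 1, 0, 1], 12, [33, 13, 21, 24], 404032801, [34, 26, 34, 26], [15, 12]⟩)
       (.leaf ⟨[1, 0, 1, 0, 1, 0, 1, 0], 13, [14, 20, 22, 23], 387322894, [27, 25, 27, 25], [14, 13]⟩))))

/-- Their order by key. -/
def twistF4Order : List ℕ := [9, 7, 11, 5, 13, 3, 15, 1, 14, 0, 12, 2, 10, 4, 8, 6]

theorem orbitsF4_ok :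
    certFullF4.T.checkOrbits isoF4.ρ isoF4.τ orbitsF4 = true := by decide +kernel

theorem twistF4Reps_ok :
    certFullF4.T.checkFixedWeyl orbitsF4 twistF4Reps 16 twistF4Order = true := by
  decide +kernel

theorem twistF4_top : ((twistF4Reps.get 15).img.all fun a =>
    Nat.blt a certFullF4.T.h) = true := by decide +kernel

end Cfsg.Agent.Lie.Chev
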