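import Cfsg.Agent.Lib.Lie.Chev.TwistIsoCommon
import Cfsg.Agent.Lib.Lie.Chev.TwistDataF4
import Cfsg.Agent.Lib.Lie.Chev.OrderF4
import Cfsg.Agent.Lib.Lie.Chev.FieldAut
import Cfsg.Prelude.Def_LieTwisted

/-! The large Ree groups ²F₄(q) as fixed subgroups of the special isogeny in characteristic two. -/

set_option autoImplicit false
set_option maxRecDepth 4000

namespace Cfsg.Agent.Lie.Chev.F4

open Cfsg.Lie Matrix

theorem iso_values :
    (isoF4.ρ 33 = 24 ∧ isoF4.ρ 24 = 33 ∧ isoF4.ρ 14 = 23 ∧ isoF4.ρ 23 = 14 ∧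
      isoF4.ρ 27 = 25 ∧ isoF4.ρ 25 = 27 ∧ isoF4.ρ 28 = 30 ∧ isoF4.ρ 30 = 28 ∧
      isoF4.ρ 20 = 22 ∧ isoF4.ρ 22 = 20 ∧ isoF4.ρ 19 = 17 ∧ isoF4.ρ 17 = 19) ∧
    (isoF4.expo 33 = 2 ∧ isoF4.expo 24 = 1 ∧ isoF4.expo 14 = 2 ∧ isoF4.expo 23 = 1 ∧
      isoF4.expo 27 = 2 ∧ isoF4.expo 25 = 1 ∧ isoF4.expo 28 = 2 ∧ isoF4.expo 30 = 1 ∧
      isoF4.expo 20 = 2 ∧ isoF4.expo 22 = 1 ∧ isoF4.expo 19 = 2 ∧ isoF4.expo 17 = 1) := by
  decide +kernel

theorem node_values : chevF4.simple 0 = 33 ∧ chevF4.simple 1 = 27 ∧ chevF4.simple 2 = 25 ∧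
    chevF4.simple 3 = 24 ∧ chevF4.rank = 4 ∧ chevF4.nroots = 48 ∧
    isoF4.τ 0 = 3 ∧ isoF4.τ 1 = 2 ∧ isoF4.τ 2 = 1 ∧ isoF4.τ 3 = 0 := by
  decide +kernel

theorem comm_values : certFullF4.T.commTerms 27 25 = [(28, -1, 1, 1), (30, -1, 2, 1)] ∧
    certFullF4.T.commTerms 20 22 = [(19, 1, 1, 1), (17, -1, 2, 1)] ∧
    certFullF4.T.commTerms 28 30 = [] ∧ certFullF4.T.commTerms 19 17 = [] ∧
    ([33, 14].all fun a => [24, 23].all fun b => (certFullF4.T.commTerms a b).isEmpty) = true := by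
  decide +kernel

variable {K : Type*} [Field K] (f : K →+* K) [CharP K 2] [ExpChar K 2]

/-- The twisting endomorphism. -/
noncomputable def tw : Twist certFullF4 K :=
  CertFull.IsoData.twist (p := 2) isoF4_ok rfl f

theorem act_x {r : ℕ} (hr : r < 48) (t : K) :
    (tw f).act (certFullF4.xg r t) = certFullF4.xg (isoF4.ρ r) (f t ^ isoF4.expo r) :=
  CertFull.IsoData.act_x (p := 2) isoF4_ok rfl f hr t

omit [ExpChar K 2] [CharP K 2] in
theorem comm_pair {a b : ℕ} (ha : a = 33 ∨ a = 14) (hb : b = 24 ∨ b = 23) (t u : K) :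
    Commute (certFullF4.xg a t) (certFullF4.xg b u) := by
  have hc := comm_values.2.2.2.2
  simp only [List.all_eq_true, List.isEmpty_iff] at hc
  have e : ∀ r < 48, chevF4.neg r = 47 - r := fun r hr => certFullF4.neg_eq hr
  refine certFullF4.xg_commute (show a < 48 by omega) (show b < 48 by omega) (by omega)
    (by rw [e a (by omega)]; omega)
    (hc a (by rcases ha with rfl | rfl <;> simp) b (by rcases hb with rfl | rfl <;> simp)) t u

omit [ExpChar K 2] in
theorem b2_comm {a b ab aab : ℕ}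
    (h : (a = 27 ∧ b = 25 ∧ ab = 28 ∧ aab = 30) ∨ (a = 20 ∧ b = 22 ∧ ab = 19 ∧ aab = 17))
    (t u : K) :
    certFullF4.xg b u * certFullF4.xg a t = certFullF4.xg a t * certFullF4.xg b u *
      (certFullF4.xg ab (t * u) * certFullF4.xg aab (t ^ 2 * u)) := by
  obtain ⟨c1, c2, -, -, -⟩ := comm_values
  have e : ∀ r < 48, chevF4.neg r = 47 - r := fun r hr => certFullF4.neg_eq hr
  rw [certFullF4.xg_comm (show a < 48 by omega) (show b < 48 by omega) (by omega)
    (by rw [e a (by omega)]; omega)]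
  rcases h with ⟨rfl, rfl, rfl, rfl⟩ | ⟨rfl, rfl, rfl, rfl⟩
  · rw [c1]
    simp [CharTwo.neg_eq]
  · rw [c2]
    simp [CharTwo.neg_eq]

omit [ExpChar K 2] [CharP K 2] in
theorem b2_commute {a b : ℕ} (h : (a = 28 ∧ b = 30) ∨ (a = 19 ∧ b = 17)) (t u : K) :
    Commute (certFullF4.xg a t) (certFullF4.xg b u) := by
  obtain ⟨-, -, c3, c4, -⟩ := comm_values
  have e : ∀ r < 48, chevF4.neg r = 47 - r := fun r hr => certFullF4.neg_eq hr
  refine certFullF4.xg_commute (show a < 48 by omega) (show b < 48 by omega) (by omega)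
    (by rw [e a (by omega)]; omega) ?_ t u
  rcases h with ⟨rfl, rfl⟩ | ⟨rfl, rfl⟩
  · exact c3
  · exact c4

omit [ExpChar K 2] in
theorem eq_one_of_sq {x : K} (h : x * x = 1) : x = 1 := by
  rw [← sub_eq_zero]
  refine mul_self_eq_zero.1 ?_
  have h2 : (2 : K) = 0 := CharTwo.two_eq_zero
  linear_combination h + (1 - x) * h2

variable [Fintype K] {m : ℕ} (hf : ∀ t, f t = t ^ 2 ^ m) (hK : Fintype.card K = 2 ^ (2 * m + 1))

include hf hK

omit [CharP K 2] [ExpChar K 2] in
theorem ff_sq (t : K) : f (f t) ^ 2 = t := by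
  rw [hf, hf, ← pow_mul, ← pow_mul,
    show 2 ^ m * (2 ^ m * 2) = Fintype.card K by rw [hK]; ring, FiniteField.pow_card]

omit [CharP K 2] [ExpChar K 2] in
theorem natCard : Nat.card K = 2 ^ (2 * m + 1) := by rw [Nat.card_eq_fintype_card, hK]

omit hK [CharP K 2] [ExpChar K 2] [Fintype K] in
theorem pair_mem {r r' : ℕ} (h : (r = 33 ∧ r' = 24) ∨ (r = 14 ∧ r' = 23)) (t : K) :
    certFullF4.xg r (f t) * certFullF4.xg r' t ∈ twistedF4 K (2 ^ m) := by
  have hw := wordProd_mem certFullF4 (S := f4Words K (2 ^ m)) (w := f4PairWord (2 ^ m) r r' t)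
    (Or.inl ⟨t, by rcases h with ⟨rfl, rfl⟩ | ⟨rfl, rfl⟩ <;> simp [f4p1, f4p4, f4m1, f4m4]⟩)
  simpa [twistedF4, f4PairWord, hf t] using hw

omit hK [CharP K 2] [ExpChar K 2] [Fintype K] in
theorem class_mem {a b ab aab : ℕ}
    (h : (a = 27 ∧ b = 25 ∧ ab = 28 ∧ aab = 30) ∨ (a = 20 ∧ b = 22 ∧ ab = 19 ∧ aab = 17))
    (t u : K) :
    certFullF4.xg a (f t) * certFullF4.xg b t * certFullF4.xg ab (f t * t + u) *
      certFullF4.xg aab (f u ^ 2) ∈ twistedF4 K (2 ^ m) := by
  have hw := wordProd_mem certFullF4 (S := f4Words K (2 ^ m))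
    (w := b2ClassWord (2 ^ m) a b ab aab t u)
    (Or.inr ⟨t, u, by
      rcases h with ⟨rfl, rfl, rfl, rfl⟩ | ⟨rfl, rfl, rfl, rfl⟩ <;>
        simp [f4a, f4b, f4ab, f4aab, f4ma, f4mb, f4mab, f4maab]⟩)
  simpa [twistedF4, b2ClassWord, hf t, hf u, pow_succ, pow_mul', mul_assoc] using hw

theorem pair_fix {r r' : ℕ} (h : (r = 33 ∧ r' = 24) ∨ (r = 14 ∧ r' = 23)) (t : K) :
    certFullF4.xg r (f t) * certFullF4.xg r' t ∈ (tw f).fix := by
  obtain ⟨⟨r1, r2, r3, r4, -⟩, ⟨e1, e2, e3, e4, -⟩⟩ := iso_values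
  have hx : ∀ (s : ℕ), s < 48 → ∀ t : K, certFullF4.xg s t ∈ chevF4.group K := fun s hs t =>
    certFullF4.xg_mem_group hs t
  refine (tw f).mem_fix.2 ⟨mul_mem (hx r (by omega) _) (hx r' (by omega) _), ?_⟩
  rw [(tw f).act_mul (hx r (by omega) _) (hx r' (by omega) _), act_x f (by omega),
    act_x f (by omega)]
  rcases h with ⟨rfl, rfl⟩ | ⟨rfl, rfl⟩
  · rw [r1, r2, e1, e2, ff_sq f hf hK, pow_one]
    exact (comm_pair (Or.inl rfl) (Or.inl rfl) _ _).eq.symm
  · rw [r3, r4, e3, e4, ff_sq f hf hK, pow_one]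
    exact (comm_pair (Or.inr rfl) (Or.inr rfl) _ _).eq.symm

theorem class_fix {a b ab aab : ℕ}
    (h : (a = 27 ∧ b = 25 ∧ ab = 28 ∧ aab = 30) ∨ (a = 20 ∧ b = 22 ∧ ab = 19 ∧ aab = 17))
    (t u : K) :
    certFullF4.xg a (f t) * certFullF4.xg b t * certFullF4.xg ab (f t * t + u) *
      certFullF4.xg aab (f u ^ 2) ∈ (tw f).fix := by
  have hx : ∀ (s : ℕ), s < 48 → ∀ t : K, certFullF4.xg s t ∈ chevF4.group K := fun s hs t =>
    certFullF4.xg_mem_group hs t
  have hv : (isoF4.ρ a = b ∧ isoF4.ρ b = a ∧ isoF4.ρ ab = aab ∧ isoF4.ρ aab = ab) ∧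
      isoF4.expo a = 2 ∧ isoF4.expo b = 1 ∧ isoF4.expo ab = 2 ∧ isoF4.expo aab = 1 := by
    obtain ⟨⟨-, -, -, -, r5, r6, r7, r8, r9, r10, r11, r12⟩,
      ⟨-, -, -, -, e5, e6, e7, e8, e9, e10, e11, e12⟩⟩ := iso_values
    rcases h with ⟨rfl, rfl, rfl, rfl⟩ | ⟨rfl, rfl, rfl, rfl⟩
    · exact ⟨⟨r5, r6, r7, r8⟩, e5, e6, e7, e8⟩
    · exact ⟨⟨r9, r10, r11, r12⟩, e9, e10, e11, e12⟩
  obtain ⟨⟨ra, rb, rab, raab⟩, ea, eb, eab, eaab⟩ := hv
  have hlt : a < 48 ∧ b < 48 ∧ ab < 48 ∧ aab < 48 := by omega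
  obtain ⟨la, lb, lab, laab⟩ := hlt
  have hm := mul_mem (mul_mem (hx a la (f t)) (hx b lb t)) (hx ab lab (f t * t + u))
  refine (tw f).mem_fix.2 ⟨mul_mem hm (hx aab laab _), ?_⟩
  rw [(tw f).act_mul hm (hx aab laab _),
    (tw f).act_mul (mul_mem (hx a la _) (hx b lb _)) (hx ab lab _),
    (tw f).act_mul (hx a la _) (hx b lb _), act_x f la, act_x f lb, act_x f lab, act_x f laab,
    ra, rb, rab, raab, ea, eb, eab, eaab, pow_one, pow_one, map_pow, ff_sq f hf hK,
    ff_sq f hf hK, b2_comm h]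
  have hc : ∀ x y : K, Commute (certFullF4.xg ab x) (certFullF4.xg aab y) := fun x y =>
    b2_commute (by rcases h with ⟨-, -, rfl, rfl⟩ | ⟨-, -, rfl, rfl⟩ <;> simp) x y
  have e : f t ^ 2 * t + f (f t * t + u) ^ 2 = f u ^ 2 := by
    rw [map_add, map_mul]
    have h2 := ff_sq f hf hK t
    have h0 : (2 : K) = 0 := CharTwo.two_eq_zero
    linear_combination (f t ^ 2) * h2 + (f t ^ 2 * t + f (f t) * f t * f u) * h0
  calc _ = certFullF4.xg a (f t) * certFullF4.xg b t *
        ((certFullF4.xg ab (f t * t) *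
          (certFullF4.xg aab (f t ^ 2 * t) * certFullF4.xg aab (f (f t * t + u) ^ 2))) *
          certFullF4.xg ab u) := by group
    _ = certFullF4.xg a (f t) * certFullF4.xg b t *
        ((certFullF4.xg ab (f t * t) * certFullF4.xg ab u) * certFullF4.xg aab (f u ^ 2)) := by
      rw [← certFullF4.xg_add, e, mul_assoc (certFullF4.xg ab (f t * t)), ← (hc u _).eq,
        ← mul_assoc (certFullF4.xg ab (f t * t))]
    _ = _ := by rw [← certFullF4.xg_add]; group

theorem le_fix : twistedF4 K (2 ^ m) ≤ (tw f).fix := by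
  refine (Subgroup.closure_le _).2 ?_
  rintro g ⟨w, hw, hg⟩
  obtain rfl := eq_wordProd certFullF4 hg
  rcases hw with ⟨t, rfl | rfl⟩ | ⟨t, u, rfl | rfl⟩
  · simpa [f4PairWord, f4p1, f4p4, hf t] using pair_fix f hf hK (Or.inl ⟨rfl, rfl⟩) t
  · simpa [f4PairWord, f4m1, f4m4, hf t] using pair_fix f hf hK (Or.inr ⟨rfl, rfl⟩) t
  · simpa [b2ClassWord, f4a, f4b, f4ab, f4aab, hf t, hf u, pow_succ, pow_mul', mul_assoc] using
      class_fix f hf hK (Or.inl ⟨rfl, rfl, rfl, rfl⟩) t u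
  · simpa [b2ClassWord, f4ma, f4mb, f4mab, f4maab, hf t, hf u, pow_succ, pow_mul', mul_assoc] using
      class_fix f hf hK (Or.inr ⟨rfl, rfl, rfl, rfl⟩) t u

omit [Fintype K] [ExpChar K 2] [CharP K 2] hf hK in
theorem words_ok :
    certFullF4.T.checkWordMod 2 [(33, 1), (24, 1), (14, 1), (23, 1), (33, 1), (24, 1)]
      (certFullF4.nwWord [0, 3]) = true ∧
    certFullF4.T.checkWordMod 2
      [(27, 1), (25, 1), (28, 1), (30, 0), (20, 0), (22, 0), (19, 1), (17, 1),
        (27, 1), (25, 1), (28, 0), (30, 1)] (certFullF4.nwWord [1, 2, 1, 2]) = true := by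
  decide +kernel

omit hK [Fintype K] [ExpChar K 2] in
theorem n_mem : ∀ J ∈ orbitsF4, certFullF4.nw K J ∈ twistedF4 K (2 ^ m) := by
  intro J hJ
  simp only [orbitsF4, List.mem_cons, List.not_mem_nil, or_false] at hJ
  have hlt : ∀ p ∈ J, p < chevF4.rank := by
    rw [node_values.2.2.2.2.1]; rcases hJ with rfl | rfl <;> simp
  rw [certFullF4.nw_eq_word hlt]
  have h11 : (1 : K) + 1 = 0 := CharTwo.add_self_eq_zero 1
  rcases hJ with rfl | rfl
  · rw [← certFullF4.word_eq_of_checkWordMod (F := K) words_ok.1]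
    have h1 := pair_mem f hf (Or.inl ⟨rfl, rfl⟩ : (33 = 33 ∧ 24 = 24) ∨ _) (1 : K)
    have h2 := pair_mem f hf (Or.inr ⟨rfl, rfl⟩ : _ ∨ (14 = 14 ∧ 23 = 23)) (1 : K)
    rw [map_one] at h1 h2
    simpa [mul_assoc] using mul_mem (mul_mem h1 h2) h1
  · rw [← certFullF4.word_eq_of_checkWordMod (F := K) words_ok.2]
    have h1 := class_mem f hf (Or.inl ⟨rfl, rfl, rfl, rfl⟩ :
      (27 = 27 ∧ 25 = 25 ∧ 28 = 28 ∧ 30 = 30) ∨ _) (1 : K) 0
    have h2 := class_mem f hf (Or.inr ⟨rfl, rfl, rfl, rfl⟩ :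
      _ ∨ (20 = 20 ∧ 22 = 22 ∧ 19 = 19 ∧ 17 = 17)) (0 : K) 1
    have h3 := class_mem f hf (Or.inl ⟨rfl, rfl, rfl, rfl⟩ :
      (27 = 27 ∧ 25 = 25 ∧ 28 = 28 ∧ 30 = 30) ∨ _) (1 : K) 1
    simp only [map_one, map_zero, mul_one, add_zero, mul_zero, zero_add, one_pow, h11,
      zero_pow two_ne_zero] at h1 h2 h3
    simpa [mul_assoc] using mul_mem (mul_mem h1 h2) h3

omit [Fintype K] [ExpChar K 2] [CharP K 2] hf hK in
theorem checks : isoF4.checkLvl (lookupN isoLvlF4) = true ∧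
    isoF4.checkOrbitWords orbitsF4 = true ∧
    isoF4.checkLifts (lookupN isoLvlF4) orbitsF4 twistF4Reps 16 [33, 27, 28, 24, 25, 30] = true := by
  decide +kernel

/-- The fixed elements of the Weyl group. -/
noncomputable def weyl : (tw f).FixedWeyl where
  Jw := orbitsF4
  E := twistF4Reps
  N := 16
  order := twistF4Order
  orbits := orbitsF4_ok
  list := twistF4Reps_ok
  nw_fix := CertFull.IsoData.nw_fix_of_check (p := 2) isoF4_ok rfl f checks.2.1

/-- The grading. -/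
noncomputable def grading : (tw f).Grading 2 :=
  CertFull.IsoData.grading (p := 2) isoF4_ok rfl f hf (natCard f hf hK) (lookupN isoLvlF4) checks.1

theorem lifts : (grading f hf hK).Lifts (twistedF4 K (2 ^ m)) := by
  obtain ⟨⟨r1, r2, -, -, r5, r6, r7, r8, -⟩, -⟩ := iso_values
  obtain ⟨c1, -, -, -, -⟩ := comm_values
  refine CertFull.IsoData.lifts_of_bases (p := 2) isoF4_ok rfl f hf (natCard f hf hK) checks.1
    (weyl f) (le_fix f hf hK) (n_mem f hf) checks.2.2 fun r₀ hr₀ => ?_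
  have hsolve : ∀ a : K, f (f a ^ 2) = a := fun a => by rw [map_pow, ff_sq f hf hK]
  simp only [List.mem_cons, List.not_mem_nil, or_false] at hr₀
  rcases hr₀ with rfl | rfl | rfl | rfl | rfl | rfl
  · refine ⟨by decide, fun a => ⟨f a ^ 2, [], by simp, ?_⟩⟩
    rw [r1, List.map_nil, List.prod_nil, mul_one]
    have h := pair_mem f hf (Or.inl ⟨rfl, rfl⟩ : (33 = 33 ∧ 24 = 24) ∨ _) (f a ^ 2)
    rw [hsolve a] at h
    exact h
  · refine ⟨by decide, fun a => ⟨f a ^ 2, [(28, a * f a ^ 2), (30, 0)], ?_, ?_⟩⟩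
    · intro y hy
      rw [r5, c1]
      simp only [List.mem_cons, List.not_mem_nil, or_false] at hy
      rcases hy with rfl | rfl
      · exact ⟨(28, -1, 1, 1), List.mem_cons_self .., rfl, by show (28 : ℕ) < 48; omega⟩
      · exact ⟨(30, -1, 2, 1), List.mem_cons_of_mem _ (List.mem_cons_self ..), rfl,
          by show (30 : ℕ) < 48; omega⟩
    · simp only [r5, List.map_cons, List.map_nil, List.prod_cons, List.prod_nil, mul_one,
        certFullF4.xg_zero]
      have h := class_mem f hf (Or.inl ⟨rfl, rfl, rfl, rfl⟩ :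
        (27 = 27 ∧ 25 = 25 ∧ 28 = 28 ∧ 30 = 30) ∨ _) (f a ^ 2) 0
      rw [hsolve a, map_zero, zero_pow two_ne_zero, add_zero, certFullF4.xg_zero, mul_one] at h
      exact h
  · refine ⟨by decide, fun a => ⟨f a ^ 2, [], fun y hy => absurd hy List.not_mem_nil, ?_⟩⟩
    rw [r7, List.map_nil, List.prod_nil, mul_one]
    have h := class_mem f hf (Or.inl ⟨rfl, rfl, rfl, rfl⟩ :
      (27 = 27 ∧ 25 = 25 ∧ 28 = 28 ∧ 30 = 30) ∨ _) (0 : K) a
    rw [map_zero, mul_zero, zero_add, certFullF4.xg_zero, certFullF4.xg_zero, one_mul,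
      one_mul] at h
    exact h
  · refine ⟨by decide, fun a => ⟨f a, [], fun y hy => absurd hy List.not_mem_nil, ?_⟩⟩
    rw [r2, List.map_nil, List.prod_nil, mul_one, (comm_pair (Or.inl rfl) (Or.inl rfl) _ _).symm.eq]
    exact pair_mem f hf (Or.inl ⟨rfl, rfl⟩ : (33 = 33 ∧ 24 = 24) ∨ _) a
  · refine ⟨by decide, fun a => ⟨f a, [(30, f a ^ 2 * a)], ?_, ?_⟩⟩
    · intro y hy
      rw [r6]
      simp only [List.mem_cons, List.not_mem_nil, or_false] at hy
      subst hy
      exact ⟨(30, -1, 1, 2), by decide +kernel, rfl, by show (30 : ℕ) < 48; omega⟩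
    · simp only [r6, List.map_cons, List.map_nil, List.prod_cons, List.prod_nil, mul_one]
      rw [b2_comm (Or.inl ⟨rfl, rfl, rfl, rfl⟩ : (27 = 27 ∧ 25 = 25 ∧ 28 = 28 ∧ 30 = 30) ∨ _),
        mul_assoc _ (_ * _) _, mul_assoc (certFullF4.xg 28 _), ← certFullF4.xg_add,
        CharTwo.add_self_eq_zero, certFullF4.xg_zero, mul_one]
      have h := class_mem f hf (Or.inl ⟨rfl, rfl, rfl, rfl⟩ :
        (27 = 27 ∧ 25 = 25 ∧ 28 = 28 ∧ 30 = 30) ∨ _) a 0
      rw [map_zero, zero_pow two_ne_zero, add_zero, certFullF4.xg_zero, mul_one] at h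
      exact h
  · refine ⟨by decide, fun a => ⟨f a, [], fun y hy => absurd hy List.not_mem_nil, ?_⟩⟩
    rw [r8, List.map_nil, List.prod_nil, mul_one, (b2_commute (Or.inl ⟨rfl, rfl⟩) _ _).symm.eq]
    have h := class_mem f hf (Or.inl ⟨rfl, rfl, rfl, rfl⟩ :
      (27 = 27 ∧ 25 = 25 ∧ 28 = 28 ∧ 30 = 30) ∨ _) (0 : K) (f a)
    rw [map_zero, mul_zero, zero_add, certFullF4.xg_zero, certFullF4.xg_zero, one_mul,
      one_mul, ff_sq f hf hK a] at h
    exact h

/-! ### The torus -/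

omit hf hK [Fintype K] [CharP K 2] [ExpChar K 2] in
/-- The vectors fixed by the twist. -/
noncomputable def zOf : Kˣ × Kˣ →* (ℕ → Kˣ) where
  toFun x j :=
    if j = 0 then Units.map (f : K →* K) x.1 else if j = 1 then Units.map (f : K →* K) x.2
    else if j = 2 then x.2 else if j = 3 then x.1 else 1
  map_one' := by funext j; simp
  map_mul' x y := by funext j; simp only [Pi.mul_apply]; split_ifs <;> simp

omit hf hK [Fintype K] [CharP K 2] [ExpChar K 2] in
theorem zOf_apply (x : Kˣ × Kˣ) :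
    zOf f x 0 = Units.map (f : K →* K) x.1 ∧ zOf f x 1 = Units.map (f : K →* K) x.2 ∧
      zOf f x 2 = x.2 ∧ zOf f x 3 = x.1 :=
  ⟨rfl, rfl, rfl, rfl⟩

omit hf hK [Fintype K] [CharP K 2] [ExpChar K 2] in
/-- The fixed torus, parametrised. -/
noncomputable def param : Kˣ × Kˣ →* GL chevF4.Idx K := certFullF4.torus.comp (zOf f)

omit hf hK [CharP K 2] [ExpChar K 2] in
theorem torus_inj {z z' : ℕ → Kˣ} (e : certFullF4.torus z = certFullF4.torus z') :
    ∀ i < 4, z i = z' i := by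
  intro i hi
  refine certFullF4.torus_injective ?_ z z' e i (by rw [node_values.2.2.2.2.1]; exact hi)
  rw [cardHF4, node_values.2.2.2.2.1]
  simp [Fin.prod_univ_four]
  ring

omit hf hK [Fintype K] in
theorem zAct_values (z : ℕ → Kˣ) :
    ((tw f).zAct z 0 : K) = f (z 3) ∧ ((tw f).zAct z 1 : K) = f (z 2) ∧
    ((tw f).zAct z 2 : K) = f (z 1) ^ 2 ∧ ((tw f).zAct z 3 : K) = f (z 0) ^ 2 := by
  obtain ⟨s0, s1, s2, s3, hr, -, t0, t1, t2, t3⟩ := node_values
  obtain ⟨-, ⟨e1, e2, -, -, e5, e6, -⟩⟩ := iso_values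
  have h : ∀ j < 4, ((tw f).zAct z j : K) =
      f (z (isoF4.τ j)) ^ isoF4.expo (chevF4.simple (isoF4.τ j)) := fun j hj => by
    rw [(tw f).zAct_apply z (by rw [hr]; exact hj)]
    exact CertFull.IsoData.phi_apply (X := isoF4) (p := 2) rfl f _ _
  refine ⟨?_, ?_, ?_, ?_⟩
  · rw [h 0 (by omega), t0, s3, e2, pow_one]
  · rw [h 1 (by omega), t1, s2, e6, pow_one]
  · rw [h 2 (by omega), t2, s1, e5]
  · rw [h 3 (by omega), t3, s0, e1]

theorem param_fix (x : Kˣ × Kˣ) : param f x ∈ (tw f).fix := by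
  refine (tw f).mem_fix.2 ⟨certFullF4.B_le_group (certFullF4.H_le_B (certFullF4.torus_mem _)), ?_⟩
  show (tw f).act (certFullF4.torus (zOf f x)) = certFullF4.torus (zOf f x)
  rw [(tw f).act_torus]
  obtain ⟨a0, a1, a2, a3⟩ := zAct_values f (zOf f x)
  obtain ⟨z0, z1, z2, z3⟩ := zOf_apply f x
  refine certFullF4.torus_congr fun j hj => Units.ext ?_
  rw [node_values.2.2.2.2.1] at hj
  rcases (show j = 0 ∨ j = 1 ∨ j = 2 ∨ j = 3 by omega) with rfl | rfl | rfl | rfl
  · rw [a0, z3, z0]; rfl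
  · rw [a1, z2, z1]; rfl
  · rw [a2, z1, z2]; exact ff_sq f hf hK (x.2 : K)
  · rw [a3, z0, z3]; exact ff_sq f hf hK (x.1 : K)

theorem exists_param {g : GL chevF4.Idx K} (hg : g ∈ chevF4.diagonalSubgroup K ⊓ (tw f).fix) :
    ∃ x, param f x = g := by
  obtain ⟨hH, hfix⟩ := Subgroup.mem_inf.1 hg
  rw [certFullF4.diagonalSubgroup_eq] at hH
  obtain ⟨z, rfl⟩ := hH
  have hact := ((tw f).mem_fix.1 hfix).2
  rw [(tw f).act_torus] at hact
  have hz := torus_inj (K := K) hact
  obtain ⟨a0, a1, -, -⟩ := zAct_values f z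
  rw [hz 0 (by omega)] at a0
  rw [hz 1 (by omega)] at a1
  obtain ⟨z0, z1, z2, z3⟩ := zOf_apply f (z 3, z 2)
  refine ⟨(z 3, z 2), certFullF4.torus_congr fun j hj => ?_⟩
  rw [node_values.2.2.2.2.1] at hj
  rcases (show j = 0 ∨ j = 1 ∨ j = 2 ∨ j = 3 by omega) with rfl | rfl | rfl | rfl
  · rw [z0]; exact Units.ext a0.symm
  · rw [z1]; exact Units.ext a1.symm
  · exact z2
  · exact z3

omit hK [Fintype K] [ExpChar K 2] in
theorem pair_torus_mem (t : Kˣ) : certFullF4.torus (zOf f (t, 1)) ∈ twistedF4 K (2 ^ m) := by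
  obtain ⟨s0, s1, s2, s3, hr, -⟩ := node_values
  have hn : chevF4.neg 33 = 14 ∧ chevF4.neg 24 = 23 :=
    ⟨certFullF4.neg_eq (by show _ < 48; omega), certFullF4.neg_eq (by show _ < 48; omega)⟩
  have key : ∀ s : K, certFullF4.ng 33 (f s) * certFullF4.ng 24 s ∈ twistedF4 K (2 ^ m) := by
    intro s
    have e1 : f (-s⁻¹) = -(f s)⁻¹ := by rw [map_neg, map_inv₀]
    have h1 := pair_mem f hf (Or.inl ⟨rfl, rfl⟩ : (33 = 33 ∧ 24 = 24) ∨ _) s
    have h2 := pair_mem f hf (Or.inr ⟨rfl, rfl⟩ : _ ∨ (14 = 14 ∧ 23 = 23)) (-s⁻¹)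
    rw [e1] at h2
    have e : certFullF4.ng 33 (f s) * certFullF4.ng 24 s =
        (certFullF4.xg 33 (f s) * certFullF4.xg 24 s) *
        (certFullF4.xg 14 (-(f s)⁻¹) * certFullF4.xg 23 (-s⁻¹)) *
        (certFullF4.xg 33 (f s) * certFullF4.xg 24 s) := by
      rw [Cert.ng, Cert.ng, hn.1, hn.2,
        mul2_comm (comm_pair (Or.inr rfl) (Or.inl rfl) _ _).symm,
        mul2_comm ((comm_pair (Or.inl rfl) (Or.inl rfl) _ _).symm.mul_left
          (comm_pair (Or.inl rfl) (Or.inr rfl) _ _).symm)]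
    rw [e]
    exact mul_mem (mul_mem h1 h2) h1
  have hcomm : ∀ a b : K, Commute (certFullF4.ng 24 a) (certFullF4.ng 33 b) := by
    intro a b
    have h : ∀ x, x = 24 ∨ x = 23 → ∀ u : K, Commute (certFullF4.xg x u) (certFullF4.ng 33 b) := by
      intro x hx u
      rw [Cert.ng, hn.1]
      exact ((comm_pair (Or.inl rfl) hx _ _).symm.mul_right
        (comm_pair (Or.inr rfl) hx _ _).symm).mul_right (comm_pair (Or.inl rfl) hx _ _).symm
    rw [Cert.ng, hn.2]
    exact ((h 24 (Or.inl rfl) _).mul_left (h 23 (Or.inr rfl) _)).mul_left (h 24 (Or.inl rfl) _)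
  have hone : ∀ r, certFullF4.hg r (1 : K) = 1 := fun r => by
    rw [Cert.hg, ← certFullF4.ng_inv, mul_inv_cancel]
  obtain ⟨z0, z1, z2, z3⟩ := zOf_apply f (t, 1)
  rw [certFullF4.torus_eq_prod]
  show (List.map _ (List.range 4)).prod ∈ _
  simp only [List.range_succ, List.range_zero, List.nil_append, List.cons_append,
    List.map_cons, List.map_nil, List.prod_cons, List.prod_nil, mul_one, s0, s1, s2, s3, z0, z1,
    z2, z3, map_one, Units.val_one, hone, one_mul, Units.coe_map, MonoidHom.coe_coe]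
  rw [Cert.hg, Cert.hg, mul_assoc, ← mul_assoc (certFullF4.ng 33 (-1)),
    ← (hcomm (t : K) (-1)).eq, mul_assoc (certFullF4.ng 24 (t : K)), ← mul_assoc]
  have h' := key (-1)
  rw [map_neg, map_one] at h'
  exact mul_mem (key t) h'

omit hf hK [Fintype K] [CharP K 2] [ExpChar K 2] in
theorem image_values : certFullF4.wl [1, 2, 1, 2] 33 = 37 ∧ certFullF4.wl [1, 2, 1, 2] 24 = 32 ∧
    ((List.range 4).map fun i => certFullF4.T.coroot 37 i) = [1, 2, 2, 0] ∧
    ((List.range 4).map fun i => certFullF4.T.coroot 32 i) = [0, 1, 2, 1] := by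
  decide +kernel

theorem class_torus_mem (s : Kˣ) : certFullF4.torus (zOf f (1, s)) ∈ twistedF4 K (2 ^ m) := by
  classical
  obtain ⟨s0, s1, s2, s3, hr, -⟩ := node_values
  -- the parameter is reached
  let φ : Kˣ →* Kˣ :=
    { toFun := fun t => (t * Units.map (f : K →* K) t) ^ 2
      map_one' := by simp
      map_mul' := fun a b => by
        rw [map_mul, ← mul_pow]
        congr 1
        simp only [mul_comm, mul_assoc, mul_left_comm] }
  have hinj : Function.Injective φ := by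
    rw [← MonoidHom.ker_eq_bot_iff, eq_bot_iff]
    intro t ht
    have h1 : ((t : K) * f t) ^ 2 = 1 ^ 2 := by
      rw [one_pow]; exact congrArg Units.val (MonoidHom.mem_ker.1 ht)
    have h2 : (t : K) * f t = 1 := frobenius_inj K 2 (by simpa [frobenius_def] using h1)
    have h3 : f (t : K) * f (f t) = 1 := by rw [← map_mul, h2, map_one]
    have h4 : f (f (t : K)) = t :=
      mul_left_cancel₀ ((map_ne_zero f).2 t.ne_zero) (by rw [h3, mul_comm, h2])
    have h5 := ff_sq f hf hK (t : K)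
    rw [h4, sq] at h5
    rw [Subgroup.mem_bot]
    exact Units.ext (by rw [Units.val_one]; exact mul_left_cancel₀ t.ne_zero (by rw [mul_one, h5]))
  obtain ⟨t, rfl⟩ := (Finite.injective_iff_surjective.1 hinj) s
  have hlt : ∀ p ∈ [1, 2, 1, 2], p < chevF4.rank := by rw [hr]; simp
  have hsign : ∀ r, (certFullF4.wsign [1, 2, 1, 2] r : K) = 1 := fun r => by
    exact eq_one_of_sq (certFullF4.wsign_sq (F := K) [1, 2, 1, 2] r)
  set n := certFullF4.nw K [1, 2, 1, 2]
  have hn : n ∈ twistedF4 K (2 ^ m) := n_mem f hf _ (by simp [orbitsF4])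
  have hconj : ∀ r, r < 48 → ∀ a : K,
      n * certFullF4.hg r a * n⁻¹ = certFullF4.hg (certFullF4.wl [1, 2, 1, 2] r) a := by
    intro r hr' a
    rw [Cert.hg, Cert.hg, show n * (certFullF4.ng r a * certFullF4.ng r (-1)) * n⁻¹ =
      (n * certFullF4.ng r a * n⁻¹) * (n * certFullF4.ng r (-1) * n⁻¹) by group,
      certFullF4.nw_mul_ng hlt hr', certFullF4.nw_mul_ng hlt hr', hsign, one_mul, one_mul,
      mul_inv_cancel_right, mul_inv_cancel_right]
  obtain ⟨z0, z1, z2, z3⟩ := zOf_apply f (t, 1)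
  obtain ⟨w1, w2, c37, c32⟩ := image_values
  simp only [List.range_succ, List.range_zero, List.nil_append, List.cons_append,
    List.map_cons, List.map_nil, List.cons.injEq, and_true] at c37 c32
  obtain ⟨a0, a1, a2, a3⟩ := c37
  obtain ⟨b0, b1, b2, b3⟩ := c32
  have hone : ∀ r, certFullF4.hg r (1 : K) = 1 := fun r => by
    rw [Cert.hg, ← certFullF4.ng_inv, mul_inv_cancel]
  have hpair : certFullF4.torus (zOf f (t, 1)) =
      certFullF4.hg 33 (f t) * certFullF4.hg 24 (t : K) := by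
    rw [certFullF4.torus_eq_prod]
    show (List.map _ (List.range 4)).prod = _
    simp only [List.range_succ, List.range_zero, List.nil_append, List.cons_append,
      List.map_cons, List.map_nil, List.prod_cons, List.prod_nil, mul_one, s0, s1, s2, s3, z0, z1,
      z2, z3, map_one, Units.val_one, hone, one_mul, Units.coe_map, MonoidHom.coe_coe]
  have h1 := pair_torus_mem f hf t
  have h2 := mul_mem (mul_mem hn h1) (inv_mem hn)
  rw [hpair, show n * (certFullF4.hg 33 (f t) * certFullF4.hg 24 (t : K)) * n⁻¹ =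
    (n * certFullF4.hg 33 (f t) * n⁻¹) * (n * certFullF4.hg 24 (t : K) * n⁻¹) by group,
    hconj _ (by omega), hconj _ (by omega), w1, w2] at h2
  have e1 := certFullF4.hg_eq_torus (show 37 < chevF4.nroots by decide)
    (Units.map (f : K →* K) t)
  have e2 := certFullF4.hg_eq_torus (show 32 < chevF4.nroots by decide) t
  rw [show ((Units.map (f : K →* K) t : Kˣ) : K) = f t from rfl] at e1
  rw [e1, e2, ← map_mul] at h2
  have h3 := mul_mem h2 (inv_mem h1)
  rw [← map_inv, ← map_mul] at h3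
  refine (congrArg (· ∈ twistedF4 K (2 ^ m)) (certFullF4.torus_congr fun j hj => ?_)).mp h3
  rw [hr] at hj
  obtain ⟨y0, y1, y2, y3⟩ := zOf_apply f (1, φ t)
  set T := Units.map (f : K →* K) t with hT
  have hTT : Units.map (f : K →* K) T ^ 2 = t := Units.ext (ff_sq f hf hK (t : K))
  rcases (show j = 0 ∨ j = 1 ∨ j = 2 ∨ j = 3 by omega) with rfl | rfl | rfl | rfl <;>
    simp only [Pi.mul_apply, Pi.inv_apply, y0, y1, y2, y3, z0, z1, z2, z3, a0, a1, a2, a3, b0, b1,
      b2, b3, zpow_one, _root_.zpow_zero, mul_one, one_mul, map_one, inv_one, zpow_two, ← hT]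
  · exact mul_inv_cancel T
  · show T * T * t = Units.map (f : K →* K) ((t * T) ^ 2)
    rw [map_pow, map_mul, ← hT, mul_pow, hTT, sq, mul_comm]
  · show T * T * (t * t) = (t * T) ^ 2
    rw [mul_pow, sq, sq, mul_comm]
  · exact mul_inv_cancel t

theorem param_mem (x : Kˣ × Kˣ) : param f x ∈ twistedF4 K (2 ^ m) := by
  rw [show x = (x.1, 1) * (1, x.2) by simp, map_mul]
  exact mul_mem (pair_torus_mem f hf x.1) (class_torus_mem f hf hK x.2)

theorem H_le : chevF4.diagonalSubgroup K ⊓ (tw f).fix ≤ twistedF4 K (2 ^ m) := by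
  intro g hg
  obtain ⟨x, rfl⟩ := exists_param f hf hK hg
  exact param_mem f hf hK x

/-- ²F₄(q) as a twisted group. -/
noncomputable def datum : Twist.Datum (tw f) where
  e := 2
  e_pos := by omega
  G₁ := twistedF4 K (2 ^ m)
  W := weyl f
  G := grading f hf hK
  lifts := lifts f hf hK
  le_fix := le_fix f hf hK
  H_le := H_le f hf hK
  n_mem := n_mem f hf
  disjoint := by
    show ∀ J ∈ orbitsF4, ∀ J' ∈ orbitsF4, ∀ p ∈ J, p ∈ J' → J = J'
    decide
  top := ⟨15, (show (15 : ℕ) < 16 by decide), fun p hp hpos => by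
    obtain ⟨-, h2, h3, -⟩ := (weyl f).step_spec 15 (show (15 : ℕ) < 16 by decide)
    have h := twistF4_top
    simp only [List.all_eq_true, Nat.blt_eq] at h
    have h4 := h _ (List.getElem_mem (h2.symm ▸ hp : p < _))
    change ((weyl f).E.get 15).img[p]'_ < _ at h4
    rw [← List.getD_eq_getElem _ 0, h3 p hp] at h4
    exact absurd hpos.1 (by omega)⟩

theorem card_H : Nat.card ↥(chevF4.diagonalSubgroup K ⊓ (tw f).fix) =
    (2 ^ (2 * m + 1) - 1) ^ 2 := by
  classical
  have hrange : (param f).range = chevF4.diagonalSubgroup K ⊓ (tw f).fix := by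
    refine le_antisymm ?_ fun g hg => exists_param f hf hK hg
    rintro g ⟨x, rfl⟩
    exact ⟨certFullF4.torus_mem _, param_fix f hf hK x⟩
  have hinj : Function.Injective (param f) := by
    intro x y e
    have h := torus_inj (K := K) e
    have h2 := h 2 (by omega)
    have h3 := h 3 (by omega)
    rw [(zOf_apply f x).2.2.1, (zOf_apply f y).2.2.1] at h2
    rw [(zOf_apply f x).2.2.2, (zOf_apply f y).2.2.2] at h3
    exact Prod.ext h3 h2
  rw [← hrange, ← Nat.card_congr (MonoidHom.ofInjective hinj).toEquiv, Nat.card_prod,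
    Nat.card_units, natCard f hf hK, sq]

theorem card_diag : Nat.card ↥(chevF4.diagonalSubgroup K ⊓ twistedF4 K (2 ^ m)) =
    (2 ^ (2 * m + 1) - 1) ^ 2 := by
  rw [show twistedF4 K (2 ^ m) = (tw f).fix from (datum f hf hK).eq_fix, card_H f hf hK]

theorem card_U : Nat.card ↥(chevF4.posUnipotent K ⊓ twistedF4 K (2 ^ m)) =
    (2 ^ (2 * m + 1)) ^ 12 := by
  rw [show twistedF4 K (2 ^ m) = (tw f).fix from (datum f hf hK).eq_fix,
    (datum f hf hK).card_U_half rfl (by decide), natCard f hf hK]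
  rfl

omit hf hK [Fintype K] [CharP K 2] [ExpChar K 2] in
theorem invT_orbits : orbitsF4.map certFullF4.T.invT = [2, 4] := by decide +kernel

omit hf hK [Fintype K] [CharP K 2] [ExpChar K 2] in
theorem len_checks :
    ((List.range 16).all fun i =>
      Nat.beq (((twistF4Reps.get i).word.map fun j => [2, 4].getD j 0).sum % 2) 0) = true ∧
    isZeroP (addP
      (mulP ((List.range 16).foldr (fun i acc =>
          addP (monoP (((twistF4Reps.get i).word.map fun j => [2, 4].getD j 0).sum / 2)) acc) [])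
        (mulP [-1, 1] [-1, 1]))
      (([[-1, 1], addP [1] (monoP 3), addP [-1] (monoP 4), addP [1] (monoP 6)].foldr mulP
        [1]).map (-1 * ·))) = true := by
  decide +kernel

theorem lenOf_eq {i : ℕ} (hi : i < 16) : Twist.Datum.lenOf (weyl f) i =
    ((twistF4Reps.get i).word.map fun j => [2, 4].getD j 0).sum := by
  unfold Twist.Datum.lenOf
  refine congrArg List.sum (List.map_congr_left fun j hj => ?_)
  have hj' : j < orbitsF4.length := ((weyl f).step_spec i hi).1 j hj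
  show certFullF4.T.invT (orbitsF4.getD j []) = _
  rw [show [2, 4] = orbitsF4.map certFullF4.T.invT from invT_orbits.symm,
    List.getD_eq_getElem (orbitsF4.map certFullF4.T.invT) 0
      (by rw [List.length_map]; exact hj'), List.getElem_map,
    ← List.getD_eq_getElem _ [] hj']

theorem card_group : Nat.card ↥(twistedF4 K (2 ^ m)) =
    (2 ^ (2 * m + 1)) ^ 12 * (2 ^ (2 * m + 1) - 1) * ((2 ^ (2 * m + 1)) ^ 3 + 1) *
      ((2 ^ (2 * m + 1)) ^ 4 - 1) * ((2 ^ (2 * m + 1)) ^ 6 + 1) := by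
  obtain ⟨hev, hpoly⟩ := len_checks
  simp only [List.all_eq_true, List.mem_range, Nat.beq_eq] at hev
  have h : Nat.card ↥(twistedF4 K (2 ^ m)) = _ := (datum f hf hK).card_G₁_half rfl (by decide)
    fun i hi => by rw [Nat.even_iff]; exact (lenOf_eq f hf hK hi).symm ▸ hev i hi
  rw [natCard f hf hK, card_H f hf hK] at h
  rw [h]
  set q := 2 ^ (2 * m + 1)
  have hlist : ((List.range (datum f hf hK).W.N).map fun i =>
      Twist.Datum.lenOf (datum f hf hK).W i / 2) = (List.range 16).map fun i =>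
        ((twistF4Reps.get i).word.map fun j => [2, 4].getD j 0).sum / 2 := by
    refine List.map_congr_left fun i hi => ?_
    rw [List.mem_range] at hi
    exact congrArg (· / 2) (lenOf_eq f hf hK hi)
  rw [hlist]
  set S : ℕ := (((List.range 16).map fun i =>
    ((twistF4Reps.get i).word.map fun j => [2, 4].getD j 0).sum / 2).map fun n => q ^ n).sum with hS
  have hp : 1 ≤ q := Nat.one_le_two_pow
  have hp4 : 1 ≤ q ^ 4 := Nat.one_le_pow _ _ (by omega)
  have he := evalP_isZeroP (q : ℤ) _ hpoly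
  have hfold : ∀ L : List ℕ, evalP (q : ℤ) (L.foldr (fun i acc =>
      addP (monoP (((twistF4Reps.get i).word.map fun j => [2, 4].getD j 0).sum / 2)) acc) []) =
      ((L.map fun i => ((twistF4Reps.get i).word.map fun j => [2, 4].getD j 0).sum / 2).map
        fun n => (q : ℤ) ^ n).sum := by
    intro L
    induction L with
    | nil => rfl
    | cons a L ih =>
      simp only [List.foldr_cons, evalP_addP, evalP_monoP, ih, List.map_cons, List.sum_cons]
  rw [evalP_addP, evalP_smul, evalP_mulP, hfold, evalP_mulP, evalP_foldr] at he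
  simp only [List.map_cons, List.map_nil, List.prod_cons, List.prod_nil, evalP_addP, evalP_monoP,
    evalP] at he
  have hcast : ((S : ℕ) : ℤ) = (((List.range 16).map fun i =>
      ((twistF4Reps.get i).word.map fun j => [2, 4].getD j 0).sum / 2).map
        fun n => (q : ℤ) ^ n).sum := by
    rw [hS, Nat.cast_list_sum, List.map_map]
    simp [Function.comp_def, List.map_map]
  rw [← hcast] at he
  refine Int.natCast_inj.1 ?_
  show ((q ^ 12 * (q - 1) ^ 2 * S : ℕ) : ℤ) = _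
  push_cast [hp, hp4]
  linear_combination ((q : ℤ) ^ 12) * he

/-! ### Perfectness and simplicity -/

omit hf hK [Fintype K] [CharP K 2] [ExpChar K 2] in
theorem tchar_values (z : ℕ → Kˣ) :
    certFullF4.tchar z 33 = z 0 * z 0 * (z 1)⁻¹ ∧
    certFullF4.tchar z 24 = z 3 * z 3 * (z 2)⁻¹ ∧
    certFullF4.tchar z 27 = z 1 * z 1 * (z 0 * z 2)⁻¹ ∧
    certFullF4.tchar z 25 = z 2 * z 2 * (z 1 * z 1 * z 3)⁻¹ ∧
    certFullF4.tchar z 28 = z 2 * (z 0 * z 3)⁻¹ ∧
    certFullF4.tchar z 30 = z 1 * z 1 * (z 0 * z 0 * z 3)⁻¹ := by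
  have hA : [33, 24, 27, 25, 28, 30].map (fun r => (List.range 4).map fun i => certFullF4.T.cartan i r) =
      [[2, -1, 0, 0], [0, 0, -1, 2], [-1, 2, -1, 0], [0, -2, 2, -1], [-1, 0, 1, -1],
        [-2, 2, 0, -1]] := by decide +kernel
  simp only [List.map_cons, List.map_nil, List.range_succ, List.range_zero, List.nil_append,
    List.cons_append, List.cons.injEq, and_true] at hA
  simp only [Cert.tchar, show chevF4.rank = 4 from rfl, Finset.prod_range_succ,
    Finset.prod_range_zero, one_mul, hA, zpow_two, _root_.zpow_neg, zpow_one, _root_.zpow_zero,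
    mul_one, _root_.mul_inv_rev]
  refine ⟨?_, ?_, ?_, ?_, ?_, ?_⟩ <;> simp only [mul_comm, mul_assoc, mul_left_comm]

omit hf hK [Fintype K] [CharP K 2] [ExpChar K 2] in
theorem invSet_values :
    ((List.range' 24 24).filter fun r => Nat.blt (certFullF4.T.wlT [0, 3] r) 24) = [24, 33] ∧
    ((List.range' 24 24).filter fun r => Nat.blt (certFullF4.T.wlT [1, 2, 1, 2] r) 24) =
      [25, 27, 28, 30] := by
  decide +kernel

omit hf hK [Fintype K] [CharP K 2] [ExpChar K 2] in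
theorem invSet_eq {J : List ℕ} (hJ : ∀ p ∈ J, p < chevF4.rank) (r : ℕ) :
    r ∈ certFullF4.invSet J ↔
      r ∈ (List.range' 24 24).filter fun r => Nat.blt (certFullF4.T.wlT J r) 24 := by
  rw [List.mem_filter, List.mem_range'_1, Nat.blt_eq, certFullF4.wlT_eq]
  constructor
  · intro hr
    refine ⟨⟨hr.1.1, hr.1.2⟩, ?_⟩
    by_contra h'
    exact hr.2 ⟨by show 24 ≤ _; omega, certFullF4.wl_lt hJ hr.1.2⟩
  · intro hr
    exact ⟨⟨hr.1.1, hr.1.2⟩, fun h => absurd h.1 (by show ¬ 24 ≤ _; omega)⟩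

theorem perfect (hm : 1 ≤ m) : commutator ↥(twistedF4 K (2 ^ m)) = ⊤ := by
  classical
  set Z := datum f hf hK
  obtain ⟨w, hw⟩ : ∃ w : Kˣ, (w : K) ≠ 1 := by
    by_contra hall
    push Not at hall
    have h : Nat.card Kˣ ≤ 1 := by
      rw [Finite.card_le_one_iff_subsingleton]
      exact ⟨fun a b => Units.ext (by rw [hall a, hall b])⟩
    rw [Nat.card_units, natCard f hf hK] at h
    have := Nat.pow_le_pow_right two_pos (show 3 ≤ 2 * m + 1 by omega)
    omega
  set W := Units.map (f : K →* K) w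
  have hWW : f (f (w : K)) ^ 2 = (w : K) := ff_sq f hf hK _
  have hw0 : (w : K) ≠ 0 := w.ne_zero
  have hfix : f (w : K) ≠ (w : K) := fun e => hw (by
    rw [e, e, sq] at hWW
    exact mul_left_cancel₀ hw0 (by rw [mul_one, hWW]))
  obtain ⟨i03, i12⟩ := invSet_values
  have hl03 : ∀ p ∈ [0, 3], p < chevF4.rank := by rw [node_values.2.2.2.2.1]; simp
  have hl12 : ∀ p ∈ [1, 2, 1, 2], p < chevF4.rank := by rw [node_values.2.2.2.2.1]; simp
  have hJ03 : [0, 3] ∈ Z.W.Jw := by show [0, 3] ∈ orbitsF4; decide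
  have hJ12 : [1, 2, 1, 2] ∈ Z.W.Jw := by show [1, 2, 1, 2] ∈ orbitsF4; decide
  have hS03 : ∀ x ∈ certFullF4.KS K (certFullF4.invSet [0, 3]) certFullF4.T.h ⊓ (tw f).fix,
      x ∈ ⁅Z.G₁, Z.G₁⁆ := fun x hx => by
    refine Z.mem_commutator_torus (certFullF4.invSet_closed hl03)
      (fun r hr => (tw f).ρ_mem_invSet hl03 ((Z.W.J_spec hJ03).2.2.1) hr)
      (param_fix f hf hK (w, 1)) (fun r hr => ?_) hx
    rw [invSet_eq hl03, i03] at hr
    obtain ⟨z0, z1, z2, z3⟩ := zOf_apply f (w, 1)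
    obtain ⟨c33, c24, -⟩ := tchar_values (zOf f (w, 1))
    simp only [List.mem_cons, List.not_mem_nil, or_false] at hr
    intro e
    rcases hr with rfl | rfl
    · rw [show certFullF4.tchar (zOf f (w, 1)) 24 = w * w by
        rw [c24, z3, z2, inv_one, mul_one]] at e
      exact hw (frobenius_inj K 2 (by
        simpa [frobenius_def, sq] using congrArg Units.val e))
    · rw [show certFullF4.tchar (zOf f (w, 1)) 33 = W * W by
        rw [c33, z0, z1, map_one, inv_one, mul_one]] at e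
      have h1 : f (w : K) = 1 := frobenius_inj K 2 (by
        simpa [frobenius_def, sq, W] using congrArg Units.val e)
      exact hw (f.injective (by rw [h1, map_one]))
  have hS12 : ∀ x ∈ certFullF4.KS K (certFullF4.invSet [1, 2, 1, 2]) certFullF4.T.h ⊓ (tw f).fix,
      x ∈ ⁅Z.G₁, Z.G₁⁆ := fun x hx => by
    refine Z.mem_commutator_torus (certFullF4.invSet_closed hl12)
      (fun r hr => (tw f).ρ_mem_invSet hl12 ((Z.W.J_spec hJ12).2.2.1) hr)
      (param_fix f hf hK (1, w)) (fun r hr => ?_) hx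
    rw [invSet_eq hl12, i12] at hr
    obtain ⟨z0, z1, z2, z3⟩ := zOf_apply f (1, w)
    obtain ⟨-, -, c27, c25, c28, c30⟩ := tchar_values (zOf f (1, w))
    simp only [List.mem_cons, List.not_mem_nil, or_false] at hr
    intro e
    rcases hr with rfl | rfl | rfl | rfl
    · rw [show certFullF4.tchar (zOf f (1, w)) 25 = w * w * (W * W)⁻¹ by
        rw [c25, z1, z2, z3, mul_one], mul_inv_eq_one] at e
      exact hfix (frobenius_inj K 2 (by
        simpa [frobenius_def, sq, W] using (congrArg Units.val e).symm))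
    · rw [show certFullF4.tchar (zOf f (1, w)) 27 = W * W * w⁻¹ by
        rw [c27, z0, z1, z2, map_one, one_mul], mul_inv_eq_one] at e
      have h1 : f (w : K) ^ 2 = (w : K) := by
        rw [sq]; simpa [W] using congrArg Units.val e
      have h2 : f (f (w : K)) ^ 2 = f (w : K) := by rw [← map_pow, h1]
      exact hfix (h2.symm.trans hWW)
    · rw [show certFullF4.tchar (zOf f (1, w)) 28 = w by
        rw [c28, z0, z2, z3, map_one, one_mul, inv_one, mul_one]] at e
      exact hw (by rw [e, Units.val_one])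
    · rw [show certFullF4.tchar (zOf f (1, w)) 30 = W * W by
        rw [c30, z0, z1, z3, map_one, one_mul, one_mul, inv_one, mul_one]] at e
      have h1 : f (w : K) = 1 := frobenius_inj K 2 (by
        simpa [frobenius_def, sq, W] using congrArg Units.val e)
      exact hw (f.injective (by rw [h1, map_one]))
  have hn : chevF4.neg 14 = 33 ∧ chevF4.neg 23 = 24 ∧ chevF4.neg 20 = 27 ∧ chevF4.neg 22 = 25 ∧
      chevF4.neg 19 = 28 ∧ chevF4.neg 17 = 30 ∧ chevF4.nroots = 48 := by decide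
  refine Z.perfect_of_gens rfl ?_
  rintro g ⟨w', hw', hg⟩
  obtain rfl := eq_wordProd certFullF4 hg
  have hfixg := le_fix f hf hK (wordProd_mem certFullF4 hw')
  obtain ⟨n14, n23, n20, n22, n19, n17, hnr⟩ := hn
  rcases hw' with ⟨t, rfl | rfl⟩ | ⟨t, u, rfl | rfl⟩
  · refine Z.word_mem_commutator hJ03 hS03 hfixg (Or.inl fun x hx => ?_)
    rw [invSet_eq hl03, i03]
    simp only [f4PairWord, f4p1, f4p4, List.mem_cons, List.not_mem_nil, or_false] at hx
    rcases hx with rfl | rfl <;> simp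
  · refine Z.word_mem_commutator hJ03 hS03 hfixg (Or.inr fun x hx => ?_)
    rw [invSet_eq hl03, i03, hnr]
    simp only [f4PairWord, f4m1, f4m4, List.mem_cons, List.not_mem_nil, or_false] at hx
    rcases hx with rfl | rfl <;> simp [n14, n23]
  · refine Z.word_mem_commutator hJ12 hS12 hfixg (Or.inl fun x hx => ?_)
    rw [invSet_eq hl12, i12]
    simp only [b2ClassWord, f4a, f4b, f4ab, f4aab, List.mem_cons, List.not_mem_nil, or_false] at hx
    rcases hx with rfl | rfl | rfl | rfl <;> simp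
  · refine Z.word_mem_commutator hJ12 hS12 hfixg (Or.inr fun x hx => ?_)
    rw [invSet_eq hl12, i12, hnr]
    simp only [b2ClassWord, f4ma, f4mb, f4mab, f4maab, List.mem_cons, List.not_mem_nil,
      or_false] at hx
    rcases hx with rfl | rfl | rfl | rfl <;> simp [n20, n22, n19, n17]

theorem chain : (datum f hf hK).Chain := by
  intro a ha
  change a + 1 < 2 at ha
  obtain rfl : a = 0 := by omega
  have h : ((List.range 4).any fun q =>
      !(Nat.beq (certFullF4.T.wlT (orbitsF4.getD 0 [] ++ orbitsF4.getD 1 [])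
          (certFullF4.T.simple q))
        (certFullF4.T.wlT (orbitsF4.getD 1 [] ++ orbitsF4.getD 0 [])
          (certFullF4.T.simple q)))) = true := by decide +kernel
  simp only [List.any_eq_true, List.mem_range, Bool.not_eq_true'] at h
  obtain ⟨j, hj, hne⟩ := h
  have hj' : j < chevF4.rank := hj
  refine ⟨j, hj', fun e => ?_⟩
  rw [List.getD_eq_getElem _ _ (show 0 < orbitsF4.length by decide),
    List.getD_eq_getElem _ _ (show 1 < orbitsF4.length by decide), certFullF4.wlT_eq,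
    certFullF4.wlT_eq, ← certFullF4.simple_eq hj'] at hne
  exact Bool.noConfusion (hne.symm.trans (beq_of_eq e))

theorem simple (hm : 1 ≤ m) :
    IsSimpleGroup ↥(twistedF4 K (2 ^ m)) ∧ ¬ IsMulCommutative ↥(twistedF4 K (2 ^ m)) :=
  (datum f hf hK).simple (by show orbitsF4 ≠ []; decide) (chain f hf hK) (perfect f hf hK hm)

theorem weylHom : ∃ φ : ↥(chevF4.monomialSubgroup K ⊓ twistedF4 K (2 ^ m)) →* DihedralGroup 8,
    Function.Surjective φ ∧ φ.ker = (chevF4.diagonalSubgroup K ⊓ twistedF4 K (2 ^ m)).subgroupOf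
      (chevF4.monomialSubgroup K ⊓ twistedF4 K (2 ^ m)) :=
  (datum f hf hK).exists_dihedralHom_of_check rfl (by show orbitsF4.Nodup; decide) (by
    show certFullF4.T.checkCox orbitsF4 _ = true
    decide +kernel)

end Cfsg.Agent.Lie.Chev.F4
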