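import Cfsg.Agent.Lib.Lie.Chev.TwistNodes
import Cfsg.Prelude.Def_KGroupFacts

/-! The outer automorphism group of a finite twisted group: diagonal and field automorphisms. -/

set_option autoImplicit false

namespace Cfsg.Agent.Lie.Chev

open Cfsg.Lie Matrix
open scoped MatrixGroups

/-- A subfield of a finite field is stable under automorphisms. -/
theorem subfield_stable {F : Type*} [Field F] [Finite F] (L : Subfield F) (σ : F ≃+* F) {t : F}
    (ht : t ∈ L) : σ t ∈ L := by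
  classical
  haveI := Fintype.ofFinite F
  set n := Fintype.card L
  have hn : 1 < n := Fintype.one_lt_card
  have hpow : ∀ x ∈ L, x ^ n = x := fun x hx =>
    congrArg Subtype.val (FiniteField.pow_card (⟨x, hx⟩ : L))
  have hne : (Polynomial.X ^ n - Polynomial.X : Polynomial F) ≠ 0 :=
    FiniteField.X_pow_card_sub_X_ne_zero F hn
  set S := Finset.univ.filter fun x : F => x ∈ L
  have hS : S.card = n := by simp [S, n, Fintype.card_subtype]
  have hsub : S.val ⊆ (Polynomial.X ^ n - Polynomial.X : Polynomial F).roots := by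
    intro x hx
    rw [Polynomial.mem_roots hne]
    simp only [S, Finset.mem_val, Finset.mem_filter, Finset.mem_univ, true_and] at hx
    simp [hpow x hx]
  have heq : S.val = (Polynomial.X ^ n - Polynomial.X : Polynomial F).roots := by
    refine Multiset.eq_of_le_of_card_le (Multiset.le_iff_subset S.nodup |>.2 hsub) ?_
    refine (Polynomial.card_roots' _).trans ?_
    rw [FiniteField.X_pow_card_sub_X_natDegree_eq F hn]
    exact hS.ge
  have hmem : σ t ∈ (Polynomial.X ^ n - Polynomial.X : Polynomial F).roots := by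
    rw [Polynomial.mem_roots hne]
    simp [← map_pow, hpow t ht]
  rw [← heq] at hmem
  simpa [S] using hmem

/-- Moving a root element past a product of torus elements. -/
theorem CertFull.hgs_mul_xg {D : ChevalleyDatum} (c : CertFull D) {F : Type*} [Field F]
    (a : ℕ → Fˣ) {s : ℕ} (hs : s < D.nroots) : ∀ (l : List ℕ), (∀ r ∈ l, r < D.nroots) → ∀ u : F,
      (l.map fun r => c.hg r (a r : F)).prod * c.xg s u =
        c.xg s ((((l.map fun r => a r ^ c.T.pairing r s).prod : Fˣ) : F) * u) *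
          (l.map fun r => c.hg r (a r : F)).prod
  | [], _, u => by simp
  | r :: l, hl, u => by
    rw [List.map_cons, List.prod_cons, mul_assoc,
      c.hgs_mul_xg a hs l (fun x hx => hl x (by simp [hx])) u, ← mul_assoc,
      c.hg_mul_xg (hl r (by simp)) hs, List.map_cons, List.prod_cons, Units.val_mul, mul_assoc,
      ← mul_assoc ((a r ^ c.T.pairing r s : Fˣ) : F)]

namespace Twist

variable {D : ChevalleyDatum} {c : CertFull D} {F : Type*} [Field F] {T : Twist c F}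

namespace Datum

variable (Y : Datum T) [Finite F]

/-- The restriction of an injective endomorphism. -/
noncomputable def autRes (φ : GL D.Idx F →* GL D.Idx F) (hinj : Function.Injective φ)
    (h : ∀ g ∈ Y.G₁, φ g ∈ Y.G₁) : MulAut ↥Y.G₁ :=
  MulEquiv.ofBijective ((φ.comp Y.G₁.subtype).codRestrict Y.G₁ fun g => h g g.2)
    (Finite.injective_iff_bijective.1 fun _ _ e =>
      Subtype.ext (hinj (congrArg Subtype.val e)))

theorem autRes_coe (φ : GL D.Idx F →* GL D.Idx F) (hinj : Function.Injective φ)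
    (h : ∀ g ∈ Y.G₁, φ g ∈ Y.G₁) (g : ↥Y.G₁) : (Y.autRes φ hinj h g : GL D.Idx F) = φ g := rfl

theorem autRes_fix (φ : GL D.Idx F →* GL D.Idx F) (hinj : Function.Injective φ)
    (h : ∀ g ∈ Y.G₁, φ g ∈ Y.G₁) {S : Subgroup (GL D.Idx F)} (hS : ∀ g ∈ S, φ g ∈ S) :
    Y.FixG (Y.autRes φ hinj h) S := by
  intro g
  rw [Y.autRes_coe]
  refine ⟨fun hg => ?_, hS _⟩
  obtain ⟨u, hu⟩ := (Finite.injective_iff_surjective (f := fun x : S => (⟨φ x, hS x x.2⟩ : S))).1
    (fun _ _ e => Subtype.ext (hinj (congrArg Subtype.val e))) ⟨φ g, hg⟩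
  rw [← hinj (congrArg Subtype.val hu)]
  exact u.2

end Datum

namespace Nodes

variable {Y : Datum T} (N : Nodes Y)

/-- The values on the fundamental roots of a tuple of scalars. -/
noncomputable def expand : (∀ i, (N.L i)ˣ) →* (Fin D.rank → Fˣ) where
  toFun z p := Units.map (((N.E p).comp (N.L (N.node p)).subtype) : N.L (N.node p) →* F) (z _)
  map_one' := funext fun p => map_one _
  map_mul' z z' := funext fun p => map_mul _ _ _

/-- The diagonal element of a tuple of scalars. -/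
noncomputable def dz : (∀ i, (N.L i)ˣ) →* GL D.Idx F :=
  (dg D F).comp ((MonoidHom.mk' (fun z => c.nodeChar z) c.nodeChar_mul).comp N.expand)

theorem dz_apply (z : ∀ i, (N.L i)ˣ) : N.dz z = dg D F (c.nodeChar (N.expand z)) := rfl

theorem nodeChar_simple_node (z : ∀ i, (N.L i)ˣ) {i : Fin N.m} {p : ℕ} (hp : p ∈ N.J i) :
    (c.nodeChar (N.expand z) (D.simple p) : F) = N.E p ((z i : N.L i) : F) := by
  have h := c.nodeChar_simple (N.expand z) ⟨p, N.lt hp⟩
  rw [show (c.nodeChar (N.expand z) (D.simple p)) = _ from h]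
  have e := N.node_eq (p := ⟨p, N.lt hp⟩) hp
  show N.E p ((z (N.node ⟨p, N.lt hp⟩) : N.L (N.node ⟨p, N.lt hp⟩)) : F) = _
  generalize N.node ⟨p, N.lt hp⟩ = j at e
  subst e
  rfl

theorem conj_prod {G : Type*} [Group G] (d : G) {α : Type*} (f g : α → G) :
    ∀ l : List α, (∀ x ∈ l, d * f x * d⁻¹ = g x) → d * (l.map f).prod * d⁻¹ = (l.map g).prod
  | [], _ => by simp
  | a :: l, h => by
    rw [List.map_cons, List.prod_cons, List.map_cons, List.prod_cons, ← h a (by simp),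
      ← conj_prod d f g l (fun x hx => h x (by simp [hx]))]
    group

theorem dz_conj_up (z : ∀ i, (N.L i)ˣ) (i : Fin N.m) (t : N.L i) :
    N.dz z * upProd c N.E (N.J i) t * (N.dz z)⁻¹ =
      upProd c N.E (N.J i) (((z i : N.L i) * t : N.L i) : F) := by
  refine conj_prod _ _ _ _ fun p hp => ?_
  rw [N.dz_apply, c.dg_mul_xg (c.nodeChar_isRootCharacter _) (c.simple_lt (N.lt hp)),
    mul_inv_cancel_right, N.nodeChar_simple_node z hp, ← map_mul]
  rfl

theorem dz_conj_lo (z : ∀ i, (N.L i)ˣ) (i : Fin N.m) (t : N.L i) :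
    N.dz z * loProd c N.E (N.J i) t * (N.dz z)⁻¹ =
      loProd c N.E (N.J i) (((z i)⁻¹ : (N.L i)ˣ) * t : N.L i) := by
  refine conj_prod _ _ _ _ fun p hp => ?_
  have hα := c.simple_lt (N.lt hp)
  have hχ := c.nodeChar_isRootCharacter (F := F) (N.expand z)
  rw [N.dz_apply, c.dg_mul_xg hχ (c.neg_lt hα), mul_inv_cancel_right, hχ.1 _ hα,
    Units.val_inv_eq_inv_val, N.nodeChar_simple_node z hp, ← map_inv₀, ← map_mul]
  congr 2
  rw [Subfield.coe_mul, Units.val_inv_eq_inv_val, Subfield.coe_inv]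

theorem dz_injective : Function.Injective N.dz := by
  intro z z' e
  funext i
  obtain ⟨hne, -⟩ := Y.W.J_spec (N.J_mem i)
  obtain ⟨p, hp⟩ := List.exists_mem_of_ne_nil _ hne
  have h := (dg_eq_iff D F).1 e (D.simple p) (c.simple_lt (N.lt hp))
  have h1 := congrArg Units.val h
  change (c.nodeChar (N.expand z) (D.simple p) : F) = c.nodeChar (N.expand z') (D.simple p) at h1
  rw [N.nodeChar_simple_node z hp, N.nodeChar_simple_node z' hp] at h1
  exact Units.ext (Subtype.ext ((N.E p).injective h1))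

variable [Finite F]

include N

theorem up_mem (i : Fin N.m) (t : N.L i) : upProd c N.E (N.J i) t ∈ Y.G₁ :=
  Y.U₁_le (N.up_mem_U₁ i t)

theorem lo_mem (i : Fin N.m) (t : N.L i) : loProd c N.E (N.J i) t ∈ Y.G₁ :=
  Y.V₁_le (N.lo_mem_V₁ i t)

theorem map_mem (φ : GL D.Idx F →* GL D.Idx F)
    (h : ∀ i (t : N.L i), φ (upProd c N.E (N.J i) t) ∈ Y.G₁ ∧
      φ (loProd c N.E (N.J i) t) ∈ Y.G₁) {g : GL D.Idx F} (hg : g ∈ Y.G₁) : φ g ∈ Y.G₁ := by
  rw [← Subgroup.mem_comap]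
  refine (Subgroup.closure_le _).2 ?_ (N.gens hg)
  rintro x ⟨i, t, ht, rfl | rfl⟩
  exacts [(h i ⟨t, ht⟩).1, (h i ⟨t, ht⟩).2]

/-- The diagonal automorphism of a tuple of scalars. -/
noncomputable def dgAut (z : ∀ i, (N.L i)ˣ) : MulAut ↥Y.G₁ :=
  Y.autRes (MulAut.conj (N.dz z)).toMonoidHom (MulAut.conj (N.dz z)).injective fun _ hg =>
    N.map_mem _ (fun i t => ⟨by
      show N.dz z * _ * (N.dz z)⁻¹ ∈ _
      rw [N.dz_conj_up]; exact N.up_mem i _, by
      show N.dz z * _ * (N.dz z)⁻¹ ∈ _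
      rw [N.dz_conj_lo]; exact N.lo_mem i _⟩) hg

theorem dgAut_apply (z : ∀ i, (N.L i)ˣ) (g : ↥Y.G₁) :
    (N.dgAut z g : GL D.Idx F) = N.dz z * g * (N.dz z)⁻¹ := rfl

theorem dgAut_up (z : ∀ i, (N.L i)ˣ) (i : Fin N.m) (t : N.L i) :
    N.dgAut z (N.upG i t) = N.upG i ((z i : N.L i) * t) :=
  Subtype.ext (by rw [N.dgAut_apply, N.upG_coe, N.upG_coe, N.dz_conj_up])

theorem dgAut_lo (z : ∀ i, (N.L i)ˣ) (i : Fin N.m) (t : N.L i) :
    N.dgAut z (N.loG i t) = N.loG i (((z i)⁻¹ : (N.L i)ˣ) * t) :=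
  Subtype.ext (by rw [N.dgAut_apply, N.loG_coe, N.loG_coe, N.dz_conj_lo])

theorem dgAut_mul (z z' : ∀ i, (N.L i)ˣ) : N.dgAut (z * z') = N.dgAut z * N.dgAut z' :=
  MulEquiv.ext fun g => Subtype.ext (by
    rw [MulAut.mul_apply, N.dgAut_apply, N.dgAut_apply, N.dgAut_apply, map_mul]
    group)

theorem dgAut_one : N.dgAut 1 = 1 :=
  MulEquiv.ext fun g => Subtype.ext (by rw [N.dgAut_apply]; simp)

theorem conj_xg_mem {d : GL D.Idx F} {P : ℕ → Prop} {χ : ℕ → Fˣ} (hχ : D.IsRootCharacter χ)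
    (hd : d = dg D F χ) (hP : ∀ r, P r → r < D.nroots) {g : GL D.Idx F}
    (hg : g ∈ Subgroup.closure
      {g : GL D.Idx F | ∃ (r : ℕ) (t : F), P r ∧ (g : Matrix D.Idx D.Idx F) = D.x F r t}) :
    d * g * d⁻¹ ∈ Subgroup.closure
      {g : GL D.Idx F | ∃ (r : ℕ) (t : F), P r ∧ (g : Matrix D.Idx D.Idx F) = D.x F r t} := by
  refine conj_closure_mem ?_ hg
  rintro x ⟨r, t, hr, hx⟩
  obtain rfl := c.eq_xg_iff.1 hx
  rw [hd, c.dg_mul_xg hχ (hP r hr), mul_inv_cancel_right]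
  exact Subgroup.subset_closure ⟨r, _, hr, c.xg_val _ _⟩

theorem dgAut_fix (z : ∀ i, (N.L i)ˣ) :
    Y.FixG (N.dgAut z) Y.U₁ ∧ Y.FixG (N.dgAut z) Y.V₁ := by
  have hχ := c.nodeChar_isRootCharacter (F := F) (N.expand z)
  have key : ∀ S : Subgroup (GL D.Idx F), (∀ g ∈ S, N.dz z * g * (N.dz z)⁻¹ ∈ S) →
      Y.FixG (N.dgAut z) (S ⊓ T.fix) := by
    intro S hS g
    have h := Y.autRes_fix (MulAut.conj (N.dz z)).toMonoidHom (MulAut.conj (N.dz z)).injective
      (fun g hg => (N.dgAut z ⟨g, hg⟩).2) (S := S) hS g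
    exact ⟨fun hg => ⟨h.1 hg.1, Y.le_fix g.2⟩,
      fun hg => ⟨h.2 hg.1, Y.le_fix (N.dgAut z g).2⟩⟩
  exact ⟨key _ fun g hg => N.conj_xg_mem hχ rfl (fun r hr => hr.1) hg,
    key _ fun g hg => N.conj_xg_mem hχ rfl (fun r hr => hr.1) hg⟩

theorem map_up (σ : F ≃+* F) (i : Fin N.m) (t : F) :
    Matrix.GeneralLinearGroup.map (σ : F →+* F) (upProd c N.E (N.J i) t) =
      upProd c N.E (N.J i) (σ t) := by
  rw [upProd, upProd, map_list_prod, List.map_map]
  refine congrArg List.prod (List.map_congr_left fun p _ => ?_)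
  obtain ⟨k, hk⟩ := N.pow p
  rw [Function.comp_apply, c.xg_map, hk, hk, RingEquiv.coe_toRingHom, map_pow]

theorem map_lo (σ : F ≃+* F) (i : Fin N.m) (t : F) :
    Matrix.GeneralLinearGroup.map (σ : F →+* F) (loProd c N.E (N.J i) t) =
      loProd c N.E (N.J i) (σ t) := by
  rw [loProd, loProd, map_list_prod, List.map_map]
  refine congrArg List.prod (List.map_congr_left fun p _ => ?_)
  obtain ⟨k, hk⟩ := N.pow p
  rw [Function.comp_apply, c.xg_map, hk, hk, RingEquiv.coe_toRingHom, map_pow]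

theorem gl_map_injective (σ : F ≃+* F) :
    Function.Injective (Matrix.GeneralLinearGroup.map (n := D.Idx) (σ : F →+* F)) := by
  intro g h e
  refine Units.ext (Matrix.ext fun a b => σ.injective ?_)
  exact congrArg (fun u : GL D.Idx F => (u : Matrix D.Idx D.Idx F) a b) e

/-- The automorphism of a field automorphism. -/
noncomputable def fieldMap (σ : F ≃+* F) : MulAut ↥Y.G₁ :=
  Y.autRes (Matrix.GeneralLinearGroup.map (σ : F →+* F)) (N.gl_map_injective σ) fun _ hg =>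
    N.map_mem _ (fun i t => ⟨by
      rw [N.map_up]; exact N.up_mem i ⟨_, subfield_stable _ σ t.2⟩, by
      rw [N.map_lo]; exact N.lo_mem i ⟨_, subfield_stable _ σ t.2⟩⟩) hg

theorem fieldMap_up (σ : F ≃+* F) (i : Fin N.m) (t : N.L i) :
    N.fieldMap σ (N.upG i t) = N.upG i ⟨σ t, subfield_stable _ σ t.2⟩ :=
  Subtype.ext (by rw [fieldMap, Y.autRes_coe, N.upG_coe, N.upG_coe, N.map_up])

theorem fieldMap_lo (σ : F ≃+* F) (i : Fin N.m) (t : N.L i) :
    N.fieldMap σ (N.loG i t) = N.loG i ⟨σ t, subfield_stable _ σ t.2⟩ :=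
  Subtype.ext (by rw [fieldMap, Y.autRes_coe, N.loG_coe, N.loG_coe, N.map_lo])

theorem fieldMap_fix (σ : F ≃+* F) :
    Y.FixG (N.fieldMap σ) Y.U₁ ∧ Y.FixG (N.fieldMap σ) Y.V₁ := by
  have key : ∀ (P : ℕ → Prop), ∀ g ∈ Subgroup.closure
      {g : GL D.Idx F | ∃ (r : ℕ) (t : F), P r ∧ (g : Matrix D.Idx D.Idx F) = D.x F r t},
      Matrix.GeneralLinearGroup.map (σ : F →+* F) g ∈ Subgroup.closure
        {g : GL D.Idx F | ∃ (r : ℕ) (t : F), P r ∧ (g : Matrix D.Idx D.Idx F) = D.x F r t} := by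
    intro P g hg
    rw [← Subgroup.mem_comap]
    refine (Subgroup.closure_le _).2 ?_ hg
    rintro x ⟨r, t, hr, hx⟩
    obtain rfl := c.eq_xg_iff.1 hx
    rw [SetLike.mem_coe, Subgroup.mem_comap, c.xg_map]
    exact Subgroup.subset_closure ⟨r, _, hr, c.xg_val _ _⟩
  have key2 : ∀ S : Subgroup (GL D.Idx F),
      (∀ g ∈ S, Matrix.GeneralLinearGroup.map (σ : F →+* F) g ∈ S) →
      Y.FixG (N.fieldMap σ) (S ⊓ T.fix) := by
    intro S hS g
    have h := Y.autRes_fix _ (N.gl_map_injective σ) (fun g hg => (N.fieldMap σ ⟨g, hg⟩).2)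
      (S := S) hS g
    exact ⟨fun hg => ⟨h.1 hg.1, Y.le_fix g.2⟩,
      fun hg => ⟨h.2 hg.1, Y.le_fix (N.fieldMap σ g).2⟩⟩
  exact ⟨key2 _ (key _), key2 _ (key _)⟩

/-- Two orbits linked by the torus of the first. -/
def Linked (i k : Fin N.m) : Prop :=
  ∀ s : Fˣ, (s : F) ∈ N.L i → (s : F) ∈ N.L k ∧ ∀ p' ∈ N.J k,
    ((N.J i).map fun p =>
      (Units.map (N.E p : F →* F) s) ^ c.T.pairing (D.simple p) (D.simple p')).prod =
      (Units.map (N.E p' : F →* F) s)⁻¹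

theorem field_relation {ψ : ↥Y.G₁ ≃* ↥Y.G₁} {σ : ∀ i, N.L i ≃+* N.L i}
    (hψ : ∀ i t, ψ (N.upG i t) = N.upG i (σ i t) ∧ ψ (N.loG i t) = N.loG i (σ i t))
    {i k : Fin N.m} (h : N.Linked i k) (s : N.L i) :
    ∃ hs : (s : F) ∈ N.L k, ((σ k ⟨s, hs⟩ : N.L k) : F) = (σ i s : F) := by
  classical
  by_cases hs0 : (s : F) = 0
  · refine ⟨by rw [hs0]; exact zero_mem _, ?_⟩
    rw [show (⟨(s : F), _⟩ : N.L k) = 0 from Subtype.ext hs0, show s = 0 from Subtype.ext hs0,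
      map_zero, map_zero]
    rfl
  obtain ⟨hsk, -⟩ := h (Units.mk0 (s : F) hs0) s.2
  refine ⟨hsk, ?_⟩
  -- the torus element of the first orbit moves the root element of the second one
  have key : ∀ (a : N.L i) (b : N.L k), (b : F) = a → a ≠ 0 →
      N.PhiG i (nSL a * nSL (-1)) * N.upG k 1 =
        N.upG k b⁻¹ * N.PhiG i (nSL a * nSL (-1)) := by
    intro a b hab ha
    have ha' : (a : F) ≠ 0 := fun e => ha (Subtype.ext e)
    obtain ⟨-, hp'⟩ := h (Units.mk0 (a : F) ha') a.2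
    refine Subtype.ext ?_
    rw [Subgroup.coe_mul, Subgroup.coe_mul, N.upG_coe, N.upG_coe,
      show (N.PhiG i (nSL a * nSL (-1)) : GL D.Idx F) = N.Phi i (nSL a * nSL (-1)) from rfl,
      N.Phi_apply]
    have e : ((N.J i).map fun p => c.slNode p (Matrix.SpecialLinearGroup.map
        ((N.E p).comp (N.L i).subtype) (nSL a * nSL (-1)))) =
        (N.J i).map fun p => c.hg (D.simple p) (N.E p a) := by
      refine List.map_congr_left fun p hp => ?_
      rw [map_mul, map_nSL, map_nSL, map_mul, c.slNode_nSL (N.lt hp), c.slNode_nSL (N.lt hp),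
        map_neg, map_one, Cert.hg]
      rfl
    rw [e]
    -- choose units by root
    set α : ℕ → Fˣ := fun r =>
      if hr : ∃ p ∈ N.J i, D.simple p = r
      then Units.map (N.E hr.choose : F →* F) (Units.mk0 (a : F) ha') else 1
    have hα : ∀ p ∈ N.J i, α (D.simple p) = Units.map (N.E p : F →* F) (Units.mk0 (a : F) ha') := by
      intro p hp
      have hr : ∃ p' ∈ N.J i, D.simple p' = D.simple p := ⟨p, hp, rfl⟩
      simp only [α, dif_pos hr]
      rw [c.simple_inj (N.lt hr.choose_spec.1) (N.lt hp) hr.choose_spec.2]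
    have e2 : (N.J i).map (fun p => c.hg (D.simple p) (N.E p a)) =
        ((N.J i).map D.simple).map fun r => c.hg r (α r : F) := by
      rw [List.map_map]
      refine List.map_congr_left fun p hp => ?_
      rw [Function.comp_apply, hα p hp]
      rfl
    rw [e2]
    set H := (((N.J i).map D.simple).map fun r => c.hg r (α r : F)).prod
    rw [← mul_inv_eq_iff_eq_mul, upProd, upProd]
    refine conj_prod _ _ _ _ fun p' hp => ?_
    rw [mul_inv_eq_iff_eq_mul, c.hgs_mul_xg α (c.simple_lt (N.lt hp)) _ (fun r hr => by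
      obtain ⟨q, hq, rfl⟩ := List.mem_map.1 hr
      exact c.simple_lt (N.lt hq)), List.map_map,
      show (N.J i).map ((fun r => α r ^ c.T.pairing r (D.simple p')) ∘ D.simple) =
        (N.J i).map fun p => (Units.map (N.E p : F →* F) (Units.mk0 (a : F) ha')) ^
          c.T.pairing (D.simple p) (D.simple p') from
        List.map_congr_left fun p hp => by rw [Function.comp_apply, hα p hp],
      hp' p' hp, Units.val_inv_eq_inv_val, Subfield.coe_one, map_one, mul_one, Subfield.coe_inv,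
      hab, map_inv₀]
    rfl
  have hs : s ≠ 0 := fun e => hs0 (congrArg Subtype.val e)
  have hn : ∀ a : N.L i, ψ (N.PhiG i (nSL a)) = N.PhiG i (nSL (σ i a)) := fun a => by
    show ψ (N.PhiG i (upSL a * loSL (-a⁻¹) * upSL a)) = _
    rw [map_mul, map_mul, map_mul, map_mul]
    show ψ (N.upG i a) * ψ (N.loG i _) * ψ (N.upG i a) = _
    rw [(hψ i a).1, (hψ i _).2, map_neg, map_inv₀]
    simp only [nSL, map_mul]
    rfl
  have h1 := congrArg ψ (key s ⟨s, hsk⟩ rfl hs)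
  simp only [map_mul, hn, (hψ k _).1, map_one, map_neg] at h1
  obtain ⟨hk', -⟩ := h (Units.mk0 ((σ i s : N.L i) : F)
    (fun e => hs ((map_eq_zero (σ i)).1 (Subtype.ext e)))) (σ i s).2
  have h2 := key (σ i s) ⟨(σ i s : F), hk'⟩ rfl (fun e => hs ((map_eq_zero (σ i)).1 e))
  rw [map_mul, h1] at h2
  have h3 := mul_right_cancel h2
  have h4 : (σ k ⟨(s : F), hsk⟩⁻¹ : N.L k) = (⟨(σ i s : F), hk'⟩ : N.L k)⁻¹ := by
    have e : N.upG k (σ k (⟨(s : F), hsk⟩⁻¹) - (⟨(σ i s : F), hk'⟩ : N.L k)⁻¹) = 1 := by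
      rw [upG, sub_eq_add_neg, upSL_add, map_mul]
      show N.upG k _ * _ = _
      rw [h3, upG, ← map_mul, ← upSL_add, add_neg_cancel, upSL_zero, map_one]
    exact sub_eq_zero.1 (N.PhiG_up_eq_one k _ e)
  rw [map_inv₀, _root_.inv_inj] at h4
  exact congrArg Subtype.val h4

section Main

variable {i₀ : ℕ} (hi : i₀ < Y.W.N)
  (htop : ∀ p < D.rank, ¬ c.Pos (c.wl (Y.W.wd i₀) (D.simple p)))
  (hsq : ∀ q < D.rank, c.Pos (c.wl (Y.W.wd i₀ ++ Y.W.wd i₀) (D.simple q)))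
  (hflip : ∀ J ∈ Y.W.Jw, ∀ r ∈ c.invSet J,
    c.wl J.reverse (c.wl (Y.W.wd i₀) r) ∈ c.invSet J)
  (hrigid : ∀ (θ : ↥Y.G₁ ≃* ↥Y.G₁) (π : Fin N.m → Fin N.m),
    (∀ i, ∀ g : ↥Y.G₁, (θ g : GL D.Idx F) ∈ Y.X (N.J (π i)) ↔
      (g : GL D.Idx F) ∈ Y.X (N.J i)) → ∀ i, π i = i)
  (hconn : ∀ P : Fin N.m → Prop, P N.big → (∀ i k, N.Linked i k → P k → P i) → ∀ i, P i)

include hi htop hsq hflip hrigid hconn

theorem decomp (θ : ↥Y.G₁ ≃* ↥Y.G₁) :
    ∃ (x : ↥Y.G₁) (z : ∀ i, (N.L i)ˣ) (σ : F ≃+* F),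
      θ = MulAut.conj x * (N.dgAut z * N.fieldMap σ) := by
  classical
  obtain ⟨x, hU, hV⟩ := Y.exists_fix_UV hi htop θ
  set ψ₀ := θ.trans (MulAut.conj x) with hψ₀
  have hpos : ∀ i, ∃ j, ∀ g : ↥Y.G₁, (ψ₀ g : GL D.Idx F) ∈ Y.X (N.J j) ↔
      (g : GL D.Idx F) ∈ Y.X (N.J i) := by
    intro i
    obtain ⟨K, hK, h⟩ := Y.exists_pos_image hi htop hsq hflip hU hV (N.J_mem i)
    obtain ⟨j, rfl⟩ := N.J_surj K hK
    exact ⟨j, h⟩
  choose π hπ using hpos
  have hid := hrigid ψ₀ π hπ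
  have hf : ∀ i (t : N.L i), ∃ u, ψ₀ (N.upG i t) = N.upG i u := by
    intro i t
    have h := (hπ i (N.upG i t)).2 (by rw [N.upG_coe]; exact N.up_mem_X i t)
    rw [hid i, N.X_eq] at h
    obtain ⟨u, hu⟩ := h
    exact ⟨u, Subtype.ext (by rw [N.upG_coe, hu])⟩
  choose f hf using hf
  have hg : ∀ i (t : N.L i), ∃ u, ψ₀ (N.loG i t) = N.loG i u := by
    intro i t
    obtain ⟨K, hK, h⟩ := Y.exists_neg_image hU hV (N.J_mem i)
    obtain ⟨k, rfl⟩ := N.J_surj K hK
    obtain rfl : k = i := by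
      by_contra hne
      refine N.not_commute_opp_self i fun a b => ?_
      have hk := (h (N.loG i b)).2 (by rw [N.loG_coe]; exact N.lo_mem_Xm i b)
      obtain ⟨u, hu⟩ := (N.Xm_eq k).1 hk
      refine ψ₀.injective ?_
      rw [map_mul, map_mul, hf,
        show ψ₀ (N.loG i b) = N.loG k u from Subtype.ext (by rw [N.loG_coe, hu])]
      exact Subtype.ext (by simpa using (N.commute_opp (Ne.symm hne) (f i a) u).eq)
    have hk := (h (N.loG k t)).2 (by rw [N.loG_coe]; exact N.lo_mem_Xm k t)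
    obtain ⟨u, hu⟩ := (N.Xm_eq k).1 hk
    exact ⟨u, Subtype.ext (by rw [N.loG_coe, hu])⟩
  choose g hg using hg
  have hf1 : ∀ i, f i 1 ≠ 0 := by
    intro i e
    refine one_ne_zero (N.PhiG_up_eq_one i 1 (ψ₀.injective ?_))
    rw [map_one]
    refine (hf i 1).trans ?_
    rw [e, upG, upSL_zero, map_one]
  let z : ∀ i, (N.L i)ˣ := fun i => Units.mk0 (f i 1) (hf1 i)
  let ψ : ↥Y.G₁ ≃* ↥Y.G₁ := ψ₀.trans (N.dgAut z⁻¹)
  have hσ : ∀ i, ∃ σ : N.L i ≃+* N.L i,
      ∀ t, ψ (N.upG i t) = N.upG i (σ t) ∧ ψ (N.loG i t) = N.loG i (σ t) := by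
    intro i
    obtain ⟨σ, hσ⟩ := rank_one_aut (Φ := N.PhiG i) (N.PhiG_up_eq_one i) (N.PhiG_disj i)
      (θ := ψ.toMonoidHom) ψ.injective
      (f := fun t => (((z⁻¹) i : (N.L i)ˣ) : N.L i) * f i t)
      (g := fun t => ((((z⁻¹) i)⁻¹ : (N.L i)ˣ) : N.L i) * g i t)
      (fun t => by
        show N.dgAut z⁻¹ (ψ₀ (N.upG i t)) = _
        rw [hf, N.dgAut_up]; rfl)
      (fun t => by
        show N.dgAut z⁻¹ (ψ₀ (N.loG i t)) = _
        rw [hg, N.dgAut_lo]; rfl)
      (by show (((z i)⁻¹ : (N.L i)ˣ) : N.L i) * (z i : N.L i) = 1; simp)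
    refine ⟨σ, fun t => ⟨?_, ?_⟩⟩
    · show N.dgAut z⁻¹ (ψ₀ (N.upG i t)) = _
      rw [hf, N.dgAut_up, (hσ t).1]
    · show N.dgAut z⁻¹ (ψ₀ (N.loG i t)) = _
      rw [hg, N.dgAut_lo, (hσ t).2]
  choose σ hσ using hσ
  let ι : N.L N.big ≃+* F :=
    { toFun := fun t => (t : F)
      invFun := fun t => ⟨t, N.big_top t⟩
      left_inv := fun _ => rfl
      right_inv := fun _ => rfl
      map_mul' := fun _ _ => rfl
      map_add' := fun _ _ => rfl }
  let s : F ≃+* F := (ι.symm.trans (σ N.big)).trans ι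
  have hall := hconn (fun i => ∀ t : N.L i, ((σ i t : N.L i) : F) = s t) (fun t => rfl)
    fun i k hik hk t => by
      obtain ⟨htk, e⟩ := N.field_relation hσ hik t
      rw [← e]
      exact hk ⟨t, htk⟩
  have hψ : ψ = N.fieldMap s := MulEquiv.toMonoidHom_injective (N.hom_ext fun i t => by
    refine ⟨?_, ?_⟩
    · show ψ (N.upG i t) = N.fieldMap s (N.upG i t)
      rw [(hσ i t).1, N.fieldMap_up]
      exact congrArg (N.upG i) (Subtype.ext (hall i t))
    · show ψ (N.loG i t) = N.fieldMap s (N.loG i t)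
      rw [(hσ i t).2, N.fieldMap_lo]
      exact congrArg (N.loG i) (Subtype.ext (hall i t)))
  refine ⟨x⁻¹, z, s, ?_⟩
  rw [← hψ]
  have e : ψ = N.dgAut z⁻¹ * (MulAut.conj x * θ) := rfl
  rw [e, ← mul_assoc (N.dgAut z), ← N.dgAut_mul, mul_inv_cancel, N.dgAut_one, one_mul, ← mul_assoc,
    ← map_mul, inv_mul_cancel, map_one, one_mul]

variable [Fintype F] (hrange : D.diagonalSubgroup F ⊓ T.fix ≤ N.dz.range)

include hrange

theorem card_out {g : ℕ}
    (hg : g * Nat.card ↥(D.diagonalSubgroup F ⊓ T.fix) = ∏ i, (Nat.card (N.L i) - 1)) :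
    Nat.card (Cfsg.Out ↥Y.G₁) = g * Nat.card (RingAut F) := by
  classical
  set T₀ := (D.diagonalSubgroup F ⊓ T.fix).comap N.dz with hT₀
  have hmap : T₀.map N.dz = D.diagonalSubgroup F ⊓ T.fix :=
    Subgroup.map_comap_eq_self hrange
  have hcard : Nat.card ((∀ i, (N.L i)ˣ) ⧸ T₀) = g := by
    have h1 := T₀.card_eq_card_quotient_mul_card_subgroup
    rw [Nat.card_pi, ← (Subgroup.card_map_of_injective (K := T₀) N.dz_injective), hmap] at h1
    simp only [Nat.card_units] at h1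
    rw [← hg] at h1
    exact (Nat.eq_of_mul_eq_mul_right Nat.card_pos h1).symm
  have hinn : ∀ w ∈ T₀, N.dgAut w ∈ Cfsg.Inn ↥Y.G₁ := fun w hw =>
    ⟨⟨N.dz w, Y.H_le hw⟩, MulEquiv.ext fun g => Subtype.ext rfl⟩
  rw [← hcard, ← Nat.card_prod]
  refine (Nat.card_congr (Equiv.ofBijective
    (fun q : ((∀ i, (N.L i)ˣ) ⧸ T₀) × RingAut F =>
      (QuotientGroup.mk (N.dgAut q.1.out * N.fieldMap q.2) : Cfsg.Out ↥Y.G₁)) ⟨?_, ?_⟩)).symm
  · rintro ⟨q, s⟩ ⟨q', s'⟩ e
    rw [QuotientGroup.eq_iff_div_mem] at e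
    obtain ⟨y, hy⟩ := e
    set a := N.dgAut q.out * N.fieldMap s
    set b := N.dgAut q'.out * N.fieldMap s'
    have hab : a = MulAut.conj y * b := by
      show a = _
      rw [hy, div_mul_cancel]
    have hfix : ∀ (z : ∀ i, (N.L i)ˣ) (σ : RingAut F),
        Y.FixG (N.dgAut z * N.fieldMap σ) Y.U₁ ∧ Y.FixG (N.dgAut z * N.fieldMap σ) Y.V₁ :=
      fun z σ => ⟨fun v => ((N.dgAut_fix z).1 _).trans ((N.fieldMap_fix σ).1 v),
        fun v => ((N.dgAut_fix z).2 _).trans ((N.fieldMap_fix σ).2 v)⟩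
    have hyS : ∀ S : Subgroup (GL D.Idx F), Y.FixG a S → Y.FixG b S → ∀ v : ↥Y.G₁,
        (v : GL D.Idx F) ∈ S → ((y * v * y⁻¹ : ↥Y.G₁) : GL D.Idx F) ∈ S := by
      intro S ha hb v hv
      obtain ⟨w, rfl⟩ := b.surjective v
      have h1 := (ha w).2 ((hb w).1 hv)
      rwa [hab] at h1
    have hyB : (y : GL D.Idx F) ∈ D.borelSubgroup F :=
      Y.mem_B_of_conj (Y.le_fix y.2) fun u hu =>
        hyS _ (hfix _ _).1 (hfix _ _).1 ⟨u, Y.U₁_le hu⟩ hu
    have hyH := (Y.mem_H_iff hi htop).2 ⟨hyB, hyS _ (hfix _ _).2 (hfix _ _).2⟩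
    obtain ⟨w, hw⟩ := hrange ⟨hyH, Y.le_fix y.2⟩
    have hwT : w ∈ T₀ := by
      show N.dz w ∈ D.diagonalSubgroup F ⊓ T.fix
      rw [hw]; exact ⟨hyH, Y.le_fix y.2⟩
    have hconj : MulAut.conj y = N.dgAut w :=
      MulEquiv.ext fun g => Subtype.ext (by rw [N.dgAut_apply, hw]; rfl)
    rw [hconj, ← mul_assoc, ← N.dgAut_mul] at hab
    have hz : q.out = w * q'.out := by
      funext i
      have h1 := congrArg (fun φ : MulAut ↥Y.G₁ => φ (N.upG i 1)) hab
      simp only [a, MulAut.mul_apply, N.fieldMap_up, N.dgAut_up] at h1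
      have h1' := congrArg Subtype.val h1
      rw [N.upG_coe, N.upG_coe] at h1'
      have h2 : (q.out i : N.L i) * ⟨s ((1 : N.L i) : F), subfield_stable _ s (one_mem _)⟩ =
          ((w * q'.out) i : N.L i) * ⟨s' ((1 : N.L i) : F), subfield_stable _ s' (one_mem _)⟩ := by
        refine sub_eq_zero.1 (N.PhiG_up_eq_one i _ ?_)
        rw [sub_eq_add_neg, upSL_add, map_mul]
        show N.upG i _ * _ = _
        rw [h1, upG, ← map_mul, ← upSL_add, add_neg_cancel, upSL_zero, map_one]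
      simp only [Subfield.coe_one, map_one] at h2
      rw [show (⟨(1 : F), _⟩ : N.L i) = 1 from rfl, mul_one, mul_one] at h2
      exact Units.ext h2
    have hq : q = q' := by
      rw [← q.out_eq', ← q'.out_eq', QuotientGroup.eq, hz, _root_.mul_inv_rev, mul_assoc,
        mul_comm w⁻¹ q'.out, ← mul_assoc, inv_mul_cancel, one_mul]
      exact inv_mem hwT
    subst hq
    rw [← hz, mul_left_cancel_iff] at hab
    refine Prod.ext rfl (RingEquiv.ext fun t => ?_)
    have h1 := congrArg (fun φ : MulAut ↥Y.G₁ => φ (N.upG N.big ⟨t, N.big_top t⟩))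
      (show N.fieldMap s = N.fieldMap s' from hab)
    simp only [N.fieldMap_up] at h1
    have h2 : (⟨s t, N.big_top _⟩ : N.L N.big) = ⟨s' t, N.big_top _⟩ := by
      refine sub_eq_zero.1 (N.PhiG_up_eq_one N.big _ ?_)
      rw [sub_eq_add_neg, upSL_add, map_mul]
      show N.upG N.big _ * _ = _
      rw [show N.upG N.big ⟨s t, N.big_top _⟩ = N.upG N.big ⟨s' t, N.big_top _⟩ from h1, upG,
        ← map_mul, ← upSL_add, add_neg_cancel, upSL_zero, map_one]
    exact congrArg Subtype.val h2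
  · intro o
    obtain ⟨θ, rfl⟩ := QuotientGroup.mk_surjective o
    obtain ⟨x, z, s, rfl⟩ := N.decomp hi htop hsq hflip hrigid hconn θ
    refine ⟨(QuotientGroup.mk z, s), ?_⟩
    obtain ⟨⟨w, hw⟩, e⟩ := QuotientGroup.mk_out_eq_mul T₀ z
    show (QuotientGroup.mk _ : Cfsg.Out ↥Y.G₁) = _
    rw [e, N.dgAut_mul, QuotientGroup.mk_mul, QuotientGroup.mk_mul, QuotientGroup.mk_mul,
      QuotientGroup.mk_mul, (QuotientGroup.eq_one_iff _).2 (hinn w hw), mul_one,
      (QuotientGroup.eq_one_iff (MulAut.conj x)).2 (show MulAut.conj x ∈ Cfsg.Inn ↥Y.G₁ from ⟨x, rfl⟩), one_mul]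

end Main

end Nodes

end Twist

end Cfsg.Agent.Lie.Chev
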