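import Cfsg.Agent.Lib.Lie.Chev.TwistIso
import Cfsg.Agent.Lib.Lie.Chev.TwistCommon
import Cfsg.Agent.Lib.Lie.BNDihedral

/-! Twisted groups from a special isogeny: identities of constant words, the grading, lifts of
orbit vectors, fixed representatives of the Weyl group. -/

set_option autoImplicit false

namespace Cfsg.Agent.Lie.Chev

open Cfsg.Lie Matrix

theorem ev_zeroMod' {ι : Type*} (enum : ι → ℕ) {p : ℕ} {F : Type*} [CommRing F] [CharP F p]
    (t u v : F) {L : List Term} (h : zeroMod p L = true) : ev enum t u v L = 0 := by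
  rw [← ev_merge]
  funext i
  refine List.sum_eq_zero ?_
  intro x hx
  obtain ⟨q, hq, rfl⟩ := List.mem_map.1 hx
  simp only [zeroMod, List.all_eq_true, Nat.beq_eq] at h
  have hc : (q.coef : F) = 0 := by
    rw [CharP.intCast_eq_zero_iff F p, Int.natCast_dvd]
    exact Nat.dvd_of_mod_eq_zero (h q hq)
  simp [Term.val, hc]

namespace Tables

variable (T : Tables)

/-- Two words with constant parameters agree modulo `p`. -/
def checkWordMod (p : ℕ) (A B : List (ℕ × ℤ)) : Bool :=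
  (A ++ B).all (fun x => Nat.blt x.1 T.n) && (List.range T.dim).all fun col =>
    zeroMod p (applyAll (A.map fun x => T.xCol x.1 0 0 0 x.2) (unitVec col) ++
      (applyAll (B.map fun x => T.xCol x.1 0 0 0 x.2) (unitVec col)).map Term.negate)

end Tables

namespace CertFull

variable {D : ChevalleyDatum} (c : CertFull D) {F : Type*} [Field F]

include c

theorem word_eq_of_checkWordMod {p : ℕ} [CharP F p] {A B : List (ℕ × ℤ)}
    (h : c.T.checkWordMod p A B = true) :
    (A.map fun x => c.xg x.1 (x.2 : F)).prod = (B.map fun x => c.xg x.1 (x.2 : F)).prod := by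
  simp only [Tables.checkWordMod, Bool.and_eq_true, List.all_eq_true, List.mem_range, Nat.blt_eq,
    ← c.nroots_eq, Tables.dim, ← c.rank_eq] at h
  obtain ⟨hlt, hcol⟩ := h
  have key : ∀ W : List (ℕ × ℤ), (∀ x ∈ W, x.1 < D.nroots) →
      (((W.map fun x => c.xg x.1 (x.2 : F)).prod : GL D.Idx F) : Matrix D.Idx D.Idx F) =
        ((W.map fun x => c.T.xCol x.1 0 0 0 x.2).map (evMat (enum D) (1 : F) 1 1)).prod := by
    intro W
    induction W with
    | nil => intro _; simp
    | cons x W ih =>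
      intro hW
      rw [List.map_cons, List.prod_cons, Units.val_mul, ih fun y hy => hW y (by simp [hy]),
        List.map_cons, List.map_cons, List.prod_cons, c.x_eq_evMat _ _ _ _ _ _ _ _ (hW x (by simp)),
        c.xg_val]
      simp
  refine Units.ext ?_
  rw [key A fun x hx => hlt x (List.mem_append_left _ hx),
    key B fun x hx => hlt x (List.mem_append_right _ hx)]
  have hout : ∀ W : List (ℕ × ℤ), ∀ col ∈ W.map fun x => c.T.xCol x.1 0 0 0 x.2,
      ∀ k, (∀ i, enum D i ≠ k) → col k = [] := by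
    intro W col hcol
    obtain ⟨x, -, rfl⟩ := List.mem_map.1 hcol
    exact c.xCol_out _ _ _ _ _
  refine prod_eq_of_same (enum D) (1 : F) 1 1 (enum_injective D) (hout A) (hout B) fun j => ?_
  have h := ev_zeroMod' (enum D) (F := F) (p := p) 1 1 1 (hcol _ (enum_lt D j))
  rwa [ev_append, ev_negate, add_neg_eq_zero] at h

/-- The word of root elements of a word of nodes. -/
def nwWord (L : List ℕ) : List (ℕ × ℤ) :=
  L.flatMap fun p => [(c.T.simple p, 1), (c.T.neg (c.T.simple p), -1), (c.T.simple p, 1)]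

theorem nw_eq_word {L : List ℕ} (hL : ∀ p ∈ L, p < D.rank) :
    c.nw F L = ((c.nwWord L).map fun x => c.xg x.1 (x.2 : F)).prod := by
  induction L with
  | nil => simp [nwWord]
  | cons p L ih =>
    have hp := hL p (by simp)
    rw [Cert.nw_cons, ih fun q hq => hL q (by simp [hq])]
    rw [nwWord, nwWord, List.flatMap_cons, List.map_append, List.prod_append]
    congr 1
    rw [Cert.np, Cert.ng, c.neg_eq (c.simple_lt hp), c.simple_eq hp]
    simp [mul_assoc]

theorem xg_commute_mod {p : ℕ} [CharP F p] {r s : ℕ} (hr : r < D.nroots) (hs : s < D.nroots)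
    (h1 : s ≠ r) (h2 : s ≠ D.neg r) (h : ∀ x ∈ c.T.commTerms r s, (p : ℤ) ∣ x.2.1) (t u : F) :
    Commute (c.xg r t) (c.xg s u) := by
  have e := c.xg_comm hr hs h1 h2 t u
  rw [List.prod_eq_one (fun g hg => by
    obtain ⟨x, hx, rfl⟩ := List.mem_map.1 hg
    rw [(CharP.intCast_eq_zero_iff F p _).2 (h x hx), zero_mul, zero_mul, c.xg_zero]), mul_one] at e
  exact e.symm

end CertFull

namespace CertFull.IsoData

variable {D : ChevalleyDatum} {c : CertFull D} (X : c.IsoData)

/-- The conditions for the grading. -/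
def checkLvl (lvl : ℕ → ℕ) : Bool :=
  (List.range' c.T.h c.T.h).all fun r =>
    Nat.beq (lvl (X.ρ r)) (lvl r) && !(Nat.beq (X.ρ r) r) && (X.short (X.ρ r) == !(X.short r)) &&
    (List.range' c.T.h c.T.h).all fun s => (c.T.commTerms r s).all fun x =>
      Nat.ble (min (lvl r) (lvl s)) (lvl x.1) &&
        (Nat.blt (max (lvl r) (lvl s)) (lvl x.1) || Nat.beq (x.2.1.natAbs % X.p) 0)

/-- The signs of the orbit words agree with those of their images. -/
def checkOrbitWords (Jw : List (List ℕ)) : Bool :=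
  Jw.all fun J => (J.all fun q => Nat.blt q c.T.l) && c.T.allRoots fun s =>
    Nat.beq (c.wl (J.map X.τ) s) (c.wl J s) &&
      Nat.beq ((c.wsign (J.map X.τ) s - c.wsign J s).natAbs % X.p) 0

/-- Every positive root is the image of a base root, along with the roots above it. -/
def checkLifts (lvl : ℕ → ℕ) (Jw : List (List ℕ)) (E : BT TRep) (N : ℕ) (bases : List ℕ) : Bool :=
  (List.range' c.T.h c.T.h).all fun r => (List.range N).any fun i => bases.any fun r₀ =>
    Nat.beq (c.wl (flatW Jw (E.get i).word) r₀) r &&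
    (c.T.commTerms r₀ (X.ρ r₀)).all fun x =>
      let y := c.wl (flatW Jw (E.get i).word) x.1
      (c.T.commTerms r (X.ρ r)).any (fun z => Nat.beq z.1 y) && Nat.blt (lvl r) (lvl y)

variable {X} (hX : X.check = true) {F : Type*} [Field F] {p : ℕ} [CharP F p] [ExpChar F p]
variable (hp : X.p = p) (f : F →+* F)

include hX hp

theorem act_x {r : ℕ} (hr : r < D.nroots) (t : F) :
    (twist hX hp f).act (c.xg r t) = c.xg (X.ρ r) (f t ^ X.expo r) := by
  rw [(twist hX hp f).act_xg hr]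
  show c.xg (X.ρ r) (((1 : ℤ) : F) * phi (X := X) (p := p) f r t) = _
  rw [Int.cast_one, one_mul, phi_apply hp f r t]

theorem lvl_spec {lvl : ℕ → ℕ} (h : X.checkLvl lvl = true) {r : ℕ} (hr : c.Pos r) :
    lvl (X.ρ r) = lvl r ∧ X.ρ r ≠ r ∧ X.expo r * X.expo (X.ρ r) = p ∧
    ∀ s, c.Pos s → ∀ x ∈ c.T.commTerms r s, min (lvl r) (lvl s) ≤ lvl x.1 ∧
      (max (lvl r) (lvl s) < lvl x.1 ∨ (p : ℤ) ∣ x.2.1) := by
  have hn : D.nroots = 2 * c.T.h := c.nroots_eq
  have hm : ∀ {s}, c.Pos s → s ∈ List.range' c.T.h c.T.h := fun {s} hs => by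
    rw [List.mem_range'_1]
    have := hs.1
    have := hs.2
    omega
  simp only [checkLvl, List.all_eq_true, Bool.and_eq_true, Nat.beq_eq, Nat.blt_eq, Nat.ble_eq,
    Bool.or_eq_true, Bool.not_eq_true', beq_iff_eq] at h
  obtain ⟨⟨⟨h1, h2⟩, h3⟩, h4⟩ := h r (hm hr)
  refine ⟨h1, fun e => by rw [beq_of_eq e] at h2; exact Bool.noConfusion h2, ?_, fun s hs x hx => ?_⟩
  · unfold IsoData.expo
    rw [h3]
    cases X.short r <;> simp [hp]
  · obtain ⟨a, b⟩ := h4 s (hm hs) x hx
    refine ⟨a, b.imp id fun b => ?_⟩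
    rw [← hp, Int.natCast_dvd]
    exact Nat.dvd_of_mod_eq_zero b

theorem step_two [Finite F] {m : ℕ} (hf : ∀ t, f t = t ^ p ^ m)
    (hK : Nat.card F = p ^ (2 * m + 1)) {lvl : ℕ → ℕ} (h : X.checkLvl lvl = true) {r : ℕ}
    (hr : c.Pos r) (a : F) : ((twist hX hp f).step)^[2] (r, a) = (r, a) := by
  letI : Fintype F := Fintype.ofFinite F
  obtain ⟨-, -, he, -⟩ := lvl_spec hX hp h hr
  show (X.ρ (X.ρ r), ((1 : ℤ) : F) * phi (X := X) (p := p) f (X.ρ r)
    (((1 : ℤ) : F) * phi (X := X) (p := p) f r a)) = _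
  rw [Int.cast_one, one_mul, one_mul, phi_apply hp f r a, phi_apply hp f (X.ρ r) _,
    (root_spec hX hr.2).2.1, map_pow, hf, hf, ← pow_mul, ← pow_mul, ← pow_mul,
    show p ^ m * (p ^ m * (X.expo r * X.expo (X.ρ r))) = Fintype.card F by
      rw [he, ← Nat.card_eq_fintype_card, hK]; ring, FiniteField.pow_card]

/-- The grading. -/
noncomputable def grading [Finite F] {m : ℕ} (hf : ∀ t, f t = t ^ p ^ m)
    (hK : Nat.card F = p ^ (2 * m + 1)) (lvl : ℕ → ℕ) (h : X.checkLvl lvl = true) :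
    (twist hX hp f).Grading 2 where
  lvl := lvl
  per := fun _ => 2
  lvl_ρ r hr := (lvl_spec hX hp h hr).1
  lvl_min r hr s hs x hx := ((lvl_spec hX hp h hr).2.2.2 s hs x hx).1
  lvl_max r hr s hs x hx := ((lvl_spec hX hp h hr).2.2.2 s hs x hx).2.imp id fun hd =>
    (CharP.intCast_eq_zero_iff F p _).2 hd
  per_pos _ _ := by omega
  per_eq r hr := (root_spec hX hr.2).2.1
  per_min r hr i hi hlt := by
    obtain rfl : i = 1 := by omega
    exact (lvl_spec hX hp h hr).2.1
  card_ret r hr := by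
    congr 1
    exact Nat.card_congr (Equiv.subtypeUnivEquiv fun a => step_two hX hp f hf hK h hr a)

theorem nw_fix_of_check {Jw : List (List ℕ)} (h : X.checkOrbitWords Jw = true) :
    ∀ J ∈ Jw, (twist hX hp f).act (c.nw F J) = c.nw F J := by
  intro J hJ
  simp only [checkOrbitWords, Tables.allRoots, List.all_eq_true, List.mem_range, Bool.and_eq_true,
    Nat.blt_eq, Nat.beq_eq, ← c.rank_eq, ← c.nroots_eq] at h
  obtain ⟨hlt, hs⟩ := h J hJ
  rw [(twist hX hp f).act_nw hlt]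
  refine c.nw_ext ((twist hX hp f).map_τ_lt hlt) hlt (fun s hs' => (hs s hs').1) fun s hs' => ?_
  rw [← sub_eq_zero, ← Int.cast_sub, CharP.intCast_eq_zero_iff F p, Int.natCast_dvd]
  have hd := Nat.dvd_of_mod_eq_zero (hs s hs').2
  rw [hp] at hd
  exact hd

/-- Lifts of orbit vectors from those at base roots. -/
theorem lifts_of_bases [Finite F] {m : ℕ} (hf : ∀ t, f t = t ^ p ^ m)
    (hK : Nat.card F = p ^ (2 * m + 1)) {lvl : ℕ → ℕ} (hl : X.checkLvl lvl = true)
    (W : (twist hX hp f).FixedWeyl) {G₁ : Subgroup (GL D.Idx F)}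
    (hle : G₁ ≤ (twist hX hp f).fix) (hn : ∀ J ∈ W.Jw, c.nw F J ∈ G₁) {bases : List ℕ}
    (hchk : X.checkLifts lvl W.Jw W.E W.N bases = true)
    (hbase : ∀ r₀ ∈ bases, r₀ < D.nroots ∧ ∀ a : F, ∃ (b : F) (rest : List (ℕ × F)),
      (∀ y ∈ rest, ∃ z ∈ c.T.commTerms r₀ (X.ρ r₀), z.1 = y.1 ∧ y.1 < D.nroots) ∧
      c.xg r₀ a * c.xg (X.ρ r₀) b * (rest.map fun y => c.xg y.1 y.2).prod ∈ G₁) :
    (grading hX hp f hf hK lvl hl).Lifts G₁ := by
  classical
  intro S hS hst r hr a _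
  have hr' := hS.1 r hr
  have hn' : D.nroots = 2 * c.T.h := c.nroots_eq
  simp only [checkLifts, List.all_eq_true, List.any_eq_true, Bool.and_eq_true, Nat.beq_eq,
    Nat.blt_eq, List.mem_range] at hchk
  obtain ⟨i, hi, r₀, hr₀, hw, hup⟩ := hchk r (by
    rw [List.mem_range'_1]
    have := hr'.1
    have := hr'.2
    omega)
  obtain ⟨hr₀lt, hb⟩ := hbase r₀ hr₀
  obtain ⟨hL, hC, -⟩ := W.flat_spec (W.step_spec i hi).1
  have hnG : c.nw F (W.wd i) ∈ G₁ := by
    have h := (W.step_spec i hi).1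
    unfold Twist.FixedWeyl.wd
    revert h
    induction (W.E.get i).word with
    | nil => intro _; exact one_mem _
    | cons j w ih =>
      intro h
      rw [show flatW W.Jw (j :: w) = W.Jw.getD j [] ++ flatW W.Jw w by simp [flatW], c.nw_append]
      exact mul_mem (hn _ (W.getD_mem (h j (by simp)))) (ih fun k hk => h k (by simp [hk]))
  set L := W.wd i
  change ∀ x ∈ L, x < D.rank at hL
  change (twist hX hp f).Comm L at hC
  change c.wl L r₀ = r at hw
  set σ : F := (c.wsign L r₀ : F)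
  have hσ : σ * σ = 1 := c.wsign_sq _ _
  obtain ⟨b, rest, hrest, hmem⟩ := hb (σ * a)
  have hg := mul_mem (mul_mem hnG hmem) (inv_mem hnG)
  have hρ : c.wl L (X.ρ r₀) = X.ρ r := by rw [← hw]; exact hC r₀ hr₀lt
  have hne : X.ρ r ≠ r := (lvl_spec hX hp hl hr').2.1
  have hconj : ∀ s, s < D.nroots → ∀ t : F,
      c.nw F L * c.xg s t * (c.nw F L)⁻¹ = c.xg (c.wl L s) ((c.wsign L s : F) * t) := fun s hs t => by
    rw [c.nw_mul_xg hL hs, mul_inv_cancel_right]
  refine ⟨_, Subgroup.mem_inf.2 ⟨hg, hle hg⟩,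
    fun x => if x = r then a else (c.wsign L (X.ρ r₀) : F) * b, if_pos rfl,
    c.nw F L * (rest.map fun y => c.xg y.1 y.2).prod * (c.nw F L)⁻¹, ?_, ?_⟩
  · clear hmem hg
    induction rest with
    | nil => simp [one_mem]
    | cons y rest ih =>
      rw [List.map_cons, List.prod_cons, show ∀ n g k : GL D.Idx F,
        n * (g * k) * n⁻¹ = (n * g * n⁻¹) * (n * k * n⁻¹) from fun n g k => by group]
      refine mul_mem ?_ (ih fun z hz => hrest z (by simp [hz]))
      obtain ⟨z, hz, ez, hy⟩ := hrest y (by simp)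
      rw [hconj _ hy, ← ez]
      obtain ⟨⟨z', hz', ez'⟩, hlvl⟩ := hup z hz
      change z'.1 = c.wl L z.1 at ez'
      have hS' : c.wl L z.1 ∈ S := ez' ▸ hS.2 r hr (X.ρ r) (hst r hr) z' hz'
      exact c.xg_mem_KS (show c.wl L z.1 ∈ (grading hX hp f hf hK lvl hl).from_ S (lvl r + 1) from
        ⟨hS', Nat.succ_le_of_lt hlvl⟩) (hS.1 _ hS').1 _
  · show _ = ((List.range 2).map fun k => c.xg ((X.ρ)^[k] r) _).prod * _
    simp only [List.range_succ, List.range_zero, List.nil_append, List.singleton_append,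
      List.map_cons, List.map_nil, List.prod_cons, List.prod_nil, mul_one, Function.iterate_zero,
      id_eq, Function.iterate_one, if_true]
    rw [if_neg (show ¬ (twist hX hp f).ρ r = r from hne)]
    have e1 : c.xg r a = c.nw F L * c.xg r₀ (σ * a) * (c.nw F L)⁻¹ := by
      rw [hconj _ hr₀lt, hw, ← mul_assoc, hσ, one_mul]
    have e2 : c.xg (X.ρ r) ((c.wsign L (X.ρ r₀) : F) * b) =
        c.nw F L * c.xg (X.ρ r₀) b * (c.nw F L)⁻¹ := by
      rw [hconj _ (root_spec hX hr₀lt).1, hρ]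
    rw [e1, e2]
    group

end CertFull.IsoData

namespace Twist.Datum

variable {D : ChevalleyDatum} {c : CertFull D} {F : Type*} [Field F] {T : Twist c F}
variable [Finite F] (Y : Datum T)

theorem pow_half (he : Y.e = 2) {x k : ℕ} (hk : Even k) {q : ℕ} (h : x ^ Y.e = q ^ k) :
    x = q ^ (k / 2) := by
  rw [he] at h
  obtain ⟨j, rfl⟩ := hk
  rw [← two_mul, Nat.mul_div_cancel_left _ two_pos]
  refine Nat.pow_left_injective two_ne_zero ?_
  show x ^ 2 = (q ^ j) ^ 2
  rw [h, ← pow_mul]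
  ring_nf

theorem card_U_half (he : Y.e = 2) (hU : Even (D.nroots / 2)) :
    Nat.card ↥(D.posUnipotent F ⊓ T.fix) = Nat.card F ^ (D.nroots / 2 / 2) :=
  Y.pow_half he hU Y.card_U_fix

theorem card_G₁_half (he : Y.e = 2) (hU : Even (D.nroots / 2))
    (hlen : ∀ i < Y.W.N, Even (lenOf Y.W i)) :
    Nat.card Y.G₁ = Nat.card F ^ (D.nroots / 2 / 2) * Nat.card ↥(D.diagonalSubgroup F ⊓ T.fix) *
      (((List.range Y.W.N).map fun i => lenOf Y.W i / 2).map fun n => Nat.card F ^ n).sum := by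
  rw [Y.card_G₁, Y.card_U_half he hU]
  congr 1
  rw [List.map_map, ← List.sum_toFinset _ List.nodup_range, List.toFinset_range]
  exact Finset.sum_congr rfl fun i hi =>
    Y.pow_half he (hlen i (Finset.mem_range.1 hi)) (Y.card_KS_inv (Finset.mem_range.1 hi))

/-- A fixed word on an orbit of roots or on its negatives lies in the derived subgroup. -/
theorem word_mem_commutator {J : List ℕ} (hJ : J ∈ Y.W.Jw)
    (hS : ∀ x ∈ c.KS F (c.invSet J) c.T.h ⊓ T.fix, x ∈ ⁅Y.G₁, Y.G₁⁆)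
    {w : List (ℕ × F)} (hfix : (w.map fun x => c.xg x.1 x.2).prod ∈ T.fix)
    (h : (∀ x ∈ w, x.1 ∈ c.invSet J) ∨
      ∀ x ∈ w, x.1 < D.nroots ∧ D.neg x.1 ∈ c.invSet J) :
    (w.map fun x => c.xg x.1 x.2).prod ∈ ⁅Y.G₁, Y.G₁⁆ := by
  obtain ⟨-, hlt, -, -, -, hinvol, -⟩ := Y.W.J_spec hJ
  rcases h with h | h
  · refine hS _ (Subgroup.mem_inf.2 ⟨Subgroup.list_prod_mem _ fun g hg => ?_, hfix⟩)
    obtain ⟨x, hx, rfl⟩ := List.mem_map.1 hg
    exact c.xg_mem_KS (h x hx) (h x hx).1.1 _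
  refine Y.mem_commutator_of_neg hJ (hS _ (Subgroup.mem_inf.2 ⟨?_,
    T.fix.mul_mem (T.fix.mul_mem (Y.nw_J_fix hJ) hfix) (T.fix.inv_mem (Y.nw_J_fix hJ))⟩))
  clear hfix
  induction w with
  | nil => simp [one_mem]
  | cons x w ih =>
    rw [List.map_cons, List.prod_cons, show ∀ n g k : GL D.Idx F,
      n * (g * k) * n⁻¹ = (n * g * n⁻¹) * (n * k * n⁻¹) from fun n g k => by group]
    refine mul_mem ?_ (ih fun y hy => h y (by simp [hy]))
    obtain ⟨hx, hneg⟩ := h x (by simp)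
    rw [c.nw_mul_xg hlt hx, mul_inv_cancel_right]
    have hw := c.wl_lt hlt hx
    have hn : ¬ c.Pos (c.wl J (D.neg x.1)) := hneg.2
    rw [c.wl_neg hlt hx] at hn
    have hpos : c.Pos (c.wl J x.1) := by
      have := (c.not_pos_iff (c.neg_lt hw)).1 hn
      rwa [c.neg_neg hw] at this
    have hmem : c.wl J x.1 ∈ c.invSet J := ⟨hpos, by
      rw [hinvol _ hx]
      exact (c.not_pos_iff hx).2 hneg.1⟩
    exact c.xg_mem_KS hmem hpos.1 _

/-- The dihedral Weyl group of two orbits. -/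
theorem exists_dihedralHom (hk : Y.W.Jw.length = 2) (hnd : Y.W.Jw.Nodup) {n : ℕ} (hn0 : 0 < n)
    (h1 : ∀ q < D.rank, (c.wl (Y.W.Jw.getD 0 [] ++ Y.W.Jw.getD 1 []))^[n] (D.simple q) =
      D.simple q)
    (h2 : ∀ m < n, 0 < m → ∃ q < D.rank,
      (c.wl (Y.W.Jw.getD 0 [] ++ Y.W.Jw.getD 1 []))^[m] (D.simple q) ≠ D.simple q) :
    ∃ φ : ↥(D.monomialSubgroup F ⊓ Y.G₁) →* DihedralGroup n, Function.Surjective φ ∧
      φ.ker = (D.diagonalSubgroup F ⊓ Y.G₁).subgroupOf (D.monomialSubgroup F ⊓ Y.G₁) := by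
  set P := Y.bnPair
  obtain ⟨f, hf⟩ := Y.exists_genEquiv hnd
  set r := f ⟨0, by omega⟩
  set s := f ⟨1, by omega⟩
  have hS : ∀ x : Y.bnPair.S, x = r ∨ x = s := by
    intro x
    obtain ⟨⟨i, hi⟩, rfl⟩ := f.surjective x
    rcases (show i = 0 ∨ i = 1 by omega) with rfl | rfl
    · exact Or.inl rfl
    · exact Or.inr rfl
  set t := Lie.refl P r * Lie.refl P s with ht
  have key := Y.refl_pow_eq_one r s (Y.W.getD_mem (show 0 < _ by omega))
    (Y.W.getD_mem (show 1 < _ by omega))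
    (by rw [List.getD_eq_getElem _ _ (show 0 < Y.W.Jw.length by omega)]; exact hf ⟨0, by omega⟩)
    (by rw [List.getD_eq_getElem _ _ (show 1 < Y.W.Jw.length by omega)]; exact hf ⟨1, by omega⟩)
  have hord : orderOf t = n := by
    refine (orderOf_eq_iff hn0).2 ⟨(key _).2 h1, fun m hm hm0 h => ?_⟩
    obtain ⟨q, hq, hne⟩ := h2 m hm hm0
    exact hne ((key m).1 h q hq)
  haveI : NeZero n := ⟨hn0.ne'⟩
  have hpow : ∀ a b : ℕ, (a : ZMod n) = b → t ^ a = t ^ b := fun a b e => by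
    rw [pow_eq_pow_iff_modEq, hord]; exact (ZMod.natCast_eq_natCast_iff a b n).1 e
  have hadd : ∀ i j : ZMod n, t ^ i.val * t ^ j.val = t ^ (i + j).val := fun i j => by
    rw [← pow_add]; exact hpow _ _ (by simp)
  have hinvr : t ^ (0 : ZMod n).val = 1 := by simp
  have hsub : ∀ i j : ZMod n, t ^ (j - i).val = (t ^ i.val)⁻¹ * t ^ j.val := fun i j => by
    rw [eq_inv_mul_iff_mul_eq, hadd]; simp
  have hrr : Lie.refl P r * Lie.refl P r = 1 := Lie.refl_mul_self P r
  have hconj : ∀ i : ZMod n, t ^ i.val * Lie.refl P r = Lie.refl P r * (t ^ i.val)⁻¹ := by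
    intro i
    have hrt : Lie.refl P r * t * (Lie.refl P r)⁻¹ = t⁻¹ := by
      rw [ht, _root_.mul_inv_rev, Lie.refl_inv, Lie.refl_inv, ← mul_assoc, hrr, one_mul]
    have h := conj_pow (a := Lie.refl P r) (b := t) (i := i.val)
    rw [hrt, inv_pow, Lie.refl_inv] at h
    rw [h, ← mul_assoc, ← mul_assoc, hrr, one_mul]
  let toW : DihedralGroup n → Lie.Weyl P := fun g => match g with
    | .r i => t ^ i.val
    | .sr i => Lie.refl P r * t ^ i.val
  let g : DihedralGroup n →* Lie.Weyl P :=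
    { toFun := toW
      map_one' := hinvr
      map_mul' := by
        rintro (i | i) (j | j)
        · exact (hadd i j).symm
        · show Lie.refl P r * t ^ (j - i).val = t ^ i.val * (Lie.refl P r * t ^ j.val)
          rw [← mul_assoc, hconj, hsub, mul_assoc]
        · show Lie.refl P r * t ^ (i + j).val = Lie.refl P r * t ^ i.val * t ^ j.val
          rw [mul_assoc, hadd]
        · show t ^ (j - i).val = Lie.refl P r * t ^ i.val * (Lie.refl P r * t ^ j.val)
          rw [← mul_assoc, mul_assoc (Lie.refl P r) _ (Lie.refl P r), hconj, ← mul_assoc, hrr,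
            one_mul, hsub] }
  have hs' : Lie.refl P s = Lie.refl P r * t := by rw [ht, ← mul_assoc, hrr, one_mul]
  have hsurj : Function.Surjective g := by
    intro w
    obtain ⟨l, rfl⟩ := Lie.exists_word P w
    induction l with
    | nil => exact ⟨1, by rw [map_one, Lie.wprod_nil]⟩
    | cons x l ih =>
      obtain ⟨y, hy⟩ := ih
      obtain ⟨z, hz⟩ : ∃ z, g z = Lie.refl P x := by
        rcases hS x with hx | hx <;> rw [hx]
        · exact ⟨.sr 0, by show Lie.refl P r * t ^ (0 : ZMod n).val = _; rw [hinvr, mul_one]⟩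
        · refine ⟨.sr 1, ?_⟩
          show Lie.refl P r * t ^ (1 : ZMod n).val = _
          rw [hs', hpow _ 1 (by simp), pow_one]
      exact ⟨z * y, by rw [map_mul, hy, hz, Lie.wprod_cons]⟩
  have hcard : Nat.card (DihedralGroup n) = Nat.card (Lie.Weyl P) := by
    rw [Lie.weyl_card P hS, ← ht, hord, DihedralGroup.nat_card]
  haveI : Finite (Lie.Weyl P) := Finite.of_surjective _ hsurj
  exact Y.exists_weylHom (MulEquiv.ofBijective g (hsurj.bijective_of_nat_card_le hcard.le)).symm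

/-- The dihedral Weyl group, from a table check. -/
theorem exists_dihedralHom_of_check (hk : Y.W.Jw.length = 2) (hnd : Y.W.Jw.Nodup) {n : ℕ}
    (hchk : c.T.checkCox Y.W.Jw (fun a b => if a = b then 1 else n) = true) :
    ∃ φ : ↥(D.monomialSubgroup F ⊓ Y.G₁) →* DihedralGroup n, Function.Surjective φ ∧
      φ.ker = (D.diagonalSubgroup F ⊓ Y.G₁).subgroupOf (D.monomialSubgroup F ⊓ Y.G₁) := by
  simp only [Tables.checkCox, Tables.allNodes, List.all_eq_true, List.mem_range, Bool.and_eq_true,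
    Nat.blt_eq, Nat.beq_eq, Bool.or_eq_true, List.any_eq_true, Bool.not_eq_true'] at hchk
  obtain ⟨⟨h0, h1⟩, h2⟩ := hchk 0 (by omega) 1 (by omega)
  simp only [zero_ne_one, if_false] at h0 h1 h2
  have hwl : c.T.wlT (Y.W.Jw.getD 0 [] ++ Y.W.Jw.getD 1 []) =
      c.wl (Y.W.Jw.getD 0 [] ++ Y.W.Jw.getD 1 []) := funext (c.wlT_eq _)
  rw [hwl] at h1 h2
  refine Y.exists_dihedralHom hk hnd h0 (fun q hq => ?_) fun i hi hi0 => ?_
  · rw [c.simple_eq hq]; exact h1 q (c.rank_eq ▸ hq)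
  · rcases h2 i hi with h | ⟨q, hq, h⟩
    · omega
    · refine ⟨q, c.rank_eq.symm ▸ hq, fun e => ?_⟩
      rw [c.simple_eq (c.rank_eq.symm ▸ hq)] at e
      rw [beq_of_eq e] at h
      exact Bool.noConfusion h

/-- The Weyl group of one orbit. -/
theorem exists_twoHom (hk : Y.W.Jw.length = 1) (hnd : Y.W.Jw.Nodup) :
    ∃ φ : ↥(D.monomialSubgroup F ⊓ Y.G₁) →* Multiplicative (ZMod 2), Function.Surjective φ ∧
      φ.ker = (D.diagonalSubgroup F ⊓ Y.G₁).subgroupOf (D.monomialSubgroup F ⊓ Y.G₁) := by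
  obtain ⟨f, -⟩ := Y.exists_genEquiv hnd
  set P := Y.bnPair
  set r := f ⟨0, by omega⟩
  have hS : ∀ x : P.S, x = r ∨ x = r := by
    intro x
    obtain ⟨⟨i, hi⟩, rfl⟩ := f.surjective x
    obtain rfl : i = 0 := by omega
    exact Or.inl rfl
  have hcard : Nat.card (Lie.Weyl P) = 2 := by
    rw [Lie.weyl_card P hS, Lie.refl_mul_self, orderOf_one]
  haveI : Fact (Nat.Prime 2) := ⟨Nat.prime_two⟩
  exact Y.exists_weylHom (mulEquivOfPrimeCardEq hcard (by simp))

end Twist.Datum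

/-- The setting over a field with an odd power of `p` elements. -/
theorem exists_isoFrob {K : Type*} [Field K] [Fintype K] {p m : ℕ} (hp : p.Prime)
    (hK : Fintype.card K = p ^ (2 * m + 1)) :
    ∃ (_ : CharP K p) (_ : ExpChar K p) (f : K →+* K), ∀ t, f t = t ^ p ^ m := by
  haveI := Fact.mk hp
  haveI hc : CharP K p := charP_of_card_eq_prime_pow hK
  haveI he : ExpChar K p := ExpChar.prime hp
  exact ⟨hc, he, iterateFrobenius K p m, fun t => by simp [iterateFrobenius_def]⟩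

end Cfsg.Agent.Lie.Chev
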