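import Cfsg.Agent.Lib.Lie.Chev.TwistF4TwoTits

/-! The Tits group: index two, every involution inside, simplicity and order. -/

set_option autoImplicit false
set_option maxRecDepth 4000

namespace Cfsg.Agent.Lie.Chev.F4Two

open Cfsg.Lie Matrix
open scoped commutatorElement

theorem two_cases : ∀ w : K₂, w = 0 ∨ w = 1 := by decide

/-- A group of prime power order generated by one element and its derived subgroup is abelian. -/
theorem commutator_eq_bot_of_cyclic {Q : Type*} [Group Q] [Finite Q] {p : ℕ} [Fact p.Prime]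
    (hQ : IsPGroup p Q) {y : Q} (h : commutator Q ⊔ Subgroup.zpowers y = ⊤) :
    commutator Q = ⊥ := by
  have hy : Subgroup.zpowers y = ⊤ := by
    rcases eq_top_or_exists_le_coatom (Subgroup.zpowers y) with hy | ⟨M, hM, hle⟩
    · exact hy
    exfalso
    have := hQ.isNilpotent
    haveI hMn : M.Normal :=
      Subgroup.NormalizerCondition.normal_of_coatom M normalizerCondition_of_isNilpotent hM
    have hsub : ∀ H : Subgroup (Q ⧸ M), H = ⊥ ∨ H = ⊤ := by
      intro H
      have hMH : M ≤ H.comap (QuotientGroup.mk' M) := by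
        intro x hx
        rw [Subgroup.mem_comap, show QuotientGroup.mk' M x = 1 from (QuotientGroup.eq_one_iff x).2 hx]
        exact one_mem _
      rcases hMH.eq_or_lt with e | e
      · refine Or.inl ?_
        rw [eq_bot_iff]
        intro z hz
        obtain ⟨x, rfl⟩ := QuotientGroup.mk'_surjective M z
        rw [Subgroup.mem_bot]
        exact (QuotientGroup.eq_one_iff x).2 (e ▸ hz)
      · refine Or.inr ?_
        rw [← Subgroup.map_comap_eq_self_of_surjective (QuotientGroup.mk'_surjective M) H, hM.2 _ e,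
          Subgroup.map_top_of_surjective _ (QuotientGroup.mk'_surjective M)]
    have hcomm : commutator Q ≤ M := by
      rw [commutator_def, Subgroup.commutator_le]
      intro a _ b _
      rw [← QuotientGroup.eq_one_iff]
      rcases hsub (Subgroup.zpowers (QuotientGroup.mk' M a)) with e | e
      · rw [Subgroup.zpowers_eq_bot] at e
        show QuotientGroup.mk' M ⁅a, b⁆ = 1
        rw [map_commutatorElement, e, commutatorElement_one_left]
      · obtain ⟨n, hn⟩ := Subgroup.mem_zpowers_iff.1 (e ▸ Subgroup.mem_top (QuotientGroup.mk' M b))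
        show QuotientGroup.mk' M ⁅a, b⁆ = 1
        rw [map_commutatorElement, ← hn]
        exact commutatorElement_eq_one_iff_commute.2 (Commute.self_zpow _ n)
    exact hM.1 (top_le_iff.1 (h ▸ sup_le hcomm hle))
  rw [commutator_def, eq_bot_iff, Subgroup.commutator_le]
  intro a _ b _
  obtain ⟨i, rfl⟩ := Subgroup.mem_zpowers_iff.1 (hy ▸ Subgroup.mem_top a)
  obtain ⟨j, rfl⟩ := Subgroup.mem_zpowers_iff.1 (hy ▸ Subgroup.mem_top b)
  rw [Subgroup.mem_bot]
  exact commutatorElement_eq_one_iff_commute.2 ((Commute.refl y).zpow_zpow i j)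

/-- The Borel subgroup inside the group. -/
noncomputable def U₂ : Subgroup G₂ := genSub.subgroupOf (twistedF4 K₂ 1)

theorem card_G₂ : Nat.card G₂ = 2 ^ 12 * 8775 := by
  have h : Nat.card G₂ = _ := F4.card_group (m := 0) f₀ hf₀ hK₀
  rw [h]
  norm_num

theorem card_U₂ : Nat.card U₂ = 2 ^ 12 := by
  rw [U₂, Nat.card_congr (Subgroup.subgroupOfEquivOfLe genSub_le_G).toEquiv, ← U_fix_eq,
    ← (Y₀).eq_fix]
  have h := F4.card_U (m := 0) f₀ hf₀ hK₀
  refine Eq.trans h ?_
  norm_num

theorem isPGroup_B : IsPGroup 2 ↥(Y₀).bnPair.B := by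
  refine IsPGroup.of_card (n := 12) ?_
  rw [Twist.Datum.card_bnB Y₀, borel_fix_eq,
    ← Nat.card_congr (Subgroup.subgroupOfEquivOfLe genSub_le_G).toEquiv]
  exact card_U₂

/-- Every involution lies in the derived subgroup. -/
theorem involution_mem {g : G₂} (hg : orderOf g = 2) : g ∈ commutator G₂ := by
  haveI := Fact.mk Nat.prime_two
  obtain ⟨F, hker, -, hF⟩ := exists_parity'
  have hfac : (Nat.card G₂).factorization 2 = 12 := by
    rw [card_G₂, Nat.factorization_mul (by norm_num) (by norm_num), Finsupp.add_apply,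
      Nat.Prime.factorization_pow Nat.prime_two, Finsupp.single_eq_same,
      Nat.factorization_eq_zero_of_not_dvd (show ¬ 2 ∣ 8775 by norm_num)]
  let S : Sylow 2 G₂ := Sylow.ofCard U₂ (by rw [card_U₂, hfac])
  have hz : IsPGroup 2 (Subgroup.zpowers g) :=
    IsPGroup.of_card (n := 1) (by rw [Nat.card_zpowers, hg, pow_one])
  obtain ⟨T, hT⟩ := hz.exists_le_sylow
  obtain ⟨x, hx⟩ := MulAction.exists_smul_eq G₂ T S
  have hmem : x * g * x⁻¹ ∈ (S : Subgroup G₂) := by
    rw [← hx, Sylow.coe_subgroup_smul]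
    exact ⟨g, hT (Subgroup.mem_zpowers g), rfl⟩
  have hU : ((x * g * x⁻¹ : G₂) : GL chevF4.Idx K₂) ∈ genSub := hmem
  have hsq : (x * g * x⁻¹) * (x * g * x⁻¹) = 1 := by
    rw [show x * g * x⁻¹ * (x * g * x⁻¹) = x * (g * g) * x⁻¹ by group,
      show g * g = 1 by
        have h := pow_orderOf_eq_one g
        rw [hg, pow_two] at h
        exact h, mul_one, mul_inv_cancel]
  have hsq' : ((x * g * x⁻¹ : G₂) : GL chevF4.Idx K₂) * ((x * g * x⁻¹ : G₂) : GL chevF4.Idx K₂) = 1 := by
    rw [← Subgroup.coe_mul, hsq, Subgroup.coe_one]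
  have h0 := chi_eq_zero_of_sq hU hsq'
  have h1 := hF _ hU
  rw [h0, map_mul, map_mul, map_inv, mul_inv_cancel_comm] at h1
  rw [← hker, MonoidHom.mem_ker, h1]
  rfl

/-- The index of the derived subgroup is two. -/
theorem index_derived : (commutator G₂).index = 2 := by
  obtain ⟨F, hker, hx, -⟩ := exists_parity'
  rw [← hker, Subgroup.index_ker]
  have htop : F.range = ⊤ := by
    rw [eq_top_iff]
    intro z _
    rcases two_cases (Multiplicative.toAdd z) with h | h
    · exact ⟨1, by rw [map_one, ← ofAdd_toAdd z, h]; rfl⟩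
    · exact ⟨gen 1 (by decide), by rw [hx, ← ofAdd_toAdd z, h]⟩
  rw [htop, Subgroup.card_top, Nat.card_eq_fintype_card, Fintype.card_multiplicative, ZMod.card]

theorem card_derived : Nat.card (commutator G₂) = 2 ^ 11 * 8775 := by
  have h := Subgroup.index_mul_card (commutator G₂)
  rw [index_derived, card_G₂] at h
  omega

/-- A non-trivial normal subgroup contains the derived subgroup. -/
theorem derived_le {N : Subgroup G₂} [hN : N.Normal] (hne : N ≠ ⊥) : commutator G₂ ≤ N := by
  haveI := Fact.mk Nat.prime_two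
  let P : Cfsg.BNPair G₂ := (Y₀).bnPair
  have hPG : IsPGroup 2 ↥P.B := isPGroup_B
  have hcore : P.B.normalCore = ⊥ := (Y₀).core_eq_bot
  have hirr : P.Irreducible := (Y₀).irreducible (F4.chain (m := 0) f₀ hf₀ hK₀)
  let J : Set G₂ := {s | s ∈ P.S ∧ s ∈ N ⊔ P.B}
  have hJ : J ⊆ P.S := fun s hs => hs.1
  have hNJ : N ⊔ P.B = P.parabolic J := Lie.eq_parabolic P _ le_sup_right
  rcases Set.eq_empty_or_nonempty J with h0 | hJne
  · exfalso
    have h : N ⊔ P.B = P.B := by rw [hNJ, h0]; simp [Cfsg.BNPair.parabolic]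
    exact hne (le_bot_iff.1 (hcore ▸ Subgroup.normal_le_normalCore.2 (h ▸ le_sup_left)))
  rcases Set.eq_empty_or_nonempty (P.S \ J) with h1 | hne'
  swap
  · exfalso
    obtain ⟨s, hs, r, hr, hsr⟩ := hirr J hJ hJne hne'
    exact hsr ((Lie.refl_commute_iff P (s := ⟨s, hJ hs⟩) (r := ⟨r, hr.1⟩)).2
      (Lie.commute_of_normal P hJ hNJ (s := ⟨s, hJ hs⟩) (r := ⟨r, hr.1⟩) hs hr.2))
  have hJS : J = P.S := le_antisymm hJ (Set.sdiff_eq_empty.1 h1)
  have htop : N ⊔ P.B = ⊤ := by rw [hNJ, hJS, Lie.parabolic_S]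
  have hq : Function.Surjective ((QuotientGroup.mk' N).comp P.B.subtype) := by
    intro y
    obtain ⟨g, rfl⟩ := QuotientGroup.mk'_surjective N y
    obtain ⟨h, hh, b, hb, rfl⟩ :=
      Subgroup.mem_sup_of_normal_left.1 (htop ▸ Subgroup.mem_top g : g ∈ N ⊔ P.B)
    refine ⟨⟨b, hb⟩, ?_⟩
    show (b : G₂ ⧸ N) = ((h * b : G₂) : G₂ ⧸ N)
    rw [QuotientGroup.mk_mul, (QuotientGroup.eq_one_iff h).2 hh, one_mul]
  have hQ : IsPGroup 2 (G₂ ⧸ N) := hPG.of_surjective _ hq
  have hmap : (commutator G₂).map (QuotientGroup.mk' N) = commutator (G₂ ⧸ N) := by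
    rw [commutator_def, commutator_def, Subgroup.map_commutator,
      Subgroup.map_top_of_surjective _ (QuotientGroup.mk'_surjective N)]
  have hbot := commutator_eq_bot_of_cyclic hQ (y := QuotientGroup.mk' N (gen 1 (by decide))) (by
    rw [← hmap, ← MonoidHom.map_zpowers, ← Subgroup.map_sup]
    show bigSub.map _ = ⊤
    rw [bigSub_eq_top, Subgroup.map_top_of_surjective _ (QuotientGroup.mk'_surjective N)])
  rw [← hmap, Subgroup.map_eq_bot_iff, QuotientGroup.ker_mk'] at hbot
  exact hbot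

theorem derived_noncomm : ¬ IsMulCommutative TitsGroup := by
  haveI := Fact.mk Nat.prime_two
  intro hc
  -- an abelian derived subgroup contains the derived subgroup of each of its subgroups
  obtain ⟨P⟩ : Nonempty (Sylow 13 G₂) := ⟨default⟩
  haveI := Fact.mk (show (13 : ℕ).Prime by norm_num)
  have hle : (P : Subgroup G₂) ≤ commutator G₂ := by
    intro x hx
    obtain ⟨F, hker, -, -⟩ := exists_parity'
    rw [← hker, MonoidHom.mem_ker]
    have h1 : orderOf (F x) ∣ 2 := by
      have := orderOf_dvd_natCard (F x)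
      rwa [Nat.card_eq_fintype_card, Fintype.card_multiplicative, ZMod.card] at this
    obtain ⟨k, hk⟩ := (IsPGroup.iff_orderOf.1 P.2) ⟨x, hx⟩
    have h2 : orderOf (F x) ∣ 13 ^ k := by
      have h := orderOf_map_dvd F x
      rwa [← Subgroup.orderOf_mk x hx, hk] at h
    rw [← orderOf_eq_one_iff]
    exact Nat.eq_one_of_dvd_coprimes (Nat.Coprime.pow_right k (by norm_num)) h1 h2
  have hcardP : Nat.card P = 13 := by
    rw [P.card_eq_multiplicity, card_G₂, show 2 ^ 12 * 8775 = 13 * (2 ^ 12 * 675) by norm_num,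
      Nat.factorization_mul (by norm_num) (by norm_num), Finsupp.add_apply,
      Nat.Prime.factorization_self (by norm_num),
      Nat.factorization_eq_zero_of_not_dvd (show ¬ 13 ∣ 2 ^ 12 * 675 by norm_num)]
    norm_num
  -- the Sylow subgroup is normal in the derived subgroup, hence in the group
  have hn : ((P : Subgroup G₂).subgroupOf (commutator G₂)).Normal := by
    refine ⟨fun a ha b => ?_⟩
    have : b * a = a * b := (IsMulCommutative.is_comm (M := TitsGroup)).comm b a
    rwa [this, mul_inv_cancel_right]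
  haveI := hn
  have hchar : ((P : Subgroup G₂).subgroupOf (commutator G₂)).Characteristic :=
    Sylow.characteristic_of_normal (P.subtype hle) hn
  have hPn : (P : Subgroup G₂).Normal := by
    have h := @ConjAct.normal_of_characteristic_of_normal G₂ _ (commutator G₂) _
      ((P : Subgroup G₂).subgroupOf (commutator G₂)) hchar
    rwa [Subgroup.map_subgroupOf_eq_of_le hle] at h
  have hne : (P : Subgroup G₂) ≠ ⊥ := fun e => by
    rw [e, Subgroup.card_bot] at hcardP
    omega
  have h := Subgroup.card_dvd_of_le (derived_le (hN := hPn) hne)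
  rw [card_derived, hcardP] at h
  exact absurd (Nat.le_of_dvd (by norm_num) h) (by norm_num)

/-- A minimal normal subgroup of index two whose order is no square is simple. -/
theorem simple_of_index_two {G : Type*} [Group G] [Finite G] (D : Subgroup G) [D.Normal]
    [Nontrivial D] {x : G} (hxx : x * x ∈ D) (hgen : ∀ g : G, g ∈ D ∨ g * x⁻¹ ∈ D)
    (hmin : ∀ N : Subgroup G, N.Normal → N ≠ ⊥ → D ≤ N) {p : ℕ} (hp : p.Prime)
    (h1 : p ∣ Nat.card D) (h2 : ¬ p * p ∣ Nat.card D) : IsSimpleGroup D := by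
  refine ⟨fun K hK => ?_⟩
  by_contra hcon
  push Not at hcon
  obtain ⟨hK1, hK2⟩ := hcon
  -- the two conjugates inside the group
  obtain ⟨A, hA⟩ : ∃ A : Subgroup G, A = K.map (D).subtype := ⟨_, rfl⟩
  obtain ⟨B, hB⟩ : ∃ B : Subgroup G, B = A.map (MulAut.conj x).toMonoidHom := ⟨_, rfl⟩
  have hAle : A ≤ D := hA ▸ Subgroup.map_subtype_le K
  have hAconj : ∀ d ∈ D, ∀ a ∈ A, d * a * d⁻¹ ∈ A := by
    rintro d hd a ha
    rw [hA] at ha ⊢
    obtain ⟨k, hk, rfl⟩ := ha
    obtain ⟨d', hd'⟩ : ∃ d' : ↥D, (D).subtype d' = d := ⟨⟨d, hd⟩, rfl⟩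
    refine ⟨d' * k * d'⁻¹, hK.conj_mem k hk d', ?_⟩
    rw [map_mul, map_mul, map_inv, hd']
  have hBmem : ∀ b, b ∈ B ↔ x⁻¹ * b * x ∈ A := by
    intro b
    rw [hB]
    constructor
    · rintro ⟨a, ha, rfl⟩
      simpa [mul_assoc] using ha
    · intro h
      exact ⟨_, h, by simp [mul_assoc]⟩
  have hBle : B ≤ D := fun b hb => by
    have h := (D).mul_mem ((D).mul_mem hxx (hAle ((hBmem b).1 hb)))
      ((D).inv_mem hxx)
    have h2 := Subgroup.Normal.conj_mem inferInstance _ h x⁻¹
    simpa [mul_assoc] using h2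
  have hswap : ∀ b, (b ∈ A → x * b * x⁻¹ ∈ B) ∧ (b ∈ B → x * b * x⁻¹ ∈ A) := by
    refine fun b => ⟨fun hb => (hBmem _).2 (by simpa [mul_assoc] using hb), fun hb => ?_⟩
    have := hAconj _ hxx _ ((hBmem b).1 hb)
    simpa [mul_assoc] using this
  have hBconj : ∀ d ∈ D, ∀ b ∈ B, d * b * d⁻¹ ∈ B := fun d hd b hb => by
    rw [hBmem]
    have h := hAconj _ (Subgroup.Normal.conj_mem inferInstance _ hd x⁻¹) _ ((hBmem b).1 hb)
    simpa [mul_assoc] using h
  have hnormal : ∀ S : Subgroup G, (∀ d ∈ D, ∀ s ∈ S, d * s * d⁻¹ ∈ S) →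
      (∀ s ∈ S, x * s * x⁻¹ ∈ S) → S.Normal := fun S h1 h2 => ⟨fun s hs g => by
    rcases hgen g with h | h
    · exact h1 g h s hs
    · have := h1 _ h _ (h2 s hs)
      simpa [mul_assoc] using this⟩
  have hinf : A ⊓ B = ⊥ := by
    by_contra hne
    have hn : (A ⊓ B).Normal := hnormal _ (fun d hd s hs => ⟨hAconj d hd s hs.1, hBconj d hd s hs.2⟩)
      (fun s hs => ⟨(hswap s).2 hs.2, (hswap s).1 hs.1⟩)
    have h := (hmin _ hn hne).trans inf_le_left
    apply hK2
    rw [eq_top_iff]
    intro k _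
    have hk := h k.2
    rw [hA] at hk
    obtain ⟨k', hk', e⟩ := hk
    rwa [← Subtype.ext e]
  have hAne : A ≠ ⊥ := fun e => hK1 (by
    rw [hA, Subgroup.map_eq_bot_iff, Subgroup.ker_subtype, le_bot_iff] at e
    exact e)
  have hsup : A ⊔ B = D := by
    refine le_antisymm (sup_le hAle hBle) ?_
    have hn : (A ⊔ B).Normal := by
      refine hnormal _ (fun d hd s hs => ?_) (fun s hs => ?_)
      · have : (A ⊔ B).map (MulAut.conj d).toMonoidHom ≤ A ⊔ B := by
          rw [Subgroup.map_sup]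
          refine sup_le_sup ?_ ?_
          · rintro _ ⟨a, ha, rfl⟩; simpa using hAconj d hd a ha
          · rintro _ ⟨a, ha, rfl⟩; simpa using hBconj d hd a ha
        simpa using this ⟨s, hs, rfl⟩
      · have : (A ⊔ B).map (MulAut.conj x).toMonoidHom ≤ A ⊔ B := by
          rw [Subgroup.map_sup, sup_comm]
          refine sup_le_sup ?_ ?_
          · rintro _ ⟨a, ha, rfl⟩; simpa using (hswap a).2 ha
          · rintro _ ⟨a, ha, rfl⟩; simpa using (hswap a).1 ha
        simpa using this ⟨s, hs, rfl⟩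
    exact hmin _ hn fun e => hAne (le_bot_iff.1 (e ▸ le_sup_left))
  -- the order would be a square
  have hcardB : Nat.card B = Nat.card A := by
    rw [hB]
    exact Subgroup.card_map_of_injective (f := (MulAut.conj x).toMonoidHom) (MulEquiv.injective _)
  have hcomm : A ≤ Subgroup.normalizer (B : Set G) := fun a ha => by
    rw [Subgroup.mem_normalizer_iff]
    intro b
    refine ⟨fun hb => hBconj a (hAle ha) b hb, fun hb => ?_⟩
    have h := hBconj a⁻¹ (inv_mem (hAle ha)) _ hb
    simpa [mul_assoc] using h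
  have hcard : Nat.card (D) = Nat.card A * Nat.card A := by
    have hbij : Function.Bijective (fun p : ↥A × ↥B => (⟨p.1.1 * p.2.1,
        mul_mem (hAle p.1.2) (hBle p.2.2)⟩ : D)) := by
      constructor
      · intro p q e
        have e' : (p.1 : G) * p.2 = q.1 * q.2 := congrArg Subtype.val e
        have h1 : (q.1 : G)⁻¹ * p.1 = q.2 * (p.2 : G)⁻¹ := by
          rw [eq_mul_inv_iff_mul_eq, mul_assoc, e', inv_mul_cancel_left]
        have h2 : (q.1 : G)⁻¹ * p.1 ∈ A ⊓ B :=
          Subgroup.mem_inf.2 ⟨mul_mem (inv_mem q.1.2) p.1.2, h1 ▸ mul_mem q.2.2 (inv_mem p.2.2)⟩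
        rw [hinf, Subgroup.mem_bot] at h2
        rw [h2] at h1
        exact Prod.ext (Subtype.ext (inv_mul_eq_one.1 h2).symm)
          (Subtype.ext (mul_inv_eq_one.1 h1.symm).symm)
      · intro g
        have hg : (g : G) ∈ ((A ⊔ B : Subgroup G) : Set G) := hsup.symm ▸ g.2
        rw [Subgroup.coe_mul_of_left_le_normalizer_right A B hcomm] at hg
        obtain ⟨a, ha, b, hb, e⟩ := hg
        exact ⟨(⟨a, ha⟩, ⟨b, hb⟩), Subtype.ext e⟩
    rw [← Nat.card_congr (Equiv.ofBijective _ hbij), Nat.card_prod, hcardB]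
  rw [hcard] at h1 h2
  exact h2 (Nat.mul_dvd_mul (((hp.dvd_mul).1 h1).elim id id) (((hp.dvd_mul).1 h1).elim id id))

theorem derived_simple : IsSimpleGroup TitsGroup := by
  haveI : Nontrivial (commutator G₂) := Finite.one_lt_card_iff_nontrivial.1 (by
    rw [card_derived]; norm_num)
  obtain ⟨F, hker, hF, -⟩ := exists_parity'
  refine simple_of_index_two (commutator G₂) (x := gen 1 (by decide)) ?_ (fun g => ?_)
    (fun N hN hne => derived_le (hN := hN) hne) (p := 13) (by norm_num)
    (by rw [card_derived]; norm_num) (by rw [card_derived]; norm_num)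
  · rw [← hker, MonoidHom.mem_ker, map_mul, hF]
    rfl
  · rw [← hker, MonoidHom.mem_ker, MonoidHom.mem_ker, map_mul, map_inv, hF]
    rcases two_cases (Multiplicative.toAdd (F g)) with h | h
    · left; rw [← ofAdd_toAdd (F g), h]; rfl
    · right; rw [← ofAdd_toAdd (F g), h]; exact mul_inv_cancel _

end Cfsg.Agent.Lie.Chev.F4Two
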