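import Cfsg.Agent.Lib.Lie.Chev.SteinbergInst
import Cfsg.Agent.Lib.Lie.OrthGenBasic
import Cfsg.Agent.Lib.Lie.OrthOmegaGen

/-! `D₄(F) ≅ PΩ⁺₈(F)`. -/

set_option autoImplicit false

namespace Cfsg.Agent.Lie.Chev.IsoD4

open Cfsg.Lie Matrix Cfsg.Agent.Classical Cfsg.Agent.Classical.OrthAut Cfsg.Agent.Lie.OrthGen
open scoped commutatorElement

abbrev I8 : Type := Fin 4 ⊕ Fin 4

/-- The planes and signs of the root elements. -/
def rootTab : List (I8 × I8 × ℤ) :=
  [(.inr 0, .inr 1, -1), (.inr 0, .inr 2, 1), (.inr 0, .inl 3, -1), (.inr 0, .inr 3, -1),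
   (.inr 0, .inl 2, -1), (.inr 0, .inl 1, -1), (.inr 1, .inr 2, 1), (.inr 1, .inl 3, -1),
   (.inr 1, .inr 3, -1), (.inr 1, .inl 2, -1), (.inr 2, .inl 3, -1), (.inr 2, .inr 3, -1),
   (.inl 2, .inl 3, 1), (.inl 2, .inr 3, 1), (.inl 1, .inr 2, 1), (.inl 1, .inl 3, 1),
   (.inl 1, .inr 3, 1), (.inl 1, .inl 2, -1), (.inl 0, .inr 1, 1), (.inl 0, .inr 2, 1),
   (.inl 0, .inl 3, 1), (.inl 0, .inr 3, 1), (.inl 0, .inl 2, -1), (.inl 0, .inl 1, 1)]

/-- The entry of a root. -/
def tab (r : ℕ) : I8 × I8 × ℤ := rootTab.getD r (.inl 0, .inl 1, 0)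

/-- The nilpotent part of a root element. -/
def ent (r : ℕ) : List (I8 × I8 × ℤ) :=
  [((tab r).2.1, (tab r).1.swap, (tab r).2.2), ((tab r).1, (tab r).2.1.swap, -(tab r).2.2)]

/-- The relation of a pair, as an identity of the nilpotent parts. -/
def checkPair (r s : ℕ) : Bool :=
  match certFullD4.T.commTerms r s with
  | [] => sameEntries (lmul (ent s) (ent r)) (lmul (ent r) (ent s))
  | [(x, C, i, j)] =>
      Nat.beq i 1 && Nat.beq j 1 &&
      (sameEntries (lmul (ent s) (ent r)) (lmul (ent r) (ent s) ++ lscale (-C) (ent x)) &&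
        sameEntries (lmul (ent r) (ent x)) [] && sameEntries (lmul (ent s) (ent x)) [])
  | _ => false

theorem checkPair_all : ∀ r s : Fin 24, (s : ℕ) ≠ (r : ℕ) → (s : ℕ) ≠ certFullD4.T.neg r →
    checkPair r s = true := by decide +kernel

theorem tab_ok : ∀ r : Fin 24, (tab r).2.1 ≠ (tab r).1.swap := by decide +kernel

theorem tab_cover : ∀ a b : I8, b ≠ a → b ≠ a.swap → ∃ r : Fin 24,
    (((tab r).1 = a ∧ (tab r).2.1 = b) ∨ ((tab r).1 = b ∧ (tab r).2.1 = a)) ∧
      (tab r).2.2 * (tab r).2.2 = 1 := by decide +kernel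

variable (F : Type*) [Field F]

/-- The root element in the orthogonal group. -/
noncomputable def root (r : ℕ) (t : F) : isometryGroup F ⇑(qfPlus 4 F) :=
  coordElt 4 F (tab r).1 (tab r).2.1 (((tab r).2.2 : F) * t)

variable {F}

theorem root_val {r : ℕ} (hr : r < 24) (t : F) :
    ogVal (root F r t) = 1 + t • toM F (ent r) := by
  rw [root, coordElt_val _ _ (tab_ok ⟨r, hr⟩), ent, toM_cons, toM_cons, toM_nil, add_zero]
  simp [smul_add, Matrix.smul_single, mul_comm]

theorem rel_eq {r s : ℕ} (hr : r < 24) (hs : s < 24) (h1 : s ≠ r)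
    (h2 : s ≠ certFullD4.T.neg r) (hx : ∀ x ∈ certFullD4.T.commTerms r s, x.1 < 24) (t u : F) :
    root F s u * root F r t = root F r t * root F s u *
      ((certFullD4.T.commTerms r s).map fun x =>
        root F x.1 ((x.2.1 : F) * (-t) ^ x.2.2.1 * u ^ x.2.2.2)).prod := by
  have h := checkPair_all ⟨r, hr⟩ ⟨s, hs⟩ h1 h2
  unfold checkPair at h
  refine ogVal_ext ?_
  match hL : certFullD4.T.commTerms r s, h with
  | [], h =>
    simp only [List.map_nil, List.prod_nil, mul_one, ogVal_mul, root_val hr, root_val hs]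
    have e := sameEntries_toM (F := F) h
    rw [toM_lmul, toM_lmul] at e
    simp only [mul_add, add_mul, one_mul, mul_one, Matrix.smul_mul, Matrix.mul_smul, smul_smul, e,
      mul_comm u t]
    abel
  | [(x, C, i, j)], h =>
    simp only [Bool.and_eq_true, Nat.beq_eq] at h
    obtain ⟨⟨rfl, rfl⟩, ⟨h0, h3⟩, h4⟩ := h
    have hx' : x < 24 := hx (x, C, 1, 1) (by rw [hL]; simp)
    have e := sameEntries_toM (F := F) h0
    have e3 := sameEntries_toM (F := F) h3
    have e4 := sameEntries_toM (F := F) h4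
    rw [toM_lmul, toM_append, toM_lmul, toM_lscale] at e
    rw [toM_lmul, toM_nil] at e3 e4
    have e5 : toM F (ent r) * toM F (ent s) * toM F (ent x) = 0 := by
      rw [Matrix.mul_assoc, e4, Matrix.mul_zero]
    simp only [List.map_cons, List.map_nil, List.prod_cons, List.prod_nil, mul_one, pow_one,
      ogVal_mul, root_val hr, root_val hs, root_val hx']
    simp only [mul_add, add_mul, one_mul, mul_one, Matrix.smul_mul, Matrix.mul_smul, smul_smul,
      Matrix.add_mul, e3, e4, e5, smul_zero, add_zero, e, Int.cast_neg, smul_add]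
    module
  | _ :: _ :: _, h => simp at h

theorem root_add {r : ℕ} (hr : r < 24) (t u : F) : root F r t * root F r u = root F r (t + u) := by
  rw [root, root, root, coordElt_mul _ _ (tab_ok ⟨r, hr⟩), mul_add]

variable (F)

theorem nroots_D4 : chevD4.nroots = 24 := certFullD4.nroots_eq

/-- The homomorphism from Steinberg's cover. -/
noncomputable def coverHom : chevD4.SteinbergCover F →* isometryGroup F ⇑(qfPlus 4 F) :=
  PresentedGroup.toGroup (f := fun x : Fin chevD4.nroots × F => root F x.1 x.2) (by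
    have hn := nroots_D4
    have hf : ∀ {r : ℕ} (hr : r < chevD4.nroots) (t : F), FreeGroup.lift
        (fun x : Fin chevD4.nroots × F => root F x.1 x.2) (chevD4.stX r t) = root F r t :=
      fun {r} hr t => by rw [ChevalleyDatum.stX, dif_pos hr, FreeGroup.lift_apply_of]
    rintro g (⟨r, t, u, hr, rfl⟩ | ⟨r, s, t, u, hr, hs, h1, h2, rfl⟩)
    · simp only [map_mul, map_inv, hf hr, root_add (hn ▸ hr), mul_inv_cancel]
    · have c := certFullD4.commTerms_eq hr hs
      rw [map_mul, map_inv, mul_inv_eq_one]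
      simp only [map_mul, map_inv, hf hr, hf hs]
      rw [ChevalleyDatum.stWord, ChevalleyDatum.commWord, c, map_list_prod,
        List.map_map, List.map_map, mul_assoc _ (root F s u)]
      rw [rel_eq (hn ▸ hr) (hn ▸ hs) h1 (by rw [← certFullD4.neg_eq hr]; exact h2)
        (fun x hx => hn ▸ (certFullD4.mem_commTerms hr hs hx).1)]
      have key : ∀ a b z : isometryGroup F ⇑(qfPlus 4 F), a⁻¹ * b⁻¹ * (b * a * z) = z :=
        fun a b z => by group
      rw [key]
      exact congrArg List.prod (List.map_congr_left fun x hx =>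
        (hf (certFullD4.mem_commTerms hr hs hx).1 _).symm))

theorem coverHom_X {r : ℕ} (hr : r < chevD4.nroots) (t : F) :
    coverHom F ((certFullD4.stCoverData F).X r t) = root F r t := by
  show PresentedGroup.toGroup _ (PresentedGroup.mk _ (chevD4.stX r t)) = _
  rw [ChevalleyDatum.stX, dif_pos hr]
  exact PresentedGroup.toGroup.of _

theorem coord_mem_range {a b : I8} (h1 : b ≠ a) (h2 : b ≠ a.swap) (s : F) :
    coordElt 4 F a b s ∈ (coverHom F).range := by
  obtain ⟨r, hab, hσ⟩ := tab_cover a b h1 h2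
  have hσ' : ((tab r).2.2 : F) * (tab r).2.2 = 1 := by
    exact_mod_cast congrArg (Int.cast : ℤ → F) hσ
  have hr : (r : ℕ) < chevD4.nroots := by rw [nroots_D4]; exact r.2
  rcases hab with ⟨e1, e2⟩ | ⟨e1, e2⟩
  · refine ⟨(certFullD4.stCoverData F).X r ((tab r).2.2 * s), ?_⟩
    rw [coverHom_X F hr, root, e1, e2, ← mul_assoc, hσ', one_mul]
  · refine ⟨(certFullD4.stCoverData F).X r ((tab r).2.2 * -s), ?_⟩
    rw [coverHom_X F hr, root, e1, e2, ← mul_assoc, hσ', one_mul, coordElt_swap _ _ h2]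

theorem range_eq_omega : (coverHom F).range = Omega F ⇑(qfPlus 4 F) := by
  have hN : checkNbr certFullD4.T = true := by decide +kernel
  refine le_antisymm ?_ ((omega_le_sR (nondegenerate_qfPlus 4) (tri_qfPlus (by norm_num))).trans
    (sR_le_of_coord (by norm_num) fun a b h1 h2 s => coord_mem_range F h1 h2 s))
  rintro _ ⟨x, rfl⟩
  have hx : x ∈ commutator (chevD4.SteinbergCover F) := by
    rw [(certFullD4.stCoverData F).perfect hN perfectD4]; trivial
  have := Subgroup.mem_map_of_mem (coverHom F) hx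
  rw [commutator_def, Subgroup.map_commutator] at this
  exact Subgroup.commutator_mono le_top le_top this

theorem exists_iso :
    Nonempty (↥(chevD4.group F) ≃* POmega F ⇑(qfPlus 4 F)) := by
  have hN : checkNbr certFullD4.T = true := by decide +kernel
  set A := certFullD4.stCoverData F
  let ψ : chevD4.SteinbergCover F →* ↥(Omega F ⇑(qfPlus 4 F)) :=
    (coverHom F).codRestrict _ fun x => range_eq_omega F ▸ ⟨x, rfl⟩
  have hψ : Function.Surjective ψ := fun y => by
    obtain ⟨x, hx⟩ : (y : isometryGroup F ⇑(qfPlus 4 F)) ∈ (coverHom F).range :=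
      (range_eq_omega F).symm ▸ y.2
    exact ⟨x, Subtype.ext hx⟩
  let φ : chevD4.SteinbergCover F →* POmega F ⇑(qfPlus 4 F) := (QuotientGroup.mk' _).comp ψ
  have hφ : Function.Surjective φ := (QuotientGroup.mk'_surjective _).comp hψ
  let θ' : chevD4.SteinbergCover F →* ↥(chevD4.group F) := A.θ.codRestrict _ A.θ_mem_group
  have hθ : Function.Surjective θ' := fun g => by
    obtain ⟨x, hx⟩ := A.θ_surj g.2
    exact ⟨x, Subtype.ext hx⟩
  have hker : θ'.ker ≤ φ.ker := fun z hz => by
    have hz' : z ∈ Subgroup.center _ :=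
      (A.ker_le hN).trans inf_le_right (congrArg Subtype.val (MonoidHom.mem_ker.1 hz))
    rw [MonoidHom.mem_ker]
    refine (QuotientGroup.eq_one_iff _).2 (Subgroup.mem_center_iff.2 fun y => ?_)
    obtain ⟨x, rfl⟩ := hψ y
    rw [← map_mul, ← map_mul, Subgroup.mem_center_iff.1 hz' x]
  let f : ↥(chevD4.group F) →* POmega F ⇑(qfPlus 4 F) :=
    θ'.liftOfSurjective hθ ⟨φ, hker⟩
  have hf : ∀ x, f (θ' x) = φ x := fun x => MonoidHom.liftOfRightInverse_comp_apply _ _ _ ⟨φ, hker⟩ x
  have hfs : Function.Surjective f := fun y => by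
    obtain ⟨x, rfl⟩ := hφ y
    exact ⟨θ' x, hf x⟩
  obtain ⟨hsimple, -⟩ := certFullD4.simple (F := F) connD4 (certFullD4.perfect perfectD4)
  refine ⟨MulEquiv.ofBijective f ⟨(MonoidHom.ker_eq_bot_iff f).1 ?_, hfs⟩⟩
  refine ((hsimple.eq_bot_or_eq_top_of_normal f.ker inferInstance)).resolve_right fun htop => ?_
  have hall : ∀ x, ψ x ∈ Subgroup.center ↥(Omega F ⇑(qfPlus 4 F)) := fun x => by
    rw [← QuotientGroup.eq_one_iff]
    show φ x = 1
    rw [← hf x, ← MonoidHom.mem_ker, htop]; trivial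
  have hone : ∀ x, ψ x = 1 := fun x => by
    have hx : x ∈ commutator (chevD4.SteinbergCover F) := by
      rw [A.perfect hN perfectD4]; trivial
    suffices commutator (chevD4.SteinbergCover F) ≤ ψ.ker from this hx
    rw [commutator_def, Subgroup.commutator_le]
    intro a _ b _
    rw [MonoidHom.mem_ker, map_commutatorElement, commutatorElement_eq_one_iff_mul_comm]
    exact Subgroup.mem_center_iff.1 (hall b) _
  have h12 : (12 : ℕ) < chevD4.nroots := by rw [nroots_D4]; norm_num
  have h := congrArg (fun g => ogVal g (Sum.inl 3) (Sum.inr 2))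
    (congrArg Subtype.val (hone (A.X 12 (1 : F))))
  change ogVal (coverHom F (A.X 12 1)) _ _ = ogVal (1 : isometryGroup F ⇑(qfPlus 4 F)) _ _ at h
  rw [coverHom_X F h12, root_val (by norm_num)] at h
  simp [ent, tab, rootTab, toM_apply, coef] at h

end Cfsg.Agent.Lie.Chev.IsoD4
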