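import Cfsg.Agent.Lib.Lie.Chev.CertsFull
import Cfsg.Agent.Lib.Lie.Chev.Bruhat

/-! Diagonal elements of a Chevalley group lie in the diagonal subgroup. -/

set_option autoImplicit false

namespace Cfsg.Agent.Lie.Chev

open Cfsg.Lie Matrix

namespace CertFull

variable {D : ChevalleyDatum} (c : CertFull D) {F : Type*} [Field F]

include c

/-- Multiplying a diagonal matrix by unitriangular ones keeps the diagonal. -/
theorem diag_of_unitri {lv : D.Idx → ℕ} {u v : GL D.Idx F} (hu : u ∈ unitri D F lv)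
    (hv : v ∈ unitri D F lv) (χ : ℕ → Fˣ) (j : D.Idx) :
    (((u * dg D F χ * v : GL D.Idx F)) : Matrix D.Idx D.Idx F) j j = D.charDiag F χ j j := by
  have key : ∀ {w : GL D.Idx F}, w ∈ unitri D F lv → ∀ i k,
      (w : Matrix D.Idx D.Idx F) i k = 0 ∨ i = k ∨ lv k < lv i := by
    intro w hw i k
    by_cases e : i = k
    · exact Or.inr (Or.inl e)
    by_cases h : (w : Matrix D.Idx D.Idx F) i k = 0
    · exact Or.inl h
    · exact Or.inr (Or.inr (hw.1 i k (by rw [Matrix.sub_apply, Matrix.one_apply_ne e, sub_zero]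
                                         exact h)))
  have one : ∀ {w : GL D.Idx F}, w ∈ unitri D F lv → (w : Matrix D.Idx D.Idx F) j j = 1 := by
    intro w hw
    by_contra hne
    exact lt_irrefl _ (hw.1 j j (by rw [Matrix.sub_apply, Matrix.one_apply_eq, sub_ne_zero]
                                    exact hne))
  rw [Units.val_mul, Units.val_mul, dg_val, Matrix.mul_apply, Finset.sum_eq_single j]
  · rw [ChevalleyDatum.charDiag, Matrix.mul_diagonal, one hu, one hv, mul_one, one_mul,
      Matrix.diagonal_apply_eq]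
  · intro i _ hi
    rw [ChevalleyDatum.charDiag, Matrix.mul_diagonal]
    rcases key hu j i with h | h | h
    · rw [h, zero_mul, zero_mul]
    · exact absurd h.symm hi
    rcases key hv i j with h' | h' | h'
    · rw [h', mul_zero]
    · exact absurd h' hi
    · omega
  · exact fun h => absurd (Finset.mem_univ j) h

theorem diag_mem_H {χ : ℕ → Fˣ} (hg : dg D F χ ∈ D.group F) :
    dg D F χ ∈ D.diagonalSubgroup F := by
  obtain ⟨b, hb, a, ha, L, hL, u, hu, e⟩ := c.bruhat_exists hg
  obtain ⟨u₁, hu₁, a₁, ha₁, rfl⟩ := c.mem_borel_iff.1 hb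
  have huU := c.KS_invSet_le_U hL hu
  have ha' : a₁ * a ∈ D.diagonalSubgroup F := mul_mem ha₁ ha
  have hu1' := c.posUnipotent_le_unitri hu₁
  have hu' := c.posUnipotent_le_unitri huU
  have hm : a₁ * a * c.nw F L = u₁⁻¹ * dg D F χ * u⁻¹ := by rw [e]; group
  have hwl : ∀ s < D.nroots, c.wl L s = s := by
    intro s hs
    by_contra hne
    obtain ⟨k, -, hk⟩ := c.H_smul_evec ha' (c.wl L s)
    have h3 := congrFun (show ((a₁ * a * c.nw F L : GL D.Idx F) : Matrix D.Idx D.Idx F) *ᵥ
        evec D F s = ((c.wsign L s : F) * k) • evec D F (c.wl L s) by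
      rw [Units.val_mul, ← Matrix.mulVec_mulVec, c.nw_evec hL hs, Matrix.mulVec_smul, hk,
        smul_smul]) (Sum.inr ⟨s, hs⟩)
    rw [← single_inr D F ⟨s, hs⟩, Matrix.mulVec_single_one, Matrix.col_apply, hm,
      c.diag_of_unitri (inv_mem hu1') (inv_mem hu') χ] at h3
    simp [evec, Ne.symm hne, ChevalleyDatum.charDiag] at h3
  have hH : a₁ * a * c.nw F L ∈ D.diagonalSubgroup F :=
    c.mem_H_of_wl ha' hL fun q hq => by
      rw [hwl _ (c.simple_lt hq)]; exact c.pos_simple hq
  set h := a₁ * a * c.nw F L with hh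
  have hn := (Subgroup.mem_normalizer_iff.1 (c.H_le_normalizer_U hH) u).1 huU
  have hmem : dg D F χ * h⁻¹ ∈ D.posUnipotent F := by
    rw [show dg D F χ * h⁻¹ = u₁ * (h * u * h⁻¹) by rw [hm]; group]
    exact mul_mem hu₁ hn
  have h1 : dg D F χ * h⁻¹ = 1 := by
    refine Units.ext (Matrix.ext fun i j => ?_)
    by_cases e' : i = j
    · subst e'
      rw [Units.val_one, Matrix.one_apply_eq]
      by_contra hne
      exact lt_irrefl _ ((c.posUnipotent_le_unitri hmem).1 i i
        (by rw [Matrix.sub_apply, Matrix.one_apply_eq, sub_ne_zero]; exact hne))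
    · have hd := c.diag_apply_ne (inv_mem hH) e'
      rw [Units.val_mul, dg_val, Units.val_one, Matrix.one_apply_ne e',
        ChevalleyDatum.charDiag, Matrix.diagonal_mul, hd, mul_zero]
  rw [mul_inv_eq_one] at h1
  rw [h1]
  exact hH

end CertFull

end Cfsg.Agent.Lie.Chev
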