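import Cfsg.Agent.Lib.Spor.Cos.FieldFour
import Cfsg.Agent.Lib.Lie.Chev.SteinbergInst
import Cfsg.Agent.Lib.Lie.Chev.CertsFull

/-! The six-dimensional representation of `G₂(4)`. -/

set_option autoImplicit false
set_option maxRecDepth 20000

namespace Cfsg.Agent.Lie.Chev.G2Six

open Cfsg.Lie Matrix

abbrev K4 := Cfsg.Agent.Spor.Cos.F4
abbrev M6 := Matrix (Fin 6) (Fin 6) K4

/-- The table of exponents. -/
def tbl : List (List (List ℕ)) :=
  [[[0,0,0,0,1,0],[0,0,0,0,0,1],[0,0,0,0,0,0],[0,0,0,0,0,0],[0,0,0,0,0,0],[0,0,0,0,0,0]],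
    [[0,0,0,1,0,0],[0,0,0,0,0,0],[0,0,0,0,0,1],[0,0,0,0,0,0],[0,0,0,0,0,0],[0,0,0,0,0,0]],
    [[0,0,0,0,0,2],[0,0,0,1,0,0],[0,0,0,0,1,0],[0,0,0,0,0,0],[0,0,0,0,0,0],[0,0,0,0,0,0]],
    [[0,0,1,0,0,0],[0,0,0,0,2,0],[0,0,0,0,0,0],[0,0,0,0,0,1],[0,0,0,0,0,0],[0,0,0,0,0,0]],
    [[0,1,0,0,0,0],[0,0,0,0,0,0],[0,0,0,2,0,0],[0,0,0,0,0,0],[0,0,0,0,0,1],[0,0,0,0,0,0]],
    [[0,0,0,0,0,0],[0,0,1,0,0,0],[0,0,0,0,0,0],[0,0,0,0,1,0],[0,0,0,0,0,0],[0,0,0,0,0,0]],
    [[0,0,0,0,0,0],[0,0,0,0,0,0],[0,1,0,0,0,0],[0,0,0,0,0,0],[0,0,0,1,0,0],[0,0,0,0,0,0]],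
    [[0,0,0,0,0,0],[1,0,0,0,0,0],[0,0,0,0,0,0],[0,0,2,0,0,0],[0,0,0,0,0,0],[0,0,0,0,1,0]],
    [[0,0,0,0,0,0],[0,0,0,0,0,0],[1,0,0,0,0,0],[0,0,0,0,0,0],[0,2,0,0,0,0],[0,0,0,1,0,0]],
    [[0,0,0,0,0,0],[0,0,0,0,0,0],[0,0,0,0,0,0],[0,1,0,0,0,0],[0,0,1,0,0,0],[2,0,0,0,0,0]],
    [[0,0,0,0,0,0],[0,0,0,0,0,0],[0,0,0,0,0,0],[1,0,0,0,0,0],[0,0,0,0,0,0],[0,0,1,0,0,0]],
    [[0,0,0,0,0,0],[0,0,0,0,0,0],[0,0,0,0,0,0],[0,0,0,0,0,0],[1,0,0,0,0,0],[0,1,0,0,0,0]]]

/-- The root matrices. -/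
def mm (r : ℕ) (t : K4) : M6 := Matrix.of fun i j =>
  (if i = j then 1 else 0) + match ((tbl.getD r []).getD i.val []).getD j.val 0 with
    | 0 => 0
    | 1 => t
    | _ => t * t

/-- A word. -/
def wd (w : List (ℕ × K4)) : M6 := (w.map fun p => mm p.1 p.2).prod

/-- Addition by cases. -/
def fadd : K4 → K4 → K4
  | .o, y => y
  | .e, .o => .e | .e, .e => .o | .e, .w => .v | .e, .v => .w
  | .w, .o => .w | .w, .e => .v | .w, .w => .o | .w, .v => .e
  | .v, .o => .v | .v, .e => .w | .v, .w => .e | .v, .v => .o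

/-- Multiplication by cases. -/
def fmul : K4 → K4 → K4
  | .o, _ => .o
  | .e, y => y
  | .w, .o => .o | .w, .e => .w | .w, .w => .v | .w, .v => .e
  | .v, .o => .o | .v, .e => .v | .v, .w => .e | .v, .v => .w

theorem fadd_eq : ∀ x y, fadd x y = x + y := by decide
theorem fmul_eq : ∀ x y, fmul x y = x * y := by decide

/-- A row. -/
structure R6 where
  (a b c d g h : K4)

/-- Its vector. -/
def R6.vec (x : R6) : Fin 6 → K4 := ![x.a, x.b, x.c, x.d, x.g, x.h]

/-- Its code. -/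
def R6.code (x : R6) : ℕ :=
  (((((x.a.code * 4 + x.b.code) * 4 + x.c.code) * 4 + x.d.code) * 4 + x.g.code) * 4 + x.h.code)

/-- Right multiplication by a root matrix. -/
def stepR : ℕ → K4 → R6 → R6
  | 0, t, ⟨a, b, c, d, g, h⟩ => ⟨a, b, c, d, fadd g (fmul a t), fadd h (fmul b t)⟩
  | 1, t, ⟨a, b, c, d, g, h⟩ => ⟨a, b, c, fadd d (fmul a t), g, fadd h (fmul c t)⟩
  | 2, t, ⟨a, b, c, d, g, h⟩ => ⟨a, b, c, fadd d (fmul b t), fadd g (fmul c t), fadd h (fmul a (fmul t t))⟩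
  | 3, t, ⟨a, b, c, d, g, h⟩ => ⟨a, b, fadd c (fmul a t), d, fadd g (fmul b (fmul t t)), fadd h (fmul d t)⟩
  | 4, t, ⟨a, b, c, d, g, h⟩ => ⟨a, fadd b (fmul a t), c, fadd d (fmul c (fmul t t)), g, fadd h (fmul g t)⟩
  | 5, t, ⟨a, b, c, d, g, h⟩ => ⟨a, b, fadd c (fmul b t), d, fadd g (fmul d t), h⟩
  | 6, t, ⟨a, b, c, d, g, h⟩ => ⟨a, fadd b (fmul c t), c, fadd d (fmul g t), g, h⟩
  | 7, t, ⟨a, b, c, d, g, h⟩ => ⟨fadd a (fmul b t), b, fadd c (fmul d (fmul t t)), d, fadd g (fmul h t), h⟩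
  | 8, t, ⟨a, b, c, d, g, h⟩ => ⟨fadd a (fmul c t), fadd b (fmul g (fmul t t)), c, fadd d (fmul h t), g, h⟩
  | 9, t, ⟨a, b, c, d, g, h⟩ => ⟨fadd a (fmul h (fmul t t)), fadd b (fmul d t), fadd c (fmul g t), d, g, h⟩
  | 10, t, ⟨a, b, c, d, g, h⟩ => ⟨fadd a (fmul d t), b, fadd c (fmul h t), d, g, h⟩
  | 11, t, ⟨a, b, c, d, g, h⟩ => ⟨fadd a (fmul g t), fadd b (fmul h t), c, d, g, h⟩
  | _, _, x => x

theorem vecMul_mm (r : Fin 12) (t : K4) (x : R6) : (stepR r.val t x).vec = Matrix.vecMul x.vec (mm r t) := by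
  obtain ⟨a, b, c, d, g, h⟩ := x
  funext j
  fin_cases r <;> fin_cases j <;>
    simp [stepR, R6.vec, Matrix.vecMul, dotProduct, Fin.sum_univ_six, mm, tbl, fadd_eq, fmul_eq] <;> ring

/-- Evaluate a field element first. -/
def forceF {α : Sort _} : K4 → (K4 → α) → α
  | .o, k => k .o
  | .e, k => k .e
  | .w, k => k .w
  | .v, k => k .v

/-- Evaluate a row first. -/
def forceR {α : Sort _} : R6 → (R6 → α) → α
  | ⟨a, b, c, d, g, h⟩, k => forceF a fun a => forceF b fun b => forceF c fun c => forceF d fun d => forceF g fun g =>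
    forceF h fun h => k ⟨a, b, c, d, g, h⟩

theorem forceF_eq {α : Sort _} (x : K4) (k : K4 → α) : forceF x k = k x := by cases x <;> rfl

theorem forceR_eq {α : Sort _} (x : R6) (k : R6 → α) : forceR x k = k x := by
  cases x; simp only [forceR, forceF_eq]

/-- A word applied to a row. -/
def wdR : List (ℕ × K4) → R6 → R6
  | [], x => x
  | p :: w, x => forceF p.2 fun t => forceR (stepR p.1 t x) fun y => wdR w y

theorem vec_wdR : ∀ (w : List (ℕ × K4)) (x : R6), (∀ p ∈ w, p.1 < 12) →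
    (wdR w x).vec = Matrix.vecMul x.vec (wd w)
  | [], x, _ => by simp [wdR, wd]
  | p :: w, x, h => by
    simp only [wdR, forceF_eq, forceR_eq]
    rw [vec_wdR w _ fun q hq => h q (by simp [hq]), vecMul_mm ⟨p.1, h p (by simp)⟩, Matrix.vecMul_vecMul]
    simp [wd]

/-- The rows of the identity. -/
def rowI : List R6 :=
  [⟨.e, .o, .o, .o, .o, .o⟩, ⟨.o, .e, .o, .o, .o, .o⟩, ⟨.o, .o, .e, .o, .o, .o⟩,
   ⟨.o, .o, .o, .e, .o, .o⟩, ⟨.o, .o, .o, .o, .e, .o⟩, ⟨.o, .o, .o, .o, .o, .e⟩]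

/-- Comparison of two words. -/
def eqW (v w : List (ℕ × K4)) : Bool := rowI.all fun x => Nat.beq (wdR v x).code (wdR w x).code

theorem K4_code_inj : ∀ x y : K4, x.code = y.code → x = y := by decide

theorem code_inj {x y : R6} (e : x.code = y.code) : x = y := by
  obtain ⟨a, b, c, d, g, h⟩ := x
  obtain ⟨a', b', c', d', g', h'⟩ := y
  simp only [R6.code] at e
  have := Cfsg.Agent.Spor.Cos.F4.code_lt a; have := Cfsg.Agent.Spor.Cos.F4.code_lt a'
  have := Cfsg.Agent.Spor.Cos.F4.code_lt b; have := Cfsg.Agent.Spor.Cos.F4.code_lt b'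
  have := Cfsg.Agent.Spor.Cos.F4.code_lt c; have := Cfsg.Agent.Spor.Cos.F4.code_lt c'
  have := Cfsg.Agent.Spor.Cos.F4.code_lt d; have := Cfsg.Agent.Spor.Cos.F4.code_lt d'
  have := Cfsg.Agent.Spor.Cos.F4.code_lt g; have := Cfsg.Agent.Spor.Cos.F4.code_lt g'
  have := Cfsg.Agent.Spor.Cos.F4.code_lt h; have := Cfsg.Agent.Spor.Cos.F4.code_lt h'
  obtain rfl := K4_code_inj a a' (by omega)
  obtain rfl := K4_code_inj b b' (by omega)
  obtain rfl := K4_code_inj c c' (by omega)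
  obtain rfl := K4_code_inj d d' (by omega)
  obtain rfl := K4_code_inj g g' (by omega)
  obtain rfl := K4_code_inj h h' (by omega)
  rfl

theorem wd_eq_of {v w : List (ℕ × K4)} (hv : ∀ p ∈ v, p.1 < 12) (hw : ∀ p ∈ w, p.1 < 12)
    (h : eqW v w = true) : wd v = wd w := by
  have key : ∀ x ∈ rowI, Matrix.vecMul x.vec (wd v) = Matrix.vecMul x.vec (wd w) := fun x hx => by
    rw [← vec_wdR v x hv, ← vec_wdR w x hw,
      code_inj (Nat.eq_of_beq_eq_true (List.all_eq_true.1 h x hx))]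
  have hb : ∀ i : Fin 6, ∃ x ∈ rowI, x.vec = Pi.single i 1 := by
    intro i
    have hi : i.val < rowI.length := i.2
    refine ⟨rowI[i.val], List.getElem_mem hi, ?_⟩
    revert i
    decide +kernel
  ext i k
  obtain ⟨x, hx, hxi⟩ := hb i
  have := congrFun (key x hx) k
  simpa [hxi] using this

theorem neg_lt' : ∀ r : Fin 12, chevG2.neg r.val < 12 := by decide +kernel

theorem commTerms_lt : ∀ r s : Fin 12, ∀ x ∈ chevG2.commTerms r.val s.val, x.1 < 12 := by decide +kernel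

theorem hWord_lt (r : Fin 12) (t : K4) : ∀ p ∈ chevG2.hWord r.val t, p.1 < 12 := by
  intro p hp
  simp only [ChevalleyDatum.hWord, ChevalleyDatum.nWord, List.cons_append, List.nil_append,
    List.mem_cons, List.not_mem_nil, or_false] at hp
  rcases hp with rfl | rfl | rfl | rfl | rfl | rfl <;> first | exact r.2 | exact neg_lt' r

/-- All field elements. -/
def els : List K4 := [.o, .e, .w, .v]

theorem mem_els (t : K4) : t ∈ els := by cases t <;> simp [els]

/-- The nonzero field elements. -/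
def nz : List K4 := [.e, .w, .v]

theorem mem_nz {t : K4} (h : t ≠ 0) : t ∈ nz := by cases t <;> first | exact absurd rfl h | simp [nz]

theorem chk_add : ((List.range 12).all fun r => els.all fun t => els.all fun u =>
    eqW [(r, t), (r, u)] [(r, t + u)]) = true := by decide +kernel

theorem chk_hh : ((List.range 12).all fun r => nz.all fun t => nz.all fun u =>
    eqW (chevG2.hWord r t ++ chevG2.hWord r u) (chevG2.hWord r (t * u))) = true := by decide +kernel

theorem chk_comm : ((List.range 12).all fun r => (List.range 12).all fun s =>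
    Nat.beq s r || Nat.beq s (chevG2.neg r) || els.all fun t => els.all fun u =>
      eqW [(s, u), (r, t), (s, u), (r, t)] (chevG2.commWord K4 r s t u)) = true := by decide +kernel

theorem mm_add (r : Fin 12) (t u : K4) : mm r t * mm r u = mm r (t + u) := by
  have h := List.all_eq_true.1 (List.all_eq_true.1 (List.all_eq_true.1 chk_add r.val (List.mem_range.2 r.2))
    t (mem_els t)) u (mem_els u)
  simpa [wd] using wd_eq_of (by simp [r.2]) (by simp [r.2]) h

theorem mm_zero : ∀ r : Fin 12, mm r 0 = 1 := by decide +kernel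

theorem add_self : ∀ t : K4, t + t = 0 := by decide

theorem mm_sq (r : Fin 12) (t : K4) : mm r t * mm r t = 1 := by rw [mm_add, add_self, mm_zero]

theorem mm_hh (r : Fin 12) (t u : K4) (ht : t ≠ 0) (hu : u ≠ 0) :
    wd (chevG2.hWord r.val t) * wd (chevG2.hWord r.val u) = wd (chevG2.hWord r.val (t * u)) := by
  have h := List.all_eq_true.1 (List.all_eq_true.1 (List.all_eq_true.1 chk_hh r.val (List.mem_range.2 r.2))
    t (mem_nz ht)) u (mem_nz hu)
  simpa [wd] using wd_eq_of (fun p hp => (List.mem_append.1 hp).elim (hWord_lt r t p) (hWord_lt r u p)) (hWord_lt r _) h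

theorem mm_comm (r s : Fin 12) (h1 : s ≠ r) (h2 : s.val ≠ chevG2.neg r.val) (t u : K4) :
    mm s u * mm r t * mm s u * mm r t = wd (chevG2.commWord K4 r.val s.val t u) := by
  have h := List.all_eq_true.1 (List.all_eq_true.1 chk_comm r.val (List.mem_range.2 r.2)) s.val (List.mem_range.2 s.2)
  simp only [Bool.or_eq_true] at h
  rcases h with (h | h) | h
  · exact absurd (Fin.ext (Nat.eq_of_beq_eq_true h)) h1
  · exact absurd (Nat.eq_of_beq_eq_true h) h2
  have h' := List.all_eq_true.1 (List.all_eq_true.1 h t (mem_els t)) u (mem_els u)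
  simpa [wd, mul_assoc] using wd_eq_of (by simp [r.2, s.2]) (fun p hp => by
    obtain ⟨x, hx, rfl⟩ := List.mem_map.1 hp
    exact commTerms_lt r s x hx) h'

/-- The root matrices as units. -/
def mu (r : Fin 12) (t : K4) : M6ˣ := ⟨mm r t, mm r t, mm_sq r t, mm_sq r t⟩

variable {F : Type*} [Field F] (e : F ≃+* K4)

/-- The value of a symbol. -/
def sv (x : Fin chevG2.nroots × F) : M6ˣ := mu x.1 (e x.2)

theorem lift_stX {r : ℕ} (hr : r < chevG2.nroots) (t : F) :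
    ((FreeGroup.lift (sv e) (chevG2.stX r t) : M6ˣ) : M6) = mm r (e t) := by
  rw [ChevalleyDatum.stX, dif_pos hr, FreeGroup.lift_apply_of]
  rfl

theorem lift_word (w : List (ℕ × F)) (hw : ∀ p ∈ w, p.1 < chevG2.nroots) :
    ((FreeGroup.lift (sv e) (chevG2.stWord w) : M6ˣ) : M6) = wd (w.map fun p => (p.1, e p.2)) := by
  induction w with
  | nil => simp [ChevalleyDatum.stWord, wd]
  | cons p w ih =>
    rw [ChevalleyDatum.stWord, List.map_cons, List.prod_cons, map_mul, Units.val_mul, lift_stX e (hw p (by simp))]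
    rw [show (w.map fun p => chevG2.stX p.1 p.2).prod = chevG2.stWord w from rfl, ih fun q hq => hw q (by simp [hq])]
    simp [wd]

theorem lift_stH {r : ℕ} (hr : r < chevG2.nroots) (t : F) :
    ((FreeGroup.lift (sv e) (chevG2.stH r t) : M6ˣ) : M6) = wd (chevG2.hWord r (e t)) := by
  rw [ChevalleyDatum.stH, lift_word e]
  · congr 1
    simp [ChevalleyDatum.hWord, ChevalleyDatum.nWord, map_inv₀]
  · intro p hp
    simp only [ChevalleyDatum.hWord, ChevalleyDatum.nWord, List.cons_append, List.nil_append,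
      List.mem_cons, List.not_mem_nil, or_false] at hp
    rcases hp with rfl | rfl | rfl | rfl | rfl | rfl <;> first | exact hr | exact neg_lt' ⟨r, hr⟩

theorem rels_hold : ∀ g ∈ chevG2.steinbergRels F, FreeGroup.lift (sv e) g = 1 := by
  intro g hg
  rcases hg with (⟨r, t, u, hr, rfl⟩ | ⟨r, s, t, u, hr, hs, h1, h2, rfl⟩) | ⟨r, t, u, hr, ht, hu, rfl⟩
  · rw [map_mul, map_inv, mul_inv_eq_one]
    refine Units.ext ?_
    rw [map_mul, Units.val_mul, lift_stX e hr, lift_stX e hr, lift_stX e hr, map_add]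
    exact mm_add ⟨r, hr⟩ _ _
  · rw [map_mul, map_inv (FreeGroup.lift (sv e)) (chevG2.stWord _), mul_inv_eq_one]
    refine Units.ext ?_
    have hinv : ∀ (k : ℕ) (hk : k < 12) (a : F), (FreeGroup.lift (sv e) (chevG2.stX k a))⁻¹ =
        FreeGroup.lift (sv e) (chevG2.stX k a) := fun k hk a => by
      refine inv_eq_of_mul_eq_one_right (Units.ext ?_)
      rw [Units.val_mul, lift_stX e hk]
      exact mm_sq ⟨k, hk⟩ _
    rw [map_mul, map_mul, map_mul, map_inv, map_inv, hinv s hs, hinv r hr, Units.val_mul, Units.val_mul, Units.val_mul,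
      lift_stX e hs, lift_stX e hr, lift_word e]
    · refine (mm_comm ⟨r, hr⟩ ⟨s, hs⟩ (fun h => h1 (congrArg Fin.val h)) h2 (e t) (e u)).trans ?_
      congr 1
      simp [ChevalleyDatum.commWord, List.map_map, Function.comp_def, map_intCast]
    · intro p hp
      obtain ⟨x, hx, rfl⟩ := List.mem_map.1 hp
      exact commTerms_lt ⟨r, hr⟩ ⟨s, hs⟩ x hx
  · rw [map_mul, map_inv, mul_inv_eq_one]
    refine Units.ext ?_
    rw [map_mul, Units.val_mul, lift_stH e hr, lift_stH e hr, lift_stH e hr, map_mul]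
    exact mm_hh ⟨r, hr⟩ _ _ (by simpa using ht) (by simpa using hu)

/-- The Cartan matrix is invertible. -/
theorem cartan_inv : Matrix.of (fun i j : Fin 2 => certFullG2.T.cartan i (certFullG2.T.simple j)) * !![2, 3; 1, 2] = 1 := by
  decide +kernel

theorem nbr : checkNbr certFullG2.T = true := by decide +kernel

theorem exists_hom : ∃ ρ : ↥(chevG2.group F) →* M6ˣ,
    ∀ r : Fin 12, ∀ t : F, ∀ g : ↥(chevG2.group F), (g : GL chevG2.Idx F) = certFullG2.xg r.val t → (ρ g : M6) = mm r (e t) := by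
  let A := certFullG2.stGroupData F
  have hk : A.θ.ker = ⊥ := certFullG2.stGroup_ker_bot F nbr (l := 2) rfl cartan_inv
  let θ' : chevG2.SteinbergGroup F →* ↥(chevG2.group F) := A.θ.codRestrict _ A.θ_mem_group
  have hb : Function.Bijective θ' := by
    refine ⟨fun a b h => ?_, fun g => ?_⟩
    · exact (MonoidHom.ker_eq_bot_iff A.θ).1 hk (congrArg Subtype.val h)
    · obtain ⟨x, hx⟩ := A.θ_surj g.2
      exact ⟨x, Subtype.ext hx⟩
  let ρ₀ : chevG2.SteinbergGroup F →* M6ˣ := PresentedGroup.toGroup (rels_hold e)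
  refine ⟨ρ₀.comp (MulEquiv.ofBijective θ' hb).symm.toMonoidHom, fun r t g hg => ?_⟩
  have hX : (MulEquiv.ofBijective θ' hb).symm g = A.X r.val t := by
    rw [MulEquiv.symm_apply_eq]
    exact Subtype.ext (hg.trans (A.θX r.val r.2 t).symm)
  show ((ρ₀ ((MulEquiv.ofBijective θ' hb).symm g) : M6ˣ) : M6) = _
  rw [hX]
  exact lift_stX e r.2 t

theorem exists_word (ρ : ↥(chevG2.group F) →* M6ˣ)
    (hρ : ∀ r : Fin 12, ∀ t : F, ∀ g : ↥(chevG2.group F), (g : GL chevG2.Idx F) = certFullG2.xg r.val t → (ρ g : M6) = mm r (e t))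
    (w : List (Fin 12 × K4)) : ∃ g, (ρ g : M6) = wd (w.map fun p => (p.1.val, p.2)) := by
  induction w with
  | nil => exact ⟨1, by simp [wd]⟩
  | cons p w ih =>
    obtain ⟨g, hg⟩ := ih
    refine ⟨⟨certFullG2.xg p.1.val (e.symm p.2), certFullG2.xg_mem_group p.1.2 _⟩ * g, ?_⟩
    rw [map_mul, Units.val_mul, hg, hρ p.1 (e.symm p.2) _ rfl, e.apply_symm_apply]
    simp [wd]

/-- An element with image of order six. -/
def w6 : List (Fin 12 × K4) := [(3, .v), (5, .v), (6, .w)]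
/-- An element with image of order ten. -/
def w10 : List (Fin 12 × K4) := [(7, .w), (5, .w), (4, .w)]
/-- An element with image of order seven. -/
def w7 : List (Fin 12 × K4) := [(3, .v), (8, .w), (6, .w), (5, .v)]
/-- An element with image of order thirteen. -/
def w13 : List (Fin 12 × K4) := [(7, .w), (8, .v), (4, .v), (3, .v)]

/-- The matrix of a word. -/
def val (w : List (Fin 12 × K4)) : M6 := wd (w.map fun p => (p.1.val, p.2))

theorem w6_order : val w6 ^ 6 = 1 ∧ val w6 ^ 2 ≠ 1 ∧ val w6 ^ 3 ≠ 1 := by decide +kernel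
theorem w10_order : val w10 ^ 10 = 1 ∧ val w10 ^ 2 ≠ 1 ∧ val w10 ^ 5 ≠ 1 := by decide +kernel
theorem w7_order : val w7 ^ 7 = 1 ∧ val w7 ≠ 1 := by decide +kernel
theorem w13_order : val w13 ^ 13 = 1 ∧ val w13 ≠ 1 := by decide +kernel

def inv7 : M6 := Matrix.of
  ![![.o, .o, .v, .o, .w, .w], ![.e, .o, .v, .o, .w, .w], ![.w, .o, .e, .o, .o, .o], ![.w, .w, .e, .o, .v, .v], ![.v, .v, .w, .o, .e, .o], ![.v, .v, .w, .w, .e, .e]]

def inv13 : M6 := Matrix.of
  ![![.e, .w, .v, .o, .v, .w], ![.e, .w, .w, .e, .o, .v], ![.v, .o, .v, .e, .e, .o], ![.w, .v, .v, .w, .w, .v], ![.o, .e, .v, .o, .v, .w], ![.v, .o, .w, .v, .e, .o]]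

theorem inv7_eq : inv7 * (val w7 + 1) = 1 := by decide +kernel
theorem inv13_eq : inv13 * (val w13 + 1) = 1 := by decide +kernel

theorem fpf {M N : M6} (h : N * (M + 1) = 1) {v : Fin 6 → K4} (hv : M *ᵥ v = v) : v = 0 := by
  have h2 : (M + 1) *ᵥ v = 0 := by
    rw [Matrix.add_mulVec, hv, Matrix.one_mulVec]
    funext i
    show v i + v i = 0
    generalize v i = a
    revert a
    decide
  rw [← Matrix.one_mulVec v, ← h, ← Matrix.mulVec_mulVec, h2, Matrix.mulVec_zero]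

end Cfsg.Agent.Lie.Chev.G2Six
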