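import Cfsg.Agent.Lib.Lie.Chev.InvolutionWeyl
import Cfsg.Agent.Lib.Lie.Chev.SLTwo

/-! Two conjugations inside the rank-one subgroup of a root negated by an involution. -/

set_option autoImplicit false

namespace Cfsg.Agent.Lie.Chev

open Cfsg.Lie Matrix
open scoped MatrixGroups

section

variable {F : Type*} [Field F]

/-- Homomorphisms agreeing on the two unipotent subgroups are equal. -/
theorem slHom_ext {G : Type*} [Group G] {f g : SL(2, F) →* G}
    (hu : ∀ t, f (upSL t) = g (upSL t)) (hl : ∀ t, f (loSL t) = g (loSL t)) : f = g := by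
  refine MonoidHom.ext fun x => ?_
  have key : ∀ h : SL(2, F), h.1 1 0 ≠ 0 → f h = g h := by
    intro h hc
    have e : h = upSL ((h.1 0 0 - 1) / h.1 1 0) * loSL (h.1 1 0) *
        upSL ((h.1 1 1 - 1) / h.1 1 0) := by
      refine ext_two ?_ ?_ ?_ ?_ <;>
        simp only [mul_val, upSL_val, loSL_val] <;>
        simp [Matrix.mul_apply, Fin.sum_univ_two]
      all_goals field_simp
      all_goals first | linear_combination (-1 : F) * det_two h | linear_combination (0 : F) * det_two h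
    rw [e, map_mul, map_mul, map_mul, map_mul, hu, hu, hl]
  by_cases hc : x.1 1 0 = 0
  · have ha : x.1 0 0 ≠ 0 := fun e => by simpa [hc, e] using det_two x
    have hd : (x * loSL 1).1 1 0 ≠ 0 := by
      have e : (x * loSL 1).1 1 0 = x.1 1 1 := by
        rw [mul_val, loSL_val]; simp [Matrix.mul_apply, Fin.sum_univ_two, hc]
      rw [e]
      intro e'
      simpa [hc, e'] using det_two x
    have h := key _ hd
    rw [map_mul, map_mul, hl] at h
    exact mul_right_cancel h
  · exact key x hc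

/-- Conjugation by the antidiagonal matrix with entries `1` and `k`. -/
def antiTwist (k : Fˣ) : SL(2, F) →* SL(2, F) where
  toFun g := ⟨!![g.1 1 1, g.1 1 0 / (k : F); (k : F) * g.1 0 1, g.1 0 0], by
    rw [Matrix.det_fin_two_of]
    have := det_two g
    field_simp
    linear_combination this⟩
  map_one' := by
    refine ext_two ?_ ?_ ?_ ?_ <;> simp
  map_mul' g h := by
    refine Subtype.ext ?_
    show !![(g.1 * h.1) 1 1, (g.1 * h.1) 1 0 / (k : F); (k : F) * (g.1 * h.1) 0 1, (g.1 * h.1) 0 0] =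
      !![g.1 1 1, g.1 1 0 / (k : F); (k : F) * g.1 0 1, g.1 0 0] *
        !![h.1 1 1, h.1 1 0 / (k : F); (k : F) * h.1 0 1, h.1 0 0]
    ext i j
    fin_cases i <;> fin_cases j <;>
      simp [Matrix.mul_apply, Fin.sum_univ_two] <;> field_simp <;> ring

theorem antiTwist_val (k : Fˣ) (g : SL(2, F)) :
    (antiTwist k g).1 = !![g.1 1 1, g.1 1 0 / (k : F); (k : F) * g.1 0 1, g.1 0 0] := rfl

theorem antiTwist_up (k : Fˣ) (t : F) : antiTwist k (upSL t) = loSL ((k : F) * t) := by
  refine ext_two ?_ ?_ ?_ ?_ <;> rw [antiTwist_val] <;> simp [upSL, loSL]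

theorem antiTwist_lo (k : Fˣ) (t : F) : antiTwist k (loSL t) = upSL (t / (k : F)) := by
  refine ext_two ?_ ?_ ?_ ?_ <;> rw [antiTwist_val] <;> simp [upSL, loSL]

end

namespace CertFull

variable {D : ChevalleyDatum} (c : CertFull D) {F : Type*} [Field F]
include c

theorem exists_rankOneHom {r : ℕ} (hr : r < D.nroots) : ∃ φ : SL(2, F) →* GL D.Idx F,
    (∀ g, φ g ∈ D.group F) ∧ (∀ t, φ (upSL t) = c.xg r t) ∧
      (∀ t, φ (loSL t) = c.xg (D.neg r) t) := by
  obtain ⟨φ, hrange, hgen⟩ := c.exists_sl_root (F := F) hr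
  refine ⟨φ, fun g => ?_, fun t => (hgen _ t).1 rfl, fun t => (hgen _ t).2 rfl⟩
  have h : φ g ∈ φ.range := ⟨g, rfl⟩
  rw [hrange] at h
  have hle : D.rootSubgroup F r ⊔ D.rootSubgroup F (D.neg r) ≤ D.group F := by
    refine sup_le ?_ ?_ <;> intro x hx <;> obtain ⟨t, rfl⟩ := c.mem_rootSubgroup_iff.1 hx
    · exact c.xg_mem_group hr t
    · exact c.xg_mem_group (c.neg_lt hr) t
  exact hle h

theorem phi_ng {r : ℕ} {φ : SL(2, F) →* GL D.Idx F} (hu : ∀ t, φ (upSL t) = c.xg r t)
    (hl : ∀ t, φ (loSL t) = c.xg (D.neg r) t) (v : F) :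
    φ (upSL v * loSL (-v⁻¹) * upSL v) = c.ng r v := by
  rw [map_mul, map_mul, hu, hl]
  rfl

/-- An element exchanging two opposite root subgroups with a given coefficient. -/
def Coef (t : GL D.Idx F) (r : ℕ) (k : Fˣ) : Prop :=
  ∀ v : F, t * c.xg r v = c.xg (D.neg r) ((k : F) * v) * t

variable {t : GL D.Idx F} (ht2 : t * t = 1) {r : ℕ} (hr : r < D.nroots) {k : Fˣ}
  (hk : c.Coef t r k)
include ht2 hr hk

theorem conj_phi {φ : SL(2, F) →* GL D.Idx F} (hu : ∀ v, φ (upSL v) = c.xg r v)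
    (hl : ∀ v, φ (loSL v) = c.xg (D.neg r) v) (g : SL(2, F)) :
    t * φ g = φ (antiTwist k g) * t := by
  have ht : t⁻¹ = t := inv_eq_of_mul_eq_one_left ht2
  have h1 : ∀ v, t * c.xg (D.neg r) v = c.xg r (v / (k : F)) * t := by
    intro v
    have h := hk (v / (k : F))
    rw [mul_div_cancel₀ v k.ne_zero] at h
    calc t * c.xg (D.neg r) v = t * (c.xg (D.neg r) v * t) * t := by
          rw [mul_assoc, mul_assoc (c.xg _ _), ht2, mul_one]
      _ = t * (t * c.xg r (v / (k : F))) * t := by rw [h]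
      _ = _ := by rw [← mul_assoc, ht2, one_mul]
  have e : (MulAut.conj t).toMonoidHom.comp φ = φ.comp (antiTwist k) :=
    slHom_ext (fun v => by
      show t * φ (upSL v) * t⁻¹ = φ (antiTwist k (upSL v))
      rw [antiTwist_up, hu, hl, hk, mul_inv_cancel_right])
      (fun v => by
      show t * φ (loSL v) * t⁻¹ = φ (antiTwist k (loSL v))
      rw [antiTwist_lo, hu, hl, h1, mul_inv_cancel_right])
  have := DFunLike.congr_fun e g
  exact mul_inv_eq_iff_eq_mul.1 this

/-- A square coefficient allows the reflection to be split off. -/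
theorem move_square (hsq : IsSquare (k : F)) (h2 : (2 : F) ≠ 0) :
    ∃ g ∈ D.group F, ∃ v : F, v ≠ 0 ∧ g * t * g⁻¹ = c.ng r v * t := by
  obtain ⟨s, hs⟩ := hsq
  have hs0 : s ≠ 0 := fun e => k.ne_zero (by rw [hs, e, mul_zero])
  obtain ⟨φ, hG, hu, hl⟩ := c.exists_rankOneHom (F := F) hr
  set a : SL(2, F) := loSL s * upSL (-(2 * s)⁻¹) with ha
  refine ⟨φ a⁻¹, hG _, s⁻¹, inv_ne_zero hs0, ?_⟩
  rw [map_inv, inv_inv, mul_assoc, c.conj_phi ht2 hr hk hu hl, ← mul_assoc, ← map_inv, ← map_mul,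
    ← c.phi_ng hu hl]
  congr 2
  rw [inv_mul_eq_iff_eq_mul]
  refine ext_two ?_ ?_ ?_ ?_ <;>
    simp only [antiTwist_val, ha, mul_val, upSL_val, loSL_val] <;>
    simp [Matrix.mul_apply, Fin.sum_univ_two, hs] <;> field_simp <;> ring

/-- Every negated root allows its involution to be split off. -/
theorem move_flip [Fintype F] (h2 : (2 : F) ≠ 0) :
    ∃ g ∈ D.group F, g * t * g⁻¹ = c.hg r (-1 : F) * t := by
  classical
  obtain ⟨β, α, hab⟩ : ∃ β α : F, (k : F) * β ^ 2 - α ^ 2 = 1 := by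
    have hodd : Fintype.card F % 2 = 1 := FiniteField.odd_card_of_char_ne_two fun e => h2 (by
      exact_mod_cast (ringChar.spec F 2).2 (dvd_of_eq e))
    obtain ⟨β, α, h⟩ := FiniteField.exists_root_sum_quadratic
      (f := Polynomial.C (k : F) * Polynomial.X ^ 2) (g := - (Polynomial.X ^ 2 + 1))
      (Polynomial.degree_C_mul_X_pow 2 k.ne_zero)
      (by rw [Polynomial.degree_neg, ← Polynomial.C_1, Polynomial.degree_X_pow_add_C (by norm_num)]; rfl)
      hodd
    simp at h
    exact ⟨β, α, by linear_combination h⟩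
  obtain ⟨φ, hG, hu, hl⟩ := c.exists_rankOneHom (F := F) hr
  set a : SL(2, F) := ⟨!![α, β; -((k : F) * β), -α], by
    rw [Matrix.det_fin_two_of]; linear_combination hab⟩ with ha
  refine ⟨φ a⁻¹, hG _, ?_⟩
  rw [map_inv, inv_inv, mul_assoc, c.conj_phi ht2 hr hk hu hl, ← mul_assoc, ← map_inv, ← map_mul,
    Cert.hg, ← c.phi_ng hu hl, ← map_mul]
  congr 2
  rw [inv_mul_eq_iff_eq_mul]
  have hav : a.1 = !![α, β; -((k : F) * β), -α] := rfl
  refine ext_two ?_ ?_ ?_ ?_ <;>
    simp only [antiTwist_val, mul_val, upSL_val, loSL_val, hav] <;>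
    simp [Matrix.mul_apply, Fin.sum_univ_two] <;> field_simp

end CertFull

end Cfsg.Agent.Lie.Chev
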