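import Cfsg.Agent.Lib.Lie.Chev.CertsFull
import Cfsg.Agent.Lib.Lie.Chev.Centralizer
import Cfsg.Agent.Lib.Lie.Chev.AutBorel

/-! Two elements generating a Chevalley group: a torus element, possibly times a root element, and
a root element times a monomial element.  The subgroup they generate contains root subgroups which
are propagated by a checked list of steps. -/

set_option autoImplicit false

namespace Cfsg.Agent.Lie.Chev

open Cfsg.Lie Matrix

/-- A step of propagation: either the image of `a` under the word, or the sum of `a` and `b`. -/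
structure GenStep where
  moved : Bool
  new : ℕ
  a : ℕ
  b : ℕ

namespace Tables

variable (T : Tables)

/-- Membership in a list of roots. -/
def rootIn (K : List ℕ) (u : ℕ) : Bool := K.any (Nat.beq u)

/-- The commutator terms of `a` and `b` have exactly one root outside `K`, namely `new`, linearly. -/
def oneNew (K : List ℕ) (a b new : ℕ) : Bool :=
  match (T.commTerms a b).filter (fun x => !(rootIn K x.1)) with
  | [(u, C, i, j)] => Nat.beq u new && (intBeq C 1 || intBeq C (-1)) && Nat.beq i 1 && Nat.beq j 1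
  | _ => false

/-- One step is justified by the roots already known. -/
def stepOK (w K : List ℕ) (st : GenStep) : Bool :=
  Nat.blt st.a T.n && rootIn K st.a && Nat.blt st.new T.n &&
    bif st.moved then Nat.beq (T.wlT w st.a) st.new
    else Nat.blt st.b T.n && rootIn K st.b && !(Nat.beq st.b st.a) &&
      !(Nat.beq st.b (T.neg st.a)) && T.oneNew K st.a st.b st.new

/-- All steps are justified. -/
def stepsOK (w : List ℕ) : List ℕ → List GenStep → Bool
  | _, [] => true
  | K, st :: L => T.stepOK w K st && stepsOK w (st.new :: K) L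

/-- The roots known after the steps. -/
def stepsRoots (K : List ℕ) (L : List GenStep) : List ℕ := (L.map GenStep.new).reverse ++ K

/-- All roots are known. -/
def allKnown (K : List ℕ) : Bool := T.allRoots (rootIn K)

/-- The exponent of a character given on the nodes. -/
def expo (m : List ℤ) (u : ℕ) : ℤ :=
  ((List.range T.l).map fun i => m.getD i 0 * T.cartan i u).sum

/-- A value equal to one or minus one. -/
def isUnitInt (e : ℤ) : Bool := intBeq e 1 || intBeq e (-1)

end Tables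

theorem int_eq_of_beq {a b : ℤ} (h : intBeq a b = true) : a = b := by
  cases a <;> cases b <;> simp_all [intBeq]

theorem isUnitInt_iff {e : ℤ} (h : Tables.isUnitInt e = true) : e = 1 ∨ e = -1 := by
  simp only [Tables.isUnitInt, Bool.or_eq_true] at h
  exact h.imp int_eq_of_beq int_eq_of_beq

/-- One factor of a product lies in a subgroup if the product and all other factors do. -/
theorem mem_of_prod_mem_filter {G α : Type*} [Group G] (S : Subgroup G) (f : α → G) (p : α → Bool)
    (x : α) : ∀ L : List α, L.filter p = [x] → (∀ y ∈ L, p y = false → f y ∈ S) →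
      (L.map f).prod ∈ S → f x ∈ S
  | [], h, _, _ => by simp at h
  | y :: L, h, hm, hp => by
    rw [List.map_cons, List.prod_cons] at hp
    by_cases hy : p y = true
    · rw [List.filter_cons_of_pos hy, List.cons.injEq] at h
      obtain ⟨rfl, hL⟩ := h
      have : (L.map f).prod ∈ S := Subgroup.list_prod_mem _ fun g hg => by
        obtain ⟨z, hz, rfl⟩ := List.mem_map.1 hg
        refine hm z (List.mem_cons_of_mem _ hz) ?_
        have := List.filter_eq_nil_iff.1 hL z hz
        simpa using this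
      exact (S.mul_mem_cancel_right this).1 hp
    · rw [List.filter_cons_of_neg hy] at h
      exact mem_of_prod_mem_filter S f p x L h (fun z hz => hm z (List.mem_cons_of_mem _ hz))
        ((S.mul_mem_cancel_left (hm y (List.mem_cons_self ..) (by simpa using hy))).1 hp)

/-- Frobenius and its inverse reach every unit of a finite field. -/
theorem exists_zpow_eq {F : Type*} [Field F] [Finite F] {e : ℤ}
    (he : e.natAbs = 1 ∨ (e.natAbs.Prime ∧ (e.natAbs : F) = 0)) (u : Fˣ) :
    ∃ v : Fˣ, v ^ e = u := by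
  have key : ∃ v : Fˣ, v ^ e.natAbs = u := by
    rcases he with h | ⟨hp, h0⟩
    · exact ⟨u, by rw [h, pow_one]⟩
    have : Fact e.natAbs.Prime := ⟨hp⟩
    have : CharP F e.natAbs := (CharP.charP_iff_prime_eq_zero hp).2 h0
    obtain ⟨v, hv⟩ := Finite.surjective_of_injective
      (frobenius_inj F e.natAbs) (u : F)
    rw [frobenius_def] at hv
    have hv0 : v ≠ 0 := by
      rintro rfl
      rw [zero_pow hp.ne_zero] at hv
      exact u.ne_zero hv.symm
    exact ⟨Units.mk0 v hv0, Units.ext (by simpa using hv)⟩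
  obtain ⟨v, hv⟩ := key
  rcases Int.natAbs_eq e with h | h
  · exact ⟨v, by rw [h, zpow_natCast, hv]⟩
  · exact ⟨v⁻¹, by rw [h, _root_.zpow_neg, zpow_natCast, inv_pow, inv_inv, hv]⟩

namespace CertFull

variable {D : ChevalleyDatum} (c : CertFull D) {F : Type*} [Field F]
include c

/-- All elements of the root subgroup lie in `G`. -/
def RootIn (G : Subgroup (GL D.Idx F)) (u : ℕ) : Prop := ∀ t : F, c.xg u t ∈ G

theorem wlT_w {w : List ℕ} (hw : w.all (fun p => Nat.blt p c.T.l) = true) :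
    ∀ p ∈ w, p < D.rank := fun p hp => by
  rw [c.rank_eq]; exact Nat.blt_eq.mp (List.all_eq_true.1 hw p hp)

/-- The steps give root subgroups. -/
theorem rootIn_steps {G : Subgroup (GL D.Idx F)} {w : List ℕ}
    (hw : ∀ p ∈ w, p < D.rank) (hn : c.nw F w ∈ G) :
    ∀ (L : List GenStep) (K : List ℕ), c.T.stepsOK w K L = true → (∀ u ∈ K, c.RootIn G u) →
      ∀ u ∈ Tables.stepsRoots K L, c.RootIn G u
  | [], K, _, hK => by simpa [Tables.stepsRoots] using hK
  | st :: L, K, h, hK => by
    simp only [Tables.stepsOK, Bool.and_eq_true] at h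
    have hnew : c.RootIn G st.new := by
      obtain ⟨⟨⟨ha, haK⟩, hnlt⟩, hrest⟩ : (((st.a < c.T.n) ∧ st.a ∈ K) ∧ st.new < c.T.n) ∧ _ := by
        have h1 := h.1
        simp only [Tables.stepOK, Bool.and_eq_true] at h1
        obtain ⟨⟨⟨e1, e2⟩, e3⟩, e4⟩ := h1
        simp only [Tables.rootIn, List.any_eq_true, Nat.beq_eq] at e2
        obtain ⟨x, hx, e⟩ := e2
        exact ⟨⟨⟨Nat.blt_eq.mp e1, e ▸ hx⟩, Nat.blt_eq.mp e3⟩, e4⟩
      rw [← c.nroots_eq] at ha hnlt
      cases hm : st.moved with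
      | true =>
        rw [hm] at hrest
        simp only [cond_true, Nat.beq_eq] at hrest
        intro t
        have e := c.nw_mul_xg (F := F) hw ha ((c.wsign w st.a : F) * t)
        rw [← mul_assoc, c.wsign_sq, one_mul, ← c.wlT_eq, hrest] at e
        have e2 := eq_mul_inv_iff_mul_eq.2 e.symm
        rw [e2]
        exact mul_mem (mul_mem hn (hK _ haK _)) (inv_mem hn)
      | false =>
        rw [hm] at hrest
        simp only [cond_false, Bool.and_eq_true, Bool.not_eq_true', Nat.blt_eq, Tables.rootIn,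
          List.any_eq_true, Nat.beq_eq, ← Bool.not_eq_true, ← c.nroots_eq] at hrest
        obtain ⟨⟨⟨⟨hb, hbK⟩, hne⟩, hne'⟩, hone⟩ := hrest
        obtain ⟨x, hx, rfl⟩ := hbK
        rw [← c.neg_eq ha] at hne'
        unfold Tables.oneNew at hone
        split at hone
        case h_2 => cases hone
        case h_1 u C i j hf =>
          simp only [Bool.and_eq_true, Nat.beq_eq] at hone
          obtain ⟨⟨⟨rfl, hC⟩, rfl⟩, rfl⟩ := hone
          intro t
          have hC2 : (C : F) * (C : F) = 1 := by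
            rcases isUnitInt_iff (by simpa [Tables.isUnitInt] using hC) with rfl | rfl <;> simp
          have e := c.xg_comm ha hb hne hne' (-((C : F) * t)) (1 : F)
          have hp : ((c.T.commTerms st.a st.b).map fun x =>
              c.xg x.1 ((x.2.1 : F) * (- -((C : F) * t)) ^ x.2.2.1 * (1 : F) ^ x.2.2.2)).prod ∈
                G := by
            refine (G.mul_mem_cancel_left
              (mul_mem (hK _ haK (-((C : F) * t))) (hK _ hx 1))).1 ?_
            rw [← e]
            exact mul_mem (hK _ hx _) (hK _ haK _)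
          have h3 := mem_of_prod_mem_filter G _ _ (st.new, C, 1, 1) _ hf (fun y hy hy' => ?_) hp
          · simp only [_root_.neg_neg, pow_one, mul_one, one_pow, ← mul_assoc, hC2, one_mul] at h3
            exact h3
          · simp only [Bool.not_eq_false', Tables.rootIn, List.any_eq_true, Nat.beq_eq] at hy'
            obtain ⟨z, hz, e⟩ := hy'
            exact e ▸ hK z hz _
    have := rootIn_steps hw hn L (st.new :: K) h.2 (by
      intro u hu
      rcases List.mem_cons.1 hu with rfl | hu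
      · exact hnew
      · exact hK u hu)
    intro u hu
    refine this u ?_
    simpa [Tables.stepsRoots, List.mem_append, List.mem_cons, or_assoc, or_left_comm] using hu

theorem group_le_of_rootIn {G : Subgroup (GL D.Idx F)} {K : List ℕ}
    (hall : c.T.allKnown K = true) (hK : ∀ u ∈ K, c.RootIn G u) : D.group F ≤ G := by
  rw [c.group_eq, Subgroup.closure_le]
  rintro g ⟨u, hu, t, rfl⟩
  simp only [Tables.allKnown, Tables.allRoots, List.all_eq_true, List.mem_range, Tables.rootIn,
    List.any_eq_true, Nat.beq_eq] at hall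
  obtain ⟨z, hz, rfl⟩ := hall u (c.nroots_eq ▸ hu)
  exact hK _ hz t

/-- Two elements of the group, outside of which nothing is needed, generate it. -/
theorem twoGen {a b : GL D.Idx F} (ha : a ∈ D.group F) (hb : b ∈ D.group F)
    (h : D.group F ≤ Subgroup.closure {a, b}) :
    ∃ a b : ↥(D.group F), Subgroup.closure ({a, b} : Set ↥(D.group F)) = ⊤ := by
  refine ⟨⟨a, ha⟩, ⟨b, hb⟩, ?_⟩
  refine Subgroup.map_injective (D.group F).subtype_injective ?_
  rw [MonoidHom.map_closure, Set.image_pair, ← MonoidHom.range_eq_map, Subgroup.range_subtype]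
  refine le_antisymm ((Subgroup.closure_le _).2 ?_) h
  rintro g (rfl | rfl)
  exacts [ha, hb]

theorem nw_mem_group {w : List ℕ} (hw : ∀ p ∈ w, p < D.rank) : c.nw F w ∈ D.group F :=
  Subgroup.list_prod_mem _ fun g hg => by
    obtain ⟨p, hp, rfl⟩ := List.mem_map.1 hg
    exact c.np_mem_group (hw p hp)

/-- The torus element given by exponents of a unit. -/
def expTorus (ζ : Fˣ) (m : List ℤ) : GL D.Idx F := c.torus fun i => ζ ^ m.getD i 0

theorem tchar_exp (ζ : Fˣ) (m : List ℤ) (u : ℕ) :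
    c.tchar (fun i => ζ ^ m.getD i 0) u = ζ ^ c.T.expo m u := by
  have key : ∀ n : ℕ, ∏ i ∈ Finset.range n, (ζ ^ m.getD i 0) ^ c.T.cartan i u =
      ζ ^ ((List.range n).map fun i => m.getD i 0 * c.T.cartan i u).sum := by
    intro n
    induction n with
    | zero => simp
    | succ n ih =>
      rw [Finset.prod_range_succ, ih, List.range_succ, List.map_append, List.sum_append,
        List.map_singleton, List.sum_singleton, _root_.zpow_add, _root_.zpow_mul]
  rw [Cert.tchar, key, Tables.expo, c.rank_eq]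

theorem expTorus_mul_xg (ζ : Fˣ) (m : List ℤ) {u : ℕ} (hu : u < D.nroots) (t : F) :
    c.expTorus ζ m * c.xg u t =
      c.xg u (((ζ ^ c.T.expo m u : Fˣ) : F) * t) * c.expTorus ζ m := by
  rw [expTorus, c.torus_apply, c.dg_mul_xg (c.tchar_isRootCharacter _) hu, c.tchar_exp]

theorem expTorus_mem (ζ : Fˣ) (m : List ℤ) : c.expTorus ζ m ∈ D.group F :=
  c.B_le_group (c.H_le_B (c.torus_mem _))

/-- A torus element and a root element times a monomial give the root subgroup. -/
theorem rootIn_of_torus [Finite F] {G : Subgroup (GL D.Idx F)} {w : List ℕ} {m : List ℤ}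
    {r v : ℕ} {ζ : Fˣ} (hζ : ∀ u : Fˣ, u ∈ Subgroup.zpowers ζ) (hζ1 : ζ ≠ 1)
    (hw : ∀ p ∈ w, p < D.rank) (hr : r < D.nroots) (hv : v < D.nroots)
    (hwv : c.T.wlT w v = r) (her : Tables.isUnitInt (c.T.expo m r) = true)
    (hev : Tables.isUnitInt (c.T.expo m v) = true) (hh : c.expTorus ζ m ∈ G)
    (hb : c.xg r 1 * c.nw F w ∈ G) : c.RootIn G r ∧ c.nw F w ∈ G := by
  set h := c.expTorus ζ m with hh0
  set n := c.nw F w with hn0
  set h' := n * h * n⁻¹ with hh'0
  rw [c.wlT_eq] at hwv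
  have hζr : ∀ e : ℤ, Tables.isUnitInt e = true → ζ ^ e ≠ 1 := fun e he => by
    rcases isUnitInt_iff he with rfl | rfl <;> simp [hζ1]
  set χ : F := ((ζ ^ c.T.expo m r : Fˣ) : F) with hχ0
  set ψ : F := ((ζ ^ c.T.expo m v : Fˣ) : F) with hψ0
  have hh'x : ∀ t : F, h' * c.xg r t = c.xg r (ψ * t) * h' := by
    intro t
    have e1 : c.xg r t * n = n * c.xg v ((c.wsign w v : F) * t) := by
      rw [c.nw_mul_xg hw hv, ← mul_assoc, c.wsign_sq, one_mul, hwv]
    have e2 : n * c.xg v (ψ * ((c.wsign w v : F) * t)) = c.xg r (ψ * t) * n := by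
      rw [c.nw_mul_xg hw hv, hwv]
      congr 2
      linear_combination (ψ * t) * c.wsign_sq (F := F) w v
    have e3 : n⁻¹ * c.xg r t = c.xg v ((c.wsign w v : F) * t) * n⁻¹ := by
      rw [eq_mul_inv_iff_mul_eq, mul_assoc, e1, inv_mul_cancel_left]
    calc h' * c.xg r t = n * (h * c.xg v ((c.wsign w v : F) * t)) * n⁻¹ := by
          rw [hh'0, mul_assoc, e3]; group
      _ = n * c.xg v (ψ * ((c.wsign w v : F) * t)) * (h * n⁻¹) := by
          rw [hh0, c.expTorus_mul_xg ζ m hv, ← hψ0]; group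
      _ = _ := by rw [e2, hh'0]; group
  have hcomm : h * h' = h' * h := by
    have h1 : h ∈ D.diagonalSubgroup F := c.torus_mem _
    have h2 : h' ∈ D.diagonalSubgroup F := c.nw_conj_H hw h1
    rw [c.diagonalSubgroup_eq] at h1 h2
    obtain ⟨z, hz⟩ := h1
    obtain ⟨z', hz'⟩ := h2
    rw [← hz, ← hz', ← map_mul, ← map_mul, mul_comm]
  have hc : c.xg r (1 - ψ) * h' ∈ G := by
    have : c.xg r 1 * n * h * (c.xg r 1 * n)⁻¹ ∈ G := mul_mem (mul_mem hb hh) (inv_mem hb)
    convert this using 1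
    rw [sub_eq_add_neg, c.xg_add, mul_assoc, ← mul_one (-ψ : F),
      show -ψ * (1 : F) = ψ * -1 by ring, ← hh'x, ← c.xg_inv, hh'0]
    group
  have hx0 : c.xg r ((χ - 1) * (1 - ψ)) ∈ G := by
    have : h * (c.xg r (1 - ψ) * h') * h⁻¹ * (c.xg r (1 - ψ) * h')⁻¹ ∈ G :=
      mul_mem (mul_mem (mul_mem hh hc) (inv_mem hh)) (inv_mem hc)
    convert this using 1
    rw [← mul_assoc h, hh0, c.expTorus_mul_xg ζ m hr, ← hh0, ← hχ0, mul_assoc _ h, hcomm,
      show (χ - 1) * (1 - ψ) = χ * (1 - ψ) + -(1 - ψ) by ring, c.xg_add, ← c.xg_inv]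
    group
  have ht0 : (χ - 1) * (1 - ψ) ≠ 0 := by
    refine mul_ne_zero (sub_ne_zero.2 ?_) (sub_ne_zero.2 (Ne.symm ?_)) <;>
      exact fun e => hζr _ (by first | exact her | exact hev) (Units.ext e)
  have hroot : c.RootIn G r := by
    intro t
    by_cases h0 : t = 0
    · rw [h0, c.xg_zero]; exact one_mem G
    obtain ⟨k, hk⟩ := hζ (Units.mk0 t h0 * (Units.mk0 _ ht0)⁻¹)
    obtain ⟨k', hk'⟩ : ∃ k' : ℤ, (ζ ^ c.T.expo m r) ^ k' = ζ ^ k := by
      rcases isUnitInt_iff her with e | e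
      · exact ⟨k, by rw [e, zpow_one]⟩
      · exact ⟨-k, by rw [e, ← _root_.zpow_mul]; simp⟩
    let ξ : Fˣ := ζ ^ k'
    have hξ : ξ ^ c.T.expo m r = ζ ^ k := by
      rw [← hk', ← _root_.zpow_mul, ← _root_.zpow_mul, mul_comm]
    have e : h ^ k' = c.expTorus ξ m := by
      rw [hh0, expTorus, expTorus, ← map_zpow]
      congr 1
      funext i
      simp only [Pi.pow_apply, ξ, ← _root_.zpow_mul, mul_comm]
    have := mul_mem (mul_mem (zpow_mem hh k') hx0) (inv_mem (zpow_mem hh k'))
    rw [e, c.expTorus_mul_xg ξ m hr, mul_inv_cancel_right, hξ] at this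
    have hk2 : ((ζ ^ k : Fˣ) : F) = t * ((χ - 1) * (1 - ψ))⁻¹ := by
      have hk : ζ ^ k = _ := hk
      rw [hk]; simp
    rwa [hk2, inv_mul_cancel_right₀ ht0] at this
  refine ⟨hroot, ?_⟩
  have := mul_mem (inv_mem (hroot 1)) hb
  rwa [inv_mul_cancel_left] at this

theorem xg_natCast (s : ℕ) : ∀ n : ℕ, c.xg s (1 : F) ^ n = c.xg s (n : F)
  | 0 => by simp [c.xg_zero]
  | n + 1 => by rw [pow_succ, xg_natCast s n, Nat.cast_succ, c.xg_add]

/-- The torus element and the root element are recovered from their product. -/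
theorem mem_of_mul [Finite F] {G : Subgroup (GL D.Idx F)} {m : List ℤ} {s : ℕ} {ζ : Fˣ}
    (hs : s < D.nroots) (hes : c.T.expo m s = 0)
    (ha : c.expTorus ζ m * c.xg s 1 ∈ G) : c.expTorus ζ m ∈ G ∧ c.xg s 1 ∈ G := by
  cases nonempty_fintype F
  have hcomm : Commute (c.expTorus ζ m) (c.xg s (1 : F)) := by
    show _ * _ = _
    rw [c.expTorus_mul_xg ζ m hs, hes, zpow_zero, Units.val_one, one_mul]
  have h1 := pow_mem ha (Fintype.card F - 1)
  rw [hcomm.mul_pow, show c.expTorus ζ m ^ (Fintype.card F - 1) = 1 from c.H_pow_card_sub_one (c.torus_mem _),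
    one_mul, c.xg_natCast,
    Nat.cast_sub Fintype.card_pos, FiniteField.cast_card_eq_zero, Nat.cast_one, zero_sub,
    ← c.xg_inv, inv_mem_iff] at h1
  exact ⟨(G.mul_mem_cancel_right h1).1 ha, h1⟩

/-- The coroot of a known root scales a single root element to the whole subgroup. -/
theorem rootIn_of_scale [Finite F] {G : Subgroup (GL D.Idx F)} {β s : ℕ}
    (hβ : β < D.nroots) (hs : s < D.nroots)
    (he : (c.T.pairing β s).natAbs = 1 ∨
      ((c.T.pairing β s).natAbs.Prime ∧ ((c.T.pairing β s).natAbs : F) = 0))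
    (h1 : c.RootIn G β) (h2 : c.RootIn G (D.neg β)) (hx : c.xg s 1 ∈ G) : c.RootIn G s := by
  intro t
  by_cases h0 : t = 0
  · rw [h0, c.xg_zero]; exact one_mem G
  obtain ⟨v, hv⟩ := exists_zpow_eq he (Units.mk0 t h0)
  have hng : ∀ u : F, c.ng β u ∈ G := fun u =>
    mul_mem (mul_mem (h1 _) (h2 _)) (h1 _)
  have hhg : c.hg β (v : F) ∈ G := mul_mem (hng _) (hng _)
  have e := c.hg_eq hβ v
  rw [c.hg_eq_torus hβ v, c.torus_apply] at e
  have e2 := (dg_eq_iff D F).1 e s hs
  have := mul_mem (mul_mem hhg hx) (inv_mem hhg)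
  rw [c.hg_eq_torus hβ v, c.torus_apply, c.dg_mul_xg (c.tchar_isRootCharacter _) hs,
    mul_inv_cancel_right, e2, pairChar, hv, Units.val_mk0, mul_one] at this
  exact this

/-- A single commutator term gives the root subgroup when its coefficient is non-zero. -/
theorem rootIn_of_comm {G : Subgroup (GL D.Idx F)} {a b s : ℕ} {C : ℤ}
    (ha : a < D.nroots) (hb : b < D.nroots) (hne : b ≠ a) (hne' : b ≠ D.neg a)
    (hterms : c.T.commTerms a b = [(s, C, 1, 1)]) (hC : (C : F) ≠ 0)
    (h1 : c.RootIn G a) (h2 : c.RootIn G b) : c.RootIn G s := by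
  intro t
  have e := c.xg_comm ha hb hne hne' (-(t / (C : F))) (1 : F)
  rw [hterms, List.map_singleton, List.prod_singleton, _root_.neg_neg, pow_one, one_pow, mul_one,
    mul_div_cancel₀ _ hC] at e
  refine (G.mul_mem_cancel_left (mul_mem (h1 (-(t / (C : F)))) (h2 1))).1 ?_
  rw [← e]
  exact mul_mem (h2 _) (h1 _)

end CertFull

/-- The certificate for a group generated by a torus element and a root element times a monomial
element, when all roots follow from one. -/
structure GenOne where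
  w : List ℕ
  r : ℕ
  v : ℕ
  m : List ℤ
  steps : List GenStep

/-- The check of the certificate. -/
def GenOne.check (g : GenOne) (T : Tables) : Bool :=
  g.w.all (fun p => Nat.blt p T.l) && Nat.blt g.r T.n && Nat.blt g.v T.n &&
  Nat.beq (T.wlT g.w g.v) g.r && Tables.isUnitInt (T.expo g.m g.r) &&
  Tables.isUnitInt (T.expo g.m g.v) && T.stepsOK g.w [g.r] g.steps &&
  T.allKnown (Tables.stepsRoots [g.r] g.steps)

/-- The certificate when a further root element is attached to the torus element. -/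
structure GenExtra extends GenOne where
  s : ℕ
  β : ℕ
  a : ℕ
  b : ℕ
  coef : ℤ
  steps2 : List GenStep

/-- The check of the certificate. -/
def GenExtra.check (g : GenExtra) (T : Tables) : Bool :=
  g.w.all (fun p => Nat.blt p T.l) && Nat.blt g.r T.n && Nat.blt g.v T.n &&
  Nat.beq (T.wlT g.w g.v) g.r && Tables.isUnitInt (T.expo g.m g.r) &&
  Tables.isUnitInt (T.expo g.m g.v) && T.stepsOK g.w [g.r] g.steps &&
  Nat.blt g.s T.n && intZero (T.expo g.m g.s) &&
  Nat.blt g.β T.n && Tables.rootIn (Tables.stepsRoots [g.r] g.steps) g.β &&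
  Tables.rootIn (Tables.stepsRoots [g.r] g.steps) (T.neg g.β) &&
  (Nat.beq (T.pairing g.β g.s).natAbs 1 ||
    ((Nat.beq (T.pairing g.β g.s).natAbs 2 || Nat.beq (T.pairing g.β g.s).natAbs 3) &&
      Nat.beq g.coef.natAbs (T.pairing g.β g.s).natAbs && Nat.blt g.a T.n && Nat.blt g.b T.n &&
      Tables.rootIn (Tables.stepsRoots [g.r] g.steps) g.a &&
      Tables.rootIn (Tables.stepsRoots [g.r] g.steps) g.b &&
      !(Nat.beq g.b g.a) && !(Nat.beq g.b (T.neg g.a)) &&
      decide (T.commTerms g.a g.b = [(g.s, g.coef, 1, 1)]))) &&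
  T.stepsOK g.w (g.s :: Tables.stepsRoots [g.r] g.steps) g.steps2 &&
  T.allKnown (Tables.stepsRoots (g.s :: Tables.stepsRoots [g.r] g.steps) g.steps2)

/-- The certificate over the field with two elements: `y` of order three times a root element. -/
structure GenTwo where
  w : List ℕ
  s : ℕ
  p : ℕ
  steps : List GenStep
  l : ℕ
  u : ℕ
  coef : ℤ
  steps2 : List GenStep

/-- The check of the certificate. -/
def GenTwo.check (g : GenTwo) (T : Tables) : Bool :=
  g.w.all (fun q => Nat.blt q T.l) && Nat.blt g.p T.l && Nat.blt g.s T.n && Nat.blt g.l T.n &&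
  Nat.blt g.u T.n &&
  !(Nat.beq g.s (T.simple g.p)) && !(Nat.beq g.s (T.neg (T.simple g.p))) &&
  (T.commTerms (T.simple g.p) g.s).isEmpty && (T.commTerms (T.neg (T.simple g.p)) g.s).isEmpty &&
  T.stepsOK g.w [g.s] g.steps && Tables.rootIn (Tables.stepsRoots [g.s] g.steps) g.l &&
  !(Nat.beq g.l (T.simple g.p)) && !(Nat.beq g.l (T.neg (T.simple g.p))) &&
  (T.commTerms (T.neg (T.simple g.p)) g.l).isEmpty &&
  decide ((T.commTerms (T.simple g.p) g.l).filter
    (fun x => !(Tables.rootIn (Tables.stepsRoots [g.s] g.steps) x.1)) = [(g.u, g.coef, 1, 1)]) &&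
  Tables.isUnitInt g.coef &&
  T.stepsOK g.w (g.u :: Tables.stepsRoots [g.s] g.steps) g.steps2 &&
  T.allKnown (Tables.stepsRoots (g.u :: Tables.stepsRoots [g.s] g.steps) g.steps2)

namespace CertFull

variable {D : ChevalleyDatum} (c : CertFull D) {F : Type*} [Field F] [Finite F]
include c

theorem rootIn_of_mem {G : Subgroup (GL D.Idx F)} {K : List ℕ} (hK : ∀ u ∈ K, c.RootIn G u) {u : ℕ}
    (hu : Tables.rootIn K u = true) : c.RootIn G u := by
  simp only [Tables.rootIn, List.any_eq_true, Nat.beq_eq] at hu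
  obtain ⟨z, hz, rfl⟩ := hu
  exact hK _ hz

theorem exists_gen_ne_one (hF : 3 ≤ Nat.card F) :
    ∃ ζ : Fˣ, (∀ u : Fˣ, u ∈ Subgroup.zpowers ζ) ∧ ζ ≠ 1 := by
  obtain ⟨ζ, hζ⟩ := IsCyclic.exists_generator (α := Fˣ)
  refine ⟨ζ, hζ, fun e => ?_⟩
  have h1 : Subsingleton Fˣ := ⟨fun u v => by
    have hu := hζ u; have hv := hζ v
    rw [e, Subgroup.zpowers_one_eq_bot, Subgroup.mem_bot] at hu hv
    rw [hu, hv]⟩
  have := Nat.card_units F
  rw [Nat.card_unique (α := Fˣ)] at this
  omega

theorem twoGen_one (g : GenOne) (hg : g.check c.T = true) (hF : 3 ≤ Nat.card F) :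
    ∃ a b : ↥(D.group F), Subgroup.closure ({a, b} : Set ↥(D.group F)) = ⊤ := by
  simp only [GenOne.check, Bool.and_eq_true, Nat.blt_eq, Nat.beq_eq, ← c.nroots_eq] at hg
  obtain ⟨⟨⟨⟨⟨⟨⟨hw, hr⟩, hv⟩, hwv⟩, her⟩, hev⟩, hst⟩, hall⟩ := hg
  have hw' := c.wlT_w hw
  obtain ⟨ζ, hζ, hζ1⟩ := c.exists_gen_ne_one hF
  refine c.twoGen (a := c.expTorus ζ g.m) (b := c.xg g.r 1 * c.nw F g.w) (c.expTorus_mem ζ g.m)
    (mul_mem (c.xg_mem_group hr _) (c.nw_mem_group hw')) ?_
  set G := Subgroup.closure ({c.expTorus ζ g.m, c.xg g.r 1 * c.nw F g.w} : Set (GL D.Idx F))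
  obtain ⟨h0, hn⟩ := c.rootIn_of_torus (G := G) hζ hζ1 hw' hr hv hwv her hev
    (Subgroup.subset_closure (by simp)) (Subgroup.subset_closure (by simp))
  exact c.group_le_of_rootIn hall (c.rootIn_steps hw' hn _ _ hst (by simpa using h0))

theorem twoGen_one_two (g : GenOne) (hg : g.check c.T = true) (hF : ∀ t : F, t = 0 ∨ t = 1) :
    ∃ a b : ↥(D.group F), Subgroup.closure ({a, b} : Set ↥(D.group F)) = ⊤ := by
  simp only [GenOne.check, Bool.and_eq_true, Nat.blt_eq, Nat.beq_eq, ← c.nroots_eq] at hg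
  obtain ⟨⟨⟨⟨⟨⟨⟨hw, hr⟩, -⟩, -⟩, -⟩, -⟩, hst⟩, hall⟩ := hg
  have hw' := c.wlT_w hw
  refine c.twoGen (a := c.xg g.r 1) (b := c.nw F g.w) (c.xg_mem_group hr _)
    (c.nw_mem_group hw') ?_
  refine c.group_le_of_rootIn hall (c.rootIn_steps hw' (Subgroup.subset_closure (by simp)) _ _ hst ?_)
  simp only [List.mem_singleton, forall_eq]
  intro t
  rcases hF t with rfl | rfl
  · rw [c.xg_zero]; exact one_mem _
  · exact Subgroup.subset_closure (by simp)

theorem twoGen_extra (g : GenExtra) (hg : g.check c.T = true) (hF : 3 ≤ Nat.card F) :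
    ∃ a b : ↥(D.group F), Subgroup.closure ({a, b} : Set ↥(D.group F)) = ⊤ := by
  simp only [GenExtra.check, Bool.and_eq_true, Bool.or_eq_true, Nat.blt_eq, Nat.beq_eq,
    intZero_iff, Bool.not_eq_true', decide_eq_true_eq, ← Bool.not_eq_true, ← c.nroots_eq] at hg
  obtain ⟨⟨⟨⟨⟨⟨⟨⟨⟨⟨⟨⟨⟨⟨hw, hr⟩, hv⟩, hwv⟩, her⟩, hev⟩, hst⟩, hs⟩, hes⟩, hβ⟩, hβK⟩, hnβK⟩,
    hbr⟩, hst2⟩, hall⟩ := hg
  have hw' := c.wlT_w hw
  obtain ⟨ζ, hζ, hζ1⟩ := c.exists_gen_ne_one hF
  refine c.twoGen (a := c.expTorus ζ g.m * c.xg g.s 1) (b := c.xg g.r 1 * c.nw F g.w)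
    (mul_mem (c.expTorus_mem ζ g.m) (c.xg_mem_group hs _))
    (mul_mem (c.xg_mem_group hr _) (c.nw_mem_group hw')) ?_
  set G := Subgroup.closure ({c.expTorus ζ g.m * c.xg g.s 1, c.xg g.r 1 * c.nw F g.w} :
    Set (GL D.Idx F))
  obtain ⟨hh, hx⟩ := c.mem_of_mul (G := G) (ζ := ζ) hs hes (Subgroup.subset_closure (by simp))
  obtain ⟨h0, hn⟩ := c.rootIn_of_torus (G := G) hζ hζ1 hw' hr hv hwv her hev hh
    (Subgroup.subset_closure (by simp))
  have hK := c.rootIn_steps hw' hn _ _ hst (by simpa using h0)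
  have hβ1 := c.rootIn_of_mem hK hβK
  rw [← c.neg_eq hβ] at hnβK
  have hβ2 := c.rootIn_of_mem hK hnβK
  have hsK : c.RootIn G g.s := by
    rcases hbr with h1 | ⟨⟨⟨⟨⟨⟨⟨⟨he, hC⟩, ha⟩, hb⟩, haK⟩, hbK⟩, hne⟩, hne'⟩, hterms⟩
    · exact c.rootIn_of_scale hβ hs (Or.inl h1) hβ1 hβ2 hx
    rw [← c.neg_eq ha] at hne'
    by_cases hC0 : (g.coef : F) = 0
    · refine c.rootIn_of_scale hβ hs (Or.inr ⟨?_, ?_⟩) hβ1 hβ2 hx
      · rcases he with e | e <;> rw [e] <;> norm_num
      · rw [← hC]
        rcases Int.natAbs_eq g.coef with e | e <;> rw [e] at hC0 <;> simpa using hC0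
    · exact c.rootIn_of_comm ha hb hne hne' hterms hC0 (c.rootIn_of_mem hK haK)
        (c.rootIn_of_mem hK hbK)
  refine c.group_le_of_rootIn hall (c.rootIn_steps hw' hn _ _ hst2 ?_)
  simp only [List.mem_cons, forall_eq_or_imp]
  exact ⟨hsK, hK⟩

theorem twoGen_two (g : GenTwo) (hg : g.check c.T = true) (hF : ∀ t : F, t = 0 ∨ t = 1) :
    ∃ a b : ↥(D.group F), Subgroup.closure ({a, b} : Set ↥(D.group F)) = ⊤ := by
  simp only [GenTwo.check, Bool.and_eq_true, Nat.blt_eq, Nat.beq_eq, Bool.not_eq_true',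
    decide_eq_true_eq, List.isEmpty_iff, ← Bool.not_eq_true, ← c.nroots_eq, ← c.rank_eq] at hg
  obtain ⟨⟨⟨⟨⟨⟨⟨⟨⟨⟨⟨⟨⟨⟨⟨⟨⟨hw, hp⟩, hs⟩, hl⟩, hu⟩, hs1⟩, hs2⟩, hc1⟩, hc2⟩, hst⟩, hlK⟩, hl1⟩,
    hl2⟩, hc3⟩, hf⟩, hcoef⟩, hst2⟩, hall⟩ := hg
  have hw' : ∀ q ∈ g.w, q < D.rank := fun q hq => Nat.blt_eq.mp (List.all_eq_true.1 hw q hq)
  have hα := c.simple_lt hp
  have hnα := c.neg_lt hα
  rw [← c.simple_eq hp] at hs1 hs2 hc1 hc2 hl1 hl2 hc3 hf
  rw [← c.neg_eq hα] at hs2 hc2 hl2 hc3
  set α := D.simple g.p with hα0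
  set A : GL D.Idx F := c.xg α 1 with hA0
  set B : GL D.Idx F := c.xg (D.neg α) 1 with hB0
  have hone : (-1 : F) = 1 := by
    rcases hF (-1) with h | h
    · exact absurd h (neg_ne_zero.2 one_ne_zero)
    · exact h
  have hinv : ∀ u : ℕ, (c.xg u (1 : F))⁻¹ = c.xg u 1 := fun u => by rw [c.xg_inv, hone]
  have hAA : A * A = 1 := by rw [← inv_mul_cancel A, hinv]
  have hBB : B * B = 1 := by rw [← inv_mul_cancel B, hinv]
  have hcomm : ∀ q u : ℕ, q < D.nroots → u < D.nroots → u ≠ q → u ≠ D.neg q →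
      c.T.commTerms q u = [] → c.xg u (1 : F) * c.xg q 1 = c.xg q 1 * c.xg u 1 := by
    intro q u hq hu' h1 h2 h3
    rw [c.xg_comm hq hu' h1 h2, h3, List.map_nil, List.prod_nil, mul_one]
  have hy3 : (A * B) ^ 3 = 1 := by
    have hn : A * B * A * A = B * (A * B * A) := by
      have e := c.ng_conj (F := F) hp hα 1
      have heta : (c.T.eta g.p α : F) * 1 = 1 := by
        have h' : c.T.eta g.p α = 1 ∨ c.T.eta g.p α = -1 := by
          unfold Tables.eta; cases Nat.beq (field 1 (c.T.etaT.get α) g.p) 0 <;> simp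
        rcases h' with h | h <;> simp [h, hone]
      rw [c.w_simple hp, heta] at e
      simpa only [Cert.ng, inv_one, hone, ← hα0, ← hA0, ← hB0] using e
    rw [mul_assoc _ A A, hAA, mul_one] at hn
    rw [pow_succ, pow_two]
    calc A * B * (A * B) * (A * B) = A * B * (B * (A * B * A)) * (A * B) := by rw [← hn]
      _ = A * (B * B) * (A * B * A) * (A * B) := by group
      _ = A * A * B * (A * A) * B := by rw [hBB, mul_one]; group
      _ = 1 := by rw [hAA, one_mul, mul_one, hBB]
  set x : GL D.Idx F := c.xg g.s 1 with hx0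
  have hyx : Commute (A * B) x := by
    refine Commute.mul_left ?_ ?_
    · exact (hcomm α g.s hα hs hs1 hs2 hc1).symm
    · refine (hcomm (D.neg α) g.s hnα hs hs2 ?_ hc2).symm
      rw [c.neg_neg hα]; exact hs1
  refine c.twoGen (a := A * B * x) (b := c.nw F g.w)
    (mul_mem (mul_mem (c.xg_mem_group hα _) (c.xg_mem_group hnα _)) (c.xg_mem_group hs _))
    (c.nw_mem_group hw') ?_
  set G := Subgroup.closure ({A * B * x, c.nw F g.w} : Set (GL D.Idx F))
  have hn : c.nw F g.w ∈ G := Subgroup.subset_closure (by simp)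
  have ha : A * B * x ∈ G := Subgroup.subset_closure (by simp)
  have hxG : x ∈ G := by
    have := pow_mem ha 3
    have hxx : x * x = 1 := by
      have := inv_mul_cancel x
      rwa [hx0, hinv] at this
    rwa [hyx.mul_pow, hy3, one_mul, pow_succ, pow_two, hxx, one_mul] at this
  have hyG : A * B ∈ G := (G.mul_mem_cancel_right hxG).1 ha
  have hK := c.rootIn_steps hw' hn _ _ hst (by
    simp only [List.mem_singleton, forall_eq]
    intro t
    rcases hF t with rfl | rfl
    · rw [c.xg_zero]; exact one_mem _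
    · exact hxG)
  have hlG : c.xg g.l (1 : F) ∈ G := c.rootIn_of_mem hK hlK 1
  have huG : c.RootIn G g.u := by
    have e := c.xg_comm (F := F) hα hl hl1 hl2 1 1
    simp only [hone, one_pow, mul_one] at e
    have hne : g.l ≠ D.neg (D.neg α) := by rw [c.neg_neg hα]; exact hl1
    have hBl : B * c.xg g.l 1 = c.xg g.l 1 * B := (hcomm (D.neg α) g.l hnα hl hl2 hne hc3).symm
    have hconj : A * c.xg g.l 1 * A ∈ G := by
      have := mul_mem (mul_mem hyG hlG) (inv_mem hyG)
      rw [mul_assoc A B, hBl, _root_.mul_inv_rev, hinv, hinv, ← hA0, ← hB0] at this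
      convert this using 1
      calc A * c.xg g.l 1 * A = A * c.xg g.l 1 * (B * B) * A := by rw [hBB, mul_one]
        _ = _ := by group
    have hprod : ((c.T.commTerms α g.l).map fun x => c.xg x.1 ((x.2.1 : F))).prod ∈ G := by
      have h2 : (A * c.xg g.l 1)⁻¹ * (c.xg g.l 1 * A) ∈ G := by
        have := mul_mem (inv_mem hlG) hconj
        convert this using 1
        rw [_root_.mul_inv_rev, show A⁻¹ = A from hinv α]
        group
      rw [e, inv_mul_cancel_left] at h2
      exact h2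
    have h3 := mem_of_prod_mem_filter G _ _ (g.u, g.coef, 1, 1) _ hf (fun y _ hy' => by
      simp only [Bool.not_eq_false'] at hy'
      exact c.rootIn_of_mem hK hy' _) hprod
    have hC : (g.coef : F) = 1 := by
      rcases isUnitInt_iff hcoef with e | e <;> simp [e, hone]
    rw [hC] at h3
    intro t
    rcases hF t with rfl | rfl
    · rw [c.xg_zero]; exact one_mem _
    · exact h3
  refine c.group_le_of_rootIn hall (c.rootIn_steps hw' hn _ _ hst2 ?_)
  simp only [List.mem_cons, forall_eq_or_imp]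
  exact ⟨huG, hK⟩

end CertFull

end Cfsg.Agent.Lie.Chev
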