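import Cfsg.Agent.Lib.Grp.EigenSplit
import Cfsg.Agent.Lib.Lie.Chev.AutBorel
import Cfsg.Agent.Lib.Lie.Chev.TwoGen
import Cfsg.Agent.Lib.Lie.Chev.TwistFrob

/-! Eigenspaces of the root subgroups of a Chevalley group in a complex representation: the
splitting by a family of root pairs, and the checks on the tables that it needs. -/

set_option autoImplicit false
set_option linter.unusedSectionVars false

namespace Cfsg.Agent.Lie.Chev

open Cfsg.Lie Module Cfsg.Agent.Grp.EigenSplit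

namespace Tables

variable (T : Tables)

/-- The commutators of the root `s` with the root `x` lie in the list `L`. -/
def rootMoves (s : ℕ) (L : List ℕ) (x : ℕ) : Bool :=
  Nat.beq s x || (!(Nat.beq x (T.neg s)) && (T.commTerms s x).all fun y => L.contains y.1)

/-- The roots `a` and `b` commute into the single root `r`. -/
def joins (a b r : ℕ) : Bool :=
  !(Nat.beq b a) && !(Nat.beq b (T.neg a)) &&
    (decide (T.commTerms a b = [(r, 1, 1, 1)]) || decide (T.commTerms a b = [(r, -1, 1, 1)]))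

/-- The conditions on a list of pairs splitting the roots of `r` fixed on `pre`. -/
def pairsOK (pre : List ℕ) (r : ℕ) : List (ℕ × ℕ) → Bool
  | [] => true
  | p :: P => pairsOK pre r P && T.joins p.1 p.2 r && Nat.blt p.1 T.n && Nat.blt p.2 T.n &&
      (r :: pre ++ P.map Prod.snd).all fun x =>
        T.rootMoves p.1 pre x && T.rootMoves p.2 pre x

end Tables

namespace CertFull

variable {D : ChevalleyDatum} (c : CertFull D) {F : Type*} [Field F] [Fintype F]
  {V : Type*} [AddCommGroup V] [Module ℂ V] (ρ : ↥(D.group F) →* End ℂ V)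

/-- The non-trivial additive character. -/
noncomputable def rootPsi (F : Type*) [Field F] [Fintype F] : AddChar F ℂ :=
  AddChar.FiniteField.primitiveChar_to_Complex F

/-- The character with a given parameter. -/
noncomputable def rootChar (ζ : F) : AddChar F ℂ := AddChar.mulShift (rootPsi F) ζ

theorem rootChar_apply (ζ t : F) : rootChar ζ t = rootPsi F (ζ * t) := AddChar.mulShift_apply ..

theorem rootChar_injective : Function.Injective (rootChar (F := F)) :=
  AddChar.to_mulShift_inj_of_isPrimitive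
    (AddChar.FiniteField.primitiveChar_to_Complex_isPrimitive F)

/-- The operator of a root element. -/
noncomputable def rop (r : ℕ) (t : F) : End ℂ V := ρ ⟨c.xg r t, c.xg_mem_group_all r t⟩

theorem rop_act (r : ℕ) : IsAct (rop c ρ r) where
  map_zero := by
    rw [rop, ← map_one ρ]
    exact congrArg ρ (Subtype.ext (c.xg_zero r))
  map_add t u := by
    rw [rop, rop, rop, ← map_mul]
    exact congrArg ρ (Subtype.ext (c.xg_add r t u))

theorem rop_injective (r : ℕ) (t : F) : Function.Injective (rop c ρ r t) := fun v w e => by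
  have := congrArg (rop c ρ r (-t)) e
  rwa [← End.mul_apply, ← End.mul_apply, ← (rop_act c ρ r).map_add, neg_add_cancel,
    (rop_act c ρ r).map_zero] at this

/-- An eigenspace of a root subgroup. -/
noncomputable def rEig (r : ℕ) (ζ : F) : Submodule ℂ V := eig (rop c ρ r) (rootChar ζ)

theorem mem_rEig {r : ℕ} {ζ : F} {v : V} :
    v ∈ rEig c ρ r ζ ↔ ∀ t, rop c ρ r t v = rootPsi F (ζ * t) • v := by
  simp only [rEig, mem_eig, rootChar_apply]

theorem mem_rEig_zero {r : ℕ} {v : V} : v ∈ rEig c ρ r 0 ↔ ∀ t, rop c ρ r t v = v := by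
  simp [mem_rEig, AddChar.map_zero_eq_one]

/-- The vectors fixed by the root subgroups of a list. -/
noncomputable def rFix : List ℕ → Submodule ℂ V
  | [] => ⊤
  | x :: L => rEig c ρ x 0 ⊓ rFix L

theorem mem_rFix {v : V} : ∀ {L : List ℕ},
    v ∈ rFix c ρ L ↔ ∀ x ∈ L, ∀ t, rop c ρ x t v = v
  | [] => by simp [rFix]
  | x :: L => by simp [rFix, mem_rEig_zero, mem_rFix (L := L)]

theorem rFix_mono {L L' : List ℕ} (h : ∀ x ∈ L, x ∈ L') : rFix c ρ L' ≤ rFix c ρ L :=
  fun v hv => (mem_rFix c ρ).2 fun x hx => (mem_rFix c ρ).1 hv x (h x hx)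

theorem rop_prod_fix {v : V} {α : Type*} (g : α → ℕ) (w : α → F) : ∀ (L : List α),
    (∀ y ∈ L, ∀ t, rop c ρ (g y) t v = v) →
    ∀ h : (L.map fun y => c.xg (g y) (w y)).prod ∈ D.group F, ρ ⟨_, h⟩ v = v
  | [], _, h => by
    have : (⟨_, h⟩ : ↥(D.group F)) = 1 := Subtype.ext rfl
    rw [this, map_one, End.one_apply]
  | y :: L, hv, h => by
    have hy : (L.map fun y => c.xg (g y) (w y)).prod ∈ D.group F :=
      Subgroup.list_prod_mem _ fun k hk => by
        obtain ⟨z, -, rfl⟩ := List.mem_map.1 hk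
        exact c.xg_mem_group_all _ _
    have e : (⟨_, h⟩ : ↥(D.group F)) =
        ⟨c.xg (g y) (w y), c.xg_mem_group_all _ _⟩ * ⟨_, hy⟩ := Subtype.ext (by simp)
    rw [e, map_mul, End.mul_apply, rop_prod_fix g w L (fun z hz => hv z (by simp [hz])) hy]
    exact hv y (by simp) (w y)

theorem rop_swap_fix {s x : ℕ} {L : List ℕ} (hs : s < D.nroots) (hx : x < D.nroots)
    (h : c.T.rootMoves s L x = true) {v : V} (hv : v ∈ rFix c ρ L) (t u : F) :
    rop c ρ x u (rop c ρ s t v) = rop c ρ s t (rop c ρ x u v) := by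
  simp only [Tables.rootMoves, Bool.or_eq_true, Bool.and_eq_true, Nat.beq_eq, Bool.not_eq_true',
    List.all_eq_true, List.contains_iff_mem] at h
  by_cases hsx : s = x
  · subst hsx
    rw [← End.mul_apply, ← End.mul_apply, ← (rop_act c ρ s).map_add, ← (rop_act c ρ s).map_add,
      add_comm]
  obtain ⟨hn, hall⟩ := h.resolve_left hsx
  have e := c.xg_comm hs hx (Ne.symm hsx) (fun e' => by
    rw [c.neg_eq hs] at e'
    have : Nat.beq x (c.T.neg s) = true := by
      rw [Nat.beq_eq, e']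
    rw [this] at hn; exact Bool.noConfusion hn) t u
  set C := ((c.T.commTerms s x).map fun y =>
    c.xg y.1 ((y.2.1 : F) * (-t) ^ y.2.2.1 * u ^ y.2.2.2)).prod with hC
  have hCm : C ∈ D.group F := Subgroup.list_prod_mem _ fun k hk => by
    obtain ⟨z, -, rfl⟩ := List.mem_map.1 hk
    exact c.xg_mem_group_all _ _
  have e' : (⟨c.xg x u, c.xg_mem_group_all x u⟩ : ↥(D.group F)) *
      ⟨c.xg s t, c.xg_mem_group_all s t⟩ =
      ⟨c.xg s t, c.xg_mem_group_all s t⟩ * ⟨c.xg x u, c.xg_mem_group_all x u⟩ * ⟨C, hCm⟩ :=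
    Subtype.ext e
  have e'' := congrArg ρ e'
  rw [map_mul, map_mul, map_mul] at e''
  have hfix : ρ ⟨C, hCm⟩ v = v :=
    rop_prod_fix c ρ (fun y : ℕ × ℤ × ℕ × ℕ => y.1) _ _
      (fun y hy => (mem_rFix c ρ).1 hv y.1 (hall y hy)) hCm
  have := LinearMap.congr_fun e'' v
  simp only [End.mul_apply, hfix] at this
  exact this

theorem moves_eig {s x : ℕ} {L : List ℕ} (hs : s < D.nroots) (hx : x < D.nroots)
    (h : c.T.rootMoves s L x = true) {v : V} (hv : v ∈ rFix c ρ L) {ζ : F} (he : v ∈ rEig c ρ x ζ)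
    (t : F) : rop c ρ s t v ∈ rEig c ρ x ζ := by
  rw [mem_rEig] at he ⊢
  intro u
  rw [rop_swap_fix c ρ hs hx h hv, he, map_smul]

theorem moves_fix {s : ℕ} {L M : List ℕ} (hs : s < D.nroots) (hM : ∀ x ∈ M, x < D.nroots)
    (h : ∀ x ∈ M, c.T.rootMoves s L x = true) {v : V} (hv : v ∈ rFix c ρ L) (hvM : v ∈ rFix c ρ M)
    (t : F) : rop c ρ s t v ∈ rFix c ρ M :=
  (mem_rFix c ρ).2 fun x hx u => by
    rw [rop_swap_fix c ρ hs (hM x hx) (h x hx) hv, (mem_rFix c ρ).1 hvM x hx]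

theorem joins_apply {a b r : ℕ} (ha : a < D.nroots) (hb : b < D.nroots)
    (h : c.T.joins a b r = true) : ∃ k : F, k ≠ 0 ∧ ∀ (t u : F) (v : V),
      rop c ρ b u (rop c ρ a t v) = rop c ρ a t (rop c ρ b u (rop c ρ r (k * t * u) v)) := by
  simp only [Tables.joins, Bool.and_eq_true, Bool.or_eq_true, decide_eq_true_eq,
    Bool.not_eq_true'] at h
  obtain ⟨⟨hne, hn⟩, hk⟩ := h
  have h1 : b ≠ a := fun e => by
    rw [show Nat.beq b a = true by rw [Nat.beq_eq, e]] at hne; exact Bool.noConfusion hne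
  have h2 : b ≠ D.neg a := fun e => by
    rw [c.neg_eq ha] at e
    have : Nat.beq b (c.T.neg a) = true := by
      rw [Nat.beq_eq, e]
    rw [this] at hn; exact Bool.noConfusion hn
  obtain ⟨k, hk1, hk⟩ : ∃ k : ℤ, (k = 1 ∨ k = -1) ∧ c.T.commTerms a b = [(r, k, 1, 1)] := by
    rcases hk with e | e
    exacts [⟨1, Or.inl rfl, e⟩, ⟨-1, Or.inr rfl, e⟩]
  refine ⟨-(k : F), by rcases hk1 with rfl | rfl <;> simp, fun t u v => ?_⟩
  have e : (⟨c.xg b u, c.xg_mem_group_all b u⟩ : ↥(D.group F)) *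
      ⟨c.xg a t, c.xg_mem_group_all a t⟩ = ⟨c.xg a t, c.xg_mem_group_all a t⟩ *
        (⟨c.xg b u, c.xg_mem_group_all b u⟩ *
          ⟨c.xg r (-(k : F) * t * u), c.xg_mem_group_all r _⟩) := Subtype.ext (by
    have e := c.xg_comm ha hb h1 h2 t u
    rw [hk] at e
    simp only [List.map_cons, List.map_nil, List.prod_cons, List.prod_nil, mul_one, pow_one,
      mul_assoc] at e
    simp only [Subgroup.coe_mul]
    rw [e]
    congr 3
    ring)
  have := LinearMap.congr_fun (congrArg ρ e) v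
  simp only [map_mul, End.mul_apply] at this
  exact this

theorem rop_stable_eig {s x : ℕ} {L : List ℕ} (hs : s < D.nroots) (hx : x < D.nroots)
    (h : c.T.rootMoves s L x = true) (ζ : F) {W : Submodule ℂ V} (hW : W ≤ rFix c ρ L)
    (hst : ∀ t, Stable (rop c ρ s t) W) (t : F) : Stable (rop c ρ s t) (W ⊓ rEig c ρ x ζ) :=
  fun _ hv => ⟨hst t _ hv.1, moves_eig c ρ hs hx h (hW hv.1) hv.2 t⟩

variable [FiniteDimensional ℂ V]

theorem sum_rEig {r : ℕ} {W : Submodule ℂ V} (hW : ∀ t, Stable (rop c ρ r t) W) :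
    ∑ ζ : F, finrank ℂ ↥(W ⊓ rEig c ρ r ζ) = finrank ℂ W :=
  sum_finrank (rop_act c ρ r) rootChar rootChar_injective rfl hW

/-- One pair of roots splits a subspace into `q` parts of equal dimension. -/
theorem pair_split {a b r : ℕ} (ha : a < D.nroots) (hb : b < D.nroots)
    (h : c.T.joins a b r = true) {ζ : F} (hζ : ζ ≠ 0) {W : Submodule ℂ V}
    (hW : W ≤ rEig c ρ r ζ) (hA : ∀ t, Stable (rop c ρ a t) W)
    (hB : ∀ t, Stable (rop c ρ b t) W) (γ : F) :
    finrank ℂ W = Fintype.card F * finrank ℂ ↥(W ⊓ rEig c ρ b γ) := by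
  obtain ⟨k, hk, hswap⟩ := joins_apply c ρ ha hb h
  have hle : ∀ γ γ' : F, finrank ℂ ↥(W ⊓ rEig c ρ b γ) ≤ finrank ℂ ↥(W ⊓ rEig c ρ b γ') := by
    intro γ γ'
    refine finrank_le_of_maps (rop_injective c ρ a ((γ' - γ) * (ζ * k)⁻¹)) fun v hv =>
      ⟨hA _ v hv.1, (mem_rEig c ρ).2 fun u => ?_⟩
    rw [hswap, (mem_rEig c ρ).1 (hW hv.1), map_smul, (mem_rEig c ρ).1 hv.2, map_smul, map_smul,
      smul_smul, ← AddChar.map_add_eq_mul]
    congr 2
    field_simp
    ring
  rw [← sum_rEig c ρ hB, Finset.sum_congr rfl fun δ _ => le_antisymm (hle δ γ) (hle γ δ)]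
  simp

/-- A list of pairs splits a subspace. -/
theorem pairs_split {r : ℕ} (hr : r < D.nroots) {pre : List ℕ} (hpre : ∀ x ∈ pre, x < D.nroots)
    {ζ : F} (hζ : ζ ≠ 0) : ∀ {P : List (ℕ × ℕ)}, c.T.pairsOK pre r P = true →
    (∀ p ∈ P, p.1 < D.nroots ∧ p.2 < D.nroots) →
    finrank ℂ ↥(rFix c ρ pre ⊓ rEig c ρ r ζ) =
      Fintype.card F ^ P.length *
        finrank ℂ ↥(rFix c ρ pre ⊓ rEig c ρ r ζ ⊓ rFix c ρ (P.map Prod.snd))
  | [], _, _ => by rw [List.map_nil, rFix, inf_top_eq]; simp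
  | p :: P, h, hlt => by
    simp only [Tables.pairsOK, Bool.and_eq_true, List.all_eq_true] at h
    obtain ⟨⟨⟨⟨hP, hj⟩, -⟩, -⟩, hall⟩ := h
    have hlt' : ∀ p ∈ P, p.1 < D.nroots ∧ p.2 < D.nroots := fun p hp => hlt p (by simp [hp])
    obtain ⟨ha, hb⟩ := hlt p (by simp)
    set E := rFix c ρ pre ⊓ rEig c ρ r ζ ⊓ rFix c ρ (P.map Prod.snd) with hE
    have hPlt : ∀ x ∈ P.map Prod.snd, x < D.nroots := fun x hx => by
      obtain ⟨q, hq, rfl⟩ := List.mem_map.1 hx
      exact (hlt' q hq).2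
    have hst : ∀ s, s < D.nroots →
        (∀ x ∈ r :: pre ++ P.map Prod.snd, c.T.rootMoves s pre x = true) →
        ∀ t, Stable (rop c ρ s t) E := fun s hs hm t v hv =>
      ⟨⟨moves_fix c ρ hs hpre (fun x hx => hm x (by simp [hx])) hv.1.1 hv.1.1 t,
        moves_eig c ρ hs hr (hm r (by simp)) hv.1.1 hv.1.2 t⟩,
        moves_fix c ρ hs hPlt (fun x hx => hm x (by
          simp only [List.cons_append, List.mem_cons, List.mem_append]; exact Or.inr (Or.inr hx)))
          hv.1.1 hv.2 t⟩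
    rw [pairs_split hr hpre hζ hP hlt', pair_split c ρ ha hb hj hζ
      (W := E) (fun v hv => hv.1.2) (hst _ ha fun x hx => (hall x hx).1)
      (hst _ hb fun x hx => (hall x hx).2) 0]
    rw [List.length_cons, pow_succ, mul_assoc, hE, List.map_cons, rFix, inf_assoc _ _
      (rEig c ρ p.2 0), inf_comm (rFix c ρ (P.map Prod.snd))]

/-! ### Transport -/

theorem nw_transport {L : List ℕ} (hL : ∀ p ∈ L, p < D.rank) {s : ℕ} (hs : s < D.nroots) (t : F) :
    ρ ⟨c.nw F L, c.nw_mem_group hL⟩ * rop c ρ s t =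
      rop c ρ (c.wl L s) ((c.wsign L s : F) * t) * ρ ⟨c.nw F L, c.nw_mem_group hL⟩ := by
  rw [rop, rop, ← map_mul, ← map_mul]
  exact congrArg ρ (Subtype.ext (c.nw_mul_xg hL hs t))

theorem rho_injective (g : ↥(D.group F)) : Function.Injective (ρ g) := fun v w e => by
  have := congrArg (ρ g⁻¹) e
  rwa [← End.mul_apply, ← End.mul_apply, ← map_mul, inv_mul_cancel, map_one] at this

theorem nw_maps {L : List ℕ} (hL : ∀ p ∈ L, p < D.rank) {s : ℕ} (hs : s < D.nroots) {ζ : F}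
    {v : V} (hv : v ∈ rEig c ρ s ζ) :
    ρ ⟨c.nw F L, c.nw_mem_group hL⟩ v ∈ rEig c ρ (c.wl L s) (ζ * (c.wsign L s : F)) := by
  rw [mem_rEig] at hv ⊢
  intro t
  have e := LinearMap.congr_fun (nw_transport c ρ hL hs ((c.wsign L s : F) * t)) v
  rw [End.mul_apply, End.mul_apply, hv, map_smul, ← mul_assoc (c.wsign L s : F), c.wsign_sq,
    one_mul] at e
  rw [← e, mul_assoc]

theorem torus_maps (z : ℕ → Fˣ) {s : ℕ} (hs : s < D.nroots) {ζ : F} {v : V}
    (hv : v ∈ rEig c ρ s ζ) :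
    ρ ⟨c.torus z, c.B_le_group (c.H_le_B (c.torus_mem z))⟩ v ∈
      rEig c ρ s (ζ * ((c.tchar z s)⁻¹ : Fˣ)) := by
  rw [mem_rEig] at hv ⊢
  intro t
  have e : (⟨c.torus z, c.B_le_group (c.H_le_B (c.torus_mem z))⟩ : ↥(D.group F)) *
      ⟨c.xg s (((c.tchar z s)⁻¹ : Fˣ) * t), c.xg_mem_group_all _ _⟩ =
      ⟨c.xg s t, c.xg_mem_group_all _ _⟩ *
        ⟨c.torus z, c.B_le_group (c.H_le_B (c.torus_mem z))⟩ := Subtype.ext (by
    rw [Subgroup.coe_mul, Subgroup.coe_mul, ← mul_inv_eq_iff_eq_mul, c.torus_conj_xg z hs,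
      Units.val_inv_eq_inv_val, mul_inv_cancel_left₀ (Units.ne_zero _)])
  have e' := LinearMap.congr_fun (congrArg ρ e) v
  simp only [map_mul, End.mul_apply] at e'
  change _ = rop c ρ s t _ at e'
  rw [← e']
  show ρ _ (rop c ρ s _ v) = _
  rw [hv, map_smul, mul_assoc]

end CertFull

end Cfsg.Agent.Lie.Chev
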