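import Cfsg.Agent.Lib.Lie.Chev.TwistE6
import Cfsg.Agent.Lib.Lie.Chev.RootEigen

/-! The root elements of ²E6(q), one for each orbit of the graph symmetry on the roots, and their
commutation modulo the elements of other orbits, read off from the tables. -/

set_option autoImplicit false
set_option linter.unusedSectionVars false

namespace Cfsg.Agent.Lie.Chev.E6.Deg

open Cfsg.Lie Matrix

/-- A root fixed by the graph symmetry. -/
def fxd (r : ℕ) : Bool := Nat.beq (graphE6.ρ r) r

/-- Two root subgroups commute. -/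
def com (a b : ℕ) : Bool :=
  Nat.beq a b || (!(Nat.beq b (certFullE6.T.neg a)) && (certFullE6.T.commTerms a b).isEmpty)

/-- The roots in the commutator of two root subgroups. -/
def terms (a b : ℕ) : List ℕ := (certFullE6.T.commTerms a b).map Prod.fst

/-- The commutator of two root subgroups lies in one root subgroup. -/
def sgl (a b : ℕ) : Bool :=
  !(Nat.beq b a) && !(Nat.beq b (certFullE6.T.neg a)) &&
    match certFullE6.T.commTerms a b with
    | [] => true
    | [(_, _, 1, 1)] => true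
    | _ => false

/-- The orbit of a root meets a list. -/
def hasO (L : List ℕ) (y : ℕ) : Bool :=
  Nat.blt y 72 && (L.contains y || L.contains (graphE6.ρ y))

/-- Two orbits commute. -/
def allCom (s x : ℕ) : Bool :=
  com s x && com s (graphE6.ρ x) && com (graphE6.ρ s) x && com (graphE6.ρ s) (graphE6.ρ x)

/-- Two fixed roots. -/
def swapFF (s : ℕ) (L : List ℕ) (x : ℕ) : Bool :=
  fxd s && fxd x && sgl s x && (terms s x).all fun y => hasO L y && fxd y

/-- A fixed root and a pair. -/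
def swapFP (s : ℕ) (L : List ℕ) (x : ℕ) : Bool :=
  fxd s && !(fxd x) && sgl s x && (terms s x).all fun y =>
    hasO L y && sgl y (graphE6.ρ x) && (terms y (graphE6.ρ x)).all fun z =>
      hasO L z && fxd z && com (graphE6.ρ y) z

/-- Two pairs. -/
def swapPP (s : ℕ) (L : List ℕ) (x : ℕ) : Bool :=
  !(fxd s) && !(fxd x) && sgl s x && sgl s (graphE6.ρ x) &&
    (terms s x ++ terms s (graphE6.ρ x)).all fun y =>
      hasO L y && ([s, graphE6.ρ s, x, graphE6.ρ x] ++ (terms s x ++ terms s (graphE6.ρ x)) ++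
        (terms s x ++ terms s (graphE6.ρ x)).map graphE6.ρ).all (com y)

/-- The commutators of the orbit of `s` with the orbit of `x` lie in the orbits of `L`. -/
def omoves (s : ℕ) (L : List ℕ) (x : ℕ) : Bool :=
  allCom s x || swapFF s L x || swapFP s L x || swapFP x L s || swapPP s L x

/-- The orbits of `a` and `b` commute into the orbit of `r`. -/
def joinsO (a b r : ℕ) : Bool :=
  Nat.blt r 72 && certFullE6.T.joins a b r &&
    ((fxd a && fxd b && fxd r) || (!(fxd a) && !(fxd b) && com a (graphE6.ρ b) &&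
      ([a, graphE6.ρ a, b, graphE6.ρ b, graphE6.ρ r].all (com r))))

theorem graph_ok : ((List.range 72).all fun r => Nat.blt (graphE6.ρ r) 72 &&
    Nat.beq (graphE6.ρ (graphE6.ρ r)) r && graphE6.ε r * graphE6.ε (graphE6.ρ r) == 1 &&
    (!(fxd r) || graphE6.ε r == 1) && com r (graphE6.ρ r)) = true := by decide +kernel

theorem graph_spec {r : ℕ} (hr : r < 72) : graphE6.ρ r < 72 ∧ graphE6.ρ (graphE6.ρ r) = r ∧
    graphE6.ε r * graphE6.ε (graphE6.ρ r) = 1 ∧ (graphE6.ρ r = r → graphE6.ε r = 1) ∧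
    com r (graphE6.ρ r) = true := by
  have h := List.all_eq_true.1 graph_ok r (List.mem_range.2 hr)
  simp only [Bool.and_eq_true, Nat.blt_eq, Nat.beq_eq, beq_iff_eq, Bool.or_eq_true,
    Bool.not_eq_true', fxd] at h
  obtain ⟨⟨⟨⟨h1, h2⟩, h3⟩, h4⟩, h5⟩ := h
  refine ⟨h1, h2, h3, fun e => h4.resolve_left fun e' => ?_, h5⟩
  rw [beq_of_eq e] at e'
  exact Bool.noConfusion e'

theorem rho_lt {r : ℕ} (hr : r < 72) : graphE6.ρ r < 72 := (graph_spec hr).1

theorem fxd_iff {r : ℕ} : fxd r = true ↔ graphE6.ρ r = r := Iff.of_eq Nat.beq_eq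

theorem not_fxd {r : ℕ} (h : fxd r = false) : graphE6.ρ r ≠ r := fun e => by
  rw [fxd_iff.2 e] at h; exact Bool.noConfusion h

variable {K : Type*} [Field K] (f : K →+* K)

local notation "X" => certFullE6.xg

/-- The image of a root element. -/
noncomputable def tX (r : ℕ) (t : K) : GL chevE6.Idx K := (tw f).act (X r t)

theorem tX_eq {r : ℕ} (hr : r < 72) (t : K) :
    tX f r t = X (graphE6.ρ r) ((graphE6.ε r : K) * f t) := by
  rw [tX, (tw f).act_xg (show r < chevE6.nroots from hr)]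
  rfl

theorem X_mem (r : ℕ) (t : K) : X r t ∈ chevE6.group K := certFullE6.xg_mem_group_all r t

theorem tX_mem {r : ℕ} (hr : r < 72) (t : K) : tX f r t ∈ chevE6.group K := by
  rw [tX_eq f hr]; exact X_mem _ _

theorem tX_fixed {r : ℕ} (hr : r < 72) (h : graphE6.ρ r = r) (t : K) : tX f r t = X r (f t) := by
  rw [tX_eq f hr, (graph_spec hr).2.2.2.1 h, h, Int.cast_one, one_mul]

theorem com_commute {a b : ℕ} (ha : a < 72) (hb : b < 72) (h : com a b = true) (t u : K) :
    Commute (X a t) (X b u) := by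
  simp only [com, Bool.or_eq_true, Nat.beq_eq, Bool.and_eq_true, Bool.not_eq_true',
    List.isEmpty_iff] at h
  by_cases e : a = b
  · subst e
    show _ * _ = _ * _
    rw [← certFullE6.xg_add, ← certFullE6.xg_add, add_comm]
  obtain ⟨h1, h2⟩ := h.resolve_left e
  refine certFullE6.xg_commute ha hb (Ne.symm e) (fun e' => ?_) h2 t u
  rw [certFullE6.neg_eq (show a < chevE6.nroots from ha)] at e'
  rw [beq_of_eq e'] at h1
  exact Bool.noConfusion h1

theorem act_commute {g h : GL chevE6.Idx K} (hg : g ∈ chevE6.group K) (hh : h ∈ chevE6.group K)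
    (e : Commute g h) : Commute ((tw f).act g) ((tw f).act h) := by
  show _ * _ = _ * _
  rw [← (tw f).act_mul hg hh, ← (tw f).act_mul hh hg, e.eq]

theorem X_tX_commute {r : ℕ} (hr : r < 72) (t u : K) : Commute (X r t) (tX f r u) := by
  rw [tX_eq f hr]
  exact com_commute hr (rho_lt hr) (graph_spec hr).2.2.2.2 _ _

theorem sgl_apply {a b : ℕ} (ha : a < 72) (hb : b < 72) (h : sgl a b = true) (t u : K) :
    ∃ D : GL chevE6.Idx K, X b u * X a t = X a t * X b u * D ∧
      (D = 1 ∨ ∃ y ∈ terms a b, ∃ w : K, D = X y w) := by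
  simp only [sgl, Bool.and_eq_true, Bool.not_eq_true'] at h
  obtain ⟨⟨h1, h2⟩, h3⟩ := h
  have e := certFullE6.xg_comm (show a < chevE6.nroots from ha) (show b < chevE6.nroots from hb)
    (fun e' => by rw [beq_of_eq e'] at h1; exact Bool.noConfusion h1) (fun e' => by
      rw [certFullE6.neg_eq (show a < chevE6.nroots from ha)] at e'
      rw [beq_of_eq e'] at h2; exact Bool.noConfusion h2) t u
  refine ⟨_, e, ?_⟩
  unfold terms
  split at h3
  · left
    simp_all
  · rename_i y k heq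
    right
    refine ⟨y, by simp [heq], (k : K) * (-t) ^ 1 * u ^ 1, ?_⟩
    simp [heq]
  · exact Bool.noConfusion h3

/-- The parameters of the orbit of a root. -/
noncomputable def par (r : ℕ) : AddSubgroup K :=
  if graphE6.ρ r = r then f.toAddMonoidHom.eqLocus (AddMonoidHom.id K) else ⊤

theorem mem_par {r : ℕ} {t : K} : t ∈ par f r ↔ (graphE6.ρ r = r → f t = t) := by
  unfold par
  split_ifs with h
  · exact ⟨fun e _ => e, fun e => e h⟩
  · exact ⟨fun _ e => absurd e h, fun _ => trivial⟩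

/-- The element of the orbit of a root. -/
noncomputable def gel (r : ℕ) (t : K) : GL chevE6.Idx K :=
  if graphE6.ρ r = r then X r t else X r t * tX f r t

theorem gel_fixed {r : ℕ} (h : graphE6.ρ r = r) (t : K) : gel f r t = X r t := if_pos h

theorem gel_pair {r : ℕ} (h : graphE6.ρ r ≠ r) (t : K) : gel f r t = X r t * tX f r t := if_neg h

theorem gel_add {r : ℕ} (hr : r < 72) (t u : K) : gel f r (t + u) = gel f r t * gel f r u := by
  by_cases h : graphE6.ρ r = r
  · rw [gel_fixed f h, gel_fixed f h, gel_fixed f h, certFullE6.xg_add]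
  · rw [gel_pair f h, gel_pair f h, gel_pair f h, certFullE6.xg_add, tX_eq f hr (t + u), map_add,
      mul_add, certFullE6.xg_add, ← tX_eq f hr, ← tX_eq f hr, mul_assoc, mul_assoc]
    congr 1
    rw [← mul_assoc, ← mul_assoc, (X_tX_commute f hr u t).eq]

theorem gel_zero {r : ℕ} (hr : r < 72) : gel f r (0 : K) = 1 := by
  have h := gel_add f hr (0 : K) 0
  rw [add_zero] at h
  exact mul_eq_left.1 h.symm

variable [Fintype K] {q : ℕ} (hf : ∀ t, f t = t ^ q) (hK : Fintype.card K = q ^ 2)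

include hf hK

theorem group_eq : twistedE6 K q = (tw f).fix := (datum f hf hK).eq_fix

theorem tX_tX {r : ℕ} (hr : r < 72) (t : K) : (tw f).act (tX f r t) = X r t := by
  obtain ⟨h1, h2, h3, -⟩ := graph_spec hr
  rw [tX_eq f hr, (tw f).act_xg (show graphE6.ρ r < chevE6.nroots from h1)]
  show X (graphE6.ρ (graphE6.ρ r)) ((graphE6.ε (graphE6.ρ r) : K) * f _) = _
  rw [h2, map_mul, map_intCast, pow_sq f hf hK, ← mul_assoc, ← Int.cast_mul,
    mul_comm (graphE6.ε (graphE6.ρ r)), h3, Int.cast_one, one_mul]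

theorem two_fix {r : ℕ} (hr : r < 72) (t : K) : X r t * tX f r t ∈ twistedE6 K q := by
  rw [group_eq f hf hK, (tw f).mem_fix]
  refine ⟨mul_mem (X_mem r t) (tX_mem f hr t), ?_⟩
  rw [(tw f).act_mul (X_mem r t) (tX_mem f hr t), tX_tX f hf hK hr]
  exact (X_tX_commute f hr t t).symm

theorem gel_mem {r : ℕ} (hr : r < 72) {t : K} (ht : t ∈ par f r) :
    gel f r t ∈ twistedE6 K q := by
  by_cases h : graphE6.ρ r = r
  · rw [gel_fixed f h, group_eq f hf hK, (tw f).mem_fix]
    refine ⟨X_mem r t, ?_⟩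
    show tX f r t = _
    rw [tX_fixed f hr h, (mem_par f).1 ht h]
  · rw [gel_pair f h]; exact two_fix f hf hK hr t

omit hf hK in
theorem X_injective {r : ℕ} (hr : r < 72) {a b : K} (e : X r a = X r b) : a = b := by
  have h : X r (a - b) = (1 : GL chevE6.Idx K) := by
    rw [sub_eq_add_neg, certFullE6.xg_add, ← certFullE6.xg_inv, e, mul_inv_cancel]
  exact sub_eq_zero.1 ((certFullE6.xg_eq_one_iff (show r < chevE6.nroots from hr) _).1 h)

theorem fixed_of_mem {r : ℕ} (hr : r < 72) (h : graphE6.ρ r = r) {t : K}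
    (hm : X r t ∈ twistedE6 K q) : t ∈ par f r := by
  refine (mem_par f).2 fun _ => ?_
  rw [group_eq f hf hK, (tw f).mem_fix] at hm
  have e : tX f r t = X r t := hm.2
  rw [tX_fixed f hr h] at e
  exact X_injective hr e

omit hf hK in
/-- The elements of the orbits of a list. -/
def gens (L : List ℕ) : Set (GL chevE6.Idx K) :=
  {g | ∃ y, hasO L y = true ∧ ∃ t ∈ par f y, g = gel f y t}

omit hf hK in
/-- The subgroup generated by the orbits of a list. -/
def FG (L : List ℕ) : Subgroup (GL chevE6.Idx K) := Subgroup.closure (gens f L)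

theorem FG_le (L : List ℕ) : FG f L ≤ twistedE6 K q := by
  refine (Subgroup.closure_le _).2 ?_
  rintro g ⟨y, hy, t, ht, rfl⟩
  simp only [hasO, Bool.and_eq_true, Nat.blt_eq] at hy
  exact gel_mem f hf hK hy.1 ht

theorem two_mem {L : List ℕ} {y : ℕ} (hy : hasO L y = true) (w : K) :
    X y w * tX f y w ∈ FG f L := by
  have hlt : y < 72 := by
    simp only [hasO, Bool.and_eq_true, Nat.blt_eq] at hy; exact hy.1
  by_cases h : graphE6.ρ y = y
  · rw [tX_fixed f hlt h, ← certFullE6.xg_add, ← gel_fixed f h]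
    refine Subgroup.subset_closure ⟨y, hy, w + f w, (mem_par f).2 fun _ => ?_, rfl⟩
    rw [map_add, pow_sq f hf hK, add_comm]
  · exact Subgroup.subset_closure ⟨y, hy, w, (mem_par f).2 fun e => absurd e h, (gel_pair f h w).symm⟩

theorem one_mem_fix {L : List ℕ} {y : ℕ} (hy : hasO L y = true) (h : fxd y = true) {w : K}
    (hm : X y w ∈ twistedE6 K q) : X y w ∈ FG f L := by
  have hlt : y < 72 := by
    simp only [hasO, Bool.and_eq_true, Nat.blt_eq] at hy; exact hy.1
  rw [← gel_fixed f (fxd_iff.1 h)]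
  exact Subgroup.subset_closure ⟨y, hy, w, fixed_of_mem f hf hK hlt (fxd_iff.1 h) hm, rfl⟩

omit hf hK in
theorem hasO_lt {L : List ℕ} {y : ℕ} (hy : hasO L y = true) : y < 72 := by
  simp only [hasO, Bool.and_eq_true, Nat.blt_eq] at hy; exact hy.1

theorem swap_FP {s x : ℕ} {L : List ℕ} (hs : s < 72) (hx : x < 72) (h : swapFP s L x = true)
    {t u : K} (ht : t ∈ par f s) (hu : u ∈ par f x) :
    ∃ z ∈ FG f L, gel f x u * gel f s t = gel f s t * gel f x u * z := by
  simp only [swapFP, Bool.and_eq_true, Bool.not_eq_true', List.all_eq_true] at h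
  obtain ⟨⟨⟨hfs, hfx⟩, hsg⟩, hall⟩ := h
  set A := X s t with hA
  set B := X x u with hB
  set B' := tX f x u with hB'
  have gA : gel f s t = A := gel_fixed f (fxd_iff.1 hfs) t
  have gB : gel f x u = B * B' := gel_pair f (not_fxd hfx) u
  have hA' : (tw f).act A = A := by
    have e := tX_fixed f hs (fxd_iff.1 hfs) t
    rwa [(mem_par f).1 ht (fxd_iff.1 hfs)] at e
  obtain ⟨D, hD, hD'⟩ := sgl_apply hs hx hsg t u
  have hBm : B' ∈ chevE6.group K := tX_mem f hx u
  rw [← hA, ← hB] at hD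
  rw [gA, gB]
  rcases hD' with rfl | ⟨y, hy, w, rfl⟩
  · refine ⟨1, one_mem _, ?_⟩
    rw [mul_one] at hD ⊢
    have h2 : Commute A B' := by
      have := act_commute f (X_mem s t) (X_mem x u) (show Commute A B from hD.symm)
      rwa [hA'] at this
    rw [mul_assoc, ← h2.eq, ← mul_assoc, hD, mul_assoc]
  obtain ⟨⟨hyL, hyx⟩, hz⟩ := hall y hy
  have hyl := hasO_lt hyL
  obtain ⟨Z, hZ, hZ'⟩ := sgl_apply hyl (rho_lt hx) hyx w ((graphE6.ε x : K) * f u)
  rw [← tX_eq f hx] at hZ
  rw [← hB'] at hZ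
  set E := X y w with hE
  set E' := tX f y w with hE'
  have hD2 : B' * A = A * B' * E' := by
    have e := congrArg (tw f).act hD
    rw [(tw f).act_mul (X_mem x u) (X_mem s t),
      (tw f).act_mul (mul_mem (X_mem s t) (X_mem x u)) (X_mem y w),
      (tw f).act_mul (X_mem s t) (X_mem x u), hA'] at e
    exact e
  have hZc : Commute E' Z⁻¹ := by
    rcases hZ' with rfl | ⟨z, hzm, v, rfl⟩
    · simp
    · refine Commute.inv_right ?_
      rw [hE', tX_eq f hyl]
      exact com_commute (rho_lt hyl) (hasO_lt (hz z hzm).1.1) (hz z hzm).2 _ _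
  have key : B * B' * A = A * (B * B') * (E * E' * Z⁻¹) := by
    have e1 : E * B' = B' * E * Z⁻¹ := by rw [hZ, mul_inv_cancel_right]
    calc B * B' * A = (B * A) * B' * E' := by
            rw [mul_assoc, hD2]; simp only [mul_assoc]
      _ = A * B * (E * B') * E' := by rw [hD]; simp only [mul_assoc]
      _ = A * (B * B') * (E * (Z⁻¹ * E')) := by rw [e1]; simp only [mul_assoc]
      _ = A * (B * B') * (E * E' * Z⁻¹) := by rw [← hZc.eq, mul_assoc E]
  refine ⟨E * E' * Z⁻¹, ?_, key⟩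
  refine mul_mem (two_mem f hf hK hyL w) (inv_mem ?_)
  rcases hZ' with rfl | ⟨z, hzm, v, rfl⟩
  · exact one_mem _
  · refine one_mem_fix f hf hK (hz z hzm).1.1 (hz z hzm).1.2 ?_
    have hgA : A ∈ twistedE6 K q := gA ▸ gel_mem f hf hK hs ht
    have hgB : B * B' ∈ twistedE6 K q := two_fix f hf hK hx u
    have hzz : (A * (B * B'))⁻¹ * (B * B' * A) ∈ twistedE6 K q :=
      mul_mem (inv_mem (mul_mem hgA hgB)) (mul_mem hgB hgA)
    rw [key, inv_mul_cancel_left] at hzz
    have := mul_mem (inv_mem (two_fix f hf hK hyl w)) hzz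
    rw [← hE, ← hE', inv_mul_cancel_left] at this
    simpa using inv_mem this

theorem swap_FF {s x : ℕ} {L : List ℕ} (hs : s < 72) (hx : x < 72) (h : swapFF s L x = true)
    {t u : K} (ht : t ∈ par f s) (hu : u ∈ par f x) :
    ∃ z ∈ FG f L, gel f x u * gel f s t = gel f s t * gel f x u * z := by
  simp only [swapFF, Bool.and_eq_true, List.all_eq_true] at h
  obtain ⟨⟨⟨hfs, hfx⟩, hsg⟩, hall⟩ := h
  have hA := gel_mem f hf hK hs ht
  have hB := gel_mem f hf hK hx hu
  rw [gel_fixed f (fxd_iff.1 hfs)] at hA ⊢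
  rw [gel_fixed f (fxd_iff.1 hfx)] at hB ⊢
  obtain ⟨D, hD, hD'⟩ := sgl_apply hs hx hsg t u
  refine ⟨D, ?_, hD⟩
  rcases hD' with rfl | ⟨y, hy, w, rfl⟩
  · exact one_mem _
  · refine one_mem_fix f hf hK (hall y hy).1 (hall y hy).2 ?_
    have := mul_mem (inv_mem (mul_mem hA hB)) (mul_mem hB hA)
    rwa [hD, inv_mul_cancel_left] at this

theorem swap_PP {s x : ℕ} {L : List ℕ} (hs : s < 72) (hx : x < 72) (h : swapPP s L x = true)
    (t u : K) : ∃ z ∈ FG f L, gel f x u * gel f s t = gel f s t * gel f x u * z := by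
  simp only [swapPP, Bool.and_eq_true, Bool.not_eq_true', List.all_eq_true, List.mem_append,
    List.mem_cons, List.not_mem_nil, or_false, List.mem_map] at h
  obtain ⟨⟨⟨⟨hfs, hfx⟩, h1⟩, h2⟩, hall⟩ := h
  rw [gel_pair f (not_fxd hfs), gel_pair f (not_fxd hfx)]
  set A := X s t with hA
  set A' := tX f s t with hA'
  set B := X x u with hB
  set B' := tX f x u with hB'
  set ys := terms s x ++ terms s (graphE6.ρ x) with hys
  obtain ⟨D₁, hD₁, hD₁'⟩ := sgl_apply hs hx h1 t u
  obtain ⟨D₂, hD₂, hD₂'⟩ := sgl_apply hs (rho_lt hx) h2 t ((graphE6.ε x : K) * f u)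
  rw [← tX_eq f hx] at hD₂
  have hm : ∀ {D : GL chevE6.Idx K}, (D = 1 ∨ ∃ y, (y ∈ terms s x ∨ y ∈ terms s (graphE6.ρ x)) ∧
      ∃ w : K, D = X y w) → D ∈ chevE6.group K := by
    rintro D (rfl | ⟨y, -, w, rfl⟩)
    exacts [one_mem _, X_mem y w]
  have w₁ : D₁ = 1 ∨ ∃ y, (y ∈ terms s x ∨ y ∈ terms s (graphE6.ρ x)) ∧ ∃ w : K, D₁ = X y w :=
    hD₁'.imp_right fun ⟨y, hy, e⟩ => ⟨y, Or.inl hy, e⟩
  have w₂ : D₂ = 1 ∨ ∃ y, (y ∈ terms s x ∨ y ∈ terms s (graphE6.ρ x)) ∧ ∃ w : K, D₂ = X y w :=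
    hD₂'.imp_right fun ⟨y, hy, e⟩ => ⟨y, Or.inr hy, e⟩
  have hc : ∀ {D : GL chevE6.Idx K}, (D = 1 ∨ ∃ y, (y ∈ terms s x ∨ y ∈ terms s (graphE6.ρ x)) ∧
      ∃ w : K, D = X y w) → ∀ z, z < 72 → (z = s ∨ z = graphE6.ρ s ∨ z = x ∨ z = graphE6.ρ x) →
      ∀ v : K, Commute D (X z v) := by
    rintro D (rfl | ⟨y, hy, w, rfl⟩) z hz hzc v
    · simp
    · exact com_commute (hasO_lt (hall y hy).1) hz ((hall y hy).2 z (Or.inl (Or.inl hzc))) w v
  have cA : Commute D₁ A ∧ Commute D₂ A := ⟨hc w₁ s hs (by simp) t, hc w₂ s hs (by simp) t⟩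
  have cA' : Commute D₁ A' ∧ Commute D₂ A' := by
    rw [hA', tX_eq f hs]
    exact ⟨hc w₁ _ (rho_lt hs) (by simp) _, hc w₂ _ (rho_lt hs) (by simp) _⟩
  have cB : Commute D₁ B ∧ Commute D₂ B := ⟨hc w₁ x hx (by simp) u, hc w₂ x hx (by simp) u⟩
  have cB' : Commute D₁ B' ∧ Commute D₂ B' := by
    rw [hB', tX_eq f hx]
    exact ⟨hc w₁ _ (rho_lt hx) (by simp) _, hc w₂ _ (rho_lt hx) (by simp) _⟩
  have cDD : ∀ {D E : GL chevE6.Idx K},
      (D = 1 ∨ ∃ y, (y ∈ terms s x ∨ y ∈ terms s (graphE6.ρ x)) ∧ ∃ w : K, D = X y w) →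
      (E = 1 ∨ ∃ y, (y ∈ terms s x ∨ y ∈ terms s (graphE6.ρ x)) ∧ ∃ w : K, E = X y w) →
      Commute D E ∧ Commute D ((tw f).act E) := by
    rintro D E (rfl | ⟨y, hy, w, rfl⟩) hE
    · simp
    rcases hE with rfl | ⟨y', hy', w', rfl⟩
    · rw [(tw f).act_one]; simp
    have hy'l := hasO_lt (hall y' hy').1
    refine ⟨com_commute (hasO_lt (hall y hy).1) hy'l ((hall y hy).2 y' (Or.inl (Or.inr hy'))) w w', ?_⟩
    show Commute _ (tX f y' w')
    rw [tX_eq f hy'l]
    exact com_commute (hasO_lt (hall y hy).1) (rho_lt hy'l)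
      ((hall y hy).2 _ (Or.inr ⟨y', hy', rfl⟩)) w _
  set S₁ := (tw f).act D₁ with hS₁
  set S₂ := (tw f).act D₂ with hS₂
  have hAm := X_mem (K := K) s t
  have hBm := X_mem (K := K) x u
  have hA'm := tX_mem f hs t
  have hB'm := tX_mem f hx u
  have e11 : B' * A' = A' * B' * S₁ := by
    have e := congrArg (tw f).act hD₁
    rwa [(tw f).act_mul hBm hAm, (tw f).act_mul (mul_mem hAm hBm) (hm w₁),
      (tw f).act_mul hAm hBm] at e
  have e21 : B * A' = A' * B * S₂ := by
    have e := congrArg (tw f).act hD₂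
    rwa [(tw f).act_mul hB'm hAm, (tw f).act_mul (mul_mem hAm hB'm) (hm w₂),
      (tw f).act_mul hAm hB'm, show (tw f).act B' = B from tX_tX f hf hK hx u] at e
  have sB' : Commute S₂ B' := act_commute f (hm w₂) hBm cB.2
  have key : B * B' * (A * A') = A * A' * (B * B') * ((D₁ * S₁) * (D₂ * S₂)) := by
    calc B * B' * (A * A') = B * (B' * A) * A' := by simp only [mul_assoc]
      _ = B * (A * B' * D₂) * A' := by rw [hD₂]
      _ = (B * A) * (B' * (D₂ * A')) := by simp only [mul_assoc]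
      _ = A * B * D₁ * (B' * (A' * D₂)) := by rw [hD₁, cA'.2.eq]
      _ = A * B * (D₁ * (B' * A')) * D₂ := by simp only [mul_assoc]
      _ = A * B * ((B' * A') * D₁) * D₂ := by rw [(cB'.1.mul_right cA'.1).eq]
      _ = A * B * (A' * B' * S₁ * D₁) * D₂ := by rw [e11]
      _ = A * (B * A') * (B' * (S₁ * (D₁ * D₂))) := by simp only [mul_assoc]
      _ = A * A' * B * (S₂ * B') * (S₁ * (D₁ * D₂)) := by rw [e21]; simp only [mul_assoc]
      _ = A * A' * (B * B') * (S₂ * (S₁ * (D₁ * D₂))) := by rw [sB'.eq]; simp only [mul_assoc]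
      _ = A * A' * (B * B') * ((D₁ * S₁) * (D₂ * S₂)) := by
        congr 1
        have a11 : Commute D₁ S₁ := (cDD w₁ w₁).2
        have a12 : Commute D₁ S₂ := (cDD w₁ w₂).2
        have a22 : Commute D₂ S₂ := (cDD w₂ w₂).2
        have b12 : Commute S₁ S₂ := act_commute f (hm w₁) (hm w₂) (cDD w₁ w₂).1
        rw [← mul_assoc S₁, ← a11.eq, ← mul_assoc S₂,
          (Commute.mul_right a12.symm b12.symm).eq, mul_assoc (D₁ * S₁), a22.eq]
  have hF : ∀ {D : GL chevE6.Idx K}, (D = 1 ∨ ∃ y, (y ∈ terms s x ∨ y ∈ terms s (graphE6.ρ x)) ∧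
      ∃ w : K, D = X y w) → D * (tw f).act D ∈ FG f L := by
    rintro D (rfl | ⟨y, hy, w, rfl⟩)
    · rw [(tw f).act_one, mul_one]; exact one_mem _
    · exact two_mem f hf hK (hall y hy).1 w
  exact ⟨_, mul_mem (hF w₁) (hF w₂), key⟩

theorem swap_mem {s x : ℕ} {L : List ℕ} (hs : s < 72) (hx : x < 72) (h : omoves s L x = true)
    {t u : K} (ht : t ∈ par f s) (hu : u ∈ par f x) :
    ∃ z ∈ FG f L, gel f x u * gel f s t = gel f s t * gel f x u * z := by
  simp only [omoves, Bool.or_eq_true] at h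
  rcases h with (((h | h) | h) | h) | h
  · refine ⟨1, one_mem _, ?_⟩
    simp only [allCom, Bool.and_eq_true] at h
    obtain ⟨⟨⟨h1, h2⟩, h3⟩, h4⟩ := h
    have c1 := com_commute hs hx h1 t u
    have c2 : Commute (X s t) (tX f x u) := by
      rw [tX_eq f hx]; exact com_commute hs (rho_lt hx) h2 _ _
    have c3 : Commute (tX f s t) (X x u) := by
      rw [tX_eq f hs]; exact com_commute (rho_lt hs) hx h3 _ _
    have c4 : Commute (tX f s t) (tX f x u) := by
      rw [tX_eq f hs, tX_eq f hx]; exact com_commute (rho_lt hs) (rho_lt hx) h4 _ _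
    rw [mul_one]
    unfold gel
    split_ifs
    exacts [c1.symm.eq, (c1.mul_left c3).symm.eq, (c1.mul_right c2).symm.eq,
      ((c1.mul_left c3).mul_right (c2.mul_left c4)).symm.eq]
  · exact swap_FF f hf hK hs hx h ht hu
  · exact swap_FP f hf hK hs hx h ht hu
  · obtain ⟨z, hz, e⟩ := swap_FP f hf hK hx hs h hu ht
    refine ⟨z⁻¹, inv_mem hz, ?_⟩
    rw [e, mul_inv_cancel_right]
  · exact swap_PP f hf hK hs hx h t u

/-- The two orbits commute into the orbit of `r`. -/
theorem joins_mem {a b r : ℕ} (ha : a < 72) (hb : b < 72) (h : joinsO a b r = true) :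
    r < 72 ∧ (fxd a = fxd b) ∧ (fxd a = true → fxd r = true) ∧
      ∃ k : K, k ≠ 0 ∧ f k = k ∧ ∀ (t u : K),
        gel f b u * gel f a t = gel f a t * gel f b u *
          (if graphE6.ρ a = a then X r (k * t * u)
            else X r (k * t * u) * tX f r (k * t * u)) := by
  simp only [joinsO, Tables.joins, Bool.and_eq_true, Bool.or_eq_true, Bool.not_eq_true',
    decide_eq_true_eq, Nat.blt_eq, List.all_eq_true, List.mem_cons, List.not_mem_nil,
    or_false] at h
  obtain ⟨⟨hr, ⟨hne, hn⟩, hk⟩, hc⟩ := h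
  obtain ⟨k, hk1, hk⟩ : ∃ k : ℤ, (k = 1 ∨ k = -1) ∧
      certFullE6.T.commTerms a b = [(r, k, 1, 1)] := by
    rcases hk with e | e
    exacts [⟨1, Or.inl rfl, e⟩, ⟨-1, Or.inr rfl, e⟩]
  have e : ∀ t u : K, X b u * X a t = X a t * X b u * X r (-(k : K) * t * u) := by
    intro t u
    have e := certFullE6.xg_comm (show a < chevE6.nroots from ha) (show b < chevE6.nroots from hb)
      (fun e' => by rw [beq_of_eq e'] at hne; exact Bool.noConfusion hne) (fun e' => by
        rw [certFullE6.neg_eq (show a < chevE6.nroots from ha)] at e'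
        rw [beq_of_eq e'] at hn; exact Bool.noConfusion hn) t u
    rw [hk] at e
    simp only [List.map_cons, List.map_nil, List.prod_cons, List.prod_nil, mul_one, pow_one] at e
    rw [e]
    congr 2
    ring
  refine ⟨hr, ?_, ?_, -(k : K), by rcases hk1 with rfl | rfl <;> simp, by simp, fun t u => ?_⟩
  · rcases hc with ⟨⟨h1, h2⟩, -⟩ | ⟨⟨⟨h1, h2⟩, -⟩, -⟩ <;> rw [h1, h2]
  · intro ha'
    rcases hc with ⟨-, h3⟩ | ⟨⟨⟨h1, -⟩, -⟩, -⟩
    · exact h3
    · rw [ha'] at h1; exact Bool.noConfusion h1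
  rcases hc with ⟨⟨h1, h2⟩, -⟩ | ⟨⟨⟨h1, h2⟩, hab⟩, hall⟩
  · rw [gel_fixed f (fxd_iff.1 h1), gel_fixed f (fxd_iff.1 h2), if_pos (fxd_iff.1 h1)]
    exact e t u
  rw [gel_pair f (not_fxd h1), gel_pair f (not_fxd h2), if_neg (not_fxd h1)]
  set A := X a t with hA
  set A' := tX f a t with hA'
  set B := X b u with hB
  set B' := tX f b u with hB'
  set D := X r (-(k : K) * t * u) with hD
  set D' := tX f r (-(k : K) * t * u) with hD'
  have hAm := X_mem (K := K) a t
  have hBm := X_mem (K := K) b u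
  have c1 : Commute A B' := by rw [hB', tX_eq f hb]; exact com_commute ha (rho_lt hb) hab _ _
  have c2 : Commute A' B := by
    have := act_commute f hAm (tX_mem f hb u) c1
    rwa [show (tw f).act B' = B from tX_tX f hf hK hb u] at this
  have dA' : Commute D A' := by
    rw [hA', tX_eq f ha]; exact com_commute hr (rho_lt ha) (hall _ (Or.inr (Or.inl rfl))) _ _
  have dB' : Commute D B' := by
    rw [hB', tX_eq f hb]
    exact com_commute hr (rho_lt hb) (hall _ (Or.inr (Or.inr (Or.inr (Or.inl rfl))))) _ _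
  have e' : B' * A' = A' * B' * D' := by
    have e1 := congrArg (tw f).act (e t u)
    rwa [(tw f).act_mul hBm hAm, (tw f).act_mul (mul_mem hAm hBm) (X_mem r _),
      (tw f).act_mul hAm hBm] at e1
  calc B * B' * (A * A') = B * (B' * A) * A' := by simp only [mul_assoc]
    _ = (B * A) * (B' * A') := by rw [← c1.eq]; simp only [mul_assoc]
    _ = A * B * (D * (A' * B')) * D' := by
      rw [show B * A = A * B * D from e t u, e']; simp only [mul_assoc]
    _ = A * (B * A') * B' * (D * D') := by rw [(dA'.mul_right dB').eq]; simp only [mul_assoc]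
    _ = A * A' * (B * B') * (D * D') := by rw [← c2.eq]; simp only [mul_assoc]

end Cfsg.Agent.Lie.Chev.E6.Deg
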