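import Cfsg.Agent.Lib.Lie.Chev.ReeInvolution
import Cfsg.Agent.Lib.Transfer.Burnside

/-! Fusion of involutions in a small Ree group and the normaliser of a Sylow 2-subgroup. -/

set_option autoImplicit false
set_option maxRecDepth 4000

namespace Cfsg.Agent.Lie.Chev.G2

open Cfsg.Lie Matrix
open scoped MatrixGroups commutatorElement

section Abstract

variable {G : Type*} [Group G] [Finite G]

/-- In a perfect group an abelian Sylow subgroup has no non-trivial element centralised by its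
normaliser. -/
theorem eq_one_of_normalizer_fixed {p : ℕ} [Fact p.Prime] (hperf : commutator G = ⊤) (T : Sylow p G)
    (hT : IsMulCommutative T) {x : G} (hx : x ∈ (T : Subgroup G))
    (hfix : ∀ n ∈ Subgroup.normalizer (T : Set G), n * x * n⁻¹ = x) : x = 1 := by
  classical
  set N := Subgroup.normalizer (T : Set G) with hN
  letI : CommGroup ↥(T : Subgroup G) := { (inferInstance : Group ↥(T : Subgroup G)) with
    mul_comm := hT.is_comm.comm }
  set T' : Subgroup ↥N := (T : Subgroup G).subgroupOf N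
  letI : Fintype (↥N ⧸ T') := Fintype.ofFinite _
  have hTN : (T : Subgroup G) ≤ N := Subgroup.le_normalizer
  let cj : ↥N → ↥(T : Subgroup G) → ↥(T : Subgroup G) := fun n t =>
    ⟨(n : G) * t * (n : G)⁻¹, (Subgroup.mem_normalizer_iff.1 n.2 t).1 t.2⟩
  let cq : ↥N ⧸ T' → ↥(T : Subgroup G) → ↥(T : Subgroup G) := fun q t =>
    Quotient.liftOn' q (fun n => cj n t) fun n n' h => Subtype.ext (by
      rw [QuotientGroup.leftRel_apply] at h
      have hc : (n : G)⁻¹ * n' * t = t * ((n : G)⁻¹ * n') :=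
        congrArg Subtype.val (hT.is_comm.comm ⟨_, h⟩ t)
      show (n : G) * t * (n : G)⁻¹ = n' * t * (n' : G)⁻¹
      calc (n : G) * t * (n : G)⁻¹ = n * ((t : G) * ((n : G)⁻¹ * n')) * (n' : G)⁻¹ := by group
        _ = n * (((n : G)⁻¹ * n') * t) * (n' : G)⁻¹ := by rw [hc]
        _ = _ := by group)
  let φ : ↥(T : Subgroup G) →* ↥(T : Subgroup G) :=
    { toFun := fun t => ∏ q, cq q t
      map_one' := Finset.prod_eq_one fun q _ => by
        obtain ⟨n, rfl⟩ := QuotientGroup.mk_surjective q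
        exact Subtype.ext (by show (n : G) * 1 * (n : G)⁻¹ = 1; group)
      map_mul' := fun s t => by
        rw [← Finset.prod_mul_distrib]
        refine Finset.prod_congr rfl fun q _ => ?_
        obtain ⟨n, rfl⟩ := QuotientGroup.mk_surjective q
        exact Subtype.ext (by
          show (n : G) * ((s : G) * t) * (n : G)⁻¹ = n * s * (n : G)⁻¹ * (n * t * (n : G)⁻¹)
          group) }
  have hinv : ∀ (n : ↥N) t, φ (cj n t) = φ t := by
    intro n t
    let e : ↥N ⧸ T' ≃ ↥N ⧸ T' := Equiv.ofBijective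
      (fun q => Quotient.liftOn' q (fun k => (QuotientGroup.mk (k * n) : ↥N ⧸ T'))
        (fun k k' h => by
          rw [QuotientGroup.leftRel_apply] at h
          refine QuotientGroup.eq.2 ?_
          rw [show (k * n)⁻¹ * (k' * n) = n⁻¹ * (k⁻¹ * k') * n by group, Subgroup.mem_subgroupOf]
          simp only [Subgroup.coe_mul, Subgroup.coe_inv]
          have := (Subgroup.mem_normalizer_iff.1 (inv_mem n.2) _).1 h
          simpa [mul_assoc] using this))
      (by
        refine Finite.injective_iff_bijective.1 fun q q' h => ?_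
        obtain ⟨k, rfl⟩ := QuotientGroup.mk_surjective q
        obtain ⟨k', rfl⟩ := QuotientGroup.mk_surjective q'
        have h' := QuotientGroup.eq.1 h
        refine QuotientGroup.eq.2 ?_
        rw [Subgroup.mem_subgroupOf] at h' ⊢
        simp only [Subgroup.coe_mul, Subgroup.coe_inv, _root_.mul_inv_rev] at h' ⊢
        have := (Subgroup.mem_normalizer_iff.1 n.2 _).1 h'
        simpa [mul_assoc] using this)
    show ∏ q, cq q (cj n t) = ∏ q, cq q t
    refine Fintype.prod_equiv e _ _ fun q => ?_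
    obtain ⟨k, rfl⟩ := QuotientGroup.mk_surjective q
    exact Subtype.ext (by
      show (k : G) * ((n : G) * t * (n : G)⁻¹) * (k : G)⁻¹ = k * n * t * ((k : G) * n)⁻¹
      group)
  have hker : ⁅(T : Subgroup G), N⁆ ≤ φ.ker.map (T : Subgroup G).subtype := by
    rw [Subgroup.commutator_le]
    intro t ht n hn
    refine ⟨⟨t, ht⟩ * (cj ⟨n, hn⟩ ⟨t, ht⟩)⁻¹, ?_, ?_⟩
    · show φ _ = 1
      rw [map_mul, map_inv, hinv, mul_inv_cancel]
    · show t * (n * t * n⁻¹)⁻¹ = ⁅t, n⁆
      rw [commutatorElement_def]; group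
  have hxm := hker ((Transfer.abelian_sylow_inf_commutator T hT).1
    ⟨by rw [hperf]; exact Subgroup.mem_top x, hx⟩)
  obtain ⟨y, hy, hyx⟩ := hxm
  obtain rfl : y = ⟨x, hx⟩ := Subtype.ext hyx
  have hpow : φ ⟨x, hx⟩ = (⟨x, hx⟩ : ↥(T : Subgroup G)) ^ T'.index := by
    show ∏ q, cq q _ = _
    rw [Finset.prod_congr rfl fun q _ => (by
      obtain ⟨n, rfl⟩ := QuotientGroup.mk_surjective q
      exact Subtype.ext (hfix n n.2) : cq q ⟨x, hx⟩ = ⟨x, hx⟩), Finset.prod_const,
      Finset.card_univ, Subgroup.index, Nat.card_eq_fintype_card]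
  rw [SetLike.mem_coe, MonoidHom.mem_ker, hpow] at hy
  have hy' : x ^ T'.index = 1 := congrArg Subtype.val hy
  have hndvd : ¬ p ∣ T'.index := fun h =>
    T.not_dvd_index (h.trans ((Subgroup.relIndex_dvd_index_of_le hTN)))
  obtain ⟨k, hk⟩ := T.isPGroup' ⟨x, hx⟩
  have hk' : x ^ (p ^ k) = 1 := congrArg Subtype.val hk
  have hcop : Nat.Coprime T'.index (p ^ k) :=
    Nat.Coprime.pow_right k (Nat.Coprime.symm ((Fact.out : p.Prime).coprime_iff_not_dvd.2 hndvd))
  exact orderOf_eq_one_iff.1 (Nat.eq_one_of_dvd_coprimes hcop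
    (orderOf_dvd_of_pow_eq_one hy') (orderOf_dvd_of_pow_eq_one hk'))

end Abstract

section PSL

variable {F : Type*} [Field F] [Fintype F]

/-- A projective element commuting with a four group is an involution or trivial. -/
theorem psl_sq_eq_one (h2 : (2 : F) ≠ 0)
    {x₁ x₂ y : Matrix.ProjectiveSpecialLinearGroup (Fin 2) F} (h1 : x₁ * x₁ = 1) (h1' : x₁ ≠ 1)
    (hx₂ : x₂ * x₂ = 1) (hx₂' : x₂ ≠ 1) (hne : x₁ ≠ x₂) (hc : x₁ * x₂ = x₂ * x₁)
    (hy₁ : y * x₁ = x₁ * y) (hy₂ : y * x₂ = x₂ * y) : y * y = 1 := by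
  obtain ⟨A, rfl⟩ := QuotientGroup.mk'_surjective _ x₁
  obtain ⟨B, rfl⟩ := QuotientGroup.mk'_surjective _ x₂
  obtain ⟨Y, rfl⟩ := QuotientGroup.mk'_surjective _ y
  change PSL2Spec.proj A * PSL2Spec.proj A = 1 at h1
  change PSL2Spec.proj B * PSL2Spec.proj B = 1 at hx₂
  change PSL2Spec.proj A * PSL2Spec.proj B = PSL2Spec.proj B * PSL2Spec.proj A at hc
  change PSL2Spec.proj Y * PSL2Spec.proj A = PSL2Spec.proj A * PSL2Spec.proj Y at hy₁
  change PSL2Spec.proj Y * PSL2Spec.proj B = PSL2Spec.proj B * PSL2Spec.proj Y at hy₂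
  change PSL2Spec.proj A ≠ 1 at h1'
  change PSL2Spec.proj B ≠ 1 at hx₂'
  change PSL2Spec.proj A ≠ PSL2Spec.proj B at hne
  show PSL2Spec.proj Y * PSL2Spec.proj Y = 1
  have hsg : ∀ (U V : SL(2, F)), PSL2Spec.proj U = PSL2Spec.proj V →
      U.1 = V.1 ∨ U.1 = -V.1 := by
    intro U V e
    obtain ⟨c, hc, hU⟩ := (PSL2Spec.proj_eq_one_iff (U * V⁻¹)).1 (by rw [map_mul, map_inv, e]; simp)
    have : U.1 = c • V.1 := by
      rw [show U = (U * V⁻¹) * V by group, Matrix.SpecialLinearGroup.coe_mul, hU, Matrix.smul_mul,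
        one_mul]
    rcases PSL2Spec.eq_or_eq_neg_of_sq hc with rfl | rfl
    · exact Or.inl (by rw [this, one_smul])
    · exact Or.inr (by rw [this, neg_one_smul])
  have hone : ∀ U : SL(2, F), (U.1 = 1 ∨ U.1 = -1) → PSL2Spec.proj U = 1 := by
    intro U hU
    refine (PSL2Spec.proj_eq_one_iff U).2 ?_
    rcases hU with h | h
    · exact ⟨1, by simp, by rw [h, one_smul]⟩
    · exact ⟨-1, by simp, by rw [h, neg_one_smul]⟩
  -- elements of square one are scalar, anticommuting elements have square minus one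
  have hsq : ∀ U : SL(2, F), U.1 * U.1 = 1 → PSL2Spec.proj U = 1 := by
    intro U hU
    have h := PSL2Spec.sl_sq U
    rw [hU, eq_sub_iff_add_eq] at h
    have d := det_two U
    have h00 := congrFun (congrFun h 0) 0
    have h01 := congrFun (congrFun h 0) 1
    have h10 := congrFun (congrFun h 1) 0
    have h11 := congrFun (congrFun h 1) 1
    simp [Matrix.trace_fin_two] at h00 h01 h10 h11
    have htr : U.1 0 0 + U.1 1 1 ≠ 0 := fun e => h2 (by
      rw [e, zero_mul] at h00; linear_combination h00)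
    have hb : U.1 0 1 = 0 := h01.resolve_left htr
    have hc' : U.1 1 0 = 0 := h10.resolve_left htr
    have hd : U.1 0 0 = U.1 1 1 := mul_left_cancel₀ htr (h00.symm.trans h11)
    have hsq1 : U.1 0 0 * U.1 0 0 = 1 := by
      linear_combination d + U.1 1 0 * hb + U.1 0 0 * hd
    refine hone U ?_
    rcases mul_self_eq_one_iff.1 hsq1 with e | e
    · left; ext i j; fin_cases i <;> fin_cases j <;> simp [hb, hc', ← hd, e]
    · right; ext i j; fin_cases i <;> fin_cases j <;> simp [hb, hc', ← hd, e]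
  have hanti : ∀ U V : SL(2, F), U.1 * V.1 = -(V.1 * U.1) → U.1 * U.1 = -1 := by
    intro U V e
    have hV : (V⁻¹).1 * V.1 = 1 := by
      rw [← Matrix.SpecialLinearGroup.coe_mul, inv_mul_cancel, Matrix.SpecialLinearGroup.coe_one]
    have ht : U.1.trace = 0 := by
      have h1 : (V⁻¹).1 * (U.1 * V.1) = -U.1 := by
        rw [e, mul_neg, ← mul_assoc, hV, one_mul]
      have h2' := congrArg Matrix.trace h1
      rw [← mul_assoc, Matrix.trace_mul_cycle, Matrix.trace_neg,
        show V.1 * (V⁻¹).1 = 1 by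
          rw [← Matrix.SpecialLinearGroup.coe_mul, mul_inv_cancel,
            Matrix.SpecialLinearGroup.coe_one], one_mul] at h2'
      exact mul_left_cancel₀ h2 (by linear_combination h2')
    rw [PSL2Spec.sl_sq U, ht, zero_smul, zero_sub]
  have hA : A.1 * A.1 = -1 := by
    rw [← map_mul, ← map_one (PSL2Spec.proj (F := F))] at h1
    rcases hsg _ _ h1 with e | e
    · rw [Matrix.SpecialLinearGroup.coe_mul, Matrix.SpecialLinearGroup.coe_one] at e
      exact absurd (hsq A e) h1'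
    · rwa [Matrix.SpecialLinearGroup.coe_mul, Matrix.SpecialLinearGroup.coe_one] at e
  have hB : B.1 * B.1 = -1 := by
    rw [← map_mul, ← map_one (PSL2Spec.proj (F := F))] at hx₂
    rcases hsg _ _ hx₂ with e | e
    · rw [Matrix.SpecialLinearGroup.coe_mul, Matrix.SpecialLinearGroup.coe_one] at e
      exact absurd (hsq B e) hx₂'
    · rwa [Matrix.SpecialLinearGroup.coe_mul, Matrix.SpecialLinearGroup.coe_one] at e
  have hAB : A.1 * B.1 = -(B.1 * A.1) := by
    rw [← map_mul, ← map_mul] at hc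
    rcases hsg _ _ hc with e | e <;> simp only [Matrix.SpecialLinearGroup.coe_mul] at e
    · exfalso
      refine hne ?_
      have h3 : (A * B).1 * (A * B).1 = 1 := by
        rw [Matrix.SpecialLinearGroup.coe_mul]
        calc A.1 * B.1 * (A.1 * B.1) = A.1 * (B.1 * A.1) * B.1 := by simp only [mul_assoc]
          _ = A.1 * (A.1 * B.1) * B.1 := by rw [e]
          _ = (A.1 * A.1) * (B.1 * B.1) := by simp only [mul_assoc]
          _ = 1 := by rw [hA, hB, neg_mul_neg, one_mul]
      have h4 := hsq _ h3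
      rw [map_mul] at h4
      calc PSL2Spec.proj A = PSL2Spec.proj A * (PSL2Spec.proj B * PSL2Spec.proj B) := by
            rw [hx₂, mul_one]
        _ = _ := by rw [← mul_assoc, h4, one_mul]
    · exact e
  rw [← map_mul] at hy₁ hy₂ ⊢
  rw [← map_mul] at hy₁ hy₂
  have key : ∀ W : SL(2, F), W.1 * W.1 = -1 → PSL2Spec.proj (W * W) = 1 := fun W h =>
    hone _ (Or.inr (by rw [Matrix.SpecialLinearGroup.coe_mul, h]))
  rcases hsg _ _ hy₁ with ea | ea <;> simp only [Matrix.SpecialLinearGroup.coe_mul] at ea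
  · rcases hsg _ _ hy₂ with eb | eb <;> simp only [Matrix.SpecialLinearGroup.coe_mul] at eb
    · have e : (Y * A).1 * B.1 = -(B.1 * (Y * A).1) := by
        rw [Matrix.SpecialLinearGroup.coe_mul, mul_assoc, hAB, mul_neg, ← mul_assoc, eb, mul_assoc]
      have h3 := hanti (Y * A) B e
      rw [Matrix.SpecialLinearGroup.coe_mul] at h3
      refine hone _ (Or.inl ?_)
      rw [Matrix.SpecialLinearGroup.coe_mul]
      have h4 : Y.1 * A.1 * (Y.1 * A.1) = Y.1 * Y.1 * (A.1 * A.1) := by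
        calc Y.1 * A.1 * (Y.1 * A.1) = Y.1 * (A.1 * Y.1) * A.1 := by simp only [mul_assoc]
          _ = Y.1 * (Y.1 * A.1) * A.1 := by rw [ea]
          _ = _ := by simp only [mul_assoc]
      rw [h4, hA, mul_neg, mul_one, neg_inj] at h3
      exact h3
    · exact key Y (hanti Y B eb)
  · exact key Y (hanti Y A ea)

end PSL

variable {K : Type*} [Field K] (f : K →+* K) [CharP K 3] [ExpChar K 3]
variable [Fintype K] {m : ℕ} (hf : ∀ t, f t = t ^ 3 ^ m) (hK : Fintype.card K = 3 ^ (2 * m + 1))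

include hf hK

theorem sylow_two_comm (S : Sylow 2 ↥(twistedG2 K (3 ^ m))) : IsMulCommutative S := by
  have h := sylow_two_exponent f hf hK S
  refine ⟨⟨fun x y => Subtype.ext ?_⟩⟩
  have hx := h x x.2
  have hy := h y y.2
  have hxy := h _ (mul_mem x.2 y.2)
  simp only [Subgroup.coe_mul]
  calc (x : ↥(twistedG2 K (3 ^ m))) * y = x * (x * y * (x * y)) * y := by rw [hxy, mul_one]
    _ = (x * x) * (y * x) * (y * y) := by simp only [mul_assoc]
    _ = _ := by rw [hx, hy, one_mul, mul_one]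

theorem normalizer_sylow_two_transitive (hm : 1 ≤ m) (S : Sylow 2 ↥(twistedG2 K (3 ^ m)))
    {x y : ↥(twistedG2 K (3 ^ m))} (hx : x ∈ S) (hx1 : x ≠ 1) (hy : y ∈ S) (hy1 : y ≠ 1) :
    ∃ n ∈ Subgroup.normalizer ((S : Subgroup ↥(twistedG2 K (3 ^ m))) : Set ↥(twistedG2 K (3 ^ m))),
      n * x * n⁻¹ = y := by
  classical
  haveI : Fact (Nat.Prime 2) := ⟨Nat.prime_two⟩
  set N := Subgroup.normalizer
    ((S : Subgroup ↥(twistedG2 K (3 ^ m))) : Set ↥(twistedG2 K (3 ^ m))) with hN
  letI : MulAction ↥N ↥(twistedG2 K (3 ^ m)) :=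
    MulAction.compHom _ ((MulAut.conj : ↥(twistedG2 K (3 ^ m)) →* _).comp N.subtype)
  have hsmul : ∀ (n : ↥N) z, n • z = (n : ↥(twistedG2 K (3 ^ m))) * z * (↑n)⁻¹ := fun _ _ => rfl
  have hT' : ∀ z ∈ S, ∀ t : ↥N, (t : ↥(twistedG2 K (3 ^ m))) ∈ S → t • z = z := by
    intro z hz t ht
    rw [hsmul, mul_inv_eq_iff_eq_mul]
    exact congrArg Subtype.val ((sylow_two_comm f hf hK S).is_comm.comm ⟨_, ht⟩ ⟨z, hz⟩)
  have horb : ∀ z ∈ S, z ≠ 1 →
      MulAction.orbit ↥N z ⊆ ((S : Subgroup ↥(twistedG2 K (3 ^ m))) : Set ↥(twistedG2 K (3 ^ m))) \ {1} ∧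
      Odd (MulAction.orbit ↥N z).ncard ∧ 3 ≤ (MulAction.orbit ↥N z).ncard := by
    intro z hz hz1
    have hodd : Odd (MulAction.orbit ↥N z).ncard := by
      rw [← Nat.card_coe_set_eq, Nat.card_congr (MulAction.orbitEquivQuotientStabilizer ↥N z)]
      refine Nat.odd_iff.2 (Nat.two_dvd_ne_zero.1 fun hd => ?_)
      have hle : (S : Subgroup ↥(twistedG2 K (3 ^ m))).subgroupOf N ≤ MulAction.stabilizer ↥N z :=
        fun t ht => hT' z hz t ht
      exact S.not_dvd_index ((hd.trans (Subgroup.index_dvd_of_le hle)).trans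
        (Subgroup.relIndex_dvd_index_of_le Subgroup.le_normalizer))
    refine ⟨?_, hodd, ?_⟩
    · rintro _ ⟨n, rfl⟩
      refine ⟨(Subgroup.mem_normalizer_iff.1 n.2 z).1 hz, fun e => hz1 ?_⟩
      exact conj_eq_one_iff.1 (Set.mem_singleton_iff.1 e)
    · by_contra hlt
      obtain ⟨k, hk⟩ := hodd
      have hone : (MulAction.orbit ↥N z).ncard = 1 := by omega
      obtain ⟨w, hw⟩ := Set.ncard_eq_one.1 hone
      refine hz1 (eq_one_of_normalizer_fixed (perfect f hf hK hm) S (sylow_two_comm f hf hK S) hz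
        fun n hn => ?_)
      have h1 : z ∈ MulAction.orbit ↥N z := MulAction.mem_orbit_self z
      have h2 : (⟨n, hn⟩ : ↥N) • z ∈ MulAction.orbit ↥N z := MulAction.mem_orbit z _
      rw [hw, Set.mem_singleton_iff] at h1 h2
      exact h2.trans h1.symm
  by_contra hno
  have hyx : y ∉ MulAction.orbit ↥N x := by
    rintro ⟨n, hn⟩
    exact hno ⟨n, n.2, hn⟩
  obtain ⟨sx, ox, tx⟩ := horb x hx hx1
  obtain ⟨sy, oy, ty⟩ := horb y hy hy1
  have hd : Disjoint (MulAction.orbit ↥N x) (MulAction.orbit ↥N y) := by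
    rw [Set.disjoint_left]
    intro z hzx hzy
    rw [← MulAction.orbit_eq_iff.2 hzx, MulAction.orbit_eq_iff.2 hzy] at hyx
    exact hyx (MulAction.mem_orbit_self y)
  have h7 : (((S : Subgroup ↥(twistedG2 K (3 ^ m))) : Set ↥(twistedG2 K (3 ^ m))) \ {1}).ncard = 7 := by
    rw [Set.ncard_sdiff_singleton_of_mem (one_mem _), ← Nat.card_coe_set_eq]
    have := card_sylow_two f hf hK S
    simp only [SetLike.coe_sort_coe]
    omega
  have hu : (MulAction.orbit ↥N x ∪ MulAction.orbit ↥N y).ncard ≤ 7 :=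
    h7 ▸ Set.ncard_le_ncard (Set.union_subset sx sy) (Set.toFinite _)
  rw [Set.ncard_union_eq hd (Set.toFinite _) (Set.toFinite _)] at hu
  by_cases hall : (((S : Subgroup ↥(twistedG2 K (3 ^ m))) : Set ↥(twistedG2 K (3 ^ m))) \ {1}) ⊆
      MulAction.orbit ↥N x ∪ MulAction.orbit ↥N y
  · have := Set.ncard_le_ncard hall (Set.toFinite _)
    rw [h7, Set.ncard_union_eq hd (Set.toFinite _) (Set.toFinite _)] at this
    obtain ⟨i, hi⟩ := ox
    obtain ⟨j, hj⟩ := oy
    omega
  · obtain ⟨z, hz, hznot⟩ := Set.not_subset.1 hall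
    obtain ⟨sz, -, tz⟩ := horb z hz.1 (fun e => hz.2 e)
    have hd2 : Disjoint (MulAction.orbit ↥N x ∪ MulAction.orbit ↥N y) (MulAction.orbit ↥N z) := by
      rw [Set.disjoint_left]
      intro w hw hwz
      refine hznot ?_
      rcases hw with hw | hw
      · left; rw [← MulAction.orbit_eq_iff.2 hw, MulAction.orbit_eq_iff.2 hwz]
        exact MulAction.mem_orbit_self z
      · right; rw [← MulAction.orbit_eq_iff.2 hw, MulAction.orbit_eq_iff.2 hwz]
        exact MulAction.mem_orbit_self z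
    have := Set.ncard_le_ncard (Set.union_subset (Set.union_subset sx sy) sz) (Set.toFinite _)
    rw [h7, Set.ncard_union_eq hd2 (Set.toFinite _) (Set.toFinite _),
      Set.ncard_union_eq hd (Set.toFinite _) (Set.toFinite _)] at this
    omega

/-- All involutions are conjugate. -/
theorem exists_conj_iota (hm : 1 ≤ m) {x : ↥(twistedG2 K (3 ^ m))} (h2 : x * x = 1) (h1 : x ≠ 1) :
    ∃ g, g * x * g⁻¹ = iota f hf hK := by
  haveI : Fact (Nat.Prime 2) := ⟨Nat.prime_two⟩
  have hp : IsPGroup 2 (Subgroup.zpowers x) := by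
    refine IsPGroup.of_card (n := 1) ?_
    rw [Nat.card_zpowers, pow_one]
    exact orderOf_eq_prime (by rw [sq, h2]) h1
  have ha : IsPGroup 2 (Subgroup.zpowers (iota f hf hK)) := by
    refine IsPGroup.of_card (n := 1) ?_
    rw [Nat.card_zpowers, pow_one]
    exact orderOf_eq_prime (by rw [sq, iota_sq]) (iota_ne_one f hf hK)
  obtain ⟨P, hP⟩ := hp.exists_le_sylow
  obtain ⟨Q, hQ⟩ := ha.exists_le_sylow
  obtain ⟨g, hg⟩ := MulAction.exists_smul_eq ↥(twistedG2 K (3 ^ m)) P Q
  have hx' : g * x * g⁻¹ ∈ Q := by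
    rw [← hg]
    exact ⟨x, hP (Subgroup.mem_zpowers x), rfl⟩
  obtain ⟨n, -, hn⟩ := normalizer_sylow_two_transitive f hf hK hm Q hx'
    (fun e => h1 (conj_eq_one_iff.1 e)) (hQ (Subgroup.mem_zpowers _)) (iota_ne_one f hf hK)
  exact ⟨n * g, by rw [← hn]; group⟩

theorem sylow_two_centralizer (S : Sylow 2 ↥(twistedG2 K (3 ^ m))) :
    Subgroup.centralizer ((S : Subgroup ↥(twistedG2 K (3 ^ m))) : Set ↥(twistedG2 K (3 ^ m))) = S := by
  classical
  haveI : Fact (Nat.Prime 2) := ⟨Nat.prime_two⟩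
  haveI := sylow_two_comm f hf hK S
  refine le_antisymm (fun y hy => ?_) ?_
  swap
  · exact Subgroup.le_centralizer _
  obtain ⟨e⟩ := centralizer_iota_iso f hf hK
  set a := iota f hf hK
  set C := Subgroup.centralizer {a}
  -- move a Sylow subgroup containing `a` onto `S`
  obtain ⟨Q, hQ⟩ := (IsPGroup.of_card (p := 2) (n := 1) (G := ↥(Subgroup.zpowers a))
    (by rw [Nat.card_zpowers, pow_one]
        exact orderOf_eq_prime (by rw [sq, iota_sq]) (iota_ne_one f hf hK))).exists_le_sylow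
  obtain ⟨g, hg⟩ := MulAction.exists_smul_eq ↥(twistedG2 K (3 ^ m)) Q S
  have hmem : ∀ z ∈ Q, g * z * g⁻¹ ∈ S := fun z hz => hg ▸ ⟨z, hz, rfl⟩
  set y' := g⁻¹ * y * g with hy'
  have hcen : ∀ z ∈ Q, y' * z = z * y' := by
    intro z hz
    have h := Subgroup.mem_centralizer_iff.1 hy _ (hmem z hz)
    calc y' * z = g⁻¹ * (y * (g * z * g⁻¹)) * g := by rw [hy']; group
      _ = g⁻¹ * (g * z * g⁻¹ * y) * g := by rw [h]
      _ = _ := by rw [hy']; group
  have haQ : a ∈ Q := hQ (Subgroup.mem_zpowers a)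
  haveI := sylow_two_comm f hf hK Q
  have hQC : (Q : Subgroup ↥(twistedG2 K (3 ^ m))) ≤ C := fun z hz =>
    Subgroup.mem_centralizer_singleton_iff.2
      (congrArg Subtype.val ((sylow_two_comm f hf hK Q).is_comm.comm ⟨z, hz⟩ ⟨a, haQ⟩))
  have hyC : y' ∈ C := Subgroup.mem_centralizer_singleton_iff.2 (hcen a haQ)
  let π : ↥C →* Matrix.ProjectiveSpecialLinearGroup (Fin 2) K :=
    (MonoidHom.snd _ _).comp e.toMonoidHom
  let ι : ↥(Q : Subgroup ↥(twistedG2 K (3 ^ m))) → ↥C := fun z => ⟨z, hQC z.2⟩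
  -- the image of the Sylow subgroup has at least four elements
  have him : 4 ≤ (Set.range (π ∘ ι)).ncard := by
    have h1 : Nat.card ↥(Q : Subgroup ↥(twistedG2 K (3 ^ m))) ≤
        Nat.card (Multiplicative (ZMod 2) × ↥(Set.range (π ∘ ι))) := by
      refine Nat.card_le_card_of_injective
        (fun z => ((e (ι z)).1, (⟨π (ι z), z, rfl⟩ : ↥(Set.range (π ∘ ι))))) fun z z' h => ?_
      have h1 := congrArg Prod.fst h
      have h2 : π (ι z) = π (ι z') := congrArg Subtype.val (congrArg Prod.snd h)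
      have : e (ι z) = e (ι z') := Prod.ext h1 h2
      exact Subtype.ext (congrArg (fun w : ↥C => (w : ↥(twistedG2 K (3 ^ m)))) (e.injective this) :)
    rw [Nat.card_prod, show Nat.card (Multiplicative (ZMod 2)) = 2 from Nat.card_zmod 2,
      Nat.card_coe_set_eq, show Nat.card ↥(Q : Subgroup ↥(twistedG2 K (3 ^ m))) = 8 from
        card_sylow_two f hf hK Q] at h1
    omega
  obtain ⟨x₁, hx₁, h11⟩ : ∃ x ∈ Set.range (π ∘ ι), x ≠ 1 := by
    by_contra hcon
    push Not at hcon
    have := Set.ncard_le_ncard (t := {1}) (fun x hx => hcon x hx) (Set.toFinite _)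
    rw [Set.ncard_singleton] at this
    omega
  obtain ⟨x₂, hx₂, h21, h2ne⟩ : ∃ x ∈ Set.range (π ∘ ι), x ≠ 1 ∧ x ≠ x₁ := by
    by_contra hcon
    push Not at hcon
    have hsub : Set.range (π ∘ ι) ⊆ {1, x₁} := fun x hx => by
      by_cases h : x = 1
      · exact Or.inl h
      · exact Or.inr (hcon x hx h)
    have := (Set.ncard_le_ncard hsub (Set.toFinite _)).trans (Set.ncard_insert_le _ _)
    rw [Set.ncard_singleton] at this
    omega
  obtain ⟨z₁, rfl⟩ := hx₁
  obtain ⟨z₂, rfl⟩ := hx₂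
  have hQsq := sylow_two_exponent f hf hK Q
  have hsqi : ∀ z, π (ι z) * π (ι z) = 1 := fun z => by
    rw [← map_mul, show ι z * ι z = 1 from Subtype.ext (hQsq z z.2), map_one]
  have hyy : (π ⟨y', hyC⟩) * π ⟨y', hyC⟩ = 1 := by
    refine psl_sq_eq_one ?_ (hsqi z₁) h11 (hsqi z₂) h21 (Ne.symm h2ne) ?_ ?_ ?_ <;> try simp only [Function.comp_apply]
    · intro h
      exact one_ne_zero (α := K) (by linear_combination (three_eq_zero (K := K)) - h)
    · rw [← map_mul, ← map_mul, show ι z₁ * ι z₂ = ι z₂ * ι z₁ from Subtype.ext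
        ((congrArg Subtype.val ((sylow_two_comm f hf hK Q).is_comm.comm z₁ z₂)) :)]
    · rw [← map_mul, ← map_mul, show (⟨y', hyC⟩ : ↥C) * ι z₁ = ι z₁ * ⟨y', hyC⟩ from
        Subtype.ext (hcen _ z₁.2)]
    · rw [← map_mul, ← map_mul, show (⟨y', hyC⟩ : ↥C) * ι z₂ = ι z₂ * ⟨y', hyC⟩ from
        Subtype.ext (hcen _ z₂.2)]
  have hy2 : y * y = 1 := by
    have h : (⟨y', hyC⟩ : ↥C) * ⟨y', hyC⟩ = 1 := by
      refine e.injective ?_
      rw [map_mul, map_one]
      refine Prod.ext ?_ hyy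
      exact Multiplicative.toAdd.injective
        (CharTwo.add_self_eq_zero (Multiplicative.toAdd (e ⟨y', hyC⟩).1))
    have h' : y' * y' = 1 := congrArg Subtype.val h
    calc y * y = g * (y' * y') * g⁻¹ := by rw [hy']; group
      _ = 1 := by rw [h']; group
  -- hence `⟨S, y⟩` is a 2-group
  have hyN : y ∈ Subgroup.normalizer ((S : Subgroup ↥(twistedG2 K (3 ^ m))) : Set ↥(twistedG2 K (3 ^ m))) :=
    Subgroup.mem_normalizer_iff.2 fun z => ⟨fun hz => by
      rw [← Subgroup.mem_centralizer_iff.1 hy z hz, mul_inv_cancel_right]; exact hz,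
    fun hz => by
      have h := Subgroup.mem_centralizer_iff.1 hy _ hz
      have : z = y * z * y⁻¹ := by
        calc z = y⁻¹ * ((y * z * y⁻¹) * y) := by group
          _ = y⁻¹ * (y * (y * z * y⁻¹)) := by rw [h]
          _ = _ := by group
      rw [this]; exact hz⟩
  have hsup : IsPGroup 2 ↥(Subgroup.zpowers y ⊔ (S : Subgroup ↥(twistedG2 K (3 ^ m)))) := by
    refine IsPGroup.to_sup_of_normal_right' ?_ S.isPGroup' (Subgroup.zpowers_le.2 hyN)
    rintro ⟨z, hz⟩
    obtain ⟨k, rfl⟩ := hz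
    exact ⟨1, Subtype.ext (by
      show (y ^ k) ^ 2 = 1
      rw [← zpow_natCast, ← _root_.zpow_mul, mul_comm, _root_.zpow_mul, zpow_natCast, sq, hy2,
        _root_.one_zpow])⟩
  exact S.3 hsup le_sup_right ▸ Subgroup.mem_sup_left (Subgroup.mem_zpowers y)

theorem exists_three_normalizer : ∃ Q : Sylow 2 ↥(twistedG2 K (3 ^ m)), iota f hf hK ∈ Q ∧
    ∃ u ∈ Subgroup.normalizer
        ((Q : Subgroup ↥(twistedG2 K (3 ^ m))) : Set ↥(twistedG2 K (3 ^ m))),
      u * iota f hf hK = iota f hf hK * u ∧ orderOf u = 3 := by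
  classical
  haveI : Fact (Nat.Prime 2) := ⟨Nat.prime_two⟩
  haveI : Fact (Nat.Prime 3) := ⟨Nat.prime_three⟩
  obtain ⟨ψ, hup, hcent, hker, hnot⟩ := exists_slA f hf hK
  set a := iota f hf hK
  have h3 : (3 : K) = 0 := three_eq_zero
  let W : SL(2, K) := ⟨!![0, 1; -1, 0], by simp [Matrix.det_fin_two]⟩
  let B : SL(2, K) := ⟨!![1, 1; 1, -1], by
    simp [Matrix.det_fin_two]; linear_combination -h3⟩
  have hcen : ∀ Z : SL(2, K), (Z.1 = 1 ∨ Z.1 = -1) → ψ Z = 1 := by
    intro Z hZ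
    rw [← MonoidHom.mem_ker, hker, Matrix.SpecialLinearGroup.mem_center_iff]
    rcases hZ with h | h
    · exact ⟨1, by simp, by rw [h]; simp⟩
    · exact ⟨-1, by simp, by rw [h]; ext i j; fin_cases i <;> fin_cases j <;> simp⟩
  have hneg : ∀ X Y : SL(2, K), X.1 = -Y.1 → ψ X = ψ Y := by
    intro X Y e
    rw [← mul_inv_eq_one, ← map_inv, ← map_mul]
    refine hcen _ (Or.inr ?_)
    rw [Matrix.SpecialLinearGroup.coe_mul, e, neg_mul, ← Matrix.SpecialLinearGroup.coe_mul,
      mul_inv_cancel, Matrix.SpecialLinearGroup.coe_one]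
  have hWW : ψ W * ψ W = 1 := by
    rw [← map_mul]
    refine hcen _ (Or.inr ?_)
    simp only [Matrix.SpecialLinearGroup.coe_mul]; simp only [W]
    ext i j; fin_cases i <;> fin_cases j <;> simp [Matrix.mul_apply, Fin.sum_univ_two]
  have hBB : ψ B * ψ B = 1 := by
    rw [← map_mul]
    refine hcen _ (Or.inr ?_)
    simp only [Matrix.SpecialLinearGroup.coe_mul]; simp only [B]
    ext i j; fin_cases i <;> fin_cases j <;> simp [Matrix.mul_apply, Fin.sum_univ_two]
    all_goals linear_combination h3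
  have hWB : ψ W * ψ B = ψ B * ψ W := by
    rw [← map_mul, ← map_mul]
    refine hneg _ _ ?_
    simp only [Matrix.SpecialLinearGroup.coe_mul]; simp only [W, B]
    ext i j; fin_cases i <;> fin_cases j <;> simp [Matrix.mul_apply, Fin.sum_univ_two]
  have hne : ∀ Z : SL(2, K), Z.1 0 1 ≠ 0 → ψ Z ≠ 1 := by
    intro Z hZ e
    rw [← MonoidHom.mem_ker, hker, Matrix.SpecialLinearGroup.mem_center_iff] at e
    obtain ⟨r, -, hr⟩ := e
    exact hZ (by rw [← hr]; simp)
  -- the elementary subgroup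
  set P0 := Subgroup.closure ({ψ W, ψ B} : Set ↥(twistedG2 K (3 ^ m))) with hP0
  set H0 := Subgroup.closure ({a, ψ W, ψ B} : Set ↥(twistedG2 K (3 ^ m))) with hH0
  have hle : P0 ≤ H0 := Subgroup.closure_mono (fun x hx => Set.mem_insert_of_mem _ hx)
  have hexp : ∀ x ∈ H0, x * x = 1 := by
    haveI hab : IsMulCommutative H0 := by
      refine Subgroup.isMulCommutative_closure (fun x hx y hy => ?_)
      simp only [Set.mem_insert_iff, Set.mem_singleton_iff] at hx hy
      rcases hx with rfl | rfl | rfl <;> rcases hy with rfl | rfl | rfl <;>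
        first | rfl | exact hWB | exact hWB.symm | exact hcent _ | exact (hcent _).symm
    intro x hx
    induction hx using Subgroup.closure_induction with
    | mem y hy =>
      simp only [Set.mem_insert_iff, Set.mem_singleton_iff] at hy
      rcases hy with rfl | rfl | rfl
      · exact iota_sq f hf hK
      · exact hWW
      · exact hBB
    | one => simp
    | mul y z hy hz hy2 hz2 =>
      have hc : z * y = y * z :=
        congrArg Subtype.val (hab.is_comm.comm (⟨z, hz⟩ : ↥H0) ⟨y, hy⟩)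
      calc y * z * (y * z) = y * (z * y) * z := by simp only [mul_assoc]
        _ = y * (y * z) * z := by rw [hc]
        _ = (y * y) * (z * z) := by simp only [mul_assoc]
        _ = 1 := by rw [hy2, hz2, one_mul]
    | inv y _ hy2 => rw [← _root_.mul_inv_rev, hy2, inv_one]
  have hp : IsPGroup 2 ↥H0 := fun x => ⟨1, Subtype.ext (by
    show (x : ↥(twistedG2 K (3 ^ m))) ^ (2 ^ 1) = 1
    rw [pow_one, sq]; exact hexp x x.2)⟩
  have h8 : 8 ≤ Nat.card ↥H0 := by
    have hlt : Nat.card ↥P0 ≠ Nat.card ↥H0 := by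
      intro e
      have := Subgroup.eq_of_le_of_card_ge hle e.ge
      have hsub : P0 ≤ ψ.range := by
        rw [hP0, Subgroup.closure_le]
        rintro x (rfl | rfl) <;> exact ⟨_, rfl⟩
      exact hnot (hsub (this.ge (Subgroup.subset_closure (Set.mem_insert _ _))))
    have h3le : 3 ≤ Nat.card ↥P0 := by
      have hnd : ψ W ≠ ψ B := by
        intro e
        refine hne (W * B⁻¹) ?_ (by rw [map_mul, map_inv, e, mul_inv_cancel])
        simp only [Matrix.SpecialLinearGroup.coe_mul, Matrix.SpecialLinearGroup.coe_inv, Matrix.adjugate_fin_two]; simp only [W, B]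
        simp [Matrix.mul_apply, Fin.sum_univ_two]
      have h := Set.ncard_le_ncard (s := {1, ψ W, ψ B}) (t := (P0 : Set ↥(twistedG2 K (3 ^ m))))
        (by
          intro x hx
          rcases hx with rfl | rfl | rfl
          · exact one_mem _
          · exact Subgroup.subset_closure (Set.mem_insert _ _)
          · exact Subgroup.subset_closure (Set.mem_insert_of_mem _ rfl)) (Set.toFinite _)
      rw [Set.ncard_eq_three.2 ⟨1, ψ W, ψ B, (hne W (by simp [W])).symm,
        (hne B (by simp [B])).symm, hnd, rfl⟩, ← Nat.card_coe_set_eq] at h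
      exact h
    have hd := Subgroup.card_dvd_of_le hle
    obtain ⟨i, hi⟩ := IsPGroup.iff_card.1 (hp.to_le hle)
    obtain ⟨j, hj⟩ := IsPGroup.iff_card.1 hp
    rw [hi, hj] at hd hlt
    rw [hi] at h3le
    have hij := Nat.pow_dvd_pow_iff_le_right (by norm_num : 1 < 2) |>.1 hd
    have hi2 : 2 ≤ i := by
      by_contra hc
      have : 2 ^ i ≤ 2 ^ 1 := Nat.pow_le_pow_right (by norm_num) (by omega)
      omega
    rw [hj]
    calc (8 : ℕ) = 2 ^ 3 := rfl
      _ ≤ 2 ^ j := Nat.pow_le_pow_right (by norm_num)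
        (by rcases eq_or_ne i j with rfl | h
            · exact absurd rfl hlt
            · omega)
  obtain ⟨Q, hQ⟩ := hp.exists_le_sylow
  have hQH : (Q : Subgroup ↥(twistedG2 K (3 ^ m))) = H0 :=
    (Subgroup.eq_of_le_of_card_ge hQ ((card_sylow_two f hf hK Q).le.trans h8)).symm
  have haH : a ∈ H0 := Subgroup.subset_closure (Set.mem_insert _ _)
  have hWH : ψ W ∈ H0 := Subgroup.subset_closure (Set.mem_insert_of_mem _ (Set.mem_insert _ _))
  have hBH : ψ B ∈ H0 :=
    Subgroup.subset_closure (Set.mem_insert_of_mem _ (Set.mem_insert_of_mem _ rfl))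
  refine ⟨Q, hQ haH, ψ (upSL 1), ?_, hcent _, ?_⟩
  · rw [hQH]
    have hmap : H0.map (MulAut.conj (ψ (upSL 1))).toMonoidHom = H0 := by
      refine Subgroup.eq_of_le_of_card_ge ?_
        (Subgroup.card_map_of_injective (MulAut.conj (ψ (upSL 1))).injective).ge
      rw [hH0, MonoidHom.map_closure, Subgroup.closure_le, ← hH0]
      rintro x ⟨y, hy, rfl⟩
      simp only [Set.mem_insert_iff, Set.mem_singleton_iff] at hy
      show ψ (upSL 1) * y * (ψ (upSL 1))⁻¹ ∈ H0
      rcases hy with rfl | rfl | rfl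
      · rw [hcent, mul_inv_cancel_right]; exact haH
      · rw [← map_mul, mul_inv_eq_iff_eq_mul.2 (_ : ψ (upSL 1 * W) = ψ B * ψ (upSL 1))]
        · exact hBH
        rw [← map_mul]
        refine hneg _ _ ?_
        simp only [Matrix.SpecialLinearGroup.coe_mul, upSL_val]; simp only [W, B]
        ext i j; fin_cases i <;> fin_cases j <;> simp [Matrix.mul_apply, Fin.sum_univ_two]
        all_goals linear_combination h3
      · rw [← map_mul, mul_inv_eq_iff_eq_mul.2
          (_ : ψ (upSL 1 * B) = ψ W * ψ B * ψ (upSL 1))]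
        · exact mul_mem hWH hBH
        rw [← map_mul, ← map_mul]
        refine hneg _ _ ?_
        simp only [Matrix.SpecialLinearGroup.coe_mul, upSL_val]; simp only [W, B]
        ext i j; fin_cases i <;> fin_cases j <;> simp [Matrix.mul_apply, Fin.sum_univ_two]
        all_goals first | linear_combination h3 | linear_combination -h3
    refine Subgroup.mem_normalizer_iff.2 fun z => ⟨fun hz => hmap.le ⟨z, hz, rfl⟩, fun hz => ?_⟩
    obtain ⟨y, hy, e⟩ := hmap.ge hz
    rwa [(MulAut.conj (ψ (upSL 1))).injective e] at hy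
  · rw [hup]
    refine orderOf_eq_prime ?_ ?_
    · rw [pow_succ, sq, ← uA_add, ← uA_add,
        show (1 : K) + 1 + 1 = 0 by linear_combination h3, uA_zero]
    · intro e
      exact one_ne_zero (uA_injective f hf hK (e.trans (uA_zero f hf hK).symm))

omit hf hK in
/-- The part fixing a chosen involution of a self-centralising elementary group of order eight. -/
theorem card_le_twentyfour {G : Type*} [Group G] [Finite G] (Q M : Subgroup G) {a : G}
    (hQM : Q ≤ M) (h8 : Nat.card ↥Q = 8) (hsq : ∀ x ∈ Q, x * x = 1) (haQ : a ∈ Q) (ha : a ≠ 1)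
    (hcen : Subgroup.centralizer (Q : Set G) = Q)
    (hn : ∀ n ∈ M, ∀ z ∈ Q, n * z * n⁻¹ ∈ Q) (hna : ∀ n ∈ M, n * a = a * n)
    (h16 : ¬ 16 ∣ Nat.card ↥M) : Nat.card ↥M ≤ 24 := by
  classical
  have hc : ∀ x ∈ Q, ∀ y ∈ Q, x * y = y * x := fun x hx y hy => by
    calc x * y = x * (x * y * (x * y)) * y := by rw [hsq _ (mul_mem hx hy), mul_one]
      _ = (x * x) * (y * x) * (y * y) := by simp only [mul_assoc]
      _ = _ := by rw [hsq x hx, hsq y hy, one_mul, mul_one]
  have hasq := hsq a haQ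
  set A := Subgroup.zpowers a with hAdef
  have hA : ∀ z ∈ A, z = 1 ∨ z = a := by
    rintro z ⟨k, rfl⟩
    rcases Int.even_or_odd' k with ⟨j, rfl | rfl⟩
    · left; simp [_root_.zpow_mul, zpow_two, sq, hasq]
    · right; simp [_root_.zpow_add, _root_.zpow_mul, zpow_two, sq, hasq]
  let Ab : Subgroup ↥Q := A.subgroupOf Q
  let act : ↥M → ↥Q ⧸ Ab → ↥Q ⧸ Ab := fun n q =>
    Quotient.liftOn' q
      (fun z => (QuotientGroup.mk (⟨(n : G) * z * (n : G)⁻¹, hn n n.2 z z.2⟩ : ↥Q) : ↥Q ⧸ Ab))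
      fun z z' h => by
        rw [QuotientGroup.leftRel_apply] at h
        refine QuotientGroup.eq.2 ?_
        have h' : (z : G)⁻¹ * z' ∈ A := h
        show ((n : G) * z * (n : G)⁻¹)⁻¹ * ((n : G) * z' * (n : G)⁻¹) ∈ A
        rw [show ((n : G) * z * (n : G)⁻¹)⁻¹ * ((n : G) * z' * (n : G)⁻¹) =
          (n : G) * ((z : G)⁻¹ * z') * (n : G)⁻¹ by group]
        rcases hA _ h' with e | e
        · rw [e, mul_one, mul_inv_cancel]; exact one_mem _
        · rw [e, hna n n.2, mul_inv_cancel_right]; exact Subgroup.mem_zpowers a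
  letI : MulAction ↥M (↥Q ⧸ Ab) :=
    { smul := act
      one_smul := fun q => by
        obtain ⟨z, rfl⟩ := QuotientGroup.mk_surjective q
        exact congrArg QuotientGroup.mk (Subtype.ext (by simp))
      mul_smul := fun n n' q => by
        obtain ⟨z, rfl⟩ := QuotientGroup.mk_surjective q
        exact congrArg QuotientGroup.mk (Subtype.ext (by simp [mul_assoc])) }
  let ρ := MulAction.toPermHom ↥M (↥Q ⧸ Ab)
  have hker : ∀ n ∈ ρ.ker, ((n * n : ↥M) : G) ∈ Q := by
    intro n hn'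
    refine hcen.le (Subgroup.mem_centralizer_iff.2 fun z hz => ?_)
    have h1 := congrArg (fun s => s (QuotientGroup.mk ⟨z, hz⟩)) (MonoidHom.mem_ker.1 hn')
    have h1' : (QuotientGroup.mk (⟨(n : G) * z * (n : G)⁻¹, hn n n.2 z hz⟩ : ↥Q) : ↥Q ⧸ Ab) =
        QuotientGroup.mk (⟨z, hz⟩ : ↥Q) := h1
    have h2 : ((n : G) * z * (n : G)⁻¹)⁻¹ * z ∈ A := (QuotientGroup.eq.1 h1' :)
    show z * ((n : G) * n) = (n : G) * n * z
    have hz' : (n : G) * z * (n : G)⁻¹ = z ∨ (n : G) * z * (n : G)⁻¹ = z * a := by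
      rcases hA _ h2 with e | e
      · exact Or.inl (inv_mul_eq_one.1 e)
      · refine Or.inr ?_
        rw [inv_mul_eq_iff_eq_mul] at e
        rw [show (z : G) * a = (n : G) * z * (n : G)⁻¹ * (a * a) by rw [← mul_assoc, ← e],
          hasq, mul_one]
    rcases hz' with e | e
    · have h := mul_inv_eq_iff_eq_mul.1 e
      rw [mul_assoc (n : G) n z, h, ← mul_assoc (n : G), h, mul_assoc]
    · have h : (n : G) * (n : G) * z * ((n : G) * n)⁻¹ = z := by
        calc (n : G) * (n : G) * z * ((n : G) * n)⁻¹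
            = (n : G) * ((n : G) * z * (n : G)⁻¹) * (n : G)⁻¹ := by group
          _ = (n : G) * z * (n : G)⁻¹ * ((n : G) * a * (n : G)⁻¹) := by
            conv_lhs => rw [e]
            group
          _ = z * a * a := by rw [e, hna n n.2, mul_inv_cancel_right]
          _ = z := by rw [mul_assoc, hasq, mul_one]
      exact (mul_inv_eq_iff_eq_mul.1 h).symm
  -- the kernel is a 2-group containing `Q`, hence of order eight
  have hp : IsPGroup 2 ↥ρ.ker := fun n => ⟨2, Subtype.ext (Subtype.ext (by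
    show ((n : ↥M) : G) ^ (2 ^ 2) = 1
    rw [show (2 : ℕ) ^ 2 = 2 * 2 by norm_num, pow_mul, sq, sq]
    exact hsq _ (hker _ n.2)))⟩
  obtain ⟨k, hk⟩ := IsPGroup.iff_card.1 hp
  have hk8 : Nat.card ↥ρ.ker ≤ 8 := by
    rw [hk]
    have hdd : 2 ^ k ∣ Nat.card ↥M := hk ▸ Subgroup.card_subgroup_dvd_card _
    have hk3 : k ≤ 3 := by
      by_contra hlt
      exact h16 ((show 16 ∣ 2 ^ k from pow_dvd_pow 2 (show 4 ≤ k by omega)).trans hdd)
    exact Nat.pow_le_pow_right (by norm_num) hk3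
  have h4 : Nat.card (↥Q ⧸ Ab) = 4 := by
    have h := Subgroup.card_eq_card_quotient_mul_card_subgroup Ab
    rw [h8, Nat.card_congr (Subgroup.subgroupOfEquivOfLe (Subgroup.zpowers_le.2 haQ)).toEquiv,
      Nat.card_zpowers, orderOf_eq_prime (by rw [sq, hasq]) ha] at h
    omega
  have hrange : Nat.card ↥ρ.range ≤ 6 ∧ Nat.card ↥ρ.range ∣ 6 := by
    letI : Fintype (↥Q ⧸ Ab) := Fintype.ofFinite _
    set o : ↥Q ⧸ Ab := QuotientGroup.mk 1
    have h := Subgroup.card_dvd_of_le
      (show ρ.range ≤ MulAction.stabilizer (Equiv.Perm (↥Q ⧸ Ab)) o from by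
        rintro _ ⟨n, rfl⟩
        exact congrArg QuotientGroup.mk (Subtype.ext (by simp)))
    have hs : Nat.card ↥(MulAction.stabilizer (Equiv.Perm (↥Q ⧸ Ab)) o) = 6 := by
      have hq := Subgroup.card_eq_card_quotient_mul_card_subgroup
        (MulAction.stabilizer (Equiv.Perm (↥Q ⧸ Ab)) o)
      rw [← Nat.card_congr (MulAction.orbitEquivQuotientStabilizer _ _), Nat.card_perm,
        show MulAction.orbit (Equiv.Perm (↥Q ⧸ Ab)) o = Set.univ from
          Set.eq_univ_of_forall fun q => ⟨Equiv.swap o q, Equiv.swap_apply_left o q⟩,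
        Nat.card_univ, h4, show Nat.factorial 4 = 24 from rfl] at hq
      omega
    rw [hs] at h
    exact ⟨Nat.le_of_dvd (by norm_num) h, h⟩
  have hM := Subgroup.card_eq_card_quotient_mul_card_subgroup ρ.ker
  rw [Nat.card_congr (QuotientGroup.quotientKerEquivRange ρ).toEquiv] at hM
  have hQd : 8 ∣ Nat.card ↥M := h8 ▸ Subgroup.card_dvd_of_le hQM
  have hker8 : Nat.card ↥ρ.ker = 8 := by
    refine le_antisymm hk8 ?_
    have hle : (Q.subgroupOf M) ≤ ρ.ker := by
      intro n hn'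
      refine MonoidHom.mem_ker.2 (Equiv.ext fun q => ?_)
      obtain ⟨z, rfl⟩ := QuotientGroup.mk_surjective q
      refine congrArg QuotientGroup.mk (Subtype.ext ?_)
      show (n : G) * z * (n : G)⁻¹ = z
      rw [hc (n : G) (Subgroup.mem_subgroupOf.1 hn') (z : G) z.2, mul_inv_cancel_right]
    have := Nat.le_of_dvd Nat.card_pos (Subgroup.card_dvd_of_le hle)
    rwa [Nat.card_congr (Subgroup.subgroupOfEquivOfLe hQM).toEquiv, h8] at this
  rw [hker8] at hM
  obtain ⟨hr6, hrd⟩ := hrange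
  have hodd : ¬ 2 ∣ Nat.card ↥ρ.range := fun ⟨r, hr⟩ => h16 ⟨r, by rw [hM, hr]; ring⟩
  generalize Nat.card ↥ρ.range = r at *
  interval_cases r <;> omega

theorem card_normalizer_sylow_two (hm : 1 ≤ m) (S : Sylow 2 ↥(twistedG2 K (3 ^ m))) :
    Nat.card (Subgroup.normalizer
      ((S : Subgroup ↥(twistedG2 K (3 ^ m))) : Set ↥(twistedG2 K (3 ^ m)))) = 168 := by
  classical
  haveI : Fact (Nat.Prime 2) := ⟨Nat.prime_two⟩
  obtain ⟨Q, haQ, u, huN, hua, hu3⟩ := exists_three_normalizer f hf hK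
  set a := iota f hf hK
  obtain ⟨g, hg⟩ := MulAction.exists_smul_eq ↥(twistedG2 K (3 ^ m)) Q S
  have hcardN : ∀ P : Sylow 2 ↥(twistedG2 K (3 ^ m)),
      Nat.card (Subgroup.normalizer
        ((P : Subgroup ↥(twistedG2 K (3 ^ m))) : Set ↥(twistedG2 K (3 ^ m)))) =
      Nat.card (MulAction.stabilizer ↥(twistedG2 K (3 ^ m)) P) := fun P => by
    rw [Sylow.stabilizer_eq_normalizer]; rfl
  rw [hcardN, ← hg, MulAction.stabilizer_smul_eq_stabilizer_map_conj,
    Subgroup.card_map_of_injective (MulAut.conj g).injective, ← hcardN]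
  set N := Subgroup.normalizer
    ((Q : Subgroup ↥(twistedG2 K (3 ^ m))) : Set ↥(twistedG2 K (3 ^ m))) with hN
  set M := N ⊓ Subgroup.centralizer {a}
  letI : MulAction ↥N ↥(twistedG2 K (3 ^ m)) :=
    MulAction.compHom _ ((MulAut.conj : ↥(twistedG2 K (3 ^ m)) →* _).comp N.subtype)
  have horb : MulAction.orbit ↥N a =
      ((Q : Subgroup ↥(twistedG2 K (3 ^ m))) : Set ↥(twistedG2 K (3 ^ m))) \ {1} := by
    refine Set.ext fun z => ⟨?_, fun hz => ?_⟩
    · rintro ⟨n, rfl⟩
      exact ⟨(Subgroup.mem_normalizer_iff.1 n.2 a).1 haQ,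
        fun e' => iota_ne_one f hf hK (conj_eq_one_iff.1 (Set.mem_singleton_iff.1 e'))⟩
    · obtain ⟨n, hn, hnz⟩ := normalizer_sylow_two_transitive f hf hK hm Q haQ
        (iota_ne_one f hf hK) hz.1 (fun e' => hz.2 e')
      exact ⟨⟨n, hn⟩, hnz⟩
  have h8 := card_sylow_two f hf hK Q
  have h7 : Nat.card (MulAction.orbit ↥N a) = 7 := by
    rw [horb, Nat.card_coe_set_eq, Set.ncard_sdiff_singleton_of_mem (one_mem _),
      ← Nat.card_coe_set_eq]
    simp only [SetLike.coe_sort_coe]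
    omega
  have hst : MulAction.stabilizer ↥N a = M.subgroupOf N := by
    refine Subgroup.ext fun n => ?_
    rw [MulAction.mem_stabilizer_iff, Subgroup.mem_subgroupOf, Subgroup.mem_inf,
      Subgroup.mem_centralizer_singleton_iff,
      show n • a = (n : ↥(twistedG2 K (3 ^ m))) * a * (↑n)⁻¹ from rfl, mul_inv_eq_iff_eq_mul]
    exact (and_iff_right n.2).symm
  have hNM : Nat.card ↥N = 7 * Nat.card ↥M := by
    rw [← h7, Nat.card_congr (MulAction.orbitEquivQuotientStabilizer ↥N a), hst,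
      ← Nat.card_congr (Subgroup.subgroupOfEquivOfLe (inf_le_left : M ≤ N)).toEquiv]
    exact Subgroup.card_eq_card_quotient_mul_card_subgroup _
  suffices hM : Nat.card ↥M = 24 by rw [hNM, hM]
  have hcomm := sylow_two_comm f hf hK Q
  have hQM : (Q : Subgroup ↥(twistedG2 K (3 ^ m))) ≤ M := fun z hz =>
    ⟨Subgroup.le_normalizer hz, Subgroup.mem_centralizer_singleton_iff.2
      (congrArg Subtype.val (hcomm.is_comm.comm ⟨z, hz⟩ ⟨a, haQ⟩))⟩
  have h16 : ¬ 16 ∣ Nat.card ↥M := by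
    intro hd
    have h := hd.trans (Subgroup.card_subgroup_dvd_card M)
    rw [show (16 : ℕ) = 2 ^ 4 by norm_num,
      Nat.Prime.pow_dvd_iff_le_factorization Nat.prime_two (Nat.card_pos.ne')] at h
    have h' := Q.card_eq_multiplicity
    rw [show Nat.card ↥(Q : Subgroup ↥(twistedG2 K (3 ^ m))) = 2 ^ 3 from h8.trans (by norm_num)]
      at h'
    have := Nat.pow_right_injective le_rfl h'
    omega
  have hle := card_le_twentyfour (Q : Subgroup ↥(twistedG2 K (3 ^ m))) M hQM h8
    (sylow_two_exponent f hf hK Q) haQ (iota_ne_one f hf hK) (sylow_two_centralizer f hf hK Q)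
    (fun n hn z hz => (Subgroup.mem_normalizer_iff.1 hn.1 z).1 hz)
    (fun n hn => Subgroup.mem_centralizer_singleton_iff.1 hn.2) h16
  have h3 : 3 ∣ Nat.card ↥M :=
    (dvd_of_eq hu3.symm).trans <| Subgroup.orderOf_dvd_natCard M ⟨huN, Subgroup.mem_centralizer_singleton_iff.2 hua⟩
  have h8d : 8 ∣ Nat.card ↥M := h8 ▸ Subgroup.card_dvd_of_le hQM
  have : 0 < Nat.card ↥M := Nat.card_pos
  omega

end Cfsg.Agent.Lie.Chev.G2
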