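import Cfsg.Agent.Lib.Lie.Chev.InvolutionCheck
import Cfsg.Agent.Lib.Lie.Chev.Order

/-! Certified transversal chains for a reflection subgroup of the Weyl group, with the lengths
relative to the positive roots of the subsystem. -/

set_option autoImplicit false

namespace Cfsg.Agent.Lie.Chev

open Cfsg.Lie

/-- A reflection of the subsystem: a word and the table of its action. -/
structure SubGen where
  word : List ℕ
  act : BT ℕ

/-- One level of a subsystem chain: number of reflections used, new positive roots, representatives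
as words in the reflections with their length, and the certificates of closure. -/
structure SubLevel where
  ngen : ℕ
  roots : List ℕ
  reps : List (List ℕ)
  step : List (List (ℕ × List ℕ))

namespace Tables

variable (T : Tables) (gs : List SubGen)

/-- Action of a word in the reflections. -/
def subAct : List ℕ → ℕ → ℕ
  | [], x => x
  | i :: w, x => (gs.getD i ⟨[], .leaf 0⟩).act.get (subAct w x)

/-- The word in fundamental reflections of a word in the reflections. -/
def subWord (w : List ℕ) : List ℕ := w.flatMap fun i => (gs.getD i ⟨[], .leaf 0⟩).word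

/-- Number of roots in a list made negative. -/
def subInv (R : List ℕ) (w : List ℕ) : ℕ := R.countP fun x => Nat.blt (subAct gs w x) T.h

/-- Roots of the lower levels. -/
def subRoots : List SubLevel → List ℕ
  | [] => []
  | lv :: ls => lv.roots ++ subRoots ls

/-- Reflections of the lower levels. -/
def subNgen : List SubLevel → ℕ
  | [] => 0
  | lv :: _ => lv.ngen

/-- The transversal words. -/
def subWords : List SubLevel → List (List ℕ)
  | [] => [[]]
  | lv :: ls => lv.reps.flatMap fun d => (subWords ls).map fun v => d ++ v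

/-- Images of the fundamental roots. -/
def subImg (w : List ℕ) : List ℕ := (List.range T.l).map fun q => subAct gs w (T.simple q)

/-- The tables of the reflections. -/
def checkSubGens : Bool :=
  gs.all fun g => (g.word.all fun p => Nat.blt p T.l) &&
    T.allRoots fun x => Nat.beq (g.act.get x) (T.wlT g.word x) && Nat.beq (g.act.get (g.act.get x)) x

/-- All entries differ. -/
def checkNodup : List ℕ → Bool
  | [] => true
  | x :: L => (L.all fun y => !(Nat.beq x y)) && checkNodup L

/-- One level over the lower ones. -/
def checkSubLevel (k' : ℕ) (R : List ℕ) (lv : SubLevel) : Bool :=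
  Nat.ble k' lv.ngen && Nat.ble lv.ngen gs.length &&
  ((lv.roots ++ R).all fun x => Nat.ble T.h x && Nat.blt x T.n) &&
  checkNodup (lv.roots ++ R) &&
  ((List.range k').all fun i =>
    (lv.roots.all fun x => lv.roots.any (Nat.beq (subAct gs [i] x))) &&
    R.all fun x => R.any (Nat.beq (subAct gs [i] x)) || R.any (Nat.beq (T.neg (subAct gs [i] x)))) &&
  (lv.reps.all fun d => (d.all fun i => Nat.blt i lv.ngen) &&
    (R.all fun x => Nat.ble T.h (subAct gs d x)) &&
    (d.isEmpty || Nat.blt 0 (T.subInv gs lv.roots d))) &&
  (lv.reps.any List.isEmpty) &&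
  checkDistinctL (lv.reps.map (T.subImg gs)) &&
  ((List.range lv.reps.length).all fun a => (List.range lv.ngen).all fun i =>
    let cl := (lv.step.getD a []).getD i (0, [])
    Nat.blt cl.1 lv.reps.length && (cl.2.all fun j => Nat.blt j k') &&
      natsBeq (T.subImg gs (i :: lv.reps.getD a [])) (T.subImg gs (lv.reps.getD cl.1 [] ++ cl.2)))
where
  /-- All lists differ. -/
  checkDistinctL : List (List ℕ) → Bool
    | [] => true
    | d :: L => (L.all fun e => !(natsBeq d e)) && checkDistinctL L

/-- All levels. -/
def checkSubLevels : List SubLevel → Bool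
  | [] => true
  | lv :: ls => T.checkSubLevel gs (subNgen ls) (subRoots ls) lv && checkSubLevels ls

/-- Length polynomial of the chain times `(X - 1)^l`. -/
def subPoly (l : ℕ) (ls : List SubLevel) : List ℤ :=
  (ls.map (fun lv : SubLevel => (lv.reps.map fun d => monoP (T.subInv gs lv.roots d)).foldr addP []) ++
    List.replicate l [-1, 1]).foldr mulP [1]

/-- The polynomial identity for a chain. -/
def checkSubPoly (l : ℕ) (ls : List SubLevel) (ds : List ℕ) : Bool :=
  isZeroP (addP (T.subPoly gs l ls) ((rhsPoly ds).map (-1 * ·)))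

end Tables

namespace CertFull

theorem checkNodup_sound : ∀ {L : List ℕ}, Tables.checkNodup L = true → L.Nodup
  | [], _ => List.nodup_nil
  | x :: L, h => by
    simp only [Tables.checkNodup, Bool.and_eq_true, List.all_eq_true, Bool.not_eq_true'] at h
    refine List.nodup_cons.2 ⟨fun hx => ?_, checkNodup_sound h.2⟩
    have := h.1 x hx
    simp at this

theorem checkDistinctL_sound : ∀ {L : List (List ℕ)},
    Tables.checkSubLevel.checkDistinctL L = true → L.Pairwise (fun a b => a ≠ b)
  | [], _ => List.Pairwise.nil
  | d :: L, h => by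
    simp only [Tables.checkSubLevel.checkDistinctL, Bool.and_eq_true, List.all_eq_true,
      Bool.not_eq_true'] at h
    refine List.pairwise_cons.2 ⟨fun e he hde => ?_, checkDistinctL_sound h.2⟩
    have := h.1 e he
    rw [natsBeq_iff.2 hde] at this
    cases this

theorem sum_flatMap_append {α β : Type*} (A : List α) (B : List β) {γ : Type*} (g : α → β → γ)
    (f : γ → ℤ) (p : α → ℤ) (q : β → ℤ) (h : ∀ a ∈ A, ∀ b ∈ B, f (g a b) = p a * q b) :
    ((A.flatMap fun a => B.map (g a)).map f).sum = (A.map p).sum * (B.map q).sum := by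
  induction A with
  | nil => simp
  | cons a A ih =>
    rw [List.flatMap_cons, List.map_append, List.sum_append,
      ih fun x hx => h x (List.mem_cons_of_mem _ hx), List.map_cons, List.sum_cons, add_mul,
      List.map_map]
    congr 1
    rw [← List.sum_map_mul_left]
    refine congrArg (List.sum (α := ℤ)) (List.map_congr_left fun b hb => ?_)
    exact h a (by simp) b hb

variable {D : ChevalleyDatum} (c : CertFull D)

/-- Words acting equally on every root. -/
def SEq (_c : CertFull D) (gs : List SubGen) (v w : List ℕ) : Prop :=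
  ∀ x < D.nroots, Tables.subAct gs v x = Tables.subAct gs w x

include c

variable {gs : List SubGen} (hgs : c.T.checkSubGens gs = true)
include hgs

theorem subWord_lt {w : List ℕ} : ∀ p ∈ Tables.subWord gs w, p < D.rank := by
  intro p hp
  simp only [Tables.subWord, List.mem_flatMap] at hp
  obtain ⟨i, -, hp⟩ := hp
  by_cases hi : i < gs.length
  · simp only [Tables.checkSubGens, List.all_eq_true, Bool.and_eq_true] at hgs
    rw [List.getD_eq_getElem _ _ hi] at hp
    have h := (hgs gs[i] (List.getElem_mem hi)).1 p hp
    rw [Nat.blt_eq, ← c.rank_eq] at h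
    exact h
  · rw [List.getD_eq_default _ _ (by omega)] at hp
    simp at hp

theorem subAct_eq : ∀ {w : List ℕ}, (∀ i ∈ w, i < gs.length) → ∀ {x : ℕ}, x < D.nroots →
    Tables.subAct gs w x = c.wl (Tables.subWord gs w) x
  | [], _, x, _ => rfl
  | i :: w, hw, x, hx => by
    have hi : i < gs.length := hw i (by simp)
    have ih := subAct_eq (w := w) (fun j hj => hw j (by simp [hj])) hx
    have hy : Tables.subAct gs w x < D.nroots := ih ▸ c.wl_lt (c.subWord_lt hgs) hx
    have h := hgs
    simp only [Tables.checkSubGens, List.all_eq_true, Bool.and_eq_true, c.allRoots_iff,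
      Nat.beq_eq] at h
    show (gs.getD i _).act.get (Tables.subAct gs w x) = _
    rw [List.getD_eq_getElem _ _ hi, ((h gs[i] (List.getElem_mem hi)).2 _ hy).1, c.wlT_eq, ih,
      ← c.wl_append]
    simp [Tables.subWord, hi]

theorem subAct_lt {w : List ℕ} (hw : ∀ i ∈ w, i < gs.length) {x : ℕ} (hx : x < D.nroots) :
    Tables.subAct gs w x < D.nroots := by
  rw [c.subAct_eq hgs hw hx]; exact c.wl_lt (c.subWord_lt hgs) hx

theorem subAct_inj {w : List ℕ} (hw : ∀ i ∈ w, i < gs.length) {x y : ℕ} (hx : x < D.nroots)
    (hy : y < D.nroots) (h : Tables.subAct gs w x = Tables.subAct gs w y) : x = y := by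
  rw [c.subAct_eq hgs hw hx, c.subAct_eq hgs hw hy] at h
  exact c.wl_inj (c.subWord_lt hgs) hx hy h

theorem subAct_neg {w : List ℕ} (hw : ∀ i ∈ w, i < gs.length) {x : ℕ} (hx : x < D.nroots) :
    Tables.subAct gs w (D.neg x) = D.neg (Tables.subAct gs w x) := by
  rw [c.subAct_eq hgs hw hx, c.subAct_eq hgs hw (c.neg_lt hx), c.wl_neg (c.subWord_lt hgs) hx]

omit c hgs in
theorem subAct_append {v w : List ℕ} {x : ℕ} :
    Tables.subAct gs (v ++ w) x = Tables.subAct gs v (Tables.subAct gs w x) := by
  induction v with
  | nil => rfl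
  | cons i v ih =>
    rw [List.cons_append]
    show (gs.getD i _).act.get (Tables.subAct gs (v ++ w) x) = _
    rw [ih]
    rfl

theorem subAct_reverse : ∀ {w : List ℕ}, (∀ i ∈ w, i < gs.length) → ∀ {x : ℕ}, x < D.nroots →
    Tables.subAct gs w (Tables.subAct gs w.reverse x) = x
  | [], _, x, _ => rfl
  | i :: w, hw, x, hx => by
    have hi : i < gs.length := hw i (by simp)
    have h := hgs
    simp only [Tables.checkSubGens, List.all_eq_true, Bool.and_eq_true, c.allRoots_iff,
      Nat.beq_eq] at h
    have h' := (h gs[i] (List.getElem_mem hi)).2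
    have hy : Tables.subAct gs [i] x < D.nroots := c.subAct_lt hgs (by simpa using hi) hx
    rw [List.reverse_cons, subAct_append]
    show (gs.getD i _).act.get (Tables.subAct gs w (Tables.subAct gs w.reverse
      (Tables.subAct gs [i] x))) = x
    rw [subAct_reverse (fun j hj => hw j (by simp [hj])) hy]
    show (gs.getD i _).act.get ((gs.getD i _).act.get x) = x
    rw [List.getD_eq_getElem _ _ hi]
    exact (h' x hx).2

theorem seq_of_img {v w : List ℕ} (hv : ∀ i ∈ v, i < gs.length) (hw : ∀ i ∈ w, i < gs.length)
    (h : natsBeq (c.T.subImg gs v) (c.T.subImg gs w) = true) : c.SEq gs v w := by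
  intro x hx
  rw [c.subAct_eq hgs hv hx, c.subAct_eq hgs hw hx]
  refine c.wl_eq_of_same (c.subWord_lt hgs) (c.subWord_lt hgs) (fun q hq => ?_) hx
  have h' := natsBeq_iff.1 h
  simp only [Tables.subImg] at h'
  have := List.map_inj_left.1 h' q (List.mem_range.2 (c.rank_eq ▸ hq))
  rwa [← c.simple_eq hq, c.subAct_eq hgs hv (c.simple_lt hq),
    c.subAct_eq hgs hw (c.simple_lt hq)] at this

/-- The facts carried by a certified chain. -/
theorem subChain_spec : ∀ (ls : List SubLevel), c.T.checkSubLevels gs ls = true →
    Tables.subNgen ls ≤ gs.length ∧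
    ((∀ x ∈ Tables.subRoots ls, c.Pos x) ∧ (Tables.subRoots ls).Nodup) ∧
    (∀ v ∈ Tables.subWords ls, ∀ i ∈ v, i < Tables.subNgen ls) ∧
    (∀ w : List ℕ, (∀ i ∈ w, i < Tables.subNgen ls) →
      ∃ v ∈ Tables.subWords ls, c.SEq gs w v) ∧
    (∀ v ∈ Tables.subWords ls, c.T.subInv gs (Tables.subRoots ls) v = 0 → v = []) ∧
    (Tables.subWords ls).Pairwise (fun a b => ¬ c.SEq gs a b) ∧
    ∀ x : ℤ, ((Tables.subWords ls).map fun v => x ^ c.T.subInv gs (Tables.subRoots ls) v).sum =
      (ls.map fun lv => (lv.reps.map fun d => x ^ c.T.subInv gs lv.roots d).sum).prod := by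
  intro ls
  induction ls with
  | nil =>
    intro _
    refine ⟨Nat.zero_le _, by simp [Tables.subRoots], by simp [Tables.subWords],
      fun w hw => ⟨[], by simp [Tables.subWords], ?_⟩, by simp [Tables.subWords],
      by simp [Tables.subWords], fun x => by simp [Tables.subWords, Tables.subInv, Tables.subRoots]⟩
    rcases w with - | ⟨i, w⟩
    · exact fun q _ => rfl
    · exact absurd (hw i (by simp)) (by simp [Tables.subNgen])
  | cons lv ls ih =>
    intro h
    simp only [Tables.checkSubLevels, Bool.and_eq_true] at h
    obtain ⟨hlev, hrest⟩ := h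
    obtain ⟨i0, ⟨i1, i1'⟩, i2, i3, i4, i5, i6⟩ := ih hrest
    simp only [Tables.checkSubLevel, Bool.and_eq_true, Nat.ble_eq, List.all_eq_true,
      List.mem_range, Bool.or_eq_true, List.any_eq_true, Nat.beq_eq, Nat.blt_eq,
      List.isEmpty_iff] at hlev
    obtain ⟨⟨⟨⟨⟨⟨⟨⟨hk, hkg⟩, hposall⟩, hnd⟩, hperm⟩, hreps⟩, hempty⟩, hdist⟩, hclose⟩ := hlev
    replace hnd := checkNodup_sound hnd
    replace hdist := checkDistinctL_sound hdist
    set k' := Tables.subNgen ls
    set R := Tables.subRoots ls
    have hposall' : ∀ x ∈ lv.roots ++ R, c.Pos x := fun x hx =>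
      ⟨(hposall x hx).1, c.nroots_eq.symm ▸ (hposall x hx).2⟩
    have hgen : ∀ v : List ℕ, (∀ i ∈ v, i < k') → ∀ i ∈ v, i < gs.length := fun v hv i hi => by
      have := hv i hi; omega
    have hdgen : ∀ d ∈ lv.reps, ∀ i ∈ d, i < gs.length := fun d hd i hi => by
      have := (hreps d hd).1.1 i hi
      omega
    have happ : ∀ {v u : List ℕ}, (∀ i ∈ v, i < k') → (∀ i ∈ u, i < k') →
        ∀ i ∈ v ++ u, i < k' := fun {v u} hv hu i hi => (List.mem_append.1 hi).elim (hv i) (hu i)
    -- lower reflections fix the new roots and the old subsystem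
    have hlow : ∀ v : List ℕ, (∀ i ∈ v, i < k') →
        (∀ x ∈ lv.roots, Tables.subAct gs v x ∈ lv.roots) ∧
        (∀ x < D.nroots, x ∈ R ∨ D.neg x ∈ R →
          (Tables.subAct gs v x ∈ R ∨ D.neg (Tables.subAct gs v x) ∈ R)) := by
      intro v
      induction v with
      | nil => exact fun _ => ⟨fun x hx => hx, fun x _ hx => hx⟩
      | cons i v ihv =>
        intro hv
        have hv' : ∀ j ∈ v, j < k' := fun j hj => hv j (by simp [hj])
        obtain ⟨a1, a2⟩ := ihv hv'
        obtain ⟨b1, b2⟩ := hperm i (hv i (by simp))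
        have hig : ∀ j ∈ [i], j < gs.length :=
          hgen _ fun j hj => hv j (by simp only [List.mem_singleton] at hj; simp [hj])
        refine ⟨fun x hx => ?_, fun x hxn hx => ?_⟩
        · obtain ⟨y, hy, e⟩ := b1 _ (a1 x hx)
          exact (show Tables.subAct gs (i :: v) x = y from e) ▸ hy
        · have key : ∀ z ∈ R, Tables.subAct gs [i] z ∈ R ∨
              D.neg (Tables.subAct gs [i] z) ∈ R := by
            intro z hz
            rcases b2 z hz with ⟨y', hy', e⟩ | ⟨y', hy', e⟩
            · exact Or.inl (e ▸ hy')
            · refine Or.inr ?_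
              rw [c.neg_eq (c.subAct_lt hgs hig (hposall' z (List.mem_append_right _ hz)).2)]
              exact e ▸ hy'
          have hyn := c.subAct_lt hgs (hgen _ hv') hxn
          show Tables.subAct gs [i] (Tables.subAct gs v x) ∈ R ∨
            D.neg (Tables.subAct gs [i] (Tables.subAct gs v x)) ∈ R
          rcases a2 x hxn hx with hy | hy
          · exact key _ hy
          · have := key _ hy
            rw [c.subAct_neg hgs hig hyn, c.neg_neg (c.subAct_lt hgs hig hyn)] at this
            exact this.symm
    -- representatives keep the old positive roots positive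
    have hkeep : ∀ d ∈ lv.reps, ∀ y < D.nroots, y ∈ R ∨ D.neg y ∈ R →
        ((Tables.subAct gs d y < c.T.h) ↔ y < c.T.h) := by
      intro d hd y hyn hy
      rcases hy with hy | hy
      · have h1 := (hreps d hd).1.2 y hy
        have h3 := (hposall' y (List.mem_append_right _ hy)).1
        omega
      · have h1 := (hreps d hd).1.2 _ hy
        have h3 := (hposall' _ (List.mem_append_right _ hy)).1
        rw [c.subAct_neg hgs (hdgen d hd) hyn,
          c.neg_val (c.subAct_lt hgs (hdgen d hd) hyn)] at h1
        rw [c.neg_val hyn] at h3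
        have := c.h_add_h
        have := c.subAct_lt hgs (hdgen d hd) hyn
        omega
    have hadd : ∀ d ∈ lv.reps, ∀ v : List ℕ, (∀ i ∈ v, i < k') →
        c.T.subInv gs (lv.roots ++ R) (d ++ v) = c.T.subInv gs lv.roots d + c.T.subInv gs R v := by
      intro d hd v hv
      unfold Tables.subInv
      rw [List.countP_append]
      congr 1
      · rw [show (fun x => Nat.blt (Tables.subAct gs (d ++ v) x) c.T.h) =
          (fun x => Nat.blt (Tables.subAct gs d x) c.T.h) ∘ Tables.subAct gs v from
            funext fun x => by simp [subAct_append], ← List.countP_map]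
        refine List.Perm.countP_eq _ ?_
        have hndm : (lv.roots.map (Tables.subAct gs v)).Nodup :=
          (List.nodup_append.1 hnd).1.map_on fun x hx y hy e => c.subAct_inj hgs (hgen v hv)
            (hposall' x (List.mem_append_left _ hx)).2 (hposall' y (List.mem_append_left _ hy)).2 e
        refine (hndm.subperm fun y hy => ?_).perm_of_length_le (by simp)
        obtain ⟨x, hx, rfl⟩ := List.mem_map.1 hy
        exact (hlow v hv).1 x hx
      · refine List.countP_congr fun x hx => ?_
        rw [subAct_append, Nat.blt_eq, Nat.blt_eq]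
        have hxp := hposall' x (List.mem_append_right _ hx)
        exact hkeep d hd _ (c.subAct_lt hgs (hgen v hv) hxp.2)
          ((hlow v hv).2 x hxp.2 (Or.inl hx))
    have hcongr : ∀ (L : List ℕ), (∀ x ∈ L, x < D.nroots) → ∀ {v w : List ℕ}, c.SEq gs v w →
        c.T.subInv gs L v = c.T.subInv gs L w := fun L hL {v w} e =>
      List.countP_congr fun x hx => by rw [e x (hL x hx)]
    refine ⟨hkg, ⟨hposall', hnd⟩, ?_, ?_, ?_, ?_, ?_⟩
    · intro v hv i hi
      simp only [Tables.subWords, List.mem_flatMap, List.mem_map] at hv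
      obtain ⟨d, hd, u, hu, rfl⟩ := hv
      show i < lv.ngen
      rcases List.mem_append.1 hi with hi | hi
      · exact (hreps d hd).1.1 i hi
      · have := i2 u hu i hi; omega
    · intro w
      induction w with
      | nil =>
        intro _
        obtain ⟨d, hd, rfl⟩ := hempty
        obtain ⟨u, hu, e⟩ := i3 [] (by simp)
        exact ⟨[] ++ u, List.mem_flatMap.2 ⟨[], hd, List.mem_map.2 ⟨u, hu, rfl⟩⟩, e⟩
      | cons i w ihw =>
        intro hw
        have hi : i < lv.ngen := hw i (by simp)
        obtain ⟨v, hv, e⟩ := ihw fun j hj => hw j (by simp [hj])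
        simp only [Tables.subWords, List.mem_flatMap, List.mem_map] at hv
        obtain ⟨d, hd, u, hu, rfl⟩ := hv
        obtain ⟨a, ha, rfl⟩ := List.getElem_of_mem hd
        obtain ⟨⟨hc1, hc2⟩, hc3⟩ := hclose a ha i hi
        rw [List.getD_eq_getElem _ _ ha, List.getD_eq_getElem _ _ hc1] at hc3
        set cl := (lv.step.getD a []).getD i (0, [])
        have he := List.getElem_mem hc1
        have e2 := c.seq_of_img hgs (v := i :: lv.reps[a]) (w := lv.reps[cl.1] ++ cl.2)
          (by
            intro j hj
            rcases List.mem_cons.1 hj with rfl | hj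
            · omega
            · exact hdgen _ hd j hj)
          (fun j hj => (List.mem_append.1 hj).elim (hdgen _ he j) (hgen _ hc2 j)) hc3
        obtain ⟨u', hu', e3⟩ := i3 (cl.2 ++ u) (happ hc2 (i2 u hu))
        refine ⟨lv.reps[cl.1] ++ u', List.mem_flatMap.2 ⟨_, he, List.mem_map.2 ⟨u', hu', rfl⟩⟩,
          fun x hx => ?_⟩
        rw [subAct_append, ← e3 x hx, subAct_append, ← subAct_append,
          ← e2 _ (c.subAct_lt hgs (hgen _ (i2 u hu)) hx)]
        show (gs.getD i _).act.get _ = (gs.getD i _).act.get _
        rw [e x hx, subAct_append]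
    · intro v hv h0
      simp only [Tables.subWords, List.mem_flatMap, List.mem_map] at hv
      obtain ⟨d, hd, u, hu, rfl⟩ := hv
      show d ++ u = []
      rw [show Tables.subRoots (lv :: ls) = lv.roots ++ R from rfl, hadd d hd u (i2 u hu)] at h0
      rcases (hreps d hd).2 with e | e
      · rw [e, i4 u hu (by omega), List.append_nil]
      · omega
    · simp only [Tables.subWords, List.pairwise_flatMap]
      refine ⟨?_, ?_⟩
      · intro d hd
        refine List.pairwise_map.2 (i5.imp_of_mem fun {a b} ha hb hab e => hab fun x hx => ?_)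
        have := e x hx
        rw [subAct_append, subAct_append] at this
        exact c.subAct_inj hgs (hdgen d hd) (c.subAct_lt hgs (hgen _ (i2 a ha)) hx)
          (c.subAct_lt hgs (hgen _ (i2 b hb)) hx) this
      · refine (List.pairwise_map.1 hdist).imp_of_mem fun {d e} hd he hne => ?_
        simp only [List.mem_map]
        rintro _ ⟨v, hv, rfl⟩ _ ⟨u, hu, rfl⟩ hde
        refine hne ?_
        have hvk := i2 v hv
        have huk := i2 u hu
        have hrk : ∀ i ∈ v.reverse, i < k' := fun i hi => hvk i (List.mem_reverse.1 hi)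
        set w := u ++ v.reverse
        have hwk : ∀ i ∈ w, i < k' := happ huk hrk
        have hdw : ∀ x < D.nroots, Tables.subAct gs d x = Tables.subAct gs e (Tables.subAct gs w x) := by
          intro x hx
          have h1 := hde _ (c.subAct_lt hgs (hgen _ hrk) hx)
          rw [subAct_append, subAct_append, c.subAct_reverse hgs (hgen _ hvk) hx] at h1
          rw [h1, subAct_append]
        have hw0 : c.T.subInv gs R w = 0 := by
          rw [Tables.subInv, List.countP_eq_zero]
          intro x hx
          have hxp := hposall' x (List.mem_append_right _ hx)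
          have h1 := hkeep d hd x hxp.2 (Or.inl hx)
          have h2 := hkeep e he _ (c.subAct_lt hgs (hgen _ hwk) hxp.2)
            ((hlow w hwk).2 x hxp.2 (Or.inl hx))
          rw [← hdw x hxp.2] at h2
          rw [Nat.blt_eq]
          intro hlt
          have := h1.1 (h2.2 hlt)
          have := hxp.1
          omega
        obtain ⟨w', hw', ew⟩ := i3 w hwk
        rw [hcongr R (fun x hx => (hposall' x (List.mem_append_right _ hx)).2) ew] at hw0
        rw [i4 w' hw' hw0] at ew
        refine List.map_congr_left fun q hq => ?_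
        have hq' : c.T.simple q < D.nroots := by
          rw [List.mem_range, ← c.rank_eq] at hq
          rw [← c.simple_eq hq]
          exact c.simple_lt hq
        rw [hdw _ hq', ew _ hq']
        rfl
    · intro x
      rw [List.map_cons, List.prod_cons, ← i6 x]
      refine sum_flatMap_append lv.reps (Tables.subWords ls) (fun d v => d ++ v)
        (fun v => x ^ c.T.subInv gs (lv.roots ++ R) v) _ _ fun d hd v hv => ?_
      rw [hadd d hd v (i2 v hv), pow_add]

/-- The generating function of a certified chain. -/
theorem subPoly_eq {ls : List SubLevel} (hls : c.T.checkSubLevels gs ls = true) {ds : List ℕ}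
    (hp : c.T.checkSubPoly gs D.rank ls ds = true) (x : ℤ) :
    ((Tables.subWords ls).map fun v => x ^ c.T.subInv gs (Tables.subRoots ls) v).sum *
      (x - 1) ^ D.rank = (ds.map fun d => x ^ d - 1).prod := by
  rw [(c.subChain_spec hgs ls hls).2.2.2.2.2.2 x]
  have h0 := evalP_isZeroP x _ hp
  rw [evalP_addP, evalP_smul, neg_one_mul (evalP x (rhsPoly ds)), ← sub_eq_add_neg, sub_eq_zero,
    Tables.subPoly, rhsPoly, evalP_foldr, evalP_foldr, List.map_append, List.prod_append,
    List.map_map, List.map_map, List.map_replicate, List.prod_replicate] at h0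
  have e1 : ∀ (lv : SubLevel) (L : List (List ℕ)),
      evalP x ((L.map fun d => monoP (c.T.subInv gs lv.roots d)).foldr addP []) =
        (L.map fun d => x ^ c.T.subInv gs lv.roots d).sum := by
    intro lv L
    induction L with
    | nil => rfl
    | cons d L ih => simp [evalP_addP, evalP_monoP, ih]
  have e2 : (ds.map (evalP x ∘ fun d => addP [-1] (monoP d))) = ds.map fun d => x ^ d - 1 :=
    List.map_congr_left fun d _ => by
      simp [evalP_addP, evalP_monoP, evalP, sub_eq_neg_add]
  have e3 : evalP x [-1, 1] = x - 1 := by simp [evalP, sub_eq_neg_add]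
  rw [e2, e3] at h0
  rw [← h0]
  congr 1
  exact congrArg List.prod (List.map_congr_left fun lv _ => (e1 lv lv.reps).symm)

end CertFull

end Cfsg.Agent.Lie.Chev
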