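import Cfsg.Agent.Lib.Lie.Chev.InvolutionFrame

/-! In odd characteristic every involution of a certified Chevalley group is conjugate into the
split torus, for the types passing the finite checks. -/

set_option autoImplicit false

namespace Cfsg.Agent.Lie.Chev

open Cfsg.Lie Matrix

namespace CertFull

variable {D : ChevalleyDatum} (c : CertFull D) {F : Type*} [Field F]
include c

/-- The number of roots movedRoots by a word. -/
def movedRoots (L : List ℕ) : ℕ := ((Finset.range D.nroots).filter fun s => c.wl L s ≠ s).card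

/-- The coefficient of a negated root, with its torus part. -/
theorem exists_coef (z : ℕ → Fˣ) {L : List ℕ} (hL : ∀ p ∈ L, p < D.rank) {r : ℕ}
    (hr : r < D.nroots) (hw : c.wl L r = D.neg r) :
    ∃ k σ : Fˣ, (σ = 1 ∨ σ = -1) ∧ k = c.tchar z (D.neg r) * σ ∧
      c.Coef (c.torus z * c.nw F L) r k := by
  obtain ⟨σ, hσ, hs⟩ : ∃ σ : Fˣ, (σ : F) = (c.wsign L r : F) ∧ (σ = 1 ∨ σ = -1) := by
    rcases mul_self_eq_one_iff.1 (c.wsign_sq (F := F) L r) with h | h
    · exact ⟨1, by rw [Units.val_one, h], Or.inl rfl⟩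
    · exact ⟨-1, by rw [Units.val_neg, Units.val_one, h], Or.inr rfl⟩
  refine ⟨c.tchar z (D.neg r) * σ, σ, hs, rfl, fun v => ?_⟩
  rw [mul_assoc, c.nw_mul_xg hL hr, ← mul_assoc, hw, Cert.torus_apply,
    c.dg_mul_xg (c.tchar_isRootCharacter z) (c.neg_lt hr), mul_assoc]
  congr 2
  rw [Units.val_mul, hσ, mul_assoc]

theorem conj_sq {g t : GL D.Idx F} (ht : t * t = 1) : g * t * g⁻¹ * (g * t * g⁻¹) = 1 := by
  calc g * t * g⁻¹ * (g * t * g⁻¹) = g * (t * t) * g⁻¹ := by group
    _ = 1 := by rw [ht, mul_one, mul_inv_cancel]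

variable (hneg : c.T.checkPairNeg = true)
include hneg

/-- A square coefficient lowers the number of movedRoots roots. -/
theorem lower_of_square (h2 : (2 : F) ≠ 0) {t : GL D.Idx F} (ht : t * t = 1) {a : GL D.Idx F}
    (ha : a ∈ D.diagonalSubgroup F) {L : List ℕ} (hL : ∀ p ∈ L, p < D.rank)
    (hte : t = a * c.nw F L) {r : ℕ} (hr : r < D.nroots) (hw : c.wl L r = D.neg r) {k : Fˣ}
    (hk : c.Coef t r k) (hsq : IsSquare (k : F)) :
    ∃ g ∈ D.group F, ∃ a' ∈ D.diagonalSubgroup F, ∃ L' : List ℕ, (∀ p ∈ L', p < D.rank) ∧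
      g * t * g⁻¹ = a' * c.nw F L' ∧ c.movedRoots L' < c.movedRoots L := by
  obtain ⟨g, hg, v, hv, e⟩ := c.move_square ht hr hk hsq h2
  obtain ⟨R, hR, hRv⟩ := c.exists_refl (F := F) hr
  obtain ⟨b, hb, eb⟩ := hRv v hv
  obtain ⟨d, hd, ed⟩ := c.mono_mul (F := F) hb ha (M := L) hR.1
  refine ⟨g, hg, d, hd, R ++ L, fun p hp => (List.mem_append.1 hp).elim (hR.1 p) (hL p),
    by rw [e, eb, hte, ed], Finset.card_lt_card ?_⟩
  rw [Finset.ssubset_iff_of_subset]
  · refine ⟨r, Finset.mem_filter.2 ⟨Finset.mem_range.2 hr, fun e' => ?_⟩, ?_⟩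
    · rw [hw] at e'
      exact c.neg_ne hr e'
    · rw [Finset.mem_filter, not_and, not_not, c.wl_append, hw, c.wl_neg hR.1 hr,
        c.refl_neg hneg hR hr, c.neg_neg hr]
      exact fun _ => rfl
  · intro s hs
    rw [Finset.mem_filter, Finset.mem_range] at hs ⊢
    refine ⟨hs.1, fun e' => hs.2 ?_⟩
    have hp := c.pairing_wl_neg hneg hL hr hs.1 hw
    rw [e'] at hp
    rw [c.wl_append, e', c.refl_fix hR hs.1 (by omega)]

variable [Fintype F]

/-- One step: a movedRoots root allows a conjugate with fewer movedRoots roots. -/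
theorem exists_lower {d : InvData} (hchk : c.T.checkInv d = true) (h2 : (2 : F) ≠ 0)
    {t : GL D.Idx F} (ht : t * t = 1) {a : GL D.Idx F} (ha : a ∈ D.diagonalSubgroup F)
    {L : List ℕ} (hL : ∀ p ∈ L, p < D.rank) (hte : t = a * c.nw F L)
    (hmv : ∃ s < D.nroots, c.wl L s ≠ s) :
    ∃ g ∈ D.group F, ∃ a' ∈ D.diagonalSubgroup F, ∃ L' : List ℕ, (∀ p ∈ L', p < D.rank) ∧
      g * t * g⁻¹ = a' * c.nw F L' ∧ c.movedRoots L' < c.movedRoots L := by
  classical
  simp only [Tables.checkInv, Bool.and_eq_true] at hchk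
  obtain ⟨⟨⟨⟨⟨-, -⟩, hpairs⟩, hrows⟩, hseeds⟩, hframes⟩ := hchk
  -- a negated root, raised to a seed
  have hinv0 : ∀ u < D.nroots, c.wl L (c.wl L u) = u := fun u hu =>
    c.wl_of_sq ha hL (by rw [← hte]; exact ht) hu
  obtain ⟨r₀, hr₀, hpos₀, hw₀⟩ : ∃ r < D.nroots, c.Pos r ∧ c.wl L r = D.neg r := by
    obtain ⟨r, hr, hrn⟩ := c.exists_negated L hL hinv0 hmv
    by_cases hp : c.Pos r
    · exact ⟨r, hr, hp, hrn⟩
    · exact ⟨D.neg r, c.neg_lt hr, (c.not_pos_iff hr).1 hp, by rw [c.wl_neg hL hr, hrn]⟩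
  simp only [Tables.checkSeeds, List.all_eq_true, Bool.and_eq_true, List.any_eq_true] at hseeds
  obtain ⟨hMb, sd, hsd, hMs⟩ := hseeds r₀ (c.mem_posDown.2 hpos₀)
  set M := c.T.upWord d.seeds c.T.n r₀
  rw [Nat.beq_eq] at hMs
  rw [c.wlT_eq] at hMs
  have hM : ∀ p ∈ M, p < D.rank := fun p hp => by
    have h := hMb p hp
    rw [Nat.blt_eq, ← c.rank_eq] at h
    exact h
  have hMrev : ∀ p ∈ M.reverse, p < D.rank := fun p hp => hM p (List.mem_reverse.1 hp)
  set g₀ := c.nw F M
  have hg₀ : g₀ ∈ D.group F := c.N_le_group (c.nw_mem_N hM)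
  have hL₁ : ∀ p ∈ M ++ L ++ M.reverse, p < D.rank := fun p hp => by
    simp only [List.mem_append, List.mem_reverse] at hp
    rcases hp with (h | h) | h
    exacts [hM p h, hL p h, hM p h]
  obtain ⟨a₁, ha₁, e₁⟩ : ∃ a₁ ∈ D.diagonalSubgroup F,
      g₀ * t * g₀⁻¹ = a₁ * c.nw F (M ++ L ++ M.reverse) := by
    refine ⟨(g₀ * a * g₀⁻¹) * (g₀ * c.nw F L * (c.nw F M.reverse * c.nw F M)⁻¹ * (g₀ * c.nw F L)⁻¹),
      mul_mem (c.nw_conj_H hM ha) (c.N_conj_H (mul_mem (c.nw_mem_N hM) (c.nw_mem_N hL))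
        (inv_mem (by
          have h := c.nw_reverse (F := F) hMrev
          rwa [List.reverse_reverse] at h))), ?_⟩
    rw [hte, c.nw_append, c.nw_append]
    simp only [g₀]
    group
  set L₁ := M ++ L ++ M.reverse with hL₁def
  set t₁ := g₀ * t * g₀⁻¹ with ht₁def
  have ht₁ : t₁ * t₁ = 1 := c.conj_sq ht
  have hmoved : c.movedRoots L₁ ≤ c.movedRoots L := by
    refine Finset.card_le_card_of_injOn (fun s => c.wl M.reverse s) (fun s hs => ?_) ?_
    · simp only [Finset.coe_filter, Finset.mem_range, Set.mem_setOf_eq] at hs ⊢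
      refine ⟨c.wl_lt hMrev hs.1, fun e => hs.2 ?_⟩
      rw [hL₁def, c.wl_append, c.wl_append, e, c.wl_reverse hM hs.1]
    · intro x hx y hy e
      simp only [Finset.coe_filter, Finset.mem_range, Set.mem_setOf_eq] at hx hy
      exact c.wl_inj hMrev hx.1 hy.1 e
  suffices ∃ g ∈ D.group F, ∃ a' ∈ D.diagonalSubgroup F, ∃ L' : List ℕ,
      (∀ p ∈ L', p < D.rank) ∧ g * t₁ * g⁻¹ = a' * c.nw F L' ∧ c.movedRoots L' < c.movedRoots L₁ by
    obtain ⟨g, hg, a', ha', L', hL', e, hlt⟩ := this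
    exact ⟨g * g₀, mul_mem hg hg₀, a', ha', L', hL', by rw [← e, ht₁def]; group,
      lt_of_lt_of_le hlt hmoved⟩
  have hsd0 : sd < D.nroots := hMs ▸ c.wl_lt hM hr₀
  have hwsd : c.wl L₁ sd = D.neg sd := by
    have e : c.wl M.reverse sd = r₀ := by
      have h := c.wl_reverse (L := M.reverse) hMrev hr₀
      rwa [List.reverse_reverse, hMs] at h
    rw [hL₁def, c.wl_append, c.wl_append, e, hw₀, c.wl_neg hM hr₀, hMs]
  obtain ⟨z, hz⟩ : ∃ z, c.torus z = a₁ := by
    have h0 : a₁ ∈ (c.torus (F := F)).range := c.diagonalSubgroup_eq (F := F) ▸ ha₁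
    exact h0
  have hcoef : ∀ r < D.nroots, c.wl L₁ r = D.neg r →
      ∃ k σ : Fˣ, (σ = 1 ∨ σ = -1) ∧ k = c.tchar z (D.neg r) * σ ∧ c.Coef t₁ r k := by
    intro r hr hw
    obtain ⟨k, σ, h1, h3, h4⟩ := c.exists_coef z hL₁ hr hw
    rw [hz, ← e₁] at h4
    exact ⟨k, σ, h1, h3, h4⟩
  by_cases hsq : ∃ r < D.nroots, c.wl L₁ r = D.neg r ∧ ∃ k : Fˣ, c.Coef t₁ r k ∧ IsSquare (k : F)
  · obtain ⟨r, hr, hw, k, hk, hk2⟩ := hsq
    exact c.lower_of_square hneg h2 ht₁ ha₁ hL₁ e₁ hr hw hk hk2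
  push Not at hsq
  by_cases hgood : ∃ r s, r < D.nroots ∧ s < D.nroots ∧ c.wl L₁ r = D.neg r ∧
      c.wl L₁ s = D.neg s ∧ c.T.oddGoodPair r s = true
  · obtain ⟨r, s, hr, hs, hwr, hws, hg⟩ := hgood
    simp only [Tables.oddGoodPair, Bool.and_eq_true, isOdd_iff] at hg
    obtain ⟨hodd, hsum⟩ := hg
    obtain ⟨kr, σr, hσr, ekr, hkr⟩ := hcoef r hr hwr
    obtain ⟨ks, σs, hσs, eks, hks⟩ := hcoef s hs hws
    by_cases hm1 : IsSquare (-1 : F)
    · exfalso
      split at hsum
      · cases hsum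
      rename_i u hu
      simp only [Tables.sumOK, Bool.and_eq_true, Nat.blt_eq, List.all_eq_true,
        List.mem_range] at hsum
      obtain ⟨hun, hvec⟩ := hsum
      rw [← c.nroots_eq] at hun
      have hvec' : ∀ j < D.rank, c.T.vec u j = c.T.vec r j + c.T.vec s j := fun j hj =>
        intBeq_imp_eq (hvec j (c.rank_eq ▸ hj))
      have hwu : c.wl L₁ u = D.neg u := c.wl_neg_of_comb hL₁ (Finset.univ : Finset Bool)
        (fun b => bif b then r else s) (fun _ => 1) (fun b _ => by cases b <;> assumption)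
        (fun b _ => by cases b <;> assumption) hun one_ne_zero
        (fun j hj => by simp [hvec' j hj])
      obtain ⟨ku, σu, hσu, eku, hku⟩ := hcoef u hun hwu
      have hσ1 : ∀ σ : Fˣ, σ = 1 ∨ σ = -1 → sgnU F σ = 1 := by
        rintro σ (rfl | rfl)
        · exact map_one _
        · rcases Int.units_eq_one_or (sgnU F (-1)) with h | h
          · exact h
          · exact absurd (by simpa using hm1) (sgnU_eq_neg_one_iff.1 h)
      have hn : ∀ {x : ℕ} {k σ : Fˣ}, x < D.nroots → c.wl L₁ x = D.neg x → c.Coef t₁ x k →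
          (σ = 1 ∨ σ = -1) → k = c.tchar z (D.neg x) * σ → sgnU F (c.tchar z x) = -1 := by
        intro x k σ hx hwx hk hσ ek
        have h := sgnU_eq_neg_one_iff.2 (hsq x hx hwx k hk)
        rw [ek, map_mul, hσ1 σ hσ, mul_one, c.tchar_neg z hx, map_inv] at h
        rw [← inv_inv (sgnU F (c.tchar z x)), h, inv_neg, inv_one]
      have hcode : c.T.code u = c.T.code r + c.T.code s := by
        rw [(c.linear_root hun).1, (c.linear_root hr).1, (c.linear_root hs).1,
          ← List.sum_map_add]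
        refine congrArg List.sum (List.map_congr_left fun j hj => ?_)
        rw [hvec' j (c.rank_eq.symm ▸ List.mem_range.1 hj), add_mul]
      have h3 := hn hun hwu hku hσu eku
      rw [c.tchar_add z hun hr hs hcode, map_mul, hn hr hwr hkr hσr ekr, hn hs hws hks hσs eks]
        at h3
      exact absurd h3 (by decide)
    · -- flipping at `r` makes the coefficient of `s` a square
      obtain ⟨g, hg', eg⟩ := c.move_flip ht₁ hr hkr h2
      have hgm : c.hg r (-1 : F) ∈ D.diagonalSubgroup F := c.hg_mem hr (neg_ne_zero.2 one_ne_zero)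
      have hk2 : c.Coef (g * t₁ * g⁻¹) s (-ks) := by
        intro v
        rw [eg, mul_assoc, hks, ← mul_assoc, show (-1 : F) = ((-1 : Fˣ) : F) by simp, c.hg_eq hr,
          c.dg_mul_xg (χ := c.pairChar r (-1)) ?_ (c.neg_lt hs), mul_assoc]
        · congr 2
          show ((((-1 : Fˣ)) ^ c.T.pairing r (D.neg s) : Fˣ) : F) * _ = _
          rw [c.pairing_neg_right r hs, Odd.neg_one_zpow (Int.odd_iff.2 (by omega))]
          simp
        · have h := c.hg_eq (F := F) hr (-1)
          refine ⟨fun x hx => ?_, fun x y q hx hy hq => ?_⟩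
          · show (-1 : Fˣ) ^ c.T.pairing r (D.neg x) = ((-1) ^ c.T.pairing r x)⁻¹
            rw [c.pairing_neg_right r hx, _root_.zpow_neg]
          · obtain ⟨ζ, hζ⟩ : ∃ ζ, c.torus ζ = c.hg r ((-1 : Fˣ) : F) := by
              have h0 : c.hg r ((-1 : Fˣ) : F) ∈ (c.torus (F := F)).range :=
                c.diagonalSubgroup_eq (F := F) ▸ (by simpa using hgm)
              exact h0
            rw [h, Cert.torus_apply, dg_eq_iff] at hζ
            have hq' := hq
            rw [c.chainRoot_eq hx hy] at hq'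
            rw [← hζ x hx, ← hζ y hy, ← hζ q (c.chainRoot_lt hx hy hq')]
            exact (c.tchar_isRootCharacter ζ).2 x y q hx hy hq
      have hsq' : IsSquare ((-ks : Fˣ) : F) := by
        have hs1 := sgnU_eq_neg_one_iff.2 (hsq s hs hws ks hks)
        have hs2 : sgnU F (-1) = -1 := sgnU_eq_neg_one_iff.2 (by simpa using hm1)
        by_contra hns
        have := sgnU_eq_neg_one_iff.2 hns
        rw [← neg_one_mul ks, map_mul, hs1, hs2] at this
        exact absurd this (by decide)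
      obtain ⟨g', hg'', a', ha', L', hL', e', hlt⟩ := c.lower_of_square hneg h2 (c.conj_sq ht₁)
        (mul_mem hgm ha₁) hL₁ (by rw [eg, e₁, mul_assoc]) hs hws hk2 hsq'
      exact ⟨g' * g, mul_mem hg'' hg', a', ha', L', hL', by rw [← e']; group, hlt⟩
  push Not at hgood
  exfalso
  -- all negated roots are pairwise strongly orthogonal
  simp only [Tables.checkOrthPairs, List.all_eq_true, Bool.or_eq_true, List.any_eq_true] at hpairs
  simp only [Tables.checkFrames, List.all_eq_true, Bool.and_eq_true, Nat.ble_eq,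
    Nat.blt_eq] at hframes
  obtain ⟨⟨hsdh, hsdn⟩, hsearch⟩ := hframes sd hsd
  have hsdpos : c.Pos sd := ⟨hsdh, hsd0⟩
  have hstrong : ∀ r s, c.Pos r → c.Pos s → r ≠ s → c.wl L₁ r = D.neg r →
      c.wl L₁ s = D.neg s → c.T.strong r s = true := by
    intro r s hr hs hne hwr hws
    rcases hpairs r (c.mem_posDown.2 hr) s (c.mem_posDown.2 hs) with (h | h) | h
    · exact absurd (Nat.eq_of_beq_eq_true h) hne
    · exact h
    exfalso
    obtain ⟨x, hx, y, hy, hxy⟩ := h
    have hmem : ∀ x ∈ c.T.cand r s, x < D.nroots ∧ c.wl L₁ x = D.neg x := by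
      intro x hx
      have base : ∀ y ∈ [r, c.T.neg r, s, c.T.neg s], y < D.nroots ∧ c.wl L₁ y = D.neg y := by
        intro y hy
        rw [← c.neg_eq hr.2, ← c.neg_eq hs.2] at hy
        simp only [List.mem_cons, List.not_mem_nil, or_false] at hy
        rcases hy with rfl | rfl | rfl | rfl
        · exact ⟨hr.2, hwr⟩
        · exact ⟨c.neg_lt hr.2, by rw [c.wl_neg hL₁ hr.2, hwr]⟩
        · exact ⟨hs.2, hws⟩
        · exact ⟨c.neg_lt hs.2, by rw [c.wl_neg hL₁ hs.2, hws]⟩
      simp only [Tables.cand, List.mem_append, List.mem_filterMap] at hx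
      rcases hx with hx | ⟨q, hq, he⟩
      · exact base x hx
      obtain ⟨p1, p2⟩ : (q.1 < D.nroots ∧ c.wl L₁ q.1 = D.neg q.1) ∧
          (q.2 < D.nroots ∧ c.wl L₁ q.2 = D.neg q.2) := by
        simp only [List.mem_cons, List.not_mem_nil, or_false] at hq
        rcases hq with rfl | rfl | rfl | rfl <;> exact ⟨base _ (by simp), base _ (by simp)⟩
      split at he
      · cases he
      rename_i v hv
      cases hsum : c.T.sumOK q.1 q.2 v
      · rw [hsum, cond_false] at he; cases he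
      rw [hsum, cond_true, Option.some.injEq] at he
      subst he
      simp only [Tables.sumOK, Bool.and_eq_true, Nat.blt_eq, List.all_eq_true,
        List.mem_range] at hsum
      rw [← c.nroots_eq] at hsum
      exact ⟨hsum.1, c.wl_neg_of_comb hL₁ (Finset.univ : Finset Bool)
        (fun b => bif b then q.1 else q.2) (fun _ => 1)
        (fun b _ => by cases b; exacts [p2.1, p1.1]) (fun b _ => by cases b; exacts [p2.2, p1.2])
        hsum.1 one_ne_zero (fun j hj => by
          simp [intBeq_imp_eq (hsum.2 j (c.rank_eq ▸ hj))])⟩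
    exact absurd hxy (by
      simpa using hgood x y (hmem x hx).1 (hmem y hy).1 (hmem x hx).2 (hmem y hy).2)
  set inS : ℕ → Bool := fun r => decide (c.wl L₁ r = D.neg r ∧ r ≠ sd)
  set l := c.T.posDown.filter inS with hl
  have hlmem : ∀ r, r ∈ l ↔ c.Pos r ∧ c.wl L₁ r = D.neg r ∧ r ≠ sd := fun r => by
    simp [hl, inS, c.mem_posDown]
  have hnodup : c.T.posDown.Nodup := List.nodup_reverse.2 List.nodup_range'
  have hlst : l.Pairwise (fun x y => c.T.strong x y = true) := by
    refine (hnodup.filter inS).imp_of_mem fun {x y} hx hy hne => ?_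
    obtain ⟨h1, h2', -⟩ := (hlmem x).1 hx
    obtain ⟨h4, h5, -⟩ := (hlmem y).1 hy
    exact hstrong x y h1 h4 hne h2' h5
  have hsub : List.Sublist l (c.T.posDown.filter fun b => Nat.testBit (d.orth.get sd) b) := by
    simp only [Tables.checkRows, List.all_eq_true, Bool.and_eq_true, beq_iff_eq] at hrows
    have : l.filter (fun b => Nat.testBit (d.orth.get sd) b) = l := by
      refine List.filter_eq_self.2 fun b hb => ?_
      obtain ⟨h1, h2', h3⟩ := (hlmem b).1 hb
      rw [(hrows sd (c.mem_posDown.2 hsdpos)).2 b (c.mem_posDown.2 h1)]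
      exact hstrong sd b hsdpos h1 (Ne.symm h3) hwsd h2'
    rw [← this, hl, List.filter_filter]
    exact List.monotone_filter_right _ (fun b h => by simp only [Bool.and_eq_true] at h; exact h.1)
  have hps : ∀ r ∈ sd :: l, c.Pos r ∧ c.wl L₁ r = D.neg r := by
    intro r hr
    rcases List.mem_cons.1 hr with rfl | hr
    · exact ⟨hsdpos, hwsd⟩
    · exact ⟨((hlmem r).1 hr).1, ((hlmem r).1 hr).2.1⟩
  have hpwS : (sd :: l).Pairwise (fun x y => c.T.strong x y = true) :=
    List.pairwise_cons.2 ⟨fun y hy =>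
      hstrong sd y hsdpos ((hlmem y).1 hy).1 (Ne.symm ((hlmem y).1 hy).2.2) hwsd ((hlmem y).1 hy).2.1,
      hlst⟩
  have hpar := c.frame_parity hneg ht₁ ha₁ hL₁ e₁ (ps := sd :: l) (fun r hr => (hps r hr).1.2)
    (hpwS.imp_of_mem fun {x y} hx hy h => c.orth_of_strong (hps x hx).1.2 (hps y hy).1.2 h)
    (fun r hr => (hps r hr).2)
    (fun s hs hw => by
      have hmem : ∀ q, c.Pos q → c.wl L₁ q = D.neg q → q ∈ sd :: l := fun q h1 h2' => by
        by_cases hq : q = sd
        · simp [hq]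
        · exact List.mem_cons_of_mem _ ((hlmem q).2 ⟨h1, h2', hq⟩)
      by_cases hp : c.Pos s
      · exact Or.inl (hmem s hp hw)
      · exact Or.inr (hmem _ ((c.not_pos_iff hs).1 hp) (by rw [c.wl_neg hL₁ hs, hw])))
    (fun r hr k hk => hsq r (hps r hr).1.2 (hps r hr).2 k hk)
  have hsearch' : c.T.frameSearch d (c.T.l + 2) [sd] (xorRows d.par [sd])
      (c.T.posDown.filter fun b => Nat.testBit (d.orth.get sd) b) = true := by
    have e : xorRows d.par [sd] = d.par.get sd := Nat.xor_zero _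
    rw [e]; exact hsearch
  obtain ⟨qs, hq1, hq2⟩ := c.frameSearch_sound hrows _ [sd] _ hsearch' l hsub
    (fun r hr => (hps r hr).1) hlst hpar
  simp only [Tables.spanRoot, List.any_eq_true, Bool.and_eq_true, Bool.not_eq_true',
    List.all_eq_true, List.mem_range] at hq2
  obtain ⟨u, hu, hunot, hcomb⟩ := hq2
  have hupos := c.mem_posDown.1 hu
  have hqs : ∀ r ∈ qs, c.Pos r ∧ c.wl L₁ r = D.neg r := fun r hr => hps r (hq1 r hr)
  have hvec : ∀ j < D.rank, (2 : ℤ) * c.T.vec u j =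
      ∑ i ∈ Finset.range qs.length, c.T.pairing (qs.getD i 0) u * c.T.vec (qs.getD i 0) j := by
    intro j hj
    rw [intBeq_imp_eq (hcomb j (c.rank_eq ▸ hj)), Finset.sum_range,
      ← Fin.sum_univ_getElem (qs.map fun r => c.T.pairing r u * c.T.vec r j)]
    refine Finset.sum_equiv (finCongr (by simp)) (by simp) fun i _ => ?_
    have hi : (i : ℕ) < qs.length := by
      have := i.isLt
      simpa using this
    simp [List.getD_eq_getElem?_getD, List.getElem?_eq_getElem hi]
  have hget : ∀ i ∈ Finset.range qs.length, qs.getD i 0 ∈ qs := fun i hi => by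
    rw [List.getD_eq_getElem _ _ (Finset.mem_range.1 hi)]
    exact List.getElem_mem _
  have hwu : c.wl L₁ u = D.neg u := c.wl_neg_of_comb hL₁ (Finset.range qs.length)
    (fun i => qs.getD i 0) (fun i => c.T.pairing (qs.getD i 0) u)
    (fun i hi => (hqs _ (hget i hi)).1.2) (fun i hi => (hqs _ (hget i hi)).2) hupos.2 two_ne_zero hvec
  have hunq : u ∉ qs := fun hm => by
    have : qs.any (Nat.beq u) = true := List.any_eq_true.2 ⟨u, hm, by simp⟩
    rw [this] at hunot; simp at hunot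
  have hzero : ∀ j < D.rank, c.T.vec u j = 0 := fun j hj => by
    have h := hvec j hj
    rw [Finset.sum_eq_zero fun i hi => ?_] at h
    · omega
    · have hq := hqs _ (hget i hi)
      have hne : qs.getD i 0 ≠ u := fun e => hunq (e ▸ hget i hi)
      have horth := c.orth_of_strong hq.1.2 hupos.2 (hstrong _ u hq.1 hupos hne hq.2 hwu)
      rw [horth.2.2.1, zero_mul]
  have h := c.eq_of_vec hupos.2 (c.neg_lt hupos.2) fun j hj => by
    rw [c.vec_neg hupos.2 hj, hzero j hj, neg_zero]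
  exact c.neg_ne hupos.2 h.symm

omit hneg in
/-- Every involution is conjugate into the split torus. -/
theorem exists_conj_mem_H {d : InvData} (hchk : c.T.checkInv d = true) (h2 : (2 : F) ≠ 0)
    {p : ℕ} [Fact p.Prime] [CharP F p] {t : GL D.Idx F} (ht : t ∈ D.group F) (ht2 : t * t = 1) :
    ∃ g ∈ D.group F, g * t * g⁻¹ ∈ D.diagonalSubgroup F := by
  classical
  have hchk' := hchk
  simp only [Tables.checkInv, Bool.and_eq_true] at hchk'
  obtain ⟨⟨⟨⟨⟨hneg, hodd'⟩, -⟩, -⟩, -⟩, -⟩ := hchk'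
  have hodd : c.OddPair := fun r hr => by
    simp only [Tables.checkOddPair, c.allRoots_iff, List.any_eq_true, List.mem_range] at hodd'
    obtain ⟨s, hs, h⟩ := hodd' r hr
    exact ⟨s, c.nroots_eq ▸ hs, isOdd_iff.1 h⟩
  have hm1 : (-1 : F) ≠ 1 := fun e => h2 (by linear_combination -e)
  obtain ⟨g, hg, hN⟩ := c.exists_conj_mem_N hodd hm1 (p := p) ht ht2
  obtain ⟨a, ha, L, hL, e⟩ := c.mem_monomial_iff.1 hN
  suffices ∀ (m : ℕ) (L : List ℕ), c.movedRoots L = m → (∀ p ∈ L, p < D.rank) →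
      ∀ a ∈ D.diagonalSubgroup F, ∀ g ∈ D.group F, g * t * g⁻¹ = a * c.nw F L →
        ∃ g ∈ D.group F, g * t * g⁻¹ ∈ D.diagonalSubgroup F from this _ L rfl hL a ha g hg e
  intro m
  induction m using Nat.strong_induction_on with
  | _ m ih =>
  intro L hm hL a ha g hg e
  by_cases hmv : ∃ s < D.nroots, c.wl L s ≠ s
  · obtain ⟨g', hg', a', ha', L', hL', e', hlt⟩ :=
      c.exists_lower hneg hchk h2 (c.conj_sq (g := g) ht2) ha hL e hmv
    exact ih _ (hm ▸ hlt) L' rfl hL' a' ha' (g' * g) (mul_mem hg' hg) (by rw [← e']; group)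
  · push Not at hmv
    refine ⟨g, hg, ?_⟩
    rw [e]
    exact c.mem_H_of_wl ha hL fun q hq => by
      rw [hmv _ (c.simple_lt hq)]; exact c.pos_simple hq

end CertFull

end Cfsg.Agent.Lie.Chev
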