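import Cfsg.Agent.Lib.Lie.Chev.InvolutionCentralizer
import Cfsg.Agent.Lib.Lie.Chev.InvolutionSubChain
import Cfsg.Agent.Lib.Lie.Chev.InvolutionToral

/-! Involutions of the split torus in odd characteristic: certified stabilisers in the Weyl group,
the orders of their centralisers, and their classes. -/

set_option autoImplicit false

namespace Cfsg.Agent.Lie.Chev

open Cfsg.Lie Matrix

/-- An involution of the torus with its stabiliser: reflections of the fixed roots, their chain,
the orbit words, the Schreier steps and the degrees. -/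
structure StabData where
  y : ℕ
  gens : List SubGen
  levels : List SubLevel
  orbit : List (List ℕ)
  steps : List (List (ℕ × List ℕ))
  degs : List ℕ

namespace Tables

variable (T : Tables)

/-- The exponent of a root at the nodes of a bit mask. -/
def signExp (y s : ℕ) : ℤ :=
  ((List.range T.l).map fun i => bif Nat.testBit y i then T.cartan i s else 0).sum

/-- Whether the character of a bit mask is trivial on a root. -/
def parityEven (y s : ℕ) : Bool := !(isOdd (T.signExp y s))

/-- The exponent of a root at the fundamental roots of a bit mask. -/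
def maskExp (m s : ℕ) : ℤ :=
  ((List.range T.l).map fun j => bif Nat.testBit m j then T.vec s j else 0).sum

/-- Images of the fundamental roots under a word. -/
def wordImg (w : List ℕ) : List ℕ := (List.range T.l).map fun q => T.wlT w (T.simple q)

/-- The stabiliser certificate. -/
def checkStab (d : StabData) : Bool :=
  T.checkSubGens d.gens && T.checkSubLevels d.gens d.levels &&
  Nat.beq (subNgen d.levels) d.gens.length &&
  T.checkSubPoly d.gens T.l d.levels d.degs &&
  (d.gens.all fun g => T.allRoots fun x => T.parityEven d.y (g.act.get x) == T.parityEven d.y x) &&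
  (T.posDown.all fun x => T.parityEven d.y x == (subRoots d.levels).any (Nat.beq x)) &&
  ((List.range T.l).any fun q => !(T.parityEven d.y (T.simple q))) &&
  ((d.orbit.getD 0 [0]).isEmpty) &&
  ((List.range d.orbit.length).all fun j =>
    ((d.orbit.getD j []).all fun p => Nat.blt p T.l) &&
    (Nat.beq j 0 || (List.range T.l).any fun q =>
      !(T.parityEven d.y (T.wlT (d.orbit.getD j []) (T.simple q)) == T.parityEven d.y (T.simple q))) &&
    (List.range T.l).all fun i =>
      let cl := (d.steps.getD j []).getD i (0, [])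
      Nat.blt cl.1 d.orbit.length && (cl.2.all fun v => Nat.blt v d.gens.length) &&
        natsBeq (T.wordImg (i :: d.orbit.getD j []))
          (((T.subImg d.gens cl.2)).map (T.wlT (d.orbit.getD cl.1 []))))

/-- Every mask is moved to one of two seeds. -/
def checkMasks (y₁ y₂ : ℕ) (tb : List (Bool × List ℕ)) : Bool :=
  (List.range (2 ^ T.l)).all fun m => Nat.beq m 0 ||
    let e := tb.getD m (true, [])
    (e.2.all fun p => Nat.blt p T.l) && (List.range T.l).all fun q =>
      T.parityEven (bif e.1 then y₁ else y₂) (T.simple q) ==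
        !(isOdd (T.maskExp m (T.wlT e.2 (T.simple q))))

end Tables

namespace CertFull

variable {D : ChevalleyDatum} (c : CertFull D) {F : Type*} [Field F]

/-- The torus parameter of a bit mask. -/
def signPar (F : Type*) [Field F] (y : ℕ) : ℕ → Fˣ := fun i => bif Nat.testBit y i then -1 else 1

omit [Field F] in
theorem neg_one_units_ne {F : Type*} [Field F] (h2 : (2 : F) ≠ 0) : (-1 : Fˣ) ≠ 1 := fun e => by
  refine h2 ?_
  have := congrArg (Units.val) e
  rw [Units.val_neg, Units.val_one] at this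
  linear_combination -this

theorem neg_one_zpow_eq {F : Type*} [Field F] (h2 : (2 : F) ≠ 0) (k : ℤ) :
    ((-1 : Fˣ) ^ k = 1 ↔ isOdd k = false) := by
  rw [Bool.eq_false_iff, ne_eq, isOdd_iff]
  rcases Int.even_or_odd k with h | h
  · rw [h.neg_one_zpow]
    simp only [true_iff]
    rw [Int.even_iff] at h
    omega
  · rw [h.neg_one_zpow, iff_false_left (neg_one_units_ne h2), not_not]
    exact Int.odd_iff.1 h

include c

theorem sum_range_l (f : ℕ → ℤ) :
    ((List.range c.T.l).map f).sum = ∑ j ∈ Finset.range D.rank, f j := by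
  rw [← List.sum_toFinset _ List.nodup_range, List.toFinset_range, c.rank_eq]

theorem tchar_signPar (y s : ℕ) :
    c.tchar (signPar F y) s = (-1 : Fˣ) ^ c.T.signExp y s := by
  rw [Tables.signExp, c.sum_range_l, Cert.tchar, ← zpow_sum_eq]
  refine Finset.prod_congr rfl fun i _ => ?_
  simp only [signPar]
  cases Nat.testBit y i <;> simp

theorem tchar_signPar_or (y s : ℕ) :
    c.tchar (signPar F y) s = 1 ∨ c.tchar (signPar F y) s = -1 := by
  rw [c.tchar_signPar]
  rcases Int.even_or_odd (c.T.signExp y s) with h | h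
  · exact Or.inl h.neg_one_zpow
  · exact Or.inr h.neg_one_zpow

theorem tchar_signPar_iff (h2 : (2 : F) ≠ 0) (y s : ℕ) :
    c.tchar (signPar F y) s = 1 ↔ c.T.parityEven y s = true := by
  rw [c.tchar_signPar, neg_one_zpow_eq h2, Tables.parityEven, Bool.not_eq_true']

theorem tchar_signPar_congr (h2 : (2 : F) ≠ 0) {y x s : ℕ}
    (h : c.T.parityEven y x = c.T.parityEven y s) :
    c.tchar (signPar F y) x = c.tchar (signPar F y) s := by
  rcases c.tchar_signPar_or (F := F) y x with a | a <;>
    rcases c.tchar_signPar_or (F := F) y s with b | b <;> rw [a, b]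
  · rw [c.tchar_signPar_iff h2, h, ← c.tchar_signPar_iff h2, b] at a
    exact a.symm
  · rw [c.tchar_signPar_iff h2, ← h, ← c.tchar_signPar_iff h2, a] at b
    exact b

omit c in
theorem card_filter_roots {R : List ℕ} (hR : R.Nodup) (P : ℕ → Prop) (f : ℕ → Bool)
    (hP : ∀ r ∈ R, (P r ↔ f r = true)) :
    Nat.card {r : ℕ | r ∈ R ∧ P r} = R.countP f := by
  rw [Nat.card_coe_set_eq, List.countP_eq_length_filter,
    ← List.toFinset_card_of_nodup (hR.filter f), ← Set.ncard_coe_finset]
  congr 1
  ext r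
  simp only [Set.mem_ofPred_eq, List.coe_toFinset, List.mem_filter]
  exact and_congr_right fun hr => hP r hr

/-- The centraliser of a certified torus involution. -/
theorem card_centralizer_sign [Fintype F] (h2 : (2 : F) ≠ 0) {d : StabData}
    (hd : c.T.checkStab d = true) {g : ℕ}
    (hH : g * Nat.card (D.diagonalSubgroup F) = (Fintype.card F - 1) ^ D.rank) :
    g * Nat.card {x : D.group F //
        c.torus (signPar F d.y) * (x : GL D.Idx F) = (x : GL D.Idx F) * c.torus (signPar F d.y)} =
      Fintype.card F ^ (Tables.subRoots d.levels).length *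
        (d.degs.map fun k => Fintype.card F ^ k - 1).prod := by
  simp only [Tables.checkStab, Bool.and_eq_true, List.all_eq_true, List.mem_range, Bool.or_eq_true,
    List.any_eq_true, Nat.beq_eq, Nat.blt_eq, List.isEmpty_iff, c.allRoots_iff, beq_iff_eq,
    Bool.not_eq_true', beq_eq_false_iff_ne] at hd
  obtain ⟨⟨⟨⟨⟨⟨⟨⟨hgs, hls⟩, hn⟩, hpoly⟩, hpar⟩, hroots⟩, -⟩, h0⟩, horb⟩ := hd
  obtain ⟨-, ⟨hRpos, hRnd⟩, hlt', hex', -, hpw', -⟩ := c.subChain_spec hgs d.levels hls
  rw [hn] at hlt' hex'
  set R := Tables.subRoots d.levels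
  set z := signPar F d.y
  have hwl : ∀ (w : List ℕ), ∀ p ∈ Tables.subWord d.gens w, p < D.rank :=
    fun w => c.subWord_lt hgs
  have hgfix : ∀ w : List ℕ, (∀ i ∈ w, i < d.gens.length) → ∀ x < D.nroots,
      c.T.parityEven d.y (Tables.subAct d.gens w x) = c.T.parityEven d.y x := by
    intro w
    induction w with
    | nil => exact fun _ x _ => rfl
    | cons i w ih =>
      intro hw x hx
      have hi : i < d.gens.length := hw i (by simp)
      have hw' : ∀ j ∈ w, j < d.gens.length := fun j hj => hw j (by simp [hj])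
      show c.T.parityEven d.y ((d.gens.getD i _).act.get (Tables.subAct d.gens w x)) = _
      rw [List.getD_eq_getElem _ _ hi, hpar _ (List.getElem_mem hi) _ (c.subAct_lt hgs hw' hx),
        ih hw' x hx]
  have himgO : ∀ j, j < d.orbit.length → ∀ p ∈ d.orbit.getD j [], p < D.rank := fun j hj p hp =>
    c.rank_eq.symm ▸ (horb j hj).1.1 p hp
  have hlen : 0 < d.orbit.length := by
    rcases hd0 : d.orbit with - | ⟨a, L⟩
    · rw [hd0] at h0; simp at h0
    · simp
  have ho0 : d.orbit.getD 0 [] = [] := by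
    rw [List.getD_eq_getElem _ _ hlen] at h0 ⊢
    exact h0
  have hdec : ∀ L : List ℕ, (∀ p ∈ L, p < D.rank) → ∃ j < d.orbit.length, ∃ v : List ℕ,
      (∀ i ∈ v, i < d.gens.length) ∧
      c.Same L (d.orbit.getD j [] ++ Tables.subWord d.gens v) := by
    intro L
    induction L with
    | nil => exact fun _ => ⟨0, hlen, [], by simp, fun q _ => by rw [ho0]; rfl⟩
    | cons i L ih =>
      intro hL
      have hi : i < D.rank := hL i (by simp)
      have hL' : ∀ p ∈ L, p < D.rank := fun p hp => hL p (by simp [hp])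
      obtain ⟨j, hj, v, hv, e⟩ := ih hL'
      obtain ⟨-, hs⟩ := horb j hj
      obtain ⟨⟨hk, hv'⟩, him⟩ := hs i (c.rank_eq ▸ hi)
      set cl := (d.steps.getD j []).getD i (0, [])
      refine ⟨cl.1, hk, cl.2 ++ v, fun q hq => (List.mem_append.1 hq).elim (hv' q) (hv q), ?_⟩
      have hio : ∀ p ∈ i :: d.orbit.getD j [], p < D.rank := by
        intro p hp
        rcases List.mem_cons.1 hp with rfl | hp
        exacts [hi, himgO j hj p hp]
      have hks : ∀ p ∈ d.orbit.getD cl.1 [] ++ Tables.subWord d.gens cl.2, p < D.rank :=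
        fun p hp => (List.mem_append.1 hp).elim (himgO _ hk p) (hwl _ p)
      have e2 : c.Same (i :: d.orbit.getD j [])
          (d.orbit.getD cl.1 [] ++ Tables.subWord d.gens cl.2) := by
        intro q hq
        have h' := natsBeq_iff.1 him
        simp only [Tables.wordImg, Tables.subImg, List.map_map] at h'
        have := List.map_inj_left.1 h' q (List.mem_range.2 (c.rank_eq ▸ hq))
        simp only [Function.comp_apply] at this
        rw [c.wlT_eq, ← c.simple_eq hq, c.subAct_eq hgs hv' (c.simple_lt hq), c.wlT_eq,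
          ← c.wl_append] at this
        exact this
      intro q hq
      rw [Cert.wl_cons, e q hq, ← Cert.wl_cons, ← List.cons_append, c.wl_append,
        c.wl_eq_of_same hio hks e2 (c.wl_lt (hwl v) (c.simple_lt hq)), ← c.wl_append,
        List.append_assoc, show Tables.subWord d.gens cl.2 ++ Tables.subWord d.gens v =
          Tables.subWord d.gens (cl.2 ++ v) by simp [Tables.subWord]]
  set E := (Tables.subWords d.levels).map (Tables.subWord d.gens)
  have hE : ∀ v ∈ E, ∃ w ∈ Tables.subWords d.levels, v = Tables.subWord d.gens w := fun v hv => by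
    obtain ⟨w, hw, rfl⟩ := List.mem_map.1 hv
    exact ⟨w, hw, rfl⟩
  have hkeep : ∀ v ∈ E, c.KeepsChar z v := by
    intro v hv s hs
    obtain ⟨w, hw, rfl⟩ := hE v hv
    rw [← c.subAct_eq hgs (hlt' w hw) hs]
    exact c.tchar_signPar_congr h2 (hgfix w (hlt' w hw) s hs)
  have hex : ∀ L : List ℕ, (∀ p ∈ L, p < D.rank) → c.KeepsChar z L → ∃ v ∈ E, c.Same L v := by
    intro L hL hkL
    obtain ⟨j, hj, v, hv, e⟩ := hdec L hL
    obtain ⟨w, hw, e2⟩ := hex' v hv
    refine ⟨_, List.mem_map.2 ⟨w, hw, rfl⟩, ?_⟩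
    have hov : ∀ p ∈ d.orbit.getD j [] ++ Tables.subWord d.gens v, p < D.rank := fun p hp =>
      (List.mem_append.1 hp).elim (himgO j hj p) (hwl v p)
    have hj0 : j = 0 := by
      by_contra hne
      rcases (horb j hj).1.2 with h | ⟨q, hq, h⟩
      · exact hne h
      refine h ?_
      rw [← c.rank_eq] at hq
      rw [c.wlT_eq, ← c.simple_eq hq]
      obtain ⟨s, hs, hs'⟩ : ∃ s < D.nroots, c.wl (Tables.subWord d.gens v) s = D.simple q := by
        have hrev : ∀ p ∈ (Tables.subWord d.gens v).reverse, p < D.rank :=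
          fun p hp => hwl v p (List.mem_reverse.1 hp)
        exact ⟨_, c.wl_lt hrev (c.simple_lt hq), c.wl_reverse (hwl v) (c.simple_lt hq)⟩
      have e3 := c.wl_eq_of_same hL hov e hs
      rw [c.wl_append, hs'] at e3
      have h5 : c.T.parityEven d.y (D.simple q) = c.T.parityEven d.y s := by
        rw [← hs', ← c.subAct_eq hgs hv hs, hgfix v hv s hs]
      rw [h5, ← e3]
      have h6 := hkL s hs
      rw [Bool.eq_iff_iff, ← c.tchar_signPar_iff h2, ← c.tchar_signPar_iff h2, h6]
    subst hj0
    intro q hq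
    rw [e q hq, ho0, List.nil_append, ← c.subAct_eq hgs hv (c.simple_lt hq),
      e2 _ (c.simple_lt hq), c.subAct_eq hgs (hlt' w hw) (c.simple_lt hq)]
  have hpw : E.Pairwise fun a b => ¬ c.Same a b := by
    refine List.pairwise_map.2 (hpw'.imp_of_mem fun {a b} ha hb hne hs => hne fun x hx => ?_)
    rw [c.subAct_eq hgs (hlt' a ha) hx, c.subAct_eq hgs (hlt' b hb) hx,
      c.wl_eq_of_same (hwl a) (hwl b) hs hx]
  have hlt : ∀ v ∈ E, ∀ p ∈ v, p < D.rank := fun v hv => by
    obtain ⟨w, -, rfl⟩ := hE v hv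
    exact hwl w
  have hS : ∀ r < D.nroots, c.Pos r → (c.tchar z r = 1 ↔ r ∈ R) := by
    intro r _ hr
    rw [c.tchar_signPar_iff h2, hroots r (c.mem_posDown.2 hr), List.any_eq_true]
    exact ⟨fun ⟨x, hx, e⟩ => Nat.eq_of_beq_eq_true e ▸ hx, fun hx => ⟨r, hx, Nat.beq_refl r⟩⟩
  have hP : ({r | c.Pos r} ∩ {r | c.tchar z r = 1} : Set ℕ) = {r : ℕ | r ∈ R ∧ True} :=
    Set.ext fun r => ⟨fun h => ⟨(hS r h.1.2 h.1).1 h.2, trivial⟩,
      fun h => ⟨hRpos r h.1, (hS r (hRpos r h.1).2 (hRpos r h.1)).2 h.1⟩⟩
  have hcount : ∀ w ∈ Tables.subWords d.levels,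
      Nat.card (c.invSet (Tables.subWord d.gens w) ∩ {r | c.tchar z r = 1} : Set ℕ) =
        c.T.subInv d.gens R w := by
    intro w hw
    rw [show (c.invSet (Tables.subWord d.gens w) ∩ {r | c.tchar z r = 1} : Set ℕ) =
      {r : ℕ | r ∈ R ∧ ¬ c.Pos (c.wl (Tables.subWord d.gens w) r)} from Set.ext fun r =>
        ⟨fun h => ⟨(hS r h.1.1.2 h.1.1).1 h.2, h.1.2⟩,
          fun h => ⟨⟨hRpos r h.1, h.2⟩, (hS r (hRpos r h.1).2 (hRpos r h.1)).2 h.1⟩⟩]
    refine card_filter_roots hRnd _ _ fun r hr => ?_
    have := c.wl_lt (hwl w) (hRpos r hr).2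
    rw [← c.subAct_eq hgs (hlt' w hw) (hRpos r hr).2] at this ⊢
    rw [Nat.blt_eq, Cert.Pos]
    omega
  have h3 := c.subPoly_eq hgs hls (x := (Fintype.card F : ℤ))
    (show c.T.checkSubPoly d.gens D.rank d.levels d.degs = true by rw [c.rank_eq]; exact hpoly)
  rw [c.card_centralizer_torus z hlt hex hpw hkeep, hP,
    card_filter_roots hRnd _ (fun _ => true) (fun r _ => by simp), List.countP_true, List.map_map,
    List.map_congr_left fun w hw => by rw [Function.comp_apply, hcount w hw]]
  have h1 : 1 ≤ Fintype.card F := Fintype.card_pos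
  apply Nat.cast_injective (R := ℤ)
  have hH' := congrArg (Nat.cast : ℕ → ℤ) hH
  push_cast [Nat.cast_sub h1] at hH'
  push_cast [Nat.cast_list_sum, Nat.cast_list_prod, List.map_map, Function.comp_def]
  have e1 : d.degs.map (fun k => ((Fintype.card F ^ k - 1 : ℕ) : ℤ)) =
      d.degs.map (fun k => (Fintype.card F : ℤ) ^ k - 1) :=
    List.map_congr_left fun k _ => by
      rw [Nat.cast_sub (Nat.one_le_pow _ _ h1)]; push_cast; rfl
  rw [e1, ← h3]
  linear_combination ((Fintype.card F : ℤ) ^ R.length *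
    ((Tables.subWords d.levels).map fun v =>
      (Fintype.card F : ℤ) ^ c.T.subInv d.gens R v).sum) * hH'

theorem torus_signPar_ne_one (h2 : (2 : F) ≠ 0) {d : StabData} (hd : c.T.checkStab d = true) :
    c.torus (signPar F d.y) ≠ 1 := by
  simp only [Tables.checkStab, Bool.and_eq_true, List.any_eq_true, List.mem_range,
    Bool.not_eq_true'] at hd
  obtain ⟨q, hq, hodd⟩ := hd.1.1.2
  intro e
  rw [← c.rank_eq] at hq
  have : c.tchar (signPar F d.y) (D.simple q) = 1 := by
    rw [← map_one (c.torus (F := F)), Cert.torus_apply, Cert.torus_apply, dg_eq_iff] at e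
    rw [e _ (c.simple_lt hq)]
    simp [Cert.tchar]
  rw [c.tchar_signPar_iff h2, c.simple_eq hq, hodd] at this
  cases this

theorem torus_signPar_sq (y : ℕ) :
    c.torus (signPar F y) * c.torus (signPar F y) = 1 := by
  rw [← map_mul, show signPar F y * signPar F y = 1 from funext fun i => by
    simp only [Pi.mul_apply, signPar, Pi.one_apply]; cases Nat.testBit y i <;> simp, map_one]

/-- Every involution of the torus is conjugate to one of the seeds. -/
theorem exists_conj_seed (h2 : (2 : F) ≠ 0) {y₁ y₂ : ℕ} {tb : List (Bool × List ℕ)}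
    (hm : c.T.checkMasks y₁ y₂ tb = true) {t : GL D.Idx F} (ht : t ∈ D.diagonalSubgroup F)
    (hne : t ≠ 1) (ht2 : t * t = 1) : ∃ n ∈ D.group F,
      n * t * n⁻¹ = c.torus (signPar F y₁) ∨ n * t * n⁻¹ = c.torus (signPar F y₂) := by
  rw [c.diagonalSubgroup_eq] at ht
  obtain ⟨z, rfl⟩ := ht
  have hsq : ∀ s < D.nroots, c.tchar z s = 1 ∨ c.tchar z s = -1 := by
    intro s hs
    rw [← map_mul, ← map_one (c.torus (F := F)), Cert.torus_apply, Cert.torus_apply,
      dg_eq_iff] at ht2
    have h := ht2 s hs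
    have h' : c.tchar z s * c.tchar z s = 1 := by
      rw [show c.tchar z s * c.tchar z s = c.tchar (z * z) s from ?_, h]
      · simp [Cert.tchar]
      · simp [Cert.tchar, mul_zpow, Finset.prod_mul_distrib]
    rcases mul_self_eq_one_iff.1 (show (c.tchar z s : F) * (c.tchar z s : F) = 1 by
      rw [← Units.val_mul, h', Units.val_one]) with e | e
    · exact Or.inl (Units.ext e)
    · exact Or.inr (Units.ext (by rw [e, Units.val_neg, Units.val_one]))
  classical
  set f : Fin c.T.l → Bool := fun j => decide (c.tchar z (D.simple j) = -1)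
  set m := Nat.ofBits f
  have hbit : ∀ j < D.rank, c.tchar z (D.simple j) = bif Nat.testBit m j then -1 else 1 := by
    intro j hj
    rw [show Nat.testBit m j = f ⟨j, c.rank_eq ▸ hj⟩ from Nat.testBit_ofBits_lt f j _]
    rcases hsq _ (c.simple_lt hj) with e | e <;> simp [f, e, (neg_one_units_ne h2).symm]
  have hmask : ∀ s < D.nroots, (c.tchar z s = 1 ↔ isOdd (c.T.maskExp m s) = false) := by
    intro s hs
    rw [← neg_one_zpow_eq h2 (c.T.maskExp m s), c.tchar_eq_prod z hs, Tables.maskExp,
      c.sum_range_l, ← zpow_sum_eq]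
    refine iff_of_eq (congrArg (· = 1) (Finset.prod_congr rfl fun j hj => ?_))
    rw [hbit j (Finset.mem_range.1 hj)]
    cases Nat.testBit m j <;> simp
  have hm0 : m ≠ 0 := by
    intro e
    refine hne ?_
    rw [← map_one (c.torus (F := F)), Cert.torus_apply, Cert.torus_apply]
    refine dg_ext D F fun s hs => ?_
    rw [show c.tchar (1 : ℕ → Fˣ) s = 1 by simp [Cert.tchar], hmask s hs, e]
    simp [Tables.maskExp, isOdd]
    rfl
  simp only [Tables.checkMasks, List.all_eq_true, List.mem_range, Bool.or_eq_true,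
    Bool.and_eq_true, Nat.beq_eq, Nat.blt_eq, beq_iff_eq] at hm
  obtain ⟨hM, himg⟩ := (hm m (Nat.ofBits_lt_two_pow f)).resolve_left hm0
  set e := tb.getD m (true, [])
  set y := bif e.1 then y₁ else y₂ with hy
  have hM' : ∀ p ∈ e.2, p < D.rank := fun p hp => c.rank_eq.symm ▸ hM p hp
  have hsimp : ∀ q < D.rank,
      c.tchar z (c.wl e.2 (D.simple q)) = c.tchar (signPar F y) (D.simple q) := by
    intro q hq
    have hx := c.wl_lt hM' (c.simple_lt hq)
    have h1 := hmask _ hx
    have h := himg q (c.rank_eq ▸ hq)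
    rw [← c.simple_eq hq, c.wlT_eq] at h
    have h3 := c.tchar_signPar_iff h2 y (D.simple q)
    rw [h, Bool.not_eq_true'] at h3
    rcases hsq _ hx with a | a
    · rw [a, eq_comm, h3]
      exact h1.1 a
    · rcases c.tchar_signPar_or (F := F) y (D.simple q) with b | b
      · exact absurd (h1.2 (h3.1 b)) (by rw [a]; exact neg_one_units_ne h2)
      · rw [a, b]
  have hall : ∀ s < D.nroots, c.tchar z (c.wl e.2 s) = c.tchar (signPar F y) s := by
    intro s hs
    rw [c.tchar_wl z hM' hs, c.tchar_eq_prod (signPar F y) hs, Finset.prod_range]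
    exact Finset.prod_congr rfl fun i _ => by rw [hsimp i i.2]
  have hconj := c.nw_conj_torus (F := F) hM' hall
  refine ⟨(c.nw F e.2)⁻¹, inv_mem (c.N_le_group (c.nw_mem_N hM')), ?_⟩
  have : (c.nw F e.2)⁻¹ * c.torus z * (c.nw F e.2)⁻¹⁻¹ = c.torus (signPar F y) := by
    rw [← hconj]; group
  rw [hy] at this
  cases he : e.1 <;> rw [he] at this
  · exact Or.inr this
  · exact Or.inl this

omit c in
theorem pow_mul_prod_ne [Fintype F] {a b : ℕ} (hab : a < b) {ds : List ℕ}
    (hds : ∀ k ∈ ds, 0 < k) (Y : ℕ) :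
    Fintype.card F ^ b * Y ≠ Fintype.card F ^ a * (ds.map fun k => Fintype.card F ^ k - 1).prod := by
  intro e
  set q := Fintype.card F
  have hq : 1 < q := Fintype.one_lt_card
  obtain ⟨k, rfl⟩ := Nat.exists_eq_add_of_lt hab
  rw [show a + k + 1 = a + (k + 1) by ring, pow_add, mul_assoc,
    Nat.mul_left_cancel_iff (Nat.pow_pos (by omega))] at e
  set p := q.minFac
  have hp : p.Prime := Nat.minFac_prime (by omega)
  have hpq : p ∣ q := Nat.minFac_dvd q
  have hd : p ∣ (ds.map fun k => q ^ k - 1).prod :=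
    e ▸ Dvd.dvd.mul_right (hpq.trans (dvd_pow_self q (by omega))) Y
  obtain ⟨x, hx, hpx⟩ := (Prime.dvd_prod_iff hp.prime).1 hd
  obtain ⟨k', hk', rfl⟩ := List.mem_map.1 hx
  have h2 : p ∣ q ^ k' := hpq.trans (dvd_pow_self q (hds k' hk').ne')
  have h3 : 1 ≤ q ^ k' := Nat.one_le_pow _ _ (by omega)
  have h4 := Nat.dvd_sub h2 hpx
  rw [Nat.sub_sub_self h3] at h4
  exact hp.one_lt.ne' (Nat.dvd_one.1 h4)

/-- Two classes of involutions with the orders of their centralisers. -/
theorem involution_classes [Fintype F] (hF : Odd (Fintype.card F)) {i : InvData}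
    (hi : c.T.checkInv i = true) {d₁ d₂ : StabData} (h₁ : c.T.checkStab d₁ = true)
    (h₂ : c.T.checkStab d₂ = true) {tb : List (Bool × List ℕ)}
    (hm : c.T.checkMasks d₁.y d₂.y tb = true)
    (hH : 1 * Nat.card (D.diagonalSubgroup F) = (Fintype.card F - 1) ^ D.rank)
    (hne : (Tables.subRoots d₁.levels).length ≠ (Tables.subRoots d₂.levels).length)
    (hp₁ : ∀ k ∈ d₁.degs, 0 < k) (hp₂ : ∀ k ∈ d₂.degs, 0 < k) :
    ∃ s t : D.group F, orderOf s = 2 ∧ orderOf t = 2 ∧ ¬ IsConj s t ∧
      (∀ u : D.group F, orderOf u = 2 → IsConj u s ∨ IsConj u t) ∧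
      Nat.card (Subgroup.centralizer ({s} : Set (D.group F))) =
        Fintype.card F ^ (Tables.subRoots d₁.levels).length *
          (d₁.degs.map fun k => Fintype.card F ^ k - 1).prod ∧
      Nat.card (Subgroup.centralizer ({t} : Set (D.group F))) =
        Fintype.card F ^ (Tables.subRoots d₂.levels).length *
          (d₂.degs.map fun k => Fintype.card F ^ k - 1).prod := by
  classical
  set p := ringChar F
  have : Fact p.Prime := ⟨CharP.char_is_prime F p⟩
  have h2 : (2 : F) ≠ 0 := by
    intro e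
    have hd : p ∣ 2 := (CharP.cast_eq_zero_iff F p 2).1 (by exact_mod_cast e)
    obtain ⟨n, -, hn⟩ := FiniteField.card F p
    have hp2 : p = 2 := (Nat.prime_dvd_prime_iff_eq Fact.out Nat.prime_two).1 hd
    rw [hn, hp2, Nat.odd_pow_iff n.ne_zero] at hF
    exact absurd hF (by decide)
  have hmem : ∀ y, c.torus (signPar F y) ∈ D.group F := fun y =>
    c.B_le_group (c.H_le_B (c.torus_mem _))
  let s : D.group F := ⟨_, hmem d₁.y⟩
  let t : D.group F := ⟨_, hmem d₂.y⟩
  have hord : ∀ {d : StabData}, c.T.checkStab d = true →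
      orderOf (⟨_, hmem d.y⟩ : D.group F) = 2 := fun {d} hd =>
    orderOf_eq_prime (by rw [pow_two]; exact Subtype.ext (c.torus_signPar_sq d.y))
      fun e => c.torus_signPar_ne_one h2 hd (congrArg Subtype.val e)
  have hcard : ∀ {d : StabData}, c.T.checkStab d = true →
      Nat.card (Subgroup.centralizer ({⟨_, hmem d.y⟩} : Set (D.group F))) =
        Fintype.card F ^ (Tables.subRoots d.levels).length *
          (d.degs.map fun k => Fintype.card F ^ k - 1).prod := by
    intro d hd
    rw [← c.card_centralizer_sign h2 hd hH, one_mul]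
    refine Nat.card_congr (Equiv.subtypeEquivRight fun x => ?_)
    rw [Subgroup.mem_centralizer_singleton_iff, Subtype.ext_iff]
    exact eq_comm
  refine ⟨s, t, hord h₁, hord h₂, fun hc => ?_, fun u hu => ?_, hcard h₁, hcard h₂⟩
  · obtain ⟨g, hg⟩ := isConj_iff.1 hc
    have e : Nat.card (Subgroup.centralizer ({s} : Set (D.group F))) =
        Nat.card (Subgroup.centralizer ({t} : Set (D.group F))) := by
      refine Nat.card_congr ((MulAut.conj g).toEquiv.subtypeEquiv fun x => ?_)
      rw [Subgroup.mem_centralizer_singleton_iff, Subgroup.mem_centralizer_singleton_iff, ← hg]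
      show x * s = s * x ↔ g * x * g⁻¹ * (g * s * g⁻¹) = g * s * g⁻¹ * (g * x * g⁻¹)
      rw [show g * x * g⁻¹ * (g * s * g⁻¹) = g * (x * s) * g⁻¹ by group,
        show g * s * g⁻¹ * (g * x * g⁻¹) = g * (s * x) * g⁻¹ by group, mul_left_inj, mul_right_inj]
    rw [hcard h₁, hcard h₂] at e
    rcases lt_or_gt_of_ne hne with h | h
    · exact pow_mul_prod_ne h hp₁ _ e.symm
    · exact pow_mul_prod_ne h hp₂ _ e
  · have hu2 : (u : GL D.Idx F) * u = 1 := by
      have := pow_orderOf_eq_one u
      rw [hu, pow_two] at this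
      exact congrArg Subtype.val this
    obtain ⟨g, hg, hgH⟩ := c.exists_conj_mem_H hi h2 (p := p) u.2 hu2
    obtain ⟨n, hn, hn'⟩ := c.exists_conj_seed h2 hm hgH
      (fun e => by
        have : (u : GL D.Idx F) = 1 := by simpa [mul_inv_eq_one] using e
        rw [show u = 1 from Subtype.ext this, orderOf_one] at hu
        cases hu)
      (conj_sq c hu2)
    have key : ∀ y, n * (g * u * g⁻¹) * n⁻¹ = c.torus (signPar F y) →
        IsConj u ⟨_, hmem y⟩ := fun y e =>
      isConj_iff.2 ⟨⟨n * g, mul_mem hn hg⟩, Subtype.ext (by push_cast; rw [← e]; group)⟩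
    exact hn'.imp (key _) (key _)

end CertFull

end Cfsg.Agent.Lie.Chev
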