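import Cfsg.Agent.Lib.Lie.Chev.E6SubfieldConj

/-! The subfield points of ²E₆(q) form a maximal subgroup: the conjugates of the long root
elements by an intermediate group are subfield points, so the group fixes a normal subgroup with
trivial centraliser. -/

set_option autoImplicit false
set_option maxRecDepth 20000

namespace Cfsg.Agent.Lie.Chev

open Cfsg.Lie Matrix

namespace CertFull

variable {D : ChevalleyDatum} (c : CertFull D) {F : Type*} [Field F]

include c

/-- Commuting with elements having a coefficient at each fundamental root forces the Borel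
subgroup. -/
theorem mem_borel_of_commute' {g : GL D.Idx F} (hg : g ∈ D.group F)
    (h : ∀ q < D.rank, ∃ k ∈ Up D F q, ∃ e : F, e ≠ 0 ∧
      (∀ t, Commute (c.xg (D.simple q) t) k) ∧ Commute g (k * c.xg (D.simple q) e)) :
    g ∈ D.borelSubgroup F := by
  obtain ⟨b, hb, a, ha, L, hL, u, hu, rfl⟩ := c.bruhat_exists hg
  by_cases hq : ∀ q < D.rank, c.Pos (c.wl L (D.simple q))
  · exact mul_mem (mul_mem hb (c.H_le_B (c.mem_H_of_wl ha hL hq)))
      (Subgroup.mem_sup_left (c.KS_invSet_le_U hL hu))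
  exfalso
  push Not at hq
  obtain ⟨q, hq, hneg⟩ := hq
  obtain ⟨k₀, hk₀, e₀, he₀, hk₀c, hcm⟩ := h q hq
  have hα := c.simple_lt hq
  set x := k₀ * c.xg (D.simple q) e₀ with hxdef
  have hxU : x ∈ D.posUnipotent F :=
    mul_mem (c.Up_le_U q hk₀) (c.xg_mem_U (c.pos_simple hq) e₀)
  have huU := c.KS_invSet_le_U hL hu
  have hux : u * x ∈ c.K F c.T.h := by rw [← c.posUnipotent_eq]; exact mul_mem huU hxU
  obtain ⟨v, hv, w, hw, e⟩ := c.exists_mul_KS (c.keepSet_closed hL) (c.invSet_closed hL)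
    (fun r hr => by by_cases h : c.Pos (c.wl L r); exacts [Or.inl ⟨hr, h⟩, Or.inr ⟨hr, h⟩])
    _ c.T.h rfl le_rfl _ hux
  have hcomm := hcm.eq
  rw [mul_assoc, e] at hcomm
  set n := a * c.nw F L with hn
  obtain ⟨-, hwu⟩ := c.bruhat_unique_factors ha hL
    (mul_mem hb (Subgroup.mem_sup_left (c.conj_keep_mem_U ha hL hv)))
    (mul_mem (Subgroup.mem_sup_left hxU) hb) hw hu
    (show b * (n * v * n⁻¹) * n * w = x * b * n * u by
      calc b * (n * v * n⁻¹) * n * w = b * n * (v * w) := by group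
        _ = x * (b * n * u) := hcomm
        _ = _ := by group)
  rw [hwu] at e
  have hvUp : v ∈ Up D F q := by
    refine (Subgroup.closure_le _).2 ?_ hv
    rintro _ ⟨r, t, hr, -, rfl⟩
    exact c.xg_mem_Up hr.1 (fun e => hneg (e ▸ hr.2)) t
  obtain ⟨k, hk, t, hkt⟩ := c.exists_Up_mul hq huU
  have hxUp : x ∈ Up D F q := by
    have e2 : x = k⁻¹ * v * k := by
      have hc : c.xg (D.simple q) t * x = x * c.xg (D.simple q) t := by
        rw [hxdef, ← mul_assoc, (hk₀c t).eq, mul_assoc, mul_assoc, ← c.xg_add, ← c.xg_add,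
          add_comm]
      have e3 : v = u * x * u⁻¹ := by rw [e]; group
      rw [e3, hkt]
      calc x = x * c.xg (D.simple q) t * (c.xg (D.simple q) t)⁻¹ := by group
        _ = _ := by rw [← hc]; group
    rw [e2]
    exact mul_mem (mul_mem (inv_mem hk) hvUp) hk
  refine he₀ (c.xg_simple_mem_Up hq ?_)
  have := mul_mem (inv_mem hk₀) hxUp
  rwa [hxdef, inv_mul_cancel_left] at this

end CertFull

namespace E6Sub

local notation "XR" => Cert.xg certFullE6.toCert

/-- The words moving the highest short root pair to the fundamental ones. -/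
def shortWords : List (List (List ℕ) × ℕ) :=
  [([[2, 4], [3], [2, 4], [1], [3], [2, 4], [0, 5]], 36),
    ([[0, 5], [3], [2, 4], [1], [3], [2, 4], [0, 5]], 37)]

/-- The words moving the highest root. -/
def longWords : List (List (List ℕ) × ℕ) :=
  [([[3], [2, 4], [0, 5], [3], [2, 4], [3], [1]], 46),
    ([[2, 4], [0, 5], [1], [3], [2, 4], [3], [1]], 39), ([[0, 5], [1], [3], [2, 4], [3], [1]], 44)]

theorem words_ok :
    (shortWords.all fun w => w.1.all orbitsE6.contains &&
      Nat.beq (certFullE6.T.wlT w.1.flatten 66) w.2) = true ∧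
    (longWords.all fun w => w.1.all orbitsE6.contains &&
      Nat.beq (certFullE6.T.wlT w.1.flatten 71) w.2) = true ∧
    ((List.range' 36 36).all fun x =>
      Nat.blt (certFullE6.T.wlT (flatW orbitsE6 (twistE6Reps.get 1151).word) x) 36) = true ∧
    certFullE6.T.pairing 56 66 + certFullE6.T.pairing 36 66 = 1 ∧
    ((List.range' 36 36).all fun a => (certFullE6.T.commTerms 71 a).isEmpty) = true ∧
    certFullE6.T.wlT [3] 43 = 42 ∧ certFullE6.T.wlT [3] 40 = 37 ∧
    certFullE6.T.wlT [2, 4] 57 = 56 ∧ certFullE6.T.wlT [2, 4] 38 = 36 := by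
  decide +kernel

theorem terms_ok :
    (([(37, 39, 40), (42, 39, 43), (42, 40, 44), (56, 42, 57), (36, 37, 38)].all fun x =>
      match certFullE6.T.commTerms x.1 x.2.1 with
        | [(w, C, i, j)] => Nat.beq w x.2.2 && (intBeq C 1 || intBeq C (-1)) && Nat.beq i 1 &&
            Nat.beq j 1
        | _ => false) = true) ∧
    ([(56, 37), (36, 42), (56, 38), (57, 37), (56, 36), (42, 37)].all fun x =>
      nilAt x.1 x.2 && nilAt x.2 x.1) = true := by
  decide +kernel

variable {K : Type*} [Field K] (f : K →+* K) [Fintype K] {q : ℕ} (hf : ∀ t, f t = t ^ q)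
  (hK : Fintype.card K = q ^ 2)

include hf hK

theorem nw_list_mem (Ls : List (List ℕ)) (h : ∀ J ∈ Ls, J ∈ orbitsE6) :
    certFullE6.nw K Ls.flatten ∈ sub f ∧ ∀ p ∈ Ls.flatten, p < chevE6.rank := by
  induction Ls with
  | nil => exact ⟨one_mem _, by simp⟩
  | cons J Ls ih =>
    obtain ⟨h1, h2⟩ := ih fun x hx => h x (by simp [hx])
    rw [List.flatten_cons, certFullE6.nw_append]
    refine ⟨mul_mem (nw_mem_sub f hf hK (h J (by simp))) h1, fun p hp => ?_⟩
    rcases List.mem_append.1 hp with hp | hp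
    · exact ((E6.datum f hf hK).W.J_spec (h J (by simp))).2.1 p hp
    · exact h2 p hp

/-- The twisted group. -/
theorem twisted_eq : twistedE6 K q = (E6.tw f).fix := (E6.datum f hf hK).eq_fix

/-- A further element of the highest short root group gives all of it. -/
theorem short_all {H : Subgroup (GL chevE6.Idx K)} (hM : sub f ≤ H) (hH : H ≤ (E6.tw f).fix)
    {a : K} (ha : pair f 66 a ∈ H) (hfa : f a ≠ a) (x : K) : pair f 66 x ∈ H := by
  have hff := E6.pow_sq f hf hK
  have h66 : certFullE6.Pos 66 := ⟨by show 36 ≤ 66; omega, by show 66 < 72; omega⟩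
  have h66' : graphE6.ρ 66 ≠ 66 := by decide
  have hadd : ∀ {x y : K}, pair f 66 x ∈ H → pair f 66 y ∈ H → pair f 66 (x + y) ∈ H := by
    intro x y hx hy
    have e : pair f 66 x * pair f 66 y = pair f 66 (x + y) := by
      rw [pair, pair, pair, mul2_comm (pair_comm h66 h66' _ _).symm, ← certFullE6.xg_add,
        ← certFullE6.xg_add, map_add, mul_add]
    exact e ▸ mul_mem hx hy
  have hscal : ∀ {c : K}, f c = c → pair f 66 (c * a) ∈ H := by
    intro c hc
    by_cases hc0 : c = 0
    · subst hc0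
      exact hM (pair_mem_sub f hff h66 h66' (by simp))
    set u : Kˣ := Units.mk0 c hc0
    set g := certFullE6.hg 56 (u : K) * certFullE6.hg 36 (u : K)
    have hgG : g ∈ sub f := by
      refine (mem_sub f).2 ⟨?_, ?_⟩
      · have := E6.hg2_mem f hf (r := 56) (r' := 36) (Or.inl ⟨rfl, rfl⟩) (u : K)
        rw [show f (u : K) = u from hc, twisted_eq f hf hK] at this
        exact this
      · simp only [g, Cert.hg, map_mul, certFullE6.ng_map, map_neg, map_one, u, Units.val_mk0, hc]
    have hconj : g * XR 66 a * g⁻¹ = XR 66 (c * a) := by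
      have e1 := fun (r : ℕ) (hr : r < 72) (y : K) =>
        certFullE6.hg_mul_xg (show r < chevE6.nroots from hr)
          (show 66 < chevE6.nroots by show 66 < 72; omega) u y
      simp only [g]
      rw [show ∀ p p' y : GL chevE6.Idx K, p * p' * y * (p * p')⁻¹ = p * (p' * y * p'⁻¹) * p⁻¹
        from fun p p' y => by group, e1 36 (by omega), mul_inv_cancel_right, e1 56 (by omega),
        mul_inv_cancel_right, ← mul_assoc, ← Units.val_mul, ← _root_.zpow_add, words_ok.2.2.2.1,
        zpow_one]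
      rfl
    obtain ⟨z, hz⟩ : ∃ z : ℕ → Kˣ, certFullE6.torus z = g := by
      refine ⟨(fun i => u ^ certFullE6.T.coroot 56 i) * fun i => u ^ certFullE6.T.coroot 36 i, ?_⟩
      rw [map_mul, ← certFullE6.hg_eq_torus (show 56 < chevE6.nroots by show 56 < 72; omega),
        ← certFullE6.hg_eq_torus (show 36 < chevE6.nroots by show 36 < 72; omega)]
    have hx := mul_mem (mul_mem (hM hgG) ha) (inv_mem (hM hgG))
    obtain ⟨-, hp', -⟩ := root_spec (K := K) h66
    rw [pair, show ∀ p y y' : GL chevE6.Idx K, p * (y * y') * p⁻¹ = (p * y * p⁻¹) * (p * y' * p⁻¹)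
      from fun p y y' => by group, hconj, ← hz, certFullE6.torus_conj_xg z hp'.2] at hx
    rw [pair_fix f hff h66 h66' (hH hx)] at hx
    exact hx
  let L := {c : K // f c = c}
  have hL : Nat.card L = q := by
    refine Eq.trans (Nat.card_congr (Equiv.subtypeEquivRight fun t => ?_))
      (card_pow_eq_self (F := K) (E6.one_lt_q f hf hK) (e := 2)
        (by rw [Nat.card_eq_fintype_card, hK]))
    rw [hf]
  let F : L × L → K := fun p => p.1.1 + p.2.1 * a
  have hinj : Function.Injective F := by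
    rintro ⟨⟨c, hc⟩, ⟨d, hd⟩⟩ ⟨⟨c', hc'⟩, ⟨d', hd'⟩⟩ e
    change c + d * a = c' + d' * a at e
    have h1 : (d - d') * a = c' - c := by linear_combination e
    have h2 := congrArg f h1
    rw [map_mul, map_sub, map_sub, hc, hc', hd, hd', ← h1] at h2
    rcases mul_eq_mul_left_iff.1 h2 with h | h
    · exact absurd h hfa
    · rw [h, zero_mul, eq_comm, sub_eq_zero] at h1
      obtain rfl := sub_eq_zero.1 h
      subst h1
      rfl
  have hbij : Function.Bijective F := (Nat.bijective_iff_injective_and_card F).2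
    ⟨hinj, by rw [Nat.card_prod, hL, Nat.card_eq_fintype_card, hK, sq]⟩
  obtain ⟨⟨⟨c, hc⟩, ⟨d, hd⟩⟩, rfl⟩ := hbij.2 x
  exact hadd (hM (pair_mem_sub f hff h66 h66' hc)) (hscal hd)

/-- An element of the highest short root group generates with the subfield points. -/
theorem eq_top_of_short {H : Subgroup (GL chevE6.Idx K)} (hM : sub f ≤ H)
    (hH : H ≤ (E6.tw f).fix) {a : K} (ha : pair f 66 a ∈ H) (hfa : f a ≠ a) :
    H = (E6.tw f).fix := by
  have hff := E6.pow_sq f hf hK
  have hall := short_all f hf hK hM hH ha hfa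
  -- the pairs of fundamental roots
  have hsimple : ∀ p, p = 36 ∨ p = 37 → ∀ t : K, pair f p t ∈ H := by
    intro p hp t
    obtain ⟨w, hw, rfl⟩ : ∃ w ∈ shortWords, w.2 = p := by
      rcases hp with rfl | rfl <;> simp [shortWords]
    have hwk := words_ok.1
    simp only [List.all_eq_true, Bool.and_eq_true, Nat.beq_eq, List.contains_iff_mem] at hwk
    obtain ⟨hLs, hwl⟩ := hwk w hw
    obtain ⟨hn, hlt⟩ := nw_list_mem f hf hK w.1 hLs
    set L := w.1.flatten
    set σ : K := (certFullE6.wsign L 66 : K)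
    have h66 : (66 : ℕ) < chevE6.nroots := by show 66 < 72; omega
    have h68 : graphE6.ρ 66 < chevE6.nroots := (E6.tw f).ρ_lt 66 h66
    have hx := mul_mem (mul_mem (hM hn) (hall (σ * t))) (inv_mem (hM hn))
    have hσ : σ * σ = 1 := certFullE6.wsign_sq _ _
    rw [pair, show ∀ p y y' : GL chevE6.Idx K, p * (y * y') * p⁻¹ = (p * y * p⁻¹) * (p * y' * p⁻¹)
      from fun p y y' => by group, certFullE6.nw_mul_xg hlt h66, mul_inv_cancel_right,
      certFullE6.nw_mul_xg hlt h68, mul_inv_cancel_right, ← certFullE6.wlT_eq, hwl, ← mul_assoc σ,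
      hσ, one_mul] at hx
    have hp2 : certFullE6.Pos w.2 ∧ graphE6.ρ w.2 ≠ w.2 := by
      rcases hp with h | h <;> rw [h] <;>
        exact ⟨⟨by show 36 ≤ _; omega, by show _ < 72; omega⟩, by decide⟩
    have hρ : certFullE6.wl L (graphE6.ρ 66) = graphE6.ρ w.2 := by
      have hC : ∀ J ∈ orbitsE6, ∀ s < chevE6.nroots,
          certFullE6.wl J (graphE6.ρ s) = graphE6.ρ (certFullE6.wl J s) := fun J hJ =>
        ((E6.datum f hf hK).W.J_spec hJ).2.2.1
      have key : ∀ Ls : List (List ℕ), (∀ J ∈ Ls, J ∈ orbitsE6) → ∀ s < chevE6.nroots,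
          certFullE6.wl Ls.flatten (graphE6.ρ s) = graphE6.ρ (certFullE6.wl Ls.flatten s) := by
        intro Ls
        induction Ls with
        | nil => intro _ s _; rfl
        | cons J Ls ih =>
          intro h s hs
          rw [List.flatten_cons, certFullE6.wl_append, certFullE6.wl_append,
            ih (fun x hx => h x (by simp [hx])) s hs, hC J (h J (by simp))]
          exact certFullE6.wl_lt (nw_list_mem f hf hK Ls fun x hx => h x (by simp [hx])).2 hs
      rw [key w.1 hLs 66 h66, ← certFullE6.wlT_eq, hwl]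
    rw [hρ] at hx
    rw [pair_fix f hff hp2.1 hp2.2 (hH hx)] at hx
    exact hx
  have hpos : ∀ r r', (r, r') ∈ [(56, 36), (42, 37)] → ∀ a b : K,
      XR r a * XR r' b ∈ (E6.tw f).fix → XR r a * XR r' b ∈ H := by
    intro r r' hr a b hx
    have hh : ∃ p, (p = 36 ∨ p = 37) ∧ certFullE6.Pos p ∧ graphE6.ρ p = r ∧ r' = p ∧
        graphE6.ρ p ≠ p := by
      simp only [List.mem_cons, List.not_mem_nil, or_false, Prod.mk.injEq] at hr
      rcases hr with ⟨rfl, rfl⟩ | ⟨rfl, rfl⟩
      · exact ⟨36, Or.inl rfl, ⟨le_rfl, by show 36 < 72; omega⟩, by decide, rfl, by decide⟩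
      · exact ⟨37, Or.inr rfl, ⟨by show 36 ≤ 37; omega, by show 37 < 72; omega⟩, by decide, rfl,
          by decide⟩
    obtain ⟨p, hp, hp', rfl, rfl, hne⟩ := hh
    rw [← (pair_comm hp' hne b a).eq] at hx ⊢
    rw [pair_fix f hff hp' hne hx]
    exact hsimple r' hp b
  refine le_antisymm hH ?_
  rw [← twisted_eq f hf hK]
  refine (Subgroup.closure_le _).2 ?_
  rintro g ⟨w, hw, hg⟩
  obtain rfl := eq_wordProd certFullE6 hg
  have hfixg : (w.map fun p => certFullE6.xg p.1 p.2).prod ∈ (E6.tw f).fix :=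
    E6.le_fix f hf hK (wordProd_mem certFullE6 hw)
  rcases hw with ⟨t, ht, r, hr, rfl⟩ | ⟨t, rs, hrs, rfl⟩
  · simp only [List.map_cons, List.map_nil, List.prod_cons, List.prod_nil, mul_one, SetLike.mem_coe]
      at hfixg ⊢
    have hr' : r < 72 ∧ graphE6.ρ r = r := by
      simp only [e6p2, e6m2, e6p4, e6m4, List.mem_cons, List.not_mem_nil, or_false] at hr
      rcases hr with rfl | rfl | rfl | rfl <;> decide
    exact hM (long_mem f hr'.1 hr'.2 (by rw [hf, ht]))
  · simp only [List.map_cons, List.map_nil, List.prod_cons, List.prod_nil, mul_one, SetLike.mem_coe]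
      at hfixg ⊢
    simp only [e6p1, e6p6, e6m1, e6m6, e6p3, e6p5, e6m3, e6m5, List.mem_cons, List.not_mem_nil,
      or_false] at hrs
    have hneg : ∀ r r' J, (r, r') ∈ [(56, 36), (42, 37)] → J ∈ orbitsE6 →
        certFullE6.T.wlT J (71 - r) = r → certFullE6.T.wlT J (71 - r') = r' →
        XR (71 - r) t * XR (71 - r') (t ^ q) ∈ (E6.tw f).fix →
        XR (71 - r) t * XR (71 - r') (t ^ q) ∈ H := by
      intro r r' J hr hJ e1 e2 hx
      have hn := nw_mem_sub f hf hK hJ
      have hlt := ((E6.datum f hf hK).W.J_spec hJ).2.1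
      have hlt' : 71 - r < chevE6.nroots ∧ 71 - r' < chevE6.nroots := by
        constructor <;> (show _ < 72; omega)
      set n := certFullE6.nw K J with hn'
      have hx' := mul_mem (mul_mem ((mem_sub f).1 hn).1 hx) (inv_mem ((mem_sub f).1 hn).1)
      have e : n * (XR (71 - r) t * XR (71 - r') (t ^ q)) * n⁻¹ =
          XR r ((certFullE6.wsign J (71 - r) : K) * t) *
            XR r' ((certFullE6.wsign J (71 - r') : K) * t ^ q) := by
        rw [show ∀ p y y' : GL chevE6.Idx K, p * (y * y') * p⁻¹ =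
          (p * y * p⁻¹) * (p * y' * p⁻¹) from fun p y y' => by group, hn',
          certFullE6.nw_mul_xg hlt hlt'.1, mul_inv_cancel_right, certFullE6.nw_mul_xg hlt hlt'.2,
          mul_inv_cancel_right, ← certFullE6.wlT_eq, ← certFullE6.wlT_eq, e1, e2]
      rw [e] at hx'
      have h1 := hpos r r' hr _ _ hx'
      rw [← e] at h1
      have := mul_mem (mul_mem (inv_mem (hM hn)) h1) (hM hn)
      simpa [mul_assoc] using this
    rcases hrs with rfl | rfl | rfl | rfl
    · exact hpos 56 36 (by simp) _ _ hfixg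
    · exact hneg 56 36 [0, 5] (by simp) (by simp [orbitsE6]) (by decide +kernel) (by decide +kernel)
        hfixg
    · exact hpos 42 37 (by simp) _ _ hfixg
    · exact hneg 42 37 [2, 4] (by simp) (by simp [orbitsE6]) (by decide +kernel) (by decide +kernel)
        hfixg

omit hf hK [Fintype K] in
/-- The elements all of whose conjugates by `H` are subfield points. -/
noncomputable def core (H : Subgroup (GL chevE6.Idx K)) : Subgroup (GL chevE6.Idx K) where
  carrier := {x | ∀ h ∈ H, h * x * h⁻¹ ∈ sub f}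
  one_mem' := fun h _ => by simp [one_mem]
  mul_mem' := fun {a b} ha hb h hh => by
    rw [show h * (a * b) * h⁻¹ = (h * a * h⁻¹) * (h * b * h⁻¹) by group]
    exact mul_mem (ha h hh) (hb h hh)
  inv_mem' := fun {a} ha h hh => by
    rw [show h * a⁻¹ * h⁻¹ = (h * a * h⁻¹)⁻¹ by group]
    exact inv_mem (ha h hh)

omit hf hK [Fintype K] in
theorem core_conj {H : Subgroup (GL chevE6.Idx K)} (hM : sub f ≤ H) {m x : GL chevE6.Idx K}
    (hm : m ∈ sub f) (hx : x ∈ core f H) : m * x * m⁻¹ ∈ core f H := fun h hh => by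
  rw [show h * (m * x * m⁻¹) * h⁻¹ = (h * m) * x * (h * m)⁻¹ by group]
  exact hx _ (mul_mem hh (hM hm))

theorem top_core {H : Subgroup (GL chevE6.Idx K)} (hM : sub f ≤ H) (hH : H ≤ (E6.tw f).fix)
    (htop : ∀ a : K, pair f 66 a ∈ H → f a = a) {k : K} (hk : f k = k) :
    XR 71 k ∈ core f H := by
  intro h hh
  have hXM : XR 71 k ∈ sub f := long_mem f (by omega) (by decide) hk
  have hy := mul_mem (mul_mem hh (hM hXM)) (inv_mem hh)
  set Y := E6.datum f hf hK
  obtain ⟨b, hb, i, hi, u, hu, rfl⟩ := Y.exists_bruhat_fix (hH hh)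
  obtain ⟨hlt, hC, -⟩ := Y.wd_spec hi
  obtain ⟨v, hv, a, ha, rfl⟩ := (E6.tw f).borel_fix hb
  obtain ⟨z, rfl⟩ := certFullE6.diagonalSubgroup_eq.le ha.1
  set L := Y.W.wd i
  have h71 : certFullE6.Pos 71 := ⟨by show 36 ≤ 71; omega, by show 71 < 72; omega⟩
  have hu' : u * XR 71 k * u⁻¹ = XR 71 k := by
    have hA : certFullE6.Absorbs (∅ : Set ℕ) :=
      ⟨fun r hr => absurd hr (Set.notMem_empty r), fun _ _ r hr => absurd hr (Set.notMem_empty r)⟩
    have := certFullE6.comm_mod hA h71 (fun r hr => hr.1) (fun r hr _ x hx => by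
      have h' := words_ok.2.2.2.2.1
      simp only [List.all_eq_true, List.mem_range'_1, List.isEmpty_iff] at h'
      rw [h' r ⟨hr.1.1, hr.1.2⟩] at hx
      simp at hx) k hu.1
    rw [certFullE6.KS_empty, Subgroup.mem_bot, mul_inv_eq_one, mul_inv_eq_iff_eq_mul] at this
    rw [← this, mul_inv_cancel_right]
  set r := certFullE6.wl L 71
  have hr : r < 72 := certFullE6.wl_lt hlt h71.2
  have hfx : graphE6.ρ r = r := by
    have := hC 71 h71.2
    rw [show (E6.tw f).ρ 71 = 71 from (by decide : graphE6.ρ 71 = 71)] at this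
    exact this.symm
  set k' : K := (certFullE6.tchar z r : K) * ((certFullE6.wsign L 71 : K) * k)
  have e : v * certFullE6.torus z * certFullE6.nw K L * u * XR 71 k *
      (v * certFullE6.torus z * certFullE6.nw K L * u)⁻¹ = v * XR r k' * v⁻¹ := by
    calc _ = v * (certFullE6.torus z * (certFullE6.nw K L * (u * XR 71 k * u⁻¹) *
          (certFullE6.nw K L)⁻¹) * (certFullE6.torus z)⁻¹) * v⁻¹ := by group
      _ = _ := by
        rw [hu', certFullE6.nw_mul_xg hlt h71.2, mul_inv_cancel_right,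
          certFullE6.torus_conj_xg z hr]
  rw [e] at hy ⊢
  exact long_conj f hf hK hM hH htop r hr hfx v hv.1 hv.2 k' hy

/-- The long root elements of the simple nodes, and the pairs. -/
theorem gens_core {H : Subgroup (GL chevE6.Idx K)} (hM : sub f ≤ H) (hH : H ≤ (E6.tw f).fix)
    (htop : ∀ a : K, pair f 66 a ∈ H → f a = a) :
    XR 46 1 ∈ core f H ∧ XR 39 1 ∈ core f H ∧
      (∃ a b : K, a ≠ 0 ∧ b ≠ 0 ∧ XR 42 a * XR 37 b ∈ core f H) ∧
      ∃ a b : K, a ≠ 0 ∧ b ≠ 0 ∧ XR 56 a * XR 36 b ∈ core f H := by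
  have hff := E6.pow_sq f hf hK
  have hlong : ∀ r, r = 46 ∨ r = 39 ∨ r = 44 → ∀ k : K, f k = k → XR r k ∈ core f H := by
    intro r hr k hk
    obtain ⟨w, hw, rfl⟩ : ∃ w ∈ longWords, w.2 = r := by
      rcases hr with rfl | rfl | rfl <;> simp [longWords]
    have hwk := words_ok.2.1
    simp only [List.all_eq_true, Bool.and_eq_true, Nat.beq_eq, List.contains_iff_mem] at hwk
    obtain ⟨hLs, hwl⟩ := hwk w hw
    obtain ⟨hn, hlt⟩ := nw_list_mem f hf hK w.1 hLs
    set L := w.1.flatten
    have hσ := certFullE6.wsign_sq (F := K) L 71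
    have := core_conj f hM hn (top_core f hf hK hM hH htop
      (k := (certFullE6.wsign L 71 : K) * k) (by rw [map_mul, map_intCast, hk]))
    rwa [certFullE6.nw_mul_xg hlt (show 71 < chevE6.nroots by show 71 < 72; omega),
      mul_inv_cancel_right, ← certFullE6.wlT_eq, hwl, ← mul_assoc, hσ, one_mul] at this
  have h39 := hlong 39 (by simp) 1 (map_one f)
  refine ⟨hlong 46 (by simp) 1 (map_one f), h39, ?_⟩
  have ht := terms_ok.1
  simp only [List.all_cons, List.all_nil, Bool.and_true, Bool.and_eq_true] at ht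
  obtain ⟨t1, t2, t3, t4, t5⟩ := ht
  obtain ⟨e1, he1, H1⟩ := one_term (K := K) (a := 37) (b := 39) (v := 40) (by omega) (by omega)
    (by omega) (by omega) t1
  obtain ⟨e2, he2, H2⟩ := one_term (K := K) (a := 42) (b := 39) (v := 43) (by omega) (by omega)
    (by omega) (by omega) t2
  obtain ⟨e3, he3, H3⟩ := one_term (K := K) (a := 42) (b := 40) (v := 44) (by omega) (by omega)
    (by omega) (by omega) t3
  obtain ⟨e4, he4, H4⟩ := one_term (K := K) (a := 56) (b := 42) (v := 57) (by omega) (by omega)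
    (by omega) (by omega) t4
  obtain ⟨e5, he5, H5⟩ := one_term (K := K) (a := 36) (b := 37) (v := 38) (by omega) (by omega)
    (by omega) (by omega) t5
  have hne : ∀ {e : ℤ}, e * e = 1 → (e : K) ≠ 0 := fun {e} he h0 => by
    have := congrArg (fun z : ℤ => (z : K)) he
    simp [h0] at this
  have hc := terms_ok.2
  simp only [List.all_cons, List.all_nil, Bool.and_true, Bool.and_eq_true] at hc
  obtain ⟨c1, c2, c3, c4, -, -⟩ := hc
  have hp42 : certFullE6.Pos 42 := ⟨by show 36 ≤ 42; omega, by show 42 < 72; omega⟩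
  have hp56 : certFullE6.Pos 56 := ⟨by show 36 ≤ 56; omega, by show 56 < 72; omega⟩
  have hr42 : graphE6.ρ 42 = 37 ∧ graphE6.ρ 56 = 36 := by decide
  set s : K := (graphE6.ε 42 : K) * f 1 with hs
  set s' : K := (graphE6.ε 56 : K) * f 1 with hs'
  have hs0 : ∀ r, certFullE6.Pos r → (graphE6.ε r : K) * f 1 ≠ 0 := fun r hr h0 => by
    rw [map_one, mul_one] at h0
    have := (root_spec (K := K) hr).2.2.1
    rw [h0, zero_mul] at this
    exact zero_ne_one this
  have hfs : f s = s := by rw [hs, map_mul, map_intCast, hff, map_one]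
  set P := pair f 42 (1 : K)
  have hP : P ∈ sub f := pair_mem_sub f hff hp42 (by decide) (map_one f)
  have hy0 : XR 43 (e2 : K) * XR 40 ((e1 : K) * s) ∈ core f H := by
    have h1 := mul_mem (inv_mem h39) (core_conj f hM hP h39)
    have e : (XR 39 1)⁻¹ * (P * XR 39 1 * P⁻¹) =
        XR 43 (e2 : K) * XR 40 ((e1 : K) * s) * XR 44 ((e3 : K) * ((e1 : K) * s)) := by
      have hP' : P = XR 42 1 * XR 37 s := by
        show pair f 42 1 = _; rw [pair, hr42.1]
      rw [hP', show ∀ x y z : GL chevE6.Idx K, x * y * z * (x * y)⁻¹ = x * (y * z * y⁻¹) * x⁻¹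
        from fun x y z => by group, H1 s 1, mul_one,
        show ∀ x y z : GL chevE6.Idx K, x * (y * z) * x⁻¹ = (x * y * x⁻¹) * (x * z * x⁻¹)
        from fun x y z => by group, H2 1 1, H3 1 ((e1 : K) * s)]
      simp only [mul_one, mul_assoc, inv_mul_cancel_left]
    rw [e] at h1
    exact ((core f H).mul_mem_cancel_right
      (hlong 44 (by simp) _ (by simp [map_mul, map_intCast, hfs]))).1 h1
  obtain ⟨hn3, hn24⟩ : certFullE6.nw K [3] ∈ sub f ∧ certFullE6.nw K [2, 4] ∈ sub f :=
    ⟨nw_mem_sub f hf hK (by simp [orbitsE6]), nw_mem_sub f hf hK (by simp [orbitsE6])⟩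
  have hlt3 : ∀ p ∈ [3], p < chevE6.rank := by simp [show chevE6.rank = 6 from rfl]
  have hlt24 : ∀ p ∈ [2, 4], p < chevE6.rank := by simp [show chevE6.rank = 6 from rfl]
  obtain ⟨-, -, -, -, -, w1, w2, w3, w4⟩ := words_ok
  have hws : ∀ L r, (certFullE6.wsign L r : K) ≠ 0 := fun L r h0 => by
    have := certFullE6.wsign_sq (F := K) L r
    rw [h0, zero_mul] at this
    exact zero_ne_one this
  have hy1 := core_conj f hM hn3 hy0
  rw [show ∀ p y y' : GL chevE6.Idx K, p * (y * y') * p⁻¹ = (p * y * p⁻¹) * (p * y' * p⁻¹)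
      from fun p y y' => by group,
    certFullE6.nw_mul_xg hlt3 (show 43 < chevE6.nroots by show 43 < 72; omega),
    mul_inv_cancel_right,
    certFullE6.nw_mul_xg hlt3 (show 40 < chevE6.nroots by show 40 < 72; omega),
    mul_inv_cancel_right, ← certFullE6.wlT_eq, ← certFullE6.wlT_eq, w1, w2] at hy1
  generalize ha : (certFullE6.wsign [3] 43 : K) * (e2 : K) = a at hy1
  generalize hb : (certFullE6.wsign [3] 40 : K) * ((e1 : K) * s) = b at hy1
  have ha0 : a ≠ 0 := ha ▸ mul_ne_zero (hws _ _) (hne he2)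
  have hb0 : b ≠ 0 := hb ▸ mul_ne_zero (hws _ _) (mul_ne_zero (hne he1) (hs0 42 hp42))
  refine ⟨⟨a, b, ha0, hb0, hy1⟩, ?_⟩
  set P2 := pair f 56 (1 : K)
  have hP2 : P2 ∈ sub f := pair_mem_sub f hff hp56 (by decide) (map_one f)
  have hz : XR 57 ((e4 : K) * a) * XR 38 ((e5 : K) * s' * b) ∈ core f H := by
    have h1 := mul_mem (inv_mem hy1) (core_conj f hM hP2 hy1)
    have e : (XR 42 a * XR 37 b)⁻¹ * (P2 * (XR 42 a * XR 37 b) * P2⁻¹) =
        XR 57 ((e4 : K) * a) * XR 38 ((e5 : K) * s' * b) := by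
      have hP' : P2 = XR 56 1 * XR 36 s' := by
        show pair f 56 1 = _; rw [pair, hr42.2]
      have k1 : XR 36 s' * (XR 42 a * XR 37 b) * (XR 36 s')⁻¹ =
          XR 42 a * (XR 37 b * XR 38 ((e5 : K) * s' * b)) := by
        rw [← mul_assoc, (nilAt_commute (by omega) (by omega) c2.1 s' a).eq, mul_assoc, mul_assoc,
          ← mul_assoc (XR 36 s'), H5 s' b]
      have k2 : Commute (XR 56 (1 : K)) (XR 37 b * XR 38 ((e5 : K) * s' * b)) :=
        (nilAt_commute (by omega) (by omega) c1.1 1 b).mul_right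
          (nilAt_commute (by omega) (by omega) c3.1 1 _)
      have k3 : Commute (XR 57 ((e4 : K) * a)) (XR 37 b) :=
        nilAt_commute (by omega) (by omega) c4.1 _ b
      calc _ = (XR 37 b)⁻¹ * (XR 42 a)⁻¹ * (XR 56 1 * (XR 36 s' * (XR 42 a * XR 37 b) *
            (XR 36 s')⁻¹) * (XR 56 1)⁻¹) := by rw [hP']; group
        _ = (XR 37 b)⁻¹ * (XR 42 a)⁻¹ * ((XR 56 1 * XR 42 a * (XR 56 1)⁻¹) *
            (XR 56 1 * (XR 37 b * XR 38 ((e5 : K) * s' * b)) * (XR 56 1)⁻¹)) := by
            rw [k1]; group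
        _ = (XR 37 b)⁻¹ * (XR 57 ((e4 : K) * a) * XR 37 b) * XR 38 ((e5 : K) * s' * b) := by
            rw [H4 1 a, mul_one, k2.eq, mul_inv_cancel_right]; group
        _ = _ := by rw [k3.eq]; group
    rwa [e] at h1
  have hz1 := core_conj f hM hn24 hz
  rw [show ∀ p y y' : GL chevE6.Idx K, p * (y * y') * p⁻¹ = (p * y * p⁻¹) * (p * y' * p⁻¹)
      from fun p y y' => by group,
    certFullE6.nw_mul_xg hlt24 (show 57 < chevE6.nroots by show 57 < 72; omega),
    mul_inv_cancel_right,
    certFullE6.nw_mul_xg hlt24 (show 38 < chevE6.nroots by show 38 < 72; omega),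
    mul_inv_cancel_right, ← certFullE6.wlT_eq, ← certFullE6.wlT_eq, w3, w4] at hz1
  exact ⟨_, _, mul_ne_zero (hws _ _) (mul_ne_zero (hne he4) ha0),
    mul_ne_zero (hws _ _) (mul_ne_zero (mul_ne_zero (hne he5) (hs0 56 hp56)) hb0), hz1⟩

/-- The subfield points form a maximal subgroup. -/
theorem maximal {H : Subgroup (GL chevE6.Idx K)} (hM : sub f ≤ H) (hH : H ≤ (E6.tw f).fix) :
    H = sub f ∨ H = (E6.tw f).fix := by
  have hff := E6.pow_sq f hf hK
  by_cases htop : ∀ a : K, pair f 66 a ∈ H → f a = a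
  swap
  · push Not at htop
    obtain ⟨a, ha, hfa⟩ := htop
    exact Or.inr (eq_top_of_short f hf hK hM hH ha hfa)
  refine Or.inl (le_antisymm (fun h hh => (mem_sub f).2 ⟨hH hh, ?_⟩) hM)
  set φ := Matrix.GeneralLinearGroup.map (n := chevE6.Idx) f
  set g := h⁻¹ * φ h
  suffices g = 1 from (inv_mul_eq_one.1 this).symm
  have hhG := (E6.tw f).fix_le_group (hH hh)
  have hgG : g ∈ chevE6.group K := mul_mem (inv_mem hhG) (certFullE6.group_map f hhG)
  have hcomm : ∀ x ∈ core f H, Commute g x := by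
    intro x hx
    have h1 := ((mem_sub f).1 (hx h hh)).2
    have h2 : φ x = x := by
      have := ((mem_sub f).1 (hx 1 (one_mem H))).2
      rwa [one_mul, inv_one, mul_one] at this
    rw [map_mul, map_mul, map_inv, h2] at h1
    show h⁻¹ * φ h * x = x * (h⁻¹ * φ h)
    calc h⁻¹ * φ h * x = h⁻¹ * (φ h * x * (φ h)⁻¹) * φ h := by group
      _ = _ := by rw [h1]; group
  obtain ⟨g46, g39, ⟨a, b, ha, hb, g42⟩, a', b', ha', hb', g56⟩ := gens_core f hf hK hM hH htop
  obtain ⟨s0, s1, s2, s3, s4, s5, hrk, -⟩ := E6.simple_values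
  have hc := terms_ok.2
  simp only [List.all_cons, List.all_nil, Bool.and_true, Bool.and_eq_true] at hc
  obtain ⟨-, -, -, -, c56, c42⟩ := hc
  have hwit : ∀ p < chevE6.rank, ∃ k ∈ Up chevE6 K p, ∃ e : K, e ≠ 0 ∧
      (∀ t, Commute (XR (chevE6.simple p) t) k) ∧ k * XR (chevE6.simple p) e ∈ core f H := by
    intro p hp
    rw [hrk] at hp
    have hone : ∀ r, XR r 1 ∈ core f H → chevE6.simple p = r →
        ∃ k ∈ Up chevE6 K p, ∃ e : K, e ≠ 0 ∧
          (∀ t, Commute (XR (chevE6.simple p) t) k) ∧ k * XR (chevE6.simple p) e ∈ core f H :=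
      fun r hr e => ⟨1, one_mem _, 1, one_ne_zero, fun t => Commute.one_right _,
        by rw [one_mul, e]; exact hr⟩
    have htwo : ∀ r r' : ℕ, r < 72 ∧ 36 ≤ r ∧ r ≠ chevE6.simple p ∧ r' = chevE6.simple p →
        nilAt r' r = true → ∀ x y : K, y ≠ 0 → XR r x * XR r' y ∈ core f H →
        ∃ k ∈ Up chevE6 K p, ∃ e : K, e ≠ 0 ∧
          (∀ t, Commute (XR (chevE6.simple p) t) k) ∧ k * XR (chevE6.simple p) e ∈ core f H := by
      rintro r r' ⟨hr, hr', hne, rfl⟩ hn x y hy hm
      exact ⟨_, certFullE6.xg_mem_Up ⟨hr', hr⟩ hne x, y, hy,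
        fun t => nilAt_commute (certFullE6.simple_lt (hrk ▸ hp)) hr hn t x, hm⟩
    rcases (show p = 0 ∨ p = 1 ∨ p = 2 ∨ p = 3 ∨ p = 4 ∨ p = 5 by omega) with
      rfl | rfl | rfl | rfl | rfl | rfl
    · refine htwo 36 56 ⟨by omega, by omega, by omega, s0.symm⟩ c56.1 b' a' ha' ?_
      rw [← (nilAt_commute (by omega) (by omega) c56.1 a' b').eq]
      exact g56
    · exact hone 46 g46 s1
    · refine htwo 37 42 ⟨by omega, by omega, by omega, s2.symm⟩ c42.1 b a ha ?_
      rw [← (nilAt_commute (by omega) (by omega) c42.1 a b).eq]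
      exact g42
    · exact hone 39 g39 s3
    · exact htwo 42 37 ⟨by omega, by omega, by omega, s4.symm⟩ c42.2 a b hb g42
    · exact htwo 56 36 ⟨by omega, by omega, by omega, s5.symm⟩ c56.2 a' b' hb' g56
  have hB : ∀ y : GL chevE6.Idx K, y ∈ chevE6.group K → (∀ x ∈ core f H, Commute y x) →
      y ∈ chevE6.borelSubgroup K := fun y hy hyc =>
    certFullE6.mem_borel_of_commute' hy fun p hp => by
      obtain ⟨k, hk, e, he, hc, hm⟩ := hwit p hp
      exact ⟨k, hk, e, he, hc, hyc _ hm⟩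
  -- the longest fixed element
  set Y := E6.datum f hf hK
  have hi : (1151 : ℕ) < 1152 := by decide
  obtain ⟨hlt, -⟩ := Y.wd_spec hi
  set L := Y.W.wd 1151 with hLdef
  set n := certFullE6.nw K L with hn
  have hnM : n ∈ sub f :=
    (mem_sub f).2 ⟨Y.le_fix (Y.nw_wd_mem hi), certFullE6.nw_map f L⟩
  have hnG := (E6.tw f).fix_le_group ((mem_sub f).1 hnM).1
  have hneg : ∀ r, certFullE6.Pos r → ¬ certFullE6.Pos (certFullE6.wl L r) := by
    intro r hr hp
    have h := words_ok.2.2.1
    simp only [List.all_eq_true, List.mem_range'_1, Nat.blt_eq] at h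
    have h1 := h r ⟨hr.1, hr.2⟩
    rw [certFullE6.wlT_eq] at h1
    have h2 : 36 ≤ certFullE6.wl L r := hp.1
    change certFullE6.wl L r < 36 at h1
    omega
  have hc' : ∀ x ∈ core f H, Commute (n⁻¹ * g * n) x := fun x hx => by
    have := hcomm _ (core_conj f hM hnM hx)
    calc n⁻¹ * g * n * x = n⁻¹ * (g * (n * x * n⁻¹)) * n := by group
      _ = n⁻¹ * (n * x * n⁻¹ * g) * n := by rw [this.eq]
      _ = _ := by group
  obtain ⟨u, hu, t, ht, e⟩ := certFullE6.mem_borel_iff.1
    (hB _ (mul_mem (mul_mem (inv_mem hnG) hgG) hnG) hc')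
  have huV : n * u * n⁻¹ ∈ chevE6.negUnipotent K := by
    have hle : (chevE6.posUnipotent K).map (MulAut.conj n).toMonoidHom ≤
        chevE6.negUnipotent K := by
      rw [ChevalleyDatum.posUnipotent, MonoidHom.map_closure, Subgroup.closure_le]
      rintro x ⟨y, ⟨r, s, hr, hy⟩, rfl⟩
      obtain rfl := certFullE6.eq_xg_iff.1 hy
      have hr' := certFullE6.posRoot_iff.1 hr
      show n * XR r s * n⁻¹ ∈ chevE6.negUnipotent K
      rw [hn, certFullE6.nw_mul_xg hlt hr'.2, mul_inv_cancel_right]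
      exact certFullE6.xg_mem_V (certFullE6.wl_lt hlt hr'.2) (hneg r hr') _
    exact hle ⟨u, hu, rfl⟩
  have hgH : g ∈ chevE6.diagonalSubgroup K := by
    refine certFullE6.borel_inf_negUnipotent.2.le (Subgroup.mem_inf.2 ⟨hB g hgG hcomm, ?_⟩)
    rw [show g = (n * u * n⁻¹) * (n * t * n⁻¹) by
      calc g = n * (n⁻¹ * g * n) * n⁻¹ := by group
        _ = _ := by rw [e]; group]
    exact mul_mem (Subgroup.mem_sup_left huV)
      (Subgroup.mem_sup_right (certFullE6.N_conj_H (certFullE6.nw_mem_N hlt) ht))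
  obtain ⟨z, hz⟩ := certFullE6.diagonalSubgroup_eq.le hgH
  rw [← hz]
  have hchar : ∀ p < chevE6.rank, certFullE6.tchar z (chevE6.simple p) = 1 := by
    intro p hp
    obtain ⟨k, hk, e, he, -, hm⟩ := hwit p hp
    have h1 := hcomm _ hm
    rw [← hz] at h1
    have h2 : certFullE6.torus z * k * (certFullE6.torus z)⁻¹ *
        XR (chevE6.simple p) ((certFullE6.tchar z (chevE6.simple p) : K) * e) =
        k * XR (chevE6.simple p) e := by
      rw [← certFullE6.torus_conj_xg z (certFullE6.simple_lt hp)]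
      calc _ = certFullE6.torus z * (k * XR (chevE6.simple p) e) * (certFullE6.torus z)⁻¹ := by
            group
        _ = _ := by rw [h1.eq, mul_inv_cancel_right]
    have h3 : XR (chevE6.simple p) (((certFullE6.tchar z (chevE6.simple p) : K) - 1) * e) =
        (certFullE6.torus z * k * (certFullE6.torus z)⁻¹)⁻¹ * k := by
      rw [sub_mul, one_mul, sub_eq_add_neg, certFullE6.xg_add, ← certFullE6.xg_inv,
        eq_inv_mul_iff_mul_eq, ← mul_assoc, h2, mul_inv_cancel_right]
    have h4 := mul_mem (inv_mem (certFullE6.torus_conj_Up z hk)) hk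
    rw [← h3] at h4
    exact Units.ext (sub_eq_zero.1
      ((mul_eq_zero.1 (certFullE6.xg_simple_mem_Up hp h4)).resolve_right he))
  rw [Cert.torus_apply, ← map_one (dg chevE6 K)]
  refine (dg_eq_iff chevE6 K).2 fun s hs => ?_
  show certFullE6.tchar z s = 1
  rw [certFullE6.tchar_eq_prod z hs]
  exact Finset.prod_eq_one fun j hj => by
    rw [hchar j (Finset.mem_range.1 hj), _root_.one_zpow]

/-- Not every element is a subfield point. -/
theorem ne_top : sub f ≠ (E6.tw f).fix := by
  have hff := E6.pow_sq f hf hK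
  obtain ⟨t, ht⟩ : ∃ t : K, f t ≠ t := by
    by_contra hall
    push Not at hall
    have h := card_pow_eq_self (F := K) (E6.one_lt_q f hf hK) (e := 2)
      (by rw [Nat.card_eq_fintype_card, hK])
    rw [Nat.card_congr (Equiv.subtypeUnivEquiv fun a => by rw [← hf]; exact hall a),
      Nat.card_eq_fintype_card, hK] at h
    have := E6.one_lt_q f hf hK
    nlinarith
  intro e
  have hp : certFullE6.Pos 36 := ⟨le_rfl, by show 36 < 72; omega⟩
  have hne : graphE6.ρ 36 ≠ 36 := by decide
  obtain ⟨-, hp', -, huu, -⟩ := root_spec (K := K) hp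
  have h := ((mem_sub f).1 (e ▸ pair_mem f hff hp hne t)).2
  rw [pair, map_mul, certFullE6.xg_map, certFullE6.xg_map] at h
  refine ht (sub_eq_zero.1 ?_)
  have h1 : XR 36 (f t - t) = XR (graphE6.ρ 36) ((graphE6.ε 36 : K) * f t +
      -f ((graphE6.ε 36 : K) * f t)) := by
    calc XR 36 (f t - t) = (XR 36 t)⁻¹ * XR 36 (f t) := by
          rw [certFullE6.xg_inv, ← certFullE6.xg_add, sub_eq_neg_add]
      _ = (XR 36 t)⁻¹ * (XR 36 (f t) * XR (graphE6.ρ 36) (f ((graphE6.ε 36 : K) * f t))) *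
            (XR (graphE6.ρ 36) (f ((graphE6.ε 36 : K) * f t)))⁻¹ := by group
      _ = _ := by
        rw [h, certFullE6.xg_inv (graphE6.ρ 36), inv_mul_cancel_left, ← certFullE6.xg_add]
  have hcl : certFullE6.IsClosed {graphE6.ρ 36} :=
    ⟨fun r hr => by rw [Set.mem_singleton_iff.1 hr]; exact hp', fun r hr s hs x hx => by
      rw [Set.mem_singleton_iff.1 hr, Set.mem_singleton_iff.1 hs,
        (root_spec (K := K) hp').2.2.2.1] at hx
      simp at hx⟩
  exact certFullE6.eq_zero_of_mem_absorbs hcl hp huu (fun hm => hne (Set.mem_singleton_iff.1 hm).symm)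
    (h1 ▸ certFullE6.xg_mem_KS (Set.mem_singleton _) hp'.1 _)

end E6Sub

end Cfsg.Agent.Lie.Chev
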