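import Cfsg.Agent.Lib.Lie.Chev.E6SubfieldU

/-! The subfield points of ²E₆(q): an intermediate group contains no further conjugate of a long
root element unless it contains a further element of the highest short root group. -/

set_option autoImplicit false
set_option maxRecDepth 20000

namespace Cfsg.Agent.Lie.Chev.E6Sub

open Cfsg.Lie Matrix

local notation "XR" => Cert.xg certFullE6.toCert

/-- A move of a negative long root by a long node. -/
structure LongMove where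
  r : ℕ
  J : List ℕ
  s : ℕ

/-- A move of a negative long root by a short node, with the data of a commutator. -/
structure ShortMove where
  r : ℕ
  J : List ℕ
  b : ℕ
  r' : ℕ
  p : ℕ
  u : ℕ
  A : List ℕ

/-- The moves by long nodes. -/
def longMoves : List LongMove :=
  [⟨0, [1], 46⟩, ⟨1, [3], 39⟩, ⟨6, [3], 39⟩, ⟨8, [1], 46⟩, ⟨18, [3], 39⟩, ⟨20, [1], 46⟩,
    ⟨24, [1], 46⟩, ⟨25, [1], 46⟩, ⟨32, [3], 39⟩]

/-- The moves by short nodes. -/
def shortMoves : List ShortMove :=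
  [⟨2, [2, 4], 71, 47, 37, 48, []⟩, ⟨11, [0, 5], 70, 53, 36, 54, [71]⟩,
    ⟨27, [2, 4], 70, 65, 37, 66, [71]⟩]

/-- The roots made negative. -/
def invL (J : List ℕ) : List ℕ :=
  (List.range' 36 36).filter fun x => Nat.blt (certFullE6.T.wlT J x) 36

/-- A root element commutes by the table. -/
def nilAt (a b : ℕ) : Bool :=
  !(Nat.beq b a) && !(Nat.beq b (71 - a)) && (certFullE6.T.commTerms a b).isEmpty

theorem moves_cover : ((List.range 36).all fun r => !(Nat.beq (graphE6.ρ r) r) ||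
    longMoves.any (fun M => Nat.beq M.r r) || shortMoves.any fun M => Nat.beq M.r r) = true := by
  decide +kernel

theorem long_ok : (longMoves.all fun M =>
    orbitsE6.contains M.J && Nat.blt M.r (certFullE6.T.wlT M.J M.r) &&
      Nat.beq (graphE6.ρ (certFullE6.T.wlT M.J M.r)) (certFullE6.T.wlT M.J M.r) &&
      Nat.ble 36 M.s && Nat.blt M.s 72 && Nat.beq (graphE6.ρ M.s) M.s &&
      (invL M.J).all fun x => Nat.beq x M.s) = true := by
  decide +kernel

theorem short_ok : (shortMoves.all fun M =>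
    orbitsE6.contains M.J && Nat.blt M.r (certFullE6.T.wlT M.J M.r) &&
      Nat.beq (graphE6.ρ (certFullE6.T.wlT M.J M.r)) (certFullE6.T.wlT M.J M.r) &&
      Nat.blt M.r 36 && Nat.ble 36 M.b && Nat.blt M.b 72 && Nat.beq (graphE6.ρ M.b) M.b &&
      Nat.ble 36 M.r' && Nat.blt M.r' 72 && Nat.ble 36 M.p && Nat.blt M.p 72 &&
      !(Nat.beq (graphE6.ρ M.p) M.p) && Nat.ble 36 M.u && Nat.blt M.u 72 &&
      !(Nat.beq M.b M.r) && !(Nat.beq M.b (71 - M.r)) && !(Nat.beq M.r' M.p) &&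
      (invL M.J).all (fun x => Nat.beq x M.p || Nat.beq x (graphE6.ρ M.p)) &&
      (match certFullE6.T.commTerms M.r M.b with
        | [(v, C, a, b)] => Nat.beq v M.r' && (intBeq C 1 || intBeq C (-1)) && Nat.beq a 1 &&
            Nat.beq b 1
        | _ => false) &&
      (match certFullE6.T.commTerms M.p M.r' with
        | [(v, C, a, b)] => Nat.beq v M.u && (intBeq C 1 || intBeq C (-1)) && Nat.beq a 1 &&
            Nat.beq b 1
        | _ => false) &&
      nilAt M.b M.r' &&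
      M.A.all (fun w => Nat.ble 36 w && Nat.blt w 72 && nilAt M.r w && nilAt M.r' w &&
        (List.range' 36 36).all fun a =>
          (certFullE6.T.commTerms a w).all fun x => M.A.contains x.1) &&
      (List.range' 36 36).all (fun a =>
        (certFullE6.T.commTerms M.b a).all (fun x => M.A.contains x.1) &&
        ((invL M.J).contains a || termsNB M.u M.r' a)) &&
      termsNB M.u (graphE6.ρ M.p) M.r') = true := by
  decide +kernel

variable {K : Type*} [Field K]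

theorem nilAt_commute {a b : ℕ} (ha : a < 72) (hb : b < 72) (h : nilAt a b = true) (t u : K) :
    Commute (XR a t) (XR b u) := by
  simp only [nilAt, Bool.and_eq_true, Bool.not_eq_true', List.isEmpty_iff] at h
  obtain ⟨⟨h1, h2⟩, h3⟩ := h
  refine certFullE6.xg_commute ha hb (fun e => ?_) (fun e => ?_) h3 t u
  · rw [beq_of_eq e] at h1; exact Bool.noConfusion h1
  · have e2 : chevE6.neg a = 71 - a := certFullE6.neg_eq ha
    rw [beq_of_eq (e.trans e2)] at h2; exact Bool.noConfusion h2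

theorem one_term {a b v : ℕ} (ha : a < 72) (hb : b < 72) (hne : b ≠ a) (hneg : b ≠ 71 - a)
    (h : (match certFullE6.T.commTerms a b with
      | [(w, C, i, j)] => Nat.beq w v && (intBeq C 1 || intBeq C (-1)) && Nat.beq i 1 &&
          Nat.beq j 1
      | _ => false) = true) :
    ∃ e : ℤ, e * e = 1 ∧ ∀ t u : K,
      XR a t * XR b u * (XR a t)⁻¹ = XR b u * XR v ((e : K) * t * u) := by
  revert h
  match hct : certFullE6.T.commTerms a b with
  | [(w, C, i, j)] =>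
    intro h
    simp only [Bool.and_eq_true, Bool.or_eq_true, Nat.beq_eq] at h
    obtain ⟨⟨⟨rfl, hC⟩, rfl⟩, rfl⟩ := h
    refine ⟨C, by rcases hC with h | h <;> rw [intBeq_eq h] <;> rfl, fun t u => ?_⟩
    have e := certFullE6.xg_comm (show a < chevE6.nroots from ha) (show b < chevE6.nroots from hb)
      hne (fun e => hneg (e.trans (certFullE6.neg_eq ha))) (-t) u
    rw [hct] at e
    simp only [List.map_cons, List.map_nil, List.prod_cons, List.prod_nil, mul_one, neg_neg,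
      pow_one] at e
    rw [certFullE6.xg_inv, mul_assoc, e, ← mul_assoc, ← mul_assoc, ← certFullE6.xg_add,
      add_neg_cancel, certFullE6.xg_zero, one_mul]
  | [] => intro h; exact Bool.noConfusion h
  | _ :: _ :: _ => intro h; exact Bool.noConfusion h

variable (f : K →+* K) [Fintype K] {q : ℕ} (hf : ∀ t, f t = t ^ q) (hK : Fintype.card K = q ^ 2)

include hf hK

theorem nw_mem_sub {J : List ℕ} (hJ : J ∈ orbitsE6) : certFullE6.nw K J ∈ sub f :=
  (mem_sub f).2 ⟨(E6.datum f hf hK).nw_J_fix hJ, certFullE6.nw_map f J⟩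

/-- Splitting off the roots of an orbit on the left. -/
theorem left_split {J : List ℕ} (hJ : J ∈ orbitsE6) {v : GL chevE6.Idx K}
    (hv : v ∈ chevE6.posUnipotent K) (hvf : v ∈ (E6.tw f).fix) :
    ∃ w ∈ certFullE6.KS K (certFullE6.invSet J) certFullE6.T.h, w ∈ (E6.tw f).fix ∧
      ∃ v' ∈ certFullE6.KS K (certFullE6.keepSet J) certFullE6.T.h, v' ∈ (E6.tw f).fix ∧
        v = w * v' := by
  obtain ⟨a, ha, b, hb, e⟩ := (E6.datum f hf hK).keep_split hJ (u := v⁻¹)
    (Subgroup.mem_inf.2 ⟨inv_mem hv, inv_mem hvf⟩)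
  exact ⟨b⁻¹, inv_mem hb.1, inv_mem hb.2, a⁻¹, inv_mem ha.1, inv_mem ha.2,
    by rw [← _root_.mul_inv_rev, ← e, inv_inv]⟩

omit hf hK [Fintype K] in
theorem invL_spec {J : List ℕ} (hJ : J ∈ orbitsE6) {x : ℕ}
    (hx : x ∈ certFullE6.invSet J) : x ∈ invL J :=
  (E6.invSet_pair (fun p hp => by
    simp only [orbitsE6, List.mem_cons, List.not_mem_nil, or_false] at hJ
    show p < 6
    rcases hJ with rfl | rfl | rfl | rfl <;>
      simp only [List.mem_cons, List.not_mem_nil, or_false] at hp <;> omega) x).1 hx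

/-- The step: an element is moved to a larger root and stripped. -/
theorem step_move {H : Subgroup (GL chevE6.Idx K)} (hM : sub f ≤ H) {J : List ℕ}
    (hJ : J ∈ orbitsE6) {r : ℕ} (hr : r < 72) {w v' : GL chevE6.Idx K} {k : K}
    (hw : w ∈ sub f) (hv' : v' ∈ certFullE6.KS K (certFullE6.keepSet J) certFullE6.T.h)
    (hv'f : v' ∈ (E6.tw f).fix) (hy : w * v' * XR r k * (w * v')⁻¹ ∈ H)
    (ih : ∀ v ∈ chevE6.posUnipotent K, v ∈ (E6.tw f).fix → ∀ k' : K,
      v * XR (certFullE6.T.wlT J r) k' * v⁻¹ ∈ H →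
        v * XR (certFullE6.T.wlT J r) k' * v⁻¹ ∈ sub f) :
    w * v' * XR r k * (w * v')⁻¹ ∈ sub f := by
  have hn := nw_mem_sub f hf hK hJ
  set n := certFullE6.nw K J with hndef
  obtain ⟨-, hlt, -⟩ := (E6.datum f hf hK).W.J_spec hJ
  have e : n * XR r k * n⁻¹ =
      XR (certFullE6.T.wlT J r) ((certFullE6.wsign J r : K) * k) := by
    rw [certFullE6.wlT_eq, hndef, certFullE6.nw_mul_xg hlt (show r < chevE6.nroots from hr),
      mul_inv_cancel_right]
  have hU : n * v' * n⁻¹ ∈ chevE6.posUnipotent K := by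
    simpa [n] using certFullE6.conj_keep_mem_U (one_mem _) hlt hv'
  have hfx : n * v' * n⁻¹ ∈ (E6.tw f).fix :=
    mul_mem (mul_mem ((mem_sub f).1 hn).1 hv'f) (inv_mem ((mem_sub f).1 hn).1)
  have h1 : n * (w⁻¹ * (w * v' * XR r k * (w * v')⁻¹) * w) * n⁻¹ =
      n * v' * n⁻¹ * XR (certFullE6.T.wlT J r) ((certFullE6.wsign J r : K) * k) *
        (n * v' * n⁻¹)⁻¹ := by
    rw [← e]; group
  have h2 : n * v' * n⁻¹ * XR (certFullE6.T.wlT J r) ((certFullE6.wsign J r : K) * k) *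
      (n * v' * n⁻¹)⁻¹ ∈ sub f := by
    refine ih _ hU hfx _ ?_
    rw [← h1]
    exact mul_mem (mul_mem (hM hn) (mul_mem (mul_mem (inv_mem (hM hw)) hy) (hM hw)))
      (inv_mem (hM hn))
  rw [← h1] at h2
  have h3 := mul_mem (mul_mem (mul_mem hw (mul_mem (mul_mem (inv_mem hn) h2) hn)) (inv_mem hw))
    (one_mem (sub f))
  simpa [mul_assoc] using h3

/-- The parameter of a short node is in the subfield. -/
theorem short_param {H : Subgroup (GL chevE6.Idx K)} (hM : sub f ≤ H) (hH : H ≤ (E6.tw f).fix)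
    (htop : ∀ a : K, pair f 66 a ∈ H → f a = a) {M : ShortMove} (hMmem : M ∈ shortMoves)
    {t k : K} {v' : GL chevE6.Idx K} (hk : f k = k) (hk0 : k ≠ 0)
    (hv' : v' ∈ certFullE6.KS K (certFullE6.keepSet M.J) certFullE6.T.h)
    (hy : pair f M.p t * v' * XR M.r k * (pair f M.p t * v')⁻¹ ∈ H) : f t = t := by
  have hff := E6.pow_sq f hf hK
  have h := short_ok
  simp only [List.all_eq_true, Bool.and_eq_true, Bool.or_eq_true, Bool.not_eq_true', Nat.beq_eq,
    Nat.ble_eq, Nat.blt_eq, List.contains_iff_mem, List.mem_range'_1] at h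
  obtain ⟨⟨⟨⟨⟨⟨⟨⟨⟨⟨⟨⟨⟨⟨⟨⟨⟨⟨⟨⟨⟨⟨⟨hJ, -⟩, -⟩, hr⟩, hb1⟩, hb2⟩, hbf⟩, hr'1⟩, hr'2⟩, hp1⟩, hp2⟩, hpne⟩,
    hu1⟩, hu2⟩, hbr⟩, hbr'⟩, hr'p⟩, -⟩, hct1⟩, hct2⟩, hbr''⟩, hA⟩, hall⟩, hpb⟩ := h M hMmem
  have hr72 : M.r < 72 := by omega
  have hb : certFullE6.Pos M.b := ⟨hb1, hb2⟩
  have hr' : certFullE6.Pos M.r' := ⟨hr'1, hr'2⟩
  have hp : certFullE6.Pos M.p := ⟨hp1, hp2⟩
  have hu : certFullE6.Pos M.u := ⟨hu1, hu2⟩
  have hpp : graphE6.ρ M.p ≠ M.p := fun e => by
    rw [beq_of_eq e] at hpne; exact Bool.noConfusion hpne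
  obtain ⟨-, hp', -⟩ := root_spec (K := K) hp
  obtain ⟨e1, he1, H1⟩ := one_term (K := K) hr72 hb2
    (fun e => by rw [beq_of_eq e] at hbr; exact Bool.noConfusion hbr)
    (fun e => by rw [beq_of_eq e] at hbr'; exact Bool.noConfusion hbr') hct1
  obtain ⟨e2, he2, H2⟩ := one_term (K := K) hp2 hr'2
    (fun e => by rw [beq_of_eq e] at hr'p; exact Bool.noConfusion hr'p) (by omega) hct2
  set X := XR M.b (1 : K)
  set Ns : Set ℕ := {w | w ∈ M.A}
  have hNs : certFullE6.Absorbs Ns := ⟨fun w hw => ⟨(hA w hw).1.1.1.1, (hA w hw).1.1.1.2⟩,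
    fun a ha w hw x hx => (hA w hw).2 a ⟨ha.1, ha.2⟩ x hx⟩
  set w := pair f M.p t
  set V := w * v' with hV
  have hv'U : v' ∈ chevE6.posUnipotent K :=
    certFullE6.KS_le_U' (fun a ha => ha.1) hv'
  have hwU := pair_mem_U f hp t
  have hVU : V ∈ chevE6.posUnipotent K := mul_mem hwU hv'U
  -- the conjugate of `X`
  set U' : Set ℕ := {a | certFullE6.Pos a}
  have hVS : V⁻¹ ∈ certFullE6.KS K U' certFullE6.T.h := by
    have h' := U_eq_from (inv_mem hVU)
    exact certFullE6.KS_mono_fold (fun a ha => from_pos ha) h'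
  obtain ⟨n, hn, hnX⟩ : ∃ n ∈ certFullE6.KS K Ns certFullE6.T.h, V⁻¹ * X * V = n⁻¹ * X := by
    refine ⟨_, certFullE6.comm_mod hNs hb (S := U') (fun a ha => ha)
      (fun a ha _ x hx => (hall a ⟨ha.1, ha.2⟩).1 x hx) 1 hVS, ?_⟩
    simp only [X]
    group
  have hnr : ∀ (m : ℕ), m < 72 → (∀ a ∈ M.A, nilAt m a = true) → ∀ s : K,
      Commute (XR m s) n := by
    intro m hm hmA s
    clear hnX
    induction hn using Subgroup.closure_induction with
    | mem g hg =>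
      obtain ⟨a, e, ha, -, rfl⟩ := hg
      exact nilAt_commute hm (hNs.1 a ha).2 (hmA a ha) s e
    | one => exact Commute.one_right _
    | mul a b _ _ ha hb => exact ha.mul_right hb
    | inv a _ ha => exact ha.inv_right
  have hnr1 := hnr M.r hr72 fun a ha => (hA a ha).1.1.2
  have hnr2 := hnr M.r' hr'2 fun a ha => (hA a ha).1.2
  -- the commutator
  have hXM : X ∈ sub f := long_mem f hb2 hbf (map_one f)
  set ε : K := (e1 : K) * k with hε
  have hfε : f ε = ε := by rw [hε, map_mul, map_intCast, hk]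
  have hc : (V * XR M.r k * V⁻¹) * X * (V * XR M.r k * V⁻¹)⁻¹ * X⁻¹ = V * XR M.r' ε * V⁻¹ := by
    have h1 : XR M.r k * X * (XR M.r k)⁻¹ = X * XR M.r' ε := by
      rw [H1 k 1, mul_one]
    have h2 : XR M.r k * (n⁻¹ * X) * (XR M.r k)⁻¹ * (n⁻¹ * X)⁻¹ = XR M.r' ε := by
      calc _ = (XR M.r k * n⁻¹) * (X * (XR M.r k)⁻¹ * X⁻¹) * n := by group
        _ = n⁻¹ * (XR M.r k * X * (XR M.r k)⁻¹) * X⁻¹ * n := by
            rw [(hnr1 k).inv_right.eq]; group
        _ = n⁻¹ * (XR M.r' ε * n) := by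
            have hb' : Commute X (XR M.r' ε) := nilAt_commute hb2 hr'2 hbr'' 1 ε
            rw [h1, hb'.eq]; group
        _ = _ := by rw [(hnr2 ε).eq]; group
    calc _ = V * (XR M.r k * (V⁻¹ * X * V) * (XR M.r k)⁻¹ * (V⁻¹ * X * V)⁻¹) * V⁻¹ := by group
      _ = _ := by rw [hnX, h2]
  have hcH : V * XR M.r' ε * V⁻¹ ∈ H :=
    hc ▸ mul_mem (mul_mem (mul_mem hy (hM hXM)) (inv_mem hy)) (inv_mem (hM hXM))
  have hcM := ((mem_sub f).1 (U_sub f hff hM hH htop
    (mul_mem (mul_mem hVU (certFullE6.xg_mem_U hr' ε)) (inv_mem hVU)) hcH)).2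
  -- read off the coordinate at `u`
  have hN := nb_absorbs M.u
  obtain ⟨n1, hn1, E1⟩ : ∃ n1 ∈ certFullE6.KS K (nb M.u) certFullE6.T.h,
      v' * XR M.r' ε * v'⁻¹ = n1⁻¹ * XR M.r' ε := by
    refine ⟨_, certFullE6.comm_mod hN hr' (fun a ha => ha.1) (fun a ha _ => ?_) ε hv', by group⟩
    refine terms_nb hr' ha.1 (((hall a ⟨ha.1.1, ha.1.2⟩).2).resolve_left fun hmem => ?_)
    have hlt : ∀ x ∈ M.J, x < chevE6.rank := ((E6.datum f hf hK).W.J_spec hJ).2.1
    exact ((E6.invSet_pair hlt a).2 hmem).2 ha.2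
  set s : K := (graphE6.ε M.p : K) * f t
  obtain ⟨n2, hn2, E2⟩ : ∃ n2 ∈ certFullE6.KS K (nb M.u) certFullE6.T.h,
      XR (graphE6.ρ M.p) s * XR M.r' ε * (XR (graphE6.ρ M.p) s)⁻¹ = n2 * XR M.r' ε :=
    ⟨_, certFullE6.comm_mod hN hp' (S := {M.r'}) (fun a ha => by rw [Set.mem_singleton_iff.1 ha]; exact hr')
      (fun a ha _ => by rw [Set.mem_singleton_iff.1 ha]; exact terms_nb hp' hr' hpb) s
      (certFullE6.xg_mem_KS (Set.mem_singleton M.r') hr'1 ε), by group⟩
  set Z := XR M.r' ε * XR M.u ((e2 : K) * t * ε) with hZ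
  set m := w * n1⁻¹ * w⁻¹ * (XR M.p t * n2 * (XR M.p t)⁻¹) with hm
  have hmN : m ∈ certFullE6.KS K (nb M.u) certFullE6.T.h :=
    mul_mem (certFullE6.absorbs_conj hN hwU (inv_mem hn1))
      (certFullE6.absorbs_conj hN (certFullE6.xg_mem_U hp t) hn2)
  have hcZ : V * XR M.r' ε * V⁻¹ = m * Z := by
    calc V * XR M.r' ε * V⁻¹ = w * (v' * XR M.r' ε * v'⁻¹) * w⁻¹ := by rw [hV]; group
      _ = w * n1⁻¹ * w⁻¹ * (XR M.p t * (XR (graphE6.ρ M.p) s * XR M.r' ε *
            (XR (graphE6.ρ M.p) s)⁻¹) * (XR M.p t)⁻¹) := by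
          rw [E1, show w = XR M.p t * XR (graphE6.ρ M.p) s from rfl]; group
      _ = m * (XR M.p t * XR M.r' ε * (XR M.p t)⁻¹) := by rw [E2, hm]; group
      _ = m * Z := by rw [H2 t ε]
  clear_value m
  rw [hcZ, map_mul, hZ, map_mul, certFullE6.xg_map, certFullE6.xg_map, hfε,
    show f ((e2 : K) * t * ε) = (e2 : K) * f t * ε by rw [map_mul, map_mul, map_intCast, hfε]]
    at hcM
  set φ := Matrix.GeneralLinearGroup.map (n := chevE6.Idx) f
  set A := (e2 : K) * t * ε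
  set B := (e2 : K) * f t * ε
  have hmem : XR M.r' ε * (XR M.u B * (XR M.u A)⁻¹) * (XR M.r' ε)⁻¹ ∈
      certFullE6.KS K (nb M.u) certFullE6.T.h := by
    have e : XR M.r' ε * (XR M.u B * (XR M.u A)⁻¹) * (XR M.r' ε)⁻¹ = (φ m)⁻¹ * m := by
      calc _ = (φ m)⁻¹ * (φ m * (XR M.r' ε * XR M.u B)) * (XR M.r' ε * XR M.u A)⁻¹ := by group
        _ = _ := by rw [hcM]; group
    rw [e]
    exact mul_mem (inv_mem (certFullE6.KS_map f hmN)) hmN
  have h5 := certFullE6.absorbs_conj hN (inv_mem (certFullE6.xg_mem_U (F := K) hr' ε)) hmem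
  rw [inv_inv] at h5
  simp only [← mul_assoc, inv_mul_cancel, one_mul, inv_mul_cancel_right] at h5
  rw [certFullE6.xg_inv, ← certFullE6.xg_add] at h5
  have h6 := certFullE6.eq_zero_of_mem_absorbs
    ⟨hN.1, fun a ha b hb x hx => hN.2 a ha.1 b hb x hx⟩ hu
    (root_spec (K := K) hu).2.2.2.1 (not_mem_nb M.u) h5
  have hε0 : (e2 : K) * ε ≠ 0 := by
    refine mul_ne_zero (fun h0 => ?_) (mul_ne_zero (fun h0 => ?_) hk0)
    · have := congrArg (fun z : ℤ => (z : K)) he2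
      simp [h0] at this
    · have := congrArg (fun z : ℤ => (z : K)) he1
      simp [h0] at this
  refine sub_eq_zero.1 ((mul_eq_zero.1 (?_ : ((e2 : K) * ε) * (f t - t) = 0)).resolve_left hε0)
  linear_combination h6

/-- Long root conjugates in an intermediate group are subfield points. -/
theorem long_conj {H : Subgroup (GL chevE6.Idx K)} (hM : sub f ≤ H) (hH : H ≤ (E6.tw f).fix)
    (htop : ∀ a : K, pair f 66 a ∈ H → f a = a) : ∀ r, r < 72 → graphE6.ρ r = r →
      ∀ v ∈ chevE6.posUnipotent K, v ∈ (E6.tw f).fix → ∀ k : K,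
        v * XR r k * v⁻¹ ∈ H → v * XR r k * v⁻¹ ∈ sub f := by
  have hff := E6.pow_sq f hf hK
  intro r
  induction hd : 72 - r using Nat.strong_induction_on generalizing r with
  | _ d ih =>
    intro hr hfx v hv hvf k hy
    by_cases hpos : 36 ≤ r
    · exact U_sub f hff hM hH htop
        (mul_mem (mul_mem hv (certFullE6.xg_mem_U ⟨hpos, hr⟩ k)) (inv_mem hv)) hy
    by_cases hk0 : k = 0
    · rw [hk0, certFullE6.xg_zero, mul_one, mul_inv_cancel]; exact one_mem _
    have hk : f k = k := by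
      refine long_fix f hr hfx ?_
      have := mul_mem (mul_mem (inv_mem hvf) (hH hy)) hvf
      simpa [mul_assoc] using this
    have hc := moves_cover
    simp only [List.all_eq_true, List.mem_range, Bool.or_eq_true, Bool.not_eq_true',
      List.any_eq_true, Nat.beq_eq] at hc
    rcases hc r (by omega) with (h | ⟨M, hMm, rfl⟩) | ⟨M, hMm, rfl⟩
    · rw [beq_of_eq hfx] at h; exact Bool.noConfusion h
    · have hl := long_ok
      simp only [List.all_eq_true, Bool.and_eq_true, Nat.beq_eq, Nat.ble_eq, Nat.blt_eq,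
        List.contains_iff_mem] at hl
      obtain ⟨⟨⟨⟨⟨⟨hJ, hup⟩, hfx'⟩, hs1⟩, hs2⟩, hsf⟩, hinv⟩ := hl M hMm
      obtain ⟨w, hw, hwf, v', hv', hv'f, rfl⟩ := left_split f hf hK hJ hv hvf
      refine step_move f hf hK hM hJ hr ?_ hv' hv'f hy fun v₁ h1 h2 k' h3 =>
        ih _ (by omega) _ rfl ?_ hfx' v₁ h1 h2 k' h3
      · obtain ⟨a, b, rfl⟩ := KS_two (p := M.s) (p' := M.s)
          (fun x hx => Or.inl (hinv x (invL_spec hJ hx)))
          (fun a b => by show _ = _; rw [← certFullE6.xg_add, ← certFullE6.xg_add, add_comm]) hw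
        rw [← certFullE6.xg_add] at hwf ⊢
        exact long_mem f hs2 hsf (long_fix f hs2 hsf hwf)
      · rw [certFullE6.wlT_eq]
        exact certFullE6.wl_lt ((E6.datum f hf hK).W.J_spec hJ).2.1
          (show M.r < chevE6.nroots from hr)
    · have hs := short_ok
      simp only [List.all_eq_true, Bool.and_eq_true, Bool.or_eq_true, Bool.not_eq_true',
        Nat.beq_eq, Nat.ble_eq, Nat.blt_eq, List.contains_iff_mem] at hs
      obtain ⟨⟨⟨⟨⟨⟨⟨⟨⟨⟨⟨⟨⟨⟨⟨⟨⟨⟨⟨⟨⟨⟨⟨hJ, hup⟩, hfx'⟩, -⟩, -⟩, -⟩, -⟩, -⟩, -⟩, hp1⟩, hp2⟩, hpne⟩,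
        -⟩, -⟩, -⟩, -⟩, -⟩, hinv⟩, -⟩, -⟩, -⟩, -⟩, -⟩, -⟩ := hs M hMm
      have hp : certFullE6.Pos M.p := ⟨hp1, hp2⟩
      have hpp : graphE6.ρ M.p ≠ M.p := fun e => by
        rw [beq_of_eq e] at hpne; exact Bool.noConfusion hpne
      obtain ⟨w, hw, hwf, v', hv', hv'f, rfl⟩ := left_split f hf hK hJ hv hvf
      obtain ⟨a, b, rfl⟩ := KS_two (p := M.p) (p' := graphE6.ρ M.p)
        (fun x hx => hinv x (invL_spec hJ hx)) (fun a b => pair_comm hp hpp a b) hw
      rw [pair_fix f hff hp hpp hwf] at hy ⊢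
      change pair f M.p a * v' * _ * _ ∈ _ at hy
      refine step_move f hf hK hM hJ hr
        (pair_mem_sub f hff hp hpp (short_param f hf hK hM hH htop hMm hk hk0 hv' hy)) hv' hv'f hy
        fun v₁ h1 h2 k' h3 => ih _ (by omega) _ rfl ?_ hfx' v₁ h1 h2 k' h3
      rw [certFullE6.wlT_eq]
      exact certFullE6.wl_lt ((E6.datum f hf hK).W.J_spec hJ).2.1
        (show M.r < chevE6.nroots from hr)

end Cfsg.Agent.Lie.Chev.E6Sub
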