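import Cfsg.Agent.Lib.Lie.Chev.CycTori
import Cfsg.Agent.Lib.Lie.Chev.TorusOrders
import Mathlib.FieldTheory.Finite.Extension

/-! The cyclotomic tori of `F₄(q)` and `E₈(q)`. -/

set_option autoImplicit false

namespace Cfsg.Agent.Lie.Chev.CycToriInst

open Cfsg.Lie Polynomial

theorem length_chainWords : ∀ Ls : List (List Rep),
    (chainWords Ls).length = (Ls.map List.length).prod
  | [] => rfl
  | R :: Rs => by
    simp [chainWords, List.length_flatMap, length_chainWords Rs]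

theorem cyclotomic_eight : cyclotomic 8 ℤ = X ^ 4 + 1 := by
  rw [show (8 : ℕ) = 2 ^ (2 + 1) from rfl, cyclotomic_prime_pow_eq_geom_sum Nat.prime_two]
  simp [Finset.sum_range_succ]
  ring

theorem cyclotomic_thirty :
    cyclotomic 30 ℤ = X ^ 8 + X ^ 7 - X ^ 5 - X ^ 4 - X ^ 3 + X + 1 := by
  have h6 : cyclotomic 6 ℤ = X ^ 2 - X + 1 := by
    have h := cyclotomic_expand_eq_cyclotomic_mul (R := ℤ) (p := 2) (n := 3) Nat.prime_two
      (by norm_num)
    rw [cyclotomic_three, map_add, map_add, map_pow, expand_X, map_one] at h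
    refine mul_right_cancel₀ (b := cyclotomic 3 ℤ) (cyclotomic_ne_zero 3 ℤ) ?_
    rw [cyclotomic_three]
    linear_combination (-1 : ℤ[X]) * h
  have h := cyclotomic_expand_eq_cyclotomic_mul (R := ℤ) (p := 5) (n := 6) Nat.prime_five
    (by norm_num)
  rw [h6, map_add, map_sub, map_pow, expand_X, map_one] at h
  refine mul_right_cancel₀ (b := cyclotomic 6 ℤ) (cyclotomic_ne_zero 6 ℤ) ?_
  rw [h6]
  linear_combination (-1 : ℤ[X]) * h

theorem one_mod_of_dvd {n r : ℕ} [Fact r.Prime] (hrn : ¬ r ∣ n) {q : ℤ}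
    (h : (r : ℤ) ∣ (cyclotomic n ℤ).eval q) : n ∣ r - 1 := by
  haveI : NeZero (n : ZMod r) := ⟨fun h => hrn ((ZMod.natCast_eq_zero_iff _ _).1 h)⟩
  have hprim : IsPrimitiveRoot (q : ZMod r) n := by
    rw [← isRoot_cyclotomic_iff, IsRoot.def, ← map_cyclotomic n (Int.castRingHom (ZMod r)),
      show (q : ZMod r) = Int.castRingHom (ZMod r) q from rfl, eval_map_apply]
    exact (ZMod.intCast_zmod_eq_zero_iff_dvd _ r).2 h
  rw [hprim.eq_orderOf]
  refine ZMod.orderOf_dvd_card_sub_one ?_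
  intro h0
  rw [h0] at hprim
  have hn : n ≠ 0 := fun e => hrn (e ▸ dvd_zero r)
  exact zero_ne_one ((zero_pow hn).symm.trans hprim.pow_eq_one)

theorem exists_torus {F : Type*} [Field F] [Fintype F] {D : ChevalleyDatum} (c : CertFull D)
    {q : ℕ} (hF : Fintype.card F = q) {n : ℕ} [NeZero n] (hn : n.totient = D.rank) (hn1 : 1 < n)
    {Ls : List (List Rep)} {ds : List ℕ} (hc : c.T.checkLevels Ls = true)
    (hlen : Ls.length = D.rank) (hpoly : checkPoly D.rank Ls ds = true) (hds : n ∈ ds)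
    (hH : ∀ (K : Type) [Field K] [Fintype K],
      Nat.card (D.diagonalSubgroup K) = (Fintype.card K - 1) ^ D.rank)
    (hHF : 1 * Nat.card (D.diagonalSubgroup F) = (Fintype.card F - 1) ^ D.rank)
    {r : ℕ} [Fact r.Prime] (hr : (r : ℤ) ∣ (cyclotomic n ℤ).eval (q : ℤ))
    (hrn : ¬ r ∣ n) (hrl : D.rank + 1 < r) (hrW : ¬ r ∣ (Ls.map List.length).prod)
    (hs : ∀ s : ℕ, s.Prime → s ∣ n → ¬ (s : ℤ) ^ 2 ∣ (cyclotomic n ℤ).eval (q : ℤ)) :
    ∃ H : Subgroup ↥(D.group F), IsCyclic ↥H ∧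
      Nat.card ↥H = ((cyclotomic n ℤ).eval (q : ℤ)).natAbs ∧
      Subgroup.centralizer (H : Set ↥(D.group F)) = H := by
  obtain ⟨p, hp⟩ := CharP.exists F
  obtain ⟨k, hpp, hk⟩ := FiniteField.card F p
  haveI : Fact p.Prime := ⟨hpp⟩
  letI : Fintype (FiniteField.Extension F p n) := Fintype.ofFinite _
  haveI : CharP (FiniteField.Extension F p n) p :=
    charP_of_injective_ringHom (algebraMap F (FiniteField.Extension F p n)).injective p
  refine c.exists_cyclotomic_torus_of_ext (algebraMap F (FiniteField.Extension F p n)) hF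
    (iterateFrobenius (FiniteField.Extension F p n) p k)
    (fun t => by rw [iterateFrobenius_def, ← hk, hF]) hn hn1 ?_ hc hlen hpoly hds hHF
    (hH _) hr hrn hrl (by rwa [length_chainWords]) hs
  rw [← Nat.card_eq_fintype_card, FiniteField.natCard_extension, Nat.card_eq_fintype_card, hF]

theorem not_dvd_of_primes {r : ℕ} (hr : r.Prime) {a : ℕ} (hra : 7 < r)
    (ha : a ∣ 2 ^ 14 * 3 ^ 5 * 5 ^ 2 * 7) : ¬ r ∣ a := by
  intro h
  have h1 := h.trans ha
  rcases hr.dvd_mul.1 h1 with h2 | h2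
  · rcases hr.dvd_mul.1 h2 with h3 | h3
    · rcases hr.dvd_mul.1 h3 with h4 | h4
      · have := Nat.le_of_dvd (by norm_num) (hr.dvd_of_dvd_pow h4); omega
      · have := Nat.le_of_dvd (by norm_num) (hr.dvd_of_dvd_pow h4); omega
    · have := Nat.le_of_dvd (by norm_num) (hr.dvd_of_dvd_pow h3); omega
  · have := Nat.le_of_dvd (by norm_num) h2; omega

theorem prod_F4 : (chainF4.map List.length).prod ∣ 2 ^ 14 * 3 ^ 5 * 5 ^ 2 * 7 := by decide +kernel

theorem prod_E8 : (chainE8.map List.length).prod ∣ 2 ^ 14 * 3 ^ 5 * 5 ^ 2 * 7 := by decide +kernel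

theorem F4_torus {F : Type*} [Field F] [Fintype F] (q : ℕ) (hF : Fintype.card F = q) :
    ∃ H : Subgroup ↥(chevF4.group F), IsCyclic ↥H ∧ Nat.card ↥H = q ^ 4 + 1 ∧
      Subgroup.centralizer (H : Set ↥(chevF4.group F)) = H := by
  have hq : 2 ≤ q := hF ▸ Fintype.one_lt_card
  have hev : (cyclotomic 8 ℤ).eval (q : ℤ) = ((q ^ 4 + 1 : ℕ) : ℤ) := by
    rw [cyclotomic_eight]; simp
  have h4 : ¬ 4 ∣ q ^ 4 + 1 := by
    intro h
    have h1 := (ZMod.natCast_eq_zero_iff _ 4).2 h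
    push_cast at h1
    have key : ∀ x : ZMod 4, x ^ 4 + 1 ≠ 0 := by decide
    exact key _ h1
  have h16 : 16 ≤ q ^ 4 := (show 16 = 2 ^ 4 by norm_num) ▸ Nat.pow_le_pow_left hq 4
  obtain ⟨r, hr, hr2, hrd⟩ : ∃ r, r.Prime ∧ r ≠ 2 ∧ r ∣ q ^ 4 + 1 := by
    by_contra hno
    push Not at hno
    have h := Nat.eq_prime_pow_of_unique_prime_dvd (p := 2) (n := q ^ 4 + 1) (by omega)
      fun {d} hd hdvd => by_contra fun hne => hno d hd hne hdvd
    obtain ⟨e, he⟩ : ∃ e, q ^ 4 + 1 = 2 ^ e := ⟨_, h⟩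
    rcases e with _ | _ | e
    · simp at he; omega
    · simp at he; omega
    · exact h4 (by rw [he, pow_succ, pow_succ]; exact ⟨2 ^ e, by ring⟩)
  haveI : Fact r.Prime := ⟨hr⟩
  have hrd' : (r : ℤ) ∣ (cyclotomic 8 ℤ).eval (q : ℤ) := by
    rw [hev]; exact Int.natCast_dvd_natCast.2 hrd
  have hr8 : ¬ r ∣ 8 := fun h => hr2 ((Nat.prime_dvd_prime_iff_eq hr Nat.prime_two).1
    (hr.dvd_of_dvd_pow (show r ∣ 2 ^ 3 from h)))
  have hr9 : 9 ≤ r := by
    have := Nat.le_of_dvd (by have := hr.two_le; omega) (one_mod_of_dvd hr8 hrd')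
    omega
  haveI : NeZero (8 : ℕ) := ⟨by norm_num⟩
  obtain ⟨H, h1, h2, h3⟩ := exists_torus (F := F) certFullF4 hF (n := 8) (by decide +kernel) (by omega)
    chainF4_ok chainF4_len chainF4_poly (by simp)
    (fun K _ _ => by simpa using torusOrderF4 K) (torusOrderF4 F) hrd' hr8
    (by show 4 + 1 < r; omega) (not_dvd_of_primes hr (by omega) prod_F4)
    (fun s hs hs8 => by
      obtain rfl := (Nat.prime_dvd_prime_iff_eq hs Nat.prime_two).1
        (hs.dvd_of_dvd_pow (show s ∣ 2 ^ 3 from hs8))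
      rw [hev]
      intro h
      exact h4 (Int.natCast_dvd_natCast.1 (by push_cast; simpa using h)))
  exact ⟨H, h1, by rw [h2, hev, Int.natAbs_natCast], h3⟩

theorem E8_torus {F : Type*} [Field F] [Fintype F] (q : ℕ) (hF : Fintype.card F = q) :
    ∃ H : Subgroup ↥(chevE8.group F), IsCyclic ↥H ∧
      Nat.card ↥H = q ^ 8 + q ^ 7 - q ^ 5 - q ^ 4 - q ^ 3 + q + 1 ∧
      Subgroup.centralizer (H : Set ↥(chevE8.group F)) = H := by
  have hq : 2 ≤ q := hF ▸ Fintype.one_lt_card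
  have h3 : q ^ 3 ≤ q ^ 4 := Nat.pow_le_pow_right (by omega) (by omega)
  have h45 : q ^ 4 * 2 ≤ q ^ 5 := by rw [pow_succ q 4]; exact Nat.mul_le_mul_left _ hq
  have h57 : q ^ 5 * 2 ≤ q ^ 7 := by
    rw [show q ^ 7 = q ^ 5 * (q * q) by ring]
    exact Nat.mul_le_mul_left _ (le_trans hq (Nat.le_mul_self q))
  obtain ⟨N, hN⟩ : ∃ N, N = q ^ 8 + q ^ 7 - q ^ 5 - q ^ 4 - q ^ 3 + q + 1 := ⟨_, rfl⟩
  have hev : (cyclotomic 30 ℤ).eval (q : ℤ) = (N : ℤ) := by
    rw [cyclotomic_thirty, hN]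
    push_cast [Nat.cast_sub (show q ^ 5 ≤ q ^ 8 + q ^ 7 by omega),
      Nat.cast_sub (show q ^ 4 ≤ q ^ 8 + q ^ 7 - q ^ 5 by omega),
      Nat.cast_sub (show q ^ 3 ≤ q ^ 8 + q ^ 7 - q ^ 5 - q ^ 4 by omega)]
    simp
  have hcop : ∀ s ∈ [2, 3, 5], ¬ s ∣ N := by
    intro s hs h
    have h1 : (s : ℤ) ∣ (cyclotomic 30 ℤ).eval (q : ℤ) := by
      rw [hev]; exact Int.natCast_dvd_natCast.2 h
    rw [← ZMod.intCast_zmod_eq_zero_iff_dvd, cyclotomic_thirty] at h1
    simp only [eval_add, eval_sub, eval_pow, eval_X, eval_one] at h1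
    push_cast at h1
    simp only [List.mem_cons, List.not_mem_nil, or_false] at hs
    rcases hs with rfl | rfl | rfl
    · have key : ∀ x : ZMod 2, x ^ 8 + x ^ 7 - x ^ 5 - x ^ 4 - x ^ 3 + x + 1 ≠ 0 := by decide
      exact key _ h1
    · have key : ∀ x : ZMod 3, x ^ 8 + x ^ 7 - x ^ 5 - x ^ 4 - x ^ 3 + x + 1 ≠ 0 := by decide
      exact key _ h1
    · have key : ∀ x : ZMod 5, x ^ 8 + x ^ 7 - x ^ 5 - x ^ 4 - x ^ 3 + x + 1 ≠ 0 := by decide
      exact key _ h1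
  have hN1 : N ≠ 1 := by omega
  obtain ⟨r, hr, hrd⟩ := Nat.exists_prime_and_dvd hN1
  have h30 : ∀ s : ℕ, s.Prime → s ∣ 30 → s ∈ [2, 3, 5] := by
    intro s hs h
    rw [show (30 : ℕ) = 2 * 3 * 5 by norm_num] at h
    rcases hs.dvd_mul.1 h with h | h
    · rcases hs.dvd_mul.1 h with h | h
      · simp [(Nat.prime_dvd_prime_iff_eq hs Nat.prime_two).1 h]
      · simp [(Nat.prime_dvd_prime_iff_eq hs Nat.prime_three).1 h]
    · simp [(Nat.prime_dvd_prime_iff_eq hs Nat.prime_five).1 h]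
  have hr30 : ¬ r ∣ 30 := fun h => hcop r (h30 r hr h) hrd
  haveI : Fact r.Prime := ⟨hr⟩
  have hrd' : (r : ℤ) ∣ (cyclotomic 30 ℤ).eval (q : ℤ) := by
    rw [hev]; exact Int.natCast_dvd_natCast.2 hrd
  have hr31 : 31 ≤ r := by
    have := Nat.le_of_dvd (by have := hr.two_le; omega) (one_mod_of_dvd hr30 hrd')
    omega
  haveI : NeZero (30 : ℕ) := ⟨by norm_num⟩
  obtain ⟨H, h1, h2, h3⟩ := exists_torus (F := F) certFullE8 hF (n := 30) (by decide +kernel) (by omega)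
    chainE8_ok chainE8_len chainE8_poly (by simp)
    (fun K _ _ => by simpa using torusOrderE8 K) (torusOrderE8 F) hrd' hr30
    (by show 8 + 1 < r; omega) (not_dvd_of_primes hr (by omega) prod_E8)
    (fun s hs hs30 h => hcop s (h30 s hs hs30) (Int.natCast_dvd_natCast.1
      ((dvd_pow_self (s : ℤ) two_ne_zero).trans (hev ▸ h))))
  exact ⟨H, h1, by rw [h2, hev, Int.natAbs_natCast, hN], h3⟩

end Cfsg.Agent.Lie.Chev.CycToriInst
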