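import Cfsg.Agent.Lib.Lie.Chev.ParabolicOrder
import Cfsg.Agent.Lib.Lie.Chev.OrderF4
import Cfsg.Agent.Lib.Lie.Chev.Centralizer
import Cfsg.Agent.Lib.Lie.Chev.SteinbergConj
import Cfsg.Agent.Lib.Lie.Chev.TorusOrders

/-! Elements of prime order in two commuting subsystem subgroups of type C₃ and A₁ of the groups of
type F₄ in characteristic two, and in the centraliser of a root element. -/

set_option autoImplicit false
set_option maxRecDepth 4000

namespace Cfsg.Agent.Lie.Chev

open Cfsg.Lie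

namespace CertFull

variable {D : ChevalleyDatum} (c : CertFull D) {F : Type*} [Field F]
include c

theorem xg_mem_rootLevi {J : Set ℕ} {r : ℕ} (hr : D.InRootSub J r) (t : F) :
    c.xg r t ∈ rootLevi D F J :=
  Subgroup.subset_closure ⟨r, t, hr, c.xg_val _ _⟩

theorem rootLevi_le_group (J : Set ℕ) : rootLevi D F J ≤ D.group F := by
  refine (Subgroup.closure_le _).2 ?_
  rintro g ⟨r, t, hr, e⟩
  rw [c.eq_xg_iff.1 e]
  exact c.xg_mem_group hr.1 t

theorem radical_le_posUnipotent (J : Set ℕ) : D.unipotentRadical F J ≤ D.posUnipotent F :=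
  Subgroup.closure_mono fun _ ⟨r, t, hr, _, e⟩ => ⟨r, t, hr, e⟩

/-- A prime dividing the order of a parabolic subgroup but neither `q` nor `q - 1` divides the order
of the root Levi subgroup. -/
theorem exists_order_rootLevi [Fintype F] {J : Set ℕ} {s : ℕ} (hs : s.Prime)
    (hsq : ¬ s ∣ Fintype.card F) (hsH : ¬ s ∣ Nat.card (D.diagonalSubgroup F))
    (hsP : s ∣ Nat.card (D.parabolicSubgroup F J)) :
    ∃ y ∈ rootLevi D F J, orderOf y = s := by
  haveI : Fact s.Prime := ⟨hs⟩
  have hU : ¬ s ∣ Nat.card (D.unipotentRadical F J) := fun h => by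
    have h1 := h.trans (Subgroup.card_dvd_of_le (c.radical_le_posUnipotent J))
    rw [c.card_posUnipotent] at h1
    exact hsq (hs.dvd_of_dvd_pow h1)
  have h := hsP.trans (c.card_parabolic_dvd J)
  haveI : Finite ↥(rootLevi D F J) := Subtype.finite
  obtain ⟨y, hy⟩ := exists_prime_orderOf_dvd_card' s
    ((hs.dvd_mul.1 ((hs.dvd_mul.1 h).resolve_left hU)).resolve_right hsH)
  exact ⟨y, y.2, by rw [Subgroup.orderOf_coe, hy]⟩

/-- An element of odd prime order dividing `q - 1` in a root Levi subgroup. -/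
theorem exists_order_rootLevi_split [Fintype F] {J : Set ℕ} {p : ℕ} (hp : p < D.rank)
    (hpJ : D.InRootSub J (D.simple p)) (hnJ : D.InRootSub J (D.neg (D.simple p)))
    (hcart : c.T.pairing (D.simple p) (D.simple p) = 2) {s : ℕ} (hs : s.Prime) (hs2 : s ≠ 2)
    (hsq : s ∣ Fintype.card F - 1) : ∃ y ∈ rootLevi D F J, orderOf y = s := by
  haveI : Fact s.Prime := ⟨hs⟩
  obtain ⟨a, ha⟩ : ∃ a : Fˣ, orderOf a = s := by
    refine exists_prime_orderOf_dvd_card' s ?_
    rwa [Nat.card_units, Nat.card_eq_fintype_card]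
  have hα := c.simple_lt hp
  have hng : ∀ t : F, c.ng (D.simple p) t ∈ rootLevi D F J := fun t =>
    mul_mem (mul_mem (c.xg_mem_rootLevi hpJ _) (c.xg_mem_rootLevi hnJ _)) (c.xg_mem_rootLevi hpJ _)
  refine ⟨c.hg (D.simple p) (a : F), mul_mem (hng _) (hng _), orderOf_eq_prime ?_ fun h => ?_⟩
  · rw [c.hg_eq hα, ← map_pow, ← map_one (dg D F)]
    congr 1
    funext u
    show (a ^ c.T.pairing (D.simple p) u) ^ s = 1
    rw [← zpow_natCast, ← _root_.zpow_mul, mul_comm, _root_.zpow_mul, zpow_natCast, ← ha,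
      pow_orderOf_eq_one, _root_.one_zpow]
  · rw [c.hg_eq hα, ← map_one (dg D F)] at h
    have e := (dg_eq_iff D F).1 h _ hα
    change a ^ c.T.pairing (D.simple p) (D.simple p) = 1 at e
    rw [hcart, show (2 : ℤ) = ((2 : ℕ) : ℤ) from rfl, zpow_natCast, ← orderOf_dvd_iff_pow_eq_one,
      ha] at e
    exact hs2 ((Nat.prime_dvd_prime_iff_eq hs Nat.prime_two).1 e)

end CertFull

namespace F4Graph

variable {F : Type*} [Field F]

/-- The nodes of the subsystem of type C₃. -/
def J₃ : Set ℕ := {p | p < 3}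

/-- The node of the subsystem of type A₁. -/
def J₁ : Set ℕ := {3}

theorem levi_facts :
    (∀ s < 48, certFullF4.T.vec s 3 = 0 →
      certFullF4.T.evenPair 47 s = true ∧ certFullF4.T.evenPair 0 s = true) ∧
    (∀ p ∈ [3, 2, 1, 2, 0, 1, 2], p < chevF4.rank) ∧
    certFullF4.T.wlT [3, 2, 1, 2, 0, 1, 2] (certFullF4.T.simple 3) = 47 ∧
    certFullF4.T.wlT [3, 2, 1, 2, 0, 1, 2] (certFullF4.T.neg (certFullF4.T.simple 3)) = 0 ∧
    (∀ i < 4, i ≠ 0 → certFullF4.T.vec (certFullF4.T.simple 0) i = 0) ∧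
    (∀ i < 4, i ≠ 0 → certFullF4.T.vec (certFullF4.T.neg (certFullF4.T.simple 0)) i = 0) ∧
    (∀ i < 4, i ≠ 3 → certFullF4.T.vec (certFullF4.T.simple 3) i = 0) ∧
    (∀ i < 4, i ≠ 3 → certFullF4.T.vec (certFullF4.T.neg (certFullF4.T.simple 3)) i = 0) ∧
    certFullF4.T.pairing (certFullF4.T.simple 0) (certFullF4.T.simple 0) = 2 ∧
    certFullF4.T.pairing (certFullF4.T.simple 3) (certFullF4.T.simple 3) = 2 ∧
    (∀ s < 48, (∀ i < 4, i ≠ 3 → certFullF4.T.vec s i = 0) →
      s = certFullF4.T.simple 3 ∨ s = certFullF4.T.neg (certFullF4.T.simple 3)) := by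
  decide +kernel

theorem rank_four : chevF4.rank = 4 := by decide +kernel

theorem roots_48 : chevF4.nroots = 48 := by decide +kernel

theorem chain_tail : certFullF4.T.checkLevels (chainF4.drop 1) = true ∧
    (chainF4.drop 1).length = 3 ∧ checkPoly 3 (chainF4.drop 1) [2, 4, 6] = true := by
  refine ⟨?_, by decide +kernel, by decide +kernel⟩
  have h := chainF4_ok
  revert h
  cases chainF4 with
  | nil => exact fun h => h
  | cons R Rs =>
    intro h
    simp only [Tables.checkLevels, Bool.and_eq_true] at h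
    simpa using h.2

/-- Elements of the orders met in the subsystem of type C₃. -/
theorem exists_order_three [Fintype F] {s : ℕ} (hs : s.Prime) (hs2 : s ≠ 2)
    (hsq : ¬ s ∣ Fintype.card F)
    (hd : s ∣ Fintype.card F ^ 2 - 1 ∨ s ∣ Fintype.card F ^ 4 - 1 ∨ s ∣ Fintype.card F ^ 6 - 1) :
    ∃ y ∈ rootLevi chevF4 F J₃, orderOf y = s := by
  obtain ⟨-, -, -, -, h0, h0', -, -, hp, -, -⟩ := levi_facts
  have hr : (0 : ℕ) < chevF4.rank := by rw [rank_four]; norm_num
  by_cases h1 : s ∣ Fintype.card F - 1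
  · refine certFullF4.exists_order_rootLevi_split hr ?_ ?_ ?_ hs hs2 h1
    · refine certFullF4.inRootSub_iff.2 ⟨certFullF4.simple_lt hr, fun i hi hiJ => ?_⟩
      rw [certFullF4.simple_eq hr]
      exact h0 i (rank_four ▸ hi) fun e => hiJ (e ▸ (show 0 < 3 by norm_num))
    · refine certFullF4.inRootSub_iff.2
        ⟨certFullF4.neg_lt (certFullF4.simple_lt hr), fun i hi hiJ => ?_⟩
      rw [certFullF4.simple_eq hr, certFullF4.neg_eq (certFullF4.simple_eq hr ▸ certFullF4.simple_lt hr)]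
      exact h0' i (rank_four ▸ hi) fun e => hiJ (e ▸ (show 0 < 3 by norm_num))
    · rw [certFullF4.simple_eq hr]; exact hp
  obtain ⟨hc, hlen, hpoly⟩ := chain_tail
  obtain ⟨hlt, hex, hpw, hsum⟩ := certFullF4.chain_spec _ hc (by rw [hlen, rank_four]; norm_num)
  rw [hlen] at hlt hex
  refine certFullF4.exists_order_rootLevi hs hsq (fun h => h1 ?_) ?_
  · have hH := torusOrderF4 (F := F)
    rw [one_mul] at hH
    exact hs.dvd_of_dvd_pow (hH ▸ h)
  have hclose : ∀ v ∈ chainWords (chainF4.drop 1), ∀ p < chevF4.rank, p ∈ J₃ →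
      ∃ v' ∈ chainWords (chainF4.drop 1), certFullF4.Same (p :: v) v' := fun v hv p _ hp =>
    hex (p :: v) (fun x hx => (List.mem_cons.1 hx).elim (fun e => e ▸ hp) (hlt v hv x))
  rw [certFullF4.card_parabolic (J := J₃) (E := chainWords (chainF4.drop 1))
    (fun v hv p hp => ⟨by rw [rank_four]; have := hlt v hv p hp; omega, hlt v hv p hp⟩)
    (hex [] (by simp)) hclose hpw]
  refine dvd_mul_of_dvd_right ?_ _
  obtain ⟨q, hq⟩ : ∃ q, q = Fintype.card F := ⟨_, rfl⟩
  rw [← hq] at hd h1 ⊢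
  have hq1 : 1 ≤ q := hq ▸ Fintype.card_pos
  have key : ((chainWords (chainF4.drop 1)).map fun v => q ^ certFullF4.invN v).sum * (q - 1) ^ 3 =
      (q ^ 2 - 1) * ((q ^ 4 - 1) * (q ^ 6 - 1)) := by
    apply Nat.cast_injective (R := ℤ)
    have h := checkPoly_eq hpoly (q : ℤ)
    rw [← hsum] at h
    simp only [List.map_cons, List.map_nil, List.prod_cons, List.prod_nil, mul_one] at h
    push_cast [Nat.cast_sub hq1, Nat.cast_sub (Nat.one_le_pow 2 q hq1),
      Nat.cast_sub (Nat.one_le_pow 4 q hq1), Nat.cast_sub (Nat.one_le_pow 6 q hq1),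
      Nat.cast_list_sum, List.map_map, Function.comp_def]
    exact h
  have h2 : s ∣ ((chainWords (chainF4.drop 1)).map fun v => q ^ certFullF4.invN v).sum * (q - 1) ^ 3 := by
    rw [key]
    rcases hd with h | h | h
    · exact dvd_mul_of_dvd_left h _
    · exact dvd_mul_of_dvd_right (dvd_mul_of_dvd_left h _) _
    · exact dvd_mul_of_dvd_right (dvd_mul_of_dvd_right h _) _
  exact (hs.dvd_mul.1 h2).resolve_right fun h => h1 (hs.dvd_of_dvd_pow h)

/-- Elements of the orders met in the subsystem of type A₁. -/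
theorem exists_order_one [Fintype F] {s : ℕ} (hs : s.Prime) (hs2 : s ≠ 2)
    (hsq : ¬ s ∣ Fintype.card F) (hd : s ∣ Fintype.card F ^ 2 - 1) :
    ∃ y ∈ rootLevi chevF4 F J₁, orderOf y = s := by
  obtain ⟨-, -, -, -, -, -, h3, h3', -, hp, -⟩ := levi_facts
  have hr : (3 : ℕ) < chevF4.rank := by rw [rank_four]; norm_num
  have hα := certFullF4.simple_lt hr
  by_cases h1 : s ∣ Fintype.card F - 1
  · refine certFullF4.exists_order_rootLevi_split hr ?_ ?_ ?_ hs hs2 h1
    · refine certFullF4.inRootSub_iff.2 ⟨hα, fun i hi hiJ => ?_⟩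
      rw [certFullF4.simple_eq hr]
      exact h3 i (rank_four ▸ hi) hiJ
    · refine certFullF4.inRootSub_iff.2 ⟨certFullF4.neg_lt hα, fun i hi hiJ => ?_⟩
      rw [certFullF4.simple_eq hr, certFullF4.neg_eq (certFullF4.simple_eq hr ▸ hα)]
      exact h3' i (rank_four ▸ hi) hiJ
    · rw [certFullF4.simple_eq hr]; exact hp
  refine certFullF4.exists_order_rootLevi hs hsq (fun h => h1 ?_) ?_
  · have hH := torusOrderF4 (F := F)
    rw [one_mul] at hH
    exact hs.dvd_of_dvd_pow (hH ▸ h)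
  have hL3 : ∀ p ∈ [3], p < chevF4.rank := by simpa using hr
  have hneq : ¬ certFullF4.Same [] [3] := fun h => by
    have h' := h 3 hr
    rw [Cert.wl_cons, Cert.wl_nil, certFullF4.w_simple hr] at h'
    exact certFullF4.neg_ne hα h'.symm
  rw [certFullF4.card_parabolic (J := J₁) (E := [[], [3]]) ?_ ⟨[], by simp, fun _ _ => rfl⟩ ?_
    (List.pairwise_pair.2 hneq)]
  · refine dvd_mul_of_dvd_right ?_ _
    have hinv : certFullF4.invN [3] = 1 := by
      rw [certFullF4.invN_cons hr (M := []) (by simp) (certFullF4.pos_simple hr) rfl,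
        certFullF4.invN_nil]
    simp only [List.map_cons, List.map_nil, List.sum_cons, List.sum_nil, certFullF4.invN_nil, hinv,
      pow_zero, pow_one, add_zero]
    have e : Fintype.card F ^ 2 - 1 = (Fintype.card F + 1) * (Fintype.card F - 1) := by
      rw [← Nat.sq_sub_sq, one_pow]
    rw [add_comm]
    exact (hs.dvd_mul.1 (e ▸ hd)).resolve_right h1
  · simp [J₁, hr]
  · intro v hv p _ hp
    obtain rfl : p = 3 := hp
    simp only [List.mem_cons, List.not_mem_nil, or_false] at hv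
    rcases hv with rfl | rfl
    · exact ⟨[3], by simp, fun _ _ => rfl⟩
    · exact ⟨[], by simp, fun q hq => by
        rw [Cert.wl_cons, Cert.wl_cons, Cert.wl_nil,
          certFullF4.w_w hr (certFullF4.simple_lt hq)]⟩

/-- Commuting elements of the two subsystem subgroups, and of a root element and the larger one. -/
theorem commute_subsystems [CharP F 2] :
    (∀ y ∈ rootLevi chevF4 F J₃, Commute (certFullF4.xg 47 (1 : F)) y) ∧
    ∃ n ∈ chevF4.group F, ∀ x ∈ rootLevi chevF4 F J₁, ∀ y ∈ rootLevi chevF4 F J₃,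
      Commute (n * x * n⁻¹) y := by
  obtain ⟨hpair, hL, hw, hw', -, -, -, -, -, -, hone⟩ := levi_facts
  have h47 : ∀ t : F, ∀ y ∈ rootLevi chevF4 F J₃,
      Commute (certFullF4.xg 47 t) y ∧ Commute (certFullF4.xg 0 t) y := by
    intro t y hy
    induction hy using Subgroup.closure_induction with
    | mem g hg =>
      obtain ⟨r, u, hr, e⟩ := hg
      rw [certFullF4.eq_xg_iff.1 e]
      have hr' := certFullF4.inRootSub_iff.1 hr
      obtain ⟨e1, e2⟩ := hpair r (roots_48 ▸ hr'.1)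
        (hr'.2 3 (by rw [rank_four]; norm_num) (by simp [J₃]))
      exact ⟨(certFullF4.commute_of_evenPair (by rw [roots_48]; norm_num) hr'.1 e1 t u).symm,
        (certFullF4.commute_of_evenPair (by rw [roots_48]; norm_num) hr'.1 e2 t u).symm⟩
    | one => exact ⟨Commute.one_right _, Commute.one_right _⟩
    | mul a b _ _ ha hb => exact ⟨ha.1.mul_right hb.1, ha.2.mul_right hb.2⟩
    | inv a _ ha => exact ⟨ha.1.inv_right, ha.2.inv_right⟩
  refine ⟨fun y hy => (h47 1 y hy).1, certFullF4.nw F [3, 2, 1, 2, 0, 1, 2],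
    certFullF4.N_le_group (certFullF4.nw_mem_N hL), fun x hx y hy => ?_⟩
  obtain ⟨n, hn⟩ : ∃ n, n = certFullF4.nw F [3, 2, 1, 2, 0, 1, 2] := ⟨_, rfl⟩
  rw [← hn]
  induction hx using Subgroup.closure_induction with
  | mem g hg =>
    obtain ⟨r, u, hr, e⟩ := hg
    rw [certFullF4.eq_xg_iff.1 e]
    have hr' := certFullF4.inRootSub_iff.1 hr
    have hconj : ∃ t : F, n * certFullF4.xg r u * n⁻¹ =
        certFullF4.xg (certFullF4.wl [3, 2, 1, 2, 0, 1, 2] r) t := by
      refine ⟨(certFullF4.wsign [3, 2, 1, 2, 0, 1, 2] r : F) * u, ?_⟩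
      rw [certFullF4.xg_wl hL hr'.1, ← hn, ← mul_assoc, certFullF4.wsign_sq, one_mul]
    obtain ⟨t, ht⟩ := hconj
    rw [ht, ← certFullF4.wlT_eq]
    rcases hone r (roots_48 ▸ hr'.1) (fun i hi hi3 => hr'.2 i (rank_four.symm ▸ hi) hi3) with rfl | rfl
    · rw [hw]; exact (h47 t y hy).1
    · rw [hw']; exact (h47 t y hy).2
  | one => simpa using Commute.one_left y
  | mul a b _ _ ha hb =>
    rw [show n * (a * b) * n⁻¹ = n * a * n⁻¹ * (n * b * n⁻¹) by group]
    exact ha.mul_left hb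
  | inv a _ ha =>
    rw [show n * a⁻¹ * n⁻¹ = (n * a * n⁻¹)⁻¹ by group]
    exact ha.inv_left

end F4Graph

end Cfsg.Agent.Lie.Chev
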