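import Cfsg.Agent.Lib.Lie.Chev.F4WeylMatCheck
import Cfsg.Agent.Lib.Lie.Chev.SylowTorus

/-! Eigenspaces of the words of the Weyl group of type F₄ modulo primes above three, for eigenvalues
whose order is three, four or six. -/

set_option autoImplicit false
set_option maxRecDepth 4000

namespace Cfsg.Agent.Lie.Chev.F4Graph

open Cfsg.Lie Matrix

theorem rank_eq : chevF4.rank = 4 := by decide +kernel

theorem nroots_eq : chevF4.nroots = 48 := by decide +kernel

section

variable {K : Type*} [Field K] {n : ℕ}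

theorem plane_eigen (hn : n = 4) {M B : Matrix (Fin n) (Fin n) K} (hB : B.det ≠ 0)
    (hMB : M * B * Mᵀ = B) {k : K} (hk : k ≠ 0) (hk2 : k * k ≠ 1) {v₁ v₂ : Fin n → K}
    (hind : LinearIndependent K ![v₁, v₂]) (h₁ : M *ᵥ v₁ = k • v₁) (h₂ : M *ᵥ v₂ = k • v₂) :
    (M - k • 1) * (M - k⁻¹ • 1) = 0 ∧
      ∀ a : Fin n → K, a ⬝ᵥ v₁ = 0 → a ⬝ᵥ v₂ = 0 → a ᵥ* M = k⁻¹ • a := by
  classical
  have hMdet : IsUnit M.det := by
    refine isUnit_iff_ne_zero.2 fun h => hB ?_
    rw [← hMB, Matrix.det_mul, Matrix.det_mul, h, zero_mul, zero_mul]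
  -- both eigenspaces have the same dimension
  have hrank : (M - k • 1).rank = (M - k⁻¹ • 1).rank := by
    have e : (M - k • 1) * (B * Mᵀ) = B * (-k) • (1 : Matrix (Fin n) (Fin n) K) * (M - k⁻¹ • 1)ᵀ := by
      rw [Matrix.sub_mul, ← Matrix.mul_assoc, hMB, Matrix.transpose_sub, Matrix.transpose_smul,
        Matrix.transpose_one, Matrix.mul_sub, Matrix.smul_mul, Matrix.one_mul]
      simp only [Matrix.mul_smul, Matrix.smul_mul, Matrix.mul_one, smul_smul]
      rw [mul_comm k⁻¹, neg_mul, mul_inv_cancel₀ hk]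
      simp [sub_eq_add_neg, add_comm]
    have h1 : IsUnit (B * Mᵀ).det := by
      rw [Matrix.det_mul, Matrix.det_transpose]
      exact (isUnit_iff_ne_zero.2 hB).mul hMdet
    have h2 : IsUnit (B * (-k) • (1 : Matrix (Fin n) (Fin n) K)).det := by
      rw [Matrix.det_mul, Matrix.det_smul, Matrix.det_one, mul_one]
      exact isUnit_iff_ne_zero.2 (mul_ne_zero hB (pow_ne_zero _ (neg_ne_zero.2 hk)))
    rw [← Matrix.rank_mul_eq_left_of_isUnit_det _ (M - k • 1) h1, e,
      Matrix.rank_mul_eq_right_of_isUnit_det _ _ h2, Matrix.rank_transpose]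
  let f : K → (Fin n → K) →ₗ[K] (Fin n → K) := fun x => (M - x • 1).mulVecLin
  have hmem : ∀ x u, u ∈ LinearMap.ker (f x) ↔ M *ᵥ u = x • u := fun x u => by
    show (M - x • 1) *ᵥ u = 0 ↔ _
    rw [Matrix.sub_mulVec, Matrix.smul_mulVec, Matrix.one_mulVec, sub_eq_zero]
  have hdim : Module.finrank K (LinearMap.ker (f k)) = Module.finrank K (LinearMap.ker (f k⁻¹)) := by
    have h := LinearMap.finrank_range_add_finrank_ker (f k)
    have h' := LinearMap.finrank_range_add_finrank_ker (f k⁻¹)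
    change (M - k • 1).rank + _ = _ at h
    change (M - k⁻¹ • 1).rank + _ = _ at h'
    omega
  obtain ⟨S, hS⟩ : ∃ S, S = Submodule.span K (Set.range ![v₁, v₂]) := ⟨_, rfl⟩
  have hSle : S ≤ LinearMap.ker (f k) := by
    rw [hS, Submodule.span_le]
    rintro _ ⟨i, rfl⟩
    fin_cases i
    exacts [(hmem _ _).2 h₁, (hmem _ _).2 h₂]
  have hSdim : Module.finrank K S = 2 := by
    rw [hS, finrank_span_eq_card hind, Fintype.card_fin]
  have hdisj : LinearMap.ker (f k) ⊓ LinearMap.ker (f k⁻¹) = ⊥ := by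
    rw [eq_bot_iff]
    rintro u ⟨hu, hu'⟩
    have h := ((hmem _ _).1 hu).symm.trans ((hmem _ _).1 hu')
    rw [Submodule.mem_bot]
    by_contra hne
    refine hk2 ?_
    rw [← sub_eq_zero, ← sub_smul] at h
    have := sub_eq_zero.1 ((smul_eq_zero.1 h).resolve_right hne)
    nth_rw 2 [this]
    exact mul_inv_cancel₀ hk
  have hsum := Submodule.finrank_sup_add_finrank_inf_eq (LinearMap.ker (f k)) (LinearMap.ker (f k⁻¹))
  rw [hdisj, finrank_bot, add_zero] at hsum
  have hle : Module.finrank K ↥(LinearMap.ker (f k) ⊔ LinearMap.ker (f k⁻¹)) ≤ 4 := by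
    refine (Submodule.finrank_le _).trans ?_
    rw [Module.finrank_fintype_fun_eq_card, Fintype.card_fin, hn]
  have hge : 2 ≤ Module.finrank K (LinearMap.ker (f k)) := hSdim ▸ Submodule.finrank_mono hSle
  have htop : LinearMap.ker (f k) ⊔ LinearMap.ker (f k⁻¹) = ⊤ :=
    Submodule.eq_top_of_finrank_eq (by
      rw [Module.finrank_fintype_fun_eq_card, Fintype.card_fin]; omega)
  have hSeq : S = LinearMap.ker (f k) :=
    Submodule.eq_of_le_of_finrank_le hSle (by omega)
  have hdec : ∀ u : Fin n → K, ∃ a b, M *ᵥ a = k • a ∧ M *ᵥ b = k⁻¹ • b ∧ a + b = u := fun u => by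
    obtain ⟨a, ha, b, hb, e⟩ := Submodule.mem_sup.1
      (show u ∈ LinearMap.ker (f k) ⊔ LinearMap.ker (f k⁻¹) by rw [htop]; trivial)
    exact ⟨a, b, (hmem _ _).1 ha, (hmem _ _).1 hb, e⟩
  refine ⟨?_, fun a ha₁ ha₂ => ?_⟩
  · refine Matrix.ext_of_mulVec_single fun j => ?_
    obtain ⟨x, y, hx, hy, e⟩ := hdec (Pi.single j 1)
    rw [← e, Matrix.zero_mulVec, ← Matrix.mulVec_mulVec]
    simp only [Matrix.sub_mulVec, Matrix.smul_mulVec, Matrix.one_mulVec, Matrix.mulVec_add,
      Matrix.mulVec_sub, Matrix.mulVec_smul, hx, hy, smul_smul, smul_add, smul_sub]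
    rw [mul_comm k⁻¹ k]
    abel
  · have hann : ∀ x ∈ S, a ⬝ᵥ x = 0 := fun x hx => by
      rw [hS] at hx
      induction hx using Submodule.span_induction with
      | mem z hz => obtain ⟨i, rfl⟩ := hz; fin_cases i <;> assumption
      | zero => exact dotProduct_zero a
      | add z w _ _ hz hw => rw [dotProduct_add, hz, hw, add_zero]
      | smul t z _ hz => rw [dotProduct_smul, hz, smul_zero]
    refine dotProduct_eq _ _ fun u => ?_
    obtain ⟨x, y, hx, hy, e⟩ := hdec u
    have hax : a ⬝ᵥ x = 0 := hann x (hSeq ▸ (hmem _ _).2 hx)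
    rw [← Matrix.dotProduct_mulVec, ← e, Matrix.mulVec_add, hx, hy, dotProduct_add, dotProduct_add,
      dotProduct_smul, dotProduct_smul, hax, smul_dotProduct, smul_dotProduct, hax, smul_zero,
      smul_zero]

end

theorem of_intBeq' : ∀ {x y : ℤ}, intBeq x y = true → x = y
  | .ofNat a, .ofNat b, h => by rw [Nat.eq_of_beq_eq_true h]
  | .negSucc a, .negSucc b, h => by rw [Nat.eq_of_beq_eq_true h]
  | .ofNat _, .negSucc _, h => absurd h (by simp [intBeq])
  | .negSucc _, .ofNat _, h => absurd h (by simp [intBeq])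

theorem gcdAll_dvd {r : ℕ} : ∀ l : List ℤ, (∀ x ∈ l, (r : ℤ) ∣ x) → r ∣ gcdAll l
  | [], _ => dvd_zero r
  | x :: xs, h => Nat.dvd_gcd (Int.natCast_dvd.1 (h x (by simp)))
      (gcdAll_dvd xs fun y hy => h y (List.mem_cons_of_mem _ hy))

theorem smooth_false {r g : ℕ} (hr : r.Prime) (hr5 : 5 ≤ r) (h : smooth g = true) : ¬ r ∣ g := by
  intro hd
  have h1 : g ∣ 2 ^ 20 * 3 ^ 12 := Nat.dvd_of_mod_eq_zero (Nat.beq_eq.mp h)
  rcases hr.dvd_mul.1 (hd.trans h1) with h2 | h2
  · have := Nat.le_of_dvd (by norm_num) (hr.dvd_of_dvd_pow h2); omega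
  · have := Nat.le_of_dvd (by norm_num) (hr.dvd_of_dvd_pow h2); omega

/-- The matrix of a word. -/
abbrev mat (v : List ℕ) : Matrix (Fin chevF4.rank) (Fin chevF4.rank) ℤ := certFullF4.wmat v

theorem mat_apply (v : List ℕ) (i j : Fin chevF4.rank) : mat v i j = entry v i j := by
  rw [mat, CertFull.wmat, Matrix.of_apply, entry, certFullF4.wlT_eq, certFullF4.simple_eq i.2]

theorem mat_quad {v : List ℕ} (hv : ∀ p ∈ v, p < chevF4.rank) (a : ℤ) (i j : Fin chevF4.rank) :
    (mat v * mat v + a • mat v + 1) i j = quad a v i j := by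
  have h : ∀ p ∈ v ++ v, p < chevF4.rank := fun p hp => (List.mem_append.1 hp).elim (hv p) (hv p)
  rw [Matrix.add_apply, Matrix.add_apply, Matrix.smul_apply, smul_eq_mul, mat_apply]
  congr 1
  · congr 1
    rw [mat, ← certFullF4.wmat_append hv hv, CertFull.wmat, Matrix.of_apply, certFullF4.wl_append,
      ← certFullF4.wlT_eq, ← certFullF4.wlT_eq, certFullF4.simple_eq i.2]
  · rw [Matrix.one_apply]
    by_cases e : (i : ℕ) = j
    · simp [Fin.ext e]
    · rw [if_neg fun h => e (congrArg Fin.val h),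
        show Nat.beq i j = false from Bool.eq_false_iff.2 fun hh => e (Nat.beq_eq.mp hh)]
      rfl

theorem word_lt {v : List ℕ} (hv : v ∈ chainWords chainF4) : ∀ p ∈ v, p < chevF4.rank :=
  fun p hp => chainF4_len ▸
    (certFullF4.chain_spec chainF4 chainF4_ok chainF4_len.le).1 v hv p hp

/-- A word of the transversal acting as a given word. -/
theorem exists_word {W : List ℕ} (hW : ∀ p ∈ W, p < chevF4.rank) :
    ∃ v ∈ chainWords chainF4, mat v = mat W := by
  obtain ⟨v, hv, hs⟩ := (certFullF4.chain_spec chainF4 chainF4_ok chainF4_len.le).2.1 W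
    (fun p hp => chainF4_len.symm ▸ hW p hp)
  exact ⟨v, hv, Matrix.ext fun i j => by
    simp only [mat, CertFull.wmat, Matrix.of_apply, hs i i.2]⟩

/-- The matrix of the invariant form. -/
def gramMat : Matrix (Fin chevF4.rank) (Fin chevF4.rank) ℤ := Matrix.of fun i j => gram i j

theorem sum_range_four (f : ℕ → ℤ) :
    ∑ i : Fin chevF4.rank, f i = ((List.range 4).map f).sum := by
  rw [Fin.sum_univ_eq_sum_range f, rank_eq, ← List.sum_toFinset f List.nodup_range,
    List.toFinset_range]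

theorem mat_gram {v : List ℕ} (hv : v ∈ chainWords chainF4) :
    mat v * gramMat * (mat v)ᵀ = gramMat := by
  refine Matrix.ext fun i j => ?_
  have h := List.all_eq_true.1 gram_check v hv
  simp only [gramCheck, List.all_eq_true, List.mem_range] at h
  have h' := of_intBeq' (h i (rank_eq ▸ i.2) j (rank_eq ▸ j.2))
  rw [gramMat, Matrix.of_apply, ← h', ← sum_range_four, Matrix.mul_apply]
  simp only [← sum_range_four, Matrix.mul_apply, Matrix.of_apply, Matrix.transpose_apply, mat_apply,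
    Finset.sum_mul, Finset.mul_sum]
  rw [Finset.sum_comm]
  simp only [mul_assoc]

theorem det_four (M : Matrix (Fin chevF4.rank) (Fin chevF4.rank) ℤ) (f : ℕ → ℕ → ℤ)
    (h : ∀ i j : Fin chevF4.rank, M i j = f i j) : M.det = det4 f := by
  obtain ⟨M', hM'⟩ : ∃ M' : Matrix (Fin 4) (Fin 4) ℤ, M' = Matrix.of fun i j : Fin 4 => f i j := ⟨_, rfl⟩
  have e : M.det = M'.det := by
    have : M = M'.submatrix (Fin.cast rank_eq) (Fin.cast rank_eq) := by
      ext i j; rw [h, hM']; rfl
    rw [this]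
    exact Matrix.det_submatrix_equiv_self (finCongr rank_eq) M'
  rw [e, hM', Matrix.det_succ_row_zero]
  simp [Fin.sum_univ_succ, Matrix.det_fin_three, Fin.succAbove, det4]
  ring

variable {r : ℕ} [Fact r.Prime]

/-- The matrix of a word modulo `r`. -/
abbrev matMod (r : ℕ) (v : List ℕ) : Matrix (Fin chevF4.rank) (Fin chevF4.rank) (ZMod r) :=
  (mat v).map (Int.castRingHom (ZMod r))

theorem root_sq_ne_one (hr5 : 5 ≤ r) {a : ℤ} (ha : a ∈ [1, 0, -1]) {k : ZMod r}
    (hk : k * k + (a : ZMod r) * k + 1 = 0) : k ≠ 0 ∧ k * k ≠ 1 := by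
  refine ⟨fun h => by simp [h] at hk, fun h => ?_⟩
  have h1 : ((a ^ 2 - 4 : ℤ) : ZMod r) = 0 := by
    push_cast
    linear_combination ((a : ZMod r) * k - 2) * hk + (-(a : ZMod r) * k + 2 - (a : ZMod r) ^ 2) * h
  rw [ZMod.intCast_zmod_eq_zero_iff_dvd] at h1
  have h2 := Nat.le_of_dvd ?_ (Int.natCast_dvd.1 h1)
  all_goals simp only [List.mem_cons, List.not_mem_nil, or_false] at ha
  · rcases ha with rfl | rfl | rfl <;> norm_num at h2 <;> omega
  · rcases ha with rfl | rfl | rfl <;> norm_num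

theorem gram_ne (hr5 : 5 ≤ r) : (gramMat.map (Int.castRingHom (ZMod r))).det ≠ 0 := by
  rw [← RingHom.mapMatrix_apply, ← RingHom.map_det,
    det_four gramMat gram (fun i j => rfl), gram_det]
  intro h
  have h' : (((4 : ℕ) : ℤ) : ZMod r) = 0 := h
  rw [Int.cast_natCast, ZMod.natCast_eq_zero_iff] at h'
  have := Nat.le_of_dvd (by norm_num) h'
  omega

theorem quad_mod {v : List ℕ} (hv : ∀ p ∈ v, p < chevF4.rank) {a : ℤ} {k : ZMod r} (hk0 : k ≠ 0)
    (hk : k * k + (a : ZMod r) * k + 1 = 0) :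
    (matMod r v - k • 1) * (matMod r v - k⁻¹ • 1) =
      Matrix.of fun i j : Fin chevF4.rank => ((quad a v i j : ℤ) : ZMod r) := by
  have hsum : k + k⁻¹ = -(a : ZMod r) := by
    refine mul_left_cancel₀ hk0 ?_
    rw [mul_add, mul_inv_cancel₀ hk0]
    linear_combination hk
  have e : (mat v * mat v + a • mat v + 1).map (Int.castRingHom (ZMod r)) =
      matMod r v * matMod r v + (a : ZMod r) • matMod r v + 1 := by
    simp only [← RingHom.mapMatrix_apply, map_add, map_mul, map_one]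
    congr 2
    exact Matrix.ext fun i j => by
      show ((((a • mat v) i j : ℤ)) : ZMod r) = (a : ZMod r) * ((mat v i j : ℤ) : ZMod r)
      rw [Matrix.smul_apply, smul_eq_mul, Int.cast_mul]
  rw [show (Matrix.of fun i j : Fin chevF4.rank => ((quad a v i j : ℤ) : ZMod r)) =
    (mat v * mat v + a • mat v + 1).map (Int.castRingHom (ZMod r)) from
    Matrix.ext fun i j => by rw [Matrix.of_apply, Matrix.map_apply, mat_quad hv]; rfl, e]
  simp only [Matrix.sub_mul, Matrix.mul_sub, Matrix.smul_mul, Matrix.mul_smul, Matrix.one_mul,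
    Matrix.mul_one, smul_smul, mul_inv_cancel₀ hk0, one_smul]
  rw [show (a : ZMod r) = -(k + k⁻¹) from by rw [hsum, neg_neg], neg_smul, add_smul, smul_sub,
    smul_smul, inv_mul_cancel₀ hk0, one_smul]
  abel

/-- What a two-dimensional eigenspace for an eigenvalue of order three, four or six forces. -/
theorem plane_facts (hr5 : 5 ≤ r) {a : ℤ} (ha : a ∈ [1, 0, -1]) {v : List ℕ}
    (hv : v ∈ chainWords chainF4) {k : ZMod r} (hk : k * k + (a : ZMod r) * k + 1 = 0)
    {v₁ v₂ : Fin chevF4.rank → ZMod r} (hind : LinearIndependent (ZMod r) ![v₁, v₂])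
    (h₁ : matMod r v *ᵥ v₁ = k • v₁) (h₂ : matMod r v *ᵥ v₂ = k • v₂) :
    ((mat v * mat v + a • mat v + 1 = 0) ∧ (mat v).trace = -2 * a) ∧
      ∀ s < 48, ¬ ((∑ j : Fin chevF4.rank, (certFullF4.T.vec s j : ZMod r) * v₁ j) = 0 ∧
        (∑ j : Fin chevF4.rank, (certFullF4.T.vec s j : ZMod r) * v₂ j) = 0) := by
  have hvl := word_lt hv
  have hrp : r.Prime := Fact.out
  obtain ⟨hk0, hk2⟩ := root_sq_ne_one hr5 ha hk
  have hMB : matMod r v * gramMat.map (Int.castRingHom (ZMod r)) * (matMod r v)ᵀ =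
      gramMat.map (Int.castRingHom (ZMod r)) := by
    rw [matMod, ← Matrix.transpose_map, ← Matrix.map_mul, ← Matrix.map_mul, mat_gram hv]
  obtain ⟨hP, hA⟩ := @plane_eigen (ZMod r) _ chevF4.rank rank_eq (matMod r v)
    (gramMat.map (Int.castRingHom (ZMod r))) (gram_ne hr5) hMB k hk0 hk2 v₁ v₂ hind h₁ h₂
  rw [quad_mod hvl hk0 hk] at hP
  have hchk : planeCheck a v = true := by
    have h := List.all_eq_true.1 plane_check v hv
    simp only [Bool.and_eq_true] at h
    simp only [List.mem_cons, List.not_mem_nil, or_false] at ha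
    rcases ha with rfl | rfl | rfl
    exacts [h.1.1, h.1.2, h.2]
  simp only [planeCheck, Bool.or_eq_true, Bool.and_eq_true, List.all_eq_true, List.mem_range] at hchk
  rcases hchk with hbad | ⟨⟨hz, htr⟩, hroot⟩
  · refine absurd (gcdAll_dvd _ fun x hx => ?_) (smooth_false hrp hr5 hbad)
    simp only [List.mem_flatMap, List.mem_map, List.mem_range] at hx
    obtain ⟨i, hi, j, hj, rfl⟩ := hx
    rw [← ZMod.intCast_zmod_eq_zero_iff_dvd]
    exact congrFun (congrFun hP ⟨i, rank_eq.symm ▸ hi⟩) ⟨j, rank_eq.symm ▸ hj⟩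
  refine ⟨⟨Matrix.ext fun i j => ?_, ?_⟩, fun s hs ⟨hs₁, hs₂⟩ => ?_⟩
  · rw [mat_quad hvl, Matrix.zero_apply]
    exact of_intBeq' (hz _ (List.mem_flatMap.2 ⟨i, List.mem_range.2 (rank_eq ▸ i.2),
      List.mem_map.2 ⟨j, List.mem_range.2 (rank_eq ▸ j.2), rfl⟩⟩))
  · rw [← of_intBeq' htr, ← sum_range_four, Matrix.trace]
    exact Finset.sum_congr rfl fun i _ => mat_apply v i i
  · obtain ⟨t, ht⟩ : ∃ t, t = certFullF4.T.wlT v s := ⟨_, rfl⟩
    have hvt : ∀ j : Fin chevF4.rank,
        ((certFullF4.T.vec t j : ℤ) : ZMod r) = k⁻¹ * (certFullF4.T.vec s j : ZMod r) := by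
      intro j
      have e := congrFun (hA (fun j => (certFullF4.T.vec s j : ZMod r)) hs₁ hs₂) j
      rw [Pi.smul_apply, smul_eq_mul] at e
      rw [← e, ht, certFullF4.wlT_eq, certFullF4.wl_vec hvl (nroots_eq.symm ▸ hs) j.2,
        Finset.sum_range]
      simp [Matrix.vecMul, dotProduct, matMod, mat, CertFull.wmat]
    refine absurd ?_ (smooth_false hrp hr5 (hroot s hs))
    refine gcdAll_dvd _ fun x hx => ?_
    simp only [List.mem_flatMap, List.mem_map, List.mem_range] at hx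
    obtain ⟨i, hi, j, hj, rfl⟩ := hx
    rw [← ZMod.intCast_zmod_eq_zero_iff_dvd, ← ht, Int.cast_sub, Int.cast_mul, Int.cast_mul]
    rw [show ((certFullF4.T.vec t i : ℤ) : ZMod r) = _ from hvt ⟨i, rank_eq.symm ▸ hi⟩,
      show ((certFullF4.T.vec t j : ℤ) : ZMod r) = _ from hvt ⟨j, rank_eq.symm ▸ hj⟩]
    ring

/-- An eigenvector for every eigenvalue of the same order. -/
theorem exists_eigen_mod (hr5 : 5 ≤ r) {a : ℤ} (ha : a ∈ [1, 0, -1]) {v : List ℕ}
    (hv : ∀ p ∈ v, p < chevF4.rank) (hP : mat v * mat v + a • mat v + 1 = 0)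
    (htr : (mat v).trace = -2 * a) {k : ZMod r} (hk : k * k + (a : ZMod r) * k + 1 = 0) :
    ∃ u : Fin chevF4.rank → ZMod r, u ≠ 0 ∧ matMod r v *ᵥ u = k • u := by
  obtain ⟨hk0, hk2⟩ := root_sq_ne_one hr5 ha hk
  have hdet : (matMod r v - k • 1).det = 0 := by
    by_contra hd
    have h := quad_mod hv hk0 hk
    rw [show (Matrix.of fun i j : Fin chevF4.rank => ((quad a v i j : ℤ) : ZMod r)) = 0 from
      Matrix.ext fun i j => by
        rw [Matrix.of_apply, ← mat_quad hv, hP, Matrix.zero_apply, Int.cast_zero,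
          Matrix.zero_apply]] at h
    have h' : matMod r v - k⁻¹ • 1 = 0 := by
      have := congrArg ((matMod r v - k • 1)⁻¹ * ·) h
      simpa [← Matrix.mul_assoc, Matrix.nonsing_inv_mul _ (isUnit_iff_ne_zero.2 hd)] using this
    have ht := congrArg Matrix.trace (sub_eq_zero.1 h')
    rw [Matrix.trace_smul, Matrix.trace_one, Fintype.card_fin, smul_eq_mul,
      show ((chevF4.rank : ℕ) : ZMod r) = 4 by simp [rank_eq]] at ht
    have ht' : (matMod r v).trace = ((mat v).trace : ZMod r) := by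
      simp [Matrix.trace, matMod]
    rw [ht', htr] at ht
    push_cast at ht
    refine hk2 ?_
    have e : k * k⁻¹ = 1 := mul_inv_cancel₀ hk0
    have h2 : (2 : ZMod r) ≠ 0 := fun h => by
      have h' : ((2 : ℕ) : ZMod r) = 0 := h
      rw [ZMod.natCast_eq_zero_iff] at h'
      have := Nat.le_of_dvd (by norm_num) h'
      omega
    refine mul_left_cancel₀ h2 ?_
    linear_combination 2 * hk + k * ht + 4 * e
  obtain ⟨u, hu, hu'⟩ := Matrix.exists_mulVec_eq_zero_iff.2 hdet
  exact ⟨u, hu, by rwa [Matrix.sub_mulVec, Matrix.smul_mulVec, Matrix.one_mulVec, sub_eq_zero] at hu'⟩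

/-- Eigenvalues of two different orders among three, four and six do not occur together. -/
theorem no_pair {s : ℕ} [Fact s.Prime] (hr5 : 5 ≤ r) (hs5 : 5 ≤ s) {a b : ℤ}
    (hab : (a, b) ∈ [((1 : ℤ), (0 : ℤ)), (1, -1), (0, -1)]) {v : List ℕ}
    (hv : v ∈ chainWords chainF4) {k : ZMod r} (hk : k * k + (a : ZMod r) * k + 1 = 0)
    {u : Fin chevF4.rank → ZMod r} (hu : u ≠ 0) (hMu : matMod r v *ᵥ u = k • u) {k' : ZMod s}
    (hk' : k' * k' + (b : ZMod s) * k' + 1 = 0) {w : Fin chevF4.rank → ZMod s} (hw : w ≠ 0)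
    (hMw : matMod s v *ᵥ w = k' • w) : False := by
  have hvl := word_lt hv
  have key : ∀ (t : ℕ) [Fact t.Prime], 5 ≤ t → ∀ (a : ℤ) (k : ZMod t),
      k * k + (a : ZMod t) * k + 1 = 0 → ∀ u : Fin chevF4.rank → ZMod t, u ≠ 0 →
      matMod t v *ᵥ u = k • u → smooth (det4 (quad a v)).natAbs = false := by
    intro t _ ht5 a k hk u hu hMu
    refine Bool.eq_false_iff.2 fun h => smooth_false (Fact.out : t.Prime) ht5 h ?_
    rw [← det_four _ (quad a v) (mat_quad hvl a), ← Int.natCast_dvd,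
      ← ZMod.intCast_zmod_eq_zero_iff_dvd,
      show (((mat v * mat v + a • mat v + 1).det : ℤ) : ZMod t) =
        Int.castRingHom (ZMod t) (mat v * mat v + a • mat v + 1).det from rfl,
      RingHom.map_det]
    refine Matrix.exists_mulVec_eq_zero_iff.1 ⟨u, hu, ?_⟩
    have e : (Int.castRingHom (ZMod t)).mapMatrix (mat v * mat v + a • mat v + 1) =
        matMod t v * matMod t v + (a : ZMod t) • matMod t v + 1 := by
      rw [map_add, map_add, map_mul, map_one]
      congr 2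
      exact Matrix.ext fun i j => by
        show ((((a • mat v) i j : ℤ)) : ZMod t) = (a : ZMod t) * ((mat v i j : ℤ) : ZMod t)
        rw [Matrix.smul_apply, smul_eq_mul, Int.cast_mul]
    rw [e, Matrix.add_mulVec, Matrix.add_mulVec, ← Matrix.mulVec_mulVec, Matrix.smul_mulVec, hMu,
      Matrix.mulVec_smul, hMu, Matrix.one_mulVec, smul_smul, smul_smul, ← add_smul]
    conv_lhs => arg 2; rw [← one_smul (ZMod t) u]
    rw [← add_smul, hk, zero_smul]
  have h1 := key r hr5 a k hk u hu hMu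
  have h2 := key s hs5 b k' hk' w hw hMw
  have h := List.all_eq_true.1 pair_check v hv
  simp only [Bool.and_eq_true, pairCheck] at h
  simp only [List.mem_cons, Prod.mk.injEq, List.not_mem_nil, or_false] at hab
  rcases hab with ⟨rfl, rfl⟩ | ⟨rfl, rfl⟩ | ⟨rfl, rfl⟩
  · exact absurd h.1.1 (by simp [h1, h2])
  · exact absurd h.1.2 (by simp [h1, h2])
  · exact absurd h.2 (by simp [h1, h2])

end Cfsg.Agent.Lie.Chev.F4Graph
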