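import Cfsg.Agent.Lib.Lie.Chev.SylowTorus
import Cfsg.Agent.Lib.Lie.Chev.CycToriInst

/-! Homocyclic Sylow subgroups of the tabulated Chevalley groups. -/

set_option autoImplicit false

namespace Cfsg.Agent.Lie.Chev.SylowTorus

open Cfsg.Lie Polynomial

theorem homocyclic {F : Type*} [Field F] [Fintype F] {D : ChevalleyDatum} (c : CertFull D)
    {q : ℕ} (hF : Fintype.card F = q) {r : ℕ} [Fact r.Prime] (hrq : ¬ r ∣ q)
    {Ls : List (List Rep)} {ds : List ℕ} (hc : c.T.checkLevels Ls = true)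
    (hlen : Ls.length = D.rank) (hpoly : checkPoly D.rank Ls ds = true)
    (hprod : (Ls.map List.length).prod = ds.prod) (h2 : 2 ∣ ds.prod) (hrW : ¬ r ∣ ds.prod)
    {gF : ℕ} (hgF : gF * Nat.card (D.diagonalSubgroup F) = (Fintype.card F - 1) ^ D.rank)
    (hrgF : ¬ r ∣ gF)
    (hgL : ∀ (K : Type) [Field K] [Fintype K], ∃ g : ℕ, ¬ r ∣ g ∧
      g * Nat.card (D.diagonalSubgroup K) = (Fintype.card K - 1) ^ D.rank)
    (hrG : r ∣ Nat.card ↥(D.group F)) (P : Sylow r ↥(D.group F)) :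
    Nonempty (↥(P : Subgroup ↥(D.group F)) ≃*
      (Fin (ds.filter (fun e => orderOf (q : ZMod r) ∣ e)).length →
        Multiplicative (ZMod (r ^ padicValNat r
          ((cyclotomic (orderOf (q : ZMod r)) ℤ).eval (q : ℤ)).natAbs)))) := by
  obtain ⟨p, hp⟩ := CharP.exists F
  obtain ⟨k, hpp, hk⟩ := FiniteField.card F p
  haveI : Fact p.Prime := ⟨hpp⟩
  have hq0 : (q : ZMod r) ≠ 0 := fun h => hrq ((ZMod.natCast_eq_zero_iff _ _).1 h)
  haveI : NeZero (orderOf (q : ZMod r)) := ⟨fun h => by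
    have h1 := ZMod.orderOf_dvd_card_sub_one hq0
    rw [h, zero_dvd_iff] at h1
    have := (Fact.out : r.Prime).two_le
    omega⟩
  letI : Fintype (FiniteField.Extension F p (orderOf (q : ZMod r))) := Fintype.ofFinite _
  haveI : CharP (FiniteField.Extension F p (orderOf (q : ZMod r))) p :=
    charP_of_injective_ringHom
      (algebraMap F (FiniteField.Extension F p (orderOf (q : ZMod r)))).injective p
  obtain ⟨gL, hrgL, hgL⟩ := hgL (FiniteField.Extension F p (orderOf (q : ZMod r)))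
  refine c.sylow_homocyclic_of_ext (algebraMap F (FiniteField.Extension F p (orderOf (q : ZMod r))))
    hF (iterateFrobenius (FiniteField.Extension F p (orderOf (q : ZMod r))) p k)
    (fun t => by rw [iterateFrobenius_def, ← hk, hF]) hrq ?_ hc hlen hpoly
    (fun e he => ⟨Nat.pos_of_ne_zero fun h => hrW ?_, fun h => hrW (h.trans (List.dvd_prod he))⟩)
    (fun h => hrW (h ▸ h2)) (by rwa [CycToriInst.length_chainWords, hprod]) hgF hgL hrgF hrgL hrG P
  · rw [← Nat.card_eq_fintype_card, FiniteField.natCard_extension, Nat.card_eq_fintype_card, hF]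
  · rw [List.prod_eq_zero (h ▸ he)]
    exact dvd_zero r

theorem prod_values :
    (chainG2.map List.length).prod = [2, 6].prod ∧
    (chainB2.map List.length).prod = [2, 4].prod ∧
    (chainD4.map List.length).prod = [2, 4, 4, 6].prod ∧
    (chainF4.map List.length).prod = [2, 6, 8, 12].prod ∧
    (chainE6.map List.length).prod = [2, 5, 6, 8, 9, 12].prod ∧
    (chainE7.map List.length).prod = [2, 6, 8, 10, 12, 14, 18].prod ∧
    (chainE8.map List.length).prod = [2, 8, 12, 14, 18, 20, 24, 30].prod := by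
  decide +kernel

theorem homocyclic_tabulated {F : Type*} [Field F] [Fintype F] {q : ℕ} (hF : Fintype.card F = q)
    (c : ChevalleyDatum × List ℕ)
    (hc : c ∈ [(chevG2, [2, 6]), (chevB2, [2, 4]), (chevD4, [2, 4, 4, 6]), (chevF4, [2, 6, 8, 12]),
      (chevE6, [2, 5, 6, 8, 9, 12]), (chevE7, [2, 6, 8, 10, 12, 14, 18]),
      (chevE8, [2, 8, 12, 14, 18, 20, 24, 30])])
    (r : ℕ) [Fact r.Prime] (hrq : ¬ r ∣ q) (hrW : ¬ r ∣ c.2.prod)
    (hrG : r ∣ Nat.card ↥(c.1.group F)) (P : Sylow r ↥(c.1.group F)) :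
    Nonempty (↥(P : Subgroup ↥(c.1.group F)) ≃*
      (Fin (c.2.filter (fun e => orderOf (q : ZMod r) ∣ e)).length →
        Multiplicative (ZMod (r ^ padicValNat r
          ((cyclotomic (orderOf (q : ZMod r)) ℤ).eval (q : ℤ)).natAbs)))) := by
  obtain ⟨pG, pB, pD, pF, p6, p7, p8⟩ := prod_values
  have hr : r.Prime := Fact.out
  have g1 : ¬ r ∣ 1 := hr.not_dvd_one
  have g2 : 2 ∣ c.2.prod → ∀ n, ¬ r ∣ Nat.gcd 2 n := fun h n hd =>
    hrW ((hd.trans (Nat.gcd_dvd_left 2 n)).trans h)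
  have g3 : 3 ∣ c.2.prod → ∀ n, ¬ r ∣ Nat.gcd 3 n := fun h n hd =>
    hrW ((hd.trans (Nat.gcd_dvd_left 3 n)).trans h)
  simp only [List.mem_cons, List.not_mem_nil, or_false] at hc
  rcases hc with rfl | rfl | rfl | rfl | rfl | rfl | rfl
  · exact homocyclic certFullG2 hF hrq chainG2_ok chainG2_len chainG2_poly pG (by decide) hrW
      (torusOrderG2 F) g1 (fun K _ _ => ⟨_, g1, torusOrderG2 K⟩) hrG P
  · exact homocyclic certFullB2 hF hrq chainB2_ok chainB2_len chainB2_poly pB (by decide) hrW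
      (torusOrderB2 F) (g2 (by decide) _) (fun K _ _ => ⟨_, g2 (by decide) _, torusOrderB2 K⟩) hrG P
  · exact homocyclic certFullD4 hF hrq chainD4_ok chainD4_len chainD4_poly pD (by decide) hrW
      (torusOrderD4 F) (fun h => g2 (by decide) _ (hr.dvd_of_dvd_pow h))
      (fun K _ _ => ⟨_, fun h => g2 (by decide) _ (hr.dvd_of_dvd_pow h), torusOrderD4 K⟩) hrG P
  · exact homocyclic certFullF4 hF hrq chainF4_ok chainF4_len chainF4_poly pF (by decide) hrW
      (torusOrderF4 F) g1 (fun K _ _ => ⟨_, g1, torusOrderF4 K⟩) hrG P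
  · exact homocyclic certFullE6 hF hrq chainE6_ok chainE6_len chainE6_poly p6 (by decide) hrW
      (torusOrderE6 F) (g3 (by decide) _) (fun K _ _ => ⟨_, g3 (by decide) _, torusOrderE6 K⟩) hrG P
  · exact homocyclic certFullE7 hF hrq chainE7_ok chainE7_len chainE7_poly p7 (by decide) hrW
      (torusOrderE7 F) (g2 (by decide) _) (fun K _ _ => ⟨_, g2 (by decide) _, torusOrderE7 K⟩) hrG P
  · exact homocyclic certFullE8 hF hrq chainE8_ok chainE8_len chainE8_poly p8 (by decide) hrW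
      (torusOrderE8 F) g1 (fun K _ _ => ⟨_, g1, torusOrderE8 K⟩) hrG P

end Cfsg.Agent.Lie.Chev.SylowTorus
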