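import Cfsg.Agent.Lib.Lie.CycStab
import Cfsg.Agent.Lib.Lie.Chev.StTorus
import Mathlib.RingTheory.Polynomial.Cyclotomic.Expand

/-! Common facts for the tori of order `Φ₁₂(q)·…` in E₆ and E₇. -/

set_option autoImplicit false

namespace Cfsg.Agent.Lie.Chev.TwelveTori

open Matrix Polynomial

theorem cyclotomic_six : cyclotomic 6 ℤ = X ^ 2 - X + 1 := by
  have h := cyclotomic_expand_eq_cyclotomic_mul (R := ℤ) (p := 2) (n := 3) Nat.prime_two
    (by norm_num)
  rw [cyclotomic_three, map_add, map_add, map_pow, expand_X, map_one] at h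
  refine mul_right_cancel₀ (b := cyclotomic 3 ℤ) (cyclotomic_ne_zero 3 ℤ) ?_
  rw [cyclotomic_three]
  linear_combination (-1 : ℤ[X]) * h

theorem cyclotomic_twelve : cyclotomic 12 ℤ = X ^ 4 - X ^ 2 + 1 := by
  have h := cyclotomic_expand_eq_cyclotomic (R := ℤ) (p := 2) (n := 6) Nat.prime_two (by norm_num)
  rw [cyclotomic_six, map_add, map_sub, map_pow, expand_X, map_one] at h
  rw [show (6 : ℕ) * 2 = 12 from rfl] at h
  rw [← h]
  ring

theorem eval_twelve (x : ℤ) : (cyclotomic 12 ℤ).eval x = x ^ 4 - x ^ 2 + 1 := by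
  rw [cyclotomic_twelve]; simp

theorem eval_six (x : ℤ) : (cyclotomic 6 ℤ).eval x = x ^ 2 - x + 1 := by
  rw [cyclotomic_six]; simp

theorem eval_three (x : ℤ) : (cyclotomic 3 ℤ).eval x = x ^ 2 + x + 1 := by
  rw [cyclotomic_three]; simp

theorem eval_two (x : ℤ) : (cyclotomic 2 ℤ).eval x = x + 1 := by
  rw [cyclotomic_two]; simp

theorem orderOf_eq {n r : ℕ} [Fact r.Prime] (hrn : ¬ r ∣ n) {x : ℤ}
    (h : (r : ℤ) ∣ (cyclotomic n ℤ).eval x) : orderOf (x : ZMod r) = n := by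
  haveI : NeZero (n : ZMod r) := ⟨fun h => hrn ((ZMod.natCast_eq_zero_iff _ _).1 h)⟩
  have hprim : IsPrimitiveRoot (x : ZMod r) n := by
    rw [← isRoot_cyclotomic_iff, IsRoot.def, ← map_cyclotomic n (Int.castRingHom (ZMod r)),
      show (x : ZMod r) = Int.castRingHom (ZMod r) x from rfl, eval_map_apply]
    exact (ZMod.intCast_zmod_eq_zero_iff_dvd _ r).2 h
  exact hprim.eq_orderOf.symm

/-- A prime dividing a product of distinct cyclotomic values to second order can be avoided. -/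
theorem exists_shift {ns : List ℕ} (hnd : ns.Nodup) {s : ℕ} [Fact s.Prime]
    (hsn : ∀ n ∈ ns, ¬ s ∣ n) {q : ℤ}
    (hq : (s : ℤ) ∣ (ns.map fun n => (cyclotomic n ℤ).eval q).prod) :
    ∃ j : ℤ, ¬ (s : ℤ) ^ 2 ∣ (ns.map fun n => (cyclotomic n ℤ).eval (q + s * j)).prod := by
  have hsp : Prime (s : ℤ) := Nat.prime_iff_prime_int.1 (Fact.out : s.Prime)
  obtain ⟨v, hv, hdv⟩ := hsp.dvd_prod_iff.1 hq
  obtain ⟨n, hn, rfl⟩ := List.mem_map.1 hv
  obtain ⟨j, hj⟩ := CycMatrix.exists_sq_not_dvd (hsn n hn) hdv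
  refine ⟨j, fun h => ?_⟩
  obtain ⟨l₁, l₂, rfl⟩ := List.mem_iff_append.1 hn
  have hne : ∀ m ∈ l₁ ++ l₂, ¬ (s : ℤ) ∣ (cyclotomic m ℤ).eval (q + s * j) := by
    intro m hm hd
    have hmn : m ≠ n := by
      rintro rfl
      exact (List.nodup_middle.1 hnd).notMem hm
    have hcast : ((q + s * j : ℤ) : ZMod s) = (q : ZMod s) := by simp
    refine hmn ?_
    rw [← orderOf_eq (hsn n hn) hdv, ← orderOf_eq (hsn m (List.mem_append.2
      ((List.mem_append.1 hm).imp id fun h => List.mem_cons_of_mem _ h))) hd, hcast]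
  have key : ∀ l : List ℕ, (∀ m ∈ l, ¬ (s : ℤ) ∣ (cyclotomic m ℤ).eval (q + s * j)) →
      IsCoprime ((s : ℤ) ^ 2) (l.map fun m => (cyclotomic m ℤ).eval (q + s * j)).prod := by
    intro l hl
    refine IsCoprime.pow_left ?_
    rw [hsp.coprime_iff_not_dvd]
    intro hd
    obtain ⟨v, hv, hdv⟩ := hsp.dvd_prod_iff.1 hd
    obtain ⟨m, hm, rfl⟩ := List.mem_map.1 hv
    exact hl m hm hdv
  rw [List.map_append, List.prod_append, List.map_cons, List.prod_cons] at h
  refine hj ?_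
  have h1 := (key l₁ fun m hm => hne m (List.mem_append_left _ hm)).dvd_of_dvd_mul_left h
  exact (key l₂ fun m hm => hne m (List.mem_append_right _ hm)).dvd_of_dvd_mul_right h1

theorem det_smul_sub_block {a b : ℕ} {A : Matrix (Fin a) (Fin a) ℤ} {B : Matrix (Fin b) (Fin b) ℤ}
    {M : Matrix (Fin (a + b)) (Fin (a + b)) ℤ}
    (hM : M = Matrix.reindex finSumFinEquiv finSumFinEquiv (Matrix.fromBlocks A 0 0 B)) (j : ℤ) :
    (j • (1 : Matrix (Fin (a + b)) (Fin (a + b)) ℤ) - M).det =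
      (j • (1 : Matrix (Fin a) (Fin a) ℤ) - A).det *
        (j • (1 : Matrix (Fin b) (Fin b) ℤ) - B).det := by
  have e : j • (1 : Matrix (Fin (a + b)) (Fin (a + b)) ℤ) - M =
      Matrix.reindex finSumFinEquiv finSumFinEquiv
        (Matrix.fromBlocks (j • 1 - A) 0 0 (j • 1 - B)) := by
    rw [hM]
    have h1 : Matrix.fromBlocks (j • (1 : Matrix (Fin a) (Fin a) ℤ) - A) 0 0
        (j • (1 : Matrix (Fin b) (Fin b) ℤ) - B) =
        j • (1 : Matrix (Fin a ⊕ Fin b) (Fin a ⊕ Fin b) ℤ) - Matrix.fromBlocks A 0 0 B := by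
      rw [← Matrix.fromBlocks_one, Matrix.fromBlocks_smul]
      ext (i | i) (k | k) <;> simp
    rw [h1]
    ext i k
    simp only [Matrix.reindex_apply, Matrix.submatrix_apply, Matrix.sub_apply, Matrix.smul_apply,
      Matrix.one_apply, EmbeddingLike.apply_eq_iff_eq]
  rw [e, Matrix.det_reindex_self, Matrix.det_fromBlocks_zero₂₁]

/-- Similar matrices have the same characteristic values. -/
theorem det_smul_sub_similar {l : ℕ} {A B T T' : Matrix (Fin l) (Fin l) ℤ} {k : ℤ} (hk : k ≠ 0)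
    (hT : T * T' = k • 1) (h : T * A = B * T) (j : ℤ) :
    (j • (1 : Matrix (Fin l) (Fin l) ℤ) - A).det =
      (j • (1 : Matrix (Fin l) (Fin l) ℤ) - B).det := by
  have hdet : T.det ≠ 0 := fun h0 => by
    have := congrArg Matrix.det hT
    rw [Matrix.det_mul, h0, zero_mul, Matrix.det_smul, Matrix.det_one, mul_one] at this
    exact pow_ne_zero _ hk this.symm
  refine mul_left_cancel₀ hdet ?_
  rw [← Matrix.det_mul, mul_comm T.det, ← Matrix.det_mul]
  congr 1
  rw [Matrix.mul_sub, Matrix.sub_mul, h, Matrix.mul_smul, Matrix.smul_mul, Matrix.mul_one,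
    Matrix.one_mul]

theorem det_companion_twelve (j : ℤ) :
    (j • (1 : Matrix (Fin 4) (Fin 4) ℤ) -
      !![0, 1, 0, 0; 0, 0, 1, 0; 0, 0, 0, 1; -1, 0, 1, 0]).det = j ^ 4 - j ^ 2 + 1 := by
  rw [show j • (1 : Matrix (Fin 4) (Fin 4) ℤ) - !![0, 1, 0, 0; 0, 0, 1, 0; 0, 0, 0, 1; -1, 0, 1, 0]
      = !![j, -1, 0, 0; 0, j, -1, 0; 0, 0, j, -1; 1, 0, -1, j] by
    ext a b
    simp only [Matrix.sub_apply, Matrix.smul_apply, Matrix.one_apply]
    fin_cases a <;> fin_cases b <;> simp]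
  simp [Matrix.det_succ_row_zero, Fin.sum_univ_succ, Fin.succAbove]
  ring

/-- The part of the kernel inside the centre. -/
theorem card_center_part {G : Type*} [CommGroup G] [Finite G] {l p q : ℕ} [Fact p.Prime]
    (hq : 1 ≤ q) (hG : ∀ n, n ∣ q - 1 → n ∣ Nat.card G) [IsCyclic G]
    {A C C' X : Matrix (Fin l) (Fin l) ℤ}
    (hAC : A - 1 = C * X) (hC : C * C' = (p : ℤ) • 1) {v : Fin l → ℤ}
    (hv : ∀ i, (p : ℤ) ∣ (v ᵥ* C) i) {i₀ : Fin l} (hv0 : v i₀ = 1)
    (hK : IsCyclic (mpow (G := G) ((q : ℤ) • (1 : Matrix (Fin l) (Fin l) ℤ) - A)).ker) :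
    Nat.card {z : Fin l → G // mpow A z = z ^ q ∧ mpow C z = 1} = Nat.gcd p (q - 1) := by
  classical
  have hfacts : ∀ z : Fin l → G, mpow C z = 1 → mpow A z = z ∧ z ^ p = 1 := by
    intro z hz
    constructor
    · have h1 : mpow (A - 1) z = 1 := by rw [hAC, mpow_mul, hz, map_one]
      rw [CertFull.mpow_sub, mpow_one, div_eq_one] at h1
      exact h1
    · rw [← CertFull.mpow_smul_one, ← hC, mpow_mul, hz, map_one]
  rcases Nat.Prime.eq_one_or_self_of_dvd (Fact.out : p.Prime) _ (Nat.gcd_dvd_left p (q - 1))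
    with hg | hg
  · rw [hg, Nat.card_eq_one_iff_unique]
    refine ⟨⟨fun a b => Subtype.ext ?_⟩, ⟨⟨1, by simp, map_one _⟩⟩⟩
    have hone : ∀ a : {z : Fin l → G // mpow A z = z ^ q ∧ mpow C z = 1}, a.1 = 1 := by
      rintro ⟨z, hzq, hzC⟩
      obtain ⟨hA, hp⟩ := hfacts z hzC
      rw [hA] at hzq
      have h1 : z ^ (q - 1) = 1 := mul_eq_right.1 (show z ^ (q - 1) * z = z by
        rw [← pow_succ, show q - 1 + 1 = q by omega, ← hzq])
      have h2 := pow_gcd_eq_one (a := z) (m := p) (n := q - 1) |>.2 ⟨hp, h1⟩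
      rwa [hg, pow_one] at h2
    rw [hone a, hone b]
  · rw [hg]
    refine le_antisymm ?_ ?_
    · haveI := hK
      letI : Fintype ↥(mpow (G := G) ((q : ℤ) • (1 : Matrix (Fin l) (Fin l) ℤ) - A)).ker :=
        Fintype.ofFinite _
      refine le_trans ?_ (IsCyclic.card_pow_eq_one_le
        (α := ↥(mpow (G := G) ((q : ℤ) • (1 : Matrix (Fin l) (Fin l) ℤ) - A)).ker)
        (Fact.out : p.Prime).pos)
      rw [← Fintype.card_subtype, ← Nat.card_eq_fintype_card]
      refine Nat.card_le_card_of_injective (fun z => ⟨⟨z.1, ?_⟩, Subtype.ext ?_⟩) ?_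
      · rw [MonoidHom.mem_ker, CertFull.mpow_sub, CertFull.mpow_smul_one, z.2.1, div_self']
      · exact (hfacts _ z.2.2).2
      · intro a b h
        exact Subtype.ext (congrArg (fun x => (x.1.1 : Fin l → G)) h)
    · obtain ⟨ω, hω⟩ : ∃ ω : G, orderOf ω = p :=
        exists_prime_orderOf_dvd_card' p (hG p (hg ▸ Nat.gcd_dvd_right p (q - 1)))
      obtain ⟨z, hz⟩ : ∃ z : Fin l → G, z = fun i => ω ^ v i := ⟨_, rfl⟩
      have hzC : mpow C z = 1 := by
        rw [hz, CycMatrix.mpow_zpow]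
        funext i
        rw [Pi.one_apply, ← orderOf_dvd_iff_zpow_eq_one, hω]
        exact hv i
      have hzp : z ^ p = 1 := (hfacts z hzC).2
      have hzA : mpow A z = z ^ q := by
        rw [(hfacts z hzC).1]
        obtain ⟨m, hm⟩ := hg ▸ Nat.gcd_dvd_right p (q - 1)
        conv_rhs => rw [show q = p * m + 1 by omega, pow_succ, pow_mul, hzp, one_pow, one_mul]
      refine le_trans (le_of_eq (Nat.card_fin p).symm)
        (Nat.card_le_card_of_injective (fun k => ⟨z ^ (k : ℕ), ?_, ?_⟩) ?_)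
      · rw [map_pow, hzA, ← pow_mul, ← pow_mul, mul_comm]
      · rw [map_pow, hzC, one_pow]
      · intro a b h
        have h1 := congrFun (congrArg Subtype.val h) i₀
        simp only [Pi.pow_apply, hz, hv0, zpow_one] at h1
        exact Fin.ext (pow_injOn_Iio_orderOf (by simp [hω]) (by simp [hω]) h1)

end Cfsg.Agent.Lie.Chev.TwelveTori
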