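import Cfsg.Agent.Lib.Lie.Chev.TorusConj
import Cfsg.Agent.Lib.Lie.Chev.F4WeylMat
import Cfsg.Agent.Lib.Lie.Chev.F4Levi
import Cfsg.Agent.Lib.Lie.Chev.SylowTorusInst
import Cfsg.Agent.Lib.Lie.Chev.TwelveTori

/-! The products of two primes that are element orders in the groups of type F₄ over fields of
characteristic two. -/

set_option autoImplicit false
set_option maxRecDepth 4000

namespace Cfsg.Agent.Lie.Chev.F4Graph

open Cfsg.Lie Matrix Polynomial

section Log

variable {L : Type*} [Field L] {r : ℕ}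

theorem zpow_eq_one_iff_cast {ζ : Lˣ} (hζ : orderOf ζ = r) (a : ℤ) :
    ζ ^ a = 1 ↔ (a : ZMod r) = 0 := by
  rw [← orderOf_dvd_iff_zpow_eq_one, hζ, ZMod.intCast_zmod_eq_zero_iff_dvd]

variable {ζ : Lˣ} {z : ℕ → Lˣ} {e : Fin chevF4.rank → ℤ}

theorem tchar_of_log (he : ∀ i, certFullF4.chi z i = ζ ^ e i) {s : ℕ} (hs : s < chevF4.nroots) :
    certFullF4.tchar z s = ζ ^ (∑ j : Fin chevF4.rank, certFullF4.T.vec s j * e j) := by
  rw [certFullF4.tchar_eq_chi z hs, ← zpow_sum_eq]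
  exact Finset.prod_congr rfl fun j _ => by rw [he j, ← _root_.zpow_mul, mul_comm]

theorem row_sum (W : List ℕ) (e : Fin chevF4.rank → ℤ) (i : Fin chevF4.rank) :
    ((∑ j : Fin chevF4.rank,
        certFullF4.T.vec (certFullF4.wl W (chevF4.simple i)) j * e j : ℤ) : ZMod r) =
      (matMod r W *ᵥ fun j => (e j : ZMod r)) i := by
  simp [Matrix.mulVec, dotProduct, matMod, mat, CertFull.wmat]

theorem twisted_iff_log (hζ : orderOf ζ = r) (he : ∀ i, certFullF4.chi z i = ζ ^ e i) {q : ℕ}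
    {W : List ℕ} (hW : ∀ p ∈ W, p < chevF4.rank) :
    certFullF4.Twisted q W z ↔
      matMod r W.reverse *ᵥ (fun j => (e j : ZMod r)) = (q : ZMod r) • fun j => (e j : ZMod r) := by
  have hR : ∀ p ∈ W.reverse, p < chevF4.rank := fun p hp => hW p (List.mem_reverse.1 hp)
  have key : ∀ i : Fin chevF4.rank,
      certFullF4.tchar z (certFullF4.wl W.reverse (chevF4.simple i)) = certFullF4.chi z i ^ q ↔
        (matMod r W.reverse *ᵥ fun j => (e j : ZMod r)) i =
          ((q : ZMod r) • fun j => (e j : ZMod r)) i := fun i => by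
    rw [tchar_of_log he (certFullF4.wl_lt hR (certFullF4.simple_lt i.2)), he i,
      ← zpow_natCast (ζ ^ e i), ← _root_.zpow_mul, ← mul_inv_eq_one, ← _root_.zpow_sub,
      zpow_eq_one_iff_cast hζ, Int.cast_sub, row_sum, sub_eq_zero, Pi.smul_apply, smul_eq_mul,
      Int.cast_mul, Int.cast_natCast, mul_comm]
  rw [funext_iff]
  refine ⟨fun h i => (key i).1 ?_, fun h => certFullF4.twisted_of_chi hW fun i => (key i).2 (h i)⟩
  have h' := h _ (certFullF4.wl_lt hR (certFullF4.simple_lt i.2))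
  rw [certFullF4.wl_reverse hW (certFullF4.simple_lt i.2)] at h'
  exact h'.symm

theorem exists_log [Fintype L] [Fact r.Prime] (hζ : orderOf ζ = r) {z : ℕ → Lˣ}
    (hzr : ∀ s < chevF4.nroots, certFullF4.tchar z s ^ r = 1) :
    ∃ e : Fin chevF4.rank → ℤ, ∀ i, certFullF4.chi z i = ζ ^ e i := by
  have hexp : ∀ i, ∃ a : ℤ, certFullF4.chi z i = ζ ^ a := fun i => by
    haveI : NeZero r := ⟨(Fact.out : r.Prime).ne_zero⟩
    have hprim : IsPrimitiveRoot ((ζ : Lˣ) : L) r :=
      IsPrimitiveRoot.coe_units_iff.2 (hζ ▸ IsPrimitiveRoot.orderOf ζ)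
    obtain ⟨a, -, ha⟩ := hprim.eq_pow_of_pow_eq_one
      (show ((certFullF4.chi z i : Lˣ) : L) ^ r = 1 by
        rw [← Units.val_pow_eq_pow_val, CertFull.chi, hzr _ (certFullF4.simple_lt i.2),
          Units.val_one])
    exact ⟨a, by rw [zpow_natCast]; exact Units.ext (by rw [Units.val_pow_eq_pow_val, ha])⟩
  choose e he using hexp
  exact ⟨e, he⟩

end Log

section

variable {F L : Type*} [Field F] [Field L] [Fintype F] [Fintype L] {q n : ℕ}

theorem ne_zero_of_odd (hF : Fintype.card F = q) (hq : q = 2 ^ n) {r : ℕ} (hr : r.Prime)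
    (hr2 : r ≠ 2) : ¬ r ∣ q ∧ (q : ZMod r) ≠ 0 := by
  have h : ¬ r ∣ q := fun h =>
    hr2 ((Nat.prime_dvd_prime_iff_eq hr Nat.prime_two).1 (hr.dvd_of_dvd_pow (hq ▸ h)))
  exact ⟨h, fun e => h ((ZMod.natCast_eq_zero_iff _ _).1 e)⟩

omit [Field F] in
theorem dvd_pow_sub_one_iff (hF : Fintype.card F = q) {r d : ℕ} [Nonempty F] :
    r ∣ q ^ d - 1 ↔ orderOf (q : ZMod r) ∣ d := by
  rw [orderOf_dvd_iff_pow_eq_one, ← ZMod.natCast_eq_zero_iff,
    Nat.cast_sub (Nat.one_le_pow _ _ (hF ▸ Fintype.card_pos)), Nat.cast_pow, Nat.cast_one,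
    sub_eq_zero]

/-- The multiplicative orders of `q` modulo the odd prime divisors of the group order. -/
theorem order_cases (hF : Fintype.card F = q) (hq : q = 2 ^ n) {r : ℕ} (hr : r.Prime) (hr2 : r ≠ 2)
    (hrG : r ∣ Nat.card ↥(chevF4.group F)) :
    orderOf (q : ZMod r) ∈ [1, 2, 3, 4, 6, 8, 12] := by
  have hcard := certFullF4.card_group_formula (F := F) chainF4_ok chainF4_len chainF4_poly
    (g := 1) (torusOrderF4 F)
  rw [one_mul, hF] at hcard
  rw [hcard] at hrG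
  have h := (hr.dvd_mul.1 hrG).resolve_left fun h =>
    (ne_zero_of_odd hF hq hr hr2).1 (hr.dvd_of_dvd_pow h)
  obtain ⟨x, hx, hdx⟩ := (Nat.prime_iff.1 hr).dvd_prod_iff.1 h
  obtain ⟨d, hd, rfl⟩ := List.mem_map.1 hx
  have he := (dvd_pow_sub_one_iff hF).1 hdx
  have hle : orderOf (q : ZMod r) ≤ 12 := by
    refine (Nat.le_of_dvd ?_ he).trans ?_ <;>
      (simp only [List.mem_cons, List.not_mem_nil, or_false] at hd; omega)
  obtain ⟨k, hk⟩ : ∃ k, k = orderOf (q : ZMod r) := ⟨_, rfl⟩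
  rw [← hk] at he hle ⊢
  simp only [List.mem_cons, List.not_mem_nil, or_false] at hd
  rcases hd with rfl | rfl | rfl | rfl <;>
    (interval_cases k <;> first | decide | exact absurd he (by decide))

theorem five_le_of_order {r : ℕ} [Fact r.Prime] (hr2 : r ≠ 2) (hq0 : (q : ZMod r) ≠ 0)
    (he : 3 ≤ orderOf (q : ZMod r)) : 5 ≤ r := by
  have h1 := ZMod.orderOf_dvd_card_sub_one hq0
  have h2 := (Fact.out : r.Prime).two_le
  have h3 := Nat.le_of_dvd (by omega) h1
  have h4 : r ≠ 4 := fun h => absurd (h ▸ (Fact.out : r.Prime)) (by norm_num)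
  omega

theorem not_dvd_weyl {r : ℕ} (hr : r.Prime) (hr5 : 5 ≤ r) :
    ¬ r ∣ [2, 6, 8, 12].prod ∧ ¬ r ∣ (chainWords chainF4).length := by
  have key : ¬ r ∣ [2, 6, 8, 12].prod := fun h => by
    rcases hr.dvd_mul.1 (show r ∣ 2 ^ 7 * 3 ^ 2 from h) with h | h <;>
      (have := Nat.le_of_dvd (by norm_num) (hr.dvd_of_dvd_pow h); omega)
  refine ⟨key, ?_⟩
  rw [CycToriInst.length_chainWords, SylowTorus.prod_values.2.2.2.1]
  exact key

/-- The quadratic relation of an eigenvalue of order three, four or six. -/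
theorem quad_of_order {r : ℕ} [Fact r.Prime] {k : ZMod r} {e : ℕ} (he : orderOf k = e)
    (h : e = 3 ∨ e = 4 ∨ e = 6) :
    k * k + (((if e = 3 then 1 else if e = 4 then 0 else -1 : ℤ)) : ZMod r) * k + 1 = 0 := by
  have hp : k ^ e = 1 := he ▸ pow_orderOf_eq_one k
  have hne : ∀ d, 0 < d → d < e → k ^ d ≠ 1 := fun d hd hde h1 => by
    have := Nat.le_of_dvd hd (orderOf_dvd_of_pow_eq_one h1)
    omega
  rcases h with rfl | rfl | rfl
  · have h1 : k - 1 ≠ 0 := sub_ne_zero.2 fun h => hne 1 (by norm_num) (by norm_num) (by simp [h])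
    refine (mul_eq_zero.1 ?_).resolve_left h1
    simp only [↓reduceIte, Int.cast_one]
    linear_combination hp
  · have h1 : k * k - 1 ≠ 0 :=
      sub_ne_zero.2 fun h => hne 2 (by norm_num) (by norm_num) (by rw [pow_two, h])
    refine (mul_eq_zero.1 ?_).resolve_left h1
    rw [if_neg (by norm_num), if_pos rfl, Int.cast_zero]
    linear_combination hp
  · have h1 : (k ^ 3 - 1) * (k + 1) ≠ 0 := mul_ne_zero
      (sub_ne_zero.2 (hne 3 (by norm_num) (by norm_num))) fun h =>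
      hne 2 (by norm_num) (by norm_num) (by linear_combination (k - 1) * h)
    refine (mul_eq_zero.1 ?_).resolve_left h1
    rw [if_neg (by norm_num), if_neg (by norm_num), Int.cast_neg, Int.cast_one]
    linear_combination hp

variable (ι : F →+* L) (hF : Fintype.card F = q) (φ : L →+* L) (hφ : ∀ t, φ t = t ^ q)
  (hL : Fintype.card L = q ^ 24)

theorem map_injective : Function.Injective (Matrix.GeneralLinearGroup.map (n := chevF4.Idx) ι) :=
  fun _ _ h => Units.ext (Matrix.ext fun i j =>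
    ι.injective (congrArg (fun v : GL chevF4.Idx L => (v : Matrix _ _ L) i j) h))

include hF hφ in
theorem map_fixed (y : GL chevF4.Idx F) :
    Matrix.GeneralLinearGroup.map φ (Matrix.GeneralLinearGroup.map ι y) =
      Matrix.GeneralLinearGroup.map ι y :=
  Units.ext (Matrix.ext fun i j => by
    show φ (ι _) = ι _
    rw [hφ, ← map_pow, ← hF, FiniteField.pow_card])

include hF hL in
theorem card_L_one {r : ℕ} (hr : orderOf (q : ZMod r) ∈ [1, 2, 3, 4, 6, 8, 12]) :
    r ∣ Fintype.card L - 1 ∧ ((Fintype.card L : ℕ) : ZMod r) = 1 := by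
  have hd : orderOf (q : ZMod r) ∣ 24 := by
    simp only [List.mem_cons, List.not_mem_nil, or_false] at hr
    rcases hr with h | h | h | h | h | h | h <;> rw [h] <;> norm_num
  refine ⟨hL ▸ (dvd_pow_sub_one_iff hF).2 hd, ?_⟩
  rw [hL, Nat.cast_pow]
  exact orderOf_dvd_iff_pow_eq_one.1 hd

/-- The elements of a Sylow subgroup are conjugate into the torus at once. -/
theorem sylow_into_torus {r : ℕ} [Fact r.Prime]
    (hT : ¬ r ∣ ((chevF4.diagonalSubgroup L).subgroupOf (chevF4.group L)).index)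
    (P : Sylow r ↥(chevF4.group F)) :
    ∃ g ∈ chevF4.group L, ∀ x ∈ (P : Subgroup ↥(chevF4.group F)),
      ∃ z : ℕ → Lˣ, g * Matrix.GeneralLinearGroup.map ι (x : GL chevF4.Idx F) * g⁻¹ =
        certFullF4.torus z := by
  let μ : ↥(chevF4.group F) →* ↥(chevF4.group L) :=
    ((Matrix.GeneralLinearGroup.map ι).comp (chevF4.group F).subtype).codRestrict _
      fun y => certFullF4.mapHom_mem_group ι y.2
  obtain ⟨g, -, hg⟩ := certFullF4.exists_conj_diag hT (H := ⊤) le_top le_top (P.isPGroup'.map μ)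
  refine ⟨g, g.2, fun x hx => ?_⟩
  have h := hg (μ x) (Subgroup.mem_map_of_mem μ hx)
  rw [certFullF4.diagonalSubgroup_eq] at h
  obtain ⟨z, hz⟩ := h
  exact ⟨z, hz.symm⟩

/-- A torus element conjugate to one of prime order. -/
theorem torus_of_order {r : ℕ} [Fact r.Prime] {g : GL chevF4.Idx L} {z : ℕ → Lˣ}
    {x : GL chevF4.Idx F} (hx : orderOf x = r)
    (hz : g * Matrix.GeneralLinearGroup.map ι x * g⁻¹ = certFullF4.torus z) :
    (∀ s < chevF4.nroots, certFullF4.tchar z s ^ r = 1) ∧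
      ∃ s < chevF4.nroots, certFullF4.tchar z s ≠ 1 := by
  refine ⟨fun s hs => ?_, ?_⟩
  · have h1 : certFullF4.torus (z ^ r) = 1 := by
      rw [map_pow, ← hz, conj_pow, ← map_pow, ← hx, pow_orderOf_eq_one, map_one, mul_one,
        mul_inv_cancel]
    have h2 := (dg_eq_iff chevF4 L).1 (h1.trans (map_one (dg chevF4 L)).symm) s hs
    change certFullF4.tchar (z ^ r) s = 1 at h2
    rwa [certFullF4.tchar_pow] at h2
  · by_contra hall
    push Not at hall
    have h1 : certFullF4.torus z = 1 := by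
      rw [Cert.torus_apply, ← map_one (dg chevF4 L), dg_eq_iff]
      exact hall
    rw [← hz, mul_inv_eq_one, mul_eq_left] at h1
    rw [map_injective ι (h1.trans (map_one _).symm), orderOf_one] at hx
    exact (Fact.out : r.Prime).ne_one hx.symm

include ι hF hφ in
theorem fixed_conj {g : GL chevF4.Idx L} {z : ℕ → Lˣ} {x : GL chevF4.Idx F}
    (hz : g * Matrix.GeneralLinearGroup.map ι x * g⁻¹ = certFullF4.torus z) :
    Matrix.GeneralLinearGroup.map φ (g⁻¹ * certFullF4.torus z * g) =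
      g⁻¹ * certFullF4.torus z * g := by
  rw [← hz, show g⁻¹ * (g * Matrix.GeneralLinearGroup.map ι x * g⁻¹) * g =
    Matrix.GeneralLinearGroup.map ι x by group]
  exact map_fixed ι hF φ hφ x

include ι hF hφ hL in
/-- The centraliser of an element of order `r` is commutative when `q` has order eight or twelve
modulo `r`. -/
theorem commute_in_centralizer {r : ℕ} [Fact r.Prime] (hr2 : r ≠ 2) (hq0 : (q : ZMod r) ≠ 0)
    (he : orderOf (q : ZMod r) = 8 ∨ orderOf (q : ZMod r) = 12) {x : ↥(chevF4.group F)}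
    (hx : orderOf x = r) {y₁ y₂ : ↥(chevF4.group F)} (h₁ : Commute y₁ x) (h₂ : Commute y₂ x) :
    Commute y₁ y₂ := by
  have hrp : r.Prime := Fact.out
  have hr5 := five_le_of_order hr2 hq0 (by omega)
  have hmem : orderOf (q : ZMod r) ∈ [1, 2, 3, 4, 6, 8, 12] := by
    rcases he with h | h <;> rw [h] <;> decide
  have hrl : 9 ≤ r := by
    have h1 := Nat.le_of_dvd (by omega) (ZMod.orderOf_dvd_card_sub_one hq0)
    omega
  obtain ⟨hrL, hL1⟩ := card_L_one hF hL hmem
  have hT := certFullF4.not_dvd_torus_index chainF4_ok chainF4_len hL1 (not_dvd_weyl hrp hr5).2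
  haveI : Finite ↥(chevF4.group F) := Subtype.finite
  obtain ⟨P, hP⟩ := (IsPGroup.of_card (n := 1) (G := ↥(Subgroup.zpowers x))
    (by rw [Nat.card_zpowers, hx, pow_one])).exists_le_sylow
  obtain ⟨g, hg, hall⟩ := sylow_into_torus ι hT P
  obtain ⟨z, hz⟩ := hall x (hP (Subgroup.mem_zpowers x))
  have hxo : orderOf (x : GL chevF4.Idx F) = r := by rw [Subgroup.orderOf_coe, hx]
  obtain ⟨hzr, hne⟩ := torus_of_order ι hxo hz
  obtain ⟨W, hW, htw, -⟩ := certFullF4.exists_twist hφ hg (Z := {z})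
    (fun w hw => by obtain rfl : w = z := hw; exact fixed_conj ι hF φ hφ hz)
  haveI : NeZero (orderOf (q : ZMod r) : ZMod r) := ⟨fun h => by
    have h1 := Nat.le_of_dvd (by omega) ((ZMod.natCast_eq_zero_iff _ _).1 h)
    have h2 := ((ZMod.natCast_eq_zero_iff _ _).1 h)
    rcases he with h' | h' <;> rw [h'] at h2
    · exact hr2 ((Nat.prime_dvd_prime_iff_eq hrp Nat.prime_two).1
        (hrp.dvd_of_dvd_pow (show r ∣ 2 ^ 3 from h2)))
    · rcases hrp.dvd_mul.1 (show r ∣ 4 * 3 from h2) with h | h <;>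
        (have := Nat.le_of_dvd (by norm_num) h; omega)⟩
  refine certFullF4.commute_of_regular ι (n := orderOf (q : ZMod r))
    (by rcases he with h | h <;> rw [h, rank_eq] <;> decide +kernel) (by omega)
    (fun h => NeZero.ne (orderOf (q : ZMod r) : ZMod r) ((ZMod.natCast_eq_zero_iff _ _).2 h))
    (by rw [rank_eq]; omega) (by rw [rank_eq]; norm_num) ?_ hrL hq0 hg hz hzr hne hW
    (htw z rfl) h₁ h₂
  rw [← ZMod.intCast_zmod_eq_zero_iff_dvd,
    show (((cyclotomic (orderOf (q : ZMod r)) ℤ).eval (q : ℤ) : ℤ) : ZMod r) =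
      (cyclotomic (orderOf (q : ZMod r)) (ZMod r)).eval (q : ZMod r) by
      generalize orderOf (q : ZMod r) = e
      rw [← map_cyclotomic e (Int.castRingHom (ZMod r)),
        show (q : ZMod r) = Int.castRingHom (ZMod r) (q : ℤ) by simp, eval_map_apply]
      rfl,
    ← IsRoot.def, isRoot_cyclotomic_iff]
  exact IsPrimitiveRoot.orderOf _

include ι hF hφ hL in
/-- Two primes of the same order three, four or six. -/
theorem exists_same_plane {r s : ℕ} [Fact r.Prime] [Fact s.Prime] (hrs : r ≠ s) (hr2 : r ≠ 2)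
    (hs2 : s ≠ 2) (hq : q = 2 ^ n) (hrG : r ∣ Nat.card ↥(chevF4.group F))
    (he : orderOf (q : ZMod r) = 3 ∨ orderOf (q : ZMod r) = 4 ∨ orderOf (q : ZMod r) = 6)
    (hes : orderOf (q : ZMod s) = orderOf (q : ZMod r)) :
    ∃ x : ↥(chevF4.group F), orderOf x = r * s := by
  have hrp : r.Prime := Fact.out
  have hsp : s.Prime := Fact.out
  obtain ⟨hrq, hq0⟩ := ne_zero_of_odd hF hq hrp hr2
  obtain ⟨-, hqs0⟩ := ne_zero_of_odd hF hq hsp hs2
  have hr5 := five_le_of_order hr2 hq0 (by omega)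
  have hs5 := five_le_of_order hs2 hqs0 (by omega)
  obtain ⟨e₀, he₀⟩ : ∃ e, e = orderOf (q : ZMod r) := ⟨_, rfl⟩
  rw [← he₀] at he hes
  obtain ⟨a, haeq⟩ : ∃ a : ℤ, a = if e₀ = 3 then 1 else if e₀ = 4 then 0 else -1 := ⟨_, rfl⟩
  have ha : a ∈ [1, 0, -1] := by rcases he with h | h | h <;> simp [haeq, h]
  have hk := quad_of_order he₀.symm he
  have hks := quad_of_order hes he
  rw [← haeq] at hk hks
  have hmem : e₀ ∈ [1, 2, 3, 4, 6, 8, 12] := by rcases he with h | h | h <;> rw [h] <;> decide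
  obtain ⟨hrL, hL1⟩ := card_L_one hF hL (he₀ ▸ hmem)
  obtain ⟨hsL, -⟩ := card_L_one hF hL (hes.symm ▸ hmem : orderOf (q : ZMod s) ∈ _)
  obtain ⟨hW4, hW5⟩ := not_dvd_weyl hrp hr5
  have hT := certFullF4.not_dvd_torus_index chainF4_ok chainF4_len hL1 hW5
  haveI : Finite ↥(chevF4.group F) := Subtype.finite
  obtain ⟨P⟩ := Sylow.nonempty (p := r) (G := ↥(chevF4.group F))
  obtain ⟨iso⟩ := SylowTorus.homocyclic_tabulated hF (chevF4, [2, 6, 8, 12]) (by simp) r hrq hW4
    hrG P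
  rw [← he₀] at iso
  have hlen : (([2, 6, 8, 12] : List ℕ).filter fun e => decide (e₀ ∣ e)).length = 2 := by
    rcases he with h | h | h <;> rw [h] <;> decide
  obtain ⟨b, hb⟩ : ∃ b, b = padicValNat r ((cyclotomic e₀ ℤ).eval (q : ℤ)).natAbs := ⟨_, rfl⟩
  change ↥(P : Subgroup ↥(chevF4.group F)) ≃* _ at iso
  rw [← hb] at iso
  have hb0 : 0 < b := by
    by_contra h0
    obtain rfl : b = 0 := by omega
    have h1 : Nat.card ↥(P : Subgroup ↥(chevF4.group F)) = 1 := by
      rw [Nat.card_congr iso.toEquiv, Nat.card_fun, Nat.card_congr (Multiplicative.toAdd),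
        Nat.card_zmod, pow_zero, one_pow]
    rw [P.card_eq_multiplicity] at h1
    have h2 := hrp.factorization_pos_of_dvd (Nat.card_pos).ne' hrG
    rcases pow_eq_one_iff.1 h1 with h | h
    · exact hrp.ne_one h
    · omega
  -- two independent elements of order r
  let u : Fin (([2, 6, 8, 12] : List ℕ).filter fun e => decide (e₀ ∣ e)).length →
      ↥(chevF4.group F) := fun i =>
    (iso.symm (Pi.mulSingle i (Multiplicative.ofAdd ((r ^ (b - 1) : ℕ) : ZMod (r ^ b))))).1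
  have hu : ∀ i, u i ∈ (P : Subgroup ↥(chevF4.group F)) := fun i => (iso.symm _).2
  have hur : ∀ i, u i ^ r = 1 := fun i => by
    show ((iso.symm _).1 : ↥(chevF4.group F)) ^ r = 1
    rw [← Subgroup.coe_pow, ← map_pow, ← Pi.mulSingle_pow, ← ofAdd_nsmul, nsmul_eq_mul,
      ← Nat.cast_mul, ← pow_succ', Nat.sub_add_cancel hb0, ZMod.natCast_self, ofAdd_zero,
      Pi.mulSingle_one, map_one, Subgroup.coe_one]
  have hindu : ∀ (i j : Fin _) (A B : ℤ), i ≠ j → u i ^ A * u j ^ B = 1 → (r : ℤ) ∣ A := by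
    intro i j A B hij h
    have h1 : (Pi.mulSingle i (Multiplicative.ofAdd ((r ^ (b - 1) : ℕ) : ZMod (r ^ b))) :
        Fin _ → Multiplicative (ZMod (r ^ b))) ^ A *
        Pi.mulSingle j (Multiplicative.ofAdd ((r ^ (b - 1) : ℕ) : ZMod (r ^ b))) ^ B = 1 := by
      refine iso.symm.injective (Subtype.ext ?_)
      rw [map_mul, map_zpow, map_zpow, map_one, Subgroup.coe_mul, Subgroup.coe_zpow,
        Subgroup.coe_zpow, Subgroup.coe_one]
      exact h
    have h2 := congrArg (fun f : Fin _ → Multiplicative (ZMod (r ^ b)) =>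
      Multiplicative.toAdd (f i)) h1
    simp only [Pi.mul_apply, Pi.pow_apply, Pi.mulSingle_eq_same, Pi.mulSingle_eq_of_ne hij,
      _root_.one_zpow, mul_one, toAdd_zpow, toAdd_ofAdd, Pi.one_apply, toAdd_one, smul_eq_mul,
      zsmul_eq_mul] at h2
    rw [← Int.cast_natCast (R := ZMod (r ^ b)), ← Int.cast_mul,
      ZMod.intCast_zmod_eq_zero_iff_dvd] at h2
    have h3 : ((r : ℤ) ^ (b - 1)) * r ∣ (r : ℤ) ^ (b - 1) * A := by
      rw [← pow_succ, Nat.sub_add_cancel hb0, mul_comm _ A]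
      simpa using h2
    exact (mul_dvd_mul_iff_left (pow_ne_zero _ (by exact_mod_cast hrp.ne_zero))).1 h3
  obtain ⟨i₁, i₂, hne12⟩ : ∃ i j : Fin (([2, 6, 8, 12] : List ℕ).filter
      fun e => decide (e₀ ∣ e)).length, i ≠ j :=
    ⟨⟨0, by omega⟩, ⟨1, by omega⟩, fun h => by simpa using congrArg Fin.val h⟩
  have hord : ∀ i j, i ≠ j → orderOf (u i : GL chevF4.Idx F) = r := fun i j hij => by
    rw [Subgroup.orderOf_coe]
    refine orderOf_eq_prime (hur i) fun h => ?_
    have := hindu i j 1 0 hij (by rw [h, _root_.one_zpow, _root_.zpow_zero, one_mul])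
    exact hrp.ne_one (Nat.eq_one_of_dvd_one (Int.natCast_dvd_natCast.1 (by simpa using this)))
  -- the twisting word
  obtain ⟨g, hg, hall⟩ := sylow_into_torus ι hT P
  obtain ⟨z₁, hz₁⟩ := hall _ (hu i₁)
  obtain ⟨z₂, hz₂⟩ := hall _ (hu i₂)
  obtain ⟨hzr₁, -⟩ := torus_of_order ι (hord i₁ i₂ hne12) hz₁
  obtain ⟨hzr₂, -⟩ := torus_of_order ι (hord i₂ i₁ hne12.symm) hz₂
  obtain ⟨W, hW, htw, hfix⟩ := certFullF4.exists_twist hφ hg (Z := {z₁, z₂}) (fun w hw => by
    rcases hw with rfl | hw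
    · exact fixed_conj ι hF φ hφ hz₁
    · obtain rfl : w = z₂ := hw
      exact fixed_conj ι hF φ hφ hz₂)
  obtain ⟨ζ, hζ⟩ : ∃ ζ : Lˣ, orderOf ζ = r := by
    refine exists_prime_orderOf_dvd_card' r ?_
    rwa [Nat.card_units, Nat.card_eq_fintype_card]
  obtain ⟨e₁, he₁⟩ := exists_log hζ hzr₁
  obtain ⟨e₂, he₂⟩ := exists_log hζ hzr₂
  obtain ⟨v, hv, hvW⟩ := exists_word (W := W.reverse) fun p hp => hW p (List.mem_reverse.1 hp)
  have hmv : ∀ t : ℕ, matMod t v = matMod t W.reverse := fun t => by rw [matMod, hvW]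
  have hind : LinearIndependent (ZMod r)
      ![(fun j => (e₁ j : ZMod r)), fun j => (e₂ j : ZMod r)] := by
    rw [LinearIndependent.pair_iff]
    intro A B hAB
    obtain ⟨A', rfl⟩ := ZMod.intCast_surjective A
    obtain ⟨B', rfl⟩ := ZMod.intCast_surjective B
    have h1 : certFullF4.torus z₁ ^ A' * certFullF4.torus z₂ ^ B' = 1 := by
      rw [← map_zpow, ← map_zpow, ← map_mul, ← map_one (certFullF4.torus (F := L))]
      refine certFullF4.torus_eq_of_chi (funext fun i => ?_)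
      have hchi : certFullF4.chi (z₁ ^ A' * z₂ ^ B') i =
          certFullF4.chi z₁ i ^ A' * certFullF4.chi z₂ i ^ B' := by
        simp [CertFull.chi, Cert.tchar, mul_zpow, Finset.prod_mul_distrib, ← _root_.zpow_mul,
          mul_comm, ← Finset.prod_zpow]
      rw [hchi, he₁ i, he₂ i, ← _root_.zpow_mul, ← _root_.zpow_mul, ← _root_.zpow_add,
        certFullF4.chi_one, Pi.one_apply, zpow_eq_one_iff_cast hζ]
      have := congrFun hAB i
      simp only [Pi.add_apply, Pi.smul_apply, smul_eq_mul, Pi.zero_apply] at this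
      push_cast
      linear_combination this
    have hconj : certFullF4.torus z₁ ^ A' * certFullF4.torus z₂ ^ B' =
        g * Matrix.GeneralLinearGroup.map ι
          ((u i₁ ^ A' * u i₂ ^ B' : ↥(chevF4.group F)) : GL chevF4.Idx F) * g⁻¹ := by
      rw [← hz₁, ← hz₂, conj_zpow, conj_zpow, Subgroup.coe_mul, Subgroup.coe_zpow,
        Subgroup.coe_zpow, map_mul, map_zpow, map_zpow]
      group
    rw [hconj, mul_inv_eq_one, mul_eq_left] at h1
    have h2 : u i₁ ^ A' * u i₂ ^ B' = 1 :=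
      Subtype.ext (map_injective ι (h1.trans (map_one _).symm))
    refine ⟨(ZMod.intCast_zmod_eq_zero_iff_dvd _ _).2 (hindu i₁ i₂ A' B' hne12 h2),
      (ZMod.intCast_zmod_eq_zero_iff_dvd _ _).2 (hindu i₂ i₁ B' A' hne12.symm ?_)⟩
    have hc : Commute (u i₁) (u i₂) := by
      show u i₁ * u i₂ = u i₂ * u i₁
      simp only [u, ← Subgroup.coe_mul, ← map_mul, mul_comm]
    rwa [← (hc.zpow_zpow A' B').eq]
  have h₁ := (twisted_iff_log hζ he₁ hW).1 (htw z₁ (Or.inl rfl))
  have h₂ := (twisted_iff_log hζ he₂ hW).1 (htw z₂ (Or.inr rfl))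
  rw [← hmv] at h₁ h₂
  obtain ⟨⟨hP, htr⟩, hroot⟩ := plane_facts hr5 ha hv hk hind h₁ h₂
  -- an element of order s in the twisted torus
  obtain ⟨w, hw0, hwM⟩ := exists_eigen_mod hs5 ha (word_lt hv) hP htr hks
  obtain ⟨ξ, hξ⟩ : ∃ ξ : Lˣ, orderOf ξ = s := by
    refine exists_prime_orderOf_dvd_card' s ?_
    rwa [Nat.card_units, Nat.card_eq_fintype_card]
  have hHL : Nat.card (chevF4.diagonalSubgroup L) = (Fintype.card L - 1) ^ chevF4.rank := by
    simpa using torusOrderF4 L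
  choose f hf using fun j => ZMod.intCast_surjective (w j)
  obtain ⟨z, hz⟩ := certFullF4.exists_param_chi hHL fun j => ξ ^ f j
  have hzlog : ∀ j, certFullF4.chi z j = ξ ^ f j := congrFun hz
  have hztw : certFullF4.Twisted q W z := by
    refine (twisted_iff_log hξ hzlog hW).2 ?_
    rw [← hmv, show (fun j => (f j : ZMod s)) = w from funext hf]
    exact hwM
  have hY := hfix (fun t ht => ?_) z hztw
  swap
  · by_contra hno
    push Not at hno
    have h1 := hno z₁ (Or.inl rfl)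
    have h2 := hno z₂ (Or.inr rfl)
    rw [tchar_of_log he₁ ht, zpow_eq_one_iff_cast hζ] at h1
    rw [tchar_of_log he₂ ht, zpow_eq_one_iff_cast hζ] at h2
    push_cast at h1 h2
    exact hroot t (nroots_eq ▸ ht) ⟨h1, h2⟩
  have hYmem : g⁻¹ * certFullF4.torus z * g ∈ chevF4.group L :=
    mul_mem (mul_mem (inv_mem hg) (certFullF4.diagonal_le_group (certFullF4.torus_mem z))) hg
  have h1 := certFullF4.fixed_mem hHL hYmem hY
  rw [← certFullF4.group_mapHom (CertFull.range_eq_fixed ι hF hφ)] at h1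
  obtain ⟨y, hy, hyY⟩ := h1
  refine ⟨u i₁ * ⟨y, hy⟩, ?_⟩
  have hcom : Commute (u i₁) ⟨y, hy⟩ := by
    refine Subtype.ext (map_injective ι ?_)
    simp only [Subgroup.coe_mul, map_mul, hyY]
    rw [show Matrix.GeneralLinearGroup.map ι (u i₁ : GL chevF4.Idx F) =
      g⁻¹ * certFullF4.torus z₁ * g by rw [← hz₁]; group]
    calc g⁻¹ * certFullF4.torus z₁ * g * (g⁻¹ * certFullF4.torus z * g)
        = g⁻¹ * (certFullF4.torus z₁ * certFullF4.torus z) * g := by group
      _ = g⁻¹ * (certFullF4.torus z * certFullF4.torus z₁) * g := by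
          rw [certFullF4.H_commutative (certFullF4.torus_mem z₁) (certFullF4.torus_mem z)]
      _ = _ := by group
  have hys : orderOf (⟨y, hy⟩ : ↥(chevF4.group F)) = s := by
    rw [← orderOf_injective (chevF4.group F).subtype Subtype.val_injective,
      ← orderOf_injective _ (map_injective ι), Subgroup.subtype_apply, hyY,
      show g⁻¹ * certFullF4.torus z * g = (MulAut.conj g⁻¹).toMonoidHom (certFullF4.torus z) by
        simp,
      orderOf_injective (MulAut.conj g⁻¹).toMonoidHom (MulAut.conj g⁻¹).injective]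
    refine orderOf_eq_prime ?_ fun h => hw0 ?_
    · rw [← map_pow, Cert.torus_apply, ← map_one (dg chevF4 L), dg_eq_iff]
      intro t ht
      show certFullF4.tchar (z ^ s) t = 1
      rw [certFullF4.tchar_pow, tchar_of_log hzlog ht, ← zpow_natCast, ← _root_.zpow_mul, mul_comm,
        _root_.zpow_mul, zpow_natCast, ← hξ, pow_orderOf_eq_one, _root_.one_zpow]
    · funext j
      have h' := (dg_eq_iff chevF4 L).1 (h.trans (map_one (dg chevF4 L)).symm) _
        (certFullF4.simple_lt j.2)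
      change certFullF4.chi z j = 1 at h'
      rw [hzlog j, zpow_eq_one_iff_cast hξ, hf j] at h'
      exact h'
  rw [hcom.orderOf_mul_eq_mul_orderOf_of_coprime, hys, ← Subgroup.orderOf_coe, hord i₁ i₂ hne12]
  rw [← Subgroup.orderOf_coe, hord i₁ i₂ hne12, hys]
  exact (Nat.coprime_primes hrp hsp).2 hrs

include ι hF hφ hL in
/-- No element of order `r s` for two different orders among three, four and six. -/
theorem no_pair_elements {r s : ℕ} [Fact r.Prime] [Fact s.Prime] (hr2 : r ≠ 2) (hs2 : s ≠ 2)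
    (hrs : r ≠ s) (hq : q = 2 ^ n) {i j : ℕ}
    (hij : (i, j) ∈ [(3, 4), (3, 6), (4, 6)]) (hi : orderOf (q : ZMod r) = i)
    (hj : orderOf (q : ZMod s) = j) : ¬ ∃ x : ↥(chevF4.group F), orderOf x = r * s := by
  rintro ⟨x, hx⟩
  have hrp : r.Prime := Fact.out
  have hsp : s.Prime := Fact.out
  obtain ⟨-, hq0⟩ := ne_zero_of_odd hF hq hrp hr2
  obtain ⟨-, hqs0⟩ := ne_zero_of_odd hF hq hsp hs2
  simp only [List.mem_cons, Prod.mk.injEq, List.not_mem_nil, or_false] at hij
  have hi3 : i = 3 ∨ i = 4 ∨ i = 6 := by omega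
  have hj3 : j = 3 ∨ j = 4 ∨ j = 6 := by omega
  have hr5 := five_le_of_order hr2 hq0 (by omega)
  have hs5 := five_le_of_order hs2 hqs0 (by omega)
  have hmem : ∀ k, k = 3 ∨ k = 4 ∨ k = 6 → k ∈ [1, 2, 3, 4, 6, 8, 12] := by
    rintro k (rfl | rfl | rfl) <;> decide
  obtain ⟨hrL, hL1⟩ := card_L_one hF hL (hi ▸ hmem i hi3)
  obtain ⟨hsL, hL1s⟩ := card_L_one hF hL (hj ▸ hmem j hj3)
  have hT := certFullF4.not_dvd_torus_index chainF4_ok chainF4_len hL1 (not_dvd_weyl hrp hr5).2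
  have hTs := certFullF4.not_dvd_torus_index chainF4_ok chainF4_len hL1s (not_dvd_weyl hsp hs5).2
  haveI : Finite ↥(chevF4.group F) := Subtype.finite
  haveI : Finite ↥(chevF4.group L) := Subtype.finite
  have hxr : orderOf (x ^ s) = r := by
    rw [orderOf_pow_of_dvd hsp.ne_zero (hx ▸ dvd_mul_left s r), hx, Nat.mul_div_cancel _ hsp.pos]
  have hxs : orderOf (x ^ r) = s := by
    rw [orderOf_pow_of_dvd hrp.ne_zero (hx ▸ dvd_mul_right r s), hx, Nat.mul_div_cancel_left _ hrp.pos]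
  obtain ⟨P, hP⟩ := (IsPGroup.of_card (n := 1) (G := ↥(Subgroup.zpowers (x ^ s)))
    (by rw [Nat.card_zpowers, hxr, pow_one])).exists_le_sylow
  obtain ⟨g₁, hg₁, hall⟩ := sylow_into_torus ι hT P
  obtain ⟨z, hz₁⟩ := hall _ (hP (Subgroup.mem_zpowers (x ^ s)))
  obtain ⟨τ, hτ⟩ : ∃ τ : ↥(chevF4.group L), (τ : GL chevF4.Idx L) = certFullF4.torus z :=
    ⟨⟨_, certFullF4.diagonal_le_group (certFullF4.torus_mem z)⟩, rfl⟩
  obtain ⟨Y, hY⟩ : ∃ Y : ↥(chevF4.group L), (Y : GL chevF4.Idx L) =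
      g₁ * Matrix.GeneralLinearGroup.map ι ((x ^ r : ↥(chevF4.group F)) : GL chevF4.Idx F) * g₁⁻¹ :=
    ⟨⟨_, mul_mem (mul_mem hg₁ (certFullF4.mapHom_mem_group ι (x ^ r).2)) (inv_mem hg₁)⟩, rfl⟩
  obtain ⟨H, hH⟩ : ∃ H, H = Subgroup.centralizer ({τ} : Set ↥(chevF4.group L)) := ⟨_, rfl⟩
  have hle : (chevF4.diagonalSubgroup L).subgroupOf (chevF4.group L) ≤ H := fun a ha => by
    rw [hH, Subgroup.mem_centralizer_singleton_iff]
    refine Subtype.ext ?_
    rw [Subgroup.coe_mul, Subgroup.coe_mul, hτ]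
    exact certFullF4.H_commutative (Subgroup.mem_subgroupOf.1 ha) (certFullF4.torus_mem z)
  have hYH : Subgroup.zpowers Y ≤ H := by
    rw [Subgroup.zpowers_le, hH, Subgroup.mem_centralizer_singleton_iff]
    refine Subtype.ext ?_
    rw [Subgroup.coe_mul, Subgroup.coe_mul, hτ, hY, ← hz₁]
    simp only [Subgroup.coe_pow, map_pow]
    calc g₁ * Matrix.GeneralLinearGroup.map ι (x : GL chevF4.Idx F) ^ r * g₁⁻¹ *
          (g₁ * Matrix.GeneralLinearGroup.map ι (x : GL chevF4.Idx F) ^ s * g₁⁻¹)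
        = g₁ * (Matrix.GeneralLinearGroup.map ι (x : GL chevF4.Idx F) ^ r *
          Matrix.GeneralLinearGroup.map ι (x : GL chevF4.Idx F) ^ s) * g₁⁻¹ := by group
      _ = g₁ * (Matrix.GeneralLinearGroup.map ι (x : GL chevF4.Idx F) ^ s *
          Matrix.GeneralLinearGroup.map ι (x : GL chevF4.Idx F) ^ r) * g₁⁻¹ := by
        rw [pow_mul_comm]
      _ = _ := by group
  have hYo : orderOf Y = s := by
    rw [← Subgroup.orderOf_coe, hY,
      show ∀ a : GL chevF4.Idx L, g₁ * a * g₁⁻¹ = (MulAut.conj g₁).toMonoidHom a from fun a => rfl,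
      orderOf_injective (MulAut.conj g₁).toMonoidHom (MulAut.conj g₁).injective,
      orderOf_injective _ (map_injective ι), Subgroup.orderOf_coe, hxs]
  obtain ⟨h, hhH, hh⟩ := certFullF4.exists_conj_diag hTs hle hYH
    (IsPGroup.of_card (n := 1) (G := ↥(Subgroup.zpowers Y))
      (by rw [Nat.card_zpowers, hYo, pow_one]))
  have hmemD := hh Y (Subgroup.mem_zpowers Y)
  rw [certFullF4.diagonalSubgroup_eq] at hmemD
  obtain ⟨w, hw⟩ := hmemD
  obtain ⟨g, hgdef⟩ : ∃ g : GL chevF4.Idx L, g = (h : GL chevF4.Idx L) * g₁ := ⟨_, rfl⟩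
  have hg : g ∈ chevF4.group L := hgdef ▸ mul_mem h.2 hg₁
  have hzg : g * Matrix.GeneralLinearGroup.map ι ((x ^ s : ↥(chevF4.group F)) : GL chevF4.Idx F) *
      g⁻¹ = certFullF4.torus z := by
    rw [hH, Subgroup.mem_centralizer_singleton_iff] at hhH
    have e := congrArg Subtype.val hhH
    rw [Subgroup.coe_mul, Subgroup.coe_mul, hτ] at e
    calc _ = (h : GL chevF4.Idx L) * (g₁ * Matrix.GeneralLinearGroup.map ι
          ((x ^ s : ↥(chevF4.group F)) : GL chevF4.Idx F) * g₁⁻¹) * (h : GL chevF4.Idx L)⁻¹ := by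
          rw [hgdef]; group
      _ = (h : GL chevF4.Idx L) * certFullF4.torus z * (h : GL chevF4.Idx L)⁻¹ := by rw [hz₁]
      _ = _ := by rw [e, mul_inv_cancel_right]
  have hwg : g * Matrix.GeneralLinearGroup.map ι ((x ^ r : ↥(chevF4.group F)) : GL chevF4.Idx F) *
      g⁻¹ = certFullF4.torus w := by
    rw [hw, Subgroup.coe_mul, Subgroup.coe_mul, Subgroup.coe_inv, hY, hgdef]
    group
  obtain ⟨hzr, hzne⟩ := torus_of_order ι (by rw [Subgroup.orderOf_coe, hxr]) hzg
  obtain ⟨hwr, hwne⟩ := torus_of_order ι (by rw [Subgroup.orderOf_coe, hxs]) hwg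
  obtain ⟨W, hW, htw, -⟩ := certFullF4.exists_twist hφ hg (Z := {z, w}) (fun t ht => by
    rcases ht with rfl | ht
    · exact fixed_conj ι hF φ hφ hzg
    · obtain rfl : t = w := ht
      exact fixed_conj ι hF φ hφ hwg)
  obtain ⟨u, hu0, huM, -⟩ := certFullF4.exists_eigen hrL hW hzr hzne (htw z (Or.inl rfl))
  obtain ⟨u', hu0', huM', -⟩ := certFullF4.exists_eigen hsL hW hwr hwne (htw w (Or.inr rfl))
  obtain ⟨v, hv, hvW⟩ := exists_word (W := W.reverse) fun p hp => hW p (List.mem_reverse.1 hp)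
  have hk := quad_of_order hi hi3
  have hk' := quad_of_order hj hj3
  refine no_pair hr5 hs5 (a := if i = 3 then 1 else if i = 4 then 0 else -1)
    (b := if j = 3 then 1 else if j = 4 then 0 else -1) ?_ hv hk hu0 ?_ hk' hu0' ?_
  · rcases hij with ⟨rfl, rfl⟩ | ⟨rfl, rfl⟩ | ⟨rfl, rfl⟩ <;> decide
  · rw [matMod, hvW]; exact huM
  · rw [matMod, hvW]; exact huM'

end

end Cfsg.Agent.Lie.Chev.F4Graph
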