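import Cfsg.Agent.Lib.Lie.Chev.FoldF4
import Cfsg.Agent.Lib.Lie.Chev.TwistE6
import Cfsg.Agent.Lib.Lie.Chev.AutOut
import Cfsg.Agent.Lib.Lie.Chev.FieldAut
import Cfsg.Agent.Lib.Lie.Chev.D4Torus

/-! Three classes of subgroups `F₄(2)` in `²E₆(2)`: the folded group over the prime field and its
images under a diagonal element of order three. -/

set_option autoImplicit false
set_option maxHeartbeats 1000000

namespace Cfsg.Agent.Lie.Chev

open Cfsg.Lie Matrix

namespace CertFull

variable {D : ChevalleyDatum} (c : CertFull D) {F : Type*} [Field F]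

include c

/-- An element of the group moving a regular unipotent element of `U` into `U` lies in the Borel
subgroup. -/
theorem mem_borel_of_regular {y v : GL D.Idx F} (hy : y ∈ D.group F) (hv : v ∈ D.posUnipotent F)
    (hyv : y * v * y⁻¹ ∈ D.posUnipotent F)
    (hreg : ∀ q < D.rank, ∃ k ∈ Up D F q, ∃ t : F, t ≠ 0 ∧ v = k * c.xg (D.simple q) t) :
    y ∈ D.borelSubgroup F := by
  obtain ⟨b, hb, a, ha, L, hL, u, hu, rfl⟩ := c.bruhat_exists hy
  have huU := c.KS_invSet_le_U hL hu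
  refine mul_mem (mul_mem hb (c.H_le_B (c.mem_H_of_wl ha hL fun q hq => ?_)))
    (Subgroup.mem_sup_left huU)
  by_contra hneg
  obtain ⟨k, hk, t, ht, ev⟩ := hreg q hq
  set n := a * c.nw F L with hn
  have h2 : n * (u * v * u⁻¹) * n⁻¹ ∈ D.posUnipotent F := by
    have h := c.conj_B_U (inv_mem hb) hyv
    simpa [mul_assoc, hn] using h
  set w := u * v * u⁻¹ with hw
  have hwU : w ∈ D.posUnipotent F := mul_mem (mul_mem huU hv) (inv_mem huU)
  have hw' := hwU
  rw [c.posUnipotent_eq] at hw'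
  obtain ⟨v₁, hv₁, x, hx, e3⟩ := c.exists_mul_KS (c.keepSet_closed hL) (c.invSet_closed hL)
    (fun r hr => by by_cases h : c.Pos (c.wl L r); exacts [Or.inl ⟨hr, h⟩, Or.inr ⟨hr, h⟩])
    _ c.T.h rfl le_rfl _ hw'
  have hx1 : x = 1 := by
    have hk' := c.conj_keep_mem_U ha hL hv₁
    have h4 : n * x * n⁻¹ ∈ D.posUnipotent F := by
      have := mul_mem (inv_mem hk') h2
      rw [e3, ← hn] at this
      simpa [mul_assoc] using this
    have h5 := c.borel_inf_negUnipotent.1.le
      ⟨Subgroup.mem_sup_left h4, c.conj_inv_mem_V ha hL hx⟩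
    rwa [Subgroup.mem_bot, conj_eq_one_iff] at h5
  have hwUp : w ∈ Up D F q := by
    rw [e3, hx1, mul_one]
    refine (Subgroup.closure_le _).2 ?_ hv₁
    rintro g ⟨r, s, hr, -, rfl⟩
    exact c.xg_mem_Up hr.1 (fun e' => hneg (e' ▸ hr.2)) s
  obtain ⟨k₁, hk₁, t₁, e1⟩ := c.exists_Up_mul hq huU
  have h6 : c.xg (D.simple q) t₁ * (k * c.xg (D.simple q) t) * (c.xg (D.simple q) t₁)⁻¹ ∈
      Up D F q := by
    have := mul_mem (mul_mem (inv_mem hk₁) hwUp) hk₁
    rw [hw, e1, ev] at this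
    simpa [mul_assoc] using this
  have h7 := mul_mem (inv_mem (c.xg_conj_Up hq (Or.inl rfl) t₁ hk)) h6
  have hc : (c.xg (D.simple q) t₁ * k * (c.xg (D.simple q) t₁)⁻¹)⁻¹ *
      (c.xg (D.simple q) t₁ * (k * c.xg (D.simple q) t) * (c.xg (D.simple q) t₁)⁻¹) =
      c.xg (D.simple q) t := by
    have e : c.xg (D.simple q) t₁ * c.xg (D.simple q) t =
        c.xg (D.simple q) t * c.xg (D.simple q) t₁ := by rw [← c.xg_add, ← c.xg_add, add_comm]
    calc _ = c.xg (D.simple q) t₁ * c.xg (D.simple q) t * (c.xg (D.simple q) t₁)⁻¹ := by group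
      _ = _ := by rw [e, mul_inv_cancel_right]
  rw [hc] at h7
  exact ht (c.notMem_Up hq h7)

theorem Up_coeff_unique {q : ℕ} (hq : q < D.rank) {k k' : GL D.Idx F} {t t' : F}
    (hk : k ∈ Up D F q) (hk' : k' ∈ Up D F q)
    (e : k * c.xg (D.simple q) t = k' * c.xg (D.simple q) t') : t = t' := by
  have h : c.xg (D.simple q) (t - t') = k⁻¹ * k' := by
    rw [eq_inv_mul_iff_mul_eq, sub_eq_add_neg, c.xg_add, ← c.xg_inv, ← mul_assoc, e,
      mul_inv_cancel_right]
  have h2 := mul_mem (inv_mem hk) hk'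
  rw [← h] at h2
  exact sub_eq_zero.1 (c.notMem_Up hq h2)

theorem torus_le_normalizer_Up (q : ℕ) :
    D.diagonalSubgroup F ≤ Subgroup.normalizer (Up D F q : Set (GL D.Idx F)) := by
  refine c.torus_le_normalizer ?_
  rintro g ⟨r, t, hr, hne, hg⟩
  exact ⟨r, hr.1, t, c.eq_xg_iff.1 hg,
    fun u => Subgroup.subset_closure ⟨r, u, hr, hne, rfl⟩⟩

theorem Up_map (σ : F →+* F) {q : ℕ} {g : GL D.Idx F} (hg : g ∈ Up D F q) :
    Matrix.GeneralLinearGroup.map σ g ∈ Up D F q := by
  induction hg using Subgroup.closure_induction with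
  | mem g hg =>
    obtain ⟨s, t, hs, hne, hg⟩ := hg
    obtain rfl := c.eq_xg_iff.1 hg
    rw [c.xg_map]
    exact c.xg_mem_Up (c.posRoot_iff.1 hs) hne _
  | one => rw [map_one]; exact one_mem _
  | mul a b _ _ ha hb => rw [map_mul]; exact mul_mem ha hb
  | inv a _ ha => rw [map_inv]; exact inv_mem ha

/-- Conjugation by an element of `U` keeps the coefficient at a fundamental root. -/
theorem coeff_conj {q : ℕ} (hq : q < D.rank) {u k : GL D.Idx F} (hu : u ∈ D.posUnipotent F)
    (hk : k ∈ Up D F q) (t : F) : ∃ k' ∈ Up D F q,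
      u * (k * c.xg (D.simple q) t) * u⁻¹ = k' * c.xg (D.simple q) t := by
  obtain ⟨k₁, hk₁, t₁, rfl⟩ := c.exists_Up_mul hq hu
  have h1 := c.xg_conj_Up hq (Or.inl rfl) t hk₁
  refine ⟨k₁ * (c.xg (D.simple q) t₁ * k * (c.xg (D.simple q) t₁)⁻¹) *
    (c.xg (D.simple q) t * k₁⁻¹ * (c.xg (D.simple q) t)⁻¹), mul_mem (mul_mem hk₁
      (c.xg_conj_Up hq (Or.inl rfl) t₁ hk)) (c.xg_conj_Up hq (Or.inl rfl) t (inv_mem hk₁)), ?_⟩
  have e : c.xg (D.simple q) t * (c.xg (D.simple q) t₁)⁻¹ =
      (c.xg (D.simple q) t₁)⁻¹ * c.xg (D.simple q) t := by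
    rw [c.xg_inv, ← c.xg_add, ← c.xg_add, add_comm]
  calc k₁ * c.xg (D.simple q) t₁ * (k * c.xg (D.simple q) t) * (k₁ * c.xg (D.simple q) t₁)⁻¹
      = k₁ * c.xg (D.simple q) t₁ * k * (c.xg (D.simple q) t * (c.xg (D.simple q) t₁)⁻¹) * k₁⁻¹ := by
        group
    _ = _ := by rw [e]; group

end CertFull

namespace F4in2E6

/-- The exponents of the diagonal element on the roots. -/
def expD (T : Tables) (r : ℕ) : ℤ := T.vec r 0 + 2 * T.vec r 5

/-- The invariant of the diagonal classes. -/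
def cls : List ℤ := [1, 0, 2, 0, 1, 2]

theorem checks :
    ((List.range 72).all fun r =>
      decide ((2 * expD certFullE6.T r - expD certFullE6.T (graphE6.ρ r)) % 3 = 0)) = true ∧
    ((List.range 6).all fun i => decide ((((List.range 6).map fun p =>
      certFullE6.T.cartan i (certFullE6.T.simple p) * cls.getD p 0).sum) % 3 = 0)) = true ∧
    ((List.range' 24 24).all fun s => (foldDataE6F4.orbit s).all fun rk => Nat.ble 36 rk.1) = true ∧
    ((List.range 6).all fun p =>
      ((foldDataE6F4.orbit (certFullF4.T.simple (foldDataE6F4.nodeOf.getD p 0))).any fun rk =>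
        Nat.beq rk.1 (certFullE6.T.simple p) && intBeq rk.2 1) &&
      Nat.blt (foldDataE6F4.nodeOf.getD p 0) 4 &&
      (List.range 4).all fun i => (foldDataE6F4.orbit (certFullF4.T.simple i)).all fun rk =>
        !(Nat.beq rk.1 (certFullE6.T.simple p)) || Nat.beq i (foldDataE6F4.nodeOf.getD p 0)) = true ∧
    ((List.range 4).all fun i => decide (((foldDataE6F4.orbit (certFullF4.T.simple i)).map
      Prod.fst).Nodup)) = true := by decide +kernel

/-- The folded group over the prime field, in `E₆(2)`. -/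
noncomputable def pre (g : ↥(chevF4.group (ZMod 2))) : GL chevE6.Idx (ZMod 2) :=
  (foldingE6F4.exists_pre g.2).choose

theorem pre_spec (g : ↥(chevF4.group (ZMod 2))) :
    pre g ∈ foldingE6F4.G₁ (ZMod 2) ∧ foldingE6F4.Rel (pre g) (g : GL chevF4.Idx (ZMod 2)) :=
  (foldingE6F4.exists_pre g.2).choose_spec

theorem pre_unique (g : ↥(chevF4.group (ZMod 2))) {x : GL chevE6.Idx (ZMod 2)}
    (hx : x ∈ foldingE6F4.G₁ (ZMod 2)) (hr : foldingE6F4.Rel x (g : GL chevF4.Idx (ZMod 2))) :
    pre g = x := by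
  obtain ⟨h1, h2⟩ := pre_spec g
  have := foldingE6F4.eq_one_of_rel (mul_mem (inv_mem (foldingE6F4.G₁_le_fix h1))
    (foldingE6F4.G₁_le_fix hx)) (by simpa using (h2.inv foldingE6F4).mul foldingE6F4 hr)
  exact inv_mul_eq_one.1 this

variable {K : Type*} [Field K] [Fintype K] (hK : Fintype.card K = 4)

include hK

theorem charP : CharP K 2 := by
  haveI : Fact (Nat.Prime 2) := ⟨Nat.prime_two⟩
  exact charP_of_card_eq_prime_pow (f := 2) (by rw [hK]; norm_num)

/-- The element of the prime field, in `K`. -/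
noncomputable def emb : ZMod 2 →+* K :=
  haveI := charP hK
  ZMod.castHom (dvd_refl 2) K

theorem units_cube (u : Kˣ) : u ^ 3 = 1 := by
  classical
  have h : Fintype.card Kˣ = 3 := by rw [Fintype.card_units, hK]
  rw [← h]
  exact pow_card_eq_one

theorem exists_omega : ∃ ω : Kˣ, ω ≠ 1 ∧ orderOf ω = 3 := by
  classical
  haveI : Fact (Nat.Prime 3) := ⟨Nat.prime_three⟩
  obtain ⟨ω, hω⟩ := exists_prime_orderOf_dvd_card (G := Kˣ) 3 (by rw [Fintype.card_units, hK])
  exact ⟨ω, fun h => by rw [h, orderOf_one] at hω; omega, hω⟩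

/-- The embedding of `F₄(2)`. -/
noncomputable def ψ : ↥(chevF4.group (ZMod 2)) →* GL chevE6.Idx K :=
  (Matrix.GeneralLinearGroup.map (emb hK)).comp
    (MonoidHom.mk' pre fun g h => pre_unique (g * h)
      (mul_mem (pre_spec g).1 (pre_spec h).1)
      ((pre_spec g).2.mul foldingE6F4 (pre_spec h).2))

theorem ψ_injective : Function.Injective (ψ hK) := by
  intro g h e
  have e' : pre g = pre h := by
    refine Units.ext (Matrix.ext fun i j => (emb hK).injective ?_)
    exact congrArg (fun M : GL chevE6.Idx K => (M : Matrix chevE6.Idx chevE6.Idx K) i j) e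
  refine Subtype.ext (Folding.Rel.unique foldingE6F4 (pre_spec g).2 ?_)
  rw [e']
  exact (pre_spec h).2

theorem ψ_lift {s : ℕ} (hs : s < chevF4.nroots) (t : ZMod 2) :
    ψ hK ⟨certFullF4.xg s t, certFullF4.xg_mem_group hs t⟩ =
      ((foldingE6F4.X.orbit s).map fun rk => certFullE6.xg rk.1 ((rk.2 : K) * emb hK t)).prod := by
  show Matrix.GeneralLinearGroup.map (emb hK) (pre ⟨certFullF4.xg s t, _⟩) = _
  rw [pre_unique ⟨certFullF4.xg s t, certFullF4.xg_mem_group hs t⟩
    (foldingE6F4.lift_mem_G₁ hs t) (foldingE6F4.rel_lift hs t), Folding.lift, map_list_prod,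
    List.map_map]
  congr 1
  refine List.map_congr_left fun rk _ => ?_
  simp [certFullE6.xg_mapHom]

theorem ψ_U {g : ↥(chevF4.group (ZMod 2))}
    (hg : (g : GL chevF4.Idx (ZMod 2)) ∈ chevF4.posUnipotent (ZMod 2)) :
    ψ hK g ∈ chevE6.posUnipotent K := by
  obtain ⟨g, hgG⟩ := g
  change g ∈ _ at hg
  have key : g ∈ chevF4.group (ZMod 2) ∧
      ∀ h : g ∈ chevF4.group (ZMod 2), ψ hK ⟨g, h⟩ ∈ chevE6.posUnipotent K := by
    clear hgG
    induction hg using Subgroup.closure_induction with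
    | mem g hg =>
      obtain ⟨r, t, hr, hg⟩ := hg
      obtain rfl := certFullF4.eq_xg_iff.1 hg
      have hr' := certFullF4.posRoot_iff.1 hr
      refine ⟨certFullF4.xg_mem_group hr'.2 t, fun h => ?_⟩
      rw [ψ_lift hK hr'.2]
      refine Subgroup.list_prod_mem _ fun x hx => ?_
      obtain ⟨rk, hrk, rfl⟩ := List.mem_map.1 hx
      refine certFullE6.xg_mem_U ⟨?_, foldingE6F4.orbit_lt hr'.2 rk hrk⟩ _
      have h3 := checks.2.2.1
      simp only [List.all_eq_true, List.mem_range'_1, Nat.ble_eq] at h3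
      exact h3 r ⟨hr'.1, hr'.2⟩ rk hrk
    | one =>
      refine ⟨one_mem _, fun h => ?_⟩
      rw [show (⟨1, h⟩ : ↥(chevF4.group (ZMod 2))) = 1 from rfl, map_one]
      exact one_mem _
    | mul a b _ _ ha hb =>
      refine ⟨mul_mem ha.1 hb.1, fun h => ?_⟩
      rw [show (⟨a * b, h⟩ : ↥(chevF4.group (ZMod 2))) = ⟨a, ha.1⟩ * ⟨b, hb.1⟩ from rfl, map_mul]
      exact mul_mem (ha.2 _) (hb.2 _)
    | inv a _ ha =>
      refine ⟨inv_mem ha.1, fun h => ?_⟩
      rw [show (⟨a⁻¹, h⟩ : ↥(chevF4.group (ZMod 2))) = ⟨a, ha.1⟩⁻¹ from rfl, map_inv]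
      exact inv_mem (ha.2 _)
  exact key.2 hgG

theorem map_ψ {f : K →+* K} (hf : ∀ t, f t = t ^ 2) (g : ↥(chevF4.group (ZMod 2))) :
    Matrix.GeneralLinearGroup.map f (ψ hK g) = ψ hK g := by
  refine Units.ext (Matrix.ext fun i j => ?_)
  show f (emb hK _) = emb hK _
  rw [hf, ← map_pow]
  congr 1
  exact ZMod.pow_card _

/-- The coefficient of an element of the image of `U` at a fundamental root is `0` or `1`. -/
theorem coeff_idem {f : K →+* K} (hf : ∀ t, f t = t ^ 2) (g : ↥(chevF4.group (ZMod 2))) {q : ℕ}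
    (hq : q < chevE6.rank) {k : GL chevE6.Idx K} {t : K} (hk : k ∈ Up chevE6 K q)
    (e : ψ hK g = k * certFullE6.xg (chevE6.simple q) t) : t = 0 ∨ t = 1 := by
  have h := map_ψ hK hf g
  rw [e, map_mul, certFullE6.xg_map, hf] at h
  have h2 := certFullE6.Up_coeff_unique hq (certFullE6.Up_map f hk) hk h
  rcases eq_or_ne t 0 with h0 | h0
  · exact Or.inl h0
  · exact Or.inr (mul_left_cancel₀ h0 (by rw [mul_one, ← sq]; exact h2))

/-- The lift of a simple root element has coefficient one at the roots of its orbit. -/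
theorem lift_coeff {i q : ℕ} (hi : i < chevF4.rank) (hq : q < chevE6.rank)
    (h : foldDataE6F4.nodeOf.getD q 0 = i) {z : ℕ → K} :
    ∃ k ∈ Up chevE6 K q,
      ((foldingE6F4.X.orbit (chevF4.simple i)).map fun rk => certFullE6.xg rk.1 (z rk.1)).prod =
        k * certFullE6.xg (chevE6.simple q) (z (chevE6.simple q)) := by
  have hc := checks.2.2.2
  simp only [List.all_eq_true, List.mem_range, Bool.and_eq_true, List.any_eq_true, Nat.beq_eq,
    Nat.blt_eq, decide_eq_true_eq] at hc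
  obtain ⟨⟨⟨rk, hrk, hr, -⟩, -⟩, -⟩ := hc.1 q hq
  have hnd := hc.2 i hi
  rw [h, show certFullE6.T.simple q = chevE6.simple q from (certFullE6.simple_eq hq).symm] at *
  rw [show certFullF4.T.simple i = chevF4.simple i from (certFullF4.simple_eq hi).symm] at *
  have hs := certFullF4.simple_lt hi
  have hpos : ∀ rl ∈ foldingE6F4.X.orbit (chevF4.simple i), certFullE6.Pos rl.1 := fun rl hrl => by
    refine ⟨?_, foldingE6F4.orbit_lt hs rl hrl⟩
    have h3 := checks.2.2.1
    simp only [List.all_eq_true, List.mem_range'_1, Nat.ble_eq] at h3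
    exact h3 _ ⟨(certFullF4.pos_simple hi).1, hs⟩ rl hrl
  change ∀ rl ∈ foldDataE6F4.orbit (chevF4.simple i), certFullE6.Pos rl.1 at hpos
  show ∃ k ∈ Up chevE6 K q, ((foldDataE6F4.orbit (chevF4.simple i)).map _).prod = _
  have key : ∀ L : List (ℕ × ℤ), (∀ rl ∈ L, certFullE6.Pos rl.1) → (L.map Prod.fst).Nodup →
      (chevE6.simple q ∈ L.map Prod.fst →
        ∃ k ∈ Up chevE6 K q, (L.map fun rk => certFullE6.xg rk.1 (z rk.1)).prod =
          k * certFullE6.xg (chevE6.simple q) (z (chevE6.simple q))) ∧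
      (chevE6.simple q ∉ L.map Prod.fst →
        (L.map fun rk => certFullE6.xg rk.1 (z rk.1)).prod ∈ Up chevE6 K q) := by
    intro L
    induction L with
    | nil => intro _ _; exact ⟨fun hm => absurd hm (by simp), fun _ => one_mem _⟩
    | cons a L ih =>
      intro hL hn
      rw [List.map_cons, List.nodup_cons] at hn
      obtain ⟨i1, i2⟩ := ih (fun x hx => hL x (by simp [hx])) hn.2
      by_cases ha : a.1 = chevE6.simple q
      · refine ⟨fun _ => ?_, fun hm => absurd (by simp [ha]) hm⟩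
        have := i2 (ha ▸ hn.1)
        refine ⟨_, certFullE6.xg_conj_Up hq (Or.inl rfl) (z (chevE6.simple q)) this, ?_⟩
        rw [List.map_cons, List.prod_cons, ha]
        group
      · have hmem := certFullE6.xg_mem_Up (hL a (by simp)) ha (z a.1)
        refine ⟨fun hm => ?_, fun hm => ?_⟩
        · obtain ⟨k, hk, e⟩ := i1 (by simpa [Ne.symm ha] using hm)
          exact ⟨_, mul_mem hmem hk, by rw [List.map_cons, List.prod_cons, e, mul_assoc]⟩
        · rw [List.map_cons, List.prod_cons]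
          exact mul_mem hmem (i2 fun h' => hm (by simp [h']))
  exact (key _ hpos hnd).1 (List.mem_map.2 ⟨rk, hrk, hr⟩)

/-- The node below a node. -/
theorem nodeOf_lt {q : ℕ} (hq : q < chevE6.rank) : foldDataE6F4.nodeOf.getD q 0 < chevF4.rank := by
  have hc := checks.2.2.2.1
  simp only [List.all_eq_true, List.mem_range, Bool.and_eq_true, Nat.blt_eq] at hc
  exact (hc q hq).1.2

theorem orbit_sign {q : ℕ} (hq : q < chevE6.rank) :
    ∀ rk ∈ foldDataE6F4.orbit (chevF4.simple (foldDataE6F4.nodeOf.getD q 0)),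
      (rk.2 : K) = 1 := by
  haveI := charP hK
  intro rk hrk
  have hs := certFullF4.simple_lt (nodeOf_lt (K := K) hK hq)
  have hne : (rk.2 : K) = 0 ∨ (rk.2 : K) = 1 := by
    rcases Int.emod_two_eq rk.2 with h | h
    · left
      rw [CharP.intCast_eq_zero_iff K 2]
      exact Int.dvd_of_emod_eq_zero h
    · right
      rw [← Int.cast_one, CharP.intCast_eq_intCast K 2]
      unfold Int.ModEq
      omega
  rcases hne with h | h
  · exfalso
    obtain ⟨hd, tl, e, hsq, -, htr⟩ := foldingE6F4.orbit_spec hs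
    have h2 := checks.2.2.2
    have hall : (List.range 4).all (fun i => (foldDataE6F4.orbit (certFullF4.T.simple i)).all
        fun rk => intBeq rk.2 1) = true := by decide +kernel
    simp only [List.all_eq_true, List.mem_range] at hall
    have := intBeq_eq (hall _ (nodeOf_lt (K := K) hK hq) rk
      (by rwa [← certFullF4.simple_eq (nodeOf_lt (K := K) hK hq)]))
    rw [this, Int.cast_one] at h
    exact one_ne_zero h
  · exact h

/-- Three pairwise non-conjugate subgroups `F₄(2)`. -/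
theorem exists_three :
    ∃ H : Fin 3 → Subgroup ↥(twistedE6 K 2),
      (∀ i, Nonempty (↥(H i) ≃* ↥(chevF4.group (ZMod 2)))) ∧
      ∀ i j, i ≠ j → ∀ g : ↥(twistedE6 K 2), (H i).map (MulAut.conj g).toMonoidHom ≠ H j := by
  classical
  have hK' : Fintype.card K = 2 ^ 2 := by rw [hK]; norm_num
  obtain ⟨f, hf⟩ := exists_qPow (q := 2) (e := 2) Nat.prime_two.isPrimePow hK'
  have hfix : twistedE6 K 2 = (E6.tw f).fix := (E6.datum f hf hK').eq_fix
  obtain ⟨ω, hω1, hω3⟩ := exists_omega hK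
  -- the diagonal element
  let z : Fin chevE6.rank → Kˣ := fun p => ω ^ (([1, 0, 0, 0, 0, 2] : List ℤ).getD p 0)
  set χ := certFullE6.nodeChar z with hχ
  have hχc := certFullE6.nodeChar_isRootCharacter z
  have hχr : ∀ r, χ r = ω ^ expD certFullE6.T r := by
    intro r
    show ∏ p : Fin 6, z p ^ certFullE6.T.vec r p = _
    simp [Fin.prod_univ_six, z, expD, ← _root_.zpow_mul, ← _root_.zpow_add]
  have hperiod : ∀ {m n : ℤ}, (m - n) % 3 = 0 → ω ^ m = ω ^ n := by
    intro m n h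
    rw [zpow_eq_zpow_iff_modEq, hω3]
    exact (Int.modEq_iff_dvd.2 (Int.dvd_of_emod_eq_zero (by omega))).symm.symm
  have hfχ : ∀ r < chevE6.nroots, f (χ r : K) = (χ (graphE6.ρ r) : K) := by
    intro r hr
    have h1 := checks.1
    simp only [List.all_eq_true, List.mem_range, decide_eq_true_eq] at h1
    rw [hf, ← Units.val_pow_eq_pow_val, hχr, hχr]
    congr 1
    rw [← zpow_natCast, ← _root_.zpow_mul, mul_comm]
    exact hperiod (h1 r hr)
  set δ : GL chevE6.Idx K := dg chevE6 K χ with hδ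
  -- the diagonal element commutes with the twisting endomorphism
  have hδσ : graphE6.unit K * Matrix.GeneralLinearGroup.map f δ = δ * graphE6.unit K := by
    refine Units.ext (mat_ext chevE6 K (fun i hi => ?_) fun r hr => ?_)
    · have hm : (Matrix.GeneralLinearGroup.map f δ : Matrix chevE6.Idx chevE6.Idx K) =
          chevE6.charDiag K fun r => Units.map (f : K →* K) (χ r) := by
        ext a b
        show f (chevE6.charDiag K χ a b) = _
        rcases a with a | a <;> rcases b with b | b <;>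
          simp [ChevalleyDatum.charDiag, Matrix.diagonal_apply, apply_ite f]
      rw [Units.val_mul, Units.val_mul, ← Matrix.mulVec_mulVec, ← Matrix.mulVec_mulVec, hm,
        charDiag_hvec]
      show graphE6.mat K *ᵥ _ = chevE6.charDiag K χ *ᵥ (graphE6.mat K *ᵥ _)
      rw [graphE6.mat_hvec K hi, charDiag_hvec]
    · have hm : (Matrix.GeneralLinearGroup.map f δ : Matrix chevE6.Idx chevE6.Idx K) =
          chevE6.charDiag K fun r => Units.map (f : K →* K) (χ r) := by
        ext a b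
        show f (chevE6.charDiag K χ a b) = _
        rcases a with a | a <;> rcases b with b | b <;>
          simp [ChevalleyDatum.charDiag, Matrix.diagonal_apply, apply_ite f]
      rw [Units.val_mul, Units.val_mul, ← Matrix.mulVec_mulVec, ← Matrix.mulVec_mulVec, hm,
        charDiag_evec, Matrix.mulVec_smul]
      show _ • (graphE6.mat K *ᵥ _) = chevE6.charDiag K χ *ᵥ (graphE6.mat K *ᵥ _)
      rw [graphE6.mat_evec K hr, Matrix.mulVec_smul, charDiag_evec, smul_smul, smul_smul, mul_comm]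
      congr 2
      exact hfχ r hr
  have hact : ∀ g ∈ chevE6.group K,
      (E6.tw f).act g = graphE6.unit K * Matrix.GeneralLinearGroup.map f g * (graphE6.unit K)⁻¹ :=
    fun g hg => (E6.tw f).act_eq hg
  have hnorm : ∀ g ∈ twistedE6 K 2, δ * g * δ⁻¹ ∈ twistedE6 K 2 := by
    intro g hg
    rw [hfix] at hg ⊢
    obtain ⟨hgG, hga⟩ := (E6.tw f).mem_fix.1 hg
    refine (E6.tw f).mem_fix.2 ⟨certFullE6.dg_conj_group hχc hgG, ?_⟩
    rw [hact _ hgG] at hga
    rw [hact _ (certFullE6.dg_conj_group hχc hgG), map_mul, map_mul, map_inv]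
    calc graphE6.unit K * (Matrix.GeneralLinearGroup.map f δ * Matrix.GeneralLinearGroup.map f g *
          (Matrix.GeneralLinearGroup.map f δ)⁻¹) * (graphE6.unit K)⁻¹
        = (graphE6.unit K * Matrix.GeneralLinearGroup.map f δ) *
            Matrix.GeneralLinearGroup.map f g *
            (graphE6.unit K * Matrix.GeneralLinearGroup.map f δ)⁻¹ := by group
      _ = δ * (graphE6.unit K * Matrix.GeneralLinearGroup.map f g * (graphE6.unit K)⁻¹) * δ⁻¹ := by
          rw [hδσ]; group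
      _ = _ := by rw [hga]
  have hnormpow : ∀ n : ℕ, ∀ g ∈ twistedE6 K 2, δ ^ n * g * (δ ^ n)⁻¹ ∈ twistedE6 K 2 := by
    intro n
    induction n with
    | zero => intro g hg; simpa using hg
    | succ n ih =>
      intro g hg
      have := hnorm _ (ih g hg)
      rw [pow_succ']
      simpa [mul_assoc] using this
  have hψT : ∀ g, ψ hK g ∈ twistedE6 K 2 := by
    intro g
    rw [hfix]
    obtain ⟨h1, h2⟩ := foldingE6F4.mem_fix_iff.1 (foldingE6F4.G₁_le_fix (pre_spec g).1)
    refine (E6.tw f).mem_fix.2 ⟨certFullE6.mapHom_mem_group (emb hK) h1, ?_⟩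
    have hmem : ψ hK g ∈ chevE6.group K := certFullE6.mapHom_mem_group (emb hK) h1
    rw [hact _ hmem]
    rw [map_ψ hK hf, mul_inv_eq_iff_eq_mul]
    refine Units.ext ?_
    have hmat : graphE6.mat K = (graphE6.mat (ZMod 2)).map (emb hK) := by
      ext a b
      rcases b with b | b <;> rcases a with a | a <;>
        simp [CertFull.Graph.mat, hvec, evec, apply_ite (emb hK)]
    show graphE6.mat K * ((pre g).1).map (emb hK) = ((pre g).1).map (emb hK) * graphE6.mat K
    rw [hmat, ← Matrix.map_mul, ← Matrix.map_mul]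
    exact congrArg (fun M => M.map (emb hK)) h2
  let Ψ : ℕ → (↥(chevF4.group (ZMod 2)) →* ↥(twistedE6 K 2)) := fun n =>
    MonoidHom.mk' (fun g => ⟨δ ^ n * ψ hK g * (δ ^ n)⁻¹, hnormpow n _ (hψT g)⟩) fun g h =>
      Subtype.ext (by simp [mul_assoc])
  have hΨinj : ∀ n, Function.Injective (Ψ n) := fun n g h e =>
    ψ_injective hK (by simpa [Ψ] using congrArg Subtype.val e)
  refine ⟨fun i => (Ψ i.1).range, fun i => ⟨(MonoidHom.ofInjective (hΨinj i.1)).symm⟩,
    fun i j hij g hg => ?_⟩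
  -- pull back a Sylow subgroup
  obtain ⟨k, hk⟩ : ∃ k, k = i.1 + 2 * j.1 := ⟨_, rfl⟩
  have hk3 : ¬ (3 : ℕ) ∣ k := fun h => hij (Fin.ext (by omega))
  have hδ3 : δ ^ 3 = 1 := by
    rw [hδ, ← map_pow, ← map_one (dg chevE6 K)]
    exact dg_ext chevE6 K fun r _ => units_cube hK _
  have hδk : δ ^ k = (δ ^ j.1)⁻¹ * δ ^ i.1 := by
    rw [hk, eq_inv_mul_iff_mul_eq, ← pow_add, show j.1 + (i.1 + 2 * j.1) = i.1 + 3 * j.1 by ring,
      pow_add, pow_mul, hδ3, one_pow, mul_one]
  have hδcomm : ∀ a b : ℕ, Commute (δ ^ a) (δ ^ b) := fun a b => Commute.pow_pow_self δ a b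
  set n : GL chevE6.Idx K := (δ ^ j.1)⁻¹ * g.1 * δ ^ i.1 with hn
  have hnR : ∀ x, ∃ y, n * ψ hK x * n⁻¹ = ψ hK y := by
    intro x
    have : (MulAut.conj g) (Ψ i.1 x) ∈ (Ψ j.1).range :=
      hg.le (Subgroup.mem_map_of_mem _ ⟨x, rfl⟩)
    obtain ⟨y, hy⟩ := this
    refine ⟨y, ?_⟩
    have e := congrArg Subtype.val hy
    change δ ^ j.1 * ψ hK y * (δ ^ j.1)⁻¹ = g.1 * (δ ^ i.1 * ψ hK x * (δ ^ i.1)⁻¹) * (g.1)⁻¹ at e
    rw [hn]
    calc (δ ^ j.1)⁻¹ * g.1 * δ ^ i.1 * ψ hK x * ((δ ^ j.1)⁻¹ * g.1 * δ ^ i.1)⁻¹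
        = (δ ^ j.1)⁻¹ * (g.1 * (δ ^ i.1 * ψ hK x * (δ ^ i.1)⁻¹) * (g.1)⁻¹) * δ ^ j.1 := by group
      _ = _ := by rw [← e]; group
  choose φ hφ using hnR
  let φh : ↥(chevF4.group (ZMod 2)) →* ↥(chevF4.group (ZMod 2)) := MonoidHom.mk' φ fun a b =>
    ψ_injective hK (by rw [map_mul, ← hφ, ← hφ, ← hφ, map_mul]; group)
  have hφinj : Function.Injective φh := fun a b e => ψ_injective hK (by
    have e1 := hφ a
    rw [show φ a = φ b from e, ← hφ b] at e1
    simpa using e1)
  set U' := (chevF4.posUnipotent (ZMod 2)).subgroupOf (chevF4.group (ZMod 2))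
  obtain ⟨x, hx⟩ := certFullF4.exists_conj_U (U'.map φh)
    (Nat.card_congr (U'.equivMapOfInjective φh hφinj).symm.toEquiv)
  set m := ψ hK x * n with hm
  have hmU : ∀ u ∈ U', ∃ u' : ↥(chevF4.group (ZMod 2)),
      (u' : GL chevF4.Idx (ZMod 2)) ∈ chevF4.posUnipotent (ZMod 2) ∧
        m * ψ hK u * m⁻¹ = ψ hK u' := by
    intro u hu
    refine ⟨x * φ u * x⁻¹, (hx _).1 ⟨u, hu, rfl⟩, ?_⟩
    rw [map_mul, map_mul, map_inv, ← hφ, hm]
    group
  set y : GL chevE6.Idx K := ψ hK x * ((δ ^ j.1)⁻¹ * g.1 * δ ^ j.1) with hy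
  have hyT : y ∈ twistedE6 K 2 := by
    refine mul_mem (hψT x) ?_
    have h2 : (δ ^ j.1)⁻¹ = δ ^ (2 * j.1) := by
      rw [inv_eq_iff_mul_eq_one, ← pow_add, show j.1 + 2 * j.1 = 3 * j.1 by ring, pow_mul, hδ3,
        one_pow]
    have := hnormpow (2 * j.1) g.1 g.2
    rwa [← h2, inv_inv] at this
  have hyG : y ∈ chevE6.group K := (E6.tw f).fix_le_group (hfix ▸ hyT)
  have hmy : m = y * δ ^ k := by rw [hm, hn, hy, hδk]; group
  -- root elements after moving by the diagonal element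
  have hconj : ∀ (i' : ℕ) (hi' : i' < chevF4.rank),
      δ ^ k * ψ hK ⟨certFullF4.xg (chevF4.simple i') 1,
          certFullF4.xg_mem_group (certFullF4.simple_lt hi') 1⟩ *
        (δ ^ k)⁻¹ =
      ((foldingE6F4.X.orbit (chevF4.simple i')).map fun rk =>
        certFullE6.xg rk.1 (((χ ^ k) rk.1 : K) * ((rk.2 : K) * 1))).prod := by
    intro i' hi'
    rw [ψ_lift hK (certFullF4.simple_lt hi'), ← map_one (emb hK), ← MulAut.conj_apply,
      map_list_prod, List.map_map, map_one]
    congr 1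
    refine List.map_congr_left fun rk hrk => ?_
    have hlt := foldingE6F4.orbit_lt (certFullF4.simple_lt hi') rk hrk
    simp only [Function.comp_apply, MulAut.conj_apply, hδ, ← map_pow]
    rw [certFullE6.dg_mul_xg (?_ : chevE6.IsRootCharacter (χ ^ k)) hlt, mul_inv_cancel_right]
    have hχc' : chevE6.IsRootCharacter χ := hχc
    exact ⟨fun r hr => by rw [Pi.pow_apply, Pi.pow_apply, hχc'.1 r hr, inv_pow],
      fun r s u hr hs h => by
        rw [Pi.pow_apply, Pi.pow_apply, Pi.pow_apply, hχc'.2 r s u hr hs h, mul_pow]⟩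
  have hsimpU : ∀ i' (hi' : i' < chevF4.rank),
      (⟨certFullF4.xg (chevF4.simple i') 1,
        certFullF4.xg_mem_group (certFullF4.simple_lt hi') 1⟩ : ↥(chevF4.group (ZMod 2))) ∈ U' :=
    fun i' hi' => certFullF4.xg_mem_U (certFullF4.pos_simple hi') 1
  -- a regular element
  let el : ℕ → ↥(chevF4.group (ZMod 2)) := fun i' =>
    if hi' : i' < chevF4.rank then ⟨certFullF4.xg (chevF4.simple i') 1,
      certFullF4.xg_mem_group (certFullF4.simple_lt hi') 1⟩ else 1
  set u₀ := ((List.range chevF4.rank).map el).prod with hu₀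
  have hu₀U : u₀ ∈ U' := Subgroup.list_prod_mem _ fun e he => by
    obtain ⟨i', hi', rfl⟩ := List.mem_map.1 he
    rw [List.mem_range] at hi'
    simp only [el, dif_pos hi']
    exact hsimpU i' hi'
  set v := δ ^ k * ψ hK u₀ * (δ ^ k)⁻¹ with hv
  have hcoef : ∀ q < chevE6.rank, ∀ L : List ℕ, (∀ i' ∈ L, i' < chevF4.rank) → L.Nodup →
      (foldDataE6F4.nodeOf.getD q 0 ∈ L → ∃ k' ∈ Up chevE6 K q,
        δ ^ k * ψ hK (L.map el).prod * (δ ^ k)⁻¹ =
          k' * certFullE6.xg (chevE6.simple q) ((χ ^ k) (chevE6.simple q) : K)) ∧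
      (foldDataE6F4.nodeOf.getD q 0 ∉ L →
        δ ^ k * ψ hK (L.map el).prod * (δ ^ k)⁻¹ ∈ Up chevE6 K q) := by
    intro q hq L
    induction L with
    | nil => intro _ _; exact ⟨fun hm' => absurd hm' (by simp), fun _ => by simp [one_mem]⟩
    | cons a L ih =>
      intro hL hn'
      rw [List.nodup_cons] at hn'
      obtain ⟨i1, i2⟩ := ih (fun x hx => hL x (by simp [hx])) hn'.2
      have ha : a < chevF4.rank := hL a (by simp)
      have e : δ ^ k * ψ hK ((a :: L).map el).prod * (δ ^ k)⁻¹ =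
          (δ ^ k * ψ hK (el a) * (δ ^ k)⁻¹) * (δ ^ k * ψ hK (L.map el).prod * (δ ^ k)⁻¹) := by
        rw [List.map_cons, List.prod_cons, map_mul]; group
      simp only [el, dif_pos ha] at e
      rw [hconj a ha] at e
      by_cases hqa : foldDataE6F4.nodeOf.getD q 0 = a
      · refine ⟨fun _ => ?_, fun hm' => absurd (List.mem_cons.2 (Or.inl hqa)) hm'⟩
        obtain ⟨k', hk', e'⟩ := lift_coeff hK ha hq hqa
          (z := fun r => ((χ ^ k) r : K))
        have hz : ((foldingE6F4.X.orbit (chevF4.simple a)).map fun rk =>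
            certFullE6.xg rk.1 (((χ ^ k) rk.1 : K) * ((rk.2 : K) * 1))) =
            ((foldingE6F4.X.orbit (chevF4.simple a)).map fun rk =>
            certFullE6.xg rk.1 ((χ ^ k) rk.1 : K)) := List.map_congr_left fun rk hrk => by
          rw [orbit_sign hK hq rk (hqa.symm ▸ hrk), one_mul, mul_one]
        rw [hz, e'] at e
        refine ⟨k' * (certFullE6.xg (chevE6.simple q) ((χ ^ k) (chevE6.simple q) : K) *
          (δ ^ k * ψ hK (L.map el).prod * (δ ^ k)⁻¹) *
          (certFullE6.xg (chevE6.simple q) ((χ ^ k) (chevE6.simple q) : K))⁻¹), mul_mem hk'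
            (certFullE6.xg_conj_Up hq (Or.inl rfl) _ (i2 (hqa ▸ hn'.1))), ?_⟩
        simp only [el]
        rw [e]; group
      · have hA : ((foldingE6F4.X.orbit (chevF4.simple a)).map fun rk =>
            certFullE6.xg rk.1 (((χ ^ k) rk.1 : K) * ((rk.2 : K) * 1))).prod ∈ Up chevE6 K q := by
          refine Subgroup.list_prod_mem _ fun g' hg' => ?_
          obtain ⟨rk, hrk, rfl⟩ := List.mem_map.1 hg'
          have hlt := foldingE6F4.orbit_lt (certFullF4.simple_lt ha) rk hrk
          refine certFullE6.xg_mem_Up ⟨?_, hlt⟩ (fun e' => hqa ?_) _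
          · have h3 := checks.2.2.1
            simp only [List.all_eq_true, List.mem_range'_1, Nat.ble_eq] at h3
            exact h3 _ ⟨(certFullF4.pos_simple ha).1, certFullF4.simple_lt ha⟩ rk hrk
          · have hc := checks.2.2.2.1
            simp only [List.all_eq_true, List.mem_range, Bool.and_eq_true, Bool.or_eq_true,
              Bool.not_eq_true', Nat.beq_eq] at hc
            rcases (hc q hq).2 a ha rk
              (by rwa [← certFullF4.simple_eq ha]) with h0 | h0
            · rw [e', ← certFullE6.simple_eq hq, Nat.beq_refl] at h0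
              exact Bool.noConfusion h0
            · exact h0.symm
        refine ⟨fun hm' => ?_, fun hm' => ?_⟩
        · obtain ⟨k', hk', e'⟩ := i1 ((List.mem_cons.1 hm').resolve_left hqa)
          rw [e'] at e
          exact ⟨_, mul_mem hA hk', by rw [e, mul_assoc]⟩
        · rw [e]
          exact mul_mem hA (i2 fun h' => hm' (List.mem_cons_of_mem _ h'))
  have hvreg : ∀ q < chevE6.rank, ∃ k' ∈ Up chevE6 K q, ∃ t : K, t ≠ 0 ∧
      v = k' * certFullE6.xg (chevE6.simple q) t := by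
    intro q hq
    obtain ⟨k', hk', e⟩ := (hcoef q hq (List.range chevF4.rank) (fun i' hi' => List.mem_range.1 hi')
      List.nodup_range).1 (List.mem_range.2 (nodeOf_lt (K := K) hK hq))
    exact ⟨k', hk', _, Units.ne_zero _, e⟩
  have hvU : v ∈ chevE6.posUnipotent K := by
    obtain ⟨k', hk', t, -, e⟩ := hvreg 0 (by decide)
    rw [e]
    exact mul_mem (certFullE6.Up_le_U 0 hk') (certFullE6.xg_mem_U (certFullE6.pos_simple (by decide)) t)
  obtain ⟨u₁, hu₁, eu⟩ := hmU u₀ hu₀U
  have hyv : y * v * y⁻¹ ∈ chevE6.posUnipotent K := by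
    have : y * v * y⁻¹ = m * ψ hK u₀ * m⁻¹ := by rw [hv, hmy]; group
    rw [this, eu]
    exact ψ_U hK hu₁
  obtain ⟨u₂, hu₂, a, ha, ey⟩ :=
    certFullE6.mem_borel_iff.1 (certFullE6.mem_borel_of_regular hyG hvU hyv hvreg)
  rw [certFullE6.diagonalSubgroup_eq] at ha
  obtain ⟨w, rfl⟩ := ha
  -- every coefficient is one
  have hone : ∀ q < chevE6.rank,
      certFullE6.tchar w (chevE6.simple q) * (χ ^ k) (chevE6.simple q) = 1 := by
    intro q hq
    obtain ⟨k', hk', e⟩ := (hcoef q hq (List.range chevF4.rank) (fun i' hi' => List.mem_range.1 hi')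
      List.nodup_range).1 (List.mem_range.2 (nodeOf_lt (K := K) hK hq))
    have e2 : certFullE6.torus w * v * (certFullE6.torus w)⁻¹ =
        (certFullE6.torus w * k' * (certFullE6.torus w)⁻¹) * certFullE6.xg (chevE6.simple q)
          ((certFullE6.tchar w (chevE6.simple q) : K) * ((χ ^ k) (chevE6.simple q) : K)) := by
      rw [hv, e, ← certFullE6.torus_conj_xg w (certFullE6.simple_lt hq)]
      group
    have hkU : certFullE6.torus w * k' * (certFullE6.torus w)⁻¹ ∈ Up chevE6 K q :=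
      (Subgroup.mem_normalizer_iff.1 (certFullE6.torus_le_normalizer_Up q
        (certFullE6.torus_mem w)) k').1 hk'
    obtain ⟨k'', hk'', e3⟩ := certFullE6.coeff_conj hq hu₂ hkU
      ((certFullE6.tchar w (chevE6.simple q) : K) * ((χ ^ k) (chevE6.simple q) : K))
    have e4 : ψ hK u₁ = k'' * certFullE6.xg (chevE6.simple q)
        ((certFullE6.tchar w (chevE6.simple q) : K) * ((χ ^ k) (chevE6.simple q) : K)) := by
      rw [← e3, ← e2, ← eu, hmy, ey, hv]
      group
    rcases coeff_idem hK hf u₁ hq hk'' e4 with h0 | h0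
    · exact absurd h0 (mul_ne_zero (Units.ne_zero _) (Units.ne_zero _))
    · exact Units.ext (by simpa using h0)
  -- the invariant
  have hinv : ∏ q ∈ Finset.range 6,
      (certFullE6.tchar w (chevE6.simple q)) ^ cls.getD q 0 = 1 := by
    have h2 := checks.2.1
    simp only [List.all_eq_true, List.mem_range, decide_eq_true_eq] at h2
    simp only [Cert.tchar, ← Finset.prod_zpow, ← _root_.zpow_mul]
    rw [Finset.prod_comm]
    refine Finset.prod_eq_one fun i hi => ?_
    rw [zpow_sum_eq]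
    have hi' : i < 6 := Finset.mem_range.1 hi
    obtain ⟨m', hm'⟩ := Int.dvd_of_emod_eq_zero (h2 i hi')
    have e : ∑ q ∈ Finset.range 6, certFullE6.T.cartan i (chevE6.simple q) * cls.getD q 0 =
        3 * m' := by
      rw [← hm', ← List.sum_toFinset _ List.nodup_range, List.toFinset_range]
      exact Finset.sum_congr rfl fun q hq => by
        rw [certFullE6.simple_eq (Finset.mem_range.1 hq)]
    rw [e, _root_.zpow_mul, zpow_ofNat, units_cube hK, _root_.one_zpow]
  have hsum : ∏ q ∈ Finset.range 6, ((χ ^ k) (chevE6.simple q)) ^ cls.getD q 0 = 1 := by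
    have : ∏ q ∈ Finset.range 6, (certFullE6.tchar w (chevE6.simple q) *
        (χ ^ k) (chevE6.simple q)) ^ cls.getD q 0 = 1 :=
      Finset.prod_eq_one fun q hq => by rw [hone q (Finset.mem_range.1 hq), _root_.one_zpow]
    simp only [mul_zpow, Finset.prod_mul_distrib, hinv, one_mul] at this
    exact this
  have hval : ∀ q : Fin chevE6.rank, (χ ^ k) (chevE6.simple q) = z q ^ k := fun q => by
    rw [Pi.pow_apply, hχ, certFullE6.nodeChar_simple]
  simp only [Finset.prod_range_succ, Finset.prod_range_zero, one_mul] at hsum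
  rw [hval ⟨0, by decide⟩, hval ⟨1, by decide⟩, hval ⟨2, by decide⟩, hval ⟨3, by decide⟩,
    hval ⟨4, by decide⟩, hval ⟨5, by decide⟩] at hsum
  change ((ω ^ (1 : ℤ)) ^ k) ^ (1 : ℤ) * ((ω ^ (0 : ℤ)) ^ k) ^ (0 : ℤ) *
    ((ω ^ (0 : ℤ)) ^ k) ^ (2 : ℤ) * ((ω ^ (0 : ℤ)) ^ k) ^ (0 : ℤ) *
    ((ω ^ (0 : ℤ)) ^ k) ^ (1 : ℤ) * ((ω ^ (2 : ℤ)) ^ k) ^ (2 : ℤ) = 1 at hsum
  refine hk3 ?_
  have h5 : ω ^ (5 * k) = 1 := by
    rw [← hsum]
    simp only [← _root_.zpow_natCast, ← _root_.zpow_mul, ← _root_.zpow_add]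
    congr 1
    push_cast
    ring
  have := orderOf_dvd_of_pow_eq_one h5
  rw [hω3] at this
  omega

end F4in2E6

end Cfsg.Agent.Lie.Chev
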