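import Cfsg.Agent.Lib.Lie.Chev.WeylClass

/- Generated certificate of the conjugacy classes of the Weyl group of type E₆. -/

set_option autoImplicit false

namespace Cfsg.Agent.Lie.Chev

def classesE6 : ClassData where
  reps := [
  [],
  [0, 3, 5, 1, 2, 4],
  [0],
  [0, 1],
  [0, 2],
  [0, 1, 2],
  [0, 1, 4],
  [0, 2, 3],
  [0, 1, 2, 3],
  [0, 1, 2, 4],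
  [0, 1, 3, 4],
  [0, 2, 4, 5],
  [1, 2, 3, 4],
  [0, 1, 2, 3, 4],
  [0, 1, 2, 3, 5],
  [0, 1, 2, 4, 5],
  [0, 2, 3, 4, 5],
  [1, 2, 3, 1, 4, 3],
  [0, 1, 2, 3, 1, 4, 3],
  [0, 1, 2, 3, 1, 4, 3, 5],
  [0, 1, 2, 0, 3, 1, 2, 3, 4, 3, 5, 4],
  [1, 2, 3, 1, 2, 3, 4, 3, 1, 2, 3, 4],
  [0, 1, 2, 3, 1, 2, 3, 4, 3, 1, 2, 3, 4],
  [0, 1, 2, 3, 1, 2, 3, 4, 3, 1, 2, 3, 4, 5],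
  [0, 1, 2, 0, 3, 1, 2, 0, 3, 4, 3, 1, 2, 0, 3, 4, 5, 4, 3, 1, 2, 3, 4, 5]]
  rw := [
  [5],
  [4],
  [5, 4, 5],
  [3],
  [4, 3, 4],
  [5, 4, 3, 4, 5],
  [2],
  [3, 2, 3],
  [4, 3, 2, 3, 4],
  [5, 4, 3, 2, 3, 4, 5],
  [1],
  [3, 1, 3],
  [4, 3, 1, 3, 4],
  [5, 4, 3, 1, 3, 4, 5],
  [2, 3, 1, 3, 2],
  [4, 2, 3, 1, 3, 2, 4],
  [5, 4, 2, 3, 1, 3, 2, 4, 5],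
  [3, 4, 2, 3, 1, 3, 2, 4, 3],
  [5, 3, 4, 2, 3, 1, 3, 2, 4, 3, 5],
  [4, 5, 3, 4, 2, 3, 1, 3, 2, 4, 3, 5, 4],
  [0],
  [2, 0, 2],
  [3, 2, 0, 2, 3],
  [4, 3, 2, 0, 2, 3, 4],
  [5, 4, 3, 2, 0, 2, 3, 4, 5],
  [1, 3, 2, 0, 2, 3, 1],
  [4, 1, 3, 2, 0, 2, 3, 1, 4],
  [5, 4, 1, 3, 2, 0, 2, 3, 1, 4, 5],
  [3, 4, 1, 3, 2, 0, 2, 3, 1, 4, 3],
  [5, 3, 4, 1, 3, 2, 0, 2, 3, 1, 4, 3, 5],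
  [4, 5, 3, 4, 1, 3, 2, 0, 2, 3, 1, 4, 3, 5, 4],
  [2, 3, 4, 1, 3, 2, 0, 2, 3, 1, 4, 3, 2],
  [5, 2, 3, 4, 1, 3, 2, 0, 2, 3, 1, 4, 3, 2, 5],
  [4, 5, 2, 3, 4, 1, 3, 2, 0, 2, 3, 1, 4, 3, 2, 5, 4],
  [3, 4, 5, 2, 3, 4, 1, 3, 2, 0, 2, 3, 1, 4, 3, 2, 5, 4, 3],
  [1, 3, 4, 5, 2, 3, 4, 1, 3, 2, 0, 2, 3, 1, 4, 3, 2, 5, 4, 3, 1]]
  tab := [
  [(2, [4, 5, 3, 4, 2, 3, 0, 2]), (2, [3, 4, 2, 3, 0, 2]), (2, [5, 3, 4, 2, 3, 0, 2]), (2, [2, 3, 0, 2]), (2, [4, 2, 3, 0, 2]), (2, [5, 4, 2, 3, 0, 2]), (2, [0, 2]), (2, [3, 0, 2]), (2, [4, 3, 0, 2]), (2, [5, 4, 3, 0, 2]), (2, [3, 2, 1, 3, 0, 2]), (2, [2, 1, 3, 0, 2]), (2, [4, 2, 1, 3, 0, 2]), (2, [5, 4, 2, 1, 3, 0, 2]), (2, [1, 3, 0, 2]), (2, [4,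 1, 3, 0, 2]), (2, [5, 4, 1, 3, 0, 2]), (2, [3, 4, 1, 3, 0, 2]), (2, [5, 3, 4, 1, 3, 0, 2]), (2, [4, 5, 3, 4, 1, 3, 0, 2]), (2, []), (2, [2]), (2, [3, 2]), (2, [4, 3, 2]), (2, [5, 4, 3, 2]), (2, [1, 3, 2]), (2, [4, 1, 3, 2]), (2, [5, 4, 1, 3, 2]), (2, [3, 4, 1, 3, 2]), (2, [5, 3, 4, 1, 3, 2]), (2, [4, 5, 3, 4, 1, 3, 2]), (2, [2, 3, 4, 1, 3, 2]), (2, [5, 2, 3, 4, 1, 3, 2]), (2, [4, 5, 2, 3, 4, 1, 3, 2]), (2, [3, 4, 5, 2, 3, 4, 1, 3, 2]), (2, [1, 3, 4, 5, 2, 3, 4, 1, 3, 2])],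
  [(13, [5, 3, 4]), (14, [3]), (13, [3, 4]), (15, [5, 3]), (13, [3, 4, 5, 4]), (14, [5, 3, 4]), (14, [2, 3, 4, 5, 1, 3, 4, 2, 3, 0, 2, 1, 3, 4, 5, 1, 3, 4, 2, 3, 0, 2, 1, 3, 4, 0]), (13, [4, 5, 1, 3, 4, 2, 3, 0, 2, 1, 3, 4, 5, 4]), (16, [5, 2, 1, 0]), (13, [5, 3, 4, 2, 3, 0, 2, 1, 3, 4, 5, 4, 0]), (16, [5, 2, 0]), (16, [3, 4, 5, 4, 1]), (13, [3, 4, 5, 1, 3, 4, 2, 3, 0, 2, 1, 3, 4, 5, 2, 0]), (13, [4, 2, 3, 0, 2, 1, 3, 4, 5, 2, 0]), (13, [4, 5, 3, 4, 3]), (15, [4]), (14, [4, 3]), (16, [0, 2, 1, 3, 4, 5, 3, 4, 0, 2, 3, 1, 0]), (14, [4, 2, 3, 0, 2, 1, 3, 4, 5, 4, 2, 3, 0, 2, 1, 3, 4, 0]), (14, [5, 3, 4, 2, 3, 0, 2, 1, 3, 4, 5, 4, 2, 3, 0, 2, 1, 3, 4, 1, 0]), (13, [2, 3, 4, 5, 1,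 3, 4, 2, 3, 0, 2, 1, 3, 4, 5, 3, 4]), (13, [0, 2, 3, 4, 5, 1, 3, 4, 2, 3, 0, 2, 1, 3, 4, 5, 3, 4]), (14, [4, 5, 1, 3, 4, 2, 3, 0, 2, 1, 3, 4, 5, 3, 4, 2, 3, 0, 2, 1, 3, 4, 2, 0]), (13, [2, 1, 3, 4, 5, 4, 0]), (16, [3, 4, 5, 4, 0, 2, 3, 2, 1, 0]), (13, [3, 0, 2, 1, 3, 4, 5, 3, 4, 3]), (14, [3, 4, 5, 1, 3, 4, 2, 3, 0, 2, 1, 3, 4, 5, 1, 3, 4, 2, 3, 0, 2, 1, 3, 4, 0]), (16, [2, 3, 4, 5, 3, 1, 0]), (14, [3, 4, 5, 0, 2, 1, 3, 4, 3]), (15, [3, 4, 5, 4, 0, 2, 1, 3]), (14, [2, 1, 3, 4, 5, 3, 0, 2, 1, 3, 4, 0]), (14, [4, 5, 2, 1, 3, 4, 3, 0]), (14, [3, 0, 2, 1, 3, 4, 5, 4, 3, 0, 2, 1, 3, 4, 3]), (15, [4, 2, 1, 3, 0]), (15, [3, 0, 2, 1, 3, 4, 5, 3, 4, 3, 0, 2, 1, 3]), (15, [4, 5, 2, 1, 3,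 4, 0, 2, 1, 3, 0])],
  [(3, [4, 5, 3, 4, 1, 3]), (3, [3, 4, 1, 3]), (3, [5, 3, 4, 1, 3]), (3, [1, 3]), (3, [4, 1, 3]), (3, [5, 4, 1, 3]), (4, []), (4, [3]), (4, [4, 3]), (4, [5, 4, 3]), (3, []), (3, [3]), (3, [4, 3]), (3, [5, 4, 3]), (4, [1, 3]), (4, [4, 1, 3]), (4, [5, 4, 1, 3]), (4, [3, 4, 1, 3]), (4, [5, 3, 4, 1, 3]), (4, [4, 5, 3, 4, 1, 3]), (0, []), (4, [0]), (4, [3, 0]), (4, [4, 3, 0]), (4, [5, 4, 3, 0]), (4, [1, 3, 0]), (4, [4, 1, 3, 0]), (4, [5, 4, 1, 3, 0]), (4, [3, 4, 1, 3, 0]), (4, [5, 3, 4, 1, 3, 0]), (4, [4, 5, 3, 4, 1, 3, 0]), (3, [5, 4, 2, 3, 0, 2, 1, 3, 4, 5, 3, 0, 2, 1, 3, 4, 0, 2, 1, 3]), (3, [4, 2, 3, 0, 2, 1, 3, 4, 5, 3, 0, 2, 1, 3, 4, 0, 2, 1, 3]), (3, [2,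 3, 0, 2, 1, 3, 4, 5, 3, 0, 2, 1, 3, 4, 0, 2, 1, 3]), (3, [2, 3, 0, 2, 1, 3, 4, 5, 3, 2, 1, 3, 4, 0, 2, 1, 3]), (3, [2, 3, 0, 2, 1, 3, 4, 5, 3, 2, 1, 3, 4, 0, 2, 3])],
  [(6, [4, 5]), (6, []), (6, [5]), (5, [2, 3, 0, 2, 1, 3, 0]), (5, [4, 2, 3, 0, 2, 1, 3, 0]), (5, [5, 4, 2, 3, 0, 2, 1, 3, 0]), (5, []), (7, [1, 3, 1]), (7, [4, 1, 3, 1]), (7, [5, 4, 1, 3, 1]), (2, []), (5, [2, 3, 0, 2, 1, 3]), (5, [4, 2, 3, 0, 2, 1, 3]), (5, [5, 4, 2, 3, 0, 2, 1, 3]), (7, [3, 1]), (7, [4, 3, 1]), (7, [5, 4, 3, 1]), (5, [2, 3, 0, 2, 1, 3, 4, 3, 2, 1, 3, 0]), (5, [5, 2, 3, 0, 2, 1, 3, 4, 3, 2, 1, 3, 0]), (5, [4, 5, 2, 3, 0, 2, 1, 3, 4, 3, 2, 1, 3, 0]), (2, [3, 2, 1, 3, 0, 2]), (5, [0]), (7, [1, 3,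 1, 0]), (7, [4, 1, 3, 1, 0]), (7, [5, 4, 1, 3, 1, 0]), (7, [3, 1, 0]), (7, [4, 3, 1, 0]), (7, [5, 4, 3, 1, 0]), (5, [2, 3, 0, 2, 1, 3, 4, 3, 2, 1, 3]), (5, [5, 2, 3, 0, 2, 1, 3, 4, 3, 2, 1, 3]), (5, [4, 5, 2, 3, 0, 2, 1, 3, 4, 3, 2, 1, 3]), (6, [2, 3, 0, 2, 1, 3, 0, 2]), (6, [5, 2, 3, 0, 2, 1, 3, 0, 2]), (6, [4, 5, 2, 3, 0, 2, 1, 3, 0, 2]), (5, [2, 3, 0, 2, 1, 3, 4, 5, 3, 2, 1, 3, 4, 3, 2, 1, 3, 0]), (5, [2, 3, 0, 2, 1, 3, 4, 5, 3, 2, 1, 3, 4, 3, 2, 1, 3])],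
  [(5, [4, 5, 3, 4, 2, 3, 0, 2, 1, 3, 4, 2, 3, 0, 2, 1, 3, 0]), (5, [3, 4, 2, 3, 0, 2, 1, 3, 4, 2, 3, 0, 2, 1, 3, 0]), (5, [5, 3, 4, 2, 3, 0, 2, 1, 3, 4, 2, 3, 0, 2, 1, 3, 0]), (7, []), (7, [4]), (7, [5, 4]), (2, []), (7, [3]), (7, [4, 3]), (7, [5, 4, 3]), (5, []), (7, [1]), (7, [4, 1]), (7, [5, 4, 1]), (7, [1, 3]), (7, [4, 1, 3]), (7, [5, 4, 1, 3]), (7, [5, 3, 4, 2, 3, 0, 2, 1, 3, 4, 5, 2, 3, 0, 2, 1, 3, 4, 0]), (7, [3, 4, 2, 3, 0, 2, 1, 3, 4, 5, 2, 3, 0, 2, 1, 3, 4, 0]), (7, [3, 4, 2, 3, 0, 2, 1, 3, 4, 5, 4, 3, 2, 1, 3, 4, 0]), (2, [2]), (2, [0, 2]), (7, [0, 2]), (7, [4, 0, 2]), (7, [5, 4, 0, 2]), (7, [0, 2, 1]), (7, [4, 0, 2, 1]), (7, [5, 4, 0, 2, 1]), (7, [5, 3, 4, 2, 3, 0,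 2, 1, 3, 4, 5, 2, 3, 0, 2, 1, 3, 4, 2]), (7, [3, 4, 2, 3, 0, 2, 1, 3, 4, 5, 2, 3, 0, 2, 1, 3, 4, 2]), (7, [3, 4, 2, 3, 0, 2, 1, 3, 4, 5, 4, 3, 2, 1, 3, 4, 0, 2]), (7, [5, 3, 4, 2, 3, 0, 2, 1, 3, 4, 5, 4, 3, 0, 2, 1, 3, 4]), (7, [3, 4, 2, 3, 0, 2, 1, 3, 4, 5, 4, 3, 0, 2, 1, 3, 4]), (7, [3, 4, 2, 3, 0, 2, 1, 3, 4, 5, 4, 3, 2, 1, 3, 4]), (5, [1, 3, 4, 2, 3, 0, 2, 1, 3, 4, 5, 4, 3, 2, 1, 3, 4, 0, 2, 3]), (5, [3, 4, 2, 3, 0, 2, 1, 3, 4, 5, 4, 3, 2, 1, 3, 4, 0, 2, 3])],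
  [(9, [4, 5]), (9, []), (9, [5]), (8, []), (8, [4]), (8, [5, 4]), (3, []), (8, [2, 0]), (8, [4, 2, 0]), (8, [5, 4, 2, 0]), (4, []), (8, [1]), (8, [4, 1]), (8, [5, 4, 1]), (8, [3]), (8, [4, 3]), (8, [5, 4, 3]), (10, [3, 2, 1, 3, 0, 2, 1]), (10, [5, 3, 2, 1, 3, 0, 2, 1]), (10, [4, 5, 3, 2, 1, 3, 0, 2, 1]), (3, [2]), (3, [0, 2]), (8, [0, 2]), (8, [4, 0, 2]), (8, [5, 4, 0, 2]), (8, [2, 3, 0]), (8, [4, 2, 3, 0]), (8, [5, 4, 2, 3, 0]), (10, [3, 0, 2, 1, 3, 0, 2]), (10, [5, 3, 0, 2, 1, 3, 0, 2]), (10, [4, 5, 3, 0, 2, 1, 3, 0, 2]), (10, [3, 2, 1, 3, 4, 0, 2, 1]), (10, [5, 3, 2, 1, 3, 4, 0, 2, 1]), (10, [4, 5, 3, 2, 1, 3, 4, 0, 2, 1]), (11, [3, 2, 1, 3, 4, 5, 0, 2, 1, 3, 4, 1, 3]), (11,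 [3, 2, 1, 3, 4, 5, 0, 2, 1, 3, 4, 1, 3, 0])],
  [(9, [3, 4, 5, 1, 3, 4, 2, 3, 0, 2, 1, 3, 4, 5, 0]), (3, []), (9, [3, 4, 5, 1, 3, 4, 2, 3, 0, 2, 1, 3, 4, 5]), (10, [4]), (10, []), (9, [5, 4, 2, 3, 0, 2, 1, 3, 4, 5, 0]), (9, []), (12, [4, 2, 0]), (12, [2, 0]), (10, [3, 4, 5, 1, 3, 4, 2, 3, 0, 2, 1, 3, 4, 5, 4, 0, 2]), (3, [3, 4, 1, 3]), (10, [4, 1]), (10, [1]), (9, [5, 4, 2, 3, 0, 2, 1, 3, 4, 5]), (12, [4, 2, 1, 0]), (12, [2, 1, 0]), (10, [3, 4, 5, 1, 3, 4, 2, 3, 0, 2, 1, 3, 4, 5, 0, 2]), (9, [3, 4, 1, 3]), (10, [5, 4, 2, 3, 0, 2, 1, 3, 4, 5, 4, 0, 2]), (10, [5, 4, 2, 3, 0, 2, 1, 3, 4, 5, 0, 2]), (3, [5, 4, 3, 2, 1, 3, 4, 5, 0, 2, 3, 4, 1, 3]), (9, [0]), (12, [4, 0, 2, 0]), (12,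 [0, 2, 0]), (10, [3, 4, 5, 1, 3, 4, 2, 3, 0, 2, 1, 3, 4, 5, 4, 0, 2, 1]), (12, [4, 0, 2, 1, 0]), (12, [0, 2, 1, 0]), (10, [3, 4, 5, 1, 3, 4, 2, 3, 0, 2, 1, 3, 4, 5, 0, 2, 1]), (9, [3, 4, 1, 3, 0]), (10, [5, 4, 2, 3, 0, 2, 1, 3, 4, 5, 4, 0, 2, 1]), (10, [5, 4, 2, 3, 0, 2, 1, 3, 4, 5, 0, 2, 1]), (21, [2, 0]), (9, [3, 4, 5, 1, 3, 4, 2, 3, 0, 2, 1, 3, 4, 5, 0, 2, 3, 4, 1, 3]), (9, [3, 4, 5, 1, 3, 4, 2, 3, 0, 2, 1, 3, 4, 5, 0, 2, 3, 4, 1, 3, 0]), (9, [5, 4, 2, 3, 0, 2, 1, 3, 4, 5, 0, 2, 3, 4, 1, 3]), (9, [5, 4, 2, 3, 0, 2, 1, 3, 4, 5, 0, 2, 3, 4, 1, 3, 0])],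
  [(10, [4, 5, 3, 4, 2, 3, 0, 2, 1, 3, 4, 5]), (8, [1, 3, 4, 2, 3, 0, 2, 1, 3, 4, 0, 2, 0]), (8, [5, 1, 3, 4, 2, 3, 0, 2, 1, 3, 4, 0, 2, 0]), (4, []), (8, [1, 3, 4, 2, 3, 0, 2, 1, 3, 4, 2, 0]), (8, [5, 1, 3, 4, 2, 3, 0, 2, 1, 3, 4, 2, 0]), (4, [3]), (3, [1, 3]), (8, [1, 3, 4, 2, 3, 0, 2, 1, 3, 4, 2]), (8, [5, 1, 3, 4, 2, 3, 0, 2, 1, 3, 4, 2]), (8, [1]), (8, []), (12, [1, 3, 2, 1, 0]), (12, [5, 1, 3, 2, 1, 0]), (8, [3, 2, 0]), (17, [1, 3, 2, 0]), (17, [5, 1, 3, 2, 0]), (12, [4, 3, 2, 0]), (12, [5, 4, 3, 2, 0]), (8, [1, 3, 4, 2, 3, 0, 2, 1, 3, 4, 5, 4, 3, 2, 1, 3, 4, 1, 0]), (4, [2, 3]), (3, [0, 2, 1, 3]), (4, [0, 2, 3]), (8, [1, 3, 4, 2, 3, 0, 2, 1, 3, 4, 2, 3, 2, 1]), (8, [5,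 1, 3, 4, 2, 3, 0, 2, 1, 3, 4, 2, 3, 2, 1]), (8, [1, 3, 2, 1]), (12, [0, 2, 1, 3, 2, 0]), (12, [5, 0, 2, 1, 3, 2, 0]), (17, [4, 0, 2, 3, 2, 0]), (17, [5, 4, 0, 2, 3, 2, 0]), (8, [1, 3, 4, 2, 3, 0, 2, 1, 3, 4, 5, 4, 3, 2, 1, 3, 4, 2, 3, 0]), (12, [3, 4, 2, 3, 0, 2, 0]), (12, [5, 3, 4, 2, 3, 0, 2, 0]), (8, [1, 3, 4, 2, 3, 0, 2, 1, 3, 4, 5, 4, 3, 2, 1, 3, 4, 1, 3, 2, 1]), (8, [1, 3, 4, 2, 3, 0, 2, 1, 3, 4, 5, 4, 3, 2, 1, 3, 4, 1]), (10, [4, 5, 3, 4, 2, 3, 0, 2, 1, 3, 4, 5, 2, 1, 3, 4, 1, 3, 2, 1])],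
  [(14, []), (13, []), (13, [5]), (5, []), (13, [4]), (13, [5, 4]), (7, [1, 3, 1]), (5, [2, 3, 0, 2, 1, 3, 0]), (18, [3, 2, 0]), (18, [5, 3, 2, 0]), (7, [1]), (7, []), (18, [1]), (18, [5, 1]), (5, [3]), (18, [2, 3, 0, 2, 1, 3, 2]), (18, [5, 2, 3, 0, 2, 1, 3, 2]), (13, [4, 3]), (13, [5, 4, 3]), (16, [4, 3, 0, 2, 1, 3, 4, 5, 0, 2, 3, 2, 1, 0]), (7, [2, 1, 3, 1]), (5, [3, 2, 1, 3, 0]), (7, [0, 2, 1, 3, 1]), (18, [0, 2, 1, 3, 1]), (18, [5, 0, 2, 1, 3, 1]), (5, [0, 2, 1, 3]), (13, [0, 2, 1, 3]), (13, [5, 0, 2, 1, 3]), (18, [4, 3, 2, 1, 3]), (18, [5, 4, 3, 2, 1, 3]), (16, [4, 3, 0, 2, 1, 3, 4, 0, 2, 3, 2, 1, 0]), (13, [3, 4, 2, 1, 3, 0]), (13, [5, 3, 4, 2, 1, 3, 0]), (16, [4, 2, 3,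 0, 2, 1, 3, 4, 0, 2, 1, 3, 1]), (16, [4, 3, 0, 2, 1, 3, 4, 5, 0, 2, 3, 4, 2, 1, 0]), (16, [4, 3, 0, 2, 1, 3, 4, 5, 0, 2, 3, 4, 2, 1, 3, 0])],
  [(15, []), (5, []), (15, [4]), (13, [4]), (13, []), (14, [5, 4]), (6, []), (13, [4, 2, 0]), (13, [2, 0]), (14, [5, 4, 2, 0]), (5, [3, 4, 2, 3, 0, 2, 1, 3, 4, 2, 3, 0, 2, 1, 3, 0]), (13, [4, 1]), (13, [1]), (14, [5, 4, 1]), (13, [3, 4, 3]), (13, [3, 4]), (14, [5, 4, 3]), (22, []), (14, [3, 4, 2, 3, 0, 2, 1, 3, 4, 5, 2, 3, 0, 2, 1, 3, 4, 0]), (14, [3, 4, 2, 3, 0, 2, 1, 3, 4, 5, 2, 3, 0, 2, 1, 3, 4, 1, 0]), (6, [2]), (6, [0, 2]), (13, [4, 0, 2]), (13, [0, 2]), (14, [5, 4, 0, 2]), (13, [4, 0, 2, 1]), (13, [0, 2, 1]), (14, [5, 4, 2, 3, 0]),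 (22, [0, 2]), (14, [3, 4, 2, 3, 0, 2, 1, 3, 4, 5, 2, 3, 0, 2, 1, 3, 4, 2]), (14, [3, 4, 2, 3, 0, 2, 1, 3, 4, 5, 2, 3, 0, 2, 1, 3, 4, 2, 1]), (22, [2, 0]), (14, [3, 4, 2, 3, 0, 2, 1, 3, 4, 5, 2, 3, 0, 2, 1, 3, 4, 0, 2, 0]), (14, [3, 4, 2, 3, 0, 2, 1, 3, 4, 5, 2, 3, 0, 2, 1, 3, 4, 3, 0]), (15, [5, 4, 3, 2, 1, 3, 4, 5, 0, 2, 1, 3, 4, 1, 3]), (15, [5, 4, 3, 2, 1, 3, 4, 5, 0, 2, 1, 3, 4, 1, 3, 0])],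
  [(14, [2, 3, 4, 5, 1, 3, 4, 2, 3, 0, 2, 1, 3, 4, 5, 1, 3, 4, 2, 3, 0, 2, 1, 3, 4, 1]), (5, [2, 3, 0, 2, 1, 3, 0]), (14, [2, 3, 4, 5, 1, 3, 4, 2, 3, 0, 2, 1, 3, 4, 5, 1, 3, 4, 2, 3, 0, 2, 1, 3, 4]), (5, [4, 2, 3, 0, 2, 1, 3, 0]), (6, []), (14, [2, 3, 4, 5, 1, 3, 4, 2, 3, 0, 2, 1, 3, 4, 5, 1, 3, 4, 2, 3, 0, 2, 1, 3, 4, 3, 2, 0]), (13, [2, 0]), (18, [3, 2, 0]), (13, []), (16, [5, 4, 3, 2, 1, 0]), (5, [3, 4, 2, 3, 0, 2, 1, 3, 0]), (6, [1, 3]), (5, [1, 3, 4, 2, 3, 0, 2, 1, 3, 0]), (14, [2, 3, 4, 5, 1, 3, 4, 2, 3, 0, 2, 1, 3, 4, 5, 1, 3, 4, 2, 3, 0, 2, 1, 3, 4, 1, 3, 2, 1]), (13, [3, 4, 1, 3]), (18, [3]), (16, [3, 4, 5, 1, 3, 4, 3, 1]), (13, [4, 3, 1]), (16, [4, 5, 3, 4, 1, 3, 1]),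 (16, [5, 4, 3, 1]), (7, [5, 4, 3, 2, 1, 3, 4, 5, 0, 2, 3, 4]), (13, [0, 2, 0]), (18, [3, 0, 2, 0]), (13, [0]), (16, [5, 4, 3, 0, 2, 1, 0]), (13, [3, 4, 1, 3, 0]), (18, [3, 0]), (16, [3, 4, 5, 1, 3, 4, 3, 1, 0]), (13, [4, 3, 1, 0]), (16, [4, 5, 3, 4, 1, 3, 1, 0]), (16, [5, 4, 3, 1, 0]), (22, [2, 1, 3, 0, 2]), (14, [5, 4, 3, 2, 1, 3, 4, 5, 0, 2, 3, 4, 1]), (14, [5, 4, 3, 2, 1, 3, 4, 5, 0, 2, 3, 4]), (14, [5, 4, 3, 2, 1, 3, 4, 5, 0, 2, 3, 4, 3, 2, 0]), (14, [5, 4, 3, 2, 1, 3, 4, 5, 0, 2, 3, 4, 1, 3, 2, 1])],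
  [(5, [3, 4, 2, 3, 0, 2, 1, 3, 4, 2, 3, 0, 2, 1, 3, 0]), (5, [5, 3, 4, 2, 3, 0, 2, 1, 3, 4, 2, 3, 0, 2, 1, 3, 0]), (5, [4, 5, 3, 4, 2, 3, 0, 2, 1, 3, 4, 2, 3, 0, 2, 1, 3, 0]), (16, [4, 5]), (16, [5, 4]), (16, []), (5, [3, 4, 5, 1, 3, 4, 2, 3, 0, 2, 1, 3, 0]), (16, [4, 5, 2, 0]), (16, [5, 4, 2, 0]), (16, [2, 0]), (15, []), (16, [4, 5, 1]), (16, [5, 4, 1]), (16, [1]), (16, [4, 5, 2, 1, 0]), (16, [5, 4, 2, 1, 0]), (16, [2, 1, 0]), (16, [0, 2, 3, 4, 5, 2, 3, 4, 0, 2, 3, 1]), (16, [0, 2, 3, 4, 5, 2, 3, 4, 0, 2, 3, 2, 1, 0]), (16, [0, 2, 3, 4, 5, 2, 3, 4, 0, 2, 3, 0, 2, 1]), (5, [2, 3, 4, 5, 1, 3, 4, 2, 3, 0, 2, 1, 3, 0]), (5, [0, 2, 3, 4, 5, 1, 3, 4, 2, 3, 0, 2, 1, 3, 0]), (16, [4,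 5, 0, 2]), (16, [5, 4, 0, 2]), (16, [0, 2]), (16, [4, 5, 0, 2, 1]), (16, [5, 4, 0, 2, 1]), (16, [0, 2, 1]), (16, [2, 3, 4, 5, 0, 2, 3, 4, 0, 2, 3, 1]), (16, [2, 3, 4, 5, 0, 2, 3, 4, 0, 2, 3, 2, 1, 0]), (16, [2, 3, 4, 5, 0, 2, 3, 4, 0, 2, 3, 0, 2, 1]), (16, [3, 4, 5, 2, 3, 4, 0, 2, 3, 1]), (16, [3, 4, 5, 2, 3, 4, 0, 2, 3, 2, 1, 0]), (16, [3, 4, 5, 2, 3, 4, 0, 2, 3, 0, 2, 1]), (15, [3, 4, 5, 2, 3, 4, 0, 2, 3]), (15, [1, 3, 4, 5, 2, 3, 4, 0, 2, 3])],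
  [(13, [0, 2, 3, 4, 5, 1, 3, 4, 2, 3, 0, 2, 1, 3, 4, 5, 4, 0, 2, 0]), (7, [0, 2, 1, 3, 1]), (13, [0, 2, 3, 4, 5, 1, 3, 4, 2, 3, 0, 2, 1, 3, 4, 5, 4, 2, 0]), (7, [4, 0, 2, 1, 3, 1]), (6, [0, 2]), (13, [0, 2, 3, 4, 5, 1, 3, 4, 2, 3, 0, 2, 1, 3, 4, 5, 4, 2]), (7, [5, 4, 3, 2, 1, 3, 4, 5, 0, 2, 1, 3, 4]), (7, [2, 3, 0, 2, 1, 3, 4, 0]), (7, [5, 4, 3, 2, 1, 3, 4, 5, 0, 2, 3, 4]), (18, [0, 2, 3, 4, 5, 1, 3, 4, 2, 3, 0, 2, 1, 3, 4, 5, 4, 0, 2, 1, 3, 0]), (7, [0, 2, 1, 3, 4]), (7, [5, 4, 3, 2, 1, 3, 4, 5, 2, 3, 0, 2, 1, 3, 4, 0]), (7, [0, 2, 3, 4]), (18, [0, 2, 3, 4, 5, 1, 3, 4, 2, 3, 0, 2, 1, 3, 4, 5, 0, 2, 3, 0, 2, 0]), (6, [2, 1, 3, 0, 2]), (7, [3, 4, 0, 2, 1, 3, 1]), (13, [0, 2, 3,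 4, 5, 1, 3, 4, 2, 3, 0, 2, 1, 3, 4, 5, 1, 3, 4, 3, 0, 2]), (6, [4, 3, 0, 2]), (13, [0, 2, 3, 4, 5, 1, 3, 4, 2, 3, 0, 2, 1, 3, 4, 5, 2, 3, 4, 2, 1, 3, 2, 1]), (13, [0, 2, 3, 4, 5, 1, 3, 4, 2, 3, 0, 2, 1, 3, 4, 5, 2, 3, 2, 1]), (13, [0]), (13, [0, 2]), (18, [0, 2, 1, 3, 1]), (13, []), (13, [5, 4, 3, 2, 1, 3, 4, 5, 0]), (13, [0, 2, 1, 3, 1]), (18, [0, 2, 1, 3]), (13, [5, 4, 3, 2, 1, 3, 4, 5, 0, 2]), (13, [4, 3, 2, 1]), (18, [5, 4, 3, 2, 1, 3, 4, 5, 0, 2, 1, 3, 1]), (13, [5, 4, 3, 2, 1, 3, 4, 5]), (13, [3, 4, 3, 2, 1, 3, 2, 1]), (13, [5, 4, 3, 2, 1, 3, 4, 5, 0, 2, 1, 3, 1]), (18, [5, 4, 3, 2, 1, 3, 4, 5, 0, 2, 1, 3]), (13, [5, 4, 3, 2, 1, 3, 4, 5, 4, 3, 2, 1]), (13, [5, 4, 3, 2, 1,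 3, 4, 5, 3, 4, 3, 2, 1, 3, 2, 1])],
  [(1, [5, 0, 2, 1]), (8, []), (1, [0, 2, 1]), (8, [4]), (9, []), (1, [4, 3]), (12, [2, 0]), (8, [2, 3, 0, 2, 1, 3, 4, 0]), (10, []), (19, [5, 4, 1, 3, 1]), (8, [3, 4, 2, 3, 0, 2, 1, 3, 4, 0, 2, 0]), (12, [1, 3, 2, 1, 0]), (8, [1, 3, 4, 2, 3, 0, 2, 1, 3, 4, 0, 2, 0]), (19, [5, 4]), (10, [2, 1, 3, 0, 2, 1]), (8, [3, 4]), (19, [5, 4, 2, 3, 0, 2, 1, 3, 0, 2]), (9, [4, 3]), (19, [4, 5, 3, 4, 2, 3, 0, 2, 1, 3, 2]), (1, [3, 4, 5, 3, 4]), (12, [0]), (10, [0, 2]), (8, [4, 3, 2, 1, 3, 4, 0]), (12, []), (19, [5, 4, 0, 2, 3, 2, 0]), (9, [0, 2, 1, 3]), (8, [0, 2, 1, 3, 4]), (1, [5, 0, 2, 1, 3, 4, 3]), (10, [4, 3, 2, 1]), (19, [5, 4, 3, 0, 2, 1, 3, 4, 0,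 2, 1, 3, 1]), (19, [5, 4, 3, 2, 1, 3]), (9, [3, 4, 3, 2, 1, 3, 0]), (1, [0, 2, 1, 3, 4, 5, 0, 2, 1, 3, 4, 3]), (19, [5, 4, 3, 0, 2, 1, 3, 4, 5, 0, 2, 3, 4, 3, 2, 0]), (1, [4, 3, 2, 1, 3, 4, 5, 3, 4, 0]), (1, [3, 4, 2, 3, 0, 2, 1, 3, 4, 5, 0, 2, 3, 4, 0])],
  [(8, []), (1, [0, 2, 1]), (1, [5, 0, 2, 1]), (9, [4, 5]), (1, [3]), (1, [5, 3]), (10, [3, 4, 5, 1, 3, 4, 2, 3, 0, 2, 1, 3, 4, 5, 4]), (9, [2, 3, 0, 2, 1, 3, 4, 5, 0]), (19, [5, 3, 2, 0]), (19, [3, 2, 0]), (10, [4, 5, 1, 3, 4, 2, 3, 0, 2, 1, 3, 4, 5]), (10, [4, 5, 3, 4, 2, 3, 0, 2, 1, 3, 4, 5]), (19, [5, 1]), (19, [1]), (9, [3, 4, 5]), (19, [5, 2, 3, 0, 2, 1, 3, 2]), (19, [2, 3, 0, 2, 1, 3, 2]), (1, [5, 3, 4]), (1, [3, 4]),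 (23, [4, 5, 3, 4]), (10, [2, 3, 4, 5, 1, 3, 4, 2, 3, 0, 2, 1, 3, 4, 5, 4]), (9, [3, 2, 1, 3, 4, 5, 0]), (10, [0, 2, 3, 4, 5, 1, 3, 4, 2, 3, 0, 2, 1, 3, 4, 5, 4]), (19, [5, 0, 2, 1, 3, 1]), (19, [0, 2, 1, 3, 1]), (9, [0, 2, 1, 3, 4, 5]), (1, [0, 2, 1, 3, 0, 2, 1]), (1, [5, 0, 2, 1, 3, 0, 2, 1]), (19, [5, 3, 2, 1, 3, 0, 2, 0]), (19, [3, 2, 1, 3, 0, 2, 0]), (23, [0, 2, 1, 3, 4, 5, 3, 4]), (1, [5, 3, 2, 1, 3, 4, 0]), (1, [3, 2, 1, 3, 4, 0]), (23, [2, 3, 0, 2, 1, 3, 4, 5, 2, 1, 3, 4]), (23, [4, 5, 3, 4, 1, 3, 2]), (23, [3, 4, 5, 2, 1, 3, 4, 1, 3, 0, 2])],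
  [(9, []), (9, [5]), (9, [4, 5]), (1, [5, 3]), (1, [4, 3]), (1, [5, 0, 2, 1]), (9, [3, 4, 5, 1, 3, 4, 2, 3, 0, 2, 1, 3, 4, 5, 0]), (1, [4, 1]), (1, [4, 2, 3, 0]), (1, [5, 1]), (11, []), (1, [4, 0, 2]), (1, [4, 1, 3]), (1, [5, 0, 2]), (1, [4]), (1, [4, 5, 4]), (1, [5]), (23, [4, 5]), (23, []), (23, [5, 4]), (9, [2, 3, 4, 5, 1, 3, 4, 2, 3, 0, 2, 1, 3, 4, 5, 0]), (9, [0, 2, 3, 4, 5, 1, 3, 4, 2, 3, 0, 2, 1, 3, 4, 5, 0]), (1, [4, 2, 1, 0]), (1, [4, 0, 2, 3]), (1, [5, 2, 1, 0]), (1, [4, 2, 0]), (1, [4, 5, 4, 2, 0]), (1, [5, 2, 0]), (23, [4, 5, 0, 2]), (23, [0, 2]), (23, [5, 4, 0, 2]), (23, [4, 5, 2, 0]), (23, [2, 0]), (23, [5, 4, 2, 0]), (24, [3, 2, 0]), (24, [1, 3, 2, 0])],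
  [(8, [1, 3, 4, 2, 3, 0, 2, 1, 3, 4, 0, 2, 0]), (8, [5, 1, 3, 4, 2, 3, 0, 2, 1, 3, 4, 0, 2, 0]), (10, [4, 5, 3, 4, 2, 3, 0, 2, 1, 3, 4, 5]), (8, [4, 5, 1, 3, 4, 2, 3, 0, 2, 1, 3, 4, 0, 2, 0]), (10, [3, 4, 2, 3, 0, 2, 1, 3, 4, 5]), (11, []), (8, [3, 4, 5, 1, 3, 4, 2, 3, 0, 2, 1, 3, 4, 0, 2, 0]), (10, [2, 3, 0, 2, 1, 3, 4, 5]), (11, [5, 4, 3]), (10, [1, 3, 4, 5]), (1, [5, 0, 2]), (19, [1]), (19, [5, 4]), (1, [5, 0, 2, 1]), (19, [2, 3, 0, 2, 1, 3, 2, 0]), (20, [5, 2, 1]), (19, [1, 3]), (19, [3, 4, 5, 2, 3, 4, 0, 2, 3, 1]), (19, [4, 5, 3, 4, 3, 2, 0]), (1, [4, 5, 4, 3, 1]), (8, [2, 3, 4, 5, 1, 3, 4, 2, 3, 0, 2, 1, 3, 4, 0, 2, 0]), (10, [0, 2, 1, 3, 4, 5]), (11, [0, 2, 3]), (10, [5,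 4, 3, 2, 1, 3, 4, 5]), (8, [0, 2, 3, 4, 5, 1, 3, 4, 2, 3, 0, 2, 1, 3, 4, 0, 2, 0]), (1, [5, 0, 2, 1, 3, 1]), (19, [0, 2, 3, 4, 5, 1]), (19, [0, 2, 3]), (19, [2, 3, 4, 5, 0, 2, 3, 4, 0, 2, 3]), (20, [4, 0]), (19, [5, 4, 3, 2, 1, 3, 0]), (1, [0, 2, 3, 4, 0, 2, 1, 3, 1]), (19, [2, 3, 4, 5, 0, 2, 3, 4, 1]), (19, [3, 4, 5, 2, 3, 4, 2, 3, 0, 2]), (1, [3, 4, 5, 3, 4, 2, 3, 2, 1, 0]), (23, [0, 2, 1, 3, 4, 5, 2, 3, 4, 3, 0, 2, 0])],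
  [(18, [0, 2, 3, 4, 5, 1, 3, 4, 2, 3, 0, 2, 1, 3, 4, 5, 3, 0, 2, 0]), (7, [5, 4, 3, 2, 1, 3, 4, 5, 3, 0, 2, 1, 3, 4, 0]), (18, [0, 2, 3, 4, 5, 1, 3, 4, 2, 3, 0, 2, 1, 3, 4, 5, 2, 1, 3, 1, 0]), (7, [0, 2, 1, 3, 4]), (7, [0, 2, 3, 1]), (18, [0, 2, 3, 4, 5, 1, 3, 4, 2, 3, 0, 2, 1, 3, 4, 5, 3, 2, 0]), (7, [5, 4, 3, 2, 1, 3, 4, 5, 0, 2, 1, 3, 4, 2]), (7, [1, 3, 4, 0, 2, 3, 1]), (7, [3, 0, 2, 1, 3, 4]), (18, [0, 2, 3, 4, 5, 1, 3, 4, 2, 3, 0, 2, 1, 3, 4, 5, 2, 1, 3, 0, 2, 1]), (7, [5, 4, 3, 2, 1, 3, 4, 5, 2, 3, 0, 2, 1, 3, 4, 0]), (7, [4, 0, 2, 1, 3, 1]), (7, [0, 2, 3, 4, 3]), (18, [0, 2, 3, 4, 5, 1, 3, 4, 2, 3, 0, 2, 1, 3, 4, 5, 2, 1, 3, 1]), (7, [4, 3, 0, 2, 1, 3, 4, 2]), (7, [3,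 4, 0, 2, 3, 2, 1]), (18, [0, 2, 3, 4, 5, 1, 3, 4, 2, 3, 0, 2, 1, 3, 4, 5, 4, 1, 3, 0, 2, 1]), (7, [5, 4, 3, 2, 1, 3, 4, 5, 0, 2, 3, 4, 2]), (18, [0, 2, 3, 4, 5, 1, 3, 4, 2, 3, 0, 2, 1, 3, 4, 5, 4, 2, 3, 2]), (18, [0, 2, 3, 4, 5, 1, 3, 4, 2, 3, 0, 2, 1, 3, 4, 5, 3, 2]), (18, [0]), (18, [0, 2]), (18, [3, 2, 1, 3, 0]), (18, [3, 2, 1, 3]), (18, [5, 4, 3, 2, 1, 3, 4, 5, 1, 3, 1, 0]), (18, [3, 2, 1, 3, 0, 2]), (18, [3, 4, 2, 3, 2, 1]), (18, [5, 4, 3, 2, 1, 3, 4, 5, 2, 3, 0, 2, 0]), (18, []), (18, [5, 4, 3, 2, 1, 3, 4, 5, 2, 3, 2, 0]), (18, [5, 4, 3, 2, 1, 3, 4, 5, 1, 3, 1]), (18, [3, 4, 1, 3, 2, 1]), (18, [5, 4, 3, 2, 1, 3, 4, 5, 1, 3, 0, 2, 1]), (18, [5, 4, 3, 2, 1, 3, 4, 5, 4, 2,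 1, 3, 0, 2, 1]), (18, [5, 4, 3, 2, 1, 3, 4, 5, 2, 3, 2]), (18, [5, 4, 3, 2, 1, 3, 4, 5, 4, 3, 2])],
  [(19, []), (12, [3, 2, 1, 0]), (19, [4, 1]), (8, [3, 4, 2, 3, 0, 2, 1, 3, 4, 0, 2, 0]), (8, [1]), (19, [5]), (17, [2, 0]), (8, [1, 3, 4, 1]), (8, [4, 2, 3, 0, 2, 1, 3, 4, 0, 2, 0]), (20, [5, 3, 2]), (12, [1, 3, 2, 1, 0]), (8, [4]), (8, [1, 3, 4, 2, 3, 0, 2, 1, 3, 4, 2, 0]), (19, [4, 5, 1]), (8, [2, 3, 0, 2, 1, 3, 4, 0, 2]), (8, [3, 4, 3, 1]), (20, [4, 5, 1, 3, 2]), (10, [3]), (19, [4, 5, 1, 3, 4, 3]), (19, [5, 3, 4, 3]), (17, [0]), (10, [0, 2, 3]), (8, [0, 2, 3, 4, 2, 0]), (8, [3, 2, 1, 3, 4]), (19, [0, 2, 3, 4, 1, 3, 1]), (8, [4, 3, 2, 1, 3, 4, 2]), (8, [0, 2, 1, 3, 4, 3, 2,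 0]), (19, [0, 2, 1, 3, 4, 1, 3]), (17, []), (20, [3, 0, 2, 1, 3, 0]), (20, [5, 4, 3, 1]), (10, [3, 4, 3, 2, 1, 3, 2]), (19, [2, 3, 0, 2, 1, 3, 4, 3, 2, 1, 3, 2]), (19, [4, 2, 3, 0, 2, 1, 3, 4, 3, 2, 1, 3, 2, 1]), (19, [1, 3, 4, 5, 2, 1, 3, 4, 2, 3, 0]), (19, [3, 4, 5, 3, 2, 1, 3, 4, 2, 3, 0])],
  [(18, []), (13, [5, 3, 4, 2, 3, 0, 2, 1, 3, 4, 5, 0, 2, 0]), (13, [4, 5, 1, 3, 4, 2, 3, 0, 2, 1, 3, 4, 5, 0, 2, 0]), (16, [1]), (18, [5]), (14, [1]), (18, [3, 4, 5, 1, 3, 4, 2, 3, 0, 2, 1, 3, 4, 5, 3, 0, 2, 0]), (13, [1, 3, 4, 5, 1]), (18, [4, 2, 3, 0, 2, 1, 3, 4, 5, 1, 3, 1, 0]), (16, [3, 1]), (13, [4, 5, 3, 4, 2, 3, 0, 2, 1, 3, 4, 5, 0, 2, 0]), (13, [4, 5]), (13, [1, 3, 4, 2, 3, 0,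 2, 1, 3, 4, 5, 2, 0]), (16, [4, 5]), (13, [2, 3, 0, 2, 1, 3, 4, 5, 0, 2]), (16, [0, 2, 1, 3, 4, 5, 0, 2, 3, 0, 2, 1]), (18, [3, 4, 5, 3]), (16, [4, 5, 1, 3, 4, 3, 1]), (14, [2, 3, 4, 5, 1, 3, 4, 2, 3, 0, 2, 1, 3, 4, 5, 1, 3, 4, 2, 3, 0, 2, 1, 3, 4, 2, 1]), (14, [5, 3, 4, 3, 1]), (18, [2, 3, 4, 5, 1, 3, 4, 2, 3, 0, 2, 1, 3, 4, 5, 3, 0, 2, 0]), (14, [3, 4, 5, 1, 3, 4, 2, 3, 0, 2, 1, 3, 4, 5, 3, 4, 2, 3, 0, 2, 1, 3, 4, 2, 1]), (13, [0, 2, 3, 4, 5, 2, 0]), (16, [0, 2, 3, 4, 3, 2, 1, 0]), (13, [3, 2, 1, 3, 4, 5]), (16, [3, 0, 2, 1, 3, 0, 2, 1]), (14, [0, 2, 1, 3, 4, 3, 2, 0]), (18, [0, 2, 1, 3, 4, 5, 1, 3]), (18, [5, 4, 3, 2, 1, 3, 4, 5, 2, 3, 2, 0]), (18, [0, 2, 3, 4, 5, 1, 3, 4,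 2, 3, 0, 2, 1, 3, 4, 5, 3, 0, 2, 0]), (16, [2, 3, 4, 5, 4, 2, 3, 2, 1]), (14, [5, 4, 3, 2, 1, 3, 4, 5, 3, 4, 2, 3, 0, 2, 1, 3, 4, 3, 2]), (16, [1, 3, 4, 5, 2, 1, 3, 4, 2, 3, 2, 1, 0]), (14, [0, 2, 1, 3, 4, 5, 3, 0, 2, 1, 3, 4, 2, 3, 2, 0]), (14, [4, 2, 3, 0, 2, 1, 3, 4, 5, 1, 3, 4, 2, 3, 0, 2, 1, 3, 4, 2, 3, 0]), (14, [3, 4, 5, 4, 3, 2, 1, 3, 4, 3, 2])],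
  [(18, [5, 3, 4, 2, 3, 0, 2, 1, 3, 4, 5, 1, 3, 0]), (18, [4, 5, 1, 3, 4, 2, 3, 0, 2, 1, 3, 4, 5, 0, 2, 0]), (18, [3, 0, 2, 1, 3, 0]), (18, [3, 4, 2, 3, 0, 2, 1, 3, 4, 5, 1, 3, 0]), (18, [5, 2, 3]), (16, [5, 2, 1]), (18, [2, 1, 3, 4, 5]), (18, [5, 4, 3, 0, 2, 1, 3, 4, 5, 1, 3, 1, 0]), (16, [0, 2, 3, 4, 5, 4, 2, 3, 2, 1, 0]), (18, [2, 3, 4, 5, 1, 3, 4, 2, 3, 0, 2, 1, 3, 4, 5, 2, 1, 3, 1, 0]), (16, [0, 2, 1, 3, 4, 5, 4, 2, 3, 2, 1, 0]), (18, [3, 0, 2, 1, 3, 4, 5, 2, 1, 3, 1]), (18, [2, 3, 4, 5, 1, 3, 1]), (16, [4, 2, 3, 2, 1, 0]), (18, [4, 5, 3, 4, 2, 3, 0, 2, 1, 3, 4, 5, 2, 3, 0, 2]), (16, [0, 2, 3, 4, 5, 0, 2, 3, 4, 0, 2, 3, 0, 2, 1, 0]), (18, [5, 1, 3, 4, 2, 3, 0, 2, 1, 3, 4,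 5, 0, 2, 0]), (18, [1, 3, 4, 2, 3, 0, 2, 1, 3, 4, 5, 3, 0, 2, 1, 3, 1]), (18, [4, 5, 4, 3, 0, 2, 1, 3, 0]), (16, [4, 0]), (18, [0, 2, 3, 4, 5, 1, 3, 1]), (18, [3, 4, 5, 1, 3, 4, 2, 3, 0, 2, 1, 3, 4, 5, 1, 3, 4, 0, 2, 3, 0]), (16, [0, 2, 3, 4, 0, 2, 3, 0, 2, 1, 0]), (18, [4, 2, 3, 0, 2, 1, 3, 4, 5, 1, 3, 0]), (18, [1, 3, 4, 5]), (16, [0, 2, 1, 3, 4, 2, 1]), (18, [0, 2, 1, 3, 4, 5, 3, 0, 2, 1, 3, 0]), (18, [4, 3, 2, 1, 3, 4, 5, 2, 1, 3]), (18, [5, 4, 3, 2, 1, 3, 4, 5, 0, 2, 3, 2]), (16, [2, 1, 3, 4, 5, 2, 3, 4, 2, 3, 2, 1]), (18, [0, 2, 3, 4, 5, 1, 3, 4, 2, 3, 0, 2, 1, 3, 4, 5, 3, 4, 0, 2, 3, 0]), (16, [4, 2, 3, 0, 2, 1, 3, 4, 2, 3, 0, 2, 1]), (18, [2, 3, 0, 2, 1, 3, 4, 5, 4, 0,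 2, 1, 3, 2, 1]), (18, [3, 4, 5, 2, 3, 2]), (16, [5, 3, 4, 3, 2, 1]), (16, [4, 5, 4, 3, 2, 1, 3, 4, 3, 0, 2, 1])],
  [(22, [0, 2, 3, 4, 5, 1, 3, 4, 2, 3, 0, 2, 1, 3, 4, 5, 0]), (6, [3, 2, 1, 3, 0, 2]), (22, [0, 2, 3, 4, 5, 1, 3, 4, 2, 3, 0, 2, 1, 3, 4, 5, 2, 0]), (6, [4, 2, 1, 3, 0, 2]), (6, [2, 1, 3, 0, 2]), (22, [0, 2, 3, 4, 5, 1, 3, 4, 2, 3, 0, 2, 1, 3, 4, 5, 3, 2, 0]), (6, [3, 4, 1, 3, 0, 2]), (6, [4, 1, 3, 0, 2]), (6, [1, 3, 0, 2]), (22, [0, 2, 3, 4, 5, 1, 3, 4, 2, 3, 0, 2, 1, 3, 4, 5, 4, 3, 2]), (6, [3, 4, 2, 3, 0, 2]), (6, [4, 2, 3, 0, 2]), (6, [2, 3, 0, 2]), (22, [0, 2, 3, 4, 5, 1, 3, 4, 2, 3, 0, 2, 1, 3, 4, 5, 1, 3, 2]), (6, [4, 3, 0, 2]), (6, [3, 0, 2]), (22, [0, 2, 3,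 4, 5, 1, 3, 4, 2, 3, 0, 2, 1, 3, 4, 5, 3, 2]), (6, [0, 2]), (22, [0, 2, 3, 4, 5, 1, 3, 4, 2, 3, 0, 2, 1, 3, 4, 5, 2]), (22, [0, 2, 3, 4, 5, 1, 3, 4, 2, 3, 0, 2, 1, 3, 4, 5]), (22, [0]), (22, [2, 0]), (22, [3, 2, 0]), (22, [1, 3, 2]), (22, [5, 4, 3, 2, 1, 3, 4, 5, 0]), (22, [4, 3, 2]), (22, [3, 2]), (22, [5, 4, 3, 2, 1, 3, 4, 5, 2, 0]), (22, [2]), (22, [5, 4, 3, 2, 1, 3, 4, 5, 3, 2, 0]), (22, [5, 4, 3, 2, 1, 3, 4, 5, 1, 3, 2]), (22, []), (22, [5, 4, 3, 2, 1, 3, 4, 5, 4, 3, 2]), (22, [5, 4, 3, 2, 1, 3, 4, 5, 3, 2]), (22, [5, 4, 3, 2, 1, 3, 4, 5, 2]), (22, [5, 4, 3, 2, 1, 3, 4, 5])],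
  [(23, []), (10, [3, 2, 1, 3, 0, 2, 1]), (23, [4]), (10, [4, 2, 1, 3, 0, 2, 1]), (10, [2, 1, 3, 0, 2, 1]), (23, [3, 4]), (9, [3, 4, 1, 3]), (9, [4, 1, 3]), (9, [1, 3]), (23, [1, 3, 4, 5]), (10, [3, 4, 2, 3, 0, 2, 1]), (10, [4, 2, 3, 0, 2, 1]), (10, [2, 3, 0, 2, 1]), (23, [1, 3, 4]), (9, [4, 3]), (9, [3]), (23, [3, 4, 5]), (9, []), (23, [4, 5]), (23, [5]), (21, [0]), (9, [0, 2, 3, 4, 1, 3, 0]), (9, [0, 2, 3, 4, 2, 1, 3, 0]), (9, [2, 1, 3, 4, 2, 1, 3]), (23, [0, 2, 3, 4, 1, 3, 2]), (9, [2, 3, 4, 3, 2, 1, 3]), (9, [2, 3, 4, 2, 1, 3]), (23, [0, 2, 1, 3, 4, 1, 3, 2]), (9, [2, 3, 4, 1, 3]), (23, [3, 0, 2, 1, 3, 4, 1, 3, 2]), (23, [4, 3, 0, 2, 1, 3, 4, 1, 3, 2]), (21, []), (23, [4,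 3, 2, 1, 3, 4, 5, 1, 3, 2, 0]), (23, [3, 2, 1, 3, 4, 5, 1, 3, 2, 0]), (23, [2, 1, 3, 4, 5, 1, 3, 2, 0]), (23, [2, 3, 4, 5, 1, 3, 2, 0])],
  [(22, []), (14, [5, 3, 4, 2, 3, 0, 2, 1, 3, 4, 5, 2, 3, 0, 2, 1, 3, 4, 1, 0]), (14, [4, 5, 3, 4, 2, 3, 0, 2, 1, 3, 4, 5, 2, 3, 0, 2, 1, 3, 4, 1, 0]), (16, [0, 2, 1, 3, 4, 5, 3, 4, 0, 2, 3, 2, 1, 0]), (14, [5, 4, 2, 3, 0, 2, 1, 3, 4, 5, 2, 3, 0, 2, 1, 3, 4, 1, 0]), (14, [4, 5, 3, 4, 2, 3, 0, 2, 1, 3, 4, 5, 4, 2, 3, 0, 2, 1, 3, 4, 1, 0]), (14, [3, 4, 5, 1, 3, 4]), (14, [4, 5, 1, 3, 4]), (14, [4, 2, 3, 0, 2, 1, 3, 4, 5, 3, 0, 2, 1, 3, 4, 0]), (15, [1, 3]), (16, [0, 2, 3, 4, 5, 2, 3, 4, 0, 2, 3, 2, 1, 0]), (16, [0, 2, 3, 4, 5, 3, 4, 0, 2, 3, 2,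 1, 0]), (14, [5, 4, 2, 3, 0, 2, 1, 3, 4, 5, 3, 0, 2, 1, 3, 4, 1, 0]), (14, [4, 5, 1, 3, 4, 2, 3, 0, 2, 1, 3, 4, 5, 4, 2, 3, 0, 2, 1, 3, 4, 1, 0]), (14, [4, 5, 3, 4]), (14, [4, 2, 3, 0, 2, 1, 3, 4, 5, 2, 3, 0, 2, 1, 3, 4, 0]), (15, [3]), (14, [3, 4, 2, 3, 0, 2, 1, 3, 4, 5, 2, 3, 0, 2, 1, 3, 4, 0]), (15, []), (22, [5]), (22, [2, 3, 4, 5, 1, 3, 4, 2, 3, 0, 2, 1, 3, 4, 5, 0]), (14, [0, 2, 3, 4, 5, 1, 3, 4, 0]), (14, [0, 2, 3, 4, 5, 2, 1, 3, 4, 0]), (15, [0, 2, 3, 4, 3, 2, 1, 3, 0]), (14, [2, 1, 3, 4, 5, 2, 1, 3, 4]), (14, [0, 2, 1, 3, 4, 5, 2, 1, 3, 4, 0]), (15, [0, 2, 1, 3, 4, 3, 2, 1, 3, 0]), (14, [2, 3, 4, 5, 2, 1, 3, 4]), (15, [3, 0, 2, 1, 3, 4, 3, 2, 1, 3, 0]), (14, [2, 3, 4,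 5, 1, 3, 4]), (22, [4, 3, 0, 2, 1, 3, 4, 5, 1, 3, 2]), (22, [5, 4, 3, 2, 1, 3, 4, 5, 4, 3, 2]), (22, [0, 2, 3, 4, 5, 1, 3, 4, 2, 3, 0, 2, 1, 3, 4, 5, 0]), (15, [5, 4, 3, 2, 1, 3, 4, 3, 2, 1, 3]), (15, [2, 1, 3, 4, 5, 4, 3, 2, 1, 3]), (15, [2, 3, 4, 5, 4, 3, 2, 1, 3])],
  [(15, [4, 3, 2, 1, 3, 4, 2, 3, 0, 2, 1, 3, 0]), (15, [2, 3, 0, 2, 1, 3, 4, 5, 4, 3, 0, 2, 1, 3, 0]), (15, [3, 2, 1, 3, 4, 0, 2, 1, 3]), (15, [0, 2, 1, 3, 4, 5, 3, 4, 2, 3, 0, 2, 1, 3, 0]), (15, [0, 2, 1, 3, 4, 5, 4, 3, 0, 2, 1, 3, 0]), (15, [2, 1, 3, 4, 0, 2, 3]), (15, [3, 0, 2, 1, 3, 4, 5, 3, 4, 2, 3, 0, 2, 1, 3, 0]), (15, [1, 3, 4, 5, 4, 3, 0, 2, 1, 3, 4, 3, 2, 1, 3, 0]), (15, [5, 4, 3, 0, 2, 1, 3, 4, 3, 2,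 1, 3, 0]), (15, [1, 3, 4, 0, 2, 1, 3]), (15, [0, 2, 1, 3, 4, 5, 2, 3, 4, 3, 0, 2, 1, 3, 0]), (15, [4, 2, 3, 0, 2, 1, 3, 4, 5, 4, 3, 0, 2, 1, 3, 0]), (15, [0, 2, 3, 4, 5, 0, 2, 3, 4, 3, 2, 1, 3, 0]), (15, [2, 3, 4, 3, 0, 2, 1, 3, 0]), (15, [4, 3, 0, 2, 1, 3, 4, 5, 3, 4, 3, 0, 2, 1, 3, 0]), (15, [0, 2, 3, 4, 5, 2, 3, 4, 3, 0, 2, 1, 3, 0]), (15, [3, 4, 2, 3, 0, 2, 1, 3, 0]), (15, [0, 2, 3, 4, 5, 3, 4, 3, 2, 1, 3, 0]), (15, [4, 3, 0, 2, 1, 3, 0]), (15, [0, 2, 3]), (15, [0, 2, 3, 4, 5, 3, 2, 1, 3, 4, 2, 1, 3]), (15, [0, 2, 1, 3, 4, 5, 1, 3, 4, 0, 2, 1, 3]), (15, [2, 3, 0, 2, 1, 3, 4, 5, 1, 3, 4, 0, 2, 1, 3]), (15, [5, 4, 3, 2, 1, 3, 4, 2, 3, 0, 2, 1, 3, 0]), (15, [1, 3, 4, 5, 2, 1,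 3, 4, 1, 3]), (15, [0, 2, 1, 3, 4, 5, 2, 1, 3, 4, 0, 2, 3]), (15, [2, 3, 4, 5, 4, 3, 2, 1, 3, 4, 0, 2, 1, 3]), (15, [2, 3, 4, 5, 3, 2, 1, 3, 4, 2, 1, 3]), (15, [4, 5, 4, 3, 2, 1, 3, 4, 0, 2, 1, 3]), (15, [4, 5, 3, 2, 1, 3, 4, 2, 1, 3]), (15, [5, 2, 3, 4, 1, 3]), (15, [3, 4, 5, 4, 3, 2, 1, 3, 4, 0, 2, 3]), (15, [1, 3, 4, 5, 1, 3, 4, 2, 1, 3]), (15, [5, 3, 4, 2, 1, 3]), (15, [5, 4, 1, 3]), (15, [4, 5, 3, 4, 2, 3])]]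
  pairs := [(1, 1), (0, 0), (2, 2), (2, 2), (3, 3), (6, 6), (2, 2), (4, 4), (5, 5), (6, 6), (4, 4), (3, 3), (6, 6), (8, 8), (10, 10), (6, 6), (6, 6), (4, 4), (4, 6), (9, 9), (6, 6), (2, 2), (4, 4), (6, 6), (3, 3)]

set_option maxRecDepth 8000 in
theorem classesE6_check : classesE6.check certFullE6.T = true := by decide +kernel

end Cfsg.Agent.Lie.Chev
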