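import Cfsg.Agent.Lib.Lie.Chev.ReeTorus

/-! The two classes of cyclic Hall subgroups of orders `q ∓ r + 1` of a small Ree group. -/

set_option autoImplicit false
set_option maxRecDepth 4000

namespace Cfsg.Agent.Lie.Chev.G2

open Cfsg.Lie

/-- The number `q² - q + 1`. -/
abbrev qphi (m : ℕ) : ℕ := (3 ^ (2 * m + 1)) ^ 2 - 3 ^ (2 * m + 1) + 1

section Arith

variable (m : ℕ)

theorem qphi_cast : ((qphi m : ℕ) : ℤ) =
    ((3 ^ (2 * m + 1) : ℕ) : ℤ) ^ 2 - ((3 ^ (2 * m + 1) : ℕ) : ℤ) + 1 := by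
  rw [qphi, Nat.cast_add, Nat.cast_sub (Nat.le_self_pow (by norm_num) _)]
  push_cast
  ring

theorem eq_one_of_dvd_qphi {d : ℕ} (h1 : d ∣ qphi m)
    (h2 : d ∣ 3 ∨ d ∣ 3 ^ (2 * m + 1) - 1 ∨ d ∣ 3 ^ (2 * m + 1) + 1) : d = 1 := by
  by_contra hne
  obtain ⟨p, hp, hpd⟩ := Nat.exists_prime_and_dvd hne
  obtain ⟨h3, h4, h5⟩ := phi_props m hp (hpd.trans h1)
  rcases h2 with h | h | h
  · have := Nat.le_of_dvd (by norm_num) (hpd.trans h)
    omega
  · exact h4 (hpd.trans h)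
  · exact h5 (hpd.trans h)

theorem qphi_not_even : ¬ 2 ∣ qphi m := fun h => by
  have := (phi_props m Nat.prime_two h).1
  omega

theorem two_qk_dvd : 2 * qk m ∣ 3 ^ (2 * m + 1) + 1 := ⟨2, by rw [(qk_eq m).1]; ring⟩

theorem dvd_two_of_dvd {d : ℕ} (h1 : d ∣ 3 ^ (2 * m + 1) - 1) (h2 : d ∣ 2 * qk m) : d ∣ 2 := by
  have h := Nat.dvd_sub (h2.trans (two_qk_dvd m)) h1
  have h1' : 1 ≤ 3 ^ (2 * m + 1) := Nat.one_le_pow _ _ (by norm_num)
  rwa [show 3 ^ (2 * m + 1) + 1 - (3 ^ (2 * m + 1) - 1) = 2 by omega] at h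

theorem not_three_dvd {d : ℕ} (hd : 3 ∣ d) :
    ¬ d ∣ 3 ^ (2 * m + 1) - 1 ∧ ¬ d ∣ 2 * qk m ∧ ¬ d ∣ qphi m := by
  obtain ⟨-, h30⟩ := q_mod m
  have h1' : 1 ≤ 3 ^ (2 * m + 1) := Nat.one_le_pow _ _ (by norm_num)
  refine ⟨fun h => ?_, fun h => ?_, fun h => ?_⟩
  · have := hd.trans h
    omega
  · have := (hd.trans h).trans (two_qk_dvd m)
    omega
  · have := (phi_props m Nat.prime_three (hd.trans h)).1
    omega

end Arith

variable {K : Type*} [Field K] (f : K →+* K) [CharP K 3] [ExpChar K 3]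
variable [Fintype K] {m : ℕ} (hf : ∀ t, f t = t ^ 3 ^ m) (hK : Fintype.card K = 3 ^ (2 * m + 1))

include hf hK

local notation "G₁" => twistedG2 K (3 ^ m)

theorem qphi_dvd_card : qphi m ∣ Nat.card ↥G₁ := by
  rw [card_G f hf hK]
  exact dvd_mul_of_dvd_right (dvd_mul_left _ _) _

variable (hm : 1 ≤ m)

include hm

/-- The kinds of elements. -/
theorem orderOf_cases (g : ↥G₁) :
    orderOf g = 1 ∨ orderOf g = 2 ∨ orderOf g = 3 ∨ orderOf g = 6 ∨ orderOf g = 9 ∨
      (2 < orderOf g ∧ orderOf g ∣ 3 ^ (2 * m + 1) - 1) ∨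
      (2 < orderOf g ∧ orderOf g ∣ 2 * qk m) ∨ (1 < orderOf g ∧ orderOf g ∣ qphi m) := by
  set n := orderOf g with hn
  have hn0 : 0 < n := orderOf_pos g
  rcases Nat.lt_or_ge 2 n with h2 | h2
  swap
  · omega
  by_cases h3 : 3 ∣ n
  · rcases orderOf_three_dvd f hf hK hm h3 with h | h | h <;> omega
  obtain ⟨p, hp, hp2, hpd⟩ : ∃ p : ℕ, p.Prime ∧ p ≠ 2 ∧ p ∣ n := by
    by_contra hne
    simp only [not_exists, not_and] at hne
    obtain ⟨k, hk⟩ : ∃ k, n = 2 ^ k :=
      ⟨_, Nat.eq_prime_pow_of_unique_prime_dvd hn0.ne' fun {d} hd hdd =>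
        by_contra fun h => hne d hd h hdd⟩
    have h4 : 4 ∣ n := by
      rcases k with _ | _ | k
      · rw [hk] at h2; norm_num at h2
      · rw [hk] at h2; norm_num at h2
      · exact ⟨2 ^ k, by rw [hk]; ring⟩
    obtain ⟨j, hj⟩ := h4
    have hj0 : j ≠ 0 := by omega
    refine orderOf_ne_four f hf hK (g ^ j) ?_
    rw [orderOf_pow' g hj0, ← hn, hj, Nat.gcd_eq_right (dvd_mul_left j 4),
      Nat.mul_div_cancel _ (Nat.pos_of_ne_zero hj0)]
  obtain ⟨i, hi⟩ := exists_prime_power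
    (fun e => by rw [hn, e, orderOf_one] at h2; omega) hp hpd
  have hgC : g ∈ Subgroup.centralizer {g ^ i} :=
    Subgroup.mem_centralizer_singleton_iff.2 (Commute.self_pow g i).eq
  rcases prime_cases f hf hK hp (hpd.trans (orderOf_dvd_natCard g)) with h | h | h | h
  · exact absurd (h ▸ hpd) h3
  · have := Subgroup.orderOf_dvd_natCard _ hgC
    rw [minus_card f hf hK hp hp2 h hi, ← hn] at this
    exact Or.inr (Or.inr (Or.inr (Or.inr (Or.inr (Or.inl ⟨h2, this⟩)))))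
  · haveI := Fact.mk hp
    obtain ⟨c, hc⟩ := exists_conj_mem_of_full (Subgroup.zpowers (ww f hf hK hm)) (p := p) (k := 1)
      (x := g ^ i) (zpowers_ww_full f hf hK hm hp hp2 h)
      (by rw [pow_one, ← hi, pow_orderOf_eq_one])
    have hc1 : c * g ^ i * c⁻¹ ≠ 1 := fun e => by
      rw [conj_eq_one_iff] at e; rw [e, orderOf_one] at hi; exact hp.ne_one hi.symm
    have hgT := conj_mem_centralizer c hgC
    rw [(prime_pow_centralizer f hf hK hm hc hc1).1] at hgT
    have := orderOf_dvd_of_mem f hf hK hm hgT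
    rw [orderOf_conj_eq, ← hn] at this
    exact Or.inr (Or.inr (Or.inr (Or.inr (Or.inr (Or.inr (Or.inl ⟨h2, this⟩))))))
  · have := (Subgroup.orderOf_dvd_natCard _ hgC).trans (phi_centralizer_dvd f hf hK hm hp h hi)
    rw [← hn] at this
    exact Or.inr (Or.inr (Or.inr (Or.inr (Or.inr (Or.inr (Or.inr ⟨by omega, this⟩))))))

/-- The number of the elements of order dividing `q² - q + 1`. -/
theorem card_phi :
    3 * ((Nat.card {g : ↥G₁ // 1 < orderOf g ∧ orderOf g ∣ qphi m} : ℕ) : ℤ) =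
      ((3 ^ (2 * m + 1) : ℕ) : ℤ) ^ 4 * (((3 ^ (2 * m + 1) : ℕ) : ℤ) ^ 2 - 1) *
        (((3 ^ (2 * m + 1) : ℕ) : ℤ) - 2) := by
  classical
  cases nonempty_fintype ↥G₁
  set A : ↥G₁ → Prop := fun g => 2 < orderOf g ∧ orderOf g ∣ 3 ^ (2 * m + 1) - 1 with hA
  set B : ↥G₁ → Prop := fun g => 2 < orderOf g ∧ orderOf g ∣ 2 * qk m with hB
  set C : ↥G₁ → Prop := fun g => 1 < orderOf g ∧ orderOf g ∣ qphi m with hC
  have key : ∀ g : ↥G₁, (if orderOf g = 1 then 1 else 0) + (if orderOf g = 2 then 1 else 0) +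
      (if orderOf g = 3 then 1 else 0) + (if orderOf g = 6 then 1 else 0) +
      (if orderOf g = 9 then 1 else 0) + (if A g then 1 else 0) + (if B g then 1 else 0) +
      (if C g then 1 else 0) = (1 : ℕ) := by
    intro g
    have n3 := fun {d : ℕ} (h : 3 ∣ d) => not_three_dvd m h
    have hAB : A g → ¬ B g := fun ha hb => by
      have := Nat.le_of_dvd (by norm_num) (dvd_two_of_dvd m ha.2 hb.2)
      exact absurd ha.1 (by omega)
    have hAC : A g → ¬ C g := fun ha hc => by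
      have := eq_one_of_dvd_qphi m hc.2 (Or.inr (Or.inl ha.2))
      exact absurd hc.1 (by omega)
    have hBC : B g → ¬ C g := fun hb hc => by
      have := eq_one_of_dvd_qphi m hc.2 (Or.inr (Or.inr (hb.2.trans (two_qk_dvd m))))
      exact absurd hc.1 (by omega)
    have h2C : orderOf g = 2 → ¬ C g := fun e hc => qphi_not_even m (e ▸ hc.2)
    have hsmall : (orderOf g = 3 ∨ orderOf g = 6 ∨ orderOf g = 9) → ¬ A g ∧ ¬ B g ∧ ¬ C g := by
      intro h
      obtain ⟨e1, e2, e3⟩ := n3 (d := orderOf g) (by omega)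
      exact ⟨fun h => e1 h.2, fun h => e2 h.2, fun h => e3 h.2⟩
    have hnA : orderOf g ≤ 2 → ¬ A g ∧ ¬ B g := fun h => ⟨fun a => by have := a.1; omega,
      fun a => by have := a.1; omega⟩
    rcases orderOf_cases f hf hK hm g with h | h | h | h | h | h | h | h
    · obtain ⟨a1, a2⟩ := hnA (by omega)
      have a3 : ¬ C g := fun c => by have := c.1; omega
      simp [h, a1, a2, a3]
    · obtain ⟨a1, a2⟩ := hnA (by omega)
      simp [h, a1, a2, h2C h]
    · obtain ⟨a1, a2, a3⟩ := hsmall (by omega); simp [h, a1, a2, a3]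
    · obtain ⟨a1, a2, a3⟩ := hsmall (by omega); simp [h, a1, a2, a3]
    · obtain ⟨a1, a2, a3⟩ := hsmall (by omega); simp [h, a1, a2, a3]
    · change A g at h
      have h' := h.1
      have n : ¬ 3 ∣ orderOf g := fun e => (n3 e).1 h.2
      rw [if_neg (by omega), if_neg (by omega), if_neg (by omega), if_neg (by omega),
        if_neg (by omega), if_pos h, if_neg (hAB h), if_neg (hAC h)]
    · change B g at h
      have h' := h.1
      have n : ¬ 3 ∣ orderOf g := fun e => (n3 e).2.1 h.2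
      rw [if_neg (by omega), if_neg (by omega), if_neg (by omega), if_neg (by omega),
        if_neg (by omega), if_neg (fun a => hAB a h), if_pos h, if_neg (hBC h)]
    · change C g at h
      have h' := h.1
      have n : ¬ 3 ∣ orderOf g := fun e => (n3 e).2.2 h.2
      have n2 : orderOf g ≠ 2 := fun e => h2C e h
      rw [if_neg (by omega), if_neg n2, if_neg (by omega), if_neg (by omega),
        if_neg (by omega), if_neg (fun a => hAC a h), if_neg (fun a => hBC a h), if_pos h]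
  have htot := Finset.sum_congr (s₁ := (Finset.univ : Finset ↥G₁)) rfl fun g _ => key g
  simp only [Finset.sum_add_distrib, Finset.sum_boole, Nat.cast_id, Finset.sum_const, smul_eq_mul,
    mul_one, Finset.card_univ] at htot
  simp only [← Fintype.card_subtype, ← Nat.card_eq_fintype_card] at htot
  have cnt : ∀ (D : ↥G₁ → Prop) (inst : DecidablePred D),
      (∑ x, if D x then (1 : ℕ) else 0) = Nat.card {g : ↥G₁ // D g} := fun D inst => by
    rw [Nat.card_eq_fintype_card, Fintype.card_subtype, Finset.card_filter]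
  rw [cnt A, cnt B, cnt C] at htot
  have h1 : Nat.card {g : ↥G₁ // orderOf g = 1} = 1 := by
    rw [Nat.card_congr (Equiv.subtypeEquivRight (q := fun g : ↥G₁ => g = 1)
      fun g => orderOf_eq_one_iff)]
    simp
  rw [h1, card_order_two f hf hK hm, card_orderOf_three f hf hK, card_orderOf_six f hf hK hm,
    card_orderOf_nine f hf hK] at htot
  have hH := card_minus f hf hK hm
  have hT := card_plus f hf hK hm
  rw [card_G f hf hK] at htot hH hT
  have hq := q_large m hm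
  have hphi := qphi_cast m
  set nA := Nat.card {g : ↥G₁ // A g}
  set nB := Nat.card {g : ↥G₁ // B g}
  set nC := Nat.card {g : ↥G₁ // C g}
  change nA * _ = _ at hH
  change nB * _ = _ at hT
  zify [show 1 ≤ 3 ^ (2 * m + 1) by omega, show 3 ≤ 3 ^ (2 * m + 1) by omega,
    show 1 ≤ (3 ^ (2 * m + 1)) ^ 2 from Nat.one_le_pow _ _ (by positivity),
    Nat.le_self_pow (show 2 ≠ 0 by norm_num) (3 ^ (2 * m + 1))] at htot hH hT
  push_cast
  set q : ℤ := (3 : ℤ) ^ (2 * m + 1) with hqdef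
  have hq' : (27 : ℤ) ≤ q := by rw [hqdef]; exact_mod_cast hq
  have eA : 2 * (nA : ℤ) = q ^ 3 * (q + 1) * (q ^ 2 - q + 1) * (q - 3) := by
    refine mul_right_cancel₀ (b := q - 1) (by omega) ?_
    linear_combination hH
  have eB : 6 * (nB : ℤ) = q ^ 3 * (q - 1) * (q ^ 2 - q + 1) * (q - 3) := by
    refine mul_right_cancel₀ (b := q + 1) (by omega) ?_
    linear_combination hT
  refine mul_left_cancel₀ (show (2 : ℤ) ≠ 0 by norm_num) ?_
  linear_combination 6 * htot - 3 * eA - eB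

/-- The centralisers of the elements of prime order dividing `q² - q + 1`. -/
def IsHallPart (A : Subgroup ↥G₁) : Prop :=
  ∃ (p : ℕ) (x : ↥G₁), p.Prime ∧ p ∣ qphi m ∧ orderOf x = p ∧ A = Subgroup.centralizer {x}

theorem IsHallPart.basic {A : Subgroup ↥G₁} (hA : IsHallPart A) :
    IsCyclic ↥A ∧ Nat.card ↥A ∣ qphi m ∧ 5 ≤ Nat.card ↥A := by
  obtain ⟨p, x, hp, hpd, hx, rfl⟩ := hA
  refine ⟨phi_centralizer_cyclic f hf hK hm hp hpd hx, phi_centralizer_dvd f hf hK hm hp hpd hx, ?_⟩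
  have h := Subgroup.orderOf_dvd_natCard (Subgroup.centralizer {x})
    (Subgroup.mem_centralizer_singleton_iff.2 rfl)
  rw [hx] at h
  have h3 := (phi_props m hp hpd).1
  have h4 : p ≠ 4 := fun e => by rw [e] at hp; norm_num at hp
  have := Nat.le_of_dvd Nat.card_pos h
  omega

theorem IsHallPart.centralizer_eq {A : Subgroup ↥G₁} (hA : IsHallPart A) {a : ↥G₁}
    (ha : a ∈ A) (ha1 : a ≠ 1) : Subgroup.centralizer {a} = A := by
  obtain ⟨hcyc, hdvd, -⟩ := hA.basic f hf hK hm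
  obtain ⟨p, x, hp, hpd, hx, rfl⟩ := hA
  letI := hcyc.commGroup
  refine le_antisymm ?_ fun g hg => Subgroup.mem_centralizer_singleton_iff.2
    (congrArg Subtype.val (mul_comm (⟨g, hg⟩ : ↥(Subgroup.centralizer {x})) ⟨a, ha⟩))
  obtain ⟨r, hr, hrd⟩ := Nat.exists_prime_and_dvd (fun e => ha1 (orderOf_eq_one_iff.1 e))
  obtain ⟨i, hi⟩ := exists_prime_power ha1 hr hrd
  have hrphi : r ∣ qphi m := (hrd.trans (Subgroup.orderOf_dvd_natCard _ ha)).trans hdvd
  letI := (phi_centralizer_cyclic f hf hK hm hr hrphi hi).commGroup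
  have hxC : x ∈ Subgroup.centralizer {a ^ i} := mem_centralizer_comm.1 (pow_mem ha i)
  intro g hg
  have hgC : g ∈ Subgroup.centralizer {a ^ i} := by
    rw [Subgroup.mem_centralizer_singleton_iff] at hg ⊢
    exact ((show Commute g a from hg).pow_right i).eq
  exact Subgroup.mem_centralizer_singleton_iff.2
    (congrArg Subtype.val (mul_comm (⟨g, hgC⟩ : ↥(Subgroup.centralizer {a ^ i})) ⟨x, hxC⟩))

theorem IsHallPart.ti {A : Subgroup ↥G₁} (hA : IsHallPart A) {g a : ↥G₁}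
    (ha : a ∈ A) (ha1 : a ≠ 1) (hg : g * a * g⁻¹ ∈ A) :
    g ∈ Subgroup.normalizer (A : Set ↥G₁) :=
  mem_normalizer_of_centralizer (hA.centralizer_eq f hf hK hm ha ha1)
    (hA.centralizer_eq f hf hK hm hg fun e => ha1 (conj_eq_one_iff.1 e))

theorem IsHallPart.full {A : Subgroup ↥G₁} (hA : IsHallPart A) {r : ℕ} (hr : r.Prime)
    (hrd : r ∣ Nat.card ↥A) :
    (Nat.card ↥G₁).factorization r ≤ (Nat.card ↥A).factorization r := by
  haveI := Fact.mk hr
  obtain ⟨z, hz⟩ := exists_prime_orderOf_dvd_card' r hrd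
  rw [← Subgroup.orderOf_coe] at hz
  have hp : IsPGroup r ↥(Subgroup.zpowers (z : ↥G₁)) :=
    IsPGroup.of_card (n := 1) (by rw [Nat.card_zpowers, hz, pow_one])
  obtain ⟨P, hP⟩ := hp.exists_le_sylow
  have hzP : (z : ↥G₁) ∈ (P : Subgroup ↥G₁) := hP (Subgroup.mem_zpowers _)
  haveI : Nontrivial ↥(P : Subgroup ↥G₁) := ⟨⟨z, hzP⟩, 1, fun e => by
    have : (z : ↥G₁) = 1 := congrArg Subtype.val e
    rw [this, orderOf_one] at hz
    exact hr.ne_one hz.symm⟩
  haveI := P.2.center_nontrivial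
  obtain ⟨c, hc⟩ := exists_ne (1 : ↥(Subgroup.center ↥(P : Subgroup ↥G₁)))
  have hcz : ((c : ↥(P : Subgroup ↥G₁)) : ↥G₁) ≠ 1 := fun e => hc (Subtype.ext (Subtype.ext e))
  have hz1 : (z : ↥G₁) ≠ 1 := fun e => by rw [e, orderOf_one] at hz; exact hr.ne_one hz.symm
  have hcA : ((c : ↥(P : Subgroup ↥G₁)) : ↥G₁) ∈ A := by
    rw [← hA.centralizer_eq f hf hK hm z.2 hz1]
    exact Subgroup.mem_centralizer_singleton_iff.2
      (congrArg Subtype.val ((Subgroup.mem_center_iff.1 c.2) ⟨z, hzP⟩)).symm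
  have hle : (P : Subgroup ↥G₁) ≤ A := by
    rw [← hA.centralizer_eq f hf hK hm hcA hcz]
    exact fun g hg => Subgroup.mem_centralizer_singleton_iff.2
      (congrArg Subtype.val ((Subgroup.mem_center_iff.1 c.2) ⟨g, hg⟩))
  have h := Subgroup.card_dvd_of_le hle
  rw [P.card_eq_multiplicity] at h
  exact (hr.pow_dvd_iff_le_factorization Nat.card_pos.ne').1 h

theorem exists_hallPart {g : ↥G₁} (h1 : 1 < orderOf g) (hd : orderOf g ∣ qphi m) :
    ∃ A, IsHallPart A ∧ g ∈ A := by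
  obtain ⟨p, hp, hpd⟩ := Nat.exists_prime_and_dvd (show orderOf g ≠ 1 by omega)
  obtain ⟨i, hi⟩ := exists_prime_power (fun e => by rw [e, orderOf_one] at h1; omega) hp hpd
  exact ⟨_, ⟨p, g ^ i, hp, hpd.trans hd, hi, rfl⟩,
    Subgroup.mem_centralizer_singleton_iff.2 (Commute.self_pow g i).eq⟩

/-- Two such subgroups whose orders have a common prime are conjugate. -/
theorem IsHallPart.conj_of_prime {A B : Subgroup ↥G₁} (hA : IsHallPart A)
    (hB : IsHallPart B) {r : ℕ} (hr : r.Prime) (hrA : r ∣ Nat.card ↥A)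
    (hrB : r ∣ Nat.card ↥B) : ∃ c, ∀ b ∈ B, c * b * c⁻¹ ∈ A := by
  haveI := Fact.mk hr
  obtain ⟨z, hz⟩ := exists_prime_orderOf_dvd_card' r hrB
  rw [← Subgroup.orderOf_coe] at hz
  have hz1 : (z : ↥G₁) ≠ 1 := fun e => by rw [e, orderOf_one] at hz; exact hr.ne_one hz.symm
  obtain ⟨c, hc⟩ := exists_conj_mem_of_full A (p := r) (k := 1) (x := (z : ↥G₁))
    (hA.full f hf hK hm hr hrA) (by rw [pow_one, ← hz, pow_orderOf_eq_one])
  refine ⟨c, fun b hb => ?_⟩
  rw [← hA.centralizer_eq f hf hK hm hc fun e => hz1 (conj_eq_one_iff.1 e)]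
  exact conj_mem_centralizer c ((hB.centralizer_eq f hf hK hm z.2 hz1).ge hb)

theorem IsHallPart.index_dvd_six {A : Subgroup ↥G₁} (hA : IsHallPart A) :
    ∃ n, n ∣ 6 ∧ Nat.card ↥(Subgroup.normalizer (A : Set ↥G₁)) = n * Nat.card ↥A := by
  classical
  obtain ⟨hcyc, -, -⟩ := hA.basic f hf hK hm
  have hcent := fun {a : ↥G₁} => hA.centralizer_eq f hf hK hm (a := a)
  obtain ⟨p, x, hp, hpd, hx, hAx⟩ := hA
  haveI := Fact.mk hp
  obtain ⟨η, hη⟩ := exists_rep7 f hf hK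
  obtain ⟨hT1, hTp⟩ := rep_ne_one f hf hK hη hp hx
  set N := Subgroup.normalizer (A : Set ↥G₁) with hN
  have hxA : x ∈ A := hAx ▸ Subgroup.mem_centralizer_singleton_iff.2 rfl
  have hexp : ∀ n : ↥N, ∃ e : ℕ, (n : ↥G₁) * x * (n : ↥G₁)⁻¹ = x ^ e := by
    intro n
    have hmem : (n : ↥G₁) * x * (n : ↥G₁)⁻¹ ∈ A := (Subgroup.mem_normalizer_iff.1 n.2 x).1 hxA
    have e : Subgroup.zpowers ((n : ↥G₁) * x * (n : ↥G₁)⁻¹) = Subgroup.zpowers x :=
      eq_of_card_eq_of_cyclic hcyc (Subgroup.zpowers_le.2 hmem) (Subgroup.zpowers_le.2 hxA)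
        (by rw [Nat.card_zpowers, Nat.card_zpowers, orderOf_conj_eq])
    obtain ⟨e', he'⟩ := mem_powers_iff_mem_zpowers.2 (e.le (Subgroup.mem_zpowers _))
    exact ⟨e', he'.symm⟩
  choose ε hε using hexp
  have hinj : ∀ a b : ℕ, x ^ a = x ^ b ↔ (a : ZMod p) = b := fun a b => by
    rw [pow_eq_pow_iff_modEq, hx, ZMod.natCast_eq_natCast_iff']; rfl
  let ψ : ↥N →* ZMod p :=
    { toFun := fun n => (ε n : ZMod p)
      map_one' := by
        rw [← Nat.cast_one, ← hinj, pow_one, ← hε]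
        simp
      map_mul' := fun a b => by
        rw [← Nat.cast_mul, ← hinj, ← hε, Subgroup.coe_mul, mul_comm (ε a), pow_mul]
        calc (a : ↥G₁) * b * x * ((a : ↥G₁) * b)⁻¹
            = (a : ↥G₁) * ((b : ↥G₁) * x * (b : ↥G₁)⁻¹) * (a : ↥G₁)⁻¹ := by group
          _ = (a : ↥G₁) * x ^ ε b * (a : ↥G₁)⁻¹ := by rw [hε]
          _ = ((a : ↥G₁) * x * (a : ↥G₁)⁻¹) ^ ε b := by rw [conj_pow]
          _ = _ := by rw [hε, ← pow_mul, ← pow_mul, mul_comm] }
  have hsix : ∀ n, ψ n ^ 6 = 1 := by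
    intro n
    refine Seven.exponent_six (G := η n) (H := η ((n : ↥G₁)⁻¹)) (phi_props m hp hpd).1 (hK ▸ hpd)
      (η x) hTp (Module.finrank_fin_fun K) hT1
      (by rw [← map_mul, mul_inv_cancel, map_one]) (by rw [← map_mul, inv_mul_cancel, map_one]) ?_
    rw [← map_pow, ← map_mul, ← map_mul, ← hε, inv_mul_cancel_right]
  set χ := ψ.toHomUnits
  have hker : χ.ker = A.subgroupOf N := by
    ext n
    rw [MonoidHom.mem_ker, Units.ext_iff, MonoidHom.coe_toHomUnits, Units.val_one,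
      Subgroup.mem_subgroupOf]
    show (ε n : ZMod p) = 1 ↔ _
    rw [← Nat.cast_one, ← hinj, pow_one, ← hε, hAx, Subgroup.mem_centralizer_singleton_iff,
      mul_inv_eq_iff_eq_mul]
  refine ⟨Nat.card ↥χ.range, ?_, ?_⟩
  · haveI : IsCyclic ↥χ.range := Subgroup.isCyclic χ.range
    obtain ⟨u, hu⟩ := IsCyclic.exists_ofOrder_eq_natCard (α := ↥χ.range)
    rw [← hu]
    refine orderOf_dvd_of_pow_eq_one (Subtype.ext ?_)
    obtain ⟨n, hn⟩ := u.2
    rw [SubmonoidClass.coe_pow, ← hn]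
    refine Units.ext ?_
    rw [Units.val_pow_eq_pow_val, MonoidHom.coe_toHomUnits, hsix]
    rfl
  · rw [← Subgroup.index_ker, hker,
      ← Nat.card_congr (Subgroup.subgroupOfEquivOfLe (Subgroup.le_normalizer (H := A))).toEquiv,
      mul_comm]
    exact (Subgroup.card_mul_index _).symm

/-- The elements other than one with a conjugate in a subgroup. -/
def conjInto (A : Subgroup ↥G₁) : Set ↥G₁ := {g | g ≠ 1 ∧ ∃ c, c * g * c⁻¹ ∈ A}

theorem IsHallPart.card_conjInto {A : Subgroup ↥G₁} (hA : IsHallPart A) :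
    (conjInto A).ncard * Nat.card ↥(Subgroup.normalizer (A : Set ↥G₁)) + Nat.card ↥G₁ =
      Nat.card ↥G₁ * Nat.card ↥A := by
  classical
  have h := card_of_cover_subgroup (fun g : ↥G₁ => g ∈ conjInto A) A
    (fun g x hx => ⟨fun e => hx.1 (conj_eq_one_iff.1 e), hx.2.choose * g⁻¹, by
      have := hx.2.choose_spec
      rwa [show hx.2.choose * g⁻¹ * (g * x * g⁻¹) * (hx.2.choose * g⁻¹)⁻¹ =
        hx.2.choose * x * hx.2.choose⁻¹ by group]⟩)
    (fun x hx => hx.2)
    (fun g a ha hP h => hA.ti f hf hK hm ha hP.1 h)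
  have e : Nat.card {g : ↥G₁ // g ∈ conjInto A} = (conjInto A).ncard :=
    Nat.card_coe_set_eq _
  rw [← e, h]
  cases nonempty_fintype ↥A
  have e2 : Nat.card {a : ↥A // (a : ↥G₁) ∈ conjInto A} + 1 = Nat.card ↥A := by
    rw [Nat.card_congr (Equiv.subtypeEquivRight (q := fun a : ↥A => a ≠ 1) fun a =>
      ⟨fun h e => h.1 (by rw [e]; rfl),
        fun h => ⟨fun e => h (Subtype.ext e), 1, by simpa using a.2⟩⟩),
      Nat.card_eq_fintype_card, Nat.card_eq_fintype_card, Fintype.card_subtype_compl,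
      Fintype.card_subtype_eq]
    have := Fintype.card_pos (α := ↥A)
    omega
  rw [← e2]
  ring

theorem IsHallPart.conjInto_sub {A : Subgroup ↥G₁} (hA : IsHallPart A) {g : ↥G₁}
    (hg : g ∈ conjInto A) : 1 < orderOf g ∧ orderOf g ∣ qphi m := by
  obtain ⟨h1, c, hc⟩ := hg
  refine ⟨?_, ?_⟩
  · have := orderOf_pos g
    have : orderOf g ≠ 1 := fun e => h1 (orderOf_eq_one_iff.1 e)
    omega
  · rw [← orderOf_conj_eq c g]
    exact (Subgroup.orderOf_dvd_natCard _ hc).trans (hA.basic f hf hK hm).2.1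

theorem IsHallPart.disjoint {A B : Subgroup ↥G₁} (hA : IsHallPart A)
    (hB : IsHallPart B) {g : ↥G₁} (hg : g ∈ B) (hg1 : g ≠ 1)
    (hgA : g ∉ conjInto A) :
    Nat.Coprime (Nat.card ↥A) (Nat.card ↥B) ∧
      Disjoint (conjInto A) (conjInto B) := by
  have hcop : Nat.Coprime (Nat.card ↥A) (Nat.card ↥B) := Nat.coprime_of_dvd fun r hr h1 h2 => by
    obtain ⟨c, hc⟩ := hA.conj_of_prime f hf hK hm hB hr h1 h2
    exact hgA ⟨hg1, c, hc g hg⟩
  refine ⟨hcop, Set.disjoint_left.2 fun y hy hy' => ?_⟩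
  obtain ⟨hy1, c, hc⟩ := hy
  obtain ⟨-, d, hd⟩ := hy'
  refine hy1 (orderOf_eq_one_iff.1 (Nat.eq_one_of_dvd_coprimes hcop ?_ ?_))
  · rw [← orderOf_conj_eq c y]; exact Subgroup.orderOf_dvd_natCard _ hc
  · rw [← orderOf_conj_eq d y]; exact Subgroup.orderOf_dvd_natCard _ hd

set_option maxHeartbeats 1000000 in
/-- The two classes of cyclic Hall subgroups. -/
theorem exists_hall : ∃ A B : Subgroup ↥G₁,
    IsHallPart A ∧ IsHallPart B ∧
    Nat.card ↥A + 3 ^ (m + 1) = 3 ^ (2 * m + 1) + 1 ∧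
    Nat.card ↥B = 3 ^ (2 * m + 1) + 3 ^ (m + 1) + 1 ∧
    Nat.card ↥A * Nat.card ↥B = qphi m ∧
    Nat.Coprime (Nat.card ↥A) (Nat.card ↥B) ∧
    Nat.card ↥(Subgroup.normalizer (A : Set ↥G₁)) = 6 * Nat.card ↥A ∧
    Nat.card ↥(Subgroup.normalizer (B : Set ↥G₁)) = 6 * Nat.card ↥B ∧
    ∀ g : ↥G₁, 1 < orderOf g → orderOf g ∣ qphi m →
      (∃ c, c * g * c⁻¹ ∈ A) ∨ (∃ c, c * g * c⁻¹ ∈ B) := by
  classical
  set P : Set ↥G₁ := {g | 1 < orderOf g ∧ orderOf g ∣ qphi m} with hP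
  set q : ℤ := ((3 ^ (2 * m + 1) : ℕ) : ℤ) with hqdef
  set F : ℤ := ((qphi m : ℕ) : ℤ) with hFdef
  set γ : ℤ := q ^ 3 * (q ^ 2 - 1) with hγ
  have hq : (27 : ℤ) ≤ q := by rw [hqdef]; exact_mod_cast q_large m hm
  have hF : F = q ^ 2 - q + 1 := qphi_cast m
  have hγ0 : 0 < γ := by
    have : (0 : ℤ) < q ^ 2 - 1 := by nlinarith
    positivity
  have hcardP : 3 * (P.ncard : ℤ) = γ * (q * (q - 2)) := by
    have h := card_phi f hf hK hm
    rw [show Nat.card {g : ↥G₁ // 1 < orderOf g ∧ orderOf g ∣ qphi m} = P.ncard from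
      Nat.card_coe_set_eq _] at h
    rw [hγ, h]
    ring
  have hG : ((Nat.card ↥G₁ : ℕ) : ℤ) = γ * F := by
    rw [card_G f hf hK, hγ, hFdef, hqdef]
    push_cast [show 1 ≤ 3 ^ (2 * m + 1) from Nat.one_le_pow _ _ (by norm_num)]
    ring
  -- the data of one class
  have hclass : ∀ A : Subgroup ↥G₁, IsHallPart A → ∃ n : ℕ, n ∣ 6 ∧
      Nat.card ↥(Subgroup.normalizer (A : Set ↥G₁)) = n * Nat.card ↥A ∧
      ((conjInto A).ncard : ℤ) * n * (Nat.card ↥A : ℕ) =
        γ * F * (((Nat.card ↥A : ℕ) : ℤ) - 1) ∧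
      2 * (γ * F) ≤ 15 * ((conjInto A).ncard : ℤ) ∧
      (n ≠ 6 → 4 * (γ * F) ≤ 15 * ((conjInto A).ncard : ℤ)) := by
    intro A hA
    obtain ⟨n, hn, hN⟩ := hA.index_dvd_six f hf hK hm
    have h := hA.card_conjInto f hf hK hm
    rw [hN] at h
    have h5 : (5 : ℤ) ≤ (Nat.card ↥A : ℕ) := by exact_mod_cast (hA.basic f hf hK hm).2.2
    have e : ((conjInto A).ncard : ℤ) * n * (Nat.card ↥A : ℕ) =
        γ * F * (((Nat.card ↥A : ℕ) : ℤ) - 1) := by
      have h' := congrArg (fun z : ℕ => (z : ℤ)) h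
      simp only [Nat.cast_add, Nat.cast_mul] at h'
      rw [hG] at h'
      linear_combination h'
    have hbound : ∀ b : ℕ, n ≤ b → 4 * (γ * F) ≤
        5 * (b : ℤ) * ((conjInto A).ncard : ℤ) := by
      intro b hb
      set X : ℤ := ((conjInto A).ncard : ℤ)
      set a : ℤ := ((Nat.card ↥A : ℕ) : ℤ)
      have hX : 0 ≤ X := Int.natCast_nonneg _
      have h1 : X * n * a ≤ X * b * a :=
        mul_le_mul_of_nonneg_right (mul_le_mul_of_nonneg_left (by exact_mod_cast hb) hX) (by omega)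
      have hGF : 0 ≤ γ * F := by rw [← hG]; exact Int.natCast_nonneg _
      have h2 : γ * F * (4 * a) ≤ γ * F * (5 * (a - 1)) :=
        mul_le_mul_of_nonneg_left (by omega) hGF
      refine le_of_mul_le_mul_right (a := a) ?_ (by omega)
      nlinarith
    refine ⟨n, hn, hN, e, ?_, fun h6 => ?_⟩
    · have := hbound 6 (Nat.le_of_dvd (by norm_num) hn)
      push_cast at this
      linarith
    · have hn6 := Nat.le_of_dvd (by norm_num) hn
      have : n ≤ 3 := by
        have hn0 : n ≠ 0 := fun e => by rw [e] at hn; norm_num at hn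
        interval_cases n <;> omega
      have := hbound 3 this
      push_cast at this
      linarith
  have hsub : ∀ A : Subgroup ↥G₁, IsHallPart A → conjInto A ⊆ P :=
    fun A hA g hg => hA.conjInto_sub f hf hK hm hg
  have hbig : γ * (q * (q - 2)) * 5 < 6 * (γ * F) := by
    rw [hF]; nlinarith
  -- one class
  have hPne : P.Nonempty := by
    rw [Set.nonempty_iff_ne_empty]
    intro e
    rw [e, Set.ncard_empty] at hcardP
    have : (0 : ℤ) < γ * (q * (q - 2)) := by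
      have : (0 : ℤ) < q * (q - 2) := by nlinarith
      positivity
    simp at hcardP
    omega
  obtain ⟨g₁, hg₁⟩ := hPne
  obtain ⟨A, hA, -⟩ := exists_hallPart f hf hK hm hg₁.1 hg₁.2
  obtain ⟨nA, hnA6, hNA, eA, bA, bA'⟩ := hclass A hA
  obtain ⟨hAc, hAd, hA5⟩ := hA.basic f hf hK hm
  -- a second class
  obtain ⟨g₂, hg₂, hg₂A⟩ : ∃ g ∈ P, g ∉ conjInto A := by
    by_contra hne
    simp only [not_exists, not_and, not_not] at hne
    have e : conjInto A = P := Set.Subset.antisymm (hsub A hA) hne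
    rw [e] at eA
    obtain ⟨d, hd⟩ := hAd
    have hdF : F = (Nat.card ↥A : ℕ) * (d : ℤ) := by rw [hFdef, hd]; push_cast; rfl
    have ha5 : (5 : ℤ) ≤ ((Nat.card ↥A : ℕ) : ℤ) := by exact_mod_cast hA5
    set a : ℤ := ((Nat.card ↥A : ℕ) : ℤ)
    have h1 : (nA : ℤ) * (q * (q - 2)) = 3 * F - 3 * (d : ℤ) := by
      refine mul_left_cancel₀ (show γ * a ≠ 0 from mul_ne_zero hγ0.ne' (by omega)) ?_
      linear_combination 3 * eA - (nA : ℤ) * a * hcardP - 3 * γ * hdF
    have hd0 : (0 : ℤ) ≤ (d : ℤ) := Int.natCast_nonneg d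
    have h5d : 5 * (d : ℤ) ≤ F := by rw [hdF]; exact mul_le_mul_of_nonneg_right ha5 hd0
    have hn6 := Nat.le_of_dvd (by norm_num) hnA6
    rw [hF] at h1 h5d
    have hq2 : 27 * q ≤ q ^ 2 := by rw [sq]; exact mul_le_mul_of_nonneg_right hq (by linarith)
    interval_cases nA <;> norm_num at hnA6 <;> push_cast at h1
    · linarith
    · linarith
    · have hdq : d = 3 ^ (2 * m + 1) + 1 := by
        have : (d : ℤ) = ((3 ^ (2 * m + 1) + 1 : ℕ) : ℤ) := by
          rw [Nat.cast_add, Nat.cast_one, ← hqdef]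
          linarith
        exact_mod_cast this
      have h3 := eq_one_of_dvd_qphi m (d := d) ⟨Nat.card ↥A, by rw [hd, mul_comm]⟩
        (Or.inr (Or.inr (hdq ▸ dvd_rfl)))
      have := Nat.one_le_pow (2 * m + 1) 3 (by norm_num)
      omega
    · linarith
  obtain ⟨B, hB, hg₂B⟩ := exists_hallPart f hf hK hm hg₂.1 hg₂.2
  have hg₂1 : g₂ ≠ 1 := fun e => by
    have := hg₂.1
    rw [e, orderOf_one] at this
    omega
  obtain ⟨hcop, hdisj⟩ := hA.disjoint f hf hK hm hB hg₂B hg₂1 hg₂A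
  obtain ⟨nB, hnB6, hNB, eB, bB, bB'⟩ := hclass B hB
  have hle2 : ((conjInto A).ncard : ℤ) + (conjInto B).ncard ≤ P.ncard := by
    have h := Set.ncard_le_ncard (Set.union_subset (hsub A hA) (hsub B hB)) (Set.toFinite P)
    rw [Set.ncard_union_eq hdisj] at h
    exact_mod_cast h
  -- no third class
  have hcov : ∀ g ∈ P, g ∈ conjInto A ∪ conjInto B := by
    intro g hg
    by_contra hne
    rw [Set.mem_union, not_or] at hne
    obtain ⟨C, hC, hgC⟩ := exists_hallPart f hf hK hm hg.1 hg.2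
    have hg1 : g ≠ 1 := fun e => by
      have := hg.1
      rw [e, orderOf_one] at this
      omega
    obtain ⟨-, hd1⟩ := hA.disjoint f hf hK hm hC hgC hg1 hne.1
    obtain ⟨-, hd2⟩ := hB.disjoint f hf hK hm hC hgC hg1 hne.2
    obtain ⟨-, -, -, -, bC, -⟩ := hclass C hC
    have h := Set.ncard_le_ncard
      (Set.union_subset (Set.union_subset (hsub A hA) (hsub B hB)) (hsub C hC)) (Set.toFinite P)
    rw [Set.ncard_union_eq (Set.disjoint_union_left.2 ⟨hd1, hd2⟩),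
      Set.ncard_union_eq hdisj] at h
    have h' : ((conjInto A).ncard : ℤ) + (conjInto B).ncard +
        (conjInto C).ncard ≤ P.ncard := by exact_mod_cast h
    linarith
  have heq : ((conjInto A).ncard : ℤ) + (conjInto B).ncard = P.ncard := by
    refine le_antisymm hle2 ?_
    have h := (Set.ncard_le_ncard (show P ⊆ _ from hcov) (Set.toFinite _)).trans
      (Set.ncard_union_le _ _)
    exact_mod_cast h
  have hnA : nA = 6 := by
    by_contra hne
    have := bA' hne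
    linarith
  have hnB : nB = 6 := by
    by_contra hne
    have := bB' hne
    linarith
  obtain ⟨hBc, hBd, hB5⟩ := hB.basic f hf hK hm
  have hprod : Nat.card ↥A * Nat.card ↥B = qphi m := by
    refine Nat.dvd_antisymm (hcop.mul_dvd_of_dvd_of_dvd hAd hBd) ?_
    have h0 : qphi m ≠ 0 := Nat.succ_ne_zero _
    rw [← Nat.factorization_le_iff_dvd h0 (Nat.mul_pos Nat.card_pos Nat.card_pos).ne']
    intro r
    by_cases hr : r.Prime
    swap
    · simp [Nat.factorization_eq_zero_of_not_prime _ hr]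
    by_cases hrd : r ∣ qphi m
    swap
    · rw [Nat.factorization_eq_zero_of_not_dvd hrd]; exact Nat.zero_le _
    haveI := Fact.mk hr
    have hle := (Nat.factorization_le_iff_dvd h0 Nat.card_pos.ne').2 (qphi_dvd_card f hf hK) r
    obtain ⟨z, hz⟩ := exists_prime_orderOf_dvd_card' r (hrd.trans (qphi_dvd_card f hf hK))
    have hzP : z ∈ P := ⟨by rw [hz]; exact hr.one_lt, by rw [hz]; exact hrd⟩
    rw [Nat.factorization_mul Nat.card_pos.ne' Nat.card_pos.ne', Finsupp.add_apply]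
    rcases hcov z hzP with ⟨-, c, hc⟩ | ⟨-, c, hc⟩
    · have := Subgroup.orderOf_dvd_natCard _ hc
      rw [orderOf_conj_eq, hz] at this
      exact le_add_right (hle.trans (hA.full f hf hK hm hr this))
    · have := Subgroup.orderOf_dvd_natCard _ hc
      rw [orderOf_conj_eq, hz] at this
      exact le_add_left (hle.trans (hB.full f hf hK hm hr this))
  rw [hnA] at eA hNA
  rw [hnB] at eB hNB
  set a : ℤ := ((Nat.card ↥A : ℕ) : ℤ) with hadef
  set b : ℤ := ((Nat.card ↥B : ℕ) : ℤ) with hbdef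
  have hab : a * b = F := by rw [hadef, hbdef, hFdef, ← hprod]; push_cast; rfl
  have hsum : a + b = 2 * (q + 1) := by
    have hF0 : F ≠ 0 := by rw [hF]; nlinarith
    refine mul_left_cancel₀ (mul_ne_zero hγ0.ne' hF0) ?_
    push_cast at eA eB
    linear_combination b * eA + a * eB - 6 * a * b * heq - 2 * a * b * hcardP -
      (2 * γ * q * (q - 2) - 2 * γ * F) * hab + (2 * γ * F) * hF
  have hr : ((3 ^ (m + 1) : ℕ) : ℤ) ^ 2 = 3 * q := by
    rw [hqdef]; push_cast; ring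
  have hsq : (a - b) ^ 2 = (2 * ((3 ^ (m + 1) : ℕ) : ℤ)) ^ 2 := by
    linear_combination (a + b + 2 * (q + 1)) * hsum - 4 * hab - 4 * hF - 4 * hr
  have hcases := sq_eq_sq_iff_eq_or_eq_neg.1 hsq
  have hcov' : ∀ g : ↥G₁, 1 < orderOf g → orderOf g ∣ qphi m →
      (∃ c, c * g * c⁻¹ ∈ A) ∨ (∃ c, c * g * c⁻¹ ∈ B) := fun g h1 h2 =>
    (hcov g ⟨h1, h2⟩).imp And.right And.right
  have hqa : a = ((Nat.card ↥A : ℕ) : ℤ) := rfl
  rcases hcases with h | h
  · refine ⟨B, A, hB, hA, ?_, ?_, by rw [mul_comm]; exact hprod, hcop.symm, hNB, hNA,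
      fun g h1 h2 => (hcov' g h1 h2).symm⟩ <;>
    · rw [hqdef] at hsum
      omega
  · refine ⟨A, B, hA, hB, ?_, ?_, hprod, hcop, hNA, hNB, hcov'⟩ <;>
    · rw [hqdef] at hsum
      omega

end Cfsg.Agent.Lie.Chev.G2
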