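import Cfsg.Agent.Lib.Lie.Chev.AutBorel
import Cfsg.Agent.Lib.Lie.Chev.Parabolic

/-! The Borel–Tits theorem for finite Chevalley groups, by minimising a norm: to a `p`-subgroup is
attached a unique shortest point `g λ` of the building at which all its roots have level at least
one; the normaliser fixes it. -/

set_option autoImplicit false

namespace Cfsg.Agent.Lie.Chev

open Cfsg.Lie Matrix
open scoped Pointwise

namespace CertFull

variable {D : ChevalleyDatum} (c : CertFull D) {F : Type*} [Field F]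

/-- The value of a root at a point of the fundamental apartment. -/
def rootVal (r : ℕ) (x : Fin D.rank → ℝ) : ℝ := ∑ i : Fin D.rank, (c.T.vec r i : ℝ) * x i

/-- The invariant square norm. -/
def sqNorm (x : Fin D.rank → ℝ) : ℝ := ∑ r ∈ Finset.range D.nroots, c.rootVal r x ^ 2

/-- The positive roots of level at least one. -/
def lvlSet (x : Fin D.rank → ℝ) : Set ℕ := {r | c.Pos r ∧ 1 ≤ c.rootVal r x}

/-- The image of a point under a word. -/
def pushPt (L : List ℕ) (x : Fin D.rank → ℝ) : Fin D.rank → ℝ :=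
  fun i => c.rootVal (c.wl L.reverse (D.simple i)) x

include c

theorem rootVal_simple {q : ℕ} (hq : q < D.rank) (x : Fin D.rank → ℝ) :
    c.rootVal (D.simple q) x = x ⟨q, hq⟩ := by
  rw [rootVal, Finset.sum_eq_single (⟨q, hq⟩ : Fin D.rank)]
  · rw [c.vec_simple hq hq, if_pos rfl, Int.cast_one, one_mul]
  · intro b _ hb
    rw [c.vec_simple hq b.2, if_neg fun e => hb (Fin.ext e), Int.cast_zero, zero_mul]
  · simp

theorem rootVal_neg {r : ℕ} (hr : r < D.nroots) (x : Fin D.rank → ℝ) :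
    c.rootVal (D.neg r) x = -c.rootVal r x := by
  simp only [rootVal, ← Finset.sum_neg_distrib]
  exact Finset.sum_congr rfl fun i _ => by rw [c.vec_neg hr i.2, Int.cast_neg, neg_mul]

theorem rootVal_push {L : List ℕ} (hL : ∀ p ∈ L, p < D.rank) {s : ℕ} (hs : s < D.nroots)
    (x : Fin D.rank → ℝ) :
    c.rootVal s (c.pushPt L x) = c.rootVal (c.wl L.reverse s) x := by
  have hLr : ∀ p ∈ L.reverse, p < D.rank := fun p hp => hL p (List.mem_reverse.1 hp)
  have e : ∀ j : Fin D.rank, (c.T.vec (c.wl L.reverse s) j : ℝ) =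
      ∑ i : Fin D.rank, (c.T.vec s i : ℝ) * (c.T.vec (c.wl L.reverse (D.simple i)) j : ℝ) := by
    intro j
    rw [c.wl_vec hLr hs j.2, Finset.sum_range, Int.cast_sum]
    push_cast
    rfl
  simp only [rootVal, pushPt, e, Finset.mul_sum, Finset.sum_mul]
  rw [Finset.sum_comm]
  simp only [mul_assoc]

theorem sqNorm_push {L : List ℕ} (hL : ∀ p ∈ L, p < D.rank) (x : Fin D.rank → ℝ) :
    c.sqNorm (c.pushPt L x) = c.sqNorm x := by
  have hLr : ∀ p ∈ L.reverse, p < D.rank := fun p hp => hL p (List.mem_reverse.1 hp)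
  simp only [sqNorm]
  refine Finset.sum_nbij' (fun s => c.wl L.reverse s) (fun s => c.wl L s) ?_ ?_ ?_ ?_ ?_
  · intro s hs; simpa using c.wl_lt hLr (Finset.mem_range.1 hs)
  · intro s hs; simpa using c.wl_lt hL (Finset.mem_range.1 hs)
  · intro s hs; exact c.wl_reverse hL (Finset.mem_range.1 hs)
  · intro s hs
    have := c.wl_reverse hLr (Finset.mem_range.1 hs)
    simpa using this
  · intro s hs
    rw [c.rootVal_push hL (Finset.mem_range.1 hs)]

theorem sqNorm_mid (x y : Fin D.rank → ℝ) :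
    c.sqNorm (fun i => (x i + y i) / 2) =
      (c.sqNorm x + c.sqNorm y) / 2 - c.sqNorm (fun i => x i - y i) / 4 := by
  simp only [sqNorm, ← Finset.sum_add_distrib, Finset.sum_div, ← Finset.sum_sub_distrib]
  refine Finset.sum_congr rfl fun r _ => ?_
  have h1 : c.rootVal r (fun i => (x i + y i) / 2) = (c.rootVal r x + c.rootVal r y) / 2 := by
    simp only [rootVal, ← Finset.sum_add_distrib, Finset.sum_div]
    exact Finset.sum_congr rfl fun i _ => by ring
  have h2 : c.rootVal r (fun i => x i - y i) = c.rootVal r x - c.rootVal r y := by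
    simp only [rootVal, ← Finset.sum_sub_distrib]
    exact Finset.sum_congr rfl fun i _ => by ring
  rw [h1, h2]
  ring

theorem sq_le_sqNorm (x : Fin D.rank → ℝ) (i : Fin D.rank) : x i ^ 2 ≤ c.sqNorm x := by
  have h := Finset.single_le_sum (f := fun r => c.rootVal r x ^ 2) (fun r _ => sq_nonneg _)
    (Finset.mem_range.2 (c.simple_lt i.2))
  simpa [sqNorm, c.rootVal_simple i.2] using h

theorem eq_of_sqNorm_sub {x y : Fin D.rank → ℝ} (h : c.sqNorm (fun i => x i - y i) ≤ 0) :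
    x = y := by
  funext i
  have h1 := c.sq_le_sqNorm (fun i => x i - y i) i
  nlinarith

theorem lvlSet_closed (x : Fin D.rank → ℝ) : c.IsClosed (c.lvlSet x) := by
  refine ⟨fun r hr => hr.1, fun r hr s hs y hy => ⟨(c.commTerms_gt hr.1 hs.1 hy).1, ?_⟩⟩
  obtain ⟨-, hi, hj, -⟩ := c.mem_commTerms hr.1.2 hs.1.2 hy
  have e : c.rootVal y.1 x = (y.2.2.1 : ℝ) * c.rootVal r x + (y.2.2.2 : ℝ) * c.rootVal s x := by
    simp only [rootVal, Finset.mul_sum, ← Finset.sum_add_distrib]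
    refine Finset.sum_congr rfl fun k _ => ?_
    rw [c.commTerms_vec hr.1.2 hs.1.2 k.2 hy]
    push_cast
    ring
  rw [e]
  have h1 : (1 : ℝ) ≤ (y.2.2.1 : ℝ) := by exact_mod_cast hi
  have h2 : (1 : ℝ) ≤ (y.2.2.2 : ℝ) := by exact_mod_cast hj
  nlinarith [hr.2, hs.2]

theorem mem_lvlSet {r : ℕ} {x : Fin D.rank → ℝ} (h1 : c.Pos r) (h2 : 1 ≤ c.rootVal r x) :
    r ∈ c.lvlSet x := ⟨h1, h2⟩

theorem KS_mono {S S' : Set ℕ} (h : S ⊆ S') (m : ℕ) : c.KS F S m ≤ c.KS F S' m :=
  Subgroup.closure_mono fun _ ⟨r, t, hr, hm, e⟩ => ⟨r, t, h hr, hm, e⟩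

theorem mem_KS_inter {S S' : Set ℕ} (hS : c.IsClosed S) (hS' : c.IsClosed S') {g : GL D.Idx F}
    (h1 : g ∈ c.KS F S c.T.h) (h2 : g ∈ c.KS F S' c.T.h) : g ∈ c.KS F (S ∩ S') c.T.h := by
  obtain ⟨t, ht, e⟩ := c.exists_oprod_KS hS _ c.T.h rfl le_rfl g h1
  obtain ⟨t', ht', e'⟩ := c.exists_oprod_KS hS' _ c.T.h rfl le_rfl g h2
  rw [e]
  refine Subgroup.list_prod_mem _ fun x hx => ?_
  obtain ⟨r, hr, rfl⟩ := List.mem_map.1 hx
  rw [List.mem_range'_1] at hr
  have et := c.oprod_inj _ c.T.h rfl le_rfl t t' (e.symm.trans e') r hr.1 (by omega)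
  by_cases h : r ∈ S ∩ S'
  · exact c.xg_mem_KS h hr.1 _
  · have h0 : t r = 0 := by
      by_cases hrS : r ∈ S
      · rw [et, ht' r fun h' => h ⟨hrS, h'⟩]
      · exact ht r hrS
    rw [h0, c.xg_zero]
    exact one_mem _

/-- Conjugation by a monomial element moves level sets. -/
theorem conj_lvl {a : GL D.Idx F} (ha : a ∈ D.diagonalSubgroup F) {L : List ℕ}
    (hL : ∀ p ∈ L, p < D.rank) {S : Set ℕ} {x : Fin D.rank → ℝ}
    (hS : ∀ r ∈ S, r ∈ c.lvlSet x ∧ c.Pos (c.wl L r)) {v : GL D.Idx F}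
    (hv : v ∈ c.KS F S c.T.h) :
    a * c.nw F L * v * (a * c.nw F L)⁻¹ ∈ c.KS F (c.lvlSet (c.pushPt L x)) c.T.h := by
  suffices h : c.KS F S c.T.h ≤ (c.KS F (c.lvlSet (c.pushPt L x)) c.T.h).comap
      (MulAut.conj (a * c.nw F L)).toMonoidHom from h hv
  refine (Subgroup.closure_le _).2 ?_
  rintro g ⟨r, t, hr, -, rfl⟩
  rw [SetLike.mem_coe, Subgroup.mem_comap]
  show a * c.nw F L * c.xg r t * (a * c.nw F L)⁻¹ ∈ _
  obtain ⟨k, -, hk⟩ := c.mono_mul_xg ha hL (hS r hr).1.1.2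
  rw [hk, mul_inv_cancel_right]
  refine c.xg_mem_KS (c.mem_lvlSet (hS r hr).2 ?_) (hS r hr).2.1 _
  rw [c.rootVal_push hL (hS r hr).2.2]
  have h := c.wl_reverse (L := L.reverse)
    (fun p hp => hL p (List.mem_reverse.1 hp)) (hS r hr).1.1.2
  rw [List.reverse_reverse] at h
  rw [h]
  exact (hS r hr).1.2

theorem conj_H_KS {S : Set ℕ} {a v : GL D.Idx F} (ha : a ∈ D.diagonalSubgroup F)
    (hS : ∀ r ∈ S, r < D.nroots) (hv : v ∈ c.KS F S c.T.h) :
    a * v * a⁻¹ ∈ c.KS F S c.T.h := by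
  refine conj_closure_mem ?_ hv
  rintro g ⟨r, t, hr, hm, rfl⟩
  obtain ⟨k, -, hk⟩ := c.mono_mul_xg ha (L := []) (by simp) (hS r hr)
  have e := hk t
  simp only [Cert.nw_nil, mul_one, Cert.wl_nil] at e
  rw [e, mul_inv_cancel_right]
  exact c.xg_mem_KS hr hm _

/-- At a dominant point the Borel subgroup normalises the level subgroup. -/
theorem conj_B_lvl {x : Fin D.rank → ℝ} (hx : ∀ i, 0 ≤ x i) {b v : GL D.Idx F}
    (hb : b ∈ D.borelSubgroup F) (hv : v ∈ c.KS F (c.lvlSet x) c.T.h) :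
    b * v * b⁻¹ ∈ c.KS F (c.lvlSet x) c.T.h := by
  obtain ⟨u, hu, a, ha, rfl⟩ := c.mem_borel_iff.1 hb
  have h1 := c.conj_H_KS ha (fun r (hr : r ∈ c.lvlSet x) => hr.1.2) hv
  rw [show u * a * v * (u * a)⁻¹ = u * (a * v * a⁻¹) * u⁻¹ by group]
  suffices hU : D.posUnipotent F ≤
      Subgroup.normalizer (c.KS F (c.lvlSet x) c.T.h : Set (GL D.Idx F)) by
    exact (Subgroup.mem_normalizer_iff.1 (hU hu) _).1 h1
  have key : ∀ (s : ℕ) (t : F), c.Pos s → ∀ w ∈ c.KS F (c.lvlSet x) c.T.h,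
      c.xg s t * w * (c.xg s t)⁻¹ ∈ c.KS F (c.lvlSet x) c.T.h := by
    intro s t hs w hw
    refine conj_closure_mem ?_ hw
    rintro g ⟨r, t', hr, hm, rfl⟩
    by_cases hrs : r = s
    · subst hrs
      rw [← c.xg_add, add_comm, c.xg_add, mul_inv_cancel_right]
      exact c.xg_mem_KS hr hm _
    have hne : r ≠ D.neg s := fun e => (c.not_pos_iff hs.2).2 (e ▸ hr.1) hs
    have e := c.xg_comm hs.2 hr.1.2 hrs hne (-t) t'
    rw [c.xg_inv, mul_assoc, e, ← mul_assoc, ← mul_assoc, ← c.xg_add, add_neg_cancel, c.xg_zero,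
      one_mul]
    refine mul_mem (c.xg_mem_KS hr hm _) (Subgroup.list_prod_mem _ fun k hk => ?_)
    obtain ⟨y, hy, rfl⟩ := List.mem_map.1 hk
    have hpos := (c.commTerms_gt hs hr.1 hy).1
    refine c.xg_mem_KS (c.mem_lvlSet hpos ?_) hpos.1 _
    have e' : c.rootVal y.1 x = (y.2.2.1 : ℝ) * c.rootVal s x + (y.2.2.2 : ℝ) * c.rootVal r x := by
      simp only [rootVal, Finset.mul_sum, ← Finset.sum_add_distrib]
      refine Finset.sum_congr rfl fun k _ => ?_
      rw [c.commTerms_vec hs.2 hr.1.2 k.2 hy]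
      push_cast
      ring
    have hs0 : 0 ≤ c.rootVal s x := Finset.sum_nonneg fun i _ => mul_nonneg
      (by exact_mod_cast (c.vec_nonneg hs.2 hs.1).1 i i.2) (hx i)
    have h2 : (1 : ℝ) ≤ (y.2.2.2 : ℝ) := by exact_mod_cast (c.mem_commTerms hs.2 hr.1.2 hy).2.2.1
    rw [e']
    nlinarith [hr.2, mul_nonneg (Nat.cast_nonneg (α := ℝ) y.2.2.1) hs0]
  refine (Subgroup.closure_le _).2 ?_
  rintro g ⟨s, t, hs, hg⟩
  obtain rfl := c.eq_xg_iff.1 hg
  rw [SetLike.mem_coe, Subgroup.mem_normalizer_iff]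
  refine fun w => ⟨key s t (c.posRoot_iff.1 hs) w, fun hw => ?_⟩
  have := key s (-t) (c.posRoot_iff.1 hs) _ hw
  rw [← c.xg_inv, inv_inv] at this
  simpa [mul_assoc] using this

/-- A `p`-subgroup can be conjugated into `U`. -/
theorem exists_conj_into_U [Fintype F] {p : ℕ} [Fact p.Prime] [CharP F p]
    {R : Subgroup (GL D.Idx F)} (hRG : R ≤ D.group F) (hR : IsPGroup p R) :
    ∃ g ∈ D.group F, ∀ v ∈ R, g⁻¹ * v * g ∈ D.posUnipotent F := by
  obtain ⟨n, hp, hn⟩ := FiniteField.card F p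
  set U' := (D.posUnipotent F).subgroupOf (D.group F) with hU'
  have hcard : Nat.card U' = p ^ ((n : ℕ) * (D.nroots / 2)) := by
    rw [Nat.card_congr (Subgroup.subgroupOfEquivOfLe c.U_le_group).toEquiv, pow_mul, ← hn]
    exact c.card_posUnipotent (F := F)
  obtain ⟨Q, hQ⟩ := (IsPGroup.of_card (G := U') hcard).exists_le_sylow
  have hQU : (Q : Subgroup ↥(D.group F)) = U' := by
    refine le_antisymm ?_ hQ
    by_contra hne
    have : Group.IsNilpotent ↥(Q : Subgroup ↥(D.group F)) := Q.isPGroup'.isNilpotent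
    have hlt : U'.subgroupOf Q < ⊤ := lt_top_iff_ne_top.2 fun e =>
      hne (Subgroup.subgroupOf_eq_top.1 e)
    obtain ⟨g, hg, hgn⟩ := Set.exists_of_ssubset
      (normalizerCondition_of_isNilpotent (G := ↥(Q : Subgroup ↥(D.group F))) _ hlt)
    have hB : ((g : ↥(D.group F)) : GL D.Idx F) ∈ D.borelSubgroup F := by
      refine c.mem_B_of_conj (g : ↥(D.group F)).2 fun v hv => ?_
      exact (Subgroup.mem_normalizer_iff.1 hg ⟨⟨v, c.U_le_group hv⟩, hQ hv⟩).1 hv
    refine hgn (c.mem_U_of_coprime hB ?_)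
    obtain ⟨k, hk⟩ := IsPGroup.iff_orderOf.1 Q.isPGroup' g
    rw [orderOf_injective (D.group F).subtype Subtype.val_injective,
      orderOf_injective (Q : Subgroup ↥(D.group F)).subtype Subtype.val_injective, hk, hn]
    refine Nat.Coprime.pow_right k ((hp.coprime_iff_not_dvd).2 ?_).symm
    intro hd
    have h1 : 1 ≤ p ^ (n : ℕ) := Nat.one_le_pow _ _ hp.pos
    have h2 : p ∣ p ^ (n : ℕ) := dvd_pow_self p n.2.ne'
    have h3 := Nat.dvd_sub h2 hd
    rw [Nat.sub_sub_self h1] at h3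
    exact hp.one_lt.ne' (Nat.dvd_one.1 h3)
  obtain ⟨R', hR'⟩ := ((hR.comap_of_injective (D.group F).subtype
    Subtype.val_injective : IsPGroup p (R.subgroupOf (D.group F)))).exists_le_sylow
  obtain ⟨x, hx⟩ := MulAction.exists_smul_eq ↥(D.group F) R' Q
  refine ⟨(x⁻¹ : ↥(D.group F)), (x⁻¹).2, fun v hv => ?_⟩
  have h1 : (⟨v, hRG hv⟩ : ↥(D.group F)) ∈ (R' : Subgroup ↥(D.group F)) := hR' hv
  have h2 : MulAut.conj x • (⟨v, hRG hv⟩ : ↥(D.group F)) ∈
      MulAut.conj x • (R' : Subgroup ↥(D.group F)) := Subgroup.smul_mem_pointwise_smul _ _ _ h1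
  have e : MulAut.conj x • (R' : Subgroup ↥(D.group F)) = U' := by
    rw [← hQU, ← hx]; rfl
  rw [e] at h2
  simpa [hU', Subgroup.mem_subgroupOf] using h2

/-- `g λ` is feasible for `R`. -/
def Feasible (R : Subgroup (GL D.Idx F)) (g : ↥(D.group F)) (x : Fin D.rank → ℝ) : Prop :=
  ∀ v ∈ R, (g : GL D.Idx F)⁻¹ * v * g ∈ c.KS F (c.lvlSet x) c.T.h

/-- Feasible points can be made dominant. -/
theorem exists_dominant (R : Subgroup (GL D.Idx F)) (g : ↥(D.group F)) (x : Fin D.rank → ℝ)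
    (h : c.Feasible R g x) :
    ∃ (g' : ↥(D.group F)) (y : Fin D.rank → ℝ),
      c.Feasible R g' y ∧ (∀ i, 0 ≤ y i) ∧ c.sqNorm y = c.sqNorm x := by
  classical
  generalize hk : ((Finset.range D.nroots).filter fun r => c.Pos r ∧ c.rootVal r x < 0).card = k
  induction k using Nat.strong_induction_on generalizing g x with
  | _ k ih =>
    by_cases hdom : ∀ i, 0 ≤ x i
    · exact ⟨g, x, h, hdom, rfl⟩
    push Not at hdom
    obtain ⟨⟨q, hq⟩, hxq⟩ := hdom
    have hα := c.simple_lt hq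
    have hL : ∀ p ∈ [q], p < D.rank := by simpa using hq
    have hne : ∀ r ∈ c.lvlSet x, r ≠ D.simple q := by
      intro r hr e
      have := hr.2
      rw [e, c.rootVal_simple hq] at this
      linarith
    let g' : ↥(D.group F) := g * ⟨(1 * c.nw F [q])⁻¹,
      inv_mem (c.N_le_group (mul_mem (one_mem _) (c.nw_mem_N hL)))⟩
    have hfeas : c.Feasible R g' (c.pushPt [q] x) := by
      intro v hv
      have hn := c.conj_lvl (x := x) (S := c.lvlSet x) (one_mem _) hL
        (fun r hr => ⟨hr, by simpa using (c.pos_w hq hr.1 (hne r hr)).1⟩) (h v hv)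
      simpa [g', mul_assoc] using hn
    have hlt : ((Finset.range D.nroots).filter fun r =>
        c.Pos r ∧ c.rootVal r (c.pushPt [q] x) < 0).card < k := by
      subst hk
      have hv : ∀ r, r < D.nroots → c.rootVal r (c.pushPt [q] x) = c.rootVal (c.w q r) x := by
        intro r hr
        rw [c.rootVal_push hL hr]
        simp
      have hA : ∀ r ∈ (Finset.range D.nroots).filter fun r =>
          c.Pos r ∧ c.rootVal r (c.pushPt [q] x) < 0, r < D.nroots ∧ c.Pos r ∧ r ≠ D.simple q ∧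
            c.rootVal (c.w q r) x < 0 := by
        intro r hr
        simp only [Finset.mem_filter, Finset.mem_range] at hr
        obtain ⟨hr1, hr2, hr3⟩ := hr
        rw [hv r hr1] at hr3
        refine ⟨hr1, hr2, fun e => ?_, hr3⟩
        rw [e, c.w_simple hq, c.rootVal_neg hα, c.rootVal_simple hq] at hr3
        linarith
      have hsub : ((Finset.range D.nroots).filter fun r =>
          c.Pos r ∧ c.rootVal r (c.pushPt [q] x) < 0).image (c.w q) ⊆
          ((Finset.range D.nroots).filter fun r => c.Pos r ∧ c.rootVal r x < 0).erase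
            (D.simple q) := by
        intro s hs
        obtain ⟨r, hr, rfl⟩ := Finset.mem_image.1 hs
        obtain ⟨hr1, hr2, hr3, hr4⟩ := hA r hr
        simp only [Finset.mem_erase, Finset.mem_filter, Finset.mem_range]
        exact ⟨(c.pos_w hq hr2 hr3).2, c.w_lt hq hr1, (c.pos_w hq hr2 hr3).1, hr4⟩
      have hcard := Finset.card_le_card hsub
      rw [Finset.card_image_of_injOn (fun r hr s hs e =>
        c.w_inj hq (hA r hr).1 (hA s hs).1 e)] at hcard
      refine lt_of_le_of_lt hcard (Finset.card_erase_lt_of_mem ?_)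
      simp only [Finset.mem_filter, Finset.mem_range]
      exact ⟨hα, c.pos_simple hq, by rw [c.rootVal_simple hq]; exact hxq⟩
    obtain ⟨g'', y, h1, h2, h3⟩ := ih _ hlt g' _ hfeas rfl
    exact ⟨g'', y, h1, h2, h3.trans (c.sqNorm_push hL x)⟩

theorem isClosed_feasible (R : Subgroup (GL D.Idx F)) (g : ↥(D.group F)) :
    _root_.IsClosed {x : Fin D.rank → ℝ | c.Feasible R g x} := by
  classical
  have e : {x : Fin D.rank → ℝ | c.Feasible R g x} = ⋂ v ∈ R,
      ⋃ T ∈ (((Finset.range D.nroots).powerset.filter fun T : Finset ℕ => (∀ r ∈ T, c.Pos r) ∧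
        (g : GL D.Idx F)⁻¹ * v * g ∈ c.KS F (T : Set ℕ) c.T.h) : Finset (Finset ℕ)),
      ⋂ r ∈ T, {x : Fin D.rank → ℝ | 1 ≤ c.rootVal r x} := by
    ext x
    simp only [Set.mem_setOf_eq, Set.mem_iInter, Set.mem_iUnion, Finset.mem_filter,
      Finset.mem_powerset, exists_prop]
    constructor
    · intro h v hv
      refine ⟨(Finset.range D.nroots).filter (· ∈ c.lvlSet x), ⟨Finset.filter_subset _ _,
        fun r hr => (Finset.mem_filter.1 hr).2.1, ?_⟩, fun r hr => (Finset.mem_filter.1 hr).2.2⟩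
      refine c.KS_mono (fun r hr => ?_) _ (h v hv)
      simp only [Finset.coe_filter, Finset.mem_range, Set.mem_setOf_eq]
      exact ⟨hr.1.2, hr⟩
    · intro h v hv
      obtain ⟨T, ⟨-, hT, hmem⟩, hx⟩ := h v hv
      exact c.KS_mono (fun r (hr : r ∈ (T : Set ℕ)) => c.mem_lvlSet (hT r hr) (hx r hr)) _ hmem
  rw [e]
  refine isClosed_biInter fun v _ => isClosed_biUnion_finset fun T _ =>
    isClosed_biInter fun r _ => ?_
  refine isClosed_le continuous_const ?_
  unfold rootVal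
  fun_prop

/-- A shortest dominant feasible point exists. -/
theorem exists_min [Fintype F] {p : ℕ} [Fact p.Prime] [CharP F p] {R : Subgroup (GL D.Idx F)}
    (hRG : R ≤ D.group F) (hR : IsPGroup p R) :
    ∃ (g : ↥(D.group F)) (x : Fin D.rank → ℝ), c.Feasible R g x ∧ (∀ i, 0 ≤ x i) ∧
      ∀ g' y, c.Feasible R g' y → c.sqNorm x ≤ c.sqNorm y := by
  obtain ⟨g₀, hg₀, hU⟩ := c.exists_conj_into_U hRG hR
  set one : Fin D.rank → ℝ := fun _ => 1
  have hone : c.Feasible R ⟨g₀, hg₀⟩ one := by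
    intro v hv
    refine (Subgroup.closure_le _).2 ?_ (hU v hv)
    rintro g ⟨r, t, hr, hg⟩
    obtain rfl := c.eq_xg_iff.1 hg
    have hr' := c.posRoot_iff.1 hr
    refine c.xg_mem_KS (c.mem_lvlSet hr' ?_) hr'.1 t
    obtain ⟨j, hj, hpos⟩ := c.exists_vec_pos hr'
    refine le_trans ?_ (Finset.single_le_sum (f := fun i : Fin D.rank => (c.T.vec r i : ℝ) * one i)
      (fun i _ => ?_) (Finset.mem_univ (⟨j, hj⟩ : Fin D.rank)))
    · simp only [one, mul_one]
      exact_mod_cast hpos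
    · simp only [one, mul_one]
      exact_mod_cast (c.vec_nonneg hr'.2 hr'.1).1 i i.2
  set B := c.sqNorm one
  set K : Set (Fin D.rank → ℝ) := (Set.pi Set.univ fun _ => Set.Icc (0 : ℝ) (B + 1)) ∩
    ⋃ g : ↥(D.group F), {x | c.Feasible R g x}
  have hcompact : IsCompact K := (isCompact_univ_pi fun _ => isCompact_Icc).inter_right
    (isClosed_iUnion_of_finite fun g => c.isClosed_feasible R g)
  have hmemK : ∀ g y, c.Feasible R g y → (∀ i, 0 ≤ y i) → c.sqNorm y ≤ B → y ∈ K := by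
    intro g y hg hy hle
    refine ⟨fun i _ => ⟨hy i, ?_⟩, Set.mem_iUnion.2 ⟨g, hg⟩⟩
    have := c.sq_le_sqNorm y i
    nlinarith
  have hcont : Continuous (c.sqNorm) := by
    unfold sqNorm rootVal
    fun_prop
  obtain ⟨x, hxK, hmin⟩ := hcompact.exists_isMinOn
    ⟨one, hmemK _ _ hone (fun _ => zero_le_one) le_rfl⟩ hcont.continuousOn
  obtain ⟨hbox, hx⟩ := hxK
  obtain ⟨g, hg⟩ := Set.mem_iUnion.1 hx
  refine ⟨g, x, hg, fun i => (hbox i (Set.mem_univ i)).1, fun g' y hy => ?_⟩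
  obtain ⟨g'', z, hz, hz0, hzn⟩ := c.exists_dominant R g' y hy
  rw [← hzn]
  by_cases hzB : c.sqNorm z ≤ B
  · exact hmin (hmemK _ _ hz hz0 hzB)
  · exact (hmin (hmemK _ _ hone (fun _ => zero_le_one) le_rfl)).trans (le_of_not_ge hzB)

/-- A monomial element fixing a dominant point lies in its parabolic subgroup. -/
theorem nw_mem_parabolic_of_fix {x y : Fin D.rank → ℝ} (hy : ∀ i, 0 ≤ y i) (hx : ∀ i, 0 ≤ x i)
    {L : List ℕ} (hL : ∀ p ∈ L, p < D.rank)
    (h : ∀ r < D.nroots, c.rootVal (c.wl L r) y = c.rootVal r x) :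
    c.nw F L ∈ D.parabolicSubgroup F {j | ∀ hj : j < D.rank, x ⟨j, hj⟩ = 0} := by
  set J : Set ℕ := {j | ∀ hj : j < D.rank, x ⟨j, hj⟩ = 0}
  generalize hn : L.length = k
  induction k using Nat.strong_induction_on generalizing L with
  | _ k ih =>
    by_cases hpos : ∀ q < D.rank, c.Pos (c.wl L (D.simple q))
    · exact Subgroup.mem_sup_left (c.H_le_B (c.nw_mem_H hL hpos))
    push Not at hpos
    obtain ⟨q, hq, hneg⟩ := hpos
    have hα := c.simple_lt hq
    have hxq : x ⟨q, hq⟩ = 0 := by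
      refine le_antisymm ?_ (hx _)
      rw [← c.rootVal_simple hq x, ← h _ hα]
      refine Finset.sum_nonpos fun i _ => mul_nonpos_of_nonpos_of_nonneg ?_ (hy i)
      exact_mod_cast c.vec_nonpos (c.wl_lt hL hα) hneg i.2
    obtain ⟨M, hM, hlen, a, ha, e⟩ := c.deletion (F := F) hL hq hneg
    have hM' : ∀ r < D.nroots, c.rootVal (c.wl M r) y = c.rootVal r x := by
      intro r hr
      have e' := c.wl_eq_of_eq (L := L ++ [q]) (M := M) (one_mem _) ha
        (fun p hp => (List.mem_append.1 hp).elim (hL p) (by simpa using fun e : p = q => e ▸ hq))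
        hM (by rw [one_mul]; exact e) hr
      rw [← e', c.wl_append, Cert.wl_cons, Cert.wl_nil, h _ (c.w_lt hq hr)]
      simp only [rootVal]
      refine Finset.sum_congr rfl fun i _ => ?_
      by_cases hi : i = ⟨q, hq⟩
      · subst hi; rw [hxq, mul_zero, mul_zero]
      · rw [c.vec_w hq hr i.2, if_neg fun e => hi (Fin.ext e), sub_zero]
    have hqJ : c.np F q ∈ D.parabolicSubgroup F J :=
      Subgroup.mem_sup_right (Subgroup.subset_closure ⟨q, fun _ => hxq, hq, c.ng_val _ _⟩)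
    have hL' : c.nw F L = a * c.nw F M * (c.np F q)⁻¹ := by
      rw [← e, c.nw_append, Cert.nw_cons, Cert.nw_nil, mul_one, mul_inv_cancel_right]
    rw [hL']
    exact mul_mem (mul_mem (Subgroup.mem_sup_left (c.H_le_B ha))
      (ih M.length (by omega) hM hM' rfl)) (inv_mem hqJ)

/-- The shortest point is unique up to its parabolic subgroup. -/
theorem mem_parabolic_of_min {R : Subgroup (GL D.Idx F)} {g h : ↥(D.group F)}
    {x : Fin D.rank → ℝ} (hx : ∀ i, 0 ≤ x i) (hg : c.Feasible R g x) (hh : c.Feasible R h x)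
    (hmin : ∀ g' y, c.Feasible R g' y → c.sqNorm x ≤ c.sqNorm y) :
    (h : GL D.Idx F)⁻¹ * g ∈
      D.parabolicSubgroup F {j | ∀ hj : j < D.rank, x ⟨j, hj⟩ = 0} := by
  obtain ⟨b, hb, a, ha, L, hL, u, hu, e⟩ := c.bruhat_exists (mul_mem (inv_mem h.2) g.2)
  have huU := c.KS_invSet_le_U hL hu
  set n := a * c.nw F L with hn
  have huB : u ∈ D.borelSubgroup F := Subgroup.mem_sup_left huU
  have hg' : ↑h * b ∈ D.group F := mul_mem h.2 (c.B_le_group hb)
  set y := c.pushPt L x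
  have hfeas : c.Feasible R ⟨_, hg'⟩ (fun i => (y i + x i) / 2) := by
    intro v hv
    set w := u * ((g : GL D.Idx F)⁻¹ * v * g) * u⁻¹ with hw
    have hwx : w ∈ c.KS F (c.lvlSet x) c.T.h := c.conj_B_lvl hx huB (hg v hv)
    have e1 : n * w * n⁻¹ = ((h : GL D.Idx F) * b)⁻¹ * v * (↑h * b) := by
      rw [hw, show u = n⁻¹ * b⁻¹ * ((h : GL D.Idx F)⁻¹ * g) by rw [e]; group]
      group
    have hnx : n * w * n⁻¹ ∈ c.KS F (c.lvlSet x) c.T.h := by
      rw [e1]
      have := c.conj_B_lvl hx (inv_mem hb) (hh v hv)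
      simpa [mul_assoc] using this
    -- only roots kept positive occur
    have hwU : w ∈ D.posUnipotent F := c.KS_le_U (c.lvlSet_closed x) _ hwx
    have hwU' := hwU
    rw [c.posUnipotent_eq] at hwU'
    obtain ⟨v₁, hv₁, z, hz, e2⟩ := c.exists_mul_KS (c.keepSet_closed hL) (c.invSet_closed hL)
      (fun r hr => by by_cases h : c.Pos (c.wl L r); exacts [Or.inl ⟨hr, h⟩, Or.inr ⟨hr, h⟩])
      _ c.T.h rfl le_rfl _ hwU'
    have hz1 : z = 1 := by
      have hk := c.conj_keep_mem_U ha hL hv₁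
      have h4 : n * z * n⁻¹ ∈ D.posUnipotent F := by
        have := mul_mem (inv_mem hk) (c.KS_le_U (c.lvlSet_closed x) _ hnx)
        rw [e2, ← hn] at this
        simpa [mul_assoc] using this
      have h5 := c.borel_inf_negUnipotent.1.le
        ⟨Subgroup.mem_sup_left h4, c.conj_inv_mem_V ha hL hz⟩
      rwa [Subgroup.mem_bot, conj_eq_one_iff] at h5
    rw [hz1, mul_one] at e2
    have hin := c.mem_KS_inter (c.lvlSet_closed x) (c.keepSet_closed hL) hwx (e2 ▸ hv₁)
    have hny := c.conj_lvl (x := x) ha hL (fun r hr => ⟨hr.1, hr.2.2⟩) hin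
    have hboth := c.mem_KS_inter (c.lvlSet_closed y) (c.lvlSet_closed x) hny hnx
    show ((h : GL D.Idx F) * b)⁻¹ * v * (↑h * b) ∈ _
    rw [← e1]
    refine c.KS_mono (fun r hr => c.mem_lvlSet hr.1.1 ?_) _ hboth
    have e3 : c.rootVal r (fun i => (y i + x i) / 2) = (c.rootVal r y + c.rootVal r x) / 2 := by
      simp only [rootVal, ← Finset.sum_add_distrib, Finset.sum_div]
      exact Finset.sum_congr rfl fun i _ => by ring
    rw [e3]
    linarith [hr.1.2, hr.2.2]
  have hq := hmin _ _ hfeas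
  rw [c.sqNorm_mid, c.sqNorm_push hL] at hq
  have heq : y = x := c.eq_of_sqNorm_sub (by linarith)
  have hLr : ∀ p ∈ L.reverse, p < D.rank := fun p hp => hL p (List.mem_reverse.1 hp)
  have hfix := c.nw_mem_parabolic_of_fix (F := F) hx hx hL fun r hr => by
    have h1 := c.rootVal_push hL (c.wl_lt hL hr) x
    have h2 := c.wl_reverse (L := L.reverse) hLr hr
    rw [List.reverse_reverse] at h2
    rw [show c.pushPt L x = x from heq, h2] at h1
    exact h1
  rw [e]
  exact mul_mem (mul_mem (Subgroup.mem_sup_left hb) (mul_mem (Subgroup.mem_sup_left (c.H_le_B ha))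
    hfix)) (Subgroup.mem_sup_left huB)

/-- The Borel–Tits theorem. -/
theorem borel_tits [Fintype F] {p : ℕ} [Fact p.Prime] [CharP F p] {R : Subgroup (GL D.Idx F)}
    (hRG : R ≤ D.group F) (hR : IsPGroup p R) (hne : R ≠ ⊥) :
    ∃ g ∈ D.group F, ∃ J : Set ℕ, (∃ i, i < D.rank ∧ i ∉ J) ∧
      Subgroup.normalizer (R : Set (GL D.Idx F)) ⊓ D.group F ≤
        (D.parabolicSubgroup F J).map (MulAut.conj g).toMonoidHom ∧
      R ≤ (D.unipotentRadical F J).map (MulAut.conj g).toMonoidHom := by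
  obtain ⟨g, x, hg, hx, hmin⟩ := c.exists_min hRG hR
  set J : Set ℕ := {j | ∀ hj : j < D.rank, x ⟨j, hj⟩ = 0}
  refine ⟨g, g.2, J, ?_, fun m hm => ?_, fun v hv => ?_⟩
  · by_contra hall
    push Not at hall
    obtain ⟨v, hv, hv1⟩ := R.bot_or_exists_ne_one.resolve_left hne
    have h0 : ∀ r, r ∉ c.lvlSet x := by
      intro r hr
      have : c.rootVal r x = 0 := Finset.sum_eq_zero fun i _ => by
        rw [hall i i.2 i.2, mul_zero]
      linarith [hr.2]
    have := hg v hv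
    rw [KS, show {g : GL D.Idx F | ∃ r t, r ∈ c.lvlSet x ∧ c.T.h ≤ r ∧ g = c.xg r (t : F)} = ∅
      from Set.eq_empty_iff_forall_notMem.2 fun y ⟨r, _, hr, _⟩ => h0 r hr,
      Subgroup.closure_empty, Subgroup.mem_bot] at this
    refine hv1 ?_
    calc v = (g : GL D.Idx F) * ((g : GL D.Idx F)⁻¹ * v * g) * (g : GL D.Idx F)⁻¹ := by group
      _ = 1 := by rw [this]; group
  · obtain ⟨hmN, hmG⟩ := hm
    have hh : c.Feasible R ⟨m * g, mul_mem hmG g.2⟩ x := by
      intro v hv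
      have h1 : m⁻¹ * v * m ∈ R := by
        have := (Subgroup.mem_normalizer_iff.1 (inv_mem hmN) v).1 hv
        rwa [inv_inv] at this
      have := hg _ h1
      simpa [mul_assoc] using this
    have h1 := inv_mem (c.mem_parabolic_of_min hx hg hh hmin)
    refine ⟨_, h1, ?_⟩
    simp [mul_assoc]
  · refine ⟨(g : GL D.Idx F)⁻¹ * v * g, ?_, by simp [mul_assoc]⟩
    refine (Subgroup.closure_le _).2 ?_ (hg v hv)
    rintro y ⟨r, t, hr, -, rfl⟩
    refine Subgroup.subset_closure ⟨r, t, c.posRoot_iff.2 hr.1, fun hin => ?_, c.xg_val _ _⟩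
    have h1 := hr.2
    have h2 : c.rootVal r x = 0 := Finset.sum_eq_zero fun i _ => by
      by_cases hi : (i : ℕ) ∈ J
      · rw [hi i.2, mul_zero]
      · rw [(c.inRootSub_iff.1 hin).2 i i.2 hi, Int.cast_zero, zero_mul]
    linarith

end CertFull

end Cfsg.Agent.Lie.Chev
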