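import Cfsg.Agent.Lib.Char.SteinbergElliptic
import Cfsg.Agent.Lib.Lie.Chev.TwistSimple

/-! Orders of the parabolic subgroups of one orbit in a twisted group, and the centralizers of the
elements in no proper parabolic subgroup. -/

set_option autoImplicit false

namespace Cfsg.Agent.Lie.Chev

open Cfsg.Lie Matrix

namespace Twist

variable {D : ChevalleyDatum} {c : CertFull D} {F : Type*} [Field F] {T : Twist c F}

namespace Datum

variable [Finite F] (Y : Datum T)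

theorem mem_bnB {g : ↥Y.G₁} :
    g ∈ Y.bnPair.B ↔ (g : GL D.Idx F) ∈ D.borelSubgroup F ⊓ T.fix :=
  ⟨fun h => ⟨h.1, Y.le_fix g.2⟩, fun h => ⟨h.1, g.2⟩⟩

include Y in
theorem exists_opposite_fix : ∃ n : Y.bnPair.N, ∀ y ∈ Y.bnPair.B,
    (n : ↥Y.G₁)⁻¹ * y * n ∈ Y.bnPair.B → y ∈ Y.bnPair.N := by
  obtain ⟨i, hi, htop⟩ := Y.top
  obtain ⟨hw, -, -⟩ := Y.wd_spec hi
  have hnN : c.nw F (Y.W.wd i) ∈ D.monomialSubgroup F := c.nw_mem_N hw
  refine ⟨⟨⟨c.nw F (Y.W.wd i), Y.nw_wd_mem hi⟩, ⟨hnN, Y.nw_wd_mem hi⟩⟩, fun y hy hy' => ?_⟩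
  set L := Y.W.wd i
  set n := c.nw F L
  have hUV : ∀ u ∈ D.posUnipotent F, n * u * n⁻¹ ∈ D.negUnipotent F := by
    intro u hu
    have hu' : u ∈ c.KS F (c.invSet L) c.T.h := by
      rw [c.U_eq_KS] at hu
      refine Subgroup.closure_mono ?_ hu
      rintro g ⟨r, t, hr, hle, e⟩
      exact ⟨r, t, ⟨hr.1, FixedWeyl.root_mem_invSet_pos (J := List.range D.rank) hw hr.1
        (fun j hj _ => List.mem_range.2 hj) (fun p hp => htop p (List.mem_range.1 hp))⟩, hle, e⟩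
    simpa using c.conj_inv_mem_V (one_mem _) hw hu'
  have h1 : n⁻¹ * (y : GL D.Idx F) * n ∈ D.borelSubgroup F := hy'.1
  obtain ⟨u, hu, a, ha, e⟩ := c.mem_borel_iff.1 h1
  have h2 : (y : GL D.Idx F) = (n * u * n⁻¹) * (n * a * n⁻¹) := by
    rw [show n * u * n⁻¹ * (n * a * n⁻¹) = n * (u * a) * n⁻¹ by group, ← e]
    group
  have hH : (y : GL D.Idx F) ∈ D.diagonalSubgroup F := by
    refine c.borel_inf_negUnipotent.2.le ⟨hy.1, ?_⟩
    rw [h2]
    exact mul_mem (Subgroup.mem_sup_left (hUV u hu)) (Subgroup.mem_sup_right (c.N_conj_H hnN ha))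
  exact ⟨Subgroup.mem_sup_left hH, y.2⟩

theorem card_bnB :
    Nat.card Y.bnPair.B = Nat.card ↥(D.borelSubgroup F ⊓ T.fix) :=
  Nat.card_congr
    { toFun := fun g => ⟨((g : ↥Y.G₁) : GL D.Idx F), (Y.mem_bnB).1 g.2⟩
      invFun := fun g => ⟨⟨g.1, (Y.eq_fix).symm ▸ g.2.2⟩, (Y.mem_bnB).2 g.2⟩
      left_inv := fun _ => rfl
      right_inv := fun _ => rfl }

theorem card_G₁_eq : Nat.card ↥Y.G₁ = Nat.card ↥T.fix := by rw [Y.eq_fix]

theorem mem_cell_refl {s : Y.bnPair.S} {J : List ℕ} (hs : ((s : ↥Y.G₁) : GL D.Idx F) = c.nw F J)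
    {g : ↥Y.G₁} : g ∈ Lie.cell Y.bnPair (Lie.refl Y.bnPair s) ↔
      ∃ b₁ ∈ D.borelSubgroup F ⊓ T.fix, ∃ b₂ ∈ D.borelSubgroup F ⊓ T.fix,
        (g : GL D.Idx F) = b₁ * c.nw F J * b₂ := by
  rw [Lie.refl, Lie.mem_cell_proj]
  constructor
  · rintro ⟨b₁, h₁, b₂, h₂, rfl⟩
    refine ⟨_, (Y.mem_bnB).1 h₁, _, (Y.mem_bnB).1 h₂, ?_⟩
    show (b₁ : GL D.Idx F) * ((s : ↥Y.G₁) : GL D.Idx F) * (b₂ : GL D.Idx F) = _
    rw [hs]
  · rintro ⟨b₁, h₁, b₂, h₂, e⟩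
    refine ⟨⟨b₁, Y.B_fix_le h₁⟩, (Y.mem_bnB).2 h₁, ⟨b₂, Y.B_fix_le h₂⟩, (Y.mem_bnB).2 h₂, ?_⟩
    refine Subtype.ext ?_
    show (g : GL D.Idx F) = b₁ * ((s : ↥Y.G₁) : GL D.Idx F) * b₂
    rw [hs]
    exact e

/-- The order of the parabolic subgroup of one orbit. -/
theorem card_parabolic {J : List ℕ} (hJ : J ∈ Y.W.Jw) {s : Y.bnPair.S}
    (hs : ((s : ↥Y.G₁) : GL D.Idx F) = c.nw F J) :
    Nat.card (Y.bnPair.parabolic {(s : ↥Y.G₁)}) = Nat.card Y.bnPair.B *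
      (1 + Nat.card ↥(c.KS F (c.invSet J) c.T.h ⊓ T.fix)) := by
  classical
  obtain ⟨-, hlt, -⟩ := Y.W.J_spec hJ
  have hS : ({(s : ↥Y.G₁)} : Set ↥Y.G₁) ⊆ Y.bnPair.S := by simpa using s.2
  have hW : ∀ w ∈ Lie.weylPara Y.bnPair {(s : ↥Y.G₁)},
      w = 1 ∨ w = Lie.refl Y.bnPair s := by
    intro w hw
    induction hw using Subgroup.closure_induction with
    | mem x hx =>
      obtain ⟨t, ht, rfl⟩ := hx
      obtain rfl : t = s := Subtype.ext (Set.mem_singleton_iff.1 ht)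
      exact Or.inr rfl
    | one => exact Or.inl rfl
    | mul x y _ _ hx hy =>
      rcases hx with rfl | rfl <;> rcases hy with rfl | rfl <;> simp [Lie.refl_mul_self]
    | inv x _ hx => rcases hx with rfl | rfl <;> simp [Lie.refl_inv]
  have hset : (Y.bnPair.parabolic {(s : ↥Y.G₁)} : Set ↥Y.G₁) =
      (Y.bnPair.B : Set ↥Y.G₁) ∪ Lie.cell Y.bnPair (Lie.refl Y.bnPair s) := by
    ext g
    rw [SetLike.mem_coe, Lie.mem_parabolic_iff Y.bnPair hS, Set.mem_union]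
    constructor
    · rintro ⟨w, hw, hg⟩
      rcases hW w hw with rfl | rfl
      · left; rwa [Lie.cell_one] at hg
      · exact Or.inr hg
    · rintro (h | h)
      · exact ⟨1, one_mem _, by rwa [Lie.cell_one]⟩
      · exact ⟨_, Lie.refl_mem_weylPara Y.bnPair (Set.mem_singleton _), h⟩
  have hdisj : Disjoint (Y.bnPair.B : Set ↥Y.G₁) (Lie.cell Y.bnPair (Lie.refl Y.bnPair s)) :=
    Set.disjoint_left.2 fun g h1 h2 => Lie.refl_ne_one Y.bnPair s
      (Lie.cell_unique Y.bnPair h2 (by rwa [Lie.cell_one]))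
  have hcell : Nat.card (Lie.cell Y.bnPair (Lie.refl Y.bnPair s)) =
      Nat.card Y.bnPair.B * Nat.card ↥(c.KS F (c.invSet J) c.T.h ⊓ T.fix) := by
    rw [Y.card_bnB, ← Nat.card_prod]
    symm
    have hu : ∀ u ∈ c.KS F (c.invSet J) c.T.h ⊓ T.fix, u ∈ D.borelSubgroup F ⊓ T.fix :=
      fun u hu => ⟨Subgroup.mem_sup_left (c.KS_invSet_le_U hlt hu.1), hu.2⟩
    refine Nat.card_eq_of_bijective (fun x : ↥(D.borelSubgroup F ⊓ T.fix) ×
        ↥(c.KS F (c.invSet J) c.T.h ⊓ T.fix) =>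
      (⟨⟨x.1.1 * c.nw F J * x.2.1, mul_mem (mul_mem (Y.B_fix_le x.1.2) (Y.n_mem J hJ))
          (Y.B_fix_le (hu _ x.2.2))⟩,
        (Y.mem_cell_refl hs).2 ⟨_, x.1.2, _, hu _ x.2.2, rfl⟩⟩ :
        Lie.cell Y.bnPair (Lie.refl Y.bnPair s))) ⟨fun x y e => ?_, fun g => ?_⟩
    · have e' : x.1.1 * c.nw F J * x.2.1 = y.1.1 * c.nw F J * y.2.1 :=
        congrArg (fun z : Lie.cell Y.bnPair (Lie.refl Y.bnPair s) => ((z.1 : GL D.Idx F))) e
      obtain ⟨h2, h3⟩ := c.bruhat_unique_factors (one_mem _) hlt x.1.2.1 y.1.2.1 x.2.2.1 y.2.2.1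
        (by simpa using e')
      exact Prod.ext (Subtype.ext h2) (Subtype.ext h3)
    · obtain ⟨g, hg⟩ := g
      obtain ⟨b₁, h₁, b₂, h₂, e⟩ := (Y.mem_cell_refl hs).1 hg
      obtain ⟨b, hb, i, hi, u, hu', e'⟩ := Y.exists_bruhat_fix (Y.le_fix g.2)
      obtain ⟨hw, -, -⟩ := Y.wd_spec hi
      have hsame : c.Same J (Y.W.wd i) := c.same_of_coset hlt hw h₁.1 h₂.1 hb.1
        (Subgroup.mem_sup_left (c.KS_invSet_le_U hw hu'.1)) (e.symm.trans e')
      have hsame' : c.Same (Y.W.wd i) J := fun q hq => (hsame q hq).symm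
      obtain ⟨k, hk, ek⟩ := c.exists_H_mul_of_same (F := F) hw hlt hsame'
      have hset : c.invSet (Y.W.wd i) = c.invSet J := Set.ext fun r =>
        and_congr_right fun hr => by rw [c.wl_eq_of_same hw hlt hsame' hr.2]
      rw [hset] at hu'
      rw [ek, ← mul_assoc] at e'
      have hbk : b * k ∈ T.fix := by
        rw [show b * k = (g : GL D.Idx F) * u⁻¹ * (c.nw F J)⁻¹ by rw [e']; group]
        exact mul_mem (mul_mem (Y.le_fix g.2) (inv_mem hu'.2)) (inv_mem (Y.nw_J_fix hJ))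
      exact ⟨(⟨b * k, mul_mem hb.1 (c.H_le_B hk), hbk⟩, ⟨u, hu'⟩),
        Subtype.ext (Subtype.ext e'.symm)⟩
  have hfin : Finite ↥Y.G₁ := inferInstance
  calc Nat.card (Y.bnPair.parabolic {(s : ↥Y.G₁)})
      = (Y.bnPair.parabolic {(s : ↥Y.G₁)} : Set ↥Y.G₁).ncard := Nat.card_coe_set_eq _
    _ = (Y.bnPair.B : Set ↥Y.G₁).ncard + (Lie.cell Y.bnPair (Lie.refl Y.bnPair s)).ncard := by
        rw [hset, Set.ncard_union_eq hdisj]
    _ = _ := by
        rw [← Nat.card_coe_set_eq, ← Nat.card_coe_set_eq, hcell, mul_add, mul_one]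
        rfl

/-- The index of the torus in the Borel subgroup. -/
theorem index_torB : (Cfsg.Agent.Char.StBN.torB Y.bnPair).index =
    Nat.card ↥(D.posUnipotent F ⊓ T.fix) := by
  have h := Subgroup.card_mul_index (Cfsg.Agent.Char.StBN.torB Y.bnPair)
  have hT : Nat.card (Cfsg.Agent.Char.StBN.torB Y.bnPair) =
      Nat.card ↥(D.diagonalSubgroup F ⊓ T.fix) :=
    Nat.card_congr
      { toFun := fun y => ⟨(((y : Y.bnPair.B) : ↥Y.G₁) : GL D.Idx F),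
          c.B_inf_N.le ⟨(Subgroup.mem_subgroupOf.1 y.2).1.1, (Subgroup.mem_subgroupOf.1 y.2).2.1⟩,
          Y.le_fix ((y : Y.bnPair.B) : ↥Y.G₁).2⟩
        invFun := fun a => ⟨⟨⟨a.1, Y.H_le a.2⟩, ⟨c.H_le_B a.2.1, Y.H_le a.2⟩⟩,
          Subgroup.mem_subgroupOf.2
            ⟨⟨c.H_le_B a.2.1, Y.H_le a.2⟩, ⟨Subgroup.mem_sup_left a.2.1, Y.H_le a.2⟩⟩⟩
        left_inv := fun _ => rfl
        right_inv := fun _ => rfl }
  rw [hT, Y.card_bnB, card_B_fix (T := T),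
    mul_comm (Nat.card ↥(D.posUnipotent F ⊓ T.fix))] at h
  exact Nat.eq_of_mul_eq_mul_left Nat.card_pos h

/-- If an element of order prime to `p` commutes with an element of order `p`, then each prime
dividing its order divides the order of a proper parabolic subgroup. -/
theorem exists_parabolic_dvd [Fintype Y.bnPair.S] (p : ℕ) [Fact p.Prime]
    (hdeg : (Nat.card ↥(D.posUnipotent F ⊓ T.fix)).factorization p =
      (Nat.card ↥Y.G₁).factorization p)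
    {a b : ↥Y.G₁} (ha : orderOf a = p) (hab : Commute a b) {r : ℕ} (hr : r.Prime) (hrp : r ≠ p)
    (hrb : r ∣ orderOf b) :
    ∃ J : Finset Y.bnPair.S, J ≠ Finset.univ ∧
      r ∣ Nat.card (Y.bnPair.parabolic (Cfsg.Agent.Char.StBN.img Y.bnPair J)) := by
  classical
  have hfin : Finite ↥Y.G₁ := inferInstance
  by_contra hcon
  have hord : orderOf (b ^ (orderOf b / r)) = r := by
    rw [orderOf_pow_of_dvd (Nat.div_ne_zero_iff.2 ⟨hr.ne_zero,
        Nat.le_of_dvd (orderOf_pos b) hrb⟩) (Nat.div_dvd_of_dvd hrb),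
      Nat.div_div_self hrb (orderOf_pos b).ne']
  obtain ⟨n, hn⟩ := Y.exists_opposite_fix
  refine Cfsg.Agent.Char.StBN.not_dvd_centralizer Y.bnPair hn p (g := b ^ (orderOf b / r))
    (by rw [Y.index_torB]; exact hdeg) ?_ ?_ ?_
  · rw [hord]
    intro h
    exact hrp ((Nat.prime_dvd_prime_iff_eq (Fact.out : p.Prime) hr).1 h).symm
  · intro J hJ x hx
    refine hcon ⟨J, hJ, ?_⟩
    have h := orderOf_dvd_natCard
      (⟨x⁻¹ * b ^ (orderOf b / r) * x, hx⟩ :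
        Y.bnPair.parabolic (Cfsg.Agent.Char.StBN.img Y.bnPair J))
    rwa [Subgroup.orderOf_mk, show x⁻¹ * b ^ (orderOf b / r) * x =
      MulAut.conj x⁻¹ (b ^ (orderOf b / r)) by simp, MulEquiv.orderOf_eq, hord] at h
  · have hmem : a ∈ Subgroup.centralizer ({b ^ (orderOf b / r)} : Set ↥Y.G₁) :=
      Subgroup.mem_centralizer_singleton_iff.2 (hab.pow_right _).eq
    have h := orderOf_dvd_natCard
      (⟨a, hmem⟩ : Subgroup.centralizer ({b ^ (orderOf b / r)} : Set ↥Y.G₁))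
    rwa [Subgroup.orderOf_mk, ha] at h

/-- In rank two the prime divides the order of the parabolic subgroup of one of the orbits. -/
theorem dvd_orbit {L₁ L₂ : List ℕ} (hJw : Y.W.Jw = [L₁, L₂]) (p : ℕ) [Fact p.Prime]
    (hdeg : (Nat.card ↥(D.posUnipotent F ⊓ T.fix)).factorization p =
      (Nat.card ↥Y.G₁).factorization p)
    {a b : ↥Y.G₁} (ha : orderOf a = p) (hab : Commute a b) {r : ℕ} (hr : r.Prime) (hrp : r ≠ p)
    (hrb : r ∣ orderOf b) :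
    ∃ L ∈ Y.W.Jw,
      r ∣ Nat.card Y.bnPair.B * (1 + Nat.card ↥(c.KS F (c.invSet L) c.T.h ⊓ T.fix)) := by
  classical
  haveI := Fintype.ofFinite Y.bnPair.S
  obtain ⟨J, hJ, hdvd⟩ := Y.exists_parabolic_dvd p hdeg ha hab hr hrp hrb
  have hlist : ∀ u : Y.bnPair.S, ∃ L ∈ Y.W.Jw,
      ((u : ↥Y.G₁) : GL D.Idx F) = c.nw F L := fun u => by
    obtain ⟨L, hL, e⟩ := u.2
    exact ⟨L, hL, e⟩
  obtain ⟨s, hs⟩ : ∃ s : Y.bnPair.S, J ⊆ {s} := by
    rcases J.eq_empty_or_nonempty with rfl | ⟨s, hs⟩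
    · have h : L₁ ∈ Y.W.Jw := by rw [hJw]; exact List.mem_cons_self
      exact ⟨⟨⟨c.nw F L₁, Y.n_mem _ h⟩, L₁, h, rfl⟩, Finset.empty_subset _⟩
    · refine ⟨s, fun t ht => ?_⟩
      rw [Finset.mem_singleton]
      by_contra hne
      refine hJ (Finset.eq_univ_iff_forall.2 fun u => ?_)
      have hsame : ∀ {u v : Y.bnPair.S} {L : List ℕ},
          ((u : ↥Y.G₁) : GL D.Idx F) = c.nw F L →
          ((v : ↥Y.G₁) : GL D.Idx F) = c.nw F L → u = v :=
        fun h h' => Subtype.ext (Subtype.ext (h.trans h'.symm))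
      obtain ⟨M₁, h₁, e₁⟩ := hlist s
      obtain ⟨M₂, h₂, e₂⟩ := hlist t
      obtain ⟨M₃, h₃, e₃⟩ := hlist u
      rw [hJw] at h₁ h₂ h₃
      simp only [List.mem_cons, List.not_mem_nil, or_false] at h₁ h₂ h₃
      rcases h₁ with rfl | rfl <;> rcases h₂ with rfl | rfl <;>
        rcases h₃ with rfl | rfl <;>
        first
        | exact hsame e₁ e₃ ▸ hs
        | exact hsame e₂ e₃ ▸ ht
        | exact absurd (hsame e₂ e₁) hne
  have hle : Y.bnPair.parabolic (Cfsg.Agent.Char.StBN.img Y.bnPair J) ≤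
      Y.bnPair.parabolic {(s : ↥Y.G₁)} := by
    refine sup_le_sup le_rfl (Subgroup.closure_mono ?_)
    rintro _ ⟨t, ht, rfl⟩
    rw [Finset.mem_singleton.1 (hs ht)]
    exact Set.mem_singleton _
  obtain ⟨L, hL, eL⟩ := hlist s
  refine ⟨L, hL, ?_⟩
  rw [← Y.card_parabolic hL eL]
  exact hdvd.trans (Subgroup.card_dvd_of_le hle)

end Datum

end Twist

end Cfsg.Agent.Lie.Chev
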