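import Cfsg.Agent.Lib.Lie.Chev.TwistF4TwoPattern
import Cfsg.Agent.Lib.Lie.Chev.TwistElliptic
import Cfsg.Agent.Lib.Lie.BNHom

/-! The parity homomorphism of ²F₄(2) onto a group of order two. -/

set_option autoImplicit false
set_option maxRecDepth 4000

namespace Cfsg.Agent.Lie.Chev.F4Two

open Cfsg.Lie Matrix

/-- The trivial twist of the base field. -/
abbrev f₀ : K₂ →+* K₂ := RingHom.id K₂

theorem hf₀ : ∀ t : K₂, f₀ t = t ^ 2 ^ 0 := fun t => by simp

theorem hK₀ : Fintype.card K₂ = 2 ^ (2 * 0 + 1) := by simp [ZMod.card]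

instance expChar₂ : ExpChar K₂ 2 := ExpChar.prime Nat.prime_two

/-- Lifts of the orbits of two roots given by fixed words. -/
theorem lifts_of_pairs {D : ChevalleyDatum} {c : CertFull D} {F : Type*} [Field F]
    {T : Twist c F} {e : ℕ} (G : T.Grading e) {G₁ : Subgroup (GL D.Idx F)}
    (hper : ∀ r, c.Pos r → G.per r = 2)
    (h : ∀ r, c.Pos r → ∀ a : F, a ≠ 0 → ∃ (b : F) (rest : List (ℕ × F)),
      (∀ y ∈ rest, (∃ z ∈ c.T.commTerms r (T.ρ r), z.1 = y.1) ∧ G.lvl r < G.lvl y.1) ∧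
      c.xg r a * c.xg (T.ρ r) b * (rest.map fun y => c.xg y.1 y.2).prod ∈ G₁ ⊓ T.fix) :
    G.Lifts G₁ := by
  classical
  intro S hS hst r hr a _
  have hr' := hS.1 r hr
  have hne : T.ρ r ≠ r := G.per_min r hr' 1 Nat.one_pos (by rw [hper r hr']; omega)
  by_cases ha : a = 0
  · subst ha
    refine ⟨1, one_mem _, fun _ => 0, rfl, 1, one_mem _, ?_⟩
    rw [mul_one, List.prod_eq_one]
    intro g hg
    obtain ⟨i, -, rfl⟩ := List.mem_map.1 hg
    exact c.xg_zero _
  obtain ⟨b, rest, hrest, hmem⟩ := h r hr' a ha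
  refine ⟨_, hmem, fun x => if x = r then a else b, if_pos rfl,
    (rest.map fun y => c.xg y.1 y.2).prod, ?_, ?_⟩
  · refine Subgroup.list_prod_mem _ fun g hg => ?_
    obtain ⟨y, hy, rfl⟩ := List.mem_map.1 hg
    obtain ⟨⟨z, hz, ez⟩, hlvl⟩ := hrest y hy
    have hyS : y.1 ∈ S := ez ▸ hS.2 r hr _ (hst r hr) z hz
    exact c.xg_mem_KS (show y.1 ∈ G.from_ S (G.lvl r + 1) from ⟨hyS, hlvl⟩) (hS.1 _ hyS).1 _
  · rw [hper r hr']
    simp [List.range_succ, hne]

/-- ²F₄(2) as a twisted group. -/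
noncomputable abbrev Y₀ : Twist.Datum (F4.tw f₀) := F4.datum f₀ hf₀ hK₀

/-- A generator. -/
def W (k : ℕ) : List ℕ := liftWords.getD k []

/-- The image of a word of roots under the twist. -/
def rhoW (w : List ℕ) : List ℕ := w.map isoF4.ρ

/-- A positive word of roots fixed by the twist, in the pattern. -/
def checkWord (w : List ℕ) : Bool :=
  (w.all fun r => Nat.ble 24 r && Nat.blt r 48) && eqv (rhoW w) w && checkPat w

/-- The checks of the generators. -/
def checkGens : Bool :=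
  (List.range 24).all fun k =>
    checkWord (W k) &&
    Nat.beq ((W k).getD 0 0) (24 + k) && Nat.beq ((W k).getD 1 0) (isoF4.ρ (24 + k)) &&
    Nat.ble 2 (W k).length &&
    ((W k).drop 2).all fun y =>
      ((certFullF4.T.commTerms (24 + k) (isoF4.ρ (24 + k))).any fun z => Nat.beq z.1 y) &&
      Nat.blt (lookupN isoLvlF4 (24 + k)) (lookupN isoLvlF4 y)

/-- An element of the rank one part. -/
def Node.U (N : Node) (i : ℕ) : List ℕ := ([] :: N.us).getD i []

/-- The checks of a node. -/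
def checkNode (N : Node) : Bool :=
  orbitsF4.contains N.L &&
  ((certFullF4.nwWord N.L).map Prod.fst == N.nW &&
    (certFullF4.nwWord N.L).all fun x => Nat.beq (x.2.natAbs % 2) 1) &&
  (N.nW.all fun r => Nat.blt r 48) &&
  ((List.range 24).all fun k => N.out.contains k || N.ins.contains k) &&
  (N.out.all fun k => Nat.blt k 24) &&
  ((List.range (N.us.length + 1)).all fun i =>
    checkWord (N.U i) && (N.U i).all fun r => Nat.blt (certFullF4.wl N.L r) 24) &&
  ((List.range N.us.length).all fun i => (List.range 52).any fun a => (List.range 52).any fun b =>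
    !Nat.beq a b && wbit (N.U (i + 1)) a b) &&
  ((List.range (N.us.length + 1)).all fun i => (List.range N.ins.length).all fun p =>
    Nat.ble ((N.table.getD i []).getD p 0) N.us.length &&
    eqv (N.U i ++ W (N.ins.getD p 0)) (N.U ((N.table.getD i []).getD p 0))) &&
  ((List.range N.us.length).all fun i => (List.range N.out.length).all fun p =>
    (((N.normal.getD i []).getD p []).all fun k => N.out.contains k) &&
    eqv (N.U (i + 1) ++ W (N.out.getD p 0))
      (((N.normal.getD i []).getD p []).flatMap W ++ N.U (i + 1))) &&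
  ((List.range N.out.length).all fun p =>
    ((N.conj.getD p []).all fun k => Nat.blt k 24) &&
    eqv (N.nW ++ W (N.out.getD p 0)) ((N.conj.getD p []).flatMap W ++ N.nW) &&
    (chiBit (W (N.out.getD p 0)) == chiBit ((N.conj.getD p []).flatMap W))) &&
  ((List.range N.us.length).all fun i =>
    Nat.ble (N.rel.getD i (0, 0)).1 N.us.length && Nat.ble (N.rel.getD i (0, 0)).2 N.us.length &&
    eqv (N.nW ++ N.U (i + 1) ++ N.nW)
      (N.U (N.rel.getD i (0, 0)).1 ++ N.nW ++ N.U (N.rel.getD i (0, 0)).2) &&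
    (chiBit (N.U (i + 1)) ==
      xor (chiBit (N.U (N.rel.getD i (0, 0)).1)) (chiBit (N.U (N.rel.getD i (0, 0)).2))))

theorem checkGens_ok : checkGens = true := by decide +kernel

theorem checkNode_ok : checkNode nodeA = true ∧ checkNode nodeB = true := by decide +kernel

theorem nodes_cover {L : List ℕ} (hL : L ∈ orbitsF4) :
    ∃ N : Node, checkNode N = true ∧ N.L = L := by
  simp only [orbitsF4, List.mem_cons, List.not_mem_nil, or_false] at hL
  rcases hL with rfl | rfl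
  · exact ⟨nodeB, checkNode_ok.2, rfl⟩
  · exact ⟨nodeA, checkNode_ok.1, rfl⟩

theorem checkWord_spec {w : List ℕ} (h : checkWord w = true) :
    (∀ r ∈ w, certFullF4.Pos r ∧ r < 48) ∧ wd w ∈ patSubgroup ∧
      wd w ∈ chevF4.posUnipotent K₂ ⊓ (F4.tw f₀).fix := by
  simp only [checkWord, Bool.and_eq_true, List.all_eq_true, Nat.ble_eq, Nat.blt_eq] at h
  obtain ⟨⟨hr, hρ⟩, hp⟩ := h
  have hpos : ∀ r ∈ w, certFullF4.Pos r := fun r hrw => by
    refine ⟨?_, ?_⟩
    · exact (show certFullF4.T.h ≤ 24 by decide +kernel).trans (hr r hrw).1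
    · rw [F4.node_values.2.2.2.2.2.1]; exact (hr r hrw).2
  have hlt : ∀ r ∈ w, r < 48 := fun r hrw => (hr r hrw).2
  refine ⟨fun r hrw => ⟨hpos r hrw, hlt r hrw⟩, wd_mem_patSubgroup hlt hp,
    Subgroup.mem_inf.2 ⟨?_, ?_⟩⟩
  · refine Subgroup.list_prod_mem _ fun g hg => ?_
    obtain ⟨r, hrw, rfl⟩ := List.mem_map.1 hg
    exact certFullF4.xg_mem_U (hpos r hrw) _
  · have hG : ∀ g ∈ w.map (fun r => certFullF4.xg r (1 : K₂)), g ∈ chevF4.group K₂ := fun g hg => by
      obtain ⟨r, hrw, rfl⟩ := List.mem_map.1 hg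
      exact certFullF4.xg_mem_group (hpos r hrw).2 _
    refine (F4.tw f₀).mem_fix.2 ⟨Subgroup.list_prod_mem _ hG, ?_⟩
    show (F4.tw f₀).act (w.map fun r => certFullF4.xg r (1 : K₂)).prod = _
    rw [(F4.tw f₀).act_list_prod _ hG]
    refine Eq.trans ?_ (wd_eq_of_eqv hρ)
    rw [wd, rhoW, List.map_map, List.map_map]
    refine congrArg List.prod (List.map_congr_left fun r hrw => ?_)
    show (F4.tw f₀).act (certFullF4.xg r (1 : K₂)) = certFullF4.xg (isoF4.ρ r) 1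
    rw [F4.act_x f₀ (hlt r hrw), map_one, one_pow]

/-- The subgroup of the generators. -/
def genSub : Subgroup (GL chevF4.Idx K₂) :=
  Subgroup.closure {g | ∃ k < 24, g = wd (W k)}

theorem W_spec {k : ℕ} (hk : k < 24) : checkWord (W k) = true := by
  have h := checkGens_ok
  simp only [checkGens, List.all_eq_true, List.mem_range, Bool.and_eq_true] at h
  exact (h k hk).1.1.1.1

theorem genSub_le : genSub ≤ (chevF4.posUnipotent K₂ ⊓ (F4.tw f₀).fix) ⊓ patSubgroup := by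
  refine (Subgroup.closure_le _).2 ?_
  rintro g ⟨k, hk, rfl⟩
  obtain ⟨-, h1, h2⟩ := checkWord_spec (W_spec hk)
  exact ⟨h2, h1⟩

theorem grading_values {K : Type*} [Field K] [CharP K 2] [ExpChar K 2] [Fintype K] (f : K →+* K)
    {m : ℕ} (hf : ∀ t, f t = t ^ 2 ^ m) (hK : Fintype.card K = 2 ^ (2 * m + 1)) :
    (∀ r, (F4.grading f hf hK).per r = 2) ∧
      (∀ r, (F4.grading f hf hK).lvl r = lookupN isoLvlF4 r) ∧ ∀ r, (F4.tw f).ρ r = isoF4.ρ r :=
  ⟨fun _ => rfl, fun _ => rfl, fun _ => rfl⟩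

theorem lifts₀ : (F4.grading f₀ hf₀ hK₀).Lifts genSub := by
  obtain ⟨hper, hlvl, hρ⟩ := grading_values f₀ hf₀ hK₀
  refine lifts_of_pairs (F4.grading f₀ hf₀ hK₀) (fun r _ => hper r) fun r hr a ha => ?_
  rw [hρ]
  simp only [hlvl]
  have h24 : 24 ≤ r ∧ r < 48 := by
    have h1 := hr.1
    have h2 := hr.2
    rw [F4.node_values.2.2.2.2.2.1] at h2
    have h3 : 24 ≤ certFullF4.T.h := by decide +kernel
    omega
  obtain rfl : a = 1 := (show ∀ x : K₂, x ≠ 0 → x = 1 by decide) a ha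
  obtain ⟨k, rfl⟩ : ∃ k, r = 24 + k := ⟨r - 24, by omega⟩
  have hk : k < 24 := by omega
  have h := checkGens_ok
  simp only [checkGens, List.all_eq_true, List.mem_range, Bool.and_eq_true, Nat.beq_eq,
    Nat.ble_eq, Nat.blt_eq, List.any_eq_true] at h
  obtain ⟨⟨⟨⟨-, h0⟩, h1⟩, hlen⟩, hrest⟩ := h k hk
  obtain ⟨w, hw⟩ : ∃ w, w = W k := ⟨_, rfl⟩
  rw [← hw] at h0 h1 hlen hrest
  have hmemW : wd w ∈ genSub ⊓ (F4.tw f₀).fix := by
    have h2 : wd (W k) ∈ genSub := Subgroup.subset_closure ⟨k, hk, rfl⟩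
    exact hw ▸ ⟨h2, (genSub_le h2).1.2⟩
  rcases w with _ | ⟨x, _ | ⟨y, rest⟩⟩
  · exact absurd hlen (by simp)
  · exact absurd hlen (by simp)
  · simp only [List.getD_cons_zero, List.getD_cons_succ] at h0 h1
    subst h0 h1
    refine ⟨1, rest.map fun z => (z, (1 : K₂)), fun z hz => ?_, ?_⟩
    · obtain ⟨z', hz', rfl⟩ := List.mem_map.1 hz
      exact hrest z' (by simpa using hz')
    · rw [wd, List.map_cons, List.map_cons, List.prod_cons, List.prod_cons, ← mul_assoc] at hmemW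
      rw [List.map_map]
      exact hmemW

theorem U_fix_eq : chevF4.posUnipotent K₂ ⊓ (F4.tw f₀).fix = genSub := by
  refine le_antisymm ?_ fun g hg => (genSub_le hg).1
  rw [certFullF4.U_eq_KS]
  exact ((F4.grading f₀ hf₀ hK₀).card_fix_KS lifts₀ (certFullF4.keepSet_closed (by simp))
    Twist.Datum.keep_stable).1

theorem borel_fix_eq : chevF4.borelSubgroup K₂ ⊓ (F4.tw f₀).fix = genSub := by
  rw [← U_fix_eq]
  refine le_antisymm (fun g hg => ?_) (inf_le_inf_right _ le_sup_left)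
  obtain ⟨u, hu, a, ha, rfl⟩ := (F4.tw f₀).borel_fix hg
  have h1 : chevF4.diagonalSubgroup K₂ ⊓ (F4.tw f₀).fix = ⊥ := by
    rw [← Subgroup.card_eq_one, F4.card_H f₀ hf₀ hK₀]
    norm_num
  rw [h1, Subgroup.mem_bot] at ha
  rw [ha, mul_one]
  exact hu

theorem chi_mul_gen {g h : GL chevF4.Idx K₂} (hg : g ∈ genSub) (hh : h ∈ genSub) :
    chi (g * h) = chi g + chi h :=
  (rel_mul (genSub_le hg).2.1 (genSub_le hh).2.1 (genSub_le hg).2.2 (genSub_le hh).2.2).2

theorem chi_flat : ∀ l : List ℕ, (∀ k ∈ l, k < 24) →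
    wd (l.flatMap W) ∈ genSub ∧ ∀ r ∈ l.flatMap W, r < 48 := by
  intro l hl
  refine ⟨?_, fun r hr => ?_⟩
  · rw [wd_flatMap]
    refine Subgroup.list_prod_mem _ fun g hg => ?_
    obtain ⟨k, hk, rfl⟩ := List.mem_map.1 hg
    exact Subgroup.subset_closure ⟨k, hl k hk, rfl⟩
  · obtain ⟨k, hk, hr⟩ := List.mem_flatMap.1 hr
    exact ((checkWord_spec (W_spec (hl k hk))).1 r hr).2

/-- The facts about a node used below. -/
theorem node_spec {N : Node} (hN : checkNode N = true) :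
    (N.L ∈ orbitsF4 ∧ wd N.nW = certFullF4.nw K₂ N.L) ∧
    (∀ i ≤ N.us.length, wd (N.U i) ∈ genSub ∧
      wd (N.U i) ∈ certFullF4.KS K₂ (certFullF4.invSet N.L) certFullF4.T.h ∧
      (i ≠ 0 → wd (N.U i) ≠ 1)) ∧
    (∀ b ∈ genSub, ∃ m ∈ genSub, ∃ i ≤ N.us.length, b = m * wd (N.U i) ∧
      ∃ c ∈ genSub, wd N.nW * m = c * wd N.nW ∧ chi c = chi m) ∧
    (∀ i, 1 ≤ i → i ≤ N.us.length → ∃ a ≤ N.us.length, ∃ b ≤ N.us.length,
      wd N.nW * wd (N.U i) * wd N.nW = wd (N.U a) * wd N.nW * wd (N.U b) ∧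
      chi (wd (N.U i)) = chi (wd (N.U a)) + chi (wd (N.U b))) := by
  simp only [checkNode, List.all_eq_true, List.mem_range, Bool.and_eq_true, List.any_eq_true,
    Nat.ble_eq, Nat.blt_eq, Bool.or_eq_true, List.contains_iff_mem, beq_iff_eq,
    Bool.not_eq_true'] at hN
  obtain ⟨⟨⟨⟨⟨⟨⟨⟨⟨⟨hL, hnw⟩, -⟩, hcov⟩, hout⟩, hU⟩, hne⟩, htab⟩, hnorm⟩, hconj⟩, hrel⟩ := hN
  have hlt : ∀ p ∈ N.L, p < chevF4.rank := ((F4.weyl f₀).J_spec hL).2.1
  have hUspec := fun i (hi : i ≤ N.us.length) => checkWord_spec (hU i (Nat.lt_succ_of_le hi)).1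
  have hUg : ∀ i ≤ N.us.length, wd (N.U i) ∈ genSub := fun i hi =>
    U_fix_eq ▸ (hUspec i hi).2.2
  refine ⟨⟨hL, ?_⟩, fun i hi => ⟨hUg i hi, ?_, ?_⟩, ?_, fun i h1 hi => ?_⟩
  · rw [certFullF4.nw_eq_word hlt, ← hnw.1, wd, List.map_map]
    refine congrArg List.prod (List.map_congr_left fun x hx => ?_)
    show certFullF4.xg x.1 (1 : K₂) = certFullF4.xg x.1 (x.2 : K₂)
    congr 1
    rw [eq_comm, ← sub_eq_zero, ← Int.cast_one, ← Int.cast_sub, CharP.intCast_eq_zero_iff K₂ 2]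
    have := Nat.eq_of_beq_eq_true (hnw.2 x hx)
    show (2 : ℤ) ∣ _
    omega
  · refine Subgroup.list_prod_mem _ fun g hg => ?_
    obtain ⟨r, hr, rfl⟩ := List.mem_map.1 hg
    have hp := ((hUspec i hi).1 r hr).1
    refine certFullF4.xg_mem_KS (show r ∈ certFullF4.invSet N.L from ⟨hp, fun h => ?_⟩) hp.1 _
    have h2 := (hU i (by omega)).2 r hr
    have h3 := h.1
    have h4 : 24 ≤ certFullF4.T.h := by decide +kernel
    omega
  · intro hi0 e
    obtain ⟨j, rfl⟩ : ∃ j, i = j + 1 := ⟨i - 1, by omega⟩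
    obtain ⟨a, ha, b, hb, hab, hbit⟩ := hne j (by omega)
    have h1 := en_wd (fun r hr => ((hUspec (j + 1) hi).1 r hr).2) ha hb
    rw [e, hbit, if_pos rfl, en, Units.val_one, Matrix.one_apply_ne] at h1
    · exact zero_ne_one h1
    · intro e'
      have e'' : a = b := by rw [← enum_ix ha, ← enum_ix hb, e']
      have h2 : Nat.beq a b = true := by rw [Nat.beq_eq]; exact e''
      rw [h2] at hab
      exact absurd hab (by simp)
  · -- every element is a product of the outer part and the rank one part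
    obtain ⟨M, hM⟩ : ∃ M, M = Subgroup.closure {g | ∃ k ∈ N.out, g = wd (W k)} := ⟨_, rfl⟩
    have hMle : M ≤ genSub := hM ▸ (Subgroup.closure_le _).2 (by
      rintro g ⟨k, hk, rfl⟩
      exact Subgroup.subset_closure ⟨k, hout k hk, rfl⟩)
    have hMgood : ∀ m ∈ M, ∃ c ∈ genSub, wd N.nW * m = c * wd N.nW ∧ chi c = chi m := by
      rw [hM]
      intro m hm
      induction hm using Subgroup.closure_induction with
      | mem g hg =>
        obtain ⟨k, hk, rfl⟩ := hg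
        obtain ⟨p, hp, rfl⟩ := List.getElem_of_mem hk
        obtain ⟨⟨hl, he⟩, hchi⟩ := hconj p hp
        rw [List.getD_eq_getElem _ 0 hp] at he hchi
        obtain ⟨hmem, hroots⟩ := chi_flat _ hl
        refine ⟨_, hmem, ?_, ?_⟩
        · rw [← wd_append, ← wd_append, wd_eq_of_eqv he]
        · rw [chi_wd hroots,
            chi_wd fun r hr => ((checkWord_spec (W_spec (hout _ hk))).1 r hr).2, hchi]
      | one => exact ⟨1, one_mem _, by simp, rfl⟩
      | mul x y hx hy ihx ihy =>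
        obtain ⟨c, hc, e1, h1⟩ := ihx
        obtain ⟨d, hd, e2, h2⟩ := ihy
        refine ⟨c * d, mul_mem hc hd, ?_, ?_⟩
        · rw [← mul_assoc, e1, mul_assoc, e2, mul_assoc]
        · rw [chi_mul_gen hc hd, chi_mul_gen (hMle (hM.symm ▸ hx)) (hMle (hM.symm ▸ hy)), h1, h2]
      | inv x hx ihx =>
        obtain ⟨c, hc, e1, h1⟩ := ihx
        refine ⟨c⁻¹, inv_mem hc, ?_, ?_⟩
        · rw [eq_inv_mul_iff_mul_eq, ← mul_assoc, ← e1]
          group
        · have a1 := chi_mul_gen hc (inv_mem hc)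
          have a2 := chi_mul_gen (hMle (hM.symm ▸ hx)) (inv_mem (hMle (hM.symm ▸ hx)))
          rw [mul_inv_cancel, chi_one.1] at a1 a2
          rw [eq_comm, ← sub_eq_zero]
          linear_combination a1 - a2 + h1
    have hkey : ∀ i ≤ N.us.length, ∀ k < 24, ∃ m ∈ M, ∃ j ≤ N.us.length,
        wd (N.U i) * wd (W k) = m * wd (N.U j) := by
      intro i hi k hk
      rcases hcov k hk with h | h
      · rcases Nat.eq_zero_or_pos i with rfl | hi0
        · refine ⟨wd (W k), hM ▸ Subgroup.subset_closure ⟨k, h, rfl⟩, 0, Nat.zero_le _, ?_⟩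
          simp [Node.U, wd]
        · obtain ⟨j, rfl⟩ : ∃ j, i = j + 1 := ⟨i - 1, by omega⟩
          obtain ⟨p, hp, rfl⟩ := List.getElem_of_mem h
          obtain ⟨hl, he⟩ := hnorm j (by omega) p hp
          rw [List.getD_eq_getElem _ 0 hp] at he
          refine ⟨_, ?_, j + 1, hi, by rw [← wd_append, ← wd_append, wd_eq_of_eqv he]⟩
          rw [wd_flatMap]
          refine Subgroup.list_prod_mem _ fun g hg => ?_
          obtain ⟨k', hk', rfl⟩ := List.mem_map.1 hg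
          exact hM ▸ Subgroup.subset_closure ⟨k', hl k' hk', rfl⟩
      · obtain ⟨p, hp, rfl⟩ := List.getElem_of_mem h
        obtain ⟨hle, he⟩ := htab i (by omega) p hp
        rw [List.getD_eq_getElem _ 0 hp] at he
        exact ⟨1, one_mem _, _, hle, by rw [← wd_append, one_mul, wd_eq_of_eqv he]⟩
    intro b hb
    rw [genSub, ← Subgroup.mem_toSubmonoid, Subgroup.closure_toSubmonoid_of_finite] at hb
    suffices h : ∃ m ∈ M, ∃ i ≤ N.us.length, b = m * wd (N.U i) by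
      obtain ⟨m, hm, i, hi, e⟩ := h
      exact ⟨m, hMle hm, i, hi, e, hMgood m hm⟩
    induction hb using Submonoid.closure_induction_right with
    | one => exact ⟨1, one_mem _, 0, Nat.zero_le _, by simp [Node.U, wd]⟩
    | mul_right x hx y hy ih =>
      obtain ⟨k, hk, rfl⟩ := hy
      obtain ⟨m, hm, i, hi, rfl⟩ := ih
      obtain ⟨m', hm', j, hj, e⟩ := hkey i hi k hk
      exact ⟨m * m', mul_mem hm hm', j, hj, by rw [mul_assoc, e, mul_assoc]⟩
  · obtain ⟨j, rfl⟩ : ∃ j, i = j + 1 := ⟨i - 1, by omega⟩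
    obtain ⟨⟨⟨ha, hb⟩, he⟩, hchi⟩ := hrel j (by omega)
    refine ⟨_, ha, _, hb, ?_, ?_⟩
    · rw [← wd_append, ← wd_append, ← wd_append, ← wd_append, wd_eq_of_eqv he]
    · rw [chi_wd (fun r hr => ((hUspec _ hi).1 r hr).2),
        chi_wd (fun r hr => ((hUspec _ ha).1 r hr).2),
        chi_wd (fun r hr => ((hUspec _ hb).1 r hr).2), hchi]
      generalize chiBit (N.U (N.rel.getD j (0, 0)).1) = x,
        chiBit (N.U (N.rel.getD j (0, 0)).2) = y
      cases x <;> cases y <;> decide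

theorem mem_genSub (b : ↥Y₀.bnPair.B) :
    ((b : ↥Y₀.G₁) : GL chevF4.Idx K₂) ∈ genSub := by
  rw [← borel_fix_eq]
  exact (Twist.Datum.mem_bnB Y₀).1 b.2

/-- The functional on the Borel subgroup. -/
noncomputable def chiB : ↥Y₀.bnPair.B →* Multiplicative K₂ where
  toFun b := Multiplicative.ofAdd (chi ((b : ↥Y₀.G₁) : GL chevF4.Idx K₂))
  map_one' := by
    show Multiplicative.ofAdd (chi 1) = 1
    rw [chi_one.1]
    rfl
  map_mul' a b := by
    show Multiplicative.ofAdd (chi (((a : ↥Y₀.G₁) : GL chevF4.Idx K₂) * (b : ↥Y₀.G₁))) = _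
    rw [chi_mul_gen (mem_genSub a) (mem_genSub b)]
    rfl

theorem gen_conj {N : Node} (hN : checkNode N = true) {b c : GL chevF4.Idx K₂}
    (hb : b ∈ genSub) (hc : c ∈ genSub) (e : wd N.nW * b = c * wd N.nW) : chi c = chi b := by
  obtain ⟨⟨hL, hn⟩, hU, hdec, -⟩ := node_spec hN
  obtain ⟨m, hm, i, hi, rfl, c', hc', e', hchi⟩ := hdec b hb
  have h1 : wd N.nW * wd (N.U i) * (wd N.nW)⁻¹ = c'⁻¹ * c := by
    rw [← mul_assoc, e', mul_assoc] at e
    rw [mul_inv_eq_iff_eq_mul, eq_comm, mul_assoc, inv_mul_eq_iff_eq_mul]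
    exact e.symm
  have hV := certFullF4.conj_inv_mem_V (one_mem _) ((F4.weyl f₀).J_spec hL).2.1 (hU i hi).2.1
  rw [one_mul, ← hn, h1] at hV
  have h2 := certFullF4.borel_inf_negUnipotent.1.le
    ⟨(inf_le_left : chevF4.borelSubgroup K₂ ⊓ (F4.tw f₀).fix ≤ _)
      (borel_fix_eq ▸ mul_mem (inv_mem hc') hc), hV⟩
  rw [Subgroup.mem_bot] at h2
  have hu1 : wd (N.U i) = 1 := by
    rw [h2, mul_inv_eq_one] at h1
    exact mul_eq_left.1 h1
  rw [inv_mul_eq_one] at h2
  rw [← h2, hchi, hu1, mul_one]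

theorem extendable : Cfsg.Agent.Lie.Extendable Y₀.bnPair chiB := by
  have hnode : ∀ s : Y₀.bnPair.S, ∃ N, checkNode N = true ∧
      ((s : ↥Y₀.G₁) : GL chevF4.Idx K₂) = wd N.nW := fun s => by
    obtain ⟨J, hJ, e⟩ := s.2
    obtain ⟨N, hN, rfl⟩ := nodes_cover (hJ : J ∈ orbitsF4)
    exact ⟨N, hN, e.trans (node_spec hN).1.2.symm⟩
  refine ⟨fun h hh => ?_, fun s b c e => ?_, fun s b b' b'' e => ?_⟩
  · have h1 : ((h : ↥Y₀.G₁) : GL chevF4.Idx K₂) ∈
        chevF4.diagonalSubgroup K₂ ⊓ (F4.tw f₀).fix :=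
      ⟨certFullF4.B_inf_N.le ⟨((Twist.Datum.mem_bnB Y₀).1 h.2).1, hh.1⟩,
        ((Twist.Datum.mem_bnB Y₀).1 h.2).2⟩
    have h2 : chevF4.diagonalSubgroup K₂ ⊓ (F4.tw f₀).fix = ⊥ := by
      rw [← Subgroup.card_eq_one, F4.card_H f₀ hf₀ hK₀]
      norm_num
    rw [h2, Subgroup.mem_bot] at h1
    show Multiplicative.ofAdd (chi _) = 1
    rw [h1, chi_one.1]
    rfl
  · obtain ⟨N, hN, hs⟩ := hnode s
    have e' := congrArg (fun g : ↥Y₀.G₁ => (g : GL chevF4.Idx K₂)) e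
    simp only [Subgroup.coe_mul, Subgroup.coe_inv, hs] at e'
    have h1 : chi ((c : ↥Y₀.G₁) : GL chevF4.Idx K₂) = chi ((b : ↥Y₀.G₁) : GL chevF4.Idx K₂) := by
      refine gen_conj hN (mem_genSub b) (mem_genSub c) ?_
      rw [← e', inv_mul_cancel_right]
    exact congrArg Multiplicative.ofAdd h1
  · obtain ⟨N, hN, hs⟩ := hnode s
    obtain ⟨⟨hL, hn⟩, hU, hdec, hrel⟩ := node_spec hN
    have e' := congrArg (fun g : ↥Y₀.G₁ => (g : GL chevF4.Idx K₂)) e
    simp only [Subgroup.coe_mul, hs] at e'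
    obtain ⟨m, hm, i, hi, eb, c', hc', ec, hchi⟩ := hdec _ (mem_genSub b)
    show Multiplicative.ofAdd (chi _) = Multiplicative.ofAdd (chi _) * Multiplicative.ofAdd (chi _)
    rw [← ofAdd_add]
    refine congrArg Multiplicative.ofAdd ?_
    rcases Nat.eq_zero_or_pos i with rfl | hi0
    · exfalso
      refine Lie.s_notMem_B Y₀.bnPair s ((Twist.Datum.mem_bnB Y₀).2 ?_)
      have hsq : wd N.nW * wd N.nW ∈ genSub := by
        have h := (Twist.Datum.mem_bnB Y₀).1 (Y₀.bnPair.sq_mem s.1 s.2)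
        rw [Subgroup.coe_mul, hs, borel_fix_eq] at h
        exact h
      rw [eb, show wd (N.U 0) = 1 from rfl, mul_one, ec] at e'
      rw [borel_fix_eq, hs, show wd N.nW = ((b' : ↥Y₀.G₁) : GL chevF4.Idx K₂)⁻¹ *
        (c' * wd N.nW * wd N.nW) * ((b'' : ↥Y₀.G₁) : GL chevF4.Idx K₂)⁻¹ by rw [e']; group]
      rw [mul_assoc c']
      exact mul_mem (mul_mem (inv_mem (mem_genSub b')) (mul_mem hc' hsq)) (inv_mem (mem_genSub b''))
    obtain ⟨a, ha, d, hd, er, hr⟩ := hrel i hi0 hi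
    have h1 : wd N.nW * (wd (N.U d) * ((b'' : ↥Y₀.G₁) : GL chevF4.Idx K₂)⁻¹) =
        ((c' * wd (N.U a))⁻¹ * ((b' : ↥Y₀.G₁) : GL chevF4.Idx K₂)) * wd N.nW := by
      rw [eb, ← mul_assoc (wd N.nW) m, ec] at e'
      rw [show wd N.nW * (wd (N.U d) * ((b'' : ↥Y₀.G₁) : GL chevF4.Idx K₂)⁻¹) =
        (wd (N.U a))⁻¹ * (wd (N.U a) * wd N.nW * wd (N.U d)) *
          ((b'' : ↥Y₀.G₁) : GL chevF4.Idx K₂)⁻¹ by group, ← er,
        show (wd (N.U a))⁻¹ * (wd N.nW * wd (N.U i) * wd N.nW) *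
          ((b'' : ↥Y₀.G₁) : GL chevF4.Idx K₂)⁻¹ = (c' * wd (N.U a))⁻¹ *
            (c' * wd N.nW * wd (N.U i) * wd N.nW) *
              ((b'' : ↥Y₀.G₁) : GL chevF4.Idx K₂)⁻¹ by group, e']
      group
    have hxa := mul_mem hc' (hU a ha).1
    have k1 := gen_conj hN (mul_mem (hU d hd).1 (inv_mem (mem_genSub b'')))
      (mul_mem (inv_mem hxa) (mem_genSub b')) h1
    have k2 := chi_mul_gen (mul_mem (inv_mem hxa) (mem_genSub b')) (one_mem genSub)
    have k3 := chi_mul_gen hxa (mul_mem (inv_mem hxa) (mem_genSub b'))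
    rw [mul_inv_cancel_left] at k3
    have k4 := chi_mul_gen (mul_mem (hU d hd).1 (inv_mem (mem_genSub b''))) (mem_genSub b'')
    rw [inv_mul_cancel_right] at k4
    rw [eb, chi_mul_gen hm (hU i hi).1, k3, chi_mul_gen hc' (hU a ha).1, hr, hchi]
    linear_combination k4 - k1

/-- The parity homomorphism. -/
theorem exists_parity : ∃ F : ↥(twistedF4 K₂ 1) →* Multiplicative K₂,
    ∀ g : ↥(twistedF4 K₂ 1), (g : GL chevF4.Idx K₂) ∈ genSub →
      F g = Multiplicative.ofAdd (chi (g : GL chevF4.Idx K₂)) := by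
  obtain ⟨F, hF, -⟩ := extendable.exists_hom
  refine ⟨F, fun g hg => ?_⟩
  have hgB : (g : ↥Y₀.G₁) ∈ Y₀.bnPair.B :=
    (Twist.Datum.mem_bnB Y₀).2 (borel_fix_eq.symm ▸ hg)
  exact hF ⟨g, hgB⟩

end Cfsg.Agent.Lie.Chev.F4Two
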