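import Cfsg.Agent.Lib.Lie.Chev.AutOutTypes
import Cfsg.Agent.Lib.Lie.Chev.TwistDataD4

/-! The structure of the outer automorphism group: diagonal, field and graph parts. -/

set_option autoImplicit false
set_option maxRecDepth 20000

namespace Cfsg.Agent.Lie.Chev

open Cfsg.Lie Matrix

namespace CertFull

variable {D : ChevalleyDatum} (c : CertFull D) {F : Type*} [Field F]

include c

/-- The diagonal automorphisms as a homomorphism. -/
noncomputable def diagHom (F : Type*) [Field F] :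
    (Fin D.rank → Fˣ) →* MulAut ↥(D.group F) :=
  MonoidHom.mk' (fun z => c.diagAuto (c.nodeChar_isRootCharacter z)) fun z z' => by
    refine c.aut_ext fun i t => ?_
    simp only [MulAut.mul_apply, c.diagAuto_xG _ (c.simple_lt i.2),
      c.diagAuto_xG _ (c.neg_lt (c.simple_lt i.2)), c.nodeChar_mul, Pi.mul_apply, Units.val_mul,
      mul_assoc, and_self]

theorem diagHom_xG (z : Fin D.rank → Fˣ) (i : Fin D.rank) (t : F) :
    c.diagHom F z (c.xG (D.simple i) t) = c.xG (D.simple i) ((z i : F) * t) ∧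
    c.diagHom F z (c.xG (D.neg (D.simple i)) t) =
      c.xG (D.neg (D.simple i)) (((z i)⁻¹ : Fˣ) * t) := by
  constructor
  · exact (c.diagAuto_xG (c.nodeChar_isRootCharacter z) (c.simple_lt i.2) t).trans
      (by rw [c.nodeChar_simple])
  · exact (c.diagAuto_xG (c.nodeChar_isRootCharacter z) (c.neg_lt (c.simple_lt i.2)) t).trans
      (by rw [(c.nodeChar_isRootCharacter z).1 _ (c.simple_lt i.2), c.nodeChar_simple])

/-- The field automorphisms as a homomorphism. -/
noncomputable def fieldHomAut (F : Type*) [Field F] : RingAut F →* MulAut ↥(D.group F) :=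
  MonoidHom.mk' (fun s => c.fieldAuto s) fun s s' => by
    refine MulEquiv.ext fun y => Subtype.ext (Units.ext ?_)
    ext i j
    rfl

theorem fieldHomAut_xG (s : RingAut F) (r : ℕ) (t : F) :
    c.fieldHomAut F s (c.xG r t) = c.xG r (s t) :=
  Subtype.ext (c.xg_map (s : F →+* F) r t)

theorem closure_diag :
    Subgroup.closure {φ : MulAut ↥(D.group F) | D.IsDiagonalAut φ} = (c.diagHom F).range := by
  refine le_antisymm ((Subgroup.closure_le _).2 ?_) ?_
  · rintro d ⟨χ, hχ, hd⟩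
    have he : d = c.diagAuto hχ := by
      refine MulEquiv.ext fun y => Subtype.ext (Units.ext ?_)
      rw [hd y]
      show _ = ((dg D F χ * (y : GL D.Idx F) * (dg D F χ)⁻¹ : GL D.Idx F) :
        Matrix D.Idx D.Idx F)
      rw [← map_inv, Units.val_mul, Units.val_mul, dg_val, dg_val]
      rfl
    refine ⟨fun i => χ (D.simple i), c.aut_ext fun i t => ?_⟩
    rw [he, (c.diagHom_xG _ i t).1, (c.diagHom_xG _ i t).2, c.diagAuto_xG hχ (c.simple_lt i.2),
      c.diagAuto_xG hχ (c.neg_lt (c.simple_lt i.2)), hχ.1 _ (c.simple_lt i.2)]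
    exact ⟨rfl, rfl⟩
  · rintro _ ⟨z, rfl⟩
    exact Subgroup.subset_closure (c.diagAuto_isDiagonalAut (c.nodeChar_isRootCharacter z))

theorem closure_field :
    Subgroup.closure {φ : MulAut ↥(D.group F) | D.IsFieldAut φ} = (c.fieldHomAut F).range := by
  refine le_antisymm ((Subgroup.closure_le _).2 ?_) ?_
  · rintro f ⟨s, hs⟩
    refine ⟨s, c.aut_ext fun i t => ?_⟩
    rw [c.fieldHomAut_xG, c.fieldHomAut_xG]
    exact ⟨(Subtype.ext (c.eq_xg_iff.1 (hs _ _ t (c.simple_lt i.2) (c.xg_val _ _)))).symm,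
      (Subtype.ext (c.eq_xg_iff.1 (hs _ _ t (c.neg_lt (c.simple_lt i.2)) (c.xg_val _ _)))).symm⟩
  · rintro _ ⟨s, rfl⟩
    refine Subgroup.subset_closure ⟨s, fun g r t hr hg => ?_⟩
    rw [show g = c.xG r t from Subtype.ext (c.eq_xg_iff.1 hg), c.fieldHomAut_xG]
    exact c.xg_val _ _

/-- The chosen graph automorphism. -/
noncomputable def gaut (P : c.GraphPerm F) : MulAut ↥(D.group F) := Classical.choose P.2.2

theorem gaut_xG (P : c.GraphPerm F) (i : Fin D.rank) (t : F) :
    c.gaut P (c.xG (D.simple i) t) =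
      c.xG (D.simple (P.1 i)) (t ^ D.graphExp (ringChar F) i (P.1 i)) ∧
    c.gaut P (c.xG (D.neg (D.simple i)) t) =
      c.xG (D.neg (D.simple (P.1 i))) (t ^ D.graphExp (ringChar F) i (P.1 i)) :=
  Classical.choose_spec P.2.2 i t

theorem gaut_field_comm (P : c.GraphPerm F) (s : RingAut F) :
    c.gaut P * c.fieldHomAut F s = c.fieldHomAut F s * c.gaut P := by
  refine c.aut_ext fun i t => ?_
  simp only [MulAut.mul_apply, c.fieldHomAut_xG, (c.gaut_xG P i _).1, (c.gaut_xG P i _).2, map_pow,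
    and_self]

theorem gaut_diag (P : c.GraphPerm F) (z : Fin D.rank → Fˣ) :
    c.gaut P * c.diagHom F z =
      c.diagHom F (fun j => z (P.1.symm j) ^ D.graphExp (ringChar F) (P.1.symm j : Fin D.rank) j) *
        c.gaut P := by
  refine c.aut_ext fun i t => ?_
  constructor
  · rw [MulAut.mul_apply, MulAut.mul_apply, (c.diagHom_xG _ i t).1, (c.gaut_xG P i _).1,
      (c.gaut_xG P i _).1, (c.diagHom_xG _ (P.1 i) _).1, Equiv.symm_apply_apply,
      Units.val_pow_eq_pow_val, mul_pow]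
  · rw [MulAut.mul_apply, MulAut.mul_apply, (c.diagHom_xG _ i t).2, (c.gaut_xG P i _).2,
      (c.gaut_xG P i _).2, (c.diagHom_xG _ (P.1 i) _).2, Equiv.symm_apply_apply, ← inv_pow,
      Units.val_pow_eq_pow_val, mul_pow]

theorem field_diag (s : RingAut F) (z : Fin D.rank → Fˣ) :
    c.fieldHomAut F s * c.diagHom F z =
      c.diagHom F (fun j => Units.map (s.toRingHom : F →* F) (z j)) * c.fieldHomAut F s := by
  refine c.aut_ext fun i t => ?_
  constructor
  · rw [MulAut.mul_apply, MulAut.mul_apply, (c.diagHom_xG _ i t).1, c.fieldHomAut_xG,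
      c.fieldHomAut_xG, (c.diagHom_xG _ i _).1, map_mul]
    rfl
  · rw [MulAut.mul_apply, MulAut.mul_apply, (c.diagHom_xG _ i t).2, c.fieldHomAut_xG,
      c.fieldHomAut_xG, (c.diagHom_xG _ i _).2, map_mul]
    congr 2

/-- Every outer class has a representative `d g f`. -/
theorem exists_rep [Finite F] (hC : c.Classified F) (y : Cfsg.Out ↥(D.group F)) :
    ∃ (z : Fin D.rank → Fˣ) (P : c.GraphPerm F) (s : RingAut F),
      y = QuotientGroup.mk (c.diagHom F z * c.gaut P * c.fieldHomAut F s) := by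
  obtain ⟨θ, rfl⟩ := QuotientGroup.mk_surjective y
  obtain ⟨x, d, gr, f, hd, ⟨π, hsym, hπ⟩, hf, e⟩ := c.decomposition hC θ
  obtain ⟨z, hz⟩ := c.closure_diag.le (Subgroup.subset_closure (k := {φ | D.IsDiagonalAut φ}) hd)
  obtain ⟨s, hs⟩ := c.closure_field.le (Subgroup.subset_closure (k := {φ | D.IsFieldAut φ}) hf)
  have hg' : ∀ (i : Fin D.rank) (t : F),
      gr (c.xG (D.simple i) t) =
        c.xG (D.simple (π i)) (t ^ D.graphExp (ringChar F) i (π i)) ∧
      gr (c.xG (D.neg (D.simple i)) t) =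
        c.xG (D.neg (D.simple (π i))) (t ^ D.graphExp (ringChar F) i (π i)) := fun i t =>
    ⟨Subtype.ext (c.eq_xg_iff.1 ((hπ _ i t).1 (c.xg_val _ _))),
      Subtype.ext (c.eq_xg_iff.1 ((hπ _ i t).2 (c.xg_val _ _)))⟩
  refine ⟨z, ⟨π, hsym, gr, hg'⟩, s, ?_⟩
  have hgP : c.gaut ⟨π, hsym, gr, hg'⟩ = gr := c.aut_ext fun i t =>
    ⟨(c.gaut_xG _ i t).1.trans (hg' i t).1.symm, (c.gaut_xG _ i t).2.trans (hg' i t).2.symm⟩
  have hθ : θ = MulAut.conj x * (c.diagHom F z * c.gaut ⟨π, hsym, gr, hg'⟩ * c.fieldHomAut F s) :=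
    MulEquiv.ext fun y => by rw [hz, hgP, hs, e y]; rfl
  rw [hθ, QuotientGroup.mk_mul,
    (QuotientGroup.eq_one_iff (N := Cfsg.Inn ↥(D.group F)) (MulAut.conj x)).2 ⟨x, rfl⟩, one_mul]

/-- The outer classes of diagonal automorphisms. -/
noncomputable def outD (F : Type*) [Field F] : Subgroup (Cfsg.Out ↥(D.group F)) :=
  (c.diagHom F).range.map (QuotientGroup.mk' (Cfsg.Inn ↥(D.group F)))

/-- The outer classes of field automorphisms. -/
noncomputable def outF (F : Type*) [Field F] : Subgroup (Cfsg.Out ↥(D.group F)) :=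
  (c.fieldHomAut F).range.map (QuotientGroup.mk' (Cfsg.Inn ↥(D.group F)))

theorem mem_outD {y : Cfsg.Out ↥(D.group F)} :
    y ∈ c.outD F ↔ ∃ z, QuotientGroup.mk (c.diagHom F z) = y := by
  simp [outD]

theorem mem_outF {y : Cfsg.Out ↥(D.group F)} :
    y ∈ c.outF F ↔ ∃ s, QuotientGroup.mk (c.fieldHomAut F s) = y := by
  simp [outF]

theorem isMulCommutative_outD : IsMulCommutative ↥(c.outD F) := by
  refine ⟨⟨fun a b => Subtype.ext ?_⟩⟩
  obtain ⟨z, hz⟩ := c.mem_outD.1 a.2
  obtain ⟨z', hz'⟩ := c.mem_outD.1 b.2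
  rw [Subgroup.coe_mul, Subgroup.coe_mul, ← hz, ← hz', ← QuotientGroup.mk_mul,
    ← QuotientGroup.mk_mul, ← map_mul, ← map_mul, mul_comm]

theorem isCyclic_outF [Finite F] : IsCyclic ↥(c.outF F) := by
  cases nonempty_fintype F
  obtain ⟨p, hchar⟩ := CharP.exists F
  obtain ⟨n, hp, hn⟩ := FiniteField.card F p
  have := Fact.mk hp
  have := (card_ringAut_eq hn).1
  rw [outF, MonoidHom.map_range]
  exact isCyclic_of_surjective _
    ((QuotientGroup.mk' (Cfsg.Inn ↥(D.group F))).comp (c.fieldHomAut F)).rangeRestrict_surjective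

theorem outD_normal [Finite F] (hC : c.Classified F) : (c.outD F).Normal := by
  refine ⟨fun n hn y => ?_⟩
  obtain ⟨w, rfl⟩ := c.mem_outD.1 hn
  obtain ⟨z, P, s, rfl⟩ := c.exists_rep hC y
  refine c.mem_outD.2 ⟨z * (fun j => (fun j => Units.map (s.toRingHom : F →* F) (w j))
    (P.1.symm j) ^ D.graphExp (ringChar F) (P.1.symm j : Fin D.rank) j) * z⁻¹, ?_⟩
  rw [← QuotientGroup.mk_mul, ← QuotientGroup.mk_inv, ← QuotientGroup.mk_mul]
  congr 1
  rw [eq_mul_inv_iff_mul_eq]
  set D1 := c.diagHom F z with hD1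
  set g := c.gaut P
  set φ := c.fieldHomAut F s
  set W := c.diagHom F (fun j => (fun j => Units.map (s.toRingHom : F →* F) (w j))
    (P.1.symm j) ^ D.graphExp (ringChar F) (P.1.symm j : Fin D.rank) j)
  rw [map_mul, map_mul, map_inv, ← hD1]
  calc D1 * W * D1⁻¹ * (D1 * g * φ) = D1 * (W * g) * φ := by group
    _ = D1 * (g * c.diagHom F (fun j => Units.map (s.toRingHom : F →* F) (w j))) * φ := by
      rw [c.gaut_diag]
    _ = D1 * g * φ * c.diagHom F w := by
      rw [mul_assoc (D1 * g) φ, show φ * c.diagHom F w = _ * φ from c.field_diag s w]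
      group

theorem outDF_normal [Finite F] (hC : c.Classified F) : (c.outD F ⊔ c.outF F).Normal := by
  rw [← Subgroup.normalizer_eq_top_iff, eq_top_iff]
  intro y _
  obtain ⟨z, P, s, rfl⟩ := c.exists_rep hC y
  have hN := c.outD_normal hC
  rw [QuotientGroup.mk_mul, QuotientGroup.mk_mul]
  refine mul_mem (mul_mem (Subgroup.le_normalizer (Subgroup.mem_sup_left (c.mem_outD.2 ⟨z, rfl⟩)))
    ?_) (Subgroup.le_normalizer (Subgroup.mem_sup_right (c.mem_outF.2 ⟨s, rfl⟩)))
  set g : Cfsg.Out ↥(D.group F) := QuotientGroup.mk (c.gaut P)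
  have hcent : ∀ f ∈ c.outF F, g * f = f * g := by
    intro f hf
    obtain ⟨t, rfl⟩ := c.mem_outF.1 hf
    rw [← QuotientGroup.mk_mul, ← QuotientGroup.mk_mul, c.gaut_field_comm]
  rw [Subgroup.mem_normalizer_iff]
  intro k
  rw [Subgroup.mem_sup_of_normal_left, Subgroup.mem_sup_of_normal_left]
  constructor
  · rintro ⟨a, ha, f, hf, rfl⟩
    refine ⟨g * a * g⁻¹, hN.conj_mem a ha g, f, hf, ?_⟩
    have h1 : f = g * f * g⁻¹ := by rw [hcent f hf, mul_inv_cancel_right]
    conv_lhs => rw [h1]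
    group
  · rintro ⟨a, ha, f, hf, e⟩
    refine ⟨g⁻¹ * a * g, by simpa using hN.conj_mem a ha g⁻¹, f, hf, ?_⟩
    have h1 : g * f = f * g := hcent f hf
    calc g⁻¹ * a * g * f = g⁻¹ * (a * (g * f)) := by group
      _ = g⁻¹ * (a * f) * g := by rw [h1]; group
      _ = k := by rw [e]; group

/-- The quotient by the diagonal and field parts is in bijection with the graph symmetries. -/
theorem index_outDF [Fintype F] (hC : c.Classified F) {g : ℕ}
    (hg : g * Nat.card (D.diagonalSubgroup F) = (Fintype.card F - 1) ^ D.rank) :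
    (c.outD F ⊔ c.outF F).index = Nat.card (c.GraphPerm F) ∧
      Function.Bijective fun P : c.GraphPerm F => (QuotientGroup.mk
        (QuotientGroup.mk (c.gaut P) : Cfsg.Out ↥(D.group F)) :
          Cfsg.Out ↥(D.group F) ⧸ (c.outD F ⊔ c.outF F)) := by
  set K := c.outD F ⊔ c.outF F with hK
  have hN := c.outD_normal hC
  have hKn : K.Normal := c.outDF_normal hC
  have : Finite (c.GraphPerm F) :=
    Finite.of_injective (β := Equiv.Perm (Fin D.rank)) (fun P => P.1) Subtype.val_injective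
  have : Finite (RingAut F) := Finite.of_injective (fun s : RingAut F => (s : F → F))
    DFunLike.coe_injective
  set Φ := fun P : c.GraphPerm F => (QuotientGroup.mk
    (QuotientGroup.mk (c.gaut P) : Cfsg.Out ↥(D.group F)) : Cfsg.Out ↥(D.group F) ⧸ K)
  have hsurj : Function.Surjective Φ := by
    intro q
    obtain ⟨y, rfl⟩ := QuotientGroup.mk_surjective q
    obtain ⟨z, P, s, rfl⟩ := c.exists_rep hC y
    refine ⟨P, ?_⟩
    rw [QuotientGroup.mk_mul, QuotientGroup.mk_mul, QuotientGroup.mk_mul, QuotientGroup.mk_mul,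
      (QuotientGroup.eq_one_iff (N := K) (QuotientGroup.mk (c.diagHom F z))).2
        (Subgroup.mem_sup_left (c.mem_outD.2 ⟨z, rfl⟩)),
      (QuotientGroup.eq_one_iff (N := K) (QuotientGroup.mk (c.fieldHomAut F s))).2
        (Subgroup.mem_sup_right (c.mem_outF.2 ⟨s, rfl⟩)), one_mul, mul_one]
  have hle : K.index ≤ Nat.card (c.GraphPerm F) := by
    rw [Subgroup.index_eq_card]
    exact Nat.card_le_card_of_surjective Φ hsurj
  -- the order of `K` is at most the number of diagonal classes times the field automorphisms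
  have hKle : Nat.card K ≤ g * Nat.card (RingAut F) := by
    rw [← c.card_diag_classes hg, ← Nat.card_prod]
    have hwd : ∀ z z' : Fin D.rank → Fˣ, z⁻¹ * z' ∈ c.torusValues F →
        (QuotientGroup.mk (c.diagHom F z) : Cfsg.Out ↥(D.group F)) =
          QuotientGroup.mk (c.diagHom F z') := by
      intro z z' h
      rw [QuotientGroup.eq, ← map_inv, ← map_mul]
      obtain ⟨w, hw⟩ := c.mem_torusValues.1 h
      refine ⟨⟨c.torus w, c.B_le_group (c.H_le_B (c.torus_mem w))⟩,
        MulEquiv.ext fun y => Subtype.ext ?_⟩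
      show c.torus w * (y : GL D.Idx F) * (c.torus w)⁻¹ =
        dg D F (c.nodeChar (z⁻¹ * z')) * (y : GL D.Idx F) *
          (dg D F (c.nodeChar (z⁻¹ * z')))⁻¹
      rw [Cert.torus_apply,
        show z⁻¹ * z' = fun i : Fin D.rank => c.tchar w (D.simple i) from
          funext fun i => (hw i).symm,
        dg_ext D F fun s hs => c.nodeChar_tchar w hs]
    refine Nat.card_le_card_of_surjective (fun q : ((Fin D.rank → Fˣ) ⧸ c.torusValues F) ×
      RingAut F => (⟨QuotientGroup.mk (c.diagHom F q.1.out) *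
        QuotientGroup.mk (c.fieldHomAut F q.2), mul_mem
          (Subgroup.mem_sup_left (c.mem_outD.2 ⟨_, rfl⟩))
          (Subgroup.mem_sup_right (c.mem_outF.2 ⟨_, rfl⟩))⟩ : K)) fun k => ?_
    obtain ⟨a, ha, f, hf, e⟩ := Subgroup.mem_sup_of_normal_left.1 k.2
    obtain ⟨z, rfl⟩ := c.mem_outD.1 ha
    obtain ⟨s, rfl⟩ := c.mem_outF.1 hf
    refine ⟨(QuotientGroup.mk z, s), Subtype.ext ?_⟩
    show QuotientGroup.mk (c.diagHom F _) * _ = (k : Cfsg.Out ↥(D.group F))
    rw [hwd _ z (QuotientGroup.eq.1 (QuotientGroup.out_eq' _)), ← e]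
  have hout := c.card_out hC hg
  rw [← K.card_mul_index] at hout
  have hr : 0 < Nat.card K := Nat.card_pos
  have hge : Nat.card (c.GraphPerm F) ≤ K.index := by
    refine Nat.le_of_mul_le_mul_left ?_ (Nat.mul_pos
      (show 0 < g by
        rcases Nat.eq_zero_or_pos g with h | h
        · rw [h, zero_mul] at hg
          exact absurd hg.symm (pow_ne_zero _ (by have := Fintype.one_lt_card (α := F); omega))
        · exact h) (Nat.card_pos (α := RingAut F)))
    calc g * Nat.card (RingAut F) * Nat.card (c.GraphPerm F)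
        = Nat.card K * K.index := by rw [hout]; ring
      _ ≤ g * Nat.card (RingAut F) * K.index := Nat.mul_le_mul_right _ hKle
  have hidx : K.index = Nat.card (c.GraphPerm F) := le_antisymm hle hge
  exact ⟨hidx, (Nat.bijective_iff_surjective_and_card Φ).2
    ⟨hsurj, by rw [← Subgroup.index_eq_card, hidx]⟩⟩

/-- At most two symmetries with a graph automorphism. -/
theorem card_graphPerm_le_two {τ : Equiv.Perm (Fin D.rank)}
    (h : ∀ π : Equiv.Perm (Fin D.rank), D.IsDiagramSymmetry π → π = 1 ∨ π = τ) :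
    Nat.card (c.GraphPerm F) = 1 ∨ Nat.card (c.GraphPerm F) = 2 := by
  have : Finite (c.GraphPerm F) :=
    Finite.of_injective (β := Equiv.Perm (Fin D.rank)) (fun P => P.1) Subtype.val_injective
  have : Nonempty (c.GraphPerm F) := ⟨⟨1, fun i j _ => rfl, c.graphPerm_one⟩⟩
  have h1 : 0 < Nat.card (c.GraphPerm F) := Nat.card_pos
  have h2 : Nat.card (c.GraphPerm F) ≤ 2 := by
    classical
    have := Nat.card_le_card_of_injective (fun P : c.GraphPerm F => decide (P.1 = 1))
      fun P Q e => by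
        have e' := decide_eq_decide.1 e
        refine Subtype.ext ?_
        rcases h _ P.2.1 with hP | hP <;> rcases h _ Q.2.1 with hQ | hQ
        · rw [hP, hQ]
        · rw [hP, e'.1 hP]
        · rw [hQ, e'.2 hQ]
        · rw [hP, hQ]
    simpa using this
  omega

end CertFull

/-! ### The three-legged diagram -/

/-- The exchange of two legs. -/
def graphD4swap : certFullD4.Graph where
  ρ := lookupN [0, 1, 3, 2, 4, 5, 6, 8, 7, 9, 11, 10, 13, 12, 14, 16, 15, 17, 18, 19, 21, 20, 22, 23]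
  τ := lookupN [0, 1, 3, 2]
  τ' := lookupN [0, 1, 3, 2]
  ε := lookupZ [1, 1, 1, 1, 1, 1, 1, 1, 1, 1, 1, 1, 1, 1, 1, 1, 1, 1, 1, 1, 1, 1, 1, 1]
  check := by decide +kernel

/-- The rotation of the legs. -/
def rotD4 : Equiv.Perm (Fin chevD4.rank) :=
  Equiv.swap ⟨0, by decide⟩ ⟨2, by decide⟩ * Equiv.swap ⟨2, by decide⟩ ⟨3, by decide⟩

/-- The exchange of two legs. -/
def swapD4 : Equiv.Perm (Fin chevD4.rank) := Equiv.swap ⟨2, by decide⟩ ⟨3, by decide⟩

theorem symsD4_eq : ∀ π : Equiv.Perm (Fin chevD4.rank), chevD4.IsDiagramSymmetry π →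
    π = 1 ∨ π = rotD4 ∨ π = rotD4 * rotD4 ∨ π = swapD4 ∨ π = rotD4 * swapD4 ∨
      π = rotD4 * rotD4 * swapD4 := by
  unfold ChevalleyDatum.IsDiagramSymmetry
  decide +kernel

theorem rotD4_sym : chevD4.IsDiagramSymmetry rotD4 ∧ chevD4.IsDiagramSymmetry swapD4 := by
  unfold ChevalleyDatum.IsDiagramSymmetry
  decide +kernel

theorem card_symsD4 : Nat.card {π : Equiv.Perm (Fin chevD4.rank) //
    π = 1 ∨ π = rotD4 ∨ π = rotD4 * rotD4 ∨ π = swapD4 ∨ π = rotD4 * swapD4 ∨
      π = rotD4 * rotD4 * swapD4} = 6 := by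
  rw [Nat.card_eq_fintype_card]
  decide +kernel

/-- The permutations realised by automorphisms without exponent. -/
def Realised (F : Type*) [Field F] (π : Equiv.Perm (Fin chevD4.rank)) : Prop :=
  ∃ g : ↥(chevD4.group F) ≃* ↥(chevD4.group F), ∀ (i : Fin chevD4.rank) (t : F),
    g (certFullD4.xG (chevD4.simple i) t) = certFullD4.xG (chevD4.simple (π i)) t ∧
    g (certFullD4.xG (chevD4.neg (chevD4.simple i)) t) =
      certFullD4.xG (chevD4.neg (chevD4.simple (π i))) t

theorem graphExpD4 (p : ℕ) (i : Fin chevD4.rank) (j : ℕ) (hj : j < chevD4.rank) :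
    chevD4.graphExp p i j = 1 := by
  rw [ChevalleyDatum.graphExp, simplyLacedD4.short ⟨j, hj⟩]
  rfl

theorem realised_of_sym {F : Type*} [Field F] (π : Equiv.Perm (Fin chevD4.rank))
    (hπ : chevD4.IsDiagramSymmetry π) : Realised F π := by
  have one : Realised F 1 := ⟨MulEquiv.refl _, fun i t => ⟨rfl, rfl⟩⟩
  have mul : ∀ a b, Realised F a → Realised F b → Realised F (a * b) := by
    rintro a b ⟨g, hg⟩ ⟨h, hh⟩
    refine ⟨h.trans g, fun i t => ?_⟩
    rw [MulEquiv.trans_apply, MulEquiv.trans_apply, (hh i t).1, (hh i t).2, (hg _ t).1, (hg _ t).2]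
    exact ⟨rfl, rfl⟩
  have ofGraph : ∀ (G : certFullD4.Graph) (τ : Equiv.Perm (Fin chevD4.rank)),
      (∀ i : Fin chevD4.rank, G.τ i = (τ i : ℕ)) → Realised F τ := by
    intro G τ hτ
    refine ⟨G.auto, fun i t => ⟨Subtype.ext (Units.ext ?_), Subtype.ext (Units.ext ?_)⟩⟩
    · rw [(G.auto_simple _ i.2 t).1 (certFullD4.xg_val _ _), hτ]
      exact (certFullD4.xg_val _ _).symm
    · rw [(G.auto_simple _ i.2 t).2 (certFullD4.xg_val _ _), hτ]
      exact (certFullD4.xg_val _ _).symm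
  have hr : Realised F rotD4 := ofGraph graphD4 rotD4 (by decide +kernel)
  have hs : Realised F swapD4 := ofGraph graphD4swap swapD4 (by decide +kernel)
  rcases symsD4_eq π hπ with rfl | rfl | rfl | rfl | rfl | rfl
  exacts [one, hr, mul _ _ hr hr, hs, mul _ _ hr hs, mul _ _ (mul _ _ hr hr) hs]

theorem graphPermD4_exists {F : Type*} [Field F] (π : Equiv.Perm (Fin chevD4.rank))
    (hπ : chevD4.IsDiagramSymmetry π) :
    ∃ g : ↥(chevD4.group F) ≃* ↥(chevD4.group F), ∀ (i : Fin chevD4.rank) (t : F),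
      g (certFullD4.xG (chevD4.simple i) t) = certFullD4.xG (chevD4.simple (π i))
        (t ^ chevD4.graphExp (ringChar F) i (π i)) ∧
      g (certFullD4.xG (chevD4.neg (chevD4.simple i)) t) =
        certFullD4.xG (chevD4.neg (chevD4.simple (π i)))
          (t ^ chevD4.graphExp (ringChar F) i (π i)) := by
  obtain ⟨g, hg⟩ := realised_of_sym (F := F) π hπ
  exact ⟨g, fun i t => by rw [graphExpD4 _ i _ (π i).2, pow_one]; exact hg i t⟩

theorem card_graphPerm_D4 {F : Type*} [Field F] : Nat.card (certFullD4.GraphPerm F) = 6 := by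
  rw [← card_symsD4]
  refine Nat.card_congr (Equiv.subtypeEquivRight fun π => ⟨fun h => symsD4_eq π h.1, fun h => ?_⟩)
  have hsym : chevD4.IsDiagramSymmetry π := by
    revert h
    revert π
    unfold ChevalleyDatum.IsDiagramSymmetry
    decide +kernel
  exact ⟨hsym, graphPermD4_exists π hsym⟩

theorem noncomm_D4 {F : Type*} [Field F] [Fintype F] :
    ¬ commutator (Cfsg.Out ↥(chevD4.group F)) ≤
      certFullD4.outD F ⊔ certFullD4.outF F := by
  intro hle
  have hC := certFullD4.classified_simplyLaced (F := F) simplyLacedD4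
  obtain ⟨-, hbij⟩ := certFullD4.index_outDF hC (torusOrderD4 F)
  set K := certFullD4.outD F ⊔ certFullD4.outF F
  have hKn : K.Normal := certFullD4.outDF_normal hC
  let mkP : ∀ π, chevD4.IsDiagramSymmetry π → certFullD4.GraphPerm F := fun π hπ =>
    ⟨π, hπ, graphPermD4_exists π hπ⟩
  have hab : chevD4.IsDiagramSymmetry (rotD4 * swapD4) ∧
      chevD4.IsDiagramSymmetry (swapD4 * rotD4) := by
    unfold ChevalleyDatum.IsDiagramSymmetry
    decide +kernel
  let A := mkP _ rotD4_sym.1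
  let B := mkP _ rotD4_sym.2
  have hmul : ∀ (P Q : certFullD4.GraphPerm F) (h : chevD4.IsDiagramSymmetry (P.1 * Q.1)),
      certFullD4.gaut P * certFullD4.gaut Q = certFullD4.gaut (mkP _ h) := by
    intro P Q h
    refine certFullD4.aut_ext fun i t => ?_
    simp only [MulAut.mul_apply, (certFullD4.gaut_xG P _ _).1, (certFullD4.gaut_xG P _ _).2,
      (certFullD4.gaut_xG Q _ _).1, (certFullD4.gaut_xG Q _ _).2,
      (certFullD4.gaut_xG (mkP _ h) _ _).1, (certFullD4.gaut_xG (mkP _ h) _ _).2]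
    simp only [graphExpD4 _ i _ (Fin.is_lt _), graphExpD4 _ (Q.1 i) _ (Fin.is_lt _), pow_one]
    exact ⟨rfl, rfl⟩
  have h1 : (QuotientGroup.mk (QuotientGroup.mk (certFullD4.gaut A * certFullD4.gaut B)) :
      Cfsg.Out ↥(chevD4.group F) ⧸ K) =
      QuotientGroup.mk (QuotientGroup.mk (certFullD4.gaut B * certFullD4.gaut A)) := by
    refine QuotientGroup.eq.2 (hle ?_)
    rw [QuotientGroup.mk_mul, QuotientGroup.mk_mul]
    set a : Cfsg.Out ↥(chevD4.group F) := QuotientGroup.mk (certFullD4.gaut A)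
    set b : Cfsg.Out ↥(chevD4.group F) := QuotientGroup.mk (certFullD4.gaut B)
    rw [show (a * b)⁻¹ * (b * a) = b⁻¹ * a⁻¹ * b * a by group, commutator_def]
    have := Subgroup.commutator_mem_commutator (Subgroup.mem_top b⁻¹) (Subgroup.mem_top a⁻¹)
    simpa [commutatorElement_def] using this
  rw [hmul A B hab.1, hmul B A hab.2] at h1
  have h2 : rotD4 * swapD4 = swapD4 * rotD4 := congrArg Subtype.val (hbij.1 h1)
  revert h2
  decide +kernel

theorem twoPermG2 : ∀ π : Equiv.Perm (Fin chevG2.rank),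
    π = 1 ∨ π = Equiv.swap ⟨0, by decide⟩ ⟨1, by decide⟩ := by decide +kernel

theorem twoPermB2 : ∀ π : Equiv.Perm (Fin chevB2.rank),
    π = 1 ∨ π = Equiv.swap ⟨0, by decide⟩ ⟨1, by decide⟩ := by decide +kernel

/-- The structure of the outer automorphism group. -/
theorem out_structure {F : Type*} [Field F] [Finite F] {D : ChevalleyDatum}
    (hD : D ∈ [chevG2, chevB2, chevD4, chevF4, chevE6, chevE7, chevE8])
    (Dbar Fbar : Subgroup (Cfsg.Out ↥(D.group F)))
    (hDbar : Dbar = (Subgroup.closure {φ : MulAut ↥(D.group F) | D.IsDiagonalAut φ}).map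
      (QuotientGroup.mk' (Cfsg.Inn ↥(D.group F))))
    (hFbar : Fbar = (Subgroup.closure {φ : MulAut ↥(D.group F) | D.IsFieldAut φ}).map
      (QuotientGroup.mk' (Cfsg.Inn ↥(D.group F)))) :
    Dbar.Normal ∧ IsMulCommutative ↥Dbar ∧ IsCyclic ↥Fbar ∧ (Dbar ⊔ Fbar).Normal ∧
      ((Dbar ⊔ Fbar).index = 1 ∨ (Dbar ⊔ Fbar).index = 2 ∨
        ((Dbar ⊔ Fbar).index = 6 ∧
          ¬ commutator (Cfsg.Out ↥(D.group F)) ≤ Dbar ⊔ Fbar)) := by
  cases nonempty_fintype F
  have main : ∀ (c : CertFull D), c.Classified F → ∀ g : ℕ,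
      g * Nat.card (D.diagonalSubgroup F) = (Fintype.card F - 1) ^ D.rank →
      (Nat.card (c.GraphPerm F) = 1 ∨ Nat.card (c.GraphPerm F) = 2 ∨
        (Nat.card (c.GraphPerm F) = 6 ∧
          ¬ commutator (Cfsg.Out ↥(D.group F)) ≤ c.outD F ⊔ c.outF F)) →
      Dbar.Normal ∧ IsMulCommutative ↥Dbar ∧ IsCyclic ↥Fbar ∧ (Dbar ⊔ Fbar).Normal ∧
        ((Dbar ⊔ Fbar).index = 1 ∨ (Dbar ⊔ Fbar).index = 2 ∨
          ((Dbar ⊔ Fbar).index = 6 ∧
            ¬ commutator (Cfsg.Out ↥(D.group F)) ≤ Dbar ⊔ Fbar)) := by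
    intro c hC g hg hcase
    obtain rfl : Dbar = c.outD F := by rw [hDbar, c.closure_diag]; rfl
    obtain rfl : Fbar = c.outF F := by rw [hFbar, c.closure_field]; rfl
    rw [(c.index_outDF hC hg).1]
    exact ⟨c.outD_normal hC, c.isMulCommutative_outD, c.isCyclic_outF, c.outDF_normal hC, hcase⟩
  have two : ∀ {D : ChevalleyDatum} (c : CertFull D) {τ : Equiv.Perm (Fin D.rank)},
      (∀ π : Equiv.Perm (Fin D.rank), D.IsDiagramSymmetry π → π = 1 ∨ π = τ) →
      Nat.card (c.GraphPerm F) = 1 ∨ Nat.card (c.GraphPerm F) = 2 ∨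
        (Nat.card (c.GraphPerm F) = 6 ∧
          ¬ commutator (Cfsg.Out ↥(D.group F)) ≤ c.outD F ⊔ c.outF F) := fun c _ h =>
    (c.card_graphPerm_le_two h).elim Or.inl fun e => Or.inr (Or.inl e)
  simp only [List.mem_cons, List.not_mem_nil, or_false] at hD
  rcases hD with rfl | rfl | rfl | rfl | rfl | rfl | rfl
  · exact main certFullG2 classifiedG2 _ (torusOrderG2 F) (two certFullG2
      (τ := Equiv.swap (⟨0, by decide⟩ : Fin chevG2.rank) ⟨1, by decide⟩) fun π _ => twoPermG2 π)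
  · exact main certFullB2 classifiedB2 _ (torusOrderB2 F) (two certFullB2
      (τ := Equiv.swap (⟨0, by decide⟩ : Fin chevB2.rank) ⟨1, by decide⟩) fun π _ => twoPermB2 π)
  · exact main certFullD4 (certFullD4.classified_simplyLaced simplyLacedD4) _ (torusOrderD4 F)
      (Or.inr (Or.inr ⟨card_graphPerm_D4, noncomm_D4⟩))
  · exact main certFullF4 classifiedF4 _ (torusOrderF4 F) (two certFullF4 (τ := tauF4) permF4_sym)
  · exact main certFullE6 (certFullE6.classified_simplyLaced simplyLacedE6) _ (torusOrderE6 F)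
      (two certFullE6 (τ := tauE6) fun _ h => permE6_cases h)
  · exact main certFullE7 (certFullE7.classified_simplyLaced simplyLacedE7) _ (torusOrderE7 F)
      (two certFullE7 (τ := 1) fun _ h => Or.inl (permE7_one h))
  · exact main certFullE8 (certFullE8.classified_simplyLaced simplyLacedE8) _ (torusOrderE8 F)
      (two certFullE8 (τ := 1) fun _ h => Or.inl (permE8_one h))

end Cfsg.Agent.Lie.Chev
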