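/- The special isogeny of type G2 and the elements of the Weyl group commuting with it. -/
import Cfsg.Agent.Lib.Lie.Chev.TwistIso
import Cfsg.Agent.Lib.Lie.Chev.TwistGraph
import Cfsg.Agent.Lib.Lie.Chev.TwistWeyl
import Cfsg.Agent.Lib.Lie.Chev.CertsFull

set_option autoImplicit false
set_option maxRecDepth 20000

namespace Cfsg.Agent.Lie.Chev

open Cfsg.Lie

/-- The exchange of long and short roots. -/
def isoRhoG2 : List ℕ := [2, 3, 0, 1, 5, 4, 7, 6, 10, 11, 8, 9]

/-- The squared lengths. -/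
def isoLenG2 : List ℕ := [3, 3, 1, 1, 1, 3, 3, 1, 1, 1, 3, 3]

/-- The grading of the positive roots. -/
def isoLvlG2 : List ℕ := [0, 0, 0, 0, 0, 0, 1, 1, 2, 3, 2, 3]

/-- The special isogeny of type G2. -/
def isoG2 : certFullG2.IsoData where
  p := 3
  ρ := lookupN isoRhoG2
  short := fun r => Nat.beq (lookupN isoLenG2 r) 1
  τ := lookupN [1, 0]
  Il := [0, 4, 5, 6, 9, 10, 11]
  Ql := [1, 2, 3, 7, 8, 12, 13]
  wit := [(0, 7), (1, 8)]

theorem isoG2_ok : isoG2.check = true := by decide +kernel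

/-- The orbit words. -/
def orbitsG2 : List (List ℕ) := [[0, 1, 0, 1, 0, 1]]

/-- The fixed elements of the Weyl group of type G2. -/
def twistG2Reps : BT TRep :=
  .node 1
    (.leaf ⟨[], 0, [7, 6], 1543, [], [1]⟩)
    (.leaf ⟨[0], 0, [4, 5], 1284, [7, 6, 7, 6, 7, 6], [0]⟩)

/-- Their order by key. -/
def twistG2Order : List ℕ := [1, 0]

theorem orbitsG2_ok :
    certFullG2.T.checkOrbits isoG2.ρ isoG2.τ orbitsG2 = true := by decide +kernel

theorem twistG2Reps_ok :
    certFullG2.T.checkFixedWeyl orbitsG2 twistG2Reps 2 twistG2Order = true := by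
  decide +kernel

theorem twistG2_top : ((twistG2Reps.get 1).img.all fun a =>
    Nat.blt a certFullG2.T.h) = true := by decide +kernel

end Cfsg.Agent.Lie.Chev
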