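import Cfsg.Agent.Lib.Lie.Chev.AutOut
import Cfsg.Agent.Lib.Lie.Chev.TorusOrders
import Cfsg.Agent.Lib.Lie.Chev.TwistDataE6
import Cfsg.Agent.Lib.Lie.Chev.TwistDataF4
import Cfsg.Agent.Lib.Lie.Chev.TwistDataG2

/-! The orders of the outer automorphism groups for G₂, F₄, E₆, E₇, E₈. -/

set_option autoImplicit false
set_option maxRecDepth 20000

namespace Cfsg.Agent.Lie.Chev

open Cfsg.Lie Matrix

/-- Partial symmetries of a diagram with bond numbers `b` on `n` nodes. -/
def diagSyms (n : ℕ) (b : ℕ → ℕ → ℤ) : ℕ → List (List ℕ)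
  | 0 => [[]]
  | k + 1 => (diagSyms n b k).flatMap fun L => (List.range n).filterMap fun v =>
      if (List.range k).all (fun i => (L.getD i n != v) && (b (L.getD i n) v == b i k)) &&
          (L.length == k) then some (L ++ [v]) else none

theorem mem_diagSyms {D : ChevalleyDatum} {π : Equiv.Perm (Fin D.rank)}
    (hπ : D.IsDiagramSymmetry π) : ∀ k, k ≤ D.rank →
    (List.range k).map (fun i => if h : i < D.rank then ((π ⟨i, h⟩ : Fin D.rank) : ℕ) else 0) ∈
      diagSyms D.rank D.bonds k := by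
  intro k
  induction k with
  | zero => intro _; simp [diagSyms]
  | succ k ih =>
    intro hk
    have hk' : k < D.rank := hk
    rw [diagSyms, List.mem_flatMap]
    refine ⟨_, ih (by omega), List.mem_filterMap.2 ⟨(π ⟨k, hk'⟩ : ℕ), by simp, ?_⟩⟩
    rw [if_pos, List.range_succ, List.map_append, List.map_singleton, dif_pos hk']
    rw [Bool.and_eq_true, List.all_eq_true]
    refine ⟨fun i hi => ?_, by simp⟩
    rw [List.mem_range] at hi
    have hi' : i < D.rank := hi.trans hk'
    have hne : (⟨i, hi'⟩ : Fin D.rank) ≠ ⟨k, hk'⟩ := fun e => hi.ne (congrArg Fin.val e)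
    rw [List.getD_eq_getElem _ _ (by simpa using hi), List.getElem_map, List.getElem_range,
      dif_pos hi', Bool.and_eq_true, bne_iff_ne, beq_iff_eq]
    exact ⟨fun e => hne (π.injective (Fin.ext e)), hπ _ _ hne⟩

theorem perm_of_diagSyms {D : ChevalleyDatum} {π : Equiv.Perm (Fin D.rank)}
    (hπ : D.IsDiagramSymmetry π) {Ls : List (List ℕ)}
    (h : diagSyms D.rank D.bonds D.rank = Ls) :
    ∃ L ∈ Ls, ∀ i : Fin D.rank, (π i : ℕ) = L.getD i 0 := by
  refine ⟨_, h ▸ mem_diagSyms hπ D.rank le_rfl, fun i => ?_⟩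
  rw [List.getD_eq_getElem _ _ (by simp [i.2]), List.getElem_map, List.getElem_range, dif_pos i.2]

namespace CertFull

variable {D : ChevalleyDatum} (c : CertFull D) {F : Type*} [Field F]

include c

theorem graphPerm_one :
    ∃ g : ↥(D.group F) ≃* ↥(D.group F), ∀ (i : Fin D.rank) (t : F),
      g (c.xG (D.simple i) t) = c.xG (D.simple ((1 : Equiv.Perm (Fin D.rank)) i))
        (t ^ D.graphExp (ringChar F) i ((1 : Equiv.Perm (Fin D.rank)) i)) ∧
      g (c.xG (D.neg (D.simple i)) t) = c.xG (D.neg (D.simple ((1 : Equiv.Perm (Fin D.rank)) i)))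
        (t ^ D.graphExp (ringChar F) i ((1 : Equiv.Perm (Fin D.rank)) i)) :=
  ⟨MulEquiv.refl _, fun i t => by
    simp [ChevalleyDatum.graphExp, Bool.and_not_self]⟩

/-- Only the identity. -/
theorem card_graphPerm_one (h : ∀ π : Equiv.Perm (Fin D.rank), D.IsDiagramSymmetry π →
    (∃ g : ↥(D.group F) ≃* ↥(D.group F), ∀ (i : Fin D.rank) (t : F),
      g (c.xG (D.simple i) t) = c.xG (D.simple (π i)) (t ^ D.graphExp (ringChar F) i (π i)) ∧
      g (c.xG (D.neg (D.simple i)) t) =
        c.xG (D.neg (D.simple (π i))) (t ^ D.graphExp (ringChar F) i (π i))) → π = 1) :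
    Nat.card (c.GraphPerm F) = 1 := by
  have : Subsingleton (c.GraphPerm F) := ⟨fun a b =>
    Subtype.ext ((h a.1 a.2.1 a.2.2).trans (h b.1 b.2.1 b.2.2).symm)⟩
  have : Nonempty (c.GraphPerm F) := ⟨⟨1, fun i j _ => rfl, c.graphPerm_one⟩⟩
  exact Nat.card_unique

/-- The identity and one other. -/
theorem card_graphPerm_two {τ : Equiv.Perm (Fin D.rank)} (hτ : τ ≠ 1)
    (hsym : D.IsDiagramSymmetry τ)
    (hg : ∃ g : ↥(D.group F) ≃* ↥(D.group F), ∀ (i : Fin D.rank) (t : F),
      g (c.xG (D.simple i) t) = c.xG (D.simple (τ i)) (t ^ D.graphExp (ringChar F) i (τ i)) ∧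
      g (c.xG (D.neg (D.simple i)) t) =
        c.xG (D.neg (D.simple (τ i))) (t ^ D.graphExp (ringChar F) i (τ i)))
    (h : ∀ π : Equiv.Perm (Fin D.rank), D.IsDiagramSymmetry π → π = 1 ∨ π = τ) :
    Nat.card (c.GraphPerm F) = 2 := by
  rw [Nat.card_eq_two_iff]
  refine ⟨⟨1, fun i j _ => rfl, c.graphPerm_one⟩, ⟨τ, hsym, hg⟩,
    fun e => hτ (congrArg Subtype.val e).symm, Set.eq_univ_of_forall fun x => ?_⟩
  rcases h x.1 x.2.1 with e | e
  · exact Set.mem_insert_iff.2 (Or.inl (Subtype.ext e))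
  · exact Set.mem_insert_iff.2 (Or.inr (Subtype.ext e))

/-- The relation satisfied by a graph automorphism. -/
theorem graph_relation [Finite F] {π : Equiv.Perm (Fin D.rank)}
    (hg : ∃ g : ↥(D.group F) ≃* ↥(D.group F), ∀ (i : Fin D.rank) (t : F),
      g (c.xG (D.simple i) t) = c.xG (D.simple (π i)) (t ^ D.graphExp (ringChar F) i (π i)) ∧
      g (c.xG (D.neg (D.simple i)) t) =
        c.xG (D.neg (D.simple (π i))) (t ^ D.graphExp (ringChar F) i (π i))) :
    ∃ σ : Fin D.rank → F ≃+* F,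
      (∀ i t, σ i t = t ^ D.graphExp (ringChar F) i (π i)) ∧
      ∀ (i j : Fin D.rank) (t : F), t ≠ 0 →
        σ j t ^ D.cartan i (D.simple j) = σ i t ^ D.cartan (π i) (D.simple (π j)) := by
  obtain ⟨g, hg⟩ := hg
  cases nonempty_fintype F
  have hp : (ringChar F).Prime := CharP.char_is_prime F _
  haveI := Fact.mk hp
  have hex : ∀ i : Fin D.rank, ∃ σ : F ≃+* F,
      ∀ t, σ t = t ^ D.graphExp (ringChar F) i (π i) := by
    intro i
    rw [ChevalleyDatum.graphExp]
    split
    · exact ⟨frobeniusEquiv F (ringChar F), fun t => frobeniusEquiv_def F _ t⟩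
    · exact ⟨RingEquiv.refl F, fun t => (pow_one t).symm⟩
  choose σ hσ using hex
  have h : ∀ (i : Fin D.rank) (t : F),
      g (c.xG (D.simple i) t) = c.xG (D.simple (π i)) (σ i t) ∧
      g (c.xG (D.neg (D.simple i)) t) = c.xG (D.neg (D.simple (π i))) (σ i t) := fun i t => by
    rw [hσ]; exact hg i t
  exact ⟨σ, hσ, fun i j t ht =>
    c.node_relation i.2 j.2 (π i).2 (π j).2 (h i) (fun s => (h j s).1) ht⟩

end CertFull

theorem symsE6 : diagSyms chevE6.rank chevE6.bonds chevE6.rank =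
    [[0, 1, 2, 3, 4, 5], [5, 1, 4, 3, 2, 0]] := by decide +kernel

theorem symsE7 : diagSyms chevE7.rank chevE7.bonds chevE7.rank = [[0, 1, 2, 3, 4, 5, 6]] := by
  decide +kernel

theorem symsE8 : diagSyms chevE8.rank chevE8.bonds chevE8.rank = [[0, 1, 2, 3, 4, 5, 6, 7]] := by
  decide +kernel

theorem permE7_one {π : Equiv.Perm (Fin chevE7.rank)} (hπ : chevE7.IsDiagramSymmetry π) :
    π = 1 := by
  obtain ⟨L, hL, h⟩ := perm_of_diagSyms hπ symsE7
  rw [List.mem_singleton] at hL
  subst hL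
  have : ∀ i : Fin chevE7.rank, [0, 1, 2, 3, 4, 5, 6].getD (i : ℕ) 0 = (i : ℕ) := by decide +kernel
  exact Equiv.ext fun i => Fin.ext ((h i).trans (this i))

theorem permE8_one {π : Equiv.Perm (Fin chevE8.rank)} (hπ : chevE8.IsDiagramSymmetry π) :
    π = 1 := by
  obtain ⟨L, hL, h⟩ := perm_of_diagSyms hπ symsE8
  rw [List.mem_singleton] at hL
  subst hL
  have : ∀ i : Fin chevE8.rank, [0, 1, 2, 3, 4, 5, 6, 7].getD (i : ℕ) 0 = (i : ℕ) := by
    decide +kernel
  exact Equiv.ext fun i => Fin.ext ((h i).trans (this i))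

/-- The symmetry of the diagram of type E₆. -/
def tauE6 : Equiv.Perm (Fin chevE6.rank) :=
  Equiv.swap ⟨0, by decide⟩ ⟨5, by decide⟩ * Equiv.swap ⟨2, by decide⟩ ⟨4, by decide⟩

theorem tauE6_apply : ∀ i : Fin chevE6.rank,
    (tauE6 i : ℕ) = [5, 1, 4, 3, 2, 0].getD (i : ℕ) 0 := by decide +kernel

theorem permE6_cases {π : Equiv.Perm (Fin chevE6.rank)} (hπ : chevE6.IsDiagramSymmetry π) :
    π = 1 ∨ π = tauE6 := by
  obtain ⟨L, hL, h⟩ := perm_of_diagSyms hπ symsE6
  simp only [List.mem_cons, List.not_mem_nil, or_false] at hL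
  rcases hL with rfl | rfl
  · left
    have : ∀ i : Fin chevE6.rank, [0, 1, 2, 3, 4, 5].getD (i : ℕ) 0 = (i : ℕ) := by decide +kernel
    exact Equiv.ext fun i => Fin.ext ((h i).trans (this i))
  · right
    exact Equiv.ext fun i => Fin.ext ((h i).trans (tauE6_apply i).symm)

theorem tauE6_sym : chevE6.IsDiagramSymmetry tauE6 := by
  unfold ChevalleyDatum.IsDiagramSymmetry
  decide +kernel

theorem card_graphPerm_E6 {F : Type*} [Field F] : Nat.card (certFullE6.GraphPerm F) = 2 := by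
  refine certFullE6.card_graphPerm_two (τ := tauE6) (by decide +kernel) tauE6_sym
    ⟨graphE6.auto, fun i t => ?_⟩ fun π hπ => permE6_cases hπ
  have hτ : ∀ i : Fin chevE6.rank, graphE6.τ i = (tauE6 i : ℕ) := by decide +kernel
  have hs : chevE6.graphExp (ringChar F) i (tauE6 i) = 1 := by
    rw [ChevalleyDatum.graphExp, simplyLacedE6.short]
    rfl
  rw [hs, pow_one]
  refine ⟨Subtype.ext (Units.ext ?_), Subtype.ext (Units.ext ?_)⟩
  · rw [(graphE6.auto_simple _ i.2 t).1 (certFullE6.xg_val _ _), hτ]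
    exact (certFullE6.xg_val _ _).symm
  · rw [(graphE6.auto_simple _ i.2 t).2 (certFullE6.xg_val _ _), hτ]
    exact (certFullE6.xg_val _ _).symm

/-- A graph automorphism from a special isogeny. -/
theorem exists_iso_graph {D : ChevalleyDatum} (c : CertFull D) {F : Type*} [Field F] [Finite F]
    (X : c.IsoData) (hX : X.check = true) {p : ℕ} [hpf : Fact p.Prime] [CharP F p] (hp : X.p = p)
    (hE : ∀ r < D.nroots, X.expo r * X.expo (X.ρ r) = p) {τ : Equiv.Perm (Fin D.rank)}
    (h : ∀ i : Fin D.rank, X.ρ (D.simple i) = D.simple (τ i) ∧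
      X.ρ (D.neg (D.simple i)) = D.neg (D.simple (τ i)) ∧
      X.expo (D.simple i) = D.graphExp p i (τ i) ∧
      X.expo (D.neg (D.simple i)) = D.graphExp p i (τ i)) :
    ∃ g : ↥(D.group F) ≃* ↥(D.group F), ∀ (i : Fin D.rank) (t : F),
      g (c.xG (D.simple i) t) = c.xG (D.simple (τ i)) (t ^ D.graphExp (ringChar F) i (τ i)) ∧
      g (c.xG (D.neg (D.simple i)) t) =
        c.xG (D.neg (D.simple (τ i))) (t ^ D.graphExp (ringChar F) i (τ i)) := by
  obtain ⟨α, hα⟩ := CertFull.IsoData.exists_auto (F := F) hX hp hE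
  refine ⟨α, fun i t => ?_⟩
  rw [ringChar.eq F p]
  obtain ⟨h1, h2, h3, h4⟩ := h i
  refine ⟨Subtype.ext (Units.ext ?_), Subtype.ext (Units.ext ?_)⟩
  · rw [hα _ _ t (c.simple_lt i.2) (c.xg_val _ _), h1, h3]
    exact (c.xg_val _ _).symm
  · rw [hα _ _ t (c.neg_lt (c.simple_lt i.2)) (c.xg_val _ _), h2, h4]
    exact (c.xg_val _ _).symm

theorem card_graphPerm_G2 {F : Type*} [Field F] [Fintype F] {p : ℕ} [Fact p.Prime] [CharP F p]
    (hq : 3 ≤ Fintype.card F) :
    Nat.card (certFullG2.GraphPerm F) = if p = 3 then 2 else 1 := by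
  have hperm : ∀ π : Equiv.Perm (Fin chevG2.rank),
      π = 1 ∨ π = Equiv.swap ⟨0, by decide⟩ ⟨1, by decide⟩ := by decide +kernel
  split
  · next hp =>
    subst hp
    refine certFullG2.card_graphPerm_two
      (τ := Equiv.swap (⟨0, by decide⟩ : Fin chevG2.rank) ⟨1, by decide⟩)
      (by decide +kernel) (permG2 _).1 ?_ fun π _ => hperm π
    exact exists_iso_graph certFullG2 isoG2 isoG2_ok (p := 3) rfl (by decide +kernel)
      (by decide +kernel)
  · next hp =>
    refine certFullG2.card_graphPerm_one fun π _ hg => (hperm π).resolve_right fun e => ?_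
    subst e
    obtain ⟨σ, hσ, hr⟩ := certFullG2.graph_relation hg
    have e : ∀ t : F, t ≠ 0 → σ ⟨0, by decide⟩ t = σ ⟨1, by decide⟩ t ^ 3 := fun t ht =>
      eq_pow_of_relation (m := 3) rfl (fun t ht => by
        have := hr ⟨1, by decide⟩ ⟨0, by decide⟩ t ht
        simp only [Equiv.swap_apply_left, Equiv.swap_apply_right] at this
        rwa [show chevG2.cartan (1 : ℕ) (chevG2.simple 0) = -1 by decide +kernel,
          show chevG2.cartan (0 : ℕ) (chevG2.simple 1) = -((3 : ℕ) : ℤ) by decide +kernel] at this)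
        t ht
    rcases three_eq_zero_or_of_cube _ _ e with h3 | ⟨-, hF⟩
    · have h3' := ringChar_eq_of_zero (F := F) Nat.prime_three (by exact_mod_cast h3)
      rw [ringChar.eq F p] at h3'
      exact hp h3'
    · classical
      have hle : Fintype.card F ≤ ({0, 1} : Finset F).card :=
        Finset.card_le_card (s := Finset.univ) fun t _ => by
          rcases hF t with rfl | rfl <;> simp
      have := hle.trans (Finset.card_insert_le _ _)
      rw [Finset.card_singleton] at this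
      omega

/-- The symmetry of the diagram of type F₄. -/
def tauF4 : Equiv.Perm (Fin chevF4.rank) :=
  Equiv.swap ⟨0, by decide⟩ ⟨3, by decide⟩ * Equiv.swap ⟨1, by decide⟩ ⟨2, by decide⟩

theorem permF4_sym : ∀ π : Equiv.Perm (Fin chevF4.rank), chevF4.IsDiagramSymmetry π →
    π = 1 ∨ π = tauF4 := by
  unfold ChevalleyDatum.IsDiagramSymmetry
  decide +kernel

theorem tauF4_sym : chevF4.IsDiagramSymmetry tauF4 := by
  unfold ChevalleyDatum.IsDiagramSymmetry
  decide +kernel

theorem card_graphPerm_F4 {F : Type*} [Field F] [Fintype F] {p : ℕ} [hpf : Fact p.Prime]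
    [CharP F p] : Nat.card (certFullF4.GraphPerm F) = Nat.gcd 2 p := by
  by_cases hp : p = 2
  · subst hp
    rw [show Nat.gcd 2 2 = 2 from rfl]
    refine certFullF4.card_graphPerm_two (τ := tauF4) (by decide +kernel) tauF4_sym ?_
      fun π hπ => permF4_sym π hπ
    exact exists_iso_graph certFullF4 isoF4 isoF4_ok (p := 2) rfl (by decide +kernel)
      (by decide +kernel)
  · rw [show Nat.gcd 2 p = 1 from (Nat.coprime_primes Nat.prime_two hpf.out).2 (Ne.symm hp)]
    refine certFullF4.card_graphPerm_one fun π hπ hg => (permF4_sym π hπ).resolve_right fun e => ?_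
    subst e
    obtain ⟨σ, hσ, hr⟩ := certFullF4.graph_relation hg
    have e21 : ∀ t : F, t ≠ 0 → σ ⟨1, by decide⟩ t = σ ⟨2, by decide⟩ t ^ 2 := fun t ht =>
      eq_pow_of_relation (m := 2) rfl (fun t ht => by
        have := hr ⟨2, by decide⟩ ⟨1, by decide⟩ t ht
        rw [show tauF4 ⟨2, by decide⟩ = ⟨1, by decide⟩ by decide +kernel,
          show tauF4 ⟨1, by decide⟩ = ⟨2, by decide⟩ by decide +kernel] at this
        rwa [show chevF4.cartan (2 : ℕ) (chevF4.simple 1) = -1 by decide +kernel,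
          show chevF4.cartan (1 : ℕ) (chevF4.simple 2) = -((2 : ℕ) : ℤ) by decide +kernel] at this)
        t ht
    have h2 := ringChar_eq_of_zero (F := F) Nat.prime_two
      (by exact_mod_cast two_eq_zero_of_sq _ _ e21)
    rw [ringChar.eq F p] at h2
    exact hp h2

end Cfsg.Agent.Lie.Chev
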