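import Cfsg.Agent.Lib.Lie.Chev.AutBorel

/-! Automorphisms fixing both unipotent subgroups permute the fundamental root subgroups. -/

set_option autoImplicit false

namespace Cfsg.Agent.Lie.Chev

open Cfsg.Lie Matrix

namespace CertFull

variable {D : ChevalleyDatum} (c : CertFull D) {F : Type*} [Field F]

include c

/-- Membership of the minimal parabolic subgroup of node `p`. -/
def InPar (p : ℕ) (g : GL D.Idx F) : Prop :=
  g ∈ D.borelSubgroup F ∨ ∃ x ∈ D.borelSubgroup F, ∃ y ∈ D.borelSubgroup F, g = x * c.np F p * y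

theorem exists_par {p : ℕ} (hp : p < D.rank) :
    ∃ P : Subgroup (GL D.Idx F), ∀ g, g ∈ P ↔ c.InPar p g := by
  obtain ⟨P, hP⟩ := c.exists_minimal_parabolic (F := F) hp
  refine ⟨P, fun g => ?_⟩
  rw [← SetLike.mem_coe, hP, Set.mem_union, DoubleCoset.mem_doubleCoset]
  rfl

theorem np_inPar_iff {p r : ℕ} (hp : p < D.rank) (hr : r < D.rank) :
    c.InPar p (c.np F r) ↔ r = p := by
  constructor
  · rintro (h | ⟨x, hx, y, hy, e⟩)
    · exact absurd h (c.np_notMem_B hr)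
    obtain ⟨u, hu, a, ha, rfl⟩ := c.mem_borel_iff.1 hy
    have hu' : a⁻¹ * u * a ∈ D.posUnipotent F := by
      have := c.conj_B_U (inv_mem (c.H_le_B ha)) hu
      rwa [inv_inv] at this
    have h1 := c.bruhat_unique hx (one_mem _)
      (mul_mem (c.np_mem_N hp) (Subgroup.mem_sup_left ha)) (c.np_mem_N hr) hu' (one_mem _)
      (by rw [mul_one, one_mul, e]; group)
    have h2 : (c.np F p)⁻¹ * c.np F r ∈ D.borelSubgroup F := by
      have := mul_mem (c.H_le_B ha) (c.H_le_B h1)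
      rwa [_root_.mul_inv_rev, mul_assoc, mul_inv_cancel_left] at this
    exact (c.np_inj hp hr h2).symm
  · rintro rfl
    exact Or.inr ⟨1, one_mem _, 1, one_mem _, by simp⟩

/-- A subgroup properly containing `B` contains some `n_q`. -/
theorem exists_np_mem {M : Subgroup ↥(D.group F)} (hM : (c.bnPair F).B ≤ M)
    {m : ↥(D.group F)} (hm : m ∈ M) (hmB : (m : GL D.Idx F) ∉ D.borelSubgroup F) :
    ∃ q < D.rank, ∃ n ∈ M, (n : GL D.Idx F) = c.np F q := by
  by_contra hne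
  push Not at hne
  have hJ : {s | s ∈ (c.bnPair F).S ∧ s ∈ M} = (∅ : Set ↥(D.group F)) := by
    refine Set.eq_empty_iff_forall_notMem.2 ?_
    rintro s ⟨⟨q, hq, hs⟩, hsM⟩
    exact hne q hq s hsM (Units.ext (hs.trans (c.ng_val _ _).symm))
  rw [Lie.eq_parabolic (c.bnPair F) M hM, hJ, Cfsg.BNPair.parabolic, Subgroup.closure_empty,
    sup_bot_eq] at hm
  exact hmB hm

variable {θ : ↥(D.group F) ≃* ↥(D.group F)}

/-- The image of a minimal parabolic subgroup contains a minimal parabolic subgroup. -/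
theorem exists_inPar_image (hU : Fix θ (D.posUnipotent F)) {p : ℕ} (hp : p < D.rank) :
    ∃ q < D.rank, ∀ g : ↥(D.group F), c.InPar q (θ g : GL D.Idx F) → c.InPar p (g : GL D.Idx F) := by
  obtain ⟨P, hP⟩ := c.exists_par (F := F) hp
  have hB := c.mem_B_of_fix hU
  set M := (P.subgroupOf (D.group F)).map θ.toMonoidHom with hMdef
  have hM : ∀ g : ↥(D.group F), θ g ∈ M ↔ c.InPar p (g : GL D.Idx F) := by
    intro g
    rw [hMdef, Subgroup.mem_map_equiv, MulEquiv.symm_apply_apply, Subgroup.mem_subgroupOf, hP]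
  have hBM : (c.bnPair F).B ≤ M := by
    intro g hg
    obtain ⟨h, rfl⟩ := θ.surjective g
    exact (hM h).2 (Or.inl ((hB h).1 hg))
  have hnp : c.np F p ∈ D.group F := c.np_mem_group hp
  obtain ⟨q, hq, n, hn, en⟩ := c.exists_np_mem hBM
    ((hM ⟨_, hnp⟩).2 ((c.np_inPar_iff hp hp).2 rfl))
    (fun h => c.np_notMem_B hp ((hB ⟨_, hnp⟩).1 h))
  refine ⟨q, hq, fun g hg => (hM g).1 ?_⟩
  rcases hg with hg | ⟨x, hx, y, hy, e⟩
  · exact hBM hg
  rw [show θ g = ⟨x, c.B_le_group hx⟩ * n * ⟨y, c.B_le_group hy⟩ from Subtype.ext (by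
    simp only [Subgroup.coe_mul, en, e])]
  exact mul_mem (mul_mem (hBM hx) hn) (hBM hy)

theorem fix_symm {S : Subgroup (GL D.Idx F)} (h : Fix θ S) : Fix θ.symm S := fun g => by
  rw [← h, MulEquiv.apply_symm_apply]

/-- An automorphism fixing `U` permutes the minimal parabolic subgroups. -/
theorem exists_inPar_perm (hU : Fix θ (D.posUnipotent F)) :
    ∃ π : Equiv.Perm (Fin D.rank), ∀ (p : Fin D.rank) (g : ↥(D.group F)),
      c.InPar (π p : ℕ) (θ g : GL D.Idx F) ↔ c.InPar (p : ℕ) (g : GL D.Idx F) := by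
  have key : ∀ p : Fin D.rank, ∃ q : Fin D.rank, ∀ g : ↥(D.group F),
      c.InPar (q : ℕ) (θ g : GL D.Idx F) ↔ c.InPar (p : ℕ) (g : GL D.Idx F) := by
    intro p
    obtain ⟨q, hq, h1⟩ := c.exists_inPar_image hU p.2
    obtain ⟨r, hr, h2⟩ := c.exists_inPar_image (c.fix_symm hU) hq
    have h3 : ∀ g : ↥(D.group F), c.InPar r (g : GL D.Idx F) → c.InPar q (θ g : GL D.Idx F) :=
      fun g hg => h2 (θ g) (by rwa [MulEquiv.symm_apply_apply])
    obtain rfl : r = p := (c.np_inPar_iff p.2 hr).1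
      (h1 ⟨_, c.np_mem_group hr⟩ (h3 ⟨_, c.np_mem_group hr⟩ ((c.np_inPar_iff hr hr).2 rfl)))
    exact ⟨⟨q, hq⟩, fun g => ⟨h1 g, h3 g⟩⟩
  choose f hf using key
  have hinj : Function.Injective f := by
    intro a b e
    have h1 : c.InPar (b : ℕ) (c.np F a) := (hf b ⟨_, c.np_mem_group a.2⟩).1
      (e ▸ (hf a ⟨_, c.np_mem_group a.2⟩).2 ((c.np_inPar_iff a.2 a.2).2 rfl))
    exact Fin.ext ((c.np_inPar_iff b.2 a.2).1 h1)
  exact ⟨Equiv.ofBijective f (Finite.injective_iff_bijective.1 hinj), hf⟩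

theorem xg_neg_inPar {p : ℕ} (hp : p < D.rank) (t : F) :
    c.InPar p (c.xg (D.neg (D.simple p)) t) := by
  by_cases ht : t = 0
  · subst ht; rw [c.xg_zero]; exact Or.inl (one_mem _)
  obtain ⟨a, ha, e⟩ := c.xg_neg_eq hp ht
  exact Or.inr ⟨c.xg (D.simple p) t⁻¹ * a, mul_mem (c.xg_mem_B (c.pos_simple hp) _) (c.H_le_B ha),
    c.xg (D.simple p) t⁻¹, c.xg_mem_B (c.pos_simple hp) _, by rw [e]; group⟩

theorem not_pos_neg_simple {p : ℕ} (hp : p < D.rank) : ¬ c.Pos (D.neg (D.simple p)) :=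
  fun h => (c.not_pos_iff (c.simple_lt hp)).2 h (c.pos_simple hp)

/-- The minimal parabolic subgroup meets `V` in the opposite fundamental root subgroup. -/
theorem inPar_V_iff [Finite F] {p : ℕ} (hp : p < D.rank) {g : GL D.Idx F} :
    c.InPar p g ∧ g ∈ D.negUnipotent F ↔ ∃ t : F, g = c.xg (D.neg (D.simple p)) t := by
  have hnn := c.neg_lt (c.simple_lt hp)
  refine ⟨fun ⟨h, hV⟩ => ?_, fun ⟨t, e⟩ =>
    e ▸ ⟨c.xg_neg_inPar hp t, c.xg_mem_V hnn (c.not_pos_neg_simple hp) t⟩⟩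
  have zero : ∀ {g : GL D.Idx F}, g ∈ D.borelSubgroup F → g ∈ D.negUnipotent F → g = 1 :=
    fun h1 h2 => Subgroup.mem_bot.1 (c.borel_inf_negUnipotent.1.le ⟨h1, h2⟩)
  rcases h with h | ⟨x, hx, y, hy, e⟩
  · exact ⟨0, by rw [c.xg_zero]; exact zero h hV⟩
  obtain ⟨u, hu, a, ha, rfl⟩ := c.mem_borel_iff.1 hy
  set u' := a⁻¹ * u * a with hu'def
  have hu' : u' ∈ D.posUnipotent F := by
    have := c.conj_B_U (inv_mem (c.H_le_B ha)) hu
    rwa [inv_inv] at this
  obtain ⟨k, hk, t, eu⟩ := c.exists_Up_mul hp hu'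
  -- `g = b n_p x_p(t)` with `b` in `B`
  have hb' : x * (c.np F p * a * (c.np F p)⁻¹) * (c.np F p * k * (c.np F p)⁻¹) ∈
      D.borelSubgroup F := mul_mem (mul_mem hx (c.H_le_B (c.np_conj_H hp ha)))
    (Subgroup.mem_sup_left (c.Up_le_U p (c.np_conj_Up hp hk)))
  set b := x * (c.np F p * a * (c.np F p)⁻¹) * (c.np F p * k * (c.np F p)⁻¹)
  have eg : g = b * c.np F p * c.xg (D.simple p) t := by
    rw [e, show u * a = a * (k * c.xg (D.simple p) t) by rw [← eu, hu'def]; group]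
    simp only [b]
    group
  by_cases ht : t = 0
  · exfalso
    subst ht
    rw [c.xg_zero, mul_one] at eg
    obtain ⟨L, hL, hlong⟩ := c.exists_longest
    set n := (1 : GL D.Idx F) * c.nw F L with hn
    have hnN : n ∈ D.monomialSubgroup F := mul_mem (one_mem _) (c.nw_mem_N hL)
    have hz : n⁻¹ * g * n ∈ D.posUnipotent F := by
      rw [c.mem_U_iff_conj_mem_V (one_mem _) hL hlong, ← hn]
      simpa [mul_assoc] using hV
    have h1 := c.bruhat_unique (one_mem _) hb' hnN (mul_mem (c.np_mem_N hp) hnN) hz (one_mem _)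
      (by rw [eg]; group)
    have h2 : c.np F p ∈ D.borelSubgroup F := by
      have := c.N_conj_H hnN h1
      simpa [mul_assoc] using c.H_le_B this
    exact c.np_notMem_B hp h2
  obtain ⟨a', ha', e'⟩ := c.xg_neg_eq hp (inv_ne_zero ht)
  rw [inv_inv] at e'
  refine ⟨t⁻¹, ?_⟩
  have h3 : g * (c.xg (D.neg (D.simple p)) t⁻¹)⁻¹ = b * (c.xg (D.simple p) t * a')⁻¹ := by
    rw [eg, e']; group
  have h4 := zero (h3 ▸ mul_mem hb' (inv_mem (mul_mem (c.xg_mem_B (c.pos_simple hp) t)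
    (c.H_le_B ha'))))
    (mul_mem hV (inv_mem (c.xg_mem_V hnn (c.not_pos_neg_simple hp) t⁻¹)))
  exact mul_inv_eq_one.1 h4

theorem exists_perm_neg [Finite F] (hU : Fix θ (D.posUnipotent F))
    (hV : Fix θ (D.negUnipotent F)) :
    ∃ π : Equiv.Perm (Fin D.rank), ∀ (p : Fin D.rank) (t : F), ∃ u : F,
      (θ (c.xG (D.neg (D.simple p)) t) : GL D.Idx F) = c.xg (D.neg (D.simple (π p))) u := by
  obtain ⟨π, hπ⟩ := c.exists_inPar_perm hU
  refine ⟨π, fun p t => (c.inPar_V_iff (π p).2).1 ⟨(hπ p _).2 (c.xg_neg_inPar p.2 t),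
    (hV _).2 (c.xg_mem_V (c.neg_lt (c.simple_lt p.2)) (c.not_pos_neg_simple p.2) t)⟩⟩

/-- The longest word sends fundamental roots to opposites of fundamental roots. -/
theorem exists_node_flip {L : List ℕ} (hL : ∀ p ∈ L, p < D.rank)
    (hlong : ∀ r, c.Pos r → ¬ c.Pos (c.wl L r)) :
    ∃ τ : Equiv.Perm (Fin D.rank), ∀ i : Fin D.rank,
      c.wl L (D.neg (D.simple i)) = D.simple (τ i) := by
  have key : ∀ q : Fin D.rank, ∃ i : Fin D.rank, c.wl L (D.neg (D.simple i)) = D.simple q := by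
    intro q
    have hLr : ∀ p ∈ L.reverse, p < D.rank := fun p hp => hL p (List.mem_reverse.1 hp)
    set r := c.wl L.reverse (D.simple q) with hr
    have hrl : r < D.nroots := c.wl_lt hLr (c.simple_lt q.2)
    have hwr : c.wl L r = D.simple q := c.wl_reverse hL (c.simple_lt q.2)
    have hneg : ¬ c.Pos r := fun h => hlong r h (hwr ▸ c.pos_simple q.2)
    have hr' := (c.not_pos_iff hrl).1 hneg
    have hv := c.wl_vec hL hrl q.2
    rw [hwr, c.vec_simple q.2 q.2, if_pos rfl] at hv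
    obtain ⟨i, hi, hne⟩ := Finset.exists_ne_zero_of_sum_ne_zero (hv.symm.trans_ne one_ne_zero)
    have hi' := Finset.mem_range.1 hi
    refine ⟨⟨i, hi'⟩, ?_⟩
    set m := c.wl L (D.neg (D.simple i)) with hm
    have hnn := c.neg_lt (c.simple_lt hi')
    have hml : m < D.nroots := c.wl_lt hL hnn
    have hmpos : c.Pos m := by
      rw [hm, c.wl_neg hL (c.simple_lt hi'), ← c.not_pos_iff (c.wl_lt hL (c.simple_lt hi'))]
      exact hlong _ (c.pos_simple hi')
    by_contra hne'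
    obtain ⟨k, hk, hkq, hpos⟩ := (c.vec_nonneg hml hmpos.1).2 q q.2 hne'
    have hv' := c.wl_vec hL hrl hk
    rw [hwr, c.vec_simple q.2 hk, if_neg hkq] at hv'
    have hterm : ∀ j ∈ Finset.range D.rank,
        0 ≤ c.T.vec r j * c.T.vec (c.wl L (D.simple j)) k := by
      intro j hj
      rw [Finset.mem_range] at hj
      exact mul_nonneg_of_nonpos_of_nonpos (c.vec_nonpos hrl hneg hj)
        (c.vec_nonpos (c.wl_lt hL (c.simple_lt hj)) (hlong _ (c.pos_simple hj)) hk)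
    have h0 := (Finset.sum_eq_zero_iff_of_nonneg hterm).1 hv'.symm i hi
    have e1 : c.T.vec m k = -c.T.vec (c.wl L (D.simple i)) k := by
      rw [hm, c.wl_neg hL (c.simple_lt hi'), c.vec_neg (c.wl_lt hL (c.simple_lt hi')) hk]
    rcases mul_eq_zero.1 h0 with h | h
    · rw [h, zero_mul] at hne; exact hne rfl
    · omega
  choose g hg using key
  have hinj : Function.Injective g := fun a b e =>
    Fin.ext (c.simple_inj a.2 b.2 ((hg a).symm.trans (e ▸ hg b)))
  set σ := Equiv.ofBijective g (Finite.injective_iff_bijective.1 hinj)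
  refine ⟨σ.symm, fun i => ?_⟩
  conv_lhs => rw [← σ.apply_symm_apply i]
  exact hg _

theorem exists_perm_pos [Finite F] (hU : Fix θ (D.posUnipotent F))
    (hV : Fix θ (D.negUnipotent F)) :
    ∃ π : Equiv.Perm (Fin D.rank), ∀ (p : Fin D.rank) (t : F), ∃ u : F,
      (θ (c.xG (D.simple p) t) : GL D.Idx F) = c.xg (D.simple (π p)) u := by
  obtain ⟨L, hL, hlong⟩ := c.exists_longest
  obtain ⟨τ, hτ⟩ := c.exists_node_flip hL hlong
  have hLr : ∀ p ∈ L.reverse, p < D.rank := fun p hp => hL p (List.mem_reverse.1 hp)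
  have hlong' : ∀ r, c.Pos r → ¬ c.Pos (c.wl L.reverse r) := by
    intro r hr hp
    exact hlong _ hp (by rw [c.wl_reverse hL hr.2]; exact hr)
  let n : ↥(D.group F) := ⟨1 * c.nw F L, c.N_le_group (mul_mem (one_mem _) (c.nw_mem_N hL))⟩
  have hUV : ∀ g : ↥(D.group F), (g : GL D.Idx F) ∈ D.posUnipotent F ↔
      ((MulAut.conj n g : ↥(D.group F)) : GL D.Idx F) ∈ D.negUnipotent F := fun g =>
    c.mem_U_iff_conj_mem_V (one_mem _) hL hlong _
  have hVU : ∀ g : ↥(D.group F), (g : GL D.Idx F) ∈ D.negUnipotent F ↔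
      ((MulAut.conj n g : ↥(D.group F)) : GL D.Idx F) ∈ D.posUnipotent F := by
    intro g
    -- `n⁻¹` is again monomial with the reversed word
    obtain ⟨a, ha, M, hM, e⟩ := c.mem_monomial_iff.1
      (inv_mem (mul_mem (one_mem _) (c.nw_mem_N (F := F) hL)) :
        (1 * c.nw F L)⁻¹ ∈ D.monomialSubgroup F)
    have hlongM : ∀ r, c.Pos r → ¬ c.Pos (c.wl M r) := by
      intro r hr hp
      obtain ⟨k, hk, hconj⟩ := c.mono_mul_xg (F := F) ha hM hr.2
      have h1 : (1 * c.nw F L)⁻¹ * c.xg r (1 : F) * (1 * c.nw F L) ∈ D.posUnipotent F := by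
        have : a * c.nw F M * c.xg r (1 : F) * (a * c.nw F M)⁻¹ ∈ D.posUnipotent F := by
          rw [hconj, mul_inv_cancel_right]
          exact c.xg_mem_U hp _
        rwa [← e, inv_inv] at this
      have h2 := (c.mem_U_iff_conj_mem_V (one_mem _) hL hlong _).1 h1
      simp only [← mul_assoc, mul_inv_cancel, one_mul, mul_inv_cancel_right] at h2
      exact one_ne_zero ((c.xg_eq_one_iff hr.2 1).1 (Subgroup.mem_bot.1
        (c.borel_inf_negUnipotent.1.le ⟨c.xg_mem_B hr 1, h2⟩)))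
    rw [c.mem_U_iff_conj_mem_V ha hM hlongM, ← e]
    show _ ↔ (1 * c.nw F L)⁻¹ * ((1 * c.nw F L) * (g : GL D.Idx F) * (1 * c.nw F L)⁻¹) *
      (1 * c.nw F L)⁻¹⁻¹ ∈ _
    simp [mul_assoc]
  set θ' := ((MulAut.conj n).trans θ).trans (MulAut.conj n).symm with hθ'
  have hθ'' : ∀ g, θ (MulAut.conj n g) = MulAut.conj n (θ' g) := fun g => by
    rw [hθ', MulEquiv.trans_apply, MulEquiv.trans_apply, MulEquiv.apply_symm_apply]
  have hU' : Fix θ' (D.posUnipotent F) := fun g => by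
    rw [hUV, ← hθ'', hV, ← hUV]
  have hV' : Fix θ' (D.negUnipotent F) := fun g => by
    rw [hVU, ← hθ'', hU, ← hVU]
  obtain ⟨π, hπ⟩ := c.exists_perm_neg hU' hV'
  refine ⟨τ.symm.trans (π.trans τ), fun p t => ?_⟩
  obtain ⟨i, rfl⟩ := τ.surjective p
  have hconj : ∀ (i : Fin D.rank) (t : F), MulAut.conj n (c.xG (D.neg (D.simple i)) t) =
      c.xG (D.simple (τ i)) ((c.wsign L (D.neg (D.simple i)) : F) * t) := by
    intro i t
    refine Subtype.ext ?_
    show 1 * c.nw F L * c.xg _ t * (1 * c.nw F L)⁻¹ = _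
    rw [one_mul, c.nw_mul_xg hL (c.neg_lt (c.simple_lt i.2)), mul_inv_cancel_right, hτ]
    rfl
  obtain ⟨u, hu⟩ := hπ i ((c.wsign L (D.neg (D.simple i)) : F) * t)
  refine ⟨(c.wsign L (D.neg (D.simple (π i))) : F) * u, ?_⟩
  have h := hθ'' (c.xG (D.neg (D.simple i)) ((c.wsign L (D.neg (D.simple i)) : F) * t))
  rw [hconj, ← mul_assoc, c.wsign_sq, one_mul,
    show θ' (c.xG (D.neg (D.simple i)) _) = c.xG (D.neg (D.simple (π i))) u from Subtype.ext hu,
    hconj] at h
  rw [h]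
  simp

/-- Opposite root subgroups of different nodes commute. -/
theorem commute_opp {i j : ℕ} (hi : i < D.rank) (hj : j < D.rank) (hij : i ≠ j) (t u : F) :
    Commute (c.xg (D.simple i) t) (c.xg (D.neg (D.simple j)) u) := by
  have hα := c.simple_lt hi
  have hβ := c.neg_lt (c.simple_lt hj)
  have h1 : D.neg (D.simple j) ≠ D.simple i := fun e =>
    c.not_pos_neg_simple hj (e ▸ c.pos_simple hi)
  have h2 : D.neg (D.simple j) ≠ D.neg (D.simple i) := by
    intro e
    refine hij (c.simple_inj hi hj ?_)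
    rw [← c.neg_neg (c.simple_lt hi), ← e, c.neg_neg (c.simple_lt hj)]
  refine c.xg_commute hα hβ h1 h2 (List.eq_nil_iff_forall_not_mem.2 fun x hx => ?_) t u
  obtain ⟨hx1, ha, hb, -⟩ := c.mem_commTerms hα hβ hx
  have ei := c.commTerms_vec hα hβ hi hx
  have ej := c.commTerms_vec hα hβ hj hx
  rw [c.vec_simple hi hi, if_pos rfl, c.vec_neg (c.simple_lt hj) hi, c.vec_simple hj hi,
    if_neg hij, neg_zero, mul_zero, add_zero, mul_one] at ei
  rw [c.vec_simple hi hj, if_neg (Ne.symm hij), c.vec_neg (c.simple_lt hj) hj,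
    c.vec_simple hj hj, if_pos rfl, mul_zero, zero_add] at ej
  have hp := c.pos_of_vec_pos hx1 hi (by omega)
  have := (c.vec_nonneg hx1 hp.1).1 j hj
  omega

theorem not_commute_opp_self {i : ℕ} (hi : i < D.rank) :
    ¬ ∀ t u : F, Commute (c.xg (D.simple i) t) (c.xg (D.neg (D.simple i)) u) := by
  intro h
  have hα := c.simple_lt hi
  have h1 : Commute (c.np F i) (c.xg (D.simple i) 1) := by
    have hx : ∀ t : F, Commute (c.xg (D.simple i) t) (c.xg (D.simple i) (1 : F)) := fun t => by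
      show _ = _
      rw [← c.xg_add, ← c.xg_add, add_comm]
    exact ((hx _).mul_left (h 1 _).symm).mul_left (hx _)
  have h2 := h1.eq
  rw [Cert.np, c.ng_conj hi hα, c.w_simple hi] at h2
  have h3 := mul_right_cancel h2
  have h4 := c.eq_zero_of_mem (c.neg_lt hα) (c.not_pos_neg_simple hi)
    (t := (c.T.eta i (D.simple i) : F) * 1) (h3 ▸ c.xg_mem_B (c.pos_simple hi) 1)
  have h5 := c.eta_F_sq (F := F) i (D.simple i)
  rw [mul_one] at h4
  rw [h4, zero_mul] at h5
  exact zero_ne_one h5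

theorem exists_root_maps [Finite F] (hU : Fix θ (D.posUnipotent F))
    (hV : Fix θ (D.negUnipotent F)) :
    ∃ (π : Equiv.Perm (Fin D.rank)) (f g : Fin D.rank → F → F), ∀ (i : Fin D.rank) (t : F),
      (θ (c.xG (D.simple i) t) : GL D.Idx F) = c.xg (D.simple (π i)) (f i t) ∧
      (θ (c.xG (D.neg (D.simple i)) t) : GL D.Idx F) = c.xg (D.neg (D.simple (π i))) (g i t) := by
  obtain ⟨π, hπ⟩ := c.exists_perm_pos hU hV
  obtain ⟨π', hπ'⟩ := c.exists_perm_neg hU hV
  choose f hf using hπ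
  choose g hg using hπ'
  have e : π' = π := by
    refine Equiv.ext fun i => ?_
    by_contra hne
    refine c.not_commute_opp_self (F := F) i.2 fun t u => ?_
    have h := c.commute_opp (π i).2 (π' i).2 (fun e => hne (Fin.ext e).symm) (f i t) (g i u)
    rw [← hf, ← hg] at h
    have h' : Commute (θ (c.xG (D.simple i) t)) (θ (c.xG (D.neg (D.simple i)) u)) :=
      Subtype.ext h.eq
    exact congrArg Subtype.val (θ.injective (by rw [map_mul, map_mul]; exact h'.eq) :
      c.xG (D.simple i) t * c.xG (D.neg (D.simple i)) u =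
        c.xG (D.neg (D.simple i)) u * c.xG (D.simple i) t)
  subst e
  exact ⟨π', f, g, fun i t => ⟨hf i t, hg i t⟩⟩

end CertFull

end Cfsg.Agent.Lie.Chev
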