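import Cfsg.Agent.Lib.Lie.Chev.AutRootData
import Cfsg.Agent.Lib.Lie.Chev.GraphAuto

/-! Steinberg's theorem: every automorphism of a finite Chevalley group of one of the tabulated types
is inner times diagonal times graph times field. -/

set_option autoImplicit false
set_option maxRecDepth 20000

namespace Cfsg.Agent.Lie.Chev

open Cfsg.Lie Matrix

/-- A field with a squaring relation between two automorphisms has characteristic 2. -/
theorem two_eq_zero_of_sq {F : Type*} [Field F] (σ τ : F ≃+* F)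
    (h : ∀ t, t ≠ 0 → τ t = σ t ^ 2) : (2 : F) = 0 := by
  by_contra h2
  have e := h 2 h2
  rw [map_ofNat, map_ofNat] at e
  exact h2 (by linear_combination (norm := ring_nf) -e)

/-- A field with a cubing relation between two automorphisms has characteristic 3 or two
elements. -/
theorem three_eq_zero_or_of_cube {F : Type*} [Field F] (σ τ : F ≃+* F)
    (h : ∀ t, t ≠ 0 → τ t = σ t ^ 3) : (3 : F) = 0 ∨ ((2 : F) = 0 ∧ ∀ t : F, t = 0 ∨ t = 1) := by
  by_cases h2 : (2 : F) = 0
  · refine Or.inr ⟨h2, fun t => ?_⟩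
    by_cases ht : t = 0
    · exact Or.inl ht
    by_contra hne
    push Not at hne
    have ht1 : t + 1 ≠ 0 := fun e => hne.2 (by linear_combination e - h2)
    have e := h (t + 1) ht1
    rw [map_add, map_one, map_add, map_one, h t ht] at e
    have e2 : σ t * (σ t + 1) = 0 := by
      linear_combination (σ t ^ 2 + σ t) * (-1 : F) * h2 - (1 : F) * (e)
    rcases mul_eq_zero.1 e2 with e3 | e3
    · exact ht ((map_eq_zero σ).1 e3)
    · rw [← map_one σ, ← map_add, map_eq_zero] at e3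
      exact ht1 e3
  · left
    have e := h 2 h2
    rw [map_ofNat, map_ofNat] at e
    have h6 : (2 : F) * 3 = 0 := by linear_combination -e
    exact (mul_eq_zero.1 h6).resolve_left h2

theorem ringChar_eq_of_zero {F : Type*} [Field F] {p : ℕ} (hp : p.Prime) (h : (p : F) = 0) :
    ringChar F = p := by
  rcases (Nat.dvd_prime hp).1 (ringChar.dvd h) with h' | h'
  · exact absurd h' CharP.ringChar_ne_one
  · exact h'

/-- Two automorphisms related by `zpow (-1)` agree. -/
theorem ringEquiv_ext_ne {F : Type*} [Field F] {σ τ : F ≃+* F} (h : ∀ t, t ≠ 0 → σ t = τ t) :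
    σ = τ := by
  ext t
  by_cases ht : t = 0
  · subst ht; simp
  · exact h t ht

/-- A field automorphism relation over one bond. -/
theorem eq_pow_of_relation {F : Type*} [Field F] {σ τ : F ≃+* F} {a : ℤ} {m : ℕ}
    (ha : a = -(m : ℤ)) (h : ∀ t, t ≠ 0 → τ t ^ (-1 : ℤ) = σ t ^ a) (t : F) (ht : t ≠ 0) :
    τ t = σ t ^ m := by
  have e := h t ht
  subst ha
  rw [_root_.zpow_neg, _root_.zpow_neg, zpow_one, _root_.inv_inj, zpow_natCast] at e
  exact e

/-- Facts about a type without multiple bonds between the node and the target of `π`. -/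
structure SimplyLaced (D : ChevalleyDatum) : Prop where
  vals : ∀ i j : Fin D.rank, i ≠ j →
    D.cartan i (D.simple j) = 0 ∨ D.cartan i (D.simple j) = -1
  short : ∀ i : Fin D.rank, D.isLong (D.simple i) = false
  conn : ∀ m : Fin D.rank → Bool,
    (∀ i j : Fin D.rank, D.cartan i (D.simple j) = -1 → m i = m j) → ∀ i j, m i = m j

namespace CertFull

variable {D : ChevalleyDatum} (c : CertFull D) {F : Type*} [Field F]

include c

/-- The data of a normalised automorphism. -/
def Normal (θ : ↥(D.group F) ≃* ↥(D.group F)) (π : Equiv.Perm (Fin D.rank))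
    (σ : Fin D.rank → F ≃+* F) : Prop :=
  (∀ (i : Fin D.rank) (t : F), θ (c.xG (D.simple i) t) = c.xG (D.simple (π i)) (σ i t) ∧
    θ (c.xG (D.neg (D.simple i)) t) = c.xG (D.neg (D.simple (π i))) (σ i t)) ∧
  (∀ i j : Fin D.rank, i ≠ j →
    (D.cartan (π i) (D.simple (π j)) = 0 ↔ D.cartan i (D.simple j) = 0)) ∧
  ∀ (i j : Fin D.rank) (t : F), t ≠ 0 →
    σ j t ^ D.cartan i (D.simple j) = σ i t ^ D.cartan (π i) (D.simple (π j))

/-- What has to be shown about normalised automorphisms. -/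
def Classified (F : Type*) [Field F] : Prop :=
  ∀ θ π σ, c.Normal (F := F) θ π σ → D.IsDiagramSymmetry π ∧
    ∃ s : F ≃+* F, ∀ i t, σ i t = s t ^ D.graphExp (ringChar F) i (π i)

theorem decomposition [Finite F] (hC : c.Classified F) (θ : ↥(D.group F) ≃* ↥(D.group F)) :
    ∃ (x : ↥(D.group F)) (d g f : ↥(D.group F) ≃* ↥(D.group F)),
      D.IsDiagonalAut d ∧ D.IsGraphAut g ∧ D.IsFieldAut f ∧
        ∀ y : ↥(D.group F), θ y = x * d (g (f y)) * x⁻¹ := by
  obtain ⟨x, d, θ', π, σ, hd, hθ, h1, h2, h3⟩ := c.exists_normal_aut θ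
  obtain ⟨hsym, s, hs⟩ := hC θ' π σ ⟨h1, h2, h3⟩
  obtain ⟨f, hf⟩ := c.exists_fieldAuto s
  have hfx : ∀ (r : ℕ) (t : F), r < D.nroots → f.symm (c.xG r t) = c.xG r (s.symm t) := by
    intro r t hr
    rw [MulEquiv.symm_apply_eq]
    refine Subtype.ext (Units.ext ?_)
    rw [hf _ r (s.symm t) hr (c.xg_val _ _), RingEquiv.apply_symm_apply]
    exact c.xg_val _ _
  refine ⟨x, d, f.symm.trans θ', f, hd, ⟨π, hsym, fun g i t => ⟨fun hg => ?_, fun hg => ?_⟩⟩,
    ⟨s, hf⟩, fun y => ?_⟩
  · rw [show g = c.xG (D.simple i) t from Subtype.ext (c.eq_xg_iff.1 hg), MulEquiv.trans_apply,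
      hfx _ t (c.simple_lt i.2), (h1 i _).1, hs, RingEquiv.apply_symm_apply]
    exact c.xg_val _ _
  · rw [show g = c.xG (D.neg (D.simple i)) t from Subtype.ext (c.eq_xg_iff.1 hg),
      MulEquiv.trans_apply, hfx _ t (c.neg_lt (c.simple_lt i.2)), (h1 i _).2, hs,
      RingEquiv.apply_symm_apply]
    exact c.xg_val _ _
  · rw [MulEquiv.trans_apply, MulEquiv.symm_apply_apply]
    exact hθ y

theorem classified_simplyLaced (hD : SimplyLaced D) : c.Classified F := by
  intro θ π σ ⟨_, hz, hr⟩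
  have hA : ∀ i j : Fin D.rank, i ≠ j →
      D.cartan (π i) (D.simple (π j)) = D.cartan i (D.simple j) := by
    intro i j hij
    rcases hD.vals i j hij with h | h
    · rw [h, (hz i j hij).2 h]
    · rw [h]
      refine (hD.vals _ _ (fun e => hij (π.injective e))).resolve_left fun h' => ?_
      rw [(hz i j hij).1 h'] at h
      exact absurd h (by decide)
  refine ⟨fun i j hij => ?_, ?_⟩
  · rw [ChevalleyDatum.bonds, ChevalleyDatum.bonds, hA i j hij, hA j i hij.symm]
  let i₀ : Fin D.rank := ⟨0, c.one_le_rank⟩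
  refine ⟨σ i₀, fun i t => ?_⟩
  rw [ChevalleyDatum.graphExp, hD.short]
  simp only [Bool.false_and, Bool.false_eq_true, if_false, pow_one]
  classical
  have h := hD.conn (fun i => decide (σ i = σ i₀)) (fun i j hij => ?_) i i₀
  · simp only [decide_true, decide_eq_true_eq] at h
    rw [h]
  have hne : i ≠ j := fun e => by
    subst e; rw [c.cartan_simple_self i.2] at hij; exact absurd hij (by decide)
  have e : σ j = σ i := ringEquiv_ext_ne fun t ht => (eq_pow_of_relation (m := 1) rfl (fun t ht => by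
    have := hr i j t ht
    rwa [hA i j hne, hij] at this) t ht).trans (pow_one _)
  rw [e]

end CertFull

theorem simplyLacedD4 : SimplyLaced chevD4 :=
  ⟨by decide +kernel, by decide +kernel, by decide +kernel⟩

theorem simplyLacedE6 : SimplyLaced chevE6 :=
  ⟨by decide +kernel, by decide +kernel, by decide +kernel⟩

theorem simplyLacedE7 : SimplyLaced chevE7 :=
  ⟨by decide +kernel, by decide +kernel, by decide +kernel⟩

theorem simplyLacedE8 : SimplyLaced chevE8 :=
  ⟨by decide +kernel, by decide +kernel, by decide +kernel⟩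

/-! ### Two root lengths -/

theorem permB2 : ∀ π : Equiv.Perm (Fin chevB2.rank),
    chevB2.IsDiagramSymmetry π ∧ (π = 1 ∨ (π ⟨0, by decide⟩ = ⟨1, by decide⟩ ∧
      π ⟨1, by decide⟩ = ⟨0, by decide⟩)) := by
  unfold ChevalleyDatum.IsDiagramSymmetry
  decide +kernel

theorem permG2 : ∀ π : Equiv.Perm (Fin chevG2.rank),
    chevG2.IsDiagramSymmetry π ∧ (π = 1 ∨ (π ⟨0, by decide⟩ = ⟨1, by decide⟩ ∧
      π ⟨1, by decide⟩ = ⟨0, by decide⟩)) := by
  unfold ChevalleyDatum.IsDiagramSymmetry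
  decide +kernel

theorem permF4 : ∀ π : Equiv.Perm (Fin chevF4.rank),
    (∀ i j : Fin chevF4.rank, i ≠ j →
      (chevF4.cartan (π i) (chevF4.simple (π j)) = 0 ↔ chevF4.cartan i (chevF4.simple j) = 0)) →
    chevF4.IsDiagramSymmetry π ∧ (π = 1 ∨ (π ⟨0, by decide⟩ = ⟨3, by decide⟩ ∧
      π ⟨1, by decide⟩ = ⟨2, by decide⟩ ∧ π ⟨2, by decide⟩ = ⟨1, by decide⟩ ∧
      π ⟨3, by decide⟩ = ⟨0, by decide⟩)) := by
  unfold ChevalleyDatum.IsDiagramSymmetry
  decide +kernel

theorem connB2neg : ∀ m : Fin chevB2.rank → Bool, (∀ i j : Fin chevB2.rank,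
    chevB2.cartan i (chevB2.simple j) = -1 → m i = m j) → ∀ i j, m i = m j := by decide +kernel

theorem connG2neg : ∀ m : Fin chevG2.rank → Bool, (∀ i j : Fin chevG2.rank,
    chevG2.cartan i (chevG2.simple j) = -1 → m i = m j) → ∀ i j, m i = m j := by decide +kernel

theorem connF4neg : ∀ m : Fin chevF4.rank → Bool, (∀ i j : Fin chevF4.rank,
    chevF4.cartan i (chevF4.simple j) = -1 → m i = m j) → ∀ i j, m i = m j := by decide +kernel

namespace CertFull

/-- The identity permutation. -/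
theorem exists_field_of_one {D : ChevalleyDatum} (c : CertFull D) {F : Type*} [Field F]
    (hconn : ∀ m : Fin D.rank → Bool,
      (∀ i j : Fin D.rank, D.cartan i (D.simple j) = -1 → m i = m j) → ∀ i j, m i = m j)
    {σ : Fin D.rank → F ≃+* F}
    (hr : ∀ (i j : Fin D.rank) (t : F), t ≠ 0 →
      σ j t ^ D.cartan i (D.simple j) = σ i t ^ D.cartan i (D.simple j)) :
    ∃ s : F ≃+* F, ∀ i t, σ i t = s t ^ D.graphExp (ringChar F) i i := by
  let i₀ : Fin D.rank := ⟨0, c.one_le_rank⟩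
  refine ⟨σ i₀, fun i t => ?_⟩
  rw [ChevalleyDatum.graphExp, Bool.and_not_self]
  simp only [Bool.false_eq_true, if_false, pow_one]
  classical
  have h := hconn (fun i => decide (σ i = σ i₀)) (fun i j hij => ?_) i i₀
  · simp only [decide_true, decide_eq_true_eq] at h
    rw [h]
  have e : σ j = σ i := ringEquiv_ext_ne fun t ht => (eq_pow_of_relation (m := 1) rfl (fun t ht => by
    have := hr i j t ht
    rwa [hij] at this) t ht).trans (pow_one _)
  rw [e]

end CertFull

theorem classifiedB2 {F : Type*} [Field F] : certFullB2.Classified F := by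
  intro θ π σ ⟨_, _, hr⟩
  obtain ⟨hsym, rfl | ⟨h0, h1⟩⟩ := permB2 π
  · exact ⟨hsym, certFullB2.exists_field_of_one connB2neg fun i j t ht => hr i j t ht⟩
  refine ⟨hsym, σ ⟨1, by decide⟩, ?_⟩
  have e : ∀ t : F, t ≠ 0 → σ ⟨0, by decide⟩ t = σ ⟨1, by decide⟩ t ^ 2 := fun t ht =>
    eq_pow_of_relation (m := 2) rfl (fun t ht => by
      have := hr ⟨1, by decide⟩ ⟨0, by decide⟩ t ht
      rw [h0, h1] at this
      rwa [show chevB2.cartan (1 : ℕ) (chevB2.simple 0) = -1 by decide +kernel,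
        show chevB2.cartan (0 : ℕ) (chevB2.simple 1) = -((2 : ℕ) : ℤ) by decide +kernel] at this) t ht
  have hc : ringChar F = 2 := ringChar_eq_of_zero Nat.prime_two
    (by exact_mod_cast two_eq_zero_of_sq _ _ e)
  intro i t
  rw [hc]
  obtain ⟨i, hi⟩ := i
  obtain rfl | rfl : i = 0 ∨ i = 1 := by
    have : chevB2.rank = 2 := rfl
    omega
  · rw [h0, show chevB2.graphExp 2 0 1 = 2 by decide +kernel]
    by_cases ht : t = 0
    · subst ht; simp
    · exact e t ht
  · rw [h1, show chevB2.graphExp 2 1 0 = 1 by decide +kernel, pow_one]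

theorem g2_facts : certFullG2.w 0 6 = 10 ∧ certFullG2.w 1 7 = 8 ∧ certFullG2.w 1 10 = 11 ∧
    certFullG2.w 0 8 = 9 ∧ certFullG2.T.commTerms 6 10 = [(11, 1, 1, 1)] ∧
    certFullG2.T.commTerms 7 8 = [(9, -2, 1, 1), (10, -3, 2, 1), (11, 3, 1, 2)] ∧
    certFullG2.T.h = 6 ∧ chevG2.nroots = 12 ∧ chevG2.simple 0 = 7 ∧ chevG2.simple 1 = 6 ∧
    chevG2.neg 6 ≠ 10 ∧ chevG2.neg 7 ≠ 8 := by
  decide +kernel

/-- The exchange of the two nodes is impossible over the field with two elements. -/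
theorem swapG2_false {F : Type*} [Field F] (h2 : (2 : F) = 0)
    (hF : ∀ t : F, t = 0 ∨ t = 1) (θ : ↥(chevG2.group F) ≃* ↥(chevG2.group F))
    (h : ∀ p q : ℕ, (p = 0 ∧ q = 1) ∨ (p = 1 ∧ q = 0) → ∀ t : F,
      θ (certFullG2.xG (chevG2.simple p) t) = certFullG2.xG (chevG2.simple q) t ∧
      θ (certFullG2.xG (chevG2.neg (chevG2.simple p)) t) =
        certFullG2.xG (chevG2.neg (chevG2.simple q)) t) : False := by
  obtain ⟨w06, w17, w110, w08, t1, t2, hh, hn, s0, s1, n1, n2⟩ := g2_facts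
  set c := certFullG2
  have hneg : (-1 : F) = 1 := by linear_combination -h2
  have hη : ∀ p r : ℕ, (c.T.eta p r : F) = 1 := by
    intro p r
    rcases hF (c.T.eta p r : F) with e | e
    · have h' := c.eta_F_sq (F := F) p r
      rw [e, zero_mul] at h'
      exact absurd h' zero_ne_one
    · exact e
  have hnp : ∀ p q : ℕ, (p = 0 ∧ q = 1) ∨ (p = 1 ∧ q = 0) →
      θ (c.ngG (chevG2.simple p) 1) = c.ngG (chevG2.simple q) 1 := fun p q hpq => by
    simp only [CertFull.ngG, map_mul, (h p q hpq _).1, (h p q hpq _).2]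
  have step : ∀ p q : ℕ, (p = 0 ∧ q = 1) ∨ (p = 1 ∧ q = 0) → ∀ r s : ℕ, r < chevG2.nroots →
      s < chevG2.nroots → θ (c.xG r (1 : F)) = c.xG s 1 →
      θ (c.xG (c.w p r) (1 : F)) = c.xG (c.w q s) 1 := by
    intro p q hpq r s hr hs hrs
    have key : ∀ p < chevG2.rank, ∀ r < chevG2.nroots, c.ngG (chevG2.simple p) (1 : F) * c.xG r 1 *
        (c.ngG (chevG2.simple p) 1)⁻¹ = c.xG (c.w p r) 1 := by
      intro p hp r hr
      refine Subtype.ext ?_
      simp only [Subgroup.coe_mul, Subgroup.coe_inv, CertFull.ngG_coe, CertFull.xG_coe]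
      rw [c.ng_conj hp hr, mul_inv_cancel_right, hη, one_mul]
    have hr2 : chevG2.rank = 2 := rfl
    rw [← key p (by omega) r hr, map_mul, map_mul, map_inv, hnp p q hpq, hrs,
      key q (by omega) s hs]
  have a6 : θ (c.xG 6 (1 : F)) = c.xG 7 1 := by
    have := (h 1 0 (Or.inr ⟨rfl, rfl⟩) 1).1
    rwa [s0, s1] at this
  have a7 : θ (c.xG 7 (1 : F)) = c.xG 6 1 := by
    have := (h 0 1 (Or.inl ⟨rfl, rfl⟩) 1).1
    rwa [s0, s1] at this
  have a10 : θ (c.xG 10 (1 : F)) = c.xG 8 1 := by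
    have := step 0 1 (Or.inl ⟨rfl, rfl⟩) 6 7 (by omega) (by omega) a6
    rwa [w06, w17] at this
  have a11 : θ (c.xG 11 (1 : F)) = c.xG 9 1 := by
    have := step 1 0 (Or.inr ⟨rfl, rfl⟩) 10 8 (by omega) (by omega) a10
    rwa [w110, w08] at this
  have e1 : c.xG 10 (1 : F) * c.xG 6 1 = c.xG 6 1 * c.xG 10 1 * c.xG 11 1 := by
    refine Subtype.ext ?_
    simp only [Subgroup.coe_mul, CertFull.xG_coe]
    rw [c.xg_comm (by omega) (by omega) (by omega) (Ne.symm n1), t1]
    simp [hneg]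
  have e2 := congrArg (fun y => (θ y : GL chevG2.Idx F)) e1
  simp only [map_mul, a6, a10, a11, Subgroup.coe_mul, CertFull.xG_coe] at e2
  rw [c.xg_comm (by omega) (by omega) (by omega) (Ne.symm n2), t2] at e2
  have e3 := mul_left_cancel e2
  have h9 : c.Pos 9 := ⟨by omega, by omega⟩
  simp only [List.map_cons, List.map_nil, List.prod_cons, List.prod_nil, mul_one] at e3
  have h10 : ∀ a b : F, c.xg 10 a * c.xg 11 b ∈ c.K F (9 + 1) := fun a b =>
    mul_mem (c.xg_mem_K ⟨by omega, by omega⟩ (by omega) a)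
      (c.xg_mem_K ⟨by omega, by omega⟩ (by omega) b)
  have := (c.xg_mul_K_inj h9 (h10 _ _) (one_mem _) (e3.trans (mul_one _).symm)).1
  rw [show ((-2 : ℤ) : F) = 0 by push_cast; linear_combination -h2, zero_mul, zero_mul] at this
  exact zero_ne_one this

theorem classifiedG2 {F : Type*} [Field F] : certFullG2.Classified F := by
  intro θ π σ ⟨hm, _, hr⟩
  obtain ⟨hsym, rfl | ⟨h0, h1⟩⟩ := permG2 π
  · exact ⟨hsym, certFullG2.exists_field_of_one connG2neg fun i j t ht => hr i j t ht⟩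
  refine ⟨hsym, σ ⟨1, by decide⟩, ?_⟩
  have e : ∀ t : F, t ≠ 0 → σ ⟨0, by decide⟩ t = σ ⟨1, by decide⟩ t ^ 3 := fun t ht =>
    eq_pow_of_relation (m := 3) rfl (fun t ht => by
      have := hr ⟨1, by decide⟩ ⟨0, by decide⟩ t ht
      rw [h0, h1] at this
      rwa [show chevG2.cartan (1 : ℕ) (chevG2.simple 0) = -1 by decide +kernel,
        show chevG2.cartan (0 : ℕ) (chevG2.simple 1) = -((3 : ℕ) : ℤ) by decide +kernel] at this) t ht
  have hc : ringChar F = 3 := by
    rcases three_eq_zero_or_of_cube _ _ e with h3 | ⟨h2, hF⟩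
    · exact ringChar_eq_of_zero Nat.prime_three (by exact_mod_cast h3)
    · refine (swapG2_false h2 hF θ fun p q hpq t => ?_).elim
      have hid : ∀ (i : Fin chevG2.rank) (t : F), σ i t = t := fun i t => by
        rcases hF t with rfl | rfl <;> simp
      rcases hpq with ⟨rfl, rfl⟩ | ⟨rfl, rfl⟩
      · have := hm ⟨0, by decide⟩ t
        rwa [h0, hid] at this
      · have := hm ⟨1, by decide⟩ t
        rwa [h1, hid] at this
  intro i t
  rw [hc]
  obtain ⟨i, hi⟩ := i
  obtain rfl | rfl : i = 0 ∨ i = 1 := by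
    have : chevG2.rank = 2 := rfl
    omega
  · rw [h0, show chevG2.graphExp 3 0 1 = 3 by decide +kernel]
    by_cases ht : t = 0
    · subst ht; simp
    · exact e t ht
  · rw [h1, show chevG2.graphExp 3 1 0 = 1 by decide +kernel, pow_one]

theorem classifiedF4 {F : Type*} [Field F] : certFullF4.Classified F := by
  intro θ π σ ⟨_, hz, hr⟩
  obtain ⟨hsym, rfl | ⟨h0, h1, h2, h3⟩⟩ := permF4 π hz
  · exact ⟨hsym, certFullF4.exists_field_of_one connF4neg fun i j t ht => hr i j t ht⟩
  refine ⟨hsym, σ ⟨3, by decide⟩, ?_⟩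
  have e32 : ∀ t : F, t ≠ 0 → σ ⟨2, by decide⟩ t = σ ⟨3, by decide⟩ t ^ 1 := fun t ht =>
    eq_pow_of_relation (m := 1) rfl (fun t ht => by
      have := hr ⟨3, by decide⟩ ⟨2, by decide⟩ t ht
      rw [h3, h2] at this
      rwa [show chevF4.cartan (3 : ℕ) (chevF4.simple 2) = -1 by decide +kernel,
        show chevF4.cartan (0 : ℕ) (chevF4.simple 1) = -((1 : ℕ) : ℤ) by decide +kernel] at this) t ht
  have e21 : ∀ t : F, t ≠ 0 → σ ⟨1, by decide⟩ t = σ ⟨2, by decide⟩ t ^ 2 := fun t ht =>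
    eq_pow_of_relation (m := 2) rfl (fun t ht => by
      have := hr ⟨2, by decide⟩ ⟨1, by decide⟩ t ht
      rw [h2, h1] at this
      rwa [show chevF4.cartan (2 : ℕ) (chevF4.simple 1) = -1 by decide +kernel,
        show chevF4.cartan (1 : ℕ) (chevF4.simple 2) = -((2 : ℕ) : ℤ) by decide +kernel] at this) t ht
  have e10 : ∀ t : F, t ≠ 0 → σ ⟨0, by decide⟩ t = σ ⟨1, by decide⟩ t ^ 1 := fun t ht =>
    eq_pow_of_relation (m := 1) rfl (fun t ht => by
      have := hr ⟨1, by decide⟩ ⟨0, by decide⟩ t ht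
      rw [h1, h0] at this
      rwa [show chevF4.cartan (1 : ℕ) (chevF4.simple 0) = -1 by decide +kernel,
        show chevF4.cartan (2 : ℕ) (chevF4.simple 3) = -((1 : ℕ) : ℤ) by decide +kernel] at this) t ht
  have hc : ringChar F = 2 := ringChar_eq_of_zero Nat.prime_two
    (by exact_mod_cast two_eq_zero_of_sq _ _ e21)
  intro i t
  rw [hc]
  by_cases ht : t = 0
  · subst ht
    obtain ⟨i, hi⟩ := i
    have : ∀ n m : ℕ, chevF4.graphExp 2 n m ≠ 0 := fun n m => by
      unfold ChevalleyDatum.graphExp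
      split <;> omega
    simp [zero_pow (this _ _)]
  obtain ⟨i, hi⟩ := i
  obtain rfl | rfl | rfl | rfl : i = 0 ∨ i = 1 ∨ i = 2 ∨ i = 3 := by
    have : chevF4.rank = 4 := rfl
    omega
  · rw [h0, show chevF4.graphExp 2 0 3 = 2 by decide +kernel, e10 t ht, e21 t ht, e32 t ht]
    ring
  · rw [h1, show chevF4.graphExp 2 1 2 = 2 by decide +kernel, e21 t ht, e32 t ht]
    ring
  · rw [h2, show chevF4.graphExp 2 2 1 = 1 by decide +kernel, e32 t ht]
  · rw [h3, show chevF4.graphExp 2 3 0 = 1 by decide +kernel, pow_one]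

/-- Steinberg's theorem on automorphisms. -/
theorem aut_decomposition {F : Type*} [Field F] [Finite F] {D : ChevalleyDatum}
    (hD : D ∈ [chevG2, chevB2, chevD4, chevF4, chevE6, chevE7, chevE8])
    (θ : ↥(D.group F) ≃* ↥(D.group F)) :
    ∃ (x : ↥(D.group F)) (d g f : ↥(D.group F) ≃* ↥(D.group F)),
      D.IsDiagonalAut d ∧ D.IsGraphAut g ∧ D.IsFieldAut f ∧
        ∀ y : ↥(D.group F), θ y = x * d (g (f y)) * x⁻¹ := by
  simp only [List.mem_cons, List.not_mem_nil, or_false] at hD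
  rcases hD with rfl | rfl | rfl | rfl | rfl | rfl | rfl
  · exact certFullG2.decomposition classifiedG2 θ
  · exact certFullB2.decomposition classifiedB2 θ
  · exact certFullD4.decomposition (certFullD4.classified_simplyLaced simplyLacedD4) θ
  · exact certFullF4.decomposition classifiedF4 θ
  · exact certFullE6.decomposition (certFullE6.classified_simplyLaced simplyLacedE6) θ
  · exact certFullE7.decomposition (certFullE7.classified_simplyLaced simplyLacedE7) θ
  · exact certFullE8.decomposition (certFullE8.classified_simplyLaced simplyLacedE8) θ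

end Cfsg.Agent.Lie.Chev
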