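/- Coset representatives and diagonalisation of the Cartan matrix of type G2. -/
import Cfsg.Agent.Lib.Lie.Chev.Order
import Cfsg.Agent.Lib.Lie.Chev.CertsFull

set_option autoImplicit false

namespace Cfsg.Agent.Lie.Chev

/-- Representatives at level 1 for type G2. -/
def repsG2L1 : List Rep := [
  ⟨[], 0, [7, 6], 0⟩,
  ⟨[0], 0, [4, 10], 7⟩]

/-- Representatives at level 2 for type G2. -/
def repsG2L2 : List Rep := [
  ⟨[], 0, [7, 6], 0⟩,
  ⟨[1], 0, [8, 5], 6⟩,
  ⟨[0, 1], 1, [9, 1], 8⟩,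
  ⟨[1, 0, 1], 2, [9, 0], 11⟩,
  ⟨[0, 1, 0, 1], 3, [8, 0], 9⟩,
  ⟨[1, 0, 1, 0, 1], 4, [7, 1], 10⟩]

/-- The chain of type G2. -/
def chainG2 : List (List Rep) := [repsG2L2, repsG2L1]

theorem chainG2_ok : certFullG2.T.checkLevels chainG2 = true := by decide +kernel

theorem chainG2_len : chainG2.length = Cfsg.Lie.chevG2.rank := rfl

theorem chainG2_poly : checkPoly Cfsg.Lie.chevG2.rank chainG2 [2, 6] = true := by
  decide +kernel

theorem cardHG2 (F : Type*) [Field F] [Fintype F] :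
    Nat.card (Cfsg.Lie.chevG2.diagonalSubgroup F) =
      ∏ i, (Fintype.card F - 1) / (Fintype.card F - 1).gcd (![1, 1] i) :=
  certFullG2.card_H (l := 2) rfl
    (A := !![2, -3; -1, 2])
    (P := !![0, -1; 1, 2])
    (P' := !![2, 1; -1, 0])
    (Q := !![1, 2; 0, 1])
    (Q' := !![1, -2; 0, 1])
    (![1, 1]) (by decide +kernel) (by decide +kernel) (by decide +kernel)
    (by decide +kernel) (by decide +kernel) (by decide +kernel)

end Cfsg.Agent.Lie.Chev
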