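import Cfsg.Agent.Lib.Lie.Chev.TwistCommon
import Cfsg.Agent.Lib.Lie.Chev.OrderG2
import Cfsg.Agent.Lib.Lie.Chev.OrderB2
import Cfsg.Agent.Lib.Lie.Chev.OrderD4
import Cfsg.Agent.Lib.Lie.Chev.OrderF4
import Cfsg.Agent.Lib.Lie.Chev.OrderE6
import Cfsg.Agent.Lib.Lie.Chev.OrderE7
import Cfsg.Agent.Lib.Lie.Chev.OrderE8
import Cfsg.Agent.Lib.Lie.BNCoxeter

/-! The Weyl group of an untwisted Chevalley group is a Coxeter group: presentation, order and
order of a Coxeter element, from table checks. -/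

set_option autoImplicit false

namespace Cfsg.Agent.Lie.Chev

open Cfsg.Lie

/-- The entries of a Coxeter matrix at natural numbers. -/
def natM {k : ℕ} [NeZero k] (M : CoxeterMatrix (Fin k)) (a b : ℕ) : ℕ :=
  M.M (Fin.ofNat k a) (Fin.ofNat k b)

theorem natM_eq {k : ℕ} [NeZero k] (M : CoxeterMatrix (Fin k)) (a b : Fin k) :
    natM M a b = M.M a b := by
  unfold natM
  congr 1 <;> (ext; simp [Nat.mod_eq_of_lt (Fin.is_lt _)])

theorem length_chainWords : ∀ Ls : List (List Rep),
    (chainWords Ls).length = (Ls.map List.length).prod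
  | [] => by simp [chainWords]
  | R :: Rs => by
    simp [chainWords, List.length_flatMap, length_chainWords Rs, mul_comm]

namespace Tables

variable (T : Tables)

/-- The product of the fundamental reflections in the listed order has order `m`. -/
def checkOrd (L : List ℕ) (m : ℕ) : Bool :=
  Nat.blt 0 m && (T.allNodes fun q => Nat.beq ((T.wlT L)^[m] (T.simple q)) (T.simple q)) &&
    (List.range m).all fun i => Nat.beq i 0 ||
      (List.range T.l).any fun q => !(Nat.beq ((T.wlT L)^[i] (T.simple q)) (T.simple q))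

end Tables

namespace CertFull

variable {D : ChevalleyDatum} (c : CertFull D) {F : Type*} [Field F]

include c

/-- The representative of a word in the monomial subgroup. -/
def wN (F : Type*) [Field F] (L : List ℕ) (hL : ∀ p ∈ L, p < D.rank) : ↥(c.bnPair F).N :=
  ⟨⟨c.nw F L, c.N_le_group (c.nw_mem_N hL)⟩, c.nw_mem_N hL⟩

theorem wN_append {L M : List ℕ} (hL : ∀ p ∈ L, p < D.rank) (hM : ∀ p ∈ M, p < D.rank)
    (h : ∀ p ∈ L ++ M, p < D.rank) : c.wN F (L ++ M) h = c.wN F L hL * c.wN F M hM :=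
  Subtype.ext (Subtype.ext (c.nw_append L M))

theorem mem_torus_iff' {n : ↥(c.bnPair F).N} :
    n ∈ Lie.torus (c.bnPair F) ↔
      ((n : ↥(D.group F)) : GL D.Idx F) ∈ D.diagonalSubgroup F := by
  rw [Lie.mem_torus]
  exact ⟨fun h => c.B_inf_N.le ⟨h, n.2⟩, fun h => c.H_le_B h⟩

theorem proj_wN_eq_one {L : List ℕ} (hL : ∀ p ∈ L, p < D.rank) :
    Lie.proj (c.bnPair F) (c.wN F L hL) = 1 ↔ c.Same L [] := by
  rw [← MonoidHom.mem_ker, QuotientGroup.ker_mk', c.mem_torus_iff']
  constructor
  · intro h q hq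
    exact c.wl_eq_of_eq (L := L) (M := []) (one_mem _) h hL (by simp)
      (by simp [wN]) (c.simple_lt hq)
  · intro h
    refine c.nw_mem_H hL fun q hq => ?_
    rw [h q hq]
    exact c.pos_simple hq

theorem proj_wN_eq {L M : List ℕ} (hL : ∀ p ∈ L, p < D.rank) (hM : ∀ p ∈ M, p < D.rank) :
    Lie.proj (c.bnPair F) (c.wN F L hL) = Lie.proj (c.bnPair F) (c.wN F M hM) ↔ c.Same L M := by
  have hR : ∀ p ∈ M.reverse, p < D.rank := fun p hp => hM p (List.mem_reverse.1 hp)
  have hRL : ∀ p ∈ M.reverse ++ L, p < D.rank := fun p hp =>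
    (List.mem_append.1 hp).elim (hR p) (hL p)
  have hRM : ∀ p ∈ M.reverse ++ M, p < D.rank := fun p hp =>
    (List.mem_append.1 hp).elim (hR p) (hM p)
  have h1 : Lie.proj (c.bnPair F) (c.wN F M.reverse hR) * Lie.proj (c.bnPair F) (c.wN F M hM) = 1 := by
    rw [← map_mul, ← c.wN_append hR hM hRM, c.proj_wN_eq_one]
    intro q hq
    have h2 := c.wl_reverse (L := M.reverse) hR (c.simple_lt hq)
    rw [List.reverse_reverse] at h2
    rw [c.wl_append, h2, Cert.wl_nil]
  constructor
  · intro h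
    rw [← h, ← map_mul, ← c.wN_append hR hL hRL, c.proj_wN_eq_one] at h1
    intro q hq
    have h3 := h1 q hq
    rw [c.wl_append, Cert.wl_nil] at h3
    have h4 := congrArg (c.wl M) h3
    rwa [c.wl_reverse hM (c.wl_lt hL (c.simple_lt hq))] at h4
  · intro h
    refine mul_left_cancel (a := Lie.proj (c.bnPair F) (c.wN F M.reverse hR)) ?_
    rw [h1, ← map_mul, ← c.wN_append hR hL hRL, c.proj_wN_eq_one]
    intro q hq
    have h2 := c.wl_reverse (L := M.reverse) hR (c.simple_lt hq)
    rw [List.reverse_reverse] at h2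
    rw [c.wl_append, h q hq, h2, Cert.wl_nil]

theorem proj_wN_pow_eq_one {L : List ℕ} (hL : ∀ p ∈ L, p < D.rank) (n : ℕ) :
    Lie.proj (c.bnPair F) (c.wN F L hL) ^ n = 1 ↔
      ∀ q < D.rank, (c.wl L)^[n] (D.simple q) = D.simple q := by
  let rep : ℕ → List ℕ := fun n => (List.replicate n L).flatten
  have hrep : ∀ n, ∃ h : ∀ p ∈ rep n, p < D.rank,
      (∀ s, c.wl (rep n) s = (c.wl L)^[n] s) ∧
      Lie.proj (c.bnPair F) (c.wN F (rep n) h) = Lie.proj (c.bnPair F) (c.wN F L hL) ^ n := by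
    intro n
    induction n with
    | zero =>
      refine ⟨by simp [rep], fun s => by simp [rep], ?_⟩
      rw [pow_zero, c.proj_wN_eq_one]
      exact fun q _ => by simp [rep]
    | succ n ih =>
      obtain ⟨i1, i2, i3⟩ := ih
      have e : rep (n + 1) = L ++ rep n := by simp [rep, List.replicate_succ]
      have hlt : ∀ p ∈ L ++ rep n, p < D.rank := fun p hp =>
        (List.mem_append.1 hp).elim (hL p) (i1 p)
      refine ⟨e ▸ hlt, fun s => ?_, ?_⟩
      · rw [e, c.wl_append, i2, Function.iterate_succ_apply']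
      · rw [pow_succ', ← i3, ← map_mul, ← c.wN_append hL i1 hlt]
        congr 1
  obtain ⟨h1, h2, h3⟩ := hrep n
  rw [← h3, c.proj_wN_eq_one]
  refine forall₂_congr fun q _ => ?_
  rw [h2, Cert.wl_nil]

/-- The order of the image of a word, from a table check. -/
theorem orderOf_proj_wN {L : List ℕ} (hL : ∀ p ∈ L, p < D.rank) {m : ℕ}
    (h : c.T.checkOrd L m = true) : orderOf (Lie.proj (c.bnPair F) (c.wN F L hL)) = m := by
  simp only [Tables.checkOrd, Tables.allNodes, List.all_eq_true, List.mem_range, Bool.and_eq_true,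
    Nat.blt_eq, Nat.beq_eq, Bool.or_eq_true, List.any_eq_true, Bool.not_eq_true'] at h
  obtain ⟨⟨h1, h2⟩, h3⟩ := h
  have hwl : c.T.wlT L = c.wl L := funext (c.wlT_eq _)
  rw [hwl] at h2 h3
  refine (orderOf_eq_iff h1).2 ⟨(c.proj_wN_pow_eq_one hL _).2 fun q hq => ?_, fun i hi hi0 e => ?_⟩
  · rw [c.simple_eq hq]; exact h2 q (c.rank_eq ▸ hq)
  · rcases h3 i hi with h | ⟨q, hq, h⟩
    · omega
    · have := (c.proj_wN_pow_eq_one hL i).1 e q (c.rank_eq.symm ▸ hq)
      rw [c.simple_eq (c.rank_eq.symm ▸ hq)] at this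
      simp [this] at h

/-- The fundamental reflections are indexed by the nodes. -/
theorem exists_nodeEquiv {k : ℕ} (hk : D.rank = k) :
    ∃ f : Fin k ≃ (c.bnPair F).S, ∀ i : Fin k,
      Lie.sN (c.bnPair F) (f i) = c.wN F [(i : ℕ)] (by simp [hk]) := by
  have hnw : ∀ p, c.nw F [p] = c.np F p := fun p => by simp
  let g : Fin k → (c.bnPair F).S := fun i =>
    ⟨(c.wN F [(i : ℕ)] (by simp [hk]) : ↥(D.group F)), i, hk.symm ▸ i.2, by
      show ((c.nw F [(i : ℕ)] : GL D.Idx F) : Matrix D.Idx D.Idx F) = _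
      rw [hnw]; exact c.ng_val _ _⟩
  have hg : Function.Bijective g := by
    refine ⟨fun i j e => ?_, fun s => ?_⟩
    · have e' : c.nw F [(i : ℕ)] = c.nw F [(j : ℕ)] :=
        congrArg Subtype.val (congrArg Subtype.val e)
      rw [hnw, hnw] at e'
      exact Fin.ext (c.np_inj (F := F) (hk.symm ▸ i.2) (hk.symm ▸ j.2) (by simp [e']))
    · obtain ⟨n, i, hi, h⟩ := s
      refine ⟨⟨i, hk ▸ hi⟩, Subtype.ext (Subtype.ext ?_)⟩
      show c.nw F [i] = _
      rw [hnw]
      exact (Units.ext (h.trans (c.ng_val _ _).symm)).symm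
  exact ⟨Equiv.ofBijective g hg, fun i => rfl⟩

variable (F) in
/-- The Weyl group is the Coxeter group of a checked matrix. -/
theorem exists_weylEquiv {k : ℕ} [NeZero k] (M : CoxeterMatrix (Fin k)) (hk : D.rank = k)
    (hchk : c.T.checkCox ((List.range k).map fun i => [i]) (natM M) = true) :
    ∃ e : Lie.Weyl (c.bnPair F) ≃* M.Group, ∀ i : Fin k,
      e (Lie.proj (c.bnPair F) (c.wN F [(i : ℕ)] (by simp [hk]))) = M.simple i := by
  obtain ⟨f, hf⟩ := c.exists_nodeEquiv (F := F) hk
  simp only [Tables.checkCox, List.length_map, List.length_range, List.all_eq_true,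
    List.mem_range] at hchk
  have hMeq : M.reindex f = Lie.bnMatrix (c.bnPair F) := by
    refine CoxeterMatrix.ext (Matrix.ext fun s r => ?_)
    show M.M (f.symm s) (f.symm r) =
      orderOf (Lie.refl (c.bnPair F) s * Lie.refl (c.bnPair F) r)
    obtain ⟨a, rfl⟩ := f.surjective s
    obtain ⟨b, rfl⟩ := f.surjective r
    rw [f.symm_apply_apply, f.symm_apply_apply]
    have h := hchk a a.2 b b.2
    rw [natM_eq] at h
    have ha : ((List.range k).map fun i => [i]).getD a [] = [(a : ℕ)] := by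
      simp [List.getD_eq_getElem?_getD, a.2]
    have hb : ((List.range k).map fun i => [i]).getD b [] = [(b : ℕ)] := by
      simp [List.getD_eq_getElem?_getD, b.2]
    rw [ha, hb] at h
    have hlt : ∀ p ∈ [(a : ℕ)] ++ [(b : ℕ)], p < D.rank := by simp [hk]
    rw [Lie.refl, Lie.refl, ← map_mul, hf a, hf b,
      ← c.wN_append (F := F) (L := [(a : ℕ)]) (M := [(b : ℕ)]) (by simp [hk]) (by simp [hk]) hlt]
    exact (c.orderOf_proj_wN hlt (m := M.M a b) (by simpa [Tables.checkOrd] using h)).symm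
  let e1 : Lie.Weyl (c.bnPair F) ≃* (Lie.bnMatrix (c.bnPair F)).Group :=
    (MulEquiv.ofBijective _ (Lie.coxHom_bijective (c.bnPair F))).symm
  have he1 : ∀ s, e1 (Lie.refl (c.bnPair F) s) = (Lie.bnMatrix (c.bnPair F)).simple s :=
    fun s => (MulEquiv.symm_apply_eq _).2 (Lie.coxHom_simple (c.bnPair F) s).symm
  obtain ⟨e2, he2⟩ : ∃ e2 : (Lie.bnMatrix (c.bnPair F)).Group ≃* M.Group,
      ∀ i, e2 ((Lie.bnMatrix (c.bnPair F)).simple (f i)) = M.simple i := by
    rw [← hMeq]
    exact ⟨M.reindexGroupEquiv f, fun i => by rw [CoxeterMatrix.reindexGroupEquiv_apply_simple, f.symm_apply_apply]⟩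
  refine ⟨e1.trans e2, fun i => ?_⟩
  rw [← hf i]
  show e2 (e1 (Lie.refl (c.bnPair F) (f i))) = _
  rw [he1, he2]

theorem monomial_hom {k : ℕ} [NeZero k] (M : CoxeterMatrix (Fin k)) (hk : D.rank = k)
    (hchk : c.T.checkCox ((List.range k).map fun i => [i]) (natM M) = true) :
    ∃ φ : ↥(D.monomialSubgroup F) →* M.Group, Function.Surjective φ ∧
      φ.ker = (D.diagonalSubgroup F).subgroupOf (D.monomialSubgroup F) ∧
      ∀ (i : Fin k) (g : ↥(D.monomialSubgroup F)),
        ((g : GL D.Idx F) : Matrix D.Idx D.Idx F) = D.nMat F (D.simple i) 1 →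
          φ g = M.simple i := by
  obtain ⟨e, he⟩ := c.exists_weylEquiv F M hk hchk
  let E : ↥(D.monomialSubgroup F) ≃* ↥(c.bnPair F).N :=
    (Subgroup.subgroupOfEquivOfLe c.N_le_group).symm
  refine ⟨e.toMonoidHom.comp ((Lie.proj (c.bnPair F)).comp E.toMonoidHom),
    e.surjective.comp ((QuotientGroup.mk'_surjective _).comp E.surjective), ?_, fun i g hg => ?_⟩
  · ext n
    rw [MonoidHom.mem_ker, Subgroup.mem_subgroupOf, MonoidHom.comp_apply, MonoidHom.comp_apply]
    show e (Lie.proj (c.bnPair F) (E n)) = 1 ↔ _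
    rw [map_eq_one_iff e e.injective, ← MonoidHom.mem_ker, QuotientGroup.ker_mk',
      c.mem_torus_iff']
    exact Iff.rfl
  · show e (Lie.proj (c.bnPair F) (E g)) = _
    rw [← he i]
    refine congrArg e (congrArg _ (Subtype.ext (Subtype.ext ?_)))
    show (g : GL D.Idx F) = c.nw F [(i : ℕ)]
    rw [show c.nw F [(i : ℕ)] = c.np F i by simp]
    exact Units.ext (hg.trans (c.ng_val _ _).symm)

variable (F) in
/-- The order of the Weyl group, from a chain. -/
theorem card_weyl {Ls : List (List Rep)} (hc : c.T.checkLevels Ls = true)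
    (hlen : Ls.length = D.rank) :
    Nat.card (Lie.Weyl (c.bnPair F)) = (Ls.map List.length).prod := by
  obtain ⟨hlt, hex, hpw, -⟩ := c.chain_spec Ls hc hlen.le
  rw [← length_chainWords, ← Nat.card_fin (chainWords Ls).length]
  refine (Nat.card_eq_of_bijective (fun i : Fin (chainWords Ls).length =>
    Lie.proj (c.bnPair F) (c.wN F (chainWords Ls)[i]
      fun p hp => hlen ▸ hlt _ (List.getElem_mem _) p hp)) ⟨fun i j e => ?_, fun w => ?_⟩).symm
  · rw [c.proj_wN_eq] at e
    rw [List.pairwise_iff_getElem] at hpw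
    rcases lt_trichotomy i j with h | h | h
    · exact absurd e (hpw i j i.2 j.2 h)
    · exact h
    · exact absurd (fun q hq => (e q hq).symm) (hpw j i j.2 i.2 h)
  · obtain ⟨n, rfl⟩ := QuotientGroup.mk'_surjective (Lie.torus (c.bnPair F)) w
    obtain ⟨a, ha, L, hL, e⟩ := c.mem_monomial_iff.1 n.2
    obtain ⟨v, hv, hs⟩ := hex L (fun p hp => hlen.symm ▸ hL p hp)
    obtain ⟨i, hi, rfl⟩ := List.getElem_of_mem hv
    refine ⟨⟨i, hi⟩, ?_⟩
    show Lie.proj (c.bnPair F) _ = Lie.proj (c.bnPair F) n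
    have hn : n = ⟨⟨a, c.B_le_group (c.H_le_B ha)⟩,
        Subgroup.mem_sup_left ha⟩ * c.wN F L hL := Subtype.ext (Subtype.ext e)
    have ha1 : Lie.proj (c.bnPair F) ⟨⟨a, c.B_le_group (c.H_le_B ha)⟩,
        Subgroup.mem_sup_left ha⟩ = 1 := by
      rw [← MonoidHom.mem_ker, QuotientGroup.ker_mk', c.mem_torus_iff']
      exact ha
    rw [hn, map_mul, ha1, one_mul]
    exact ((c.proj_wN_eq hL _).2 hs).symm

theorem card_coxeter {k : ℕ} [NeZero k] (M : CoxeterMatrix (Fin k)) (hk : D.rank = k)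
    (hchk : c.T.checkCox ((List.range k).map fun i => [i]) (natM M) = true)
    {Ls : List (List Rep)} (hc : c.T.checkLevels Ls = true) (hlen : Ls.length = D.rank) :
    Nat.card M.Group = (Ls.map List.length).prod := by
  obtain ⟨e, -⟩ := c.exists_weylEquiv ℚ M hk hchk
  rw [← Nat.card_congr e.toEquiv]
  exact c.card_weyl ℚ hc hlen

theorem orderOf_coxeter {k : ℕ} [NeZero k] (M : CoxeterMatrix (Fin k)) (hk : D.rank = k)
    (hchk : c.T.checkCox ((List.range k).map fun i => [i]) (natM M) = true) {m : ℕ}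
    (hord : c.T.checkOrd (List.range k) m = true) :
    orderOf ((List.finRange k).map M.simple).prod = m := by
  obtain ⟨e, he⟩ := c.exists_weylEquiv ℚ M hk hchk
  have key : ∀ l : List (Fin k), ∃ h : ∀ p ∈ l.map Fin.val, p < D.rank,
      e (Lie.proj (c.bnPair ℚ) (c.wN ℚ (l.map Fin.val) h)) = (l.map M.simple).prod := by
    intro l
    induction l with
    | nil =>
      refine ⟨by simp, ?_⟩
      have h1 : Lie.proj (c.bnPair ℚ) (c.wN ℚ ([] : List ℕ) (by simp)) = 1 :=
        (c.proj_wN_eq_one (by simp)).2 fun q _ => rfl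
      show e (Lie.proj (c.bnPair ℚ) (c.wN ℚ ([] : List ℕ) (by simp))) = _
      rw [h1, map_one]
      rfl
    | cons a l ih =>
      obtain ⟨h1, h2⟩ := ih
      have h : ∀ p ∈ [(a : ℕ)] ++ l.map Fin.val, p < D.rank := by
        intro p hp
        rcases List.mem_append.1 hp with hp | hp
        · rw [List.mem_singleton.1 hp, hk]; exact a.2
        · exact h1 p hp
      refine ⟨h, ?_⟩
      show e (Lie.proj (c.bnPair ℚ) (c.wN ℚ ([(a : ℕ)] ++ l.map Fin.val) h)) = _
      rw [c.wN_append (by simp [hk]) h1 h, map_mul, map_mul, he, h2, List.map_cons,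
        List.prod_cons]
  obtain ⟨h, h'⟩ := key (List.finRange k)
  rw [← h', MulEquiv.orderOf_eq]
  refine c.orderOf_proj_wN h ?_
  rwa [List.map_coe_finRange_eq_range]

end CertFull

/-- Checked Coxeter matrices of the exceptional types and `D₄`, `B₂`. -/
theorem coxG2 : certFullG2.T.checkCox ((List.range 2).map fun i => [i])
    (natM CoxeterMatrix.G₂) = true := by decide +kernel

theorem coxB2 : certFullB2.T.checkCox ((List.range 2).map fun i => [i])
    (natM (CoxeterMatrix.B 2)) = true := by decide +kernel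

theorem coxD4 : certFullD4.T.checkCox ((List.range 4).map fun i => [i])
    (natM coxeterD4) = true := by decide +kernel

theorem coxF4 : certFullF4.T.checkCox ((List.range 4).map fun i => [i])
    (natM CoxeterMatrix.F₄) = true := by decide +kernel

theorem coxE6 : certFullE6.T.checkCox ((List.range 6).map fun i => [i])
    (natM CoxeterMatrix.E₆) = true := by decide +kernel

theorem coxE7 : certFullE7.T.checkCox ((List.range 7).map fun i => [i])
    (natM CoxeterMatrix.E₇) = true := by decide +kernel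

theorem coxE8 : certFullE8.T.checkCox ((List.range 8).map fun i => [i])
    (natM CoxeterMatrix.E₈) = true := by decide +kernel

end Cfsg.Agent.Lie.Chev
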