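import Cfsg.Agent.Lib.Lie.Chev.AutBorel
import Cfsg.Agent.Lib.Lie.Chev.WeylCoxeter
import Cfsg.Agent.Lib.Lie.BNAdjacency

/-! Every parameter of the (B,N)-pair of an untwisted Chevalley group is the field order. -/

set_option autoImplicit false

namespace Cfsg.Agent.Lie.Chev

open Cfsg.Lie

namespace CertFull

variable {D : ChevalleyDatum} (c : CertFull D) {F : Type*} [Field F]

include c

theorem xg_neg_notMem_B {p : ℕ} (hp : p < D.rank) {b : F} (hb : b ≠ 0) :
    c.xg (D.neg (D.simple p)) b ∉ D.borelSubgroup F := by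
  intro h
  obtain ⟨a, ha, e⟩ := c.xg_neg_eq hp hb
  rw [e] at h
  have hx := c.xg_mem_B (c.pos_simple hp) b⁻¹
  have h1 := mul_mem (mul_mem (inv_mem hx) h) (inv_mem hx)
  simp only [mul_assoc, inv_mul_cancel_left, mul_inv_cancel, mul_one] at h1
  have h2 := mul_mem (inv_mem (c.H_le_B ha)) h1
  rw [inv_mul_cancel_left] at h2
  exact c.np_notMem_B hp h2

theorem val_eq (t : (c.bnPair F).S) : Lie.val (c.bnPair F) t = Nat.card F := by
  obtain ⟨n, p, hp, hn⟩ := t
  have hne : (n : GL D.Idx F) = c.np F p := Units.ext (hn.trans (c.ng_val _ _).symm)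
  have hα := c.simple_lt hp
  have hB : ∀ {g : ↥(D.group F)}, g ∈ (c.bnPair F).B ↔ (g : GL D.Idx F) ∈ D.borelSubgroup F :=
    fun {g} => Subgroup.mem_subgroupOf
  have hsq : c.np F p * c.np F p ∈ D.borelSubgroup F := c.H_le_B (c.np_sq_mem hp)
  have hconj : ∀ k ∈ Up D F p, (c.np F p)⁻¹ * k * c.np F p ∈ D.borelSubgroup F := by
    intro k hk
    have h1 : c.np F p * k * (c.np F p)⁻¹ ∈ D.borelSubgroup F :=
      Subgroup.mem_sup_left (c.Up_le_U p (c.np_conj_Up hp hk))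
    have h2 := mul_mem (mul_mem (inv_mem hsq) h1) hsq
    convert h2 using 1
    group
  let φ : F → {y : ↥(D.group F) ⧸ (c.bnPair F).B //
      Lie.rel (c.bnPair F) ((1 : ↥(D.group F)) : ↥(D.group F) ⧸ (c.bnPair F).B) y =
        Lie.refl (c.bnPair F) ⟨n, p, hp, hn⟩} := fun u =>
    ⟨((c.xG (D.simple p) u * n : ↥(D.group F)) : ↥(D.group F) ⧸ (c.bnPair F).B), by
      rw [Lie.rel_mk, inv_one, one_mul, Lie.refl, Lie.mem_cell_proj]
      exact ⟨c.xG (D.simple p) u, hB.2 (c.xg_mem_B (c.pos_simple hp) u), 1, one_mem _, by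
        rw [mul_one]; rfl⟩⟩
  refine (Nat.card_eq_of_bijective φ ⟨fun u v h => ?_, fun y => ?_⟩).symm
  · have h1 := QuotientGroup.eq.1 (congrArg Subtype.val h)
    rw [hB, Subgroup.coe_mul, Subgroup.coe_inv, Subgroup.coe_mul, Subgroup.coe_mul, c.xG_coe,
      c.xG_coe, hne, _root_.mul_inv_rev, c.xg_inv, mul_assoc,
      ← mul_assoc (c.xg (D.simple p) (-u)), ← c.xg_add] at h1
    by_contra huv
    have hs : -u + v ≠ 0 := fun e => huv (neg_add_eq_zero.1 e)
    have h2 := mul_mem (mul_mem hsq h1) (inv_mem hsq)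
    have e : c.np F p * c.np F p * ((c.np F p)⁻¹ * (c.xg (D.simple p) (-u + v) * c.np F p)) *
        (c.np F p * c.np F p)⁻¹ = c.np F p * c.xg (D.simple p) (-u + v) * (c.np F p)⁻¹ := by
      group
    rw [e, Cert.np, c.ng_conj hp hα, mul_inv_cancel_right, c.w_simple hp] at h2
    exact c.xg_neg_notMem_B hp (mul_ne_zero
      (left_ne_zero_of_mul (b := (c.T.eta p (D.simple p) : F))
        (by rw [c.eta_F_sq]; exact one_ne_zero)) hs) h2
  · obtain ⟨y, hy⟩ := y
    obtain ⟨g, rfl⟩ := QuotientGroup.mk_surjective y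
    have hy' := hy
    rw [Lie.rel_mk, inv_one, one_mul, Lie.refl, Lie.mem_cell_proj] at hy'
    obtain ⟨b₁, h₁, b₂, h₂, e⟩ := hy'
    obtain ⟨v, hv, a, ha, hb⟩ := c.mem_borel_iff.1 (hB.1 h₁)
    obtain ⟨k, hk, u, rfl⟩ := c.exists_Up_mul hp hv
    refine ⟨u, Subtype.ext (QuotientGroup.eq.2 ?_)⟩
    rw [hB]
    show ((c.xG (D.simple p) u : GL D.Idx F) * (n : GL D.Idx F))⁻¹ * (g : GL D.Idx F) ∈ _
    have hg : (g : GL D.Idx F) = (b₁ : GL D.Idx F) * (n : GL D.Idx F) * (b₂ : GL D.Idx F) :=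
      congrArg Subtype.val e
    rw [hg, hb, c.xG_coe, hne]
    have h3 : (c.xg (D.simple p) u)⁻¹ * k * c.xg (D.simple p) u ∈ Up D F p := by
      have := c.xg_conj_Up hp (Or.inl rfl) (-u) hk
      rwa [← c.xg_inv, inv_inv] at this
    have h4 : (c.np F p)⁻¹ * a * c.np F p ∈ D.borelSubgroup F := by
      have := c.N_conj_H (inv_mem (c.np_mem_N hp)) ha
      rw [inv_inv] at this
      exact c.H_le_B this
    have h5 := mul_mem (mul_mem (hconj _ h3) h4) (hB.1 h₂)
    convert h5 using 1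
    group

end CertFull

end Cfsg.Agent.Lie.Chev
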