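import Cfsg.Agent.Lib.Lie.Chev.Bridge

/-! Root elements of a Chevalley group: action on the basis, additivity, the elements `n_p`,
conjugation of root elements by `n_p`. -/

set_option autoImplicit false

namespace Cfsg.Agent.Lie.Chev

open Cfsg.Lie Matrix

section Vectors

variable (D : ChevalleyDatum) (F : Type*) [Field F]

/-- The basis vector of a fundamental coroot, `0` out of range. -/
def hvec (i : ℕ) : D.Idx → F := Sum.elim (fun j => if (j : ℕ) = i then 1 else 0) (fun _ => 0)

/-- The basis vector of a root, `0` out of range. -/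
def evec (u : ℕ) : D.Idx → F := Sum.elim (fun _ => 0) (fun s => if (s : ℕ) = u then 1 else 0)

/-- Position of a coordinate. -/
def enum : D.Idx → ℕ := Sum.elim (fun i => (i : ℕ)) (fun s => D.rank + s)

theorem enum_injective : Function.Injective (enum D) := by
  rintro (i | s) (j | t) h <;> simp [enum] at h <;> first
    | exact congrArg _ (Fin.ext h)
    | (exfalso; omega)

theorem enum_lt (i : D.Idx) : enum D i < D.rank + D.nroots := by
  rcases i with i | s <;> simp [enum] <;> omega

theorem single_inl (i : Fin D.rank) :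
    (Pi.single (Sum.inl i) 1 : D.Idx → F) = hvec D F i := by
  funext j
  rcases j with j | s <;> simp [hvec, Pi.single_apply, Fin.ext_iff]

theorem single_inr (s : Fin D.nroots) :
    (Pi.single (Sum.inr s) 1 : D.Idx → F) = evec D F s := by
  funext j
  rcases j with j | u <;> simp [evec, Pi.single_apply, Fin.ext_iff]

/-- Two matrices agree if they agree on the basis. -/
theorem mat_ext {A B : Matrix D.Idx D.Idx F}
    (h1 : ∀ i < D.rank, A *ᵥ hvec D F i = B *ᵥ hvec D F i)
    (h2 : ∀ s < D.nroots, A *ᵥ evec D F s = B *ᵥ evec D F s) : A = B := by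
  refine Matrix.ext_of_mulVec_single fun j => ?_
  rcases j with i | s
  · rw [single_inl]; exact h1 i i.isLt
  · rw [single_inr]; exact h2 s s.isLt

/-- The vector `∑ M_j τ^j e_{u_j}` of a chain. -/
def chainVec (τ : F) : ℕ → List (ℕ × ℤ) → D.Idx → F
  | _, [] => 0
  | j, (u, M) :: L => ((M : F) * τ ^ j) • evec D F u + chainVec τ (j + 1) L

theorem chainVec_inl (τ : F) (j : ℕ) (L : List (ℕ × ℤ)) (i : Fin D.rank) :
    chainVec D F τ j L (Sum.inl i) = 0 := by
  induction L generalizing j with
  | nil => rfl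
  | cons a L ih => simp [chainVec, ih, evec]

theorem chainVec_inr (τ : F) (j : ℕ) (L : List (ℕ × ℤ)) (u : Fin D.nroots) :
    chainVec D F τ (j + 1) L (Sum.inr u) =
      ((((L.zipIdx j).filter (fun q => q.1.1 = (u : ℕ))).map fun q => (q.2 + 1, q.1.2)).map
        fun km => ((km.2 : ℤ) : F) * τ ^ km.1).sum := by
  induction L generalizing j with
  | nil => simp [chainVec]
  | cons a L ih =>
    rw [List.zipIdx_cons, List.filter_cons]
    by_cases h : a.1 = (u : ℕ)
    · simp [chainVec, h, evec, ih (j + 1)]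
    · have h' : ¬ (u : ℕ) = a.1 := Ne.symm h
      simp [chainVec, h, h', evec, ih (j + 1)]

theorem chainVec_zero (j : ℕ) (L : List (ℕ × ℤ)) : chainVec D F 0 (j + 1) L = 0 := by
  induction L generalizing j with
  | nil => rfl
  | cons a L ih => simp [chainVec, ih (j + 1)]

end Vectors

namespace Cert

variable {D : ChevalleyDatum} (c : Cert D) {F : Type*} [Field F]

/-- The linear combination `h_s` of fundamental coroots. -/
def hroot (F : Type*) [Field F] (s : ℕ) : D.Idx → F :=
  Sum.elim (fun i => (c.T.coroot s i : F)) (fun _ => 0)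

include c

theorem hroot_eq_sum (s : ℕ) :
    c.hroot F s = ∑ i ∈ Finset.range D.rank, (c.T.coroot s i : F) • hvec D F i := by
  funext j
  rcases j with j | u
  · rw [Finset.sum_apply, Finset.sum_eq_single (j : ℕ)]
    · simp [hroot, hvec]
    · intro b _ hb; simp [hvec, Ne.symm hb]
    · simp
  · simp [hroot, hvec]

theorem x_eq (r : ℕ) (hr : r < D.nroots) (t : F) : D.x F r t = D.xMat F ⟨r, hr⟩ t :=
  dif_pos hr

theorem x_hvec {r i : ℕ} (hr : r < D.nroots) (hi : i < D.rank) (t : F) :
    D.x F r t *ᵥ hvec D F i = hvec D F i - ((D.cartan i r : F) * t) • evec D F r := by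
  rw [c.x_eq r hr, ← single_inl D F ⟨i, hi⟩, Matrix.mulVec_single_one, single_inl]
  funext j
  rcases j with j | u
  · simp [ChevalleyDatum.xMat, hvec, evec, Fin.ext_iff]
  · by_cases hu : (u : ℕ) = r
    · simp [ChevalleyDatum.xMat, hvec, evec, Fin.ext_iff, hu, ChevalleyDatum.cartan]
    · simp [ChevalleyDatum.xMat, hvec, evec, Fin.ext_iff, hu]

theorem x_evec_self {r : ℕ} (hr : r < D.nroots) (t : F) :
    D.x F r t *ᵥ evec D F r = evec D F r := by
  rw [c.x_eq r hr, ← single_inr D F ⟨r, hr⟩, Matrix.mulVec_single_one]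
  funext j
  rcases j with j | u <;> simp [ChevalleyDatum.xMat, Pi.single_apply]

theorem x_evec_neg {r : ℕ} (hr : r < D.nroots) (t : F) :
    D.x F r t *ᵥ evec D F (D.neg r) =
      evec D F (D.neg r) + t • c.hroot F r - t ^ 2 • evec D F r := by
  have hn := c.neg_lt hr
  have hne := c.neg_ne hr
  rw [c.x_eq r hr, ← single_inr D F ⟨D.neg r, hn⟩, Matrix.mulVec_single_one, single_inr]
  funext j
  have e : ((⟨D.neg r, hn⟩ : Fin D.nroots) : ℕ) = D.negIdx.getD r 0 := rfl
  rcases j with j | u
  · simp only [ChevalleyDatum.xMat, Matrix.col_apply, Matrix.of_apply, Fin.ext_iff,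
      if_neg hne, if_pos e, hroot, evec, Pi.add_apply, Pi.sub_apply, Pi.smul_apply,
      Sum.elim_inl, smul_eq_mul, c.coroot_eq hr j.isLt]
    ring
  · simp only [ChevalleyDatum.xMat, Matrix.col_apply, Matrix.of_apply, Fin.ext_iff,
      if_neg hne, if_pos e, hroot, evec, Pi.add_apply, Pi.sub_apply, Pi.smul_apply,
      Sum.elim_inr, smul_eq_mul]
    split_ifs <;> first
      | omega
      | ring1

theorem x_evec {r s : ℕ} (hr : r < D.nroots) (hs : s < D.nroots) (h1 : s ≠ r)
    (h2 : s ≠ D.neg r) (t : F) :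
    D.x F r t *ᵥ evec D F s = evec D F s + chainVec D F t 1 (c.T.entry r s) := by
  rw [c.x_eq r hr, ← single_inr D F ⟨s, hs⟩, Matrix.mulVec_single_one, single_inr]
  funext j
  have h2' : ¬ s = D.negIdx.getD r 0 := h2
  rcases j with j | u
  · simp only [ChevalleyDatum.xMat, Matrix.col_apply, Matrix.of_apply, Fin.ext_iff, if_neg h1,
      if_neg h2', evec, Pi.add_apply, Sum.elim_inl, chainVec_inl, add_zero]
  · rw [Pi.add_apply, chainVec_inr, ← c.chainCoeff_eq hr hs]
    simp only [ChevalleyDatum.xMat, Matrix.col_apply, Matrix.of_apply, Fin.ext_iff, if_neg h1,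
      if_neg h2', evec, Sum.elim_inr]

theorem x_zero {r : ℕ} (hr : r < D.nroots) : D.x F r (0 : F) = 1 := by
  refine mat_ext D F (fun i hi => ?_) (fun s hs => ?_)
  · simp [c.x_hvec hr hi]
  · by_cases h1 : s = r
    · subst h1; simp [c.x_evec_self hr]
    by_cases h2 : s = D.neg r
    · subst h2; simp [c.x_evec_neg hr]
    simp [c.x_evec hr hs h1 h2, chainVec_zero]

theorem x_eq_one_iff {r : ℕ} (hr : r < D.nroots) (t : F) : D.x F r t = 1 ↔ t = 0 := by
  refine ⟨fun h => ?_, fun h => h ▸ c.x_zero hr⟩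
  have h' := c.x_evec_neg hr t
  rw [h, Matrix.one_mulVec] at h'
  have hz : ∀ i < D.rank, t * (c.T.coroot r i : F) = 0 := by
    intro i hi
    have := congrFun h' (Sum.inl ⟨i, hi⟩)
    simpa [evec, hroot] using this.symm
  obtain ⟨i, hi, j, hj, hij⟩ := (c.linear_root hr).2.2.2.2.2.2
  obtain ⟨a, b, hab⟩ : ∃ a b : ℤ, a * c.T.coroot r i + b * c.T.coroot r j = 1 := by
    obtain ⟨a, b, hab⟩ := Int.isCoprime_iff_gcd_eq_one.2 hij
    exact ⟨a, b, hab⟩
  have e := congrArg (fun z : ℤ => t * (z : F)) hab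
  simp only [Int.cast_add, Int.cast_mul, Int.cast_one, mul_one] at e
  rw [← e, mul_add, mul_left_comm, hz i hi, mul_left_comm t, hz j hj]
  simp

/-! ### Matrices of column lists -/

theorem ev_hvec (t u v : F) {i : ℕ} (hi : i < D.rank) (p : ℕ → Term) (hp : (p i).row = i) :
    ev (enum D) t u v [p i] = (p i).val t u v • hvec D F i := by
  funext j
  rcases j with j | s
  · by_cases h : (j : ℕ) = i <;> simp [ev, enum, hvec, hp, h]
  · have : ¬ D.rank + (s : ℕ) = i := by omega
    simp [ev, enum, hvec, hp, this]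

theorem ev_single_inl (t u v : F) {i : ℕ} (hi : i < D.rank) (a b d : ℕ) (k : ℤ) :
    ev (enum D) t u v [⟨i, a, b, d, k⟩] = ((k : F) * (t ^ a * u ^ b * v ^ d)) • hvec D F i :=
  c.ev_hvec t u v hi (fun _ => ⟨i, a, b, d, k⟩) rfl

theorem ev_single_inr (t u v : F) (s : ℕ) (a b d : ℕ) (k : ℤ) :
    ev (enum D) t u v [⟨c.T.l + s, a, b, d, k⟩] =
      ((k : F) * (t ^ a * u ^ b * v ^ d)) • evec D F s := by
  funext j
  rw [← c.rank_eq]
  rcases j with j | w
  · have : ¬ (j : ℕ) = D.rank + s := by omega
    simp [ev, enum, evec, Term.val, this]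
  · by_cases h : (w : ℕ) = s <;> simp [ev, enum, evec, Term.val, h]

theorem ev_chainTerms (t u v : F) (a b d : ℕ) (k : ℤ) (j : ℕ) (L : List (ℕ × ℤ)) :
    ev (enum D) t u v (c.T.chainTerms a b d k j L) =
      chainVec D F ((k : F) * (t ^ a * u ^ b * v ^ d)) j L := by
  induction L generalizing j with
  | nil => simp [Tables.chainTerms, chainVec, ev_nil]
  | cons q L ih =>
    obtain ⟨w, M⟩ := q
    rw [Tables.chainTerms, chainVec, ← List.singleton_append, ev_append, ih, c.ev_single_inr]
    congr 2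
    push_cast
    ring

theorem ev_coroot (t u v : F) (r a b d : ℕ) (k : ℤ) :
    ev (enum D) t u v (((List.range c.T.l).filter fun i => !(c.T.coroot r i == 0)).map
        fun i => ⟨i, a, b, d, c.T.coroot r i * k⟩) =
      ((k : F) * (t ^ a * u ^ b * v ^ d)) • c.hroot F r := by
  have key : ∀ L : List ℕ, (∀ i ∈ L, i < D.rank) →
      ev (enum D) t u v ((L.filter fun i => !(c.T.coroot r i == 0)).map
        fun i => (⟨i, a, b, d, c.T.coroot r i * k⟩ : Term)) =
      ((k : F) * (t ^ a * u ^ b * v ^ d)) •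
        (L.map fun i => (c.T.coroot r i : F) • hvec D F i).sum := by
    intro L hL
    induction L with
    | nil => simp [ev_nil]
    | cons i L ih =>
      have ih := ih (fun j hj => hL j (List.mem_cons_of_mem _ hj))
      rw [List.filter_cons, List.map_cons, List.sum_cons, smul_add, ← ih]
      by_cases hz : c.T.coroot r i = 0
      · simp [hz]
      · rw [if_pos (by simpa using hz), List.map_cons, ← List.singleton_append, ev_append,
          c.ev_single_inl t u v (hL i (by simp)), smul_smul]
        congr 2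
        push_cast
        ring
  rw [key _ (fun i hi => by rw [List.mem_range] at hi; exact c.rank_eq.symm ▸ hi),
    c.hroot_eq_sum, ← List.sum_toFinset _ List.nodup_range, List.toFinset_range, c.rank_eq]

theorem xCol_out (r a b d : ℕ) (k : ℤ) :
    ∀ col, (∀ i, enum D i ≠ col) → c.T.xCol r a b d k col = [] := by
  intro col h
  have : Nat.blt col c.T.dim = false := by
    rw [Bool.eq_false_iff]
    intro hb
    rw [Nat.blt_eq, Tables.dim, ← c.rank_eq, ← c.nroots_eq] at hb
    by_cases hl : col < D.rank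
    · exact h (Sum.inl ⟨col, hl⟩) rfl
    · exact h (Sum.inr ⟨col - D.rank, by omega⟩) (by simp [enum]; omega)
  simp [Tables.xCol, this]

theorem evMat_single (t u v : F) (col : ℕ → List Term) (j : D.Idx) :
    evMat (enum D) t u v col *ᵥ Pi.single j 1 = ev (enum D) t u v (col (enum D j)) := by
  rw [Matrix.mulVec_single_one]; rfl

/-- Root elements are given by the column lists. -/
theorem x_eq_evMat (t u v : F) (r a b d : ℕ) (k : ℤ) (hr : r < D.nroots) :
    evMat (enum D) t u v (c.T.xCol r a b d k) =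
      D.x F r ((k : F) * (t ^ a * u ^ b * v ^ d)) := by
  refine mat_ext D F (fun i hi => ?_) (fun s hs => ?_)
  · rw [← single_inl D F ⟨i, hi⟩, c.evMat_single, single_inl]
    rw [c.x_hvec hr hi, c.cartan_eq hi hr]
    have h1 : Nat.blt i c.T.dim = true := by
      rw [Nat.blt_eq, Tables.dim, ← c.rank_eq]; omega
    have h2 : Nat.blt i c.T.l = true := by rw [Nat.blt_eq, ← c.rank_eq]; exact hi
    show ev _ t u v (c.T.xCol r a b d k i) = _
    simp only [Tables.xCol, h1, h2, cond_true]
    rw [← List.singleton_append, ev_append, c.ev_single_inl t u v hi]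
    by_cases hz : c.T.cartan i r = 0
    · simp [hz, ev_nil]
    · rw [beq_eq_false_iff_ne.2 hz, cond_false, c.ev_single_inr, sub_eq_add_neg, ← neg_smul]
      simp only [Int.cast_one, pow_zero, mul_one, one_smul]
      congr 2
      push_cast
      ring
  · rw [← single_inr D F ⟨s, hs⟩, c.evMat_single, single_inr]
    have h1 : Nat.blt (D.rank + s) c.T.dim = true := by
      rw [Nat.blt_eq, Tables.dim, ← c.rank_eq, ← c.nroots_eq]; omega
    have h2 : Nat.blt (D.rank + s) c.T.l = false := by
      rw [Bool.eq_false_iff]; intro h; rw [Nat.blt_eq, ← c.rank_eq] at h; omega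
    show ev _ t u v (c.T.xCol r a b d k (D.rank + s)) = _
    simp only [Tables.xCol, h1, h2, cond_true, cond_false]
    have e : D.rank + s - c.T.l = s := by rw [← c.rank_eq]; omega
    rw [e]
    by_cases hsr : s = r
    · subst hsr
      rw [beq_of_eq rfl, cond_true, c.x_evec_self hr, c.rank_eq, c.ev_single_inr]
      simp
    · have b1 : Nat.beq s r = false := by
        rw [Bool.eq_false_iff]; exact fun h => hsr (eq_of_beq' h)
      rw [b1, cond_false]
      by_cases hsn : s = D.neg r
      · rw [beq_of_eq (hsn.trans (c.neg_eq hr)), cond_true, hsn, c.x_evec_neg hr,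
          ← List.singleton_append, ev_append, ← List.singleton_append (x := (⟨c.T.l + r, _, _, _, _⟩ : Term)),
          ev_append, c.rank_eq, c.ev_single_inr, c.ev_single_inr, c.ev_coroot]
        simp only [Int.cast_one, pow_zero, mul_one, one_smul]
        rw [sub_eq_add_neg, ← neg_smul, add_assoc, add_comm (_ • c.hroot F r)]
        congr 3
        push_cast
        ring
      · have b2 : Nat.beq s (c.T.neg r) = false := by
          rw [Bool.eq_false_iff]; exact fun h => hsn ((eq_of_beq' h).trans (c.neg_eq hr).symm)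
        rw [b2, cond_false, c.x_evec hr hs hsr hsn, ← List.singleton_append, ev_append, c.rank_eq,
          c.ev_single_inr, c.ev_chainTerms]
        simp

/-! ### Fundamental reflections -/

omit c in
theorem wordMat_nWord (p : ℕ) (t : F) :
    D.nMat F p t = D.x F p t * (D.x F (D.neg p) (-t⁻¹) * D.x F p t) := by
  simp [ChevalleyDatum.nMat, ChevalleyDatum.wordMat, ChevalleyDatum.nWord]

theorem n_eq_evMat {p : ℕ} (hp : p < D.rank) :
    D.nMat F (D.simple p) 1 = evMat (enum D) (1 : F) 1 1 (c.T.nCol p) := by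
  have h := c.nmat
  simp only [checkN, Tables.allNodes, List.all_eq_true, List.mem_range] at h
  have hα := c.simple_lt hp
  refine Matrix.ext_of_mulVec_single fun j => ?_
  rw [c.evMat_single]
  have hj : enum D j < c.T.dim := by
    rw [Tables.dim, ← c.rank_eq, ← c.nroots_eq]; exact enum_lt D j
  have := ev_eq_of_same (enum D) (1 : F) 1 1 (h p (c.rank_eq ▸ hp) _ hj)
  rw [← this, ← prod_evMat_mulVec (enum D) _ _ _ (enum_injective D) _ (by
      intro col hcol
      simp only [List.mem_cons, List.not_mem_nil, or_false] at hcol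
      rcases hcol with rfl | rfl | rfl <;> exact c.xCol_out _ _ _ _ _),
    ev_unitVec (enum D) _ _ _ (enum_injective D) j, wordMat_nWord]
  simp only [List.map_cons, List.map_nil, List.prod_cons, List.prod_nil, mul_one]
  have hn : c.T.neg (c.T.simple p) = D.neg (D.simple p) := by
    rw [c.neg_eq hα, c.simple_eq hp]
  rw [c.x_eq_evMat _ _ _ _ _ _ _ _ (c.simple_eq hp ▸ hα), hn,
    c.x_eq_evMat _ _ _ _ _ _ _ _ (c.neg_lt hα), c.simple_eq hp]
  simp

theorem n_hvec {p i : ℕ} (hp : p < D.rank) (hi : i < D.rank) :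
    D.nMat F (D.simple p) 1 *ᵥ hvec D F i =
      hvec D F i - (D.cartan i (D.simple p) : F) • hvec D F p := by
  rw [c.n_eq_evMat hp, ← single_inl D F ⟨i, hi⟩, c.evMat_single, single_inl,
    c.cartan_eq hi (c.simple_lt hp), c.simple_eq hp]
  have h1 : Nat.blt i c.T.dim = true := by
    rw [Nat.blt_eq, Tables.dim, ← c.rank_eq]; omega
  have h2 : Nat.blt i c.T.l = true := by rw [Nat.blt_eq, ← c.rank_eq]; exact hi
  show ev _ 1 1 1 (c.T.nCol p i) = _
  simp only [Tables.nCol, h1, h2, cond_true]
  rw [← List.singleton_append, ev_append, c.ev_single_inl _ _ _ hi]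
  by_cases hz : c.T.cartan i (c.T.simple p) = 0
  · simp [hz, ev_nil]
  · rw [beq_eq_false_iff_ne.2 hz, cond_false, c.ev_single_inl _ _ _ hp]
    simp [sub_eq_add_neg]

theorem n_evec {p s : ℕ} (hp : p < D.rank) (hs : s < D.nroots) :
    D.nMat F (D.simple p) 1 *ᵥ evec D F s = (c.T.eta p s : F) • evec D F (c.w p s) := by
  rw [c.n_eq_evMat hp, ← single_inr D F ⟨s, hs⟩, c.evMat_single]
  have h1 : Nat.blt (D.rank + s) c.T.dim = true := by
    rw [Nat.blt_eq, Tables.dim, ← c.rank_eq, ← c.nroots_eq]; omega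
  have h2 : Nat.blt (D.rank + s) c.T.l = false := by
    rw [Bool.eq_false_iff]; intro h; rw [Nat.blt_eq, ← c.rank_eq] at h; omega
  show ev _ 1 1 1 (c.T.nCol p (D.rank + s)) = _
  simp only [Tables.nCol, h1, h2, cond_true, cond_false]
  rw [show D.rank + s - c.T.l = s by rw [← c.rank_eq]; omega, c.ev_single_inr]
  simp [Cert.w]

theorem n_hroot {p s : ℕ} (hp : p < D.rank) (hs : s < D.nroots) :
    D.nMat F (D.simple p) 1 *ᵥ c.hroot F s = c.hroot F (c.w p s) := by
  rw [c.hroot_eq_sum, c.hroot_eq_sum, Matrix.mulVec_sum]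
  have hpair : c.T.pairing s (D.simple p) =
      ∑ i ∈ Finset.range D.rank, c.T.coroot s i * D.cartan i (D.simple p) := by
    rw [Tables.pairing, ← List.sum_toFinset _ List.nodup_range, List.toFinset_range, c.rank_eq]
    refine Finset.sum_congr rfl fun i hi => ?_
    rw [Finset.mem_range, ← c.rank_eq] at hi
    rw [c.cartan_eq hi (c.simple_lt hp)]
  have e1 : ∀ i ∈ Finset.range D.rank,
      D.nMat F (D.simple p) 1 *ᵥ ((c.T.coroot s i : F) • hvec D F i) =
        (c.T.coroot s i : F) • hvec D F i -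
          ((c.T.coroot s i * D.cartan i (D.simple p) : ℤ) : F) • hvec D F p := by
    intro i hi
    rw [Matrix.mulVec_smul, c.n_hvec hp (Finset.mem_range.1 hi), smul_sub, smul_smul, Int.cast_mul]
  have e2 : ∀ i ∈ Finset.range D.rank, (c.T.coroot (c.w p s) i : F) • hvec D F i =
      (c.T.coroot s i : F) • hvec D F i -
        ((if i = p then c.T.pairing s (D.simple p) else 0 : ℤ) : F) • hvec D F i := by
    intro i hi
    rw [(c.refl_root hp hs).2.2.2.2.2.2.1 i (Finset.mem_range.1 hi), Int.cast_sub, sub_smul]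
  rw [Finset.sum_congr rfl e1, Finset.sum_congr rfl e2, Finset.sum_sub_distrib,
    Finset.sum_sub_distrib, ← Finset.sum_smul, ← Int.cast_sum, ← hpair]
  congr 1
  rw [Finset.sum_eq_single p]
  · simp
  · intro b _ hb; simp [hb]
  · simp [hp]

theorem eta_F_sq (p s : ℕ) : (c.T.eta p s : F) * (c.T.eta p s : F) = 1 := by
  rw [← Int.cast_mul, c.T.eta_sq]; simp

theorem eta_neg {p s : ℕ} (hp : p < D.rank) (hs : s < D.nroots) :
    c.T.eta p (D.neg s) = c.T.eta p s := by
  have h := (c.refl_root hp hs).2.2.2.2.1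
  rcases c.T.eta_cases p s with h1 | h1 <;> rw [h1] at h ⊢ <;> omega

theorem cartan_simple_self {p : ℕ} (hp : p < D.rank) : D.cartan p (D.simple p) = 2 := by
  have hα := c.simple_lt hp
  have hw := c.w_lt hp hα
  have hn := c.neg_lt hα
  have hne := c.neg_ne hα
  have hpos : 0 < c.T.code (D.simple p) := (c.code_pos_iff hα).2 (c.h_le_simple hp)
  have h := c.cartan_w hp hα hp
  have h2 := (c.refl_root hp hα).2.1
  have h3 := (c.refl_root hp hw).2.1
  rw [c.w_w hp hα, h2] at h3
  have e : D.cartan p (D.simple p) + D.cartan p (c.w p (D.simple p)) = 0 := by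
    have : (D.cartan p (D.simple p) + D.cartan p (c.w p (D.simple p))) *
        c.T.code (D.simple p) = 0 := by linarith
    exact (mul_eq_zero.1 this).resolve_right hpos.ne'
  rw [h] at e
  have e' : D.cartan p (D.simple p) * (2 - D.cartan p (D.simple p)) = 0 := by linarith
  rcases mul_eq_zero.1 e' with h5 | h5
  swap
  · omega
  exfalso
  have h8 := c.n_evec (F := ℚ) hp hα
  rw [c.code_w_fixed hp hα h5, wordMat_nWord, ← Matrix.mulVec_mulVec, ← Matrix.mulVec_mulVec,
    c.x_evec_self hα] at h8
  have h12 := c.x_evec_neg (F := ℚ) hn (-1⁻¹)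
  rw [c.neg_neg hα] at h12
  rw [h12, Matrix.mulVec_sub, Matrix.mulVec_add, c.x_evec_self hα, Matrix.mulVec_smul,
    Matrix.mulVec_smul, c.x_evec_neg hα] at h8
  have h13 := congrFun h8 (Sum.inr ⟨D.neg (D.simple p), hn⟩)
  have hr0 : (D.x ℚ (D.simple p) 1 *ᵥ c.hroot ℚ (D.neg (D.simple p)))
      (Sum.inr ⟨D.neg (D.simple p), hn⟩) = 0 := by
    rw [c.hroot_eq_sum, Matrix.mulVec_sum, Finset.sum_apply]
    refine Finset.sum_eq_zero fun i hi => ?_
    rw [Matrix.mulVec_smul, c.x_hvec hα (Finset.mem_range.1 hi)]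
    simp [hvec, evec, hne]
  simp [evec, hne, hr0, show c.hroot ℚ (D.simple p) (Sum.inr ⟨D.neg (D.simple p), hn⟩) = 0 from rfl] at h13

theorem w_simple {p : ℕ} (hp : p < D.rank) : c.w p (D.simple p) = D.neg (D.simple p) := by
  have hα := c.simple_lt hp
  refine c.code_inj (c.w_lt hp hα) (c.neg_lt hα) ?_
  rw [(c.linear_root hα).2.1, (c.refl_root hp hα).2.1, c.cartan_simple_self hp]
  ring

theorem n_mul_n_evec {p s : ℕ} (hp : p < D.rank) (hs : s < D.nroots) :
    (D.nMat F (D.simple p) 1 * D.nMat F (D.simple p) 1) *ᵥ evec D F s =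
      ((-1 : F) ^ (D.cartan p s).natAbs) • evec D F s := by
  rw [← Matrix.mulVec_mulVec, c.n_evec hp hs, Matrix.mulVec_smul, c.n_evec hp (c.w_lt hp hs),
    smul_smul, c.w_w hp hs, ← Int.cast_mul, (c.refl_root hp hs).2.2.2.2.2.1]
  simp

theorem n_mul_n_hvec {p i : ℕ} (hp : p < D.rank) (hi : i < D.rank) :
    (D.nMat F (D.simple p) 1 * D.nMat F (D.simple p) 1) *ᵥ hvec D F i = hvec D F i := by
  rw [← Matrix.mulVec_mulVec, c.n_hvec hp hi, Matrix.mulVec_sub, c.n_hvec hp hi,
    Matrix.mulVec_smul, c.n_hvec hp hp, c.cartan_simple_self hp]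
  push_cast
  module

theorem isUnit_n {p : ℕ} (hp : p < D.rank) : IsUnit (D.nMat F (D.simple p) 1) := by
  set N := D.nMat F (D.simple p) 1
  have h4 : (N * N) * (N * N) = 1 := by
    refine mat_ext D F (fun i hi => ?_) (fun s hs => ?_)
    · rw [← Matrix.mulVec_mulVec, c.n_mul_n_hvec hp hi, c.n_mul_n_hvec hp hi, Matrix.one_mulVec]
    · rw [← Matrix.mulVec_mulVec, c.n_mul_n_evec hp hs, Matrix.mulVec_smul,
        c.n_mul_n_evec hp hs, smul_smul, ← mul_pow, Matrix.one_mulVec]
      simp
  exact IsUnit.of_mul_eq_one (N * (N * N)) (by rw [← mul_assoc]; exact h4)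

theorem n_chainVec {p s x : ℕ} (hp : p < D.rank) (hs : s < D.nroots) (hx : x < D.nroots)
    (τ : F) (L : List (ℕ × ℤ)) (hL : ∀ q ∈ L, q.1 < D.nroots) (j : ℕ) :
    D.nMat F (D.simple p) 1 *ᵥ chainVec D F τ j L =
      (c.T.eta p x : F) • chainVec D F ((c.T.eta p s : F) * τ) j (moveEntry c.T p s x j L) := by
  induction L generalizing j with
  | nil => simp [chainVec, moveEntry]
  | cons q L ih =>
    obtain ⟨u, M⟩ := q
    rw [moveEntry, chainVec, chainVec, Matrix.mulVec_add, Matrix.mulVec_smul,
      c.n_evec hp (hL (u, M) (by simp)), ih (fun q hq => hL q (List.mem_cons_of_mem _ hq)) (j + 1),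
      smul_add, smul_smul, smul_smul]
    congr 2
    have hsp : ((signPow (c.T.eta p s) j : ℤ) : F) * (c.T.eta p s : F) ^ j = 1 := by
      have hj : (c.T.eta p s : F) ^ j = ((signPow (c.T.eta p s) j : ℤ) : F) := by
        unfold signPow
        have hm : Nat.land j 1 = j % 2 := Nat.and_one_is_mod j
        rcases Nat.mod_two_eq_zero_or_one j with hj | hj
        · rw [hm, hj]
          obtain ⟨k, rfl⟩ : Even j := Nat.even_iff.2 hj
          rw [← two_mul, pow_mul, pow_two, c.eta_F_sq]
          simp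
        · rw [hm, hj]
          obtain ⟨k, rfl⟩ : Odd j := Nat.odd_iff.2 hj
          rw [pow_succ, pow_mul, pow_two, c.eta_F_sq, show Nat.beq 1 0 = false from rfl]
          simp
      rw [hj]
      unfold signPow
      cases Nat.beq (Nat.land j 1) 0 <;> simp [c.eta_F_sq]
    have h2 := c.eta_F_sq (F := F) p x
    push_cast
    rw [mul_pow]
    linear_combination
      -((M : F) * τ ^ j * (c.T.eta p u : F)) *
        (((signPow (c.T.eta p s) j : ℤ) : F) * (c.T.eta p s : F) ^ j * h2 + hsp)

theorem entry_lt {r s : ℕ} (hr : r < D.nroots) (hs : s < D.nroots) :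
    ∀ q ∈ c.T.entry r s, q.1 < D.nroots := by
  intro q hq
  have hk := c.mem_keys_of_entry_ne hr hs (fun h => by rw [h] at hq; cases hq)
  obtain ⟨i, hi⟩ := List.getElem?_of_mem hq
  have : (q, i) ∈ (c.T.entry r s).zipIdx := List.mk_mem_zipIdx_iff_getElem?.2 hi
  exact ((c.grading_row hr hk).2.2.1 _ this).1

/-- Conjugation of root elements by a fundamental reflection. -/
theorem n_mul_x {p s : ℕ} (hp : p < D.rank) (hs : s < D.nroots) (t : F) :
    D.nMat F (D.simple p) 1 * D.x F s t =
      D.x F (c.w p s) ((c.T.eta p s : F) * t) * D.nMat F (D.simple p) 1 := by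
  have hw := c.w_lt hp hs
  refine mat_ext D F (fun i hi => ?_) (fun x hx => ?_)
  · rw [← Matrix.mulVec_mulVec, ← Matrix.mulVec_mulVec, c.x_hvec hs hi, c.n_hvec hp hi,
      Matrix.mulVec_sub, Matrix.mulVec_sub, Matrix.mulVec_smul, Matrix.mulVec_smul,
      c.n_hvec hp hi, c.n_evec hp hs, c.x_hvec hw hi, c.x_hvec hw hp, c.cartan_w hp hs hi,
      c.cartan_w hp hs hp, c.cartan_simple_self hp]
    push_cast
    module
  · rw [← Matrix.mulVec_mulVec, ← Matrix.mulVec_mulVec, c.n_evec hp hx, Matrix.mulVec_smul]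
    by_cases h1 : x = s
    · subst h1; rw [c.x_evec_self hx, c.n_evec hp hx, c.x_evec_self hw]
    by_cases h2 : x = D.neg s
    · subst h2
      rw [c.x_evec_neg hs, c.w_neg hp hs, c.x_evec_neg hw, c.eta_neg hp hs, Matrix.mulVec_sub,
        Matrix.mulVec_add, Matrix.mulVec_smul, Matrix.mulVec_smul, c.n_hroot hp hs,
        c.n_evec hp hs, c.n_evec hp (c.neg_lt hs), c.w_neg hp hs, c.eta_neg hp hs]
      have h := c.eta_F_sq (F := F) p s
      simp only [smul_add, smul_sub, smul_smul]
      congr 1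
      · congr 1
        rw [← mul_assoc, h, one_mul]
      · congr 1
        linear_combination -((c.T.eta p s : F) * t ^ 2) * h
    rw [c.x_evec hs hx h1 h2, c.x_evec hw (c.w_lt hp hx) (fun h => h1 (c.w_inj hp hx hs h))
      (fun h => h2 (c.w_inj hp hx (c.neg_lt hs) (h.trans (c.w_neg hp hs).symm))),
      Matrix.mulVec_add, c.n_evec hp hx,
      c.n_chainVec hp hs hx t _ (c.entry_lt hs hx) 1, c.entry_conj hp hs hx, smul_add]

theorem x_add_rep {r : ℕ} (hr : r ∈ c.T.reps) (t u : F) :
    D.x F r t * D.x F r u = D.x F r (t + u) := by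
  have hr' := c.rep_lt hr
  have h := c.add
  simp only [checkAdd, List.all_eq_true, List.mem_range] at h
  have hexp : ∀ L : List Term, ev (enum D) t u 1 (L.flatMap Tables.expand) =
      ev (enum D) (t + u) 1 1 L := by
    intro L
    induction L with
    | nil => rfl
    | cons q L ih =>
      rw [List.flatMap_cons, ev_append, ih, ev_cons]
      congr 1
      funext i
      simp only [ev, Tables.expand, List.map_map]
      by_cases hq : enum D i = q.row
      · simp only [Function.comp_def, hq, if_true]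
        simp only [Term.val]
        rw [add_pow, one_pow, mul_one, Finset.sum_mul, Finset.mul_sum,
          ← List.sum_toFinset _ List.nodup_range, List.toFinset_range]
        refine Finset.sum_congr rfl fun k _ => ?_
        push_cast
        ring
      · simp [Function.comp_def, hq]
  refine Matrix.ext_of_mulVec_single fun j => ?_
  have hj : enum D j < c.T.dim := by
    rw [Tables.dim, ← c.rank_eq, ← c.nroots_eq]; exact enum_lt D j
  have := ev_eq_of_same (enum D) t u 1 (h r hr _ hj)
  rw [hexp] at this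
  rw [← prod_evMat_mulVec (enum D) _ _ _ (enum_injective D) _ (by
      intro col hcol
      simp only [List.mem_cons, List.not_mem_nil, or_false] at hcol
      rcases hcol with rfl | rfl <;> exact c.xCol_out _ _ _ _ _),
    ev_unitVec (enum D) _ _ _ (enum_injective D) j, ← c.evMat_single (t + u) 1 1] at this
  simp only [List.map_cons, List.map_nil, List.prod_cons, List.prod_nil, mul_one] at this
  simpa [c.x_eq_evMat _ _ _ _ _ _ _ _ hr'] using this

/-- Additivity of root elements. -/
theorem x_add {r : ℕ} (hr : r < D.nroots) (t u : F) :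
    D.x F r t * D.x F r u = D.x F r (t + u) := by
  generalize hd : c.T.dep r = d
  induction d using Nat.strong_induction_on generalizing r t u with
  | _ d ih =>
    obtain ⟨hp, ⟨-, hrep⟩ | hdep⟩ := c.tree_root hr
    · exact c.x_add_rep hrep t u
    · refine (c.isUnit_n (F := F) hp).mul_left_cancel ?_
      rw [← mul_assoc, c.n_mul_x hp hr, mul_assoc, c.n_mul_x hp hr, ← mul_assoc,
        ih (c.T.dep (c.w (c.T.parP r) r)) (by omega) (c.w_lt hp hr) _ _ rfl, ← mul_add,
        ← c.n_mul_x hp hr]

theorem x_mul_x_neg {r : ℕ} (hr : r < D.nroots) (t : F) : D.x F r t * D.x F r (-t) = 1 := by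
  rw [c.x_add hr, add_neg_cancel, c.x_zero hr]

end Cert

end Cfsg.Agent.Lie.Chev
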