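import Cfsg.Agent.Lib.Lie.Chev.Check

/-! What a certified table says about its Chevalley datum. -/

set_option autoImplicit false

namespace Cfsg.Agent.Lie.Chev

open Cfsg.Lie

/-- A number with all balanced base-32 digits below 32 in absolute value is zero only trivially. -/
theorem digits_eq_zero : ∀ (l : ℕ) (z : ℕ → ℤ),
    ((List.range l).map fun j => z j * 32 ^ (l - 1 - j)).sum = 0 →
    (∀ j < l, |z j| < 32) → ∀ j < l, z j = 0 := by
  intro l
  induction l with
  | zero => intro z _ _ j hj; omega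
  | succ l ih =>
    intro z hz hb j hj
    rw [List.range_succ, List.map_append, List.sum_append] at hz
    have e : ((List.range l).map fun j => z j * 32 ^ (l + 1 - 1 - j)).sum =
        32 * ((List.range l).map fun j => z j * 32 ^ (l - 1 - j)).sum := by
      rw [← List.sum_map_mul_left]
      congr 1
      refine List.map_congr_left fun i hi => ?_
      rw [List.mem_range] at hi
      rw [show l + 1 - 1 - i = (l - 1 - i) + 1 by omega, pow_succ]
      ring
    rw [e] at hz
    simp only [List.map_cons, List.map_nil, List.sum_cons, List.sum_nil, add_zero,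
      Nat.add_sub_cancel, Nat.sub_self, pow_zero, mul_one] at hz
    have hl : z l = 0 := by
      have h1 := abs_lt.1 (hb l (by omega))
      omega
    rcases Nat.lt_succ_iff_lt_or_eq.1 hj with hjl | rfl
    · exact ih z (by omega) (fun i hi => hb i (by omega)) j hjl
    · exact hl

theorem eq_of_beq' {a b : ℕ} (h : Nat.beq a b = true) : a = b := by rwa [Nat.beq_eq] at h

theorem beq_of_eq {a b : ℕ} (h : a = b) : Nat.beq a b = true := by rwa [Nat.beq_eq]

theorem Tables.eta_cases (T : Tables) (p s : ℕ) : T.eta p s = 1 ∨ T.eta p s = -1 := by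
  unfold Tables.eta
  cases Nat.beq (field 1 (T.etaT.get s) p) 0 <;> simp

theorem Tables.eta_sq (T : Tables) (p s : ℕ) : T.eta p s * T.eta p s = 1 := by
  rcases T.eta_cases p s with h | h <;> simp [h]

theorem Tables.vec_bound (T : Tables) (s j : ℕ) : -8 ≤ T.vec s j ∧ T.vec s j ≤ 7 := by
  have h : field 4 (T.vecT.get s) j ≤ 15 := Nat.and_le_right
  have h2 : T.vec s j = (field 4 (T.vecT.get s) j : ℤ) - 8 := by
    rw [Tables.vec, Int.subNatNat_eq_coe]; norm_cast
  omega

theorem Tables.cartan_bound (T : Tables) (i s : ℕ) : -8 ≤ T.cartan i s ∧ T.cartan i s ≤ 7 := by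
  have h : field 4 (T.cartanT.get s) i ≤ 15 := Nat.and_le_right
  have h2 : T.cartan i s = (field 4 (T.cartanT.get s) i : ℤ) - 8 := by
    rw [Tables.cartan, Int.subNatNat_eq_coe]; norm_cast
  omega

theorem Tables.entry_of_noEntry (T : Tables) {r s : ℕ} (h : T.noEntry r s = true) :
    T.entry r s = [] := by
  unfold Tables.noEntry at h
  unfold Tables.entry
  rw [decodeEntry, h]
  rfl

theorem entryBeq_iff : ∀ {a b : List (ℕ × ℤ)}, entryBeq a b = true → a = b
  | [], [], _ => rfl
  | (a, x) :: L, (b, y) :: M, h => by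
    simp only [entryBeq, Bool.and_eq_true, Nat.beq_eq] at h
    obtain ⟨⟨rfl, hxy⟩, hLM⟩ := h
    rw [entryBeq_iff hLM]
    cases x <;> cases y <;> simp_all [intBeq]
  | [], _ :: _, h => by simp [entryBeq] at h
  | _ :: _, [], h => by simp [entryBeq] at h

namespace Cert

variable {D : ChevalleyDatum} (c : Cert D)
include c

theorem rank_eq : D.rank = c.T.l := by
  have h := c.shape
  simp only [checkShape, Bool.and_eq_true, Nat.beq_eq] at h
  exact h.1.1.1.1.1

theorem nroots_eq : D.nroots = c.T.n := by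
  have h := c.shape
  simp only [checkShape, Bool.and_eq_true, Nat.beq_eq] at h
  exact h.1.1.1.1.2

theorem one_le_h : 1 ≤ c.T.h := by
  have h := c.shape
  simp only [checkShape, Bool.and_eq_true, Nat.beq_eq, Nat.ble_eq] at h
  exact h.1.1.2

theorem one_le_rank : 1 ≤ D.rank := by
  have h := c.shape
  simp only [checkShape, Bool.and_eq_true, Nat.beq_eq, Nat.ble_eq] at h
  exact h.1.1.1.1.1 ▸ h.1.1.1.2

theorem nroots_eq_two_mul : D.nroots = 2 * c.T.h := c.nroots_eq

theorem rep_lt {r : ℕ} (hr : r ∈ c.T.reps) : r < D.nroots := by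
  have h := c.shape
  simp only [checkShape, Bool.and_eq_true, Nat.blt_eq, List.all_eq_true] at h
  exact c.nroots_eq ▸ h.2 r hr

theorem neg_eq {r : ℕ} (hr : r < D.nroots) : D.neg r = c.T.neg r := by
  have h := c.idx
  simp only [checkIdx, Tables.allRoots, Tables.allNodes, Bool.and_eq_true, List.all_eq_true,
    List.mem_range, Nat.beq_eq] at h
  exact h.1 r (c.nroots_eq ▸ hr)

theorem neg_lt {r : ℕ} (hr : r < D.nroots) : D.neg r < D.nroots := by
  rw [c.neg_eq hr, c.nroots_eq]; unfold Tables.neg; have := c.nroots_eq; omega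

theorem neg_neg {r : ℕ} (hr : r < D.nroots) : D.neg (D.neg r) = r := by
  rw [c.neg_eq (c.neg_lt hr), c.neg_eq hr]
  have := c.nroots_eq
  unfold Tables.neg; omega

theorem neg_ne {r : ℕ} (hr : r < D.nroots) : D.neg r ≠ r := by
  rw [c.neg_eq hr]
  have := c.nroots_eq_two_mul
  unfold Tables.neg Tables.n; omega

theorem neg_inj {r s : ℕ} (hr : r < D.nroots) (hs : s < D.nroots) (h : D.neg r = D.neg s) :
    r = s := by
  rw [← c.neg_neg hr, h, c.neg_neg hs]

theorem simple_eq {i : ℕ} (hi : i < D.rank) : D.simple i = c.T.simple i := by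
  have h := c.idx
  simp only [checkIdx, Tables.allRoots, Tables.allNodes, Bool.and_eq_true, List.all_eq_true,
    List.mem_range, Nat.beq_eq, Nat.blt_eq, Nat.ble_eq] at h
  exact (h.2 i (c.rank_eq ▸ hi)).1.1

theorem simple_lt {i : ℕ} (hi : i < D.rank) : D.simple i < D.nroots := by
  have h := c.idx
  simp only [checkIdx, Tables.allRoots, Tables.allNodes, Bool.and_eq_true, List.all_eq_true,
    List.mem_range, Nat.beq_eq, Nat.blt_eq, Nat.ble_eq] at h
  rw [c.simple_eq hi, c.nroots_eq]
  exact (h.2 i (c.rank_eq ▸ hi)).1.2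

theorem h_le_simple {i : ℕ} (hi : i < D.rank) : c.T.h ≤ D.simple i := by
  have h := c.idx
  simp only [checkIdx, Tables.allRoots, Tables.allNodes, Bool.and_eq_true, List.all_eq_true,
    List.mem_range, Nat.beq_eq, Nat.blt_eq, Nat.ble_eq] at h
  rw [c.simple_eq hi]
  exact (h.2 i (c.rank_eq ▸ hi)).2

theorem coroot_toList {r : ℕ} (hr : r < D.nroots) :
    (D.coroot.getD r #[]).toList = (List.range c.T.l).map fun i => c.T.coroot r i := by
  have h := c.matrices
  simp only [checkMatrices, Tables.allRoots, Tables.allNodes, Bool.and_eq_true, List.all_eq_true,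
    List.mem_range, beq_iff_eq] at h
  exact h.1 r (c.nroots_eq ▸ hr)

theorem coroot_eq {r i : ℕ} (hr : r < D.nroots) (hi : i < D.rank) :
    (D.coroot.getD r #[]).getD i 0 = c.T.coroot r i := by
  have hi' : i < c.T.l := c.rank_eq ▸ hi
  rw [Array.getD_eq_getD_getElem?, ← Array.getElem?_toList, c.coroot_toList hr,
    List.getElem?_map, List.getElem?_range hi']
  rfl

theorem cartan_eq {i s : ℕ} (hi : i < D.rank) (hs : s < D.nroots) :
    D.cartan i s = c.T.cartan i s := by
  have h := c.matrices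
  simp only [checkMatrices, Tables.allRoots, Tables.allNodes, Bool.and_eq_true, List.all_eq_true,
    List.mem_range, beq_iff_eq] at h
  have h2 := h.2 i (c.rank_eq ▸ hi)
  have hs' : s < c.T.n := c.nroots_eq ▸ hs
  rw [ChevalleyDatum.cartan, Array.getD_eq_getD_getElem?, ← Array.getElem?_toList, h2,
    List.getElem?_map, List.getElem?_range hs']
  rfl

/-! ### The chain table -/

theorem chain_row {r : ℕ} (hr : r < D.nroots) :
    ((List.range c.T.n).filterMap fun s => bif c.T.noEntry r s then none else some (s, c.T.entry r s)) =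
      (D.chain.getD r #[]).toList.map fun e => (e.1, e.2.toList) := by
  have h := c.chain
  simp only [checkChain, Tables.allRoots, List.all_eq_true, List.mem_range, beq_iff_eq] at h
  exact h r (c.nroots_eq ▸ hr)

theorem keys_eq {r : ℕ} (hr : r < D.nroots) :
    keys D r = (List.range c.T.n).filter fun s => !c.T.noEntry r s := by
  have h := congrArg (List.map Prod.fst) (c.chain_row hr)
  rw [List.map_map, List.map_filterMap] at h
  unfold keys
  refine h.symm.trans ?_
  rw [← List.filterMap_eq_filter]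
  congr 1
  funext s
  cases hs : c.T.noEntry r s <;> simp [Option.guard, hs]

theorem keys_nodup {r : ℕ} (hr : r < D.nroots) : (keys D r).Nodup := by
  rw [c.keys_eq hr]; exact List.nodup_range.filter _

theorem mem_keys {r s : ℕ} (hr : r < D.nroots) :
    s ∈ keys D r ↔ s < D.nroots ∧ c.T.noEntry r s = false := by
  rw [c.keys_eq hr, List.mem_filter, List.mem_range, c.nroots_eq]; simp

theorem row_entry {r : ℕ} (hr : r < D.nroots) {e : ℕ × Array (ℕ × ℤ)}
    (he : e ∈ (D.chain.getD r #[]).toList) :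
    e.1 < D.nroots ∧ c.T.noEntry r e.1 = false ∧ e.2.toList = c.T.entry r e.1 := by
  have h : (e.1, e.2.toList) ∈
      (D.chain.getD r #[]).toList.map fun e => (e.1, e.2.toList) := List.mem_map.2 ⟨e, he, rfl⟩
  rw [← c.chain_row hr, List.mem_filterMap] at h
  obtain ⟨s, hs, h⟩ := h
  rw [List.mem_range, ← c.nroots_eq] at hs
  cases hn : c.T.noEntry r s with
  | true => simp [hn] at h
  | false =>
    simp only [hn, cond_false, Option.some.injEq, Prod.mk.injEq] at h
    obtain ⟨rfl, h⟩ := h
    exact ⟨hs, hn, h.symm⟩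

theorem mem_keys_of_entry_ne {r s : ℕ} (hr : r < D.nroots) (hs : s < D.nroots)
    (h : c.T.entry r s ≠ []) : s ∈ keys D r := by
  refine (c.mem_keys hr).2 ⟨hs, ?_⟩
  by_contra hn
  rw [Bool.not_eq_false] at hn
  exact h (c.T.entry_of_noEntry hn)

theorem filter_row {r s : ℕ} (hr : r < D.nroots) (hs : s < D.nroots) :
    ((D.chain.getD r #[]).toList.filter fun e => e.1 = s).flatMap (fun e => [e.2.toList]) =
      bif c.T.noEntry r s then [] else [c.T.entry r s] := by
  set L := (D.chain.getD r #[]).toList with hL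
  have hnd : (L.map Prod.fst).Nodup := c.keys_nodup hr
  cases hn : c.T.noEntry r s with
  | true =>
    rw [List.filter_eq_nil_iff.2]
    · rfl
    · intro e he h
      obtain ⟨-, h2, -⟩ := c.row_entry hr he
      rw [of_decide_eq_true h, hn] at h2
      cases h2
  | false =>
    have hm : s ∈ L.map Prod.fst := (c.mem_keys hr).2 ⟨hs, hn⟩
    obtain ⟨e, he, hes⟩ := List.mem_map.1 hm
    have hf : L.filter (fun e' => decide (e'.1 = s)) = [e] := by
      subst hes
      clear_value L
      clear hL hm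
      induction L with
      | nil => cases he
      | cons a L ih =>
        rw [List.map_cons, List.nodup_cons] at hnd
        rw [List.filter_cons]
        rcases List.mem_cons.1 he with rfl | he'
        · simp only [decide_true, if_true, List.cons.injEq, true_and, List.filter_eq_nil_iff,
            decide_eq_true_eq]
          exact fun x hx hxe => hnd.1 (List.mem_map.2 ⟨x, hx, hxe⟩)
        · have : a.1 ≠ e.1 := fun hae => hnd.1 (List.mem_map.2 ⟨e, he', hae.symm⟩)
          simp only [this, decide_false, Bool.false_eq_true, if_false]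
          exact ih hnd.2 he'
    rw [hf]
    simp [(c.row_entry hr he).2.2, hes]

theorem chainEntry_eq {r s : ℕ} (hr : r < D.nroots) (hs : s < D.nroots) :
    D.chainEntry r s = c.T.entry r s := by
  unfold ChevalleyDatum.chainEntry
  cases hf : (D.chain.getD r #[]).toList.find? (fun e => e.1 = s) with
  | none =>
    rw [List.find?_eq_none] at hf
    by_contra h
    obtain ⟨e, he, hes⟩ := List.mem_map.1 (c.mem_keys_of_entry_ne hr hs (Ne.symm h))
    exact hf e he (by simp [hes])
  | some e =>
    obtain ⟨-, -, h3⟩ := c.row_entry hr (List.mem_of_find?_eq_some hf)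
    have h4 := List.find?_some hf
    simp only [decide_eq_true_eq] at h4
    simp [h3, h4]

theorem chainCoeff_eq {r s : ℕ} (hr : r < D.nroots) (hs : s < D.nroots) (u : ℕ) :
    D.chainCoeff r s u =
      (((c.T.entry r s).zipIdx).filter (fun q => q.1.1 = u)).map fun q => (q.2 + 1, q.1.2) := by
  unfold ChevalleyDatum.chainCoeff
  have h := congrArg (List.flatMap fun L : List (ℕ × ℤ) =>
    ((L.zipIdx).filter (fun q => q.1.1 = u)).map fun q => (q.2 + 1, q.1.2)) (c.filter_row hr hs)
  rw [List.flatMap_assoc] at h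
  simp only [List.flatMap_cons, List.flatMap_nil, List.append_nil] at h
  rw [h]
  cases hn : c.T.noEntry r s with
  | true => simp [c.T.entry_of_noEntry hn]
  | false => simp

theorem chainRoot_eq {r s : ℕ} (hr : r < D.nroots) (hs : s < D.nroots) (i : ℕ) :
    D.chainRoot r s i = c.T.chainRoot r s i := by
  rw [ChevalleyDatum.chainRoot, Tables.chainRoot, c.chainEntry_eq hr hs]

theorem chainM_eq {r s : ℕ} (hr : r < D.nroots) (hs : s < D.nroots) (i : ℕ) :
    D.chainM r s i = c.T.chainM r s i := by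
  rw [ChevalleyDatum.chainM, Tables.chainM, c.chainEntry_eq hr hs]

theorem grading_row {r s : ℕ} (hr : r < D.nroots) (hs : s ∈ keys D r) :
    s ≠ r ∧ s ≠ D.neg r ∧
    (∀ q ∈ (c.T.entry r s).zipIdx,
      q.1.1 < D.nroots ∧ c.T.code q.1.1 = c.T.code s + (q.2 + 1 : ℕ) * c.T.code r) ∧
    (match c.T.entry r s with
      | [] => False
      | [_] => True
      | [a, b] => c.T.chainRoot r a.1 1 = some b.1
      | [a, b, d] => c.T.chainRoot r a.1 1 = some b.1 ∧ c.T.chainRoot r b.1 1 = some d.1
      | _ => False) ∧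
    (∀ a b d, c.T.entry r s = [a, b, d] → (3 : ℤ) ∣ c.T.chainM a.1 r 2) ∧
    (∀ a b d, c.T.entry s r = [a, b, d] →
      (3 : ℤ) ∣ c.T.chainM ((c.T.chainRoot r s 1).getD 0) s 2) := by
  have h := c.grading
  simp only [checkGrading, Tables.allRoots, List.all_eq_true, List.mem_range] at h
  obtain ⟨e, he, hes⟩ := List.mem_map.1 hs
  have hg := h r (c.nroots_eq ▸ hr) e he
  rw [hes] at hg
  simp only [Bool.and_eq_true, Bool.not_eq_true', Nat.blt_eq, List.all_eq_true,
    beq_iff_eq] at hg
  obtain ⟨⟨⟨⟨⟨⟨h1, h2⟩, -⟩, h4⟩, h5⟩, h6⟩, h7⟩ := hg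
  refine ⟨fun hh => ?_, fun hh => ?_, fun q hq => ?_, ?_, ?_, ?_⟩
  · rw [beq_of_eq hh] at h1; cases h1
  · rw [c.neg_eq hr] at hh; rw [beq_of_eq hh] at h2; cases h2
  · exact ⟨c.nroots_eq ▸ (h4 q hq).1, (h4 q hq).2⟩
  · revert h5
    split <;> simp_all
  · intro a b d hL; rw [hL] at h6; exact of_decide_eq_true h6
  · intro a b d hL; rw [hL] at h7; exact of_decide_eq_true h7

/-! ### Linear data -/

theorem linear_root {s : ℕ} (hs : s < D.nroots) :
    c.T.code s = ((List.range c.T.l).map fun j => c.T.vec s j * c.T.weight j).sum ∧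
    c.T.code (D.neg s) = - c.T.code s ∧
    (s + 1 < D.nroots → c.T.code s < c.T.code (s + 1)) ∧
    (∀ i < D.rank, c.T.cartan i s =
      ((List.range c.T.l).map fun j => c.T.vec s j * c.T.cartan i (c.T.simple j)).sum) ∧
    (D.IsPosRoot s ↔ c.T.h ≤ s) ∧ (D.IsNegRoot s ↔ s < c.T.h) ∧
    (∃ i < D.rank, ∃ j < D.rank,
      Nat.gcd (c.T.coroot s i).natAbs (c.T.coroot s j).natAbs = 1) := by
  have h := c.linear
  simp only [checkLinear, Tables.allRoots, Tables.allNodes, Bool.and_eq_true, List.all_eq_true,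
    List.any_eq_true, List.mem_range, beq_iff_eq, Bool.or_eq_true, Nat.ble_eq, Nat.beq_eq,
    decide_eq_true_eq] at h
  have hs' : s < c.T.n := c.nroots_eq ▸ hs
  obtain ⟨⟨⟨⟨⟨⟨h1, h2⟩, h3⟩, h4⟩, h5⟩, h6⟩, h7⟩ := h.1 s hs'
  refine ⟨h1, c.neg_eq hs ▸ h2, fun hlt => h3.resolve_left ?_, fun i hi => h4 i (c.rank_eq ▸ hi),
    ?_, ?_, ?_⟩
  · rw [← c.nroots_eq]; omega
  · rw [← Nat.ble_eq, ← h5]; simp
  · rw [← Nat.blt_eq, ← h6]; simp
  · obtain ⟨i, hi, j, hj, hij⟩ := h7
    exact ⟨i, c.rank_eq.symm ▸ hi, j, c.rank_eq.symm ▸ hj, hij⟩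

theorem linear_node {i : ℕ} (hi : i < D.rank) :
    c.T.code (D.simple i) = c.T.weight i ∧
      ∀ j < D.rank, c.T.coroot (D.simple i) j = if i = j then 1 else 0 := by
  have h := c.linear
  simp only [checkLinear, Tables.allRoots, Tables.allNodes, Bool.and_eq_true, List.all_eq_true,
    List.mem_range, beq_iff_eq] at h
  rw [c.simple_eq hi]
  refine ⟨(h.2 i (c.rank_eq ▸ hi)).1, fun j hj => ?_⟩
  rw [(h.2 i (c.rank_eq ▸ hi)).2 j (c.rank_eq ▸ hj)]
  by_cases hij : i = j
  · simp [hij]
  · have : Nat.beq i j = false := by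
      rw [Bool.eq_false_iff]; exact fun e => hij (eq_of_beq' e)
    simp [this, hij]

theorem code_lt {r s : ℕ} (hrs : r < s) (hs : s < D.nroots) : c.T.code r < c.T.code s := by
  induction s with
  | zero => omega
  | succ s ih =>
    have h := (c.linear_root (show s < D.nroots by omega)).2.2.1 hs
    rcases Nat.lt_succ_iff_lt_or_eq.1 hrs with h1 | rfl
    · exact (ih h1 (by omega)).trans h
    · exact h

theorem code_inj {r s : ℕ} (hr : r < D.nroots) (hs : s < D.nroots)
    (h : c.T.code r = c.T.code s) : r = s := by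
  rcases lt_trichotomy r s with h1 | h1 | h1
  · exact absurd h (c.code_lt h1 hs).ne
  · exact h1
  · exact absurd h.symm (c.code_lt h1 hr).ne

theorem code_le_iff {r s : ℕ} (hr : r < D.nroots) (hs : s < D.nroots) :
    c.T.code r ≤ c.T.code s ↔ r ≤ s := by
  constructor
  · intro h
    by_contra h1
    exact absurd h (not_le.2 (c.code_lt (by omega) hr))
  · intro h
    rcases h.lt_or_eq with h1 | rfl
    · exact (c.code_lt h1 hs).le
    · rfl

theorem isPosRoot_iff {s : ℕ} : D.IsPosRoot s ↔ c.T.h ≤ s ∧ s < D.nroots := by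
  constructor
  · intro h; exact ⟨(c.linear_root h.1).2.2.2.2.1.1 h, h.1⟩
  · intro h; exact (c.linear_root h.2).2.2.2.2.1.2 h.1

theorem isNegRoot_iff {s : ℕ} : D.IsNegRoot s ↔ s < c.T.h := by
  have := c.nroots_eq_two_mul
  constructor
  · intro h; exact (c.linear_root h.1).2.2.2.2.2.1.1 h
  · intro h; exact (c.linear_root (show s < D.nroots by omega)).2.2.2.2.2.1.2 h

theorem code_pos_iff {s : ℕ} (hs : s < D.nroots) : 0 < c.T.code s ↔ c.T.h ≤ s := by
  have hn := c.nroots_eq_two_mul
  have hneg := (c.linear_root hs).2.1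
  have e : D.neg s = 2 * c.T.h - 1 - s := c.neg_eq hs
  constructor
  · intro h
    by_contra h1
    have := c.code_lt (show s < D.neg s by omega) (c.neg_lt hs)
    omega
  · intro h
    have := c.code_lt (show D.neg s < s by omega) hs
    omega

theorem weight_sum_single {i : ℕ} (hi : i < c.T.l) :
    ((List.range c.T.l).map fun j => (if j = i then (1 : ℤ) else 0) * c.T.weight j).sum =
      c.T.weight i := by
  rw [← List.sum_toFinset _ List.nodup_range]
  rw [Finset.sum_eq_single i] <;> simp_all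

theorem vec_simple {i : ℕ} (hi : i < D.rank) {j : ℕ} (hj : j < D.rank) :
    c.T.vec (D.simple i) j = if j = i then 1 else 0 := by
  have h1 := (c.linear_root (c.simple_lt hi)).1
  rw [(c.linear_node hi).1] at h1
  have hl : i < c.T.l := c.rank_eq ▸ hi
  have h0 : ((List.range c.T.l).map fun k =>
      (c.T.vec (D.simple i) k - if k = i then 1 else 0) * 32 ^ (c.T.l - 1 - k)).sum = 0 := by
    simp only [sub_mul]
    rw [← List.sum_toFinset _ List.nodup_range, Finset.sum_sub_distrib,
      List.sum_toFinset _ List.nodup_range, List.sum_toFinset _ List.nodup_range]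
    exact sub_eq_zero.2 (h1.symm.trans (c.weight_sum_single hl).symm)
  have := digits_eq_zero c.T.l _ h0 (fun k _ => by
    have := c.T.vec_bound (D.simple i) k
    rw [abs_lt]; split_ifs <;> omega) j (c.rank_eq ▸ hj)
  omega

/-- A relation `code u = code a + k * code b` is a linear relation of roots. -/
theorem vec_of_code {u a b : ℕ} {k : ℤ} (hu : u < D.nroots) (ha : a < D.nroots)
    (hb : b < D.nroots) (h : c.T.code u = c.T.code a + k * c.T.code b)
    (hk : ∀ j < D.rank, |c.T.vec u j - c.T.vec a j - k * c.T.vec b j| < 32) :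
    ∀ j < D.rank, c.T.vec u j = c.T.vec a j + k * c.T.vec b j := by
  intro j hj
  rw [(c.linear_root hu).1, (c.linear_root ha).1, (c.linear_root hb).1] at h
  have h0 : ((List.range c.T.l).map fun i =>
      (c.T.vec u i - c.T.vec a i - k * c.T.vec b i) * 32 ^ (c.T.l - 1 - i)).sum = 0 := by
    simp only [← List.sum_toFinset _ List.nodup_range, Tables.weight, Finset.mul_sum] at h ⊢
    simp only [sub_mul, Finset.sum_sub_distrib, mul_assoc]
    linarith
  have := digits_eq_zero c.T.l _ h0 (fun i hi => hk i (c.rank_eq.symm ▸ hi)) j (c.rank_eq ▸ hj)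
  omega

/-- Cartan integers follow linear relations of roots. -/
theorem cartan_of_vec {u a b : ℕ} {k : ℤ} (hu : u < D.nroots) (ha : a < D.nroots)
    (hb : b < D.nroots) (hv : ∀ j < D.rank, c.T.vec u j = c.T.vec a j + k * c.T.vec b j)
    {i : ℕ} (hi : i < D.rank) :
    c.T.cartan i u = c.T.cartan i a + k * c.T.cartan i b := by
  rw [(c.linear_root hu).2.2.2.1 i hi, (c.linear_root ha).2.2.2.1 i hi,
    (c.linear_root hb).2.2.2.1 i hi]
  simp only [← List.sum_toFinset _ List.nodup_range, Finset.mul_sum, ← Finset.sum_add_distrib]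
  refine Finset.sum_congr rfl fun j hj => ?_
  rw [List.mem_toFinset, List.mem_range, ← c.rank_eq] at hj
  rw [hv j hj]; ring

theorem cartan_add {u a b : ℕ} (hu : u < D.nroots) (ha : a < D.nroots) (hb : b < D.nroots)
    (h : c.T.code u = c.T.code a + c.T.code b) {i : ℕ} (hi : i < D.rank) :
    c.T.cartan i u = c.T.cartan i a + c.T.cartan i b := by
  have := c.cartan_of_vec hu ha hb (c.vec_of_code (k := 1) hu ha hb (by omega) (fun j _ => by
    have := c.T.vec_bound u j
    have := c.T.vec_bound a j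
    have := c.T.vec_bound b j
    rw [abs_lt]; omega)) hi
  omega

/-! ### Simple reflections -/

/-- The image of a root under a simple reflection. -/
def w (p s : ℕ) : ℕ := c.T.refl p s

theorem refl_root {p s : ℕ} (hp : p < D.rank) (hs : s < D.nroots) :
    c.w p s < D.nroots ∧
    c.T.code (c.w p s) = c.T.code s - D.cartan p s * c.T.code (D.simple p) ∧
    c.w p (c.w p s) = s ∧ c.w p (D.neg s) = D.neg (c.w p s) ∧
    c.T.eta p s * c.T.eta p (D.neg s) = 1 ∧
    c.T.eta p s * c.T.eta p (c.w p s) = (-1) ^ (D.cartan p s).natAbs ∧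
    (∀ i < D.rank, c.T.coroot (c.w p s) i =
      c.T.coroot s i - if i = p then c.T.pairing s (D.simple p) else 0) ∧
    (s = D.simple p → c.T.eta p s = -1) := by
  have h := c.refl
  simp only [checkRefl, Tables.allRoots, Tables.allNodes, Bool.and_eq_true, List.all_eq_true,
    List.mem_range, beq_iff_eq, Bool.or_eq_true, Nat.beq_eq, Nat.blt_eq, Bool.not_eq_true'] at h
  obtain ⟨⟨⟨⟨⟨⟨⟨h1, h2⟩, h3⟩, h4⟩, h5⟩, h6⟩, h7⟩, h8⟩ :=
    h p (c.rank_eq ▸ hp) s (c.nroots_eq ▸ hs)
  have hw : c.w p s < D.nroots := c.nroots_eq.symm ▸ h1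
  rw [c.cartan_eq hp hs, c.simple_eq hp, c.neg_eq hs, c.neg_eq hw]
  refine ⟨hw, h2, h3, h4, h5, h6, fun i hi => ?_, fun hsp => h8.resolve_left ?_⟩
  · have := h7 i (c.rank_eq ▸ hi)
    rw [show c.T.coroot (c.w p s) i = _ from this]
    by_cases hip : i = p
    · simp [hip]
    · have : Nat.beq i p = false := by
        rw [Bool.eq_false_iff]; exact fun e => hip (eq_of_beq' e)
      simp [this, hip]
  · rw [hsp]; simp

theorem w_lt {p s : ℕ} (hp : p < D.rank) (hs : s < D.nroots) : c.w p s < D.nroots :=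
  (c.refl_root hp hs).1

theorem w_w {p s : ℕ} (hp : p < D.rank) (hs : s < D.nroots) : c.w p (c.w p s) = s :=
  (c.refl_root hp hs).2.2.1

theorem w_neg {p s : ℕ} (hp : p < D.rank) (hs : s < D.nroots) :
    c.w p (D.neg s) = D.neg (c.w p s) := (c.refl_root hp hs).2.2.2.1

theorem w_inj {p r s : ℕ} (hp : p < D.rank) (hr : r < D.nroots) (hs : s < D.nroots)
    (h : c.w p r = c.w p s) : r = s := by rw [← c.w_w hp hr, h, c.w_w hp hs]

theorem cartan_w {p s i : ℕ} (hp : p < D.rank) (hs : s < D.nroots) (hi : i < D.rank) :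
    D.cartan i (c.w p s) = D.cartan i s - D.cartan p s * D.cartan i (D.simple p) := by
  have hw := c.w_lt hp hs
  have hα := c.simple_lt hp
  rw [c.cartan_eq hi hw, c.cartan_eq hi hs, c.cartan_eq hi hα]
  have h2 := (c.refl_root hp hs).2.1
  rw [c.cartan_eq hp hs] at h2 ⊢
  have := c.cartan_of_vec hw hs hα (c.vec_of_code (k := -c.T.cartan p s) hw hs hα
    (by rw [h2]; ring) (fun j hj => by
      have := c.T.vec_bound (c.w p s) j
      have := c.T.vec_bound s j
      have := c.T.cartan_bound p s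
      rw [c.vec_simple hp hj, abs_lt]
      split_ifs <;> omega)) hi
  rw [this]; ring

theorem code_w_fixed {p s : ℕ} (hp : p < D.rank) (hs : s < D.nroots) (h : D.cartan p s = 0) :
    c.w p s = s := by
  refine c.code_inj (c.w_lt hp hs) hs ?_
  rw [(c.refl_root hp hs).2.1, h]; simp

theorem tree_root {r : ℕ} (hr : r < D.nroots) :
    c.T.parP r < D.rank ∧
      ((c.T.dep r = 0 ∧ r ∈ c.T.reps) ∨ c.T.dep (c.w (c.T.parP r) r) + 1 = c.T.dep r) := by
  have h := c.tree
  simp only [checkTree, Tables.allRoots, List.all_eq_true, List.mem_range, Bool.and_eq_true,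
    Nat.blt_eq] at h
  obtain ⟨h1, h2⟩ := h r (c.nroots_eq ▸ hr)
  refine ⟨c.rank_eq.symm ▸ h1, ?_⟩
  cases hd : Nat.beq (c.T.dep r) 0 with
  | true =>
    simp only [hd, cond_true, List.any_eq_true, Nat.beq_eq] at h2
    obtain ⟨a, ha, rfl⟩ := h2
    exact Or.inl ⟨eq_of_beq' hd, ha⟩
  | false =>
    simp only [hd, cond_false, Nat.beq_eq] at h2
    exact Or.inr h2

theorem entry_conj {p s x : ℕ} (hp : p < D.rank) (hs : s < D.nroots) (hx : x < D.nroots) :
    c.T.entry (c.w p s) (c.w p x) = moveEntry c.T p s x 1 (c.T.entry s x) := by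
  have key : ∀ s' x', s' < D.nroots → x' < D.nroots → c.T.entry s' x' ≠ [] →
      c.T.entry (c.w p s') (c.w p x') = moveEntry c.T p s' x' 1 (c.T.entry s' x') := by
    intro s' x' hs' hx' hne
    have h := c.conj p (c.rank_eq ▸ hp)
    simp only [checkChainConj, Tables.allRoots, List.all_eq_true, List.mem_range,
      Bool.and_eq_true] at h
    exact entryBeq_iff ((h s' (c.nroots_eq ▸ hs')).2 x' (c.mem_keys_of_entry_ne hs' hx' hne))
  by_cases hne : c.T.entry s x = []
  · rw [hne]
    by_contra h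
    have h2 := key _ _ (c.w_lt hp hs) (c.w_lt hp hx) h
    rw [c.w_w hp hs, c.w_w hp hx, hne] at h2
    revert h h2
    cases c.T.entry (c.w p s) (c.w p x) <;> simp [moveEntry]
  · exact key s x hs hx hne

end Cert

end Cfsg.Agent.Lie.Chev
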