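import Cfsg.Agent.Lib.Lie.Chev.Basic

/-! Chevalley's commutator formula. -/

set_option autoImplicit false

namespace Cfsg.Agent.Lie.Chev

open Cfsg.Lie Matrix

namespace Tables

variable (T : Tables)

/-- The image of a term of the commutator formula under a simple reflection. -/
def moveTerm (p r s : ℕ) (x : ℕ × ℤ × ℕ × ℕ) : ℕ × ℤ × ℕ × ℕ :=
  (T.refl p x.1, T.eta p r ^ x.2.2.1 * T.eta p s ^ x.2.2.2 * T.eta p x.1 * x.2.1, x.2.2)

theorem moveEntry_getElem? (p s c : ℕ) : ∀ (L : List (ℕ × ℤ)) (j m : ℕ),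
    (moveEntry T p s c j L)[m]? = L[m]?.map fun q =>
      (T.refl p q.1, signPow (T.eta p s) (j + m) * T.eta p c * T.eta p q.1 * q.2)
  | [], _, _ => rfl
  | (u, M) :: L, j, 0 => rfl
  | (u, M) :: L, j, m + 1 => by
    rw [moveEntry, List.getElem?_cons_succ, List.getElem?_cons_succ,
      moveEntry_getElem? p s c L (j + 1) m, add_assoc, add_comm 1 m]

theorem signPow_eq (z : ℤ) (hz : z * z = 1) (j : ℕ) : signPow z j = z ^ j := by
  unfold signPow
  rw [show Nat.land j 1 = j % 2 from Nat.and_one_is_mod j]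
  rcases Nat.mod_two_eq_zero_or_one j with hj | hj
  · rw [hj]
    obtain ⟨k, rfl⟩ : Even j := Nat.even_iff.2 hj
    rw [← two_mul, pow_mul, pow_two, hz, one_pow, show Nat.beq 0 0 = true from rfl]
    rfl
  · rw [hj]
    obtain ⟨k, rfl⟩ : Odd j := Nat.odd_iff.2 hj
    rw [pow_succ, pow_mul, pow_two, hz, one_pow, one_mul, show Nat.beq 1 0 = false from rfl]
    rfl

end Tables

namespace Cert

variable {D : ChevalleyDatum} (c : Cert D) {F : Type*} [Field F]
include c

theorem chainRoot_lt {r s i k : ℕ} (hr : r < D.nroots) (hs : s < D.nroots)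
    (h : c.T.chainRoot r s i = some k) : k < D.nroots := by
  rw [Tables.chainRoot, Option.map_eq_some_iff] at h
  obtain ⟨q, hq, rfl⟩ := h
  exact c.entry_lt hr hs q (List.mem_of_getElem? hq)

theorem chainRoot_code {r s i k : ℕ} (hr : r < D.nroots) (hs : s < D.nroots) (hi : 1 ≤ i)
    (h : c.T.chainRoot r s i = some k) :
    c.T.code k = c.T.code s + (i : ℕ) * c.T.code r := by
  rw [Tables.chainRoot, Option.map_eq_some_iff] at h
  obtain ⟨q, hq, rfl⟩ := h
  have hk := c.mem_keys_of_entry_ne hr hs (fun e => by rw [e] at hq; simp at hq)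
  have h2 := ((c.grading_row hr hk).2.2.1 (q, i - 1) (List.mk_mem_zipIdx_iff_getElem?.2 hq)).2
  simp only at h2
  rwa [show i - 1 + 1 = i by omega] at h2

theorem entry_length {r s : ℕ} (hr : r < D.nroots) (hs : s < D.nroots) :
    (c.T.entry r s).length ≤ 3 := by
  by_cases h : c.T.entry r s = []
  · simp [h]
  have h2 := (c.grading_row hr (c.mem_keys_of_entry_ne hr hs h)).2.2.2.1
  revert h2
  split <;> intros <;> simp_all

theorem chainRoot_none_ge {r s i : ℕ} (hr : r < D.nroots) (hs : s < D.nroots) (hi : 4 ≤ i) :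
    c.T.chainRoot r s i = none := by
  rw [Tables.chainRoot, List.getElem?_eq_none]
  · rfl
  · have := c.entry_length hr hs; omega

/-- Divisibility by three of the structure constants in the formula. -/
theorem three_dvd {r s k : ℕ} (hr : r < D.nroots) (hs : s < D.nroots)
    (hk : c.T.chainRoot r s 1 = some k) :
    ((c.T.chainRoot r s 3).isSome → (3 : ℤ) ∣ c.T.chainM k r 2) ∧
    ((c.T.chainRoot s r 3).isSome → (3 : ℤ) ∣ c.T.chainM k s 2) := by
  have hk' := hk
  rw [Tables.chainRoot, Option.map_eq_some_iff] at hk'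
  obtain ⟨q, hq, hqk⟩ := hk'
  have hkey := c.mem_keys_of_entry_ne hr hs (fun e => by rw [e] at hq; simp at hq)
  obtain ⟨-, -, -, -, h5, h6⟩ := c.grading_row hr hkey
  constructor
  · intro h
    have hl : 3 ≤ (c.T.entry r s).length := by
      by_contra hl
      rw [Tables.chainRoot, List.getElem?_eq_none (by omega)] at h
      simp at h
    have hl2 := c.entry_length hr hs
    match he : c.T.entry r s, hl, hl2 with
    | [a, b, d], _, _ =>
      have : a.1 = k := by
        rw [Tables.chainRoot, he] at hk; simpa using hk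
      exact this ▸ h5 a b d he
  · intro h
    have hl : 3 ≤ (c.T.entry s r).length := by
      by_contra hl
      rw [Tables.chainRoot, List.getElem?_eq_none (by omega)] at h
      simp at h
    have hl2 := c.entry_length hs hr
    match he : c.T.entry s r, hl, hl2 with
    | [a, b, d], _, _ =>
      have := h6 a b d he
      rwa [hk, Option.getD_some] at this

/-- The commutator terms agree with those of the datum. -/
theorem commTerms_eq {r s : ℕ} (hr : r < D.nroots) (hs : s < D.nroots) :
    D.commTerms r s = c.T.commTerms r s := by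
  have e1 : ∀ i, D.chainRoot r s i = c.T.chainRoot r s i := fun i => c.chainRoot_eq hr hs i
  have e2 : ∀ i, D.chainRoot s r i = c.T.chainRoot s r i := fun i => c.chainRoot_eq hs hr i
  have e3 : ∀ i, D.chainM r s i = c.T.chainM r s i := fun i => c.chainM_eq hr hs i
  have e4 : ∀ i, D.chainM s r i = c.T.chainM s r i := fun i => c.chainM_eq hs hr i
  have b1 : ((c.T.chainRoot r s 3).bind fun k => D.chainRoot k s 1) =
      (c.T.chainRoot r s 3).bind fun k => c.T.chainRoot k s 1 := by
    cases h : c.T.chainRoot r s 3 with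
    | none => rfl
    | some k => exact c.chainRoot_eq (c.chainRoot_lt hr hs h) hs 1
  have b2 : ((c.T.chainRoot s r 3).bind fun k => D.chainRoot k r 1) =
      (c.T.chainRoot s r 3).bind fun k => c.T.chainRoot k r 1 := by
    cases h : c.T.chainRoot s r 3 with
    | none => rfl
    | some k => exact c.chainRoot_eq (c.chainRoot_lt hs hr h) hr 1
  have m1 : ((c.T.chainRoot r s 1).map fun k => D.chainM k r 2 / 3) =
      (c.T.chainRoot r s 1).map fun k => c.T.chainM k r 2 / 3 := by
    cases h : c.T.chainRoot r s 1 with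
    | none => rfl
    | some k => simp [c.chainM_eq (c.chainRoot_lt hr hs h) hr]
  have m2 : ((c.T.chainRoot r s 1).map fun k => -2 * D.chainM k s 2 / 3) =
      (c.T.chainRoot r s 1).map fun k => -2 * c.T.chainM k s 2 / 3 := by
    cases h : c.T.chainRoot r s 1 with
    | none => rfl
    | some k => simp [c.chainM_eq (c.chainRoot_lt hr hs h) hs]
  simp only [ChevalleyDatum.commTerms, Tables.commTerms, e1, e2, e3, e4, b1, b2, m1, m2]

/-- Roots and degrees of the terms. -/
theorem mem_commTerms {r s : ℕ} (hr : r < D.nroots) (hs : s < D.nroots)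
    {x : ℕ × ℤ × ℕ × ℕ} (hx : x ∈ c.T.commTerms r s) :
    x.1 < D.nroots ∧ 1 ≤ x.2.2.1 ∧ 1 ≤ x.2.2.2 ∧
      c.T.code x.1 = (x.2.2.1 : ℕ) * c.T.code r + (x.2.2.2 : ℕ) * c.T.code s := by
  simp only [Tables.commTerms, List.mem_filterMap, List.mem_cons, List.not_mem_nil, or_false,
    Option.map_eq_some_iff] at hx
  obtain ⟨y, hy, k, hk, rfl⟩ := hx
  rcases hy with rfl | rfl | rfl | rfl | rfl | rfl | rfl
  all_goals simp only at hk ⊢
  · exact ⟨c.chainRoot_lt hr hs hk, le_rfl, le_rfl, by
      rw [c.chainRoot_code hr hs le_rfl hk]; push_cast; ring⟩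
  · exact ⟨c.chainRoot_lt hr hs hk, by omega, le_rfl, by
      rw [c.chainRoot_code hr hs (by omega) hk]; push_cast; ring⟩
  · exact ⟨c.chainRoot_lt hs hr hk, le_rfl, by omega, by
      rw [c.chainRoot_code hs hr (by omega) hk]; push_cast; ring⟩
  · exact ⟨c.chainRoot_lt hr hs hk, by omega, le_rfl, by
      rw [c.chainRoot_code hr hs (by omega) hk]; push_cast; ring⟩
  · exact ⟨c.chainRoot_lt hs hr hk, le_rfl, by omega, by
      rw [c.chainRoot_code hs hr (by omega) hk]; push_cast; ring⟩
  · obtain ⟨m, hm, hk⟩ := Option.bind_eq_some_iff.1 hk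
    have hm' := c.chainRoot_lt hr hs hm
    exact ⟨c.chainRoot_lt hm' hs hk, by omega, by omega, by
      rw [c.chainRoot_code hm' hs le_rfl hk, c.chainRoot_code hr hs (by omega) hm]
      push_cast; ring⟩
  · obtain ⟨m, hm, hk⟩ := Option.bind_eq_some_iff.1 hk
    have hm' := c.chainRoot_lt hs hr hm
    exact ⟨c.chainRoot_lt hm' hr hk, by omega, by omega, by
      rw [c.chainRoot_code hm' hr le_rfl hk, c.chainRoot_code hs hr (by omega) hm]
      push_cast; ring⟩

theorem chain_w {p r s : ℕ} (hp : p < D.rank) (hr : r < D.nroots) (hs : s < D.nroots)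
    {i : ℕ} (hi : 1 ≤ i) :
    c.T.chainRoot (c.w p r) (c.w p s) i = (c.T.chainRoot r s i).map (c.w p) ∧
    c.T.chainM (c.w p r) (c.w p s) i =
      ((c.T.chainRoot r s i).map fun u =>
        c.T.eta p r ^ i * c.T.eta p s * c.T.eta p u).getD 0 * c.T.chainM r s i := by
  simp only [Tables.chainRoot, Tables.chainM, c.entry_conj hp hr hs, Tables.moveEntry_getElem?]
  rw [show 1 + (i - 1) = i by omega, Tables.signPow_eq _ (c.T.eta_sq p r)]
  cases (c.T.entry r s)[i - 1]? <;> simp [Cert.w]

theorem commTerms_w {p r s : ℕ} (hp : p < D.rank) (hr : r < D.nroots) (hs : s < D.nroots) :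
    c.T.commTerms (c.w p r) (c.w p s) = (c.T.commTerms r s).map (c.T.moveTerm p r s) := by
  have key : ∀ (o o' : Option ℕ) (C C' : ℤ) (i j : ℕ), o' = o.map (c.w p) →
      (∀ k, o = some k → C' = c.T.eta p r ^ i * c.T.eta p s ^ j * c.T.eta p k * C) →
      (o'.map fun k => (k, C', i, j)) =
        (o.map fun k => (k, C, i, j)).map (c.T.moveTerm p r s) := by
    intro o o' C C' i j h1 h2
    subst h1
    cases o with
    | none => rfl
    | some k => simp [Tables.moveTerm, h2 k rfl, Cert.w]
  have sq := c.T.eta_sq p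
  have flat : ∀ (g : Option ℕ × ℤ × ℕ × ℕ → Option (ℕ × ℤ × ℕ × ℕ))
      (L : List (Option ℕ × ℤ × ℕ × ℕ)), L.filterMap g = (L.map g).filterMap id := by
    intro g L; rw [List.filterMap_map]; rfl
  simp only [Tables.commTerms, List.map_filterMap]
  rw [flat, flat (fun x => Option.map (c.T.moveTerm p r s) _)]
  simp only [List.map_cons, List.map_nil]
  have E : ∀ i, 1 ≤ i → (∀ k, c.T.chainRoot r s i = some k →
      c.T.chainM (c.w p r) (c.w p s) i =
        c.T.eta p r ^ i * c.T.eta p s ^ 1 * c.T.eta p k * c.T.chainM r s i) := by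
    intro i hi k hk
    rw [(c.chain_w hp hr hs hi).2, hk]; simp
  have E' : ∀ i, 1 ≤ i → (∀ k, c.T.chainRoot s r i = some k →
      c.T.chainM (c.w p s) (c.w p r) i =
        c.T.eta p r ^ 1 * c.T.eta p s ^ i * c.T.eta p k * c.T.chainM s r i) := by
    intro i hi k hk
    rw [(c.chain_w hp hs hr hi).2, hk]
    simp only [Option.map_some, Option.getD_some, pow_one]
    ring
  have b1 : ((c.T.chainRoot (c.w p r) (c.w p s) 3).bind fun k => c.T.chainRoot k (c.w p s) 1) =
      ((c.T.chainRoot r s 3).bind fun k => c.T.chainRoot k s 1).map (c.w p) := by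
    rw [(c.chain_w hp hr hs (by omega : 1 ≤ 3)).1]
    cases h : c.T.chainRoot r s 3 with
    | none => rfl
    | some k => exact (c.chain_w hp (c.chainRoot_lt hr hs h) hs le_rfl).1
  have b2 : ((c.T.chainRoot (c.w p s) (c.w p r) 3).bind fun k => c.T.chainRoot k (c.w p r) 1) =
      ((c.T.chainRoot s r 3).bind fun k => c.T.chainRoot k r 1).map (c.w p) := by
    rw [(c.chain_w hp hs hr (by omega : 1 ≤ 3)).1]
    cases h : c.T.chainRoot s r 3 with
    | none => rfl
    | some k => exact (c.chain_w hp (c.chainRoot_lt hs hr h) hr le_rfl).1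
  have m1 : ∀ k, (c.T.chainRoot r s 3).bind (fun k => c.T.chainRoot k s 1) = some k →
      ((c.T.chainRoot (c.w p r) (c.w p s) 1).map fun a =>
          c.T.chainM a (c.w p r) 2 / 3).getD 0 =
        c.T.eta p r ^ 3 * c.T.eta p s ^ 2 * c.T.eta p k *
          ((c.T.chainRoot r s 1).map fun a => c.T.chainM a r 2 / 3).getD 0 := by
    intro k hk
    obtain ⟨m, hm, hk⟩ := Option.bind_eq_some_iff.1 hk
    rw [(c.chain_w hp hr hs le_rfl).1]
    cases ha : c.T.chainRoot r s 1 with
    | none => simp
    | some a =>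
      have hal := c.chainRoot_lt hr hs ha
      have hd := (c.three_dvd hr hs ha).1 (by simp [hm])
      simp only [Option.map_some, Option.getD_some]
      rw [(c.chain_w hp hal hr (by omega : 1 ≤ 2)).2]
      cases hu : c.T.chainRoot a r 2 with
      | none =>
        have hz : c.T.chainM a r 2 = 0 := by
          simp only [Tables.chainRoot, Option.map_eq_none_iff] at hu
          simp [Tables.chainM, show (c.T.entry a r)[1]? = none from hu]
        simp [hz]
      | some u =>
        have hml := c.chainRoot_lt hr hs hm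
        have huk : u = k := by
          refine c.code_inj (c.chainRoot_lt hal hr hu) (c.chainRoot_lt hml hs hk) ?_
          rw [c.chainRoot_code hal hr (by omega) hu, c.chainRoot_code hr hs le_rfl ha,
            c.chainRoot_code hml hs le_rfl hk, c.chainRoot_code hr hs (by omega) hm]
          push_cast; ring
        simp only [huk, Option.map_some, Option.getD_some]
        obtain ⟨z, hz⟩ := hd
        have e1 : c.T.eta p a ^ 2 = 1 := by rw [pow_two, sq]
        have e2 : c.T.eta p s ^ 2 = 1 := by rw [pow_two, sq]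
        have e3 : c.T.eta p r ^ 3 = c.T.eta p r := by rw [pow_succ, pow_two, sq, one_mul]
        rw [e1, e2, e3, hz, show (1 * c.T.eta p r * c.T.eta p k) * (3 * z) =
          3 * (c.T.eta p r * c.T.eta p k * z) by ring, Int.mul_ediv_cancel_left _ (by norm_num),
          Int.mul_ediv_cancel_left _ (by norm_num)]
        ring
  have m2 : ∀ k, (c.T.chainRoot s r 3).bind (fun k => c.T.chainRoot k r 1) = some k →
      ((c.T.chainRoot (c.w p r) (c.w p s) 1).map fun a =>
          -2 * c.T.chainM a (c.w p s) 2 / 3).getD 0 =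
        c.T.eta p r ^ 2 * c.T.eta p s ^ 3 * c.T.eta p k *
          ((c.T.chainRoot r s 1).map fun a => -2 * c.T.chainM a s 2 / 3).getD 0 := by
    intro k hk
    obtain ⟨m, hm, hk⟩ := Option.bind_eq_some_iff.1 hk
    rw [(c.chain_w hp hr hs le_rfl).1]
    cases ha : c.T.chainRoot r s 1 with
    | none => simp
    | some a =>
      have hal := c.chainRoot_lt hr hs ha
      have hd := (c.three_dvd hr hs ha).2 (by simp [hm])
      simp only [Option.map_some, Option.getD_some]
      rw [(c.chain_w hp hal hs (by omega : 1 ≤ 2)).2]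
      cases hu : c.T.chainRoot a s 2 with
      | none =>
        have hz : c.T.chainM a s 2 = 0 := by
          simp only [Tables.chainRoot, Option.map_eq_none_iff] at hu
          simp [Tables.chainM, show (c.T.entry a s)[1]? = none from hu]
        simp [hz]
      | some u =>
        have hml := c.chainRoot_lt hs hr hm
        have huk : u = k := by
          refine c.code_inj (c.chainRoot_lt hal hs hu) (c.chainRoot_lt hml hr hk) ?_
          rw [c.chainRoot_code hal hs (by omega) hu, c.chainRoot_code hr hs le_rfl ha,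
            c.chainRoot_code hml hr le_rfl hk, c.chainRoot_code hs hr (by omega) hm]
          push_cast; ring
        simp only [huk, Option.map_some, Option.getD_some]
        obtain ⟨z, hz⟩ := hd
        have e1 : c.T.eta p a ^ 2 = 1 := by rw [pow_two, sq]
        have e2 : c.T.eta p r ^ 2 = 1 := by rw [pow_two, sq]
        have e3 : c.T.eta p s ^ 3 = c.T.eta p s := by rw [pow_succ, pow_two, sq, one_mul]
        rw [e1, e2, e3, hz, show (-2 : ℤ) * ((1 * c.T.eta p s * c.T.eta p k) * (3 * z)) =
          3 * (-2 * (c.T.eta p s * c.T.eta p k * z)) by ring,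
          show (-2 : ℤ) * (3 * z) = 3 * (-2 * z) by ring, Int.mul_ediv_cancel_left _ (by norm_num),
          Int.mul_ediv_cancel_left _ (by norm_num)]
        ring
  rw [key _ _ _ _ 1 1 (c.chain_w hp hr hs le_rfl).1 (E 1 le_rfl),
    key _ _ _ _ 2 1 (c.chain_w hp hr hs (by omega : 1 ≤ 2)).1 (E 2 (by omega)),
    key _ _ _ _ 1 2 (c.chain_w hp hs hr (by omega : 1 ≤ 2)).1 (E' 2 (by omega)),
    key _ _ _ _ 3 1 (c.chain_w hp hr hs (by omega : 1 ≤ 3)).1 (E 3 (by omega)),
    key _ _ (- c.T.chainM s r 3) _ 1 3 (c.chain_w hp hs hr (by omega : 1 ≤ 3)).1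
      (fun k hk => by rw [E' 3 (by omega) k hk]; ring),
    key _ _ _ _ 3 2 b1 m1, key _ _ _ _ 2 3 b2 m2]

/-! ### The formula -/

/-- The right-hand factor of the commutator formula. -/
def commProd (F : Type*) [Field F] (r s : ℕ) (t u : F) : Matrix D.Idx D.Idx F :=
  ((c.T.commTerms r s).map fun x => D.x F x.1 ((x.2.1 : F) * (-t) ^ x.2.2.1 * u ^ x.2.2.2)).prod

theorem wordMat_commWord {r s : ℕ} (hr : r < D.nroots) (hs : s < D.nroots) (t u : F) :
    D.wordMat F (D.commWord F r s t u) = c.commProd F r s t u := by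
  simp [ChevalleyDatum.wordMat, ChevalleyDatum.commWord, commProd, c.commTerms_eq hr hs,
    List.map_map, Function.comp_def]

/-- The commutator formula for a pair, as a property. -/
def CommHolds (F : Type*) [Field F] (r s : ℕ) : Prop :=
  ∀ t u : F, D.x F s u * D.x F r t = D.x F r t * D.x F s u * c.commProd F r s t u

theorem n_mul_prod {p : ℕ} (hp : p < D.rank) (L : List (ℕ × F)) (hL : ∀ q ∈ L, q.1 < D.nroots) :
    D.nMat F (D.simple p) 1 * (L.map fun q => D.x F q.1 q.2).prod =
      (L.map fun q => D.x F (c.w p q.1) ((c.T.eta p q.1 : F) * q.2)).prod *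
        D.nMat F (D.simple p) 1 := by
  induction L with
  | nil => simp
  | cons q L ih =>
    simp only [List.map_cons, List.prod_cons]
    rw [← mul_assoc, c.n_mul_x hp (hL q (by simp)), mul_assoc,
      ih (fun x hx => hL x (List.mem_cons_of_mem _ hx)), mul_assoc]

theorem commHolds_of_w {p r s : ℕ} (hp : p < D.rank) (hr : r < D.nroots) (hs : s < D.nroots)
    (h : c.CommHolds F (c.w p r) (c.w p s)) : c.CommHolds F r s := by
  intro t u
  refine (c.isUnit_n (F := F) hp).mul_left_cancel ?_
  have hP : D.nMat F (D.simple p) 1 * c.commProd F r s t u =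
      c.commProd F (c.w p r) (c.w p s) ((c.T.eta p r : F) * t) ((c.T.eta p s : F) * u) *
        D.nMat F (D.simple p) 1 := by
    have h1 := c.n_mul_prod hp ((c.T.commTerms r s).map fun x =>
      (x.1, (x.2.1 : F) * (-t) ^ x.2.2.1 * u ^ x.2.2.2)) (fun q hq => by
        obtain ⟨x, hx, rfl⟩ := List.mem_map.1 hq
        exact (c.mem_commTerms hr hs hx).1)
    rw [List.map_map, List.map_map] at h1
    unfold commProd
    rw [c.commTerms_w hp hr hs, List.map_map]
    refine h1.trans ?_
    congr 2
    refine List.map_congr_left fun x _ => ?_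
    simp only [Function.comp_apply, Tables.moveTerm, Cert.w]
    congr 1
    have hr2 := c.eta_F_sq (F := F) p r
    have hs2 := c.eta_F_sq (F := F) p s
    push_cast
    rw [show -((c.T.eta p r : F) * t) = (c.T.eta p r : F) * (-t) by ring, mul_pow, mul_pow]
    calc (c.T.eta p x.1 : F) * ((x.2.1 : F) * (-t) ^ x.2.2.1 * u ^ x.2.2.2)
        = ((c.T.eta p r : F) * (c.T.eta p r : F)) ^ x.2.2.1 *
            ((c.T.eta p s : F) * (c.T.eta p s : F)) ^ x.2.2.2 *
            ((c.T.eta p x.1 : F) * ((x.2.1 : F) * (-t) ^ x.2.2.1 * u ^ x.2.2.2)) := by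
          rw [hr2, hs2, one_pow, one_pow, one_mul, one_mul]
      _ = _ := by rw [mul_pow, mul_pow]; ring
  rw [← mul_assoc, c.n_mul_x hp hs, mul_assoc, c.n_mul_x hp hr, ← mul_assoc, h, mul_assoc,
    ← hP, ← mul_assoc (D.nMat F (D.simple p) 1) (_ * _), ← mul_assoc (D.nMat F (D.simple p) 1),
    c.n_mul_x hp hr]
  simp only [mul_assoc]
  rw [← mul_assoc (D.nMat F (D.simple p) 1) (D.x F s u), c.n_mul_x hp hs]
  simp only [mul_assoc]

theorem commCheck {i : ℕ} (hi : i < c.T.reps.length) :
    (∀ s < D.nroots, c.T.subDep i s = 0 → s ≠ c.T.rep i → s ≠ c.T.neg (c.T.rep i) →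
      ∀ col < c.T.dim,
        same (applyAll [c.T.xCol s 0 1 0 1, c.T.xCol (c.T.rep i) 1 0 0 1] (unitVec col))
          (applyAll ([c.T.xCol (c.T.rep i) 1 0 0 1, c.T.xCol s 0 1 0 1] ++
            c.T.commCols (c.T.rep i) s) (unitVec col)) = true) ∧
    (∀ s < D.nroots, c.T.subDep i s ≠ 0 → c.T.subP i s < D.rank ∧
      c.T.cartan (c.T.subP i s) (c.T.rep i) = 0 ∧
      c.T.subDep i (c.w (c.T.subP i s) s) + 1 = c.T.subDep i s) := by
  have h := c.comm i hi
  simp only [checkCommAt, checkSubTree, Tables.allRoots, Bool.and_eq_true, List.all_eq_true,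
    List.mem_range, Bool.or_eq_true, Bool.not_eq_true', Nat.beq_eq, Nat.blt_eq, beq_iff_eq] at h
  refine ⟨fun s hs h0 h1 h2 => ?_, fun s hs h0 => ?_⟩
  · rcases h.2 s (c.nroots_eq ▸ hs) with h3 | h3 | h3 | h3
    · rw [beq_of_eq h0] at h3; cases h3
    · exact absurd h3 h1
    · exact absurd h3 h2
    · exact h3
  · rcases h.1 s (c.nroots_eq ▸ hs) with h3 | h3
    · exact absurd h3 h0
    · exact ⟨c.rank_eq.symm ▸ h3.1.1, h3.1.2, h3.2⟩

theorem commHolds_rep {i s : ℕ} (hi : i < c.T.reps.length) (hs : s < D.nroots)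
    (h1 : s ≠ c.T.rep i) (h2 : s ≠ D.neg (c.T.rep i)) : c.CommHolds F (c.T.rep i) s := by
  have hr : c.T.rep i < D.nroots := by
    refine c.rep_lt ?_
    rw [Tables.rep, List.getD_eq_getElem _ _ hi]
    exact List.getElem_mem hi
  generalize hd : c.T.subDep i s = d
  induction d using Nat.strong_induction_on generalizing s with
  | _ d ih =>
    by_cases h0 : c.T.subDep i s = 0
    · intro t u
      have h3 := (c.commCheck hi).1 s hs h0 h1 (fun h => h2 (h.trans (c.neg_eq hr).symm))
      have hA : ∀ col ∈ [c.T.xCol s 0 1 0 1, c.T.xCol (c.T.rep i) 1 0 0 1],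
          ∀ n, (∀ j, enum D j ≠ n) → col n = [] := by
        intro col hcol
        simp only [List.mem_cons, List.not_mem_nil, or_false] at hcol
        rcases hcol with rfl | rfl <;> exact c.xCol_out _ _ _ _ _
      have hB : ∀ col ∈ [c.T.xCol (c.T.rep i) 1 0 0 1, c.T.xCol s 0 1 0 1] ++
          c.T.commCols (c.T.rep i) s, ∀ n, (∀ j, enum D j ≠ n) → col n = [] := by
        intro col hcol
        simp only [List.mem_append, List.mem_cons, List.not_mem_nil, or_false, Tables.commCols,
          List.mem_map] at hcol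
        rcases hcol with (rfl | rfl) | ⟨x, -, rfl⟩ <;> exact c.xCol_out _ _ _ _ _
      have e := prod_eq_of_same (enum D) t u 1 (enum_injective D) hA hB (fun j => by
        refine ev_eq_of_same (enum D) t u 1 (h3 _ ?_)
        rw [Tables.dim, ← c.rank_eq, ← c.nroots_eq]
        exact enum_lt D j)
      simp only [List.map_cons, List.map_nil, List.map_append, List.prod_cons, List.prod_nil,
        List.prod_append, mul_one, Tables.commCols, List.map_map] at e
      rw [c.x_eq_evMat _ _ _ _ _ _ _ _ hs, c.x_eq_evMat _ _ _ _ _ _ _ _ hr] at e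
      simp only [Int.cast_one, pow_zero, pow_one, one_mul, mul_one] at e
      rw [e]
      congr 1
      unfold commProd
      congr 1
      refine List.map_congr_left fun x hx => ?_
      rw [Function.comp_apply, c.x_eq_evMat _ _ _ _ _ _ _ _ (c.mem_commTerms hr hs hx).1]
      congr 1
      push_cast
      rw [neg_pow t]
      ring
    · obtain ⟨hp, hA, hdep⟩ := (c.commCheck hi).2 s hs h0
      have hfix : c.w (c.T.subP i s) (c.T.rep i) = c.T.rep i :=
        c.code_w_fixed hp hr (by rw [c.cartan_eq hp hr]; exact hA)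
      refine c.commHolds_of_w hp hr hs ?_
      rw [hfix]
      refine ih (c.T.subDep i (c.w (c.T.subP i s) s)) (by omega) (c.w_lt hp hs) (fun h => h1 ?_)
        (fun h => h2 ?_) rfl
      · exact c.w_inj hp hs hr (h.trans hfix.symm)
      · exact c.w_inj hp hs (c.neg_lt hr) (by rw [c.w_neg hp hr, hfix]; exact h)

/-- Chevalley's commutator formula. -/
theorem commHolds {r s : ℕ} (hr : r < D.nroots) (hs : s < D.nroots) (h1 : s ≠ r)
    (h2 : s ≠ D.neg r) : c.CommHolds F r s := by
  generalize hd : c.T.dep r = d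
  induction d using Nat.strong_induction_on generalizing r s with
  | _ d ih =>
    obtain ⟨hp, ⟨-, hrep⟩ | hdep⟩ := c.tree_root hr
    · obtain ⟨i, hi, rfl⟩ := List.getElem_of_mem hrep
      have e : c.T.rep i = c.T.reps[i] := by rw [Tables.rep, List.getD_eq_getElem _ _ hi]
      rw [← e] at h1 h2 ⊢
      exact c.commHolds_rep hi hs h1 h2
    · refine c.commHolds_of_w hp hr hs ?_
      refine ih (c.T.dep (c.w (c.T.parP r) r)) (by omega) (c.w_lt hp hr) (c.w_lt hp hs)
        (fun h => h1 (c.w_inj hp hs hr h)) (fun h => h2 ?_) rfl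
      exact c.w_inj hp hs (c.neg_lt hr) (h.trans (c.w_neg hp hr).symm)

theorem x_comm {r s : ℕ} (hr : r < D.nroots) (hs : s < D.nroots) (h1 : s ≠ r)
    (h2 : s ≠ D.neg r) (t u : F) :
    D.x F s u * D.x F r t = D.x F r t * D.x F s u * D.wordMat F (D.commWord F r s t u) := by
  rw [c.wordMat_commWord hr hs]
  exact c.commHolds hr hs h1 h2 t u

end Cert

end Cfsg.Agent.Lie.Chev
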