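import Cfsg.Agent.Lib.Lie.Chev.SimpleCerts
import Cfsg.Agent.Lib.Lie.Chev.RadicalCentralizer
import Cfsg.Agent.Lib.Lie.BNTits
import Cfsg.Agent.Lib.Grp.IteratedCores

/-!
The maximal parabolic subgroup of `E₈(2)` at the branch node and its conjugate by that reflection:
the iterated cores vanish exactly at the sixth step.
-/

set_option autoImplicit false
set_option maxRecDepth 20000

namespace Cfsg.Agent.Lie.Chev

open Cfsg.Lie Matrix

namespace Tables

variable (T : Tables)

/-- The root of a single term with odd coefficient. -/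
def oddTerm : List (ℕ × ℤ × ℕ × ℕ) → Option ℕ
  | [(q, M, _, _)] => bif M % 2 == 0 then none else some q
  | _ => none

/-- The first root of level `k` at the branch node. -/
def levMin (k : ℤ) : ℕ := ((List.range T.n).find? fun r => decide (T.vec r 3 = k)).getD 0

/-- Each root of positive level is lowered to the first one of its level, and raised back, by the
other nodes. -/
def checkChain : Bool :=
  (List.range T.n).all fun r => decide (T.vec r 3 ≤ 0) || Nat.beq r (T.levMin (T.vec r 3)) ||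
    (List.range T.l).any fun j => !(Nat.beq j 3) &&
      match oddTerm (T.commTerms (T.neg (T.simple j)) r) with
      | some q => Nat.blt q r && decide (T.vec q 3 = T.vec r 3) &&
          match oddTerm (T.commTerms (T.simple j) q) with
          | some r' => Nat.beq r' r
          | none => false
      | none => false

/-- The reflection at the branch node lowers levels by at most one, and by one somewhere. -/
def checkDropE8 : Bool :=
  ((List.range T.n).all fun r => decide (T.vec r 3 ≤ 1) ||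
    decide (T.vec r 3 - 1 ≤ T.vec (T.refl 3 r) 3)) &&
  [1, 2, 3, 4, 5].all fun k : ℕ => (List.range T.n).any fun r =>
    decide (T.vec r 3 = (k : ℤ) + 1) && decide (T.vec (T.refl 3 r) 3 = (k : ℤ))

/-- Every positive root but the last is moved up by a positive root. -/
def checkRise : Bool :=
  (List.range T.n).all fun m => Nat.blt m T.h || Nat.beq m (T.n - 1) ||
    (List.range T.n).any fun s => Nat.ble T.h s && !(Nat.beq s m) &&
      match oddTerm (T.commTerms s m) with
      | some q => decide (T.code q = T.code s + T.code m)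
      | none => false

end Tables

namespace CoresE8

/-- The properties of the table which the argument uses. -/
class Table (D : ChevalleyDatum) where
  /-- the certified table -/
  cert : CertFull D
  three_lt : 3 < D.rank
  chain : cert.T.checkChain = true
  drop : cert.T.checkDropE8 = true
  rise : cert.T.checkRise = true
  top : cert.T.vec (D.nroots - 1) 3 = 6
  link : cert.T.checkLink = true
  conn : checkConn cert.T = true
  perf : checkPerfect cert.T = true

/-- The field of two elements. -/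
abbrev F₂ : Type := ZMod 2

local instance : Fact (Nat.Prime 2) := ⟨Nat.prime_two⟩

theorem eq_zero_or_one (a : F₂) : a = 0 ∨ a = 1 := by revert a; decide

theorem neg_one : (-1 : F₂) = 1 := by decide

variable {D : ChevalleyDatum} [hD : Table D]

/-- The certified table. -/
abbrev cc (D : ChevalleyDatum) [Table D] : CertFull D := Table.cert



/-- The group over the field of two elements. -/
abbrev G0 (D : ChevalleyDatum) : Type := ↥(D.group F₂)

local notation "G" => G0 D

/-- A root element. -/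
def X0 (r : ℕ) : G := ⟨(cc D).xg r 1, (cc D).xg_mem_group_all r 1⟩

local notation "X" => X0 (D := D)

/-- The level of a root at the branch node. -/
def lev0 (r : ℕ) : ℤ := (cc D).T.vec r 3

local notation "lev" => lev0 (D := D)

theorem three_lt : (3 : ℕ) < D.rank := hD.three_lt

/-- The nodes other than the branch node. -/
def J : Set ℕ := {i | i ≠ 3}

theorem inRootSub_J {r : ℕ} : D.InRootSub J r ↔ r < D.nroots ∧ lev r = 0 := by
  rw [(cc D).inRootSub_iff]
  refine ⟨fun ⟨h, h'⟩ => ⟨h, h' 3 three_lt (fun e => e rfl)⟩, fun ⟨h, h'⟩ => ⟨h, fun i _ hi => ?_⟩⟩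
  obtain rfl : i = 3 := not_not.1 hi
  exact h'

theorem lev_neg {r : ℕ} (hr : r < D.nroots) : lev (D.neg r) = - lev r :=
  (cc D).vec_neg hr three_lt

theorem pos_of_lev {r : ℕ} (hr : r < D.nroots) (h : 1 ≤ lev r) : (cc D).Pos r :=
  (cc D).pos_of_vec_pos hr three_lt (by change 0 < lev r; omega)

theorem lev_nonneg {r : ℕ} (hr : (cc D).Pos r) : 0 ≤ lev r := ((cc D).vec_nonneg hr.2 hr.1).1 3 three_lt

theorem gen_iff {r : ℕ} (hr : r < D.nroots) :
    0 ≤ lev r ↔ (D.IsPosRoot r ∨ D.InRootSub J r) := by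
  refine ⟨fun h => ?_, ?_⟩
  · by_cases h0 : lev r = 0
    · exact Or.inr (inRootSub_J.2 ⟨hr, h0⟩)
    · exact Or.inl ((cc D).posRoot_iff.2 (pos_of_lev hr (by omega)))
  · rintro (h | h)
    · exact lev_nonneg ((cc D).posRoot_iff.1 h)
    · exact (inRootSub_J.1 h).2.ge

theorem torus_eq_one (z : ℕ → F₂ˣ) : ((cc D).torus z : GL D.Idx F₂) = 1 := by
  rw [show z = fun _ => 1 from funext fun _ => Subsingleton.elim _ _]
  refine Eq.trans ?_ (map_one (dg D F₂))
  refine (dg_eq_iff D F₂).2 fun u _ => Subsingleton.elim _ _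

theorem diag_eq_bot {a : GL D.Idx F₂} (ha : a ∈ D.diagonalSubgroup F₂) : a = 1 := by
  rw [(cc D).diagonalSubgroup_eq] at ha
  obtain ⟨z, rfl⟩ := ha
  exact torus_eq_one z

/-- The parabolic subgroup. -/
def M0 : Subgroup G := (D.parabolicSubgroup F₂ J).subgroupOf (D.group F₂)

local notation "M" => M0 (D := D)

theorem parabolic_le_group : D.parabolicSubgroup F₂ J ≤ D.group F₂ := by
  rw [← (cc D).normalizer_radical (F := F₂) J]
  exact inf_le_right

theorem X_mem_M {r : ℕ} (hr : r < D.nroots) (h : 0 ≤ lev r) : X r ∈ M := by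
  show (cc D).xg r 1 ∈ D.parabolicSubgroup F₂ J
  rw [(cc D).parabolic_eq]
  exact Subgroup.mem_sup_right (Subgroup.subset_closure ⟨r, 1, (gen_iff hr).1 h, (cc D).xg_val _ _⟩)

/-- Induction over the generators of the parabolic subgroup. -/
theorem le_of_gens {N : Subgroup G} (h : ∀ r < D.nroots, 0 ≤ lev r → X r ∈ N) : M ≤ N := by
  have hle : D.parabolicSubgroup F₂ J ≤ N.map (D.group F₂).subtype := by
    rw [(cc D).parabolic_eq]
    refine sup_le (fun a ha => ?_) ((Subgroup.closure_le _).2 ?_)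
    · rw [diag_eq_bot ha]; exact one_mem _
    rintro z ⟨r, t, hr, e⟩
    obtain rfl := (cc D).eq_xg_iff.1 e
    have hlt : r < D.nroots := hr.elim (fun h => h.1) fun h => h.1
    rcases eq_zero_or_one t with rfl | rfl
    · rw [(cc D).xg_zero]; exact one_mem _
    · exact ⟨X r, h r hlt ((gen_iff hlt).2 hr), rfl⟩
  intro w hg
  obtain ⟨x, hx, e⟩ := hle hg
  obtain rfl : x = w := Subtype.ext e
  exact hx

theorem X_mul_self (r : ℕ) : X r * X r = 1 := by
  refine Subtype.ext ?_
  show (cc D).xg r 1 * (cc D).xg r 1 = 1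
  rw [← (cc D).xg_add, show (1 : F₂) + 1 = 0 from rfl, (cc D).xg_zero]

theorem X_inv (r : ℕ) : (X r)⁻¹ = X r := inv_eq_of_mul_eq_one_left (X_mul_self r)

/-- The commutator of two root elements. -/
theorem conj_eq {r s : ℕ} (hr : r < D.nroots) (hs : s < D.nroots) (h1 : r ≠ s)
    (h2 : r ≠ D.neg s) :
    (cc D).xg s 1 * (cc D).xg r 1 * (cc D).xg s (1 : F₂) =
      (cc D).xg r 1 * (((cc D).T.commTerms s r).map fun x => (cc D).xg x.1 ((x.2.1 : ℤ) : F₂)).prod := by
  have e := (cc D).xg_comm hs hr h1 h2 (1 : F₂) 1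
  simp only [neg_one, one_pow, mul_one] at e
  rw [mul_assoc, e, ← mul_assoc, ← mul_assoc, ← (cc D).xg_add, show (1 : F₂) + 1 = 0 from rfl,
    (cc D).xg_zero, one_mul]

theorem X_of_oddTerm {r s q : ℕ} (h : Tables.oddTerm ((cc D).T.commTerms s r) = some q) :
    (((cc D).T.commTerms s r).map fun x => (cc D).xg x.1 ((x.2.1 : ℤ) : F₂)).prod = (cc D).xg q 1 ∧
      ∃ x ∈ (cc D).T.commTerms s r, x.1 = q := by
  unfold Tables.oddTerm at h
  split at h
  next q' k i j he =>
    rw [he]
    cases hk : (k % 2 == 0)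
    · rw [hk, cond_false, Option.some.injEq] at h
      subst h
      refine ⟨?_, _, List.mem_singleton_self _, rfl⟩
      have hodd : ((k : ℤ) : F₂) = 1 := by
        rcases eq_zero_or_one ((k : ℤ) : F₂) with h0 | h0
        · rw [ZMod.intCast_zmod_eq_zero_iff_dvd] at h0
          simp only [beq_eq_false_iff_ne] at hk
          omega
        · exact h0
      simp [hodd]
    · rw [hk, cond_true] at h; simp at h
  next => simp at h

/-- The subgroup of the roots of level at least `k`. -/
def L0 (k : ℤ) : Subgroup G := Subgroup.closure {y | ∃ r < D.nroots, k ≤ lev r ∧ y = X r}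

local notation "L" => L0 (D := D)

theorem X_mem_L {r : ℕ} (hr : r < D.nroots) {k : ℤ} (h : k ≤ lev r) : X r ∈ L k :=
  Subgroup.subset_closure ⟨r, hr, h, rfl⟩

theorem L_normal {k : ℤ} (hk : 1 ≤ k) : ∀ m ∈ M, ∀ x ∈ L k, m * x * m⁻¹ ∈ L k := by
  have key : ∀ s < D.nroots, 0 ≤ lev s → ∀ x ∈ L k, X s * x * (X s)⁻¹ ∈ L k := by
    intro s hs h0 x hx
    induction hx using Subgroup.closure_induction with
    | mem x h =>
      obtain ⟨r, hr, hlev, rfl⟩ := h
      by_cases h1 : r = s
      · subst h1; rw [mul_inv_cancel_right]; exact X_mem_L hr hlev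
      have h2 : r ≠ D.neg s := by
        rintro rfl
        rw [lev_neg hs] at hlev
        omega
      have hle : ((L k).map (D.group F₂).subtype) = (L k).map (D.group F₂).subtype := rfl
      suffices (cc D).xg s 1 * (cc D).xg r 1 * (cc D).xg s (1 : F₂) ∈ (L k).map (D.group F₂).subtype by
        obtain ⟨y, hy, e⟩ := this
        rw [X_inv]
        rwa [show X s * X r * X s = y from Subtype.ext e.symm]
      rw [conj_eq hr hs h1 h2]
      refine mul_mem ⟨X r, X_mem_L hr hlev, rfl⟩ (Subgroup.list_prod_mem _ fun y hy => ?_)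
      obtain ⟨z, hz, rfl⟩ := List.mem_map.1 hy
      rcases eq_zero_or_one ((z.2.1 : ℤ) : F₂) with e | e <;> rw [e]
      · rw [(cc D).xg_zero]; exact one_mem _
      obtain ⟨hz1, hzi, hzj, -⟩ := (cc D).mem_commTerms hs hr hz
      refine ⟨X z.1, X_mem_L hz1 ?_, rfl⟩
      have hv := (cc D).commTerms_vec hs hr three_lt hz
      change lev z.1 = _ * lev s + _ * lev r at hv
      have hj' : (1 : ℤ) ≤ z.2.2.2 := by exact_mod_cast hzj
      nlinarith [mul_nonneg (Int.natCast_nonneg z.2.2.1) h0]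
    | one => simp
    | mul a b _ _ iha ihb =>
      rw [show X s * (a * b) * (X s)⁻¹ = X s * a * (X s)⁻¹ * (X s * b * (X s)⁻¹) by group]
      exact mul_mem iha ihb
    | inv a _ iha =>
      rw [show X s * a⁻¹ * (X s)⁻¹ = (X s * a * (X s)⁻¹)⁻¹ by group]
      exact inv_mem iha
  intro m hm x hx
  have : M ≤ Subgroup.normalizer (L k : Set G) := le_of_gens fun s hs h0 =>
    Subgroup.mem_normalizer_iff.2 fun y => ⟨key s hs h0 y, fun hy => by
      have := key s hs h0 _ hy
      rw [X_inv] at this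
      simpa [mul_assoc, ← mul_assoc (X s) (X s), X_mul_self] using this⟩
  exact (Subgroup.mem_normalizer_iff.1 (this hm) x).1 hx

/-- The reflection at the branch node. -/
def gg0 : G := ⟨(cc D).np F₂ 3, (cc D).np_mem_group three_lt⟩

local notation "gg" => gg0 (D := D)

theorem g_mul_self : gg * gg = 1 :=
  Subtype.ext (diag_eq_bot ((cc D).np_sq_mem three_lt))

theorem g_inv : gg⁻¹ = gg := inv_eq_of_mul_eq_one_left g_mul_self

theorem g_conj {r : ℕ} (hr : r < D.nroots) : gg * X r * gg⁻¹ = X ((cc D).w 3 r) := by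
  rw [mul_inv_eq_iff_eq_mul]
  refine Subtype.ext ?_
  show (cc D).np F₂ 3 * (cc D).xg r 1 = (cc D).xg ((cc D).w 3 r) 1 * (cc D).np F₂ 3
  have h := (cc D).ng_conj (F := F₂) three_lt hr 1
  rw [mul_one] at h
  have he : (((cc D).T.eta 3 r : ℤ) : F₂) = 1 := by
    rcases (cc D).T.eta_cases 3 r with e | e <;> rw [e]
    · simp
    · simpa using neg_one
  rw [he] at h
  exact h

/-- Conjugation by the reflection. -/
def σ0 : G ≃* G := MulAut.conj gg

local notation "σ" => σ0 (D := D)

theorem σ_σ (x : G) : σ (σ x) = x := by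
  simp only [σ0, MulAut.conj_apply, g_inv]
  rw [show gg * (gg * x * gg) * gg = gg * gg * x * (gg * gg) by group, g_mul_self, one_mul, mul_one]

/-- The second parabolic subgroup. -/
def M0' : Subgroup G := Subgroup.map (MulEquiv.toMonoidHom σ) M

local notation "M'" => M0' (D := D)

/-- The first sequence. -/
def A0 (i : ℕ) : Subgroup G := (Grp.iterCore M M' i).1

local notation "A" => A0 (D := D)

theorem A_succ_le_sigma (i : ℕ) {x : G} (hx : x ∈ A (i + 1)) : σ x ∈ A i := by
  have h := (Grp.coreIn_le_right _ _ hx).2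
  rw [M0', Grp.iterCore_snd σ_σ] at h
  have h := Subgroup.mem_map_equiv.1 h
  have hs : (σ).symm = σ := MulEquiv.ext fun y => (σ).injective (by simp [σ_σ])
  rw [hs] at h
  exact h

theorem L_le_A : ∀ i : ℕ, L ((i : ℤ) + 1) ≤ A i := by
  intro i
  induction i with
  | zero =>
    refine (Subgroup.closure_le _).2 ?_
    rintro z ⟨r, hr, hlev, rfl⟩
    exact X_mem_M hr (by simp at hlev; omega)
  | succ i ih =>
    refine Grp.le_coreIn ?_ ?_ (fun m hm x hx => L_normal (by omega) m hm x hx) <;>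
      refine (Subgroup.closure_le _).2 ?_ <;> rintro z ⟨r, hr, hlev, rfl⟩
    · exact X_mem_M hr (by omega)
    refine ⟨ih (X_mem_L hr (by omega)), ?_⟩
    rw [M0', Grp.iterCore_snd σ_σ]
    refine Subgroup.mem_map_equiv.2 ?_
    have hs : (σ).symm = σ := MulEquiv.ext fun y => (σ).injective (by simp [σ_σ])
    rw [hs, σ0, MulAut.conj_apply, g_conj hr]
    refine ih (X_mem_L ((cc D).w_lt three_lt hr) ?_)
    have h : (cc D).T.checkDropE8 = true := hD.drop
    simp only [Tables.checkDropE8, Bool.and_eq_true, List.all_eq_true, List.mem_range,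
      Bool.or_eq_true, decide_eq_true_eq] at h
    rcases h.1 r ((cc D).nroots_eq ▸ hr) with h' | h'
    · change lev r ≤ 1 at h'; omega
    · change lev r - 1 ≤ lev ((cc D).w 3 r) at h'; omega

theorem X_ne_one {r : ℕ} (hr : r < D.nroots) : X r ≠ 1 := fun e =>
  one_ne_zero (((cc D).xg_eq_one_iff hr _).1 (congrArg Subtype.val e))

theorem A_five : A 5 ≠ ⊥ := by
  intro h
  have hr : (D.nroots - 1) < D.nroots := by have := (cc D).simple_lt three_lt; omega
  have := L_le_A 5 (X_mem_L hr (show ((5 : ℕ) : ℤ) + 1 ≤ lev (D.nroots - 1) by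
    rw [lev0, (show (cc D).T.vec (D.nroots - 1) 3 = 6 from hD.top)]; norm_num))
  rw [h, Subgroup.mem_bot] at this
  exact X_ne_one hr this

/-! ### The Tits system -/

/-- The generators of the Weyl group other than the branch node. -/
def SJ0 : Set G := {n | ∃ i < D.rank, i ≠ 3 ∧
  ((n : GL D.Idx F₂) : Matrix D.Idx D.Idx F₂) = D.nMat F₂ (D.simple i) 1}

local notation "SJ" => SJ0 (D := D)

theorem SJ_le : SJ ⊆ ((cc D).bnPair F₂).S := fun _ ⟨i, hi, _, e⟩ => ⟨i, hi, e⟩

theorem M_eq : M = ((cc D).bnPair F₂).parabolic SJ := by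
  have hB : D.borelSubgroup F₂ ≤ D.parabolicSubgroup F₂ J := le_sup_left
  refine le_antisymm ?_ (sup_le (fun x hx => hB hx) ((Subgroup.closure_le _).2 ?_))
  · intro x hx
    have hle : D.parabolicSubgroup F₂ J ≤
        (((cc D).bnPair F₂).parabolic SJ).map (D.group F₂).subtype := by
      refine sup_le (fun b hb => ⟨⟨b, (cc D).B_le_group hb⟩, Subgroup.mem_sup_left hb, rfl⟩)
        ((Subgroup.closure_le _).2 ?_)
      rintro n ⟨j, hj, hlt, e⟩
      obtain rfl : n = (cc D).np F₂ j := Units.ext (e.trans ((cc D).ng_val _ _).symm)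
      exact ⟨⟨(cc D).np F₂ j, (cc D).np_mem_group hlt⟩,
        Subgroup.mem_sup_right (Subgroup.subset_closure ⟨j, hlt, hj, (cc D).ng_val _ _⟩), rfl⟩
    obtain ⟨y, hy, e⟩ := hle hx
    obtain rfl : y = x := Subtype.ext e
    exact hy
  · rintro n ⟨i, hi, hne, e⟩
    exact Subgroup.mem_sup_right (Subgroup.subset_closure ⟨i, hne, hi, e⟩)

theorem g_mem_S : gg ∈ ((cc D).bnPair F₂).S := ⟨3, three_lt, (cc D).ng_val _ _⟩

theorem g_notMem : gg ∉ M := by
  intro h
  have hsub : ({gg} : Set G) ⊆ ((cc D).bnPair F₂).S := Set.singleton_subset_iff.2 g_mem_S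
  have hle : ((cc D).bnPair F₂).parabolic {gg} ≤ ((cc D).bnPair F₂).parabolic SJ := by
    refine sup_le le_sup_left ((Subgroup.closure_le _).2 ?_)
    rintro x rfl
    rw [← M_eq]; exact h
  obtain ⟨i, hi, hne, e⟩ := ((Lie.parabolic_le_iff ((cc D).bnPair F₂) hsub SJ_le).1 hle)
    (Set.mem_singleton gg)
  have e' : (cc D).np F₂ 3 = (cc D).np F₂ i := Units.ext (e.trans ((cc D).ng_val _ _).symm)
  refine hne ((cc D).np_inj (F := F₂) three_lt hi ?_).symm
  rw [← e', inv_mul_cancel]
  exact one_mem _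

theorem isCoatom_M : IsCoatom M := by
  refine ⟨fun h => g_notMem (h ▸ Subgroup.mem_top _), fun N hN => ?_⟩
  have hBN : ((cc D).bnPair F₂).B ≤ N := le_trans (by rw [M_eq]; exact le_sup_left) hN.le
  have heq := Lie.eq_parabolic ((cc D).bnPair F₂) N hBN
  by_cases hg : gg ∈ N
  · rw [heq, ← Lie.parabolic_S ((cc D).bnPair F₂)]
    congr 1
    refine Set.ext fun s => ⟨fun h => h.1, fun hs => ⟨hs, ?_⟩⟩
    obtain ⟨i, hi, e⟩ := hs
    by_cases h3 : i = 3
    · subst h3
      rwa [show s = gg from Subtype.ext (Units.ext (e.trans ((cc D).ng_val _ _).symm))]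
    · exact hN.le (by rw [M_eq]; exact Subgroup.mem_sup_right (Subgroup.subset_closure ⟨i, hi, h3, e⟩))
  · exfalso
    refine hN.not_ge ?_
    rw [M_eq, heq]
    refine sup_le le_sup_left (le_sup_of_le_right (Subgroup.closure_mono ?_))
    rintro s ⟨⟨i, hi, e⟩, hs⟩
    refine ⟨i, hi, fun h3 => hg ?_, e⟩
    subst h3
    rwa [show gg = s from (Subtype.ext (Units.ext (e.trans ((cc D).ng_val _ _).symm))).symm]

theorem normalCore_M : (M).normalCore = ⊥ := by
  have := ((cc D).simple hD.conn ((cc D).perfect (F := F₂) hD.perf)).1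
  rcases this.eq_bot_or_eq_top_of_normal (M).normalCore (Subgroup.normalCore_normal M) with h | h
  · exact h
  · exact absurd (top_le_iff.1 (h ▸ Subgroup.normalCore_le M)) isCoatom_M.1

theorem lev_simple : lev (D.simple 3) = 1 := by
  show (cc D).T.vec (D.simple 3) 3 = 1
  rw [(cc D).vec_simple three_lt three_lt, if_pos rfl]

theorem neg_simple_notMem : X (D.neg (D.simple 3)) ∉ M := by
  intro h
  refine g_notMem (D := D) ?_
  have hs : X (D.simple 3) ∈ M := X_mem_M ((cc D).simple_lt three_lt) (by rw [lev_simple]; norm_num)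
  have e : gg = X (D.simple 3) * X (D.neg (D.simple 3)) * X (D.simple 3) := by
    refine Subtype.ext ?_
    show (cc D).ng (F := F₂) (D.simple 3) 1 = _
    refine Units.ext ?_
    rw [(cc D).ng_val, Cert.wordMat_nWord]
    simp [X0, mul_assoc]
  rw [e]
  exact mul_mem (mul_mem hs h) hs

theorem σ_simple : σ (X (D.simple 3)) = X (D.neg (D.simple 3)) := by
  rw [σ0, MulAut.conj_apply, g_conj ((cc D).simple_lt three_lt), (cc D).w_simple three_lt]

theorem M_ne : M ≠ M' := by
  intro h
  have hs : X (D.simple 3) ∈ M := X_mem_M ((cc D).simple_lt three_lt) (by rw [lev_simple]; norm_num)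
  have : σ (X (D.simple 3)) ∈ M := by rw [h]; exact ⟨_, hs, rfl⟩
  rw [σ_simple] at this
  exact neg_simple_notMem this

/-! ### The upper bound -/

theorem chain_step {N : Subgroup G} (hN : ∀ m ∈ M, ∀ x ∈ N, m * x * m⁻¹ ∈ N) {s r q : ℕ}
    (hs : s < D.nroots) (hs0 : lev s = 0) (hr : r < D.nroots) (hr1 : 1 ≤ lev r)
    (h : Tables.oddTerm ((cc D).T.commTerms s r) = some q) (hx : X r ∈ N) : X q ∈ N := by
  have h1 : r ≠ s := by rintro rfl; omega
  have h2 : r ≠ D.neg s := by rintro rfl; rw [lev_neg hs] at hr1; omega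
  have e := conj_eq hr hs h1 h2
  rw [(X_of_oddTerm h).1] at e
  have e' : X s * X r * X s = X r * X q := Subtype.ext e
  have := mul_mem (inv_mem hx) (hN _ (X_mem_M hs hs0.ge) _ hx)
  rwa [X_inv s, e', inv_mul_cancel_left] at this

theorem level_spread {N : Subgroup G} (hN : ∀ m ∈ M, ∀ x ∈ N, m * x * m⁻¹ ∈ N) :
    ∀ r, r < D.nroots → 1 ≤ lev r → (X r ∈ N ↔ X ((cc D).T.levMin (lev r)) ∈ N) := by
  intro r
  induction r using Nat.strong_induction_on with
  | _ r ih =>
    intro hr h1
    have h : (cc D).T.checkChain = true := hD.chain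
    simp only [Tables.checkChain, List.all_eq_true, List.mem_range, Bool.or_eq_true,
      decide_eq_true_eq, Nat.beq_eq, List.any_eq_true, Bool.and_eq_true] at h
    rcases h r ((cc D).nroots_eq ▸ hr) with (h' | h') | ⟨j, hj, hj3, h'⟩
    · change lev r ≤ 0 at h'; omega
    · change r = (cc D).T.levMin (lev r) at h'; rw [← h']
    rw [Bool.not_eq_true'] at hj3
    have hj' : j < D.rank := (cc D).rank_eq ▸ hj
    have hne : j ≠ 3 := fun e => by subst e; simp at hj3
    have hα := (cc D).simple_lt hj'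
    have hl0 : lev (D.simple j) = 0 := by
      show (cc D).T.vec (D.simple j) 3 = 0
      rw [(cc D).vec_simple hj' three_lt, if_neg (Ne.symm hne)]
    have hl0' : lev (D.neg (D.simple j)) = 0 := by rw [lev_neg hα, hl0, neg_zero]
    rw [← (cc D).simple_eq hj', ← (cc D).neg_eq hα] at h'
    split at h'
    next q hq =>
      simp only [Bool.and_eq_true, decide_eq_true_eq, Nat.blt_eq] at h'
      obtain ⟨⟨hlt, hlev⟩, h''⟩ := h'
      split at h''
      next r' hr' =>
        obtain rfl : r' = r := Nat.eq_of_beq_eq_true h''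
        change lev q = lev r' at hlev
        have hq' : q < D.nroots := lt_trans hlt hr
        rw [← hlev] at h1 ⊢
        rw [← ih q hlt hq' h1]
        exact ⟨chain_step hN ((cc D).neg_lt hα) hl0' hr (by omega) hq,
          chain_step hN hα hl0 hq' h1 hr'⟩
      next => simp at h''
    next => simp at h'

theorem not_mem_A : ∀ i : ℕ, 1 ≤ i → i ≤ 6 → ∀ r < D.nroots, lev r = (i : ℤ) → X r ∉ A i := by
  intro i
  induction i with
  | zero => intro h; omega
  | succ i ih =>
    intro _ hi r hr hlev hx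
    have hN : ∀ m ∈ M, ∀ x ∈ A (i + 1), m * x * m⁻¹ ∈ A (i + 1) := fun m hm x hx =>
      Grp.iterCore_conj M M' hm (i + 1) hx
    have hall : ∀ r' < D.nroots, lev r' = lev r → X r' ∈ A (i + 1) := by
      intro r' hr' e
      rw [level_spread hN r' hr' (by omega), e]
      exact (level_spread hN r hr (by omega)).1 hx
    rcases Nat.eq_zero_or_pos i with rfl | hpos
    · have h := A_succ_le_sigma 0 (hall _ ((cc D).simple_lt three_lt) (by rw [lev_simple, hlev]; norm_num))
      rw [σ_simple] at h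
      exact neg_simple_notMem h
    · have h : (cc D).T.checkDropE8 = true := hD.drop
      simp only [Tables.checkDropE8, Bool.and_eq_true, List.all_eq_true, List.any_eq_true,
        List.mem_range, decide_eq_true_eq] at h
      obtain ⟨s, hs, hs1, hs2⟩ := h.2 i (by simp; omega)
      have hs' : s < D.nroots := (cc D).nroots_eq ▸ hs
      have h' := A_succ_le_sigma i (hall s hs' (by rw [hlev]; change lev s = _ at hs1; omega))
      rw [σ0, MulAut.conj_apply, g_conj hs'] at h'
      exact ih hpos (by omega) _ ((cc D).w_lt three_lt hs') hs2 h'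

theorem top_mem {N : Subgroup G} (hNM : N ≤ M) (hN : ∀ m ∈ M, ∀ x ∈ N, m * x * m⁻¹ ∈ N)
    (hne : N ≠ ⊥) : X (D.nroots - 1) ∈ N := by
  set R := D.unipotentRadical F₂ J
  have hRP : R ≤ D.parabolicSubgroup F₂ J := by
    rw [(cc D).parabolic_eq]; exact (cc D).radical_le_parGens J
  have hJ : ∃ i, i < D.rank ∧ i ∉ J := ⟨3, three_lt, fun h => h rfl⟩
  -- the intersection with the radical is nontrivial
  obtain ⟨w, hwN, hwR, hw1⟩ : ∃ w ∈ N, (w : GL D.Idx F₂) ∈ R ∧ w ≠ 1 := by
    by_contra hno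
    push Not at hno
    refine hne ((Subgroup.eq_bot_iff_forall _).2 fun x hx => hno x hx ?_)
    refine (cc D).centralizer_radical hD.link hJ ⟨hNM hx, Subgroup.mem_centralizer_iff.2 fun v hv => ?_⟩
    set v' : G := ⟨v, parabolic_le_group (hRP hv)⟩
    have h1 : v' * x * v'⁻¹ * x⁻¹ ∈ N := mul_mem (hN v' (hRP hv) x hx) (inv_mem hx)
    have h2 : ((v' * x * v'⁻¹ * x⁻¹ : G) : GL D.Idx F₂) ∈ R := by
      have := (Subgroup.mem_normalizer_iff.1 ((cc D).parabolic_le_normalizer J (hNM hx)) _).1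
        (inv_mem hv)
      simpa [v', mul_assoc] using mul_mem hv this
    have h3 := congrArg Subtype.val (mul_inv_eq_iff_eq_mul.1 (mul_inv_eq_one.1 (hno _ h1 h2)))
    simpa [v'] using h3
  -- take the deepest position in the filtration
  classical
  let P : ℕ → Prop := fun m => ∃ w ∈ N, (w : GL D.Idx F₂) ∈ (cc D).K F₂ m ∧ w ≠ 1
  have hP0 : P (cc D).T.h := ⟨w, hwN, by rw [← (cc D).posUnipotent_eq]; exact (cc D).U_J_le_U J hwR, hw1⟩
  have hPlt : ∀ m, P m → m < D.nroots := by
    rintro m ⟨x, -, hx, hx1⟩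
    by_contra hm
    rw [(cc D).K_eq_bot (by omega), Subgroup.mem_bot] at hx
    exact hx1 (Subtype.ext hx)
  set m := Nat.findGreatest P D.nroots
  have hmP : P m := Nat.findGreatest_spec (hPlt _ hP0).le hP0
  have hmh : (cc D).T.h ≤ m := Nat.le_findGreatest (hPlt _ hP0).le hP0
  have hmax : ¬ P (m + 1) := fun h => by
    have := Nat.le_findGreatest (hPlt _ h).le h
    omega
  have hm : (cc D).Pos m := ⟨hmh, hPlt m hmP⟩
  obtain ⟨x, hxN, hxK, hx1⟩ := hmP
  obtain ⟨v, hv⟩ := (cc D).exists_oprod _ m rfl hmh _ hxK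
  rw [(cc D).oprod_succ hm.2] at hv
  have hk : (cc D).oprod (m + 1) v ∈ (cc D).K F₂ (m + 1) := (cc D).oprod_mem (by omega) v
  rcases eq_zero_or_one (v m) with h0 | h0
  · rw [h0, (cc D).xg_zero, one_mul] at hv
    exact absurd ⟨x, hxN, hv ▸ hk, hx1⟩ hmax
  rw [h0] at hv
  by_cases htop : m = (D.nroots - 1)
  · rw [htop] at hv hk
    rw [(cc D).K_eq_bot (by have := hm.2; omega), Subgroup.mem_bot] at hk
    rw [hk, mul_one] at hv
    rwa [show X (D.nroots - 1) = x from Subtype.ext hv.symm]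
  exfalso
  have h : (cc D).T.checkRise = true := hD.rise
  simp only [Tables.checkRise, List.all_eq_true, List.mem_range, Bool.or_eq_true, List.any_eq_true,
    Nat.blt_eq, Nat.beq_eq, Bool.and_eq_true, Nat.ble_eq] at h
  rcases h m ((cc D).nroots_eq ▸ hm.2) with (h' | h') | ⟨s, hs, ⟨hsh, hsm⟩, h'⟩
  · exact absurd h' (by have := hm.1; omega)
  · exact htop (by rw [h', ← (cc D).nroots_eq])
  rw [Bool.not_eq_true'] at hsm
  have hne' : s ≠ m := fun e => by subst e; simp at hsm
  have hsp : (cc D).Pos s := ⟨hsh, (cc D).nroots_eq ▸ hs⟩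
  split at h'
  next q hq =>
    simp only [decide_eq_true_eq] at h'
    obtain ⟨hprod, z, hz, rfl⟩ := X_of_oddTerm hq
    obtain ⟨hqp, hsq, hmq⟩ := (cc D).commTerms_gt hsp hm hz
    have hnorm : ∀ {a k : GL D.Idx F₂}, a ∈ (cc D).K F₂ (cc D).T.h → k ∈ (cc D).K F₂ (z.1 + 1) →
        a * k * a⁻¹ ∈ (cc D).K F₂ (z.1 + 1) := fun {a k} ha hk =>
      (Subgroup.mem_normalizer_iff.1 ((cc D).K_le_normalizer (z.1 + 1) (cc D).T.h ha) k).1 hk
    have hdeep : ∀ k ∈ (cc D).K F₂ (m + 1),
        (cc D).xg s 1 * k * ((cc D).xg s (1 : F₂))⁻¹ * k⁻¹ ∈ (cc D).K F₂ (z.1 + 1) := by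
      intro k hk
      induction hk using Subgroup.closure_induction with
      | mem k hk =>
        obtain ⟨r, t, hr, hmr, rfl⟩ := hk
        rcases eq_zero_or_one t with rfl | rfl
        · simp [(cc D).xg_zero]
        by_cases hrs : r = s
        · subst hrs; simp
        have hns : r ≠ D.neg s := fun e => ((cc D).not_pos_iff hsp.2).2 (e ▸ hr) hsp
        rw [show ((cc D).xg s (1 : F₂))⁻¹ = (cc D).xg s 1 by rw [(cc D).xg_inv, neg_one],
          conj_eq hr.2 hsp.2 hrs hns]
        refine hnorm ((cc D).xg_mem_K hr (by omega) 1) (Subgroup.list_prod_mem _ fun y hy => ?_)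
        obtain ⟨u, hu, rfl⟩ := List.mem_map.1 hy
        obtain ⟨hu1, -, -⟩ := (cc D).commTerms_gt hsp hr hu
        refine (cc D).xg_mem_K hu1 ?_ _
        obtain ⟨-, hi, hj, hcode⟩ := (cc D).mem_commTerms hsp.2 hr.2 hu
        have hps := ((cc D).pos_iff_code hsp.2).1 hsp
        have hpr := ((cc D).pos_iff_code hr.2).1 hr
        have hlt : (cc D).T.code m < (cc D).T.code r := by
          by_contra hle
          push Not at hle
          have := ((cc D).code_le_iff hr.2 hm.2).1 hle
          omega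
        have hi' : (1 : ℤ) ≤ u.2.2.1 := by exact_mod_cast hi
        have hj' : (1 : ℤ) ≤ u.2.2.2 := by exact_mod_cast hj
        by_contra hle
        push Not at hle
        have := ((cc D).code_le_iff hu1.2 hqp.2).2 (by omega)
        nlinarith
      | one => simp [one_mem]
      | mul a b ha _ iha ihb =>
        rw [show (cc D).xg s (1 : F₂) * (a * b) * ((cc D).xg s 1)⁻¹ * (a * b)⁻¹ =
          ((cc D).xg s 1 * a * ((cc D).xg s 1)⁻¹ * a⁻¹) *
            (a * ((cc D).xg s 1 * b * ((cc D).xg s 1)⁻¹ * b⁻¹) * a⁻¹) by group]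
        exact mul_mem iha (hnorm ((cc D).K_le (by omega) ha) ihb)
      | inv a ha iha =>
        rw [show (cc D).xg s (1 : F₂) * a⁻¹ * ((cc D).xg s 1)⁻¹ * a⁻¹⁻¹ =
          a⁻¹ * ((cc D).xg s 1 * a * ((cc D).xg s 1)⁻¹ * a⁻¹)⁻¹ * a⁻¹⁻¹ by group]
        exact hnorm (inv_mem ((cc D).K_le (by omega) ha)) (inv_mem iha)
    -- the commutator with `x_s`
    set y := X s * x * (X s)⁻¹ * x⁻¹
    have hyN : y ∈ N := mul_mem (hN _ (X_mem_M hsp.2 (lev_nonneg hsp)) _ hxN) (inv_mem hxN)
    have hyv : (y : GL D.Idx F₂) = (cc D).xg s (1 : F₂) * (x : GL D.Idx F₂) * ((cc D).xg s (1 : F₂))⁻¹ * (x : GL D.Idx F₂)⁻¹ :=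
      rfl
    have hyK : (y : GL D.Idx F₂) ∈ (cc D).K F₂ (m + 1) := by
      rw [hyv]; exact (cc D).commutator_K_le hsp 1 hxK
    have hy1 : y = 1 := by
      by_contra hy1
      exact hmax ⟨y, hyN, hyK, hy1⟩
    set k := (cc D).oprod (m + 1) v
    have hcomm : (cc D).xg s (1 : F₂) * (cc D).xg m 1 * (cc D).xg s 1 = (cc D).xg m 1 * (cc D).xg z.1 1 := by
      rw [conj_eq hm.2 hsp.2 (Ne.symm hne')
        (fun e => ((cc D).not_pos_iff hsp.2).2 (e ▸ hm) hsp), hprod]
    have hkey : (cc D).xg m (1 : F₂) * (cc D).xg z.1 1 * ((cc D).xg m 1)⁻¹ *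
        ((cc D).xg m 1 * ((cc D).xg s 1 * k * ((cc D).xg s (1 : F₂))⁻¹ * k⁻¹) * ((cc D).xg m 1)⁻¹) = 1 := by
      have h1 := congrArg Subtype.val hy1
      rw [hyv, hv, Subgroup.coe_one] at h1
      rw [← hcomm]
      have hinv : ((cc D).xg s (1 : F₂))⁻¹ = (cc D).xg s 1 := by rw [(cc D).xg_inv, neg_one]
      rw [show (cc D).xg s (1 : F₂) * (cc D).xg m 1 * (cc D).xg s 1 =
        (cc D).xg s 1 * (cc D).xg m 1 * ((cc D).xg s (1 : F₂))⁻¹ by rw [hinv]]
      refine Eq.trans ?_ h1
      group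
    have h2 : (cc D).xg z.1 (1 : F₂) * ((cc D).xg s 1 * k * ((cc D).xg s (1 : F₂))⁻¹ * k⁻¹) = 1 := by
      have h3 : (cc D).xg m (1 : F₂) * ((cc D).xg z.1 1 * ((cc D).xg s 1 * k * ((cc D).xg s (1 : F₂))⁻¹ * k⁻¹)) *
          ((cc D).xg m 1)⁻¹ = 1 := by rw [← hkey]; group
      rwa [conj_eq_one_iff] at h3
    have h4 : (cc D).xg z.1 (1 : F₂) ∈ (cc D).K F₂ (z.1 + 1) := by
      rw [eq_inv_of_mul_eq_one_left h2]
      exact inv_mem (hdeep k hk)
    exact one_ne_zero ((cc D).eq_zero_of_mem_K (by omega) hqp (by omega) h4)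
  next => simp at h'

theorem A_six : A 6 = ⊥ := by
  by_contra hne
  refine not_mem_A 6 (by norm_num) le_rfl (D.nroots - 1) (by have := (cc D).simple_lt three_lt; omega) ?_
    (top_mem (Grp.iterCore_le_left M M' 6) (fun m hm x hx => Grp.iterCore_conj M M' hm 6 hx) hne)
  rw [lev0, (show (cc D).T.vec (D.nroots - 1) 3 = 6 from hD.top)]; norm_num

include hD in
/-- The example of iterated cores. -/
theorem exists_example : ∃ (H : Type) (_ : Group H) (_ : Finite H) (M₁ M₂ : Subgroup H) (h : H)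
    (A₁ B₁ : ℕ → Subgroup H),
      IsCoatom M₁ ∧ M₂ = M₁.map (MulAut.conj h).toMonoidHom ∧ M₁ ≠ M₂ ∧ M₁.normalCore = ⊥ ∧
      A₁ 0 = M₁ ∧ B₁ 0 = M₂ ∧
      (∀ i, A₁ (i + 1) = ((A₁ i ⊓ B₁ i).subgroupOf M₁).normalCore.map M₁.subtype) ∧
      (∀ i, B₁ (i + 1) = ((A₁ i ⊓ B₁ i).subgroupOf M₂).normalCore.map M₂.subtype) ∧
      A₁ 6 = ⊥ ∧ A₁ 5 ≠ ⊥ :=
  ⟨G, inferInstance, inferInstance, M, M', gg, A, fun i => (Grp.iterCore M M' i).2, isCoatom_M, rfl,
    M_ne, normalCore_M, rfl, rfl, fun _ => rfl, fun _ => rfl, A_six, A_five⟩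

end CoresE8

theorem checkChainE8 : certFullE8.T.checkChain = true := by decide +kernel

theorem checkDropE8 : certFullE8.T.checkDropE8 = true := by decide +kernel

theorem checkRiseE8 : certFullE8.T.checkRise = true := by decide +kernel

theorem checkTopE8 : certFullE8.T.vec 239 3 = 6 := by decide +kernel

theorem nrootsE8 : Cfsg.Lie.chevE8.nroots = 240 := rfl

theorem checkLinkE8 : certFullE8.T.checkLink = true := by decide +kernel

/-- The table of `E₈`. -/
theorem exists_coresTableE8 : Nonempty (CoresE8.Table Cfsg.Lie.chevE8) :=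
  ⟨{ cert := certFullE8
     three_lt := by show (3 : ℕ) < 8; norm_num
     chain := checkChainE8
     drop := checkDropE8
     rise := checkRiseE8
     top := by rw [nrootsE8]; exact checkTopE8
     link := checkLinkE8
     conn := connE8
     perf := perfectE8 }⟩

end Cfsg.Agent.Lie.Chev
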