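import Cfsg.Agent.Lib.Lie.Chev.SteinbergInst
import Mathlib.FieldTheory.Finite.Basic
import Mathlib.NumberTheory.LegendreSymbol.QuadraticChar.Basic

/-! Over a finite field the relations (R3) follow from (R1) and (R2). -/

set_option autoImplicit false

namespace Cfsg.Agent.Lie.Chev

open Cfsg.Lie

/-- In a finite field of odd characteristic some non-square plus another one is one. -/
theorem exists_nonsquare_add {F : Type*} [Field F] [Finite F] (h2 : (2 : F) ≠ 0) :
    ∃ t : F, ¬ IsSquare t ∧ ¬ IsSquare (1 - t) := by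
  haveI := Fintype.ofFinite F
  classical
  by_contra hcon
  push Not at hcon
  obtain ⟨a, ha⟩ := FiniteField.exists_nonsquare (F := F) fun h => h2 (by
    have h' := ringChar.Nat.cast_ringChar (R := F)
    rw [h] at h'
    exact_mod_cast h')
  set N := Finset.univ.filter fun t : F => ¬ IsSquare t
  set S := Finset.univ.filter fun t : F => IsSquare t ∧ t ≠ 0
  have ha0 : a ≠ 0 := fun e => ha (e ▸ IsSquare.zero)
  have hmaps : ∀ t ∈ N, 1 - t ∈ S := by
    intro t ht
    simp only [N, S, Finset.mem_filter, Finset.mem_univ, true_and] at ht ⊢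
    exact ⟨hcon t ht, fun e => ht (by rw [← sub_eq_zero.1 e]; exact IsSquare.one)⟩
  have hcard : S.card ≤ N.card := by
    refine Finset.card_le_card_of_injOn (fun s => a * s) (fun s hs => ?_)
      (fun x _ y _ e => mul_left_cancel₀ ha0 e)
    simp only [N, S, Finset.coe_filter, Finset.mem_univ, true_and, Set.mem_setOf_eq] at hs ⊢
    intro h
    refine ha ?_
    have := h.div hs.1
    rwa [mul_div_cancel_right₀ a hs.2] at this
  obtain ⟨t, ht, e⟩ := Finset.surj_on_of_inj_on_of_card_le (fun t _ => 1 - t) hmaps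
    (fun x y _ _ e => sub_right_injective e) hcard 1
    (by simp [S, IsSquare.one])
  simp only [N, Finset.mem_filter, Finset.mem_univ, true_and] at ht
  exact ht (by rw [show t = 0 by linear_combination e]; exact IsSquare.zero)

namespace CertFull

variable {D : ChevalleyDatum} (c : CertFull D) {F : Type*} [Field F]
include c

theorem eta_simple {p : ℕ} (hp : p < D.rank) : (c.T.eta p (D.simple p) : F) = -1 := by
  have hα := c.simple_lt hp
  have hn := c.neg_lt hα
  have hne := c.neg_ne hα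
  have h1 := c.n_evec (F := F) hp hα
  rw [c.w_simple hp, ← Cert.ng_val c.toCert, Cert.ng, Units.val_mul, Units.val_mul, Cert.xg_val,
    Cert.xg_val, ← Matrix.mulVec_mulVec, ← Matrix.mulVec_mulVec, c.x_evec_self hα] at h1
  have h2 := c.x_evec_neg hn (-(1 : F)⁻¹)
  rw [c.neg_neg hα] at h2
  rw [h2, c.hroot_eq_sum, Matrix.mulVec_sub, Matrix.mulVec_add, Matrix.mulVec_smul,
    Matrix.mulVec_smul, c.x_evec_self hα, c.x_evec_neg hα, Matrix.mulVec_sum] at h1
  have h3 := congrFun h1 (Sum.inr ⟨D.neg (D.simple p), hn⟩)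
  simp only [Pi.sub_apply, Pi.add_apply, Pi.smul_apply, Finset.sum_apply,
    Matrix.mulVec_smul, smul_eq_mul] at h3
  rw [Finset.sum_eq_zero fun i hi => ?_] at h3
  · simpa [evec, hne, hne.symm, Cert.hroot] using h3.symm
  · rw [c.x_hvec hα (Finset.mem_range.1 hi)]
    simp [evec, hvec, hne, hne.symm]

end CertFull

namespace StData

variable {D : ChevalleyDatum} {c : CertFull D} {F : Type*} [Field F] {Γ : Type*} [Group Γ]
  (A : StData c F Γ)

theorem h_one {r : ℕ} (hr : r < D.nroots) : A.h r (1 : F) = 1 := by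
  rw [h, ← A.n_inv hr, mul_inv_cancel]

/-- `n_α(t) = n_{-α}(-1/t)` conjugation of a fundamental root element by its reflection. -/
theorem n_conj_self (hN : checkNbr c.T = true) {p : ℕ} (hp : p < D.rank) {t : F} (ht : t ≠ 0)
    (u : F) : A.n (D.simple p) t * A.X (D.simple p) u * (A.n (D.simple p) t)⁻¹ =
      A.X (D.neg (D.simple p)) (-(u * t⁻¹ ^ 2)) := by
  have hα := c.simple_lt hp
  obtain ⟨v, hv⟩ : ∃ v : F, A.n (D.simple p) t * A.X (D.simple p) u * (A.n (D.simple p) t)⁻¹ =
      A.X (D.neg (D.simple p)) v := by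
    obtain ⟨a, rfl⟩ : ∃ a : Fˣ, (a : F) = t := ⟨Units.mk0 t ht, rfl⟩
    rw [A.n_eq_h_mul hp, show A.h (D.simple p) (a : F) * A.np p * A.X (D.simple p) u *
      (A.h (D.simple p) (a : F) * A.np p)⁻¹ = A.h (D.simple p) (a : F) *
        (A.np p * A.X (D.simple p) u * (A.np p)⁻¹) * (A.h (D.simple p) (a : F))⁻¹ by group,
      np, A.np_conj hN hp hα, c.w_simple hp, A.h_conj hN hp a (c.neg_lt hα)]
    exact ⟨_, rfl⟩
  rw [hv]
  congr 1
  have h := congrArg A.θ hv
  rw [map_mul, map_mul, map_inv, A.θn hα, A.θX _ hα, A.θX _ (c.neg_lt hα)] at h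
  -- compare on the line of the negative root
  have h1 : c.ng (D.simple p) t * c.xg (D.simple p) u =
      c.xg (D.neg (D.simple p)) (-(u * t⁻¹ ^ 2)) * c.ng (D.simple p) t := by
    obtain ⟨a, rfl⟩ : ∃ a : Fˣ, (a : F) = t := ⟨Units.mk0 t ht, rfl⟩
    rw [c.ng_eq_hg_mul_np, mul_assoc, Cert.np, c.ng_conj hp hα, c.w_simple hp, ← mul_assoc,
      c.hg_mul_xg hα (c.neg_lt hα) a, c.eta_simple hp, mul_assoc]
    congr 2
    have hpair : c.T.pairing (D.simple p) (D.neg (D.simple p)) = -2 := by
      rw [c.pairing_simple hp, c.cartan_neg hp hα, ← c.pairing_simple hp, c.pairing_self hp]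
    rw [hpair, Units.val_zpow_eq_zpow_val, _root_.zpow_neg, zpow_two]
    field_simp
  rw [h1, mul_inv_cancel_right] at h
  exact c.xg_inj (c.neg_lt hα) h.symm

/-- The central symbols of one root. -/
theorem h_mul_of_finite [Finite F] (hN : checkNbr c.T = true) {p : ℕ} (hp : p < D.rank)
    (a b : Fˣ) : A.h (D.simple p) (a : F) * A.h (D.simple p) (b : F) =
      A.h (D.simple p) ((a * b : Fˣ) : F) := by
  have hα := c.simple_lt hp
  have hnα := c.neg_lt hα
  set α := D.simple p
  set h : Fˣ → Γ := fun a => A.h α (a : F)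
  -- the elements `h` generate an abelian group
  set T := Subgroup.closure (Set.range h)
  let P : Fˣ →* GL D.Idx F :=
    MonoidHom.mk' (fun a => c.hg α (a : F)) fun a b => by
      rw [c.hg_eq hα, c.hg_eq hα, c.hg_eq hα, ← map_mul]
      refine dg_ext D F fun s _ => ?_
      simp only [Pi.mul_apply, CertFull.pairChar, mul_zpow]
  have hTP : T ≤ P.range.comap A.θ := by
    refine (Subgroup.closure_le _).2 ?_
    rintro g ⟨x, rfl⟩
    exact ⟨x, (A.θh hα _).symm⟩
  haveI : IsCyclic P.range := isCyclic_of_surjective P.rangeRestrict P.rangeRestrict_surjective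
  let f : ↥T →* ↥P.range := (A.θ.comp T.subtype).codRestrict P.range fun g => hTP g.2
  have hf : f.ker ≤ Subgroup.center ↥T := by
    intro g hg
    have h1 : A.θ g = 1 := congrArg Subtype.val hg
    rw [Subgroup.mem_center_iff]
    exact fun x => Subtype.ext (Subgroup.mem_center_iff.1 (A.ker_le hN h1).2 x)
  have hcomm : ∀ x y : Fˣ, h x * h y = h y * h x := fun x y =>
    congrArg Subtype.val (commutative_of_cyclic_center_quotient f hf
      ⟨h x, Subgroup.subset_closure ⟨x, rfl⟩⟩ ⟨h y, Subgroup.subset_closure ⟨y, rfl⟩⟩)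
  -- squares are multiplicative
  have hchi : ∀ x : Fˣ, chi (c := c) p x α = x ^ (2 : ℕ) := by
    intro x
    have h1 := c.hg_eq hα x
    rw [c.hg_eq_torus hα, Cert.torus_apply, dg_eq_iff] at h1
    rw [chi, h1 _ hα, CertFull.pairChar, c.pairing_self hp, ← zpow_natCast]
    rfl
  have hsq : ∀ x y : Fˣ, h y * h (x ^ 2) = h (x ^ 2 * y) := by
    intro x y
    have e1 := A.h_conj_n hN hp x hα (y : F)
    have e2 := A.h_conj_n hN hp x hα (-1 : F)
    rw [mul_neg_one] at e2
    rw [hchi, ← Units.val_mul] at e1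
    rw [hchi] at e2
    have e3 : h x * h y * (h x)⁻¹ = h (x ^ 2 * y) * (h (x ^ 2))⁻¹ := by
      have e4 := A.n_mul_n hp (a := ((x ^ 2 * y : Fˣ) : F)) (b := -((x ^ 2 : Fˣ) : F))
      rw [neg_neg] at e4
      show _ = A.h α _ * (A.h α _)⁻¹
      rw [← e4, ← e1, ← e2]
      simp only [h, StData.h, α]
      group
    rw [hcomm x y, mul_inv_cancel_right] at e3
    rw [e3, inv_mul_cancel_right]
  -- the Steinberg relation
  have hst : ∀ t u : Fˣ, (t : F) + u = 1 → h u * h t = h (t * u) := by
    intro t u htu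
    have ht := t.ne_zero
    have hu := u.ne_zero
    set X := A.X α
    set Y := A.X (D.neg α)
    set n := A.n α
    have hn : ∀ z : F, n z = X z * Y (-z⁻¹) * X z := fun z => rfl
    have hX : ∀ y z : F, X y * X z = X (y + z) := A.add α hα
    have hY : ∀ y z : F, Y y * Y z = Y (y + z) := A.add _ hnα
    have hX0 : X 0 = 1 := A.X_zero hα
    have hY0 : Y 0 = 1 := A.X_zero hnα
    have i1 : ∀ z : F, X z = n z * X (-z) * Y z⁻¹ := fun z => by
      rw [hn, mul_assoc (X z * Y (-z⁻¹)), hX, add_neg_cancel, hX0, mul_one, mul_assoc, hY,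
        neg_add_cancel, hY0, mul_one]
    have i2 : ∀ z : F, X z = Y z⁻¹ * X (-z) * n z := fun z => by
      rw [hn, ← mul_assoc, ← mul_assoc, mul_assoc (Y z⁻¹), hX, neg_add_cancel, hX0, mul_one, hY,
        add_neg_cancel, hY0, one_mul]
    have i3 : ∀ z : F, Y z⁻¹ = X z * n (-z) * X z := fun z => by
      rw [hn, inv_neg, neg_neg, ← mul_assoc, ← mul_assoc, hX, add_neg_cancel, hX0, one_mul,
        mul_assoc, hX, neg_add_cancel, hX0, mul_one]
    have i4 : ∀ z : F, z ≠ 0 → n z * X (-z ^ 2) = Y 1 * n z := fun z hz => by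
      have e := A.n_conj_self hN hp hz (-z ^ 2)
      rw [show -(-z ^ 2 * z⁻¹ ^ 2) = (1 : F) by field_simp] at e
      exact mul_inv_eq_iff_eq_mul.1 e
    have i5 : ∀ z : F, z ≠ 0 → X (-z ^ 2) * n z = n z * Y 1 := fun z hz => by
      have e := A.n_conj_self hN hp (neg_ne_zero.2 hz) (-z ^ 2)
      rw [show -(-z ^ 2 * (-z)⁻¹ ^ 2) = (1 : F) by field_simp] at e
      change A.n α (-z) * X (-z ^ 2) * (A.n α (-z))⁻¹ = Y 1 at e
      rw [← A.n_inv hα, inv_inv] at e
      rw [← e]
      show _ = A.n α z * _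
      group
      rfl
    have e1 : n t * n (-((t : F) * u)) * n u = n 1 := by
      have hs : ((t : F))⁻¹ + (u : F)⁻¹ = ((t : F) * u)⁻¹ := by
        field_simp
        linear_combination htu
      have key : Y 1 * (n t * n (-((t : F) * u)) * n u) * Y 1 = Y 1 * n 1 * Y 1 := by
        have a1 : -(t : F) + t * u = -(t : F) ^ 2 := by linear_combination (t : F) * htu
        have a2 : (t : F) * u + -(u : F) = -(u : F) ^ 2 := by linear_combination (u : F) * htu
        calc Y 1 * (n t * n (-((t : F) * u)) * n u) * Y 1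
            = (Y 1 * n t) * n (-((t : F) * u)) * (n u * Y 1) := by group
          _ = (n t * X (-(t : F) ^ 2)) * n (-((t : F) * u)) * (X (-(u : F) ^ 2) * n u) := by
              rw [i4 _ ht, i5 _ hu]
          _ = n t * X (-(t : F)) * (X ((t : F) * u) * n (-((t : F) * u)) * X ((t : F) * u)) *
              X (-(u : F)) * n u := by rw [← a1, ← a2, ← hX, ← hX]; group
          _ = (n t * X (-(t : F)) * Y (t : F)⁻¹) * (Y (u : F)⁻¹ * X (-(u : F)) * n u) := by
              rw [← i3, ← hs, ← hY]; group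
          _ = X ((t : F) + u) := by rw [← i1, ← i2, hX]
          _ = (n 1 * X (-(1 : F) ^ 2)) * Y 1 := by
              rw [htu, one_pow]
              conv_lhs => rw [i1 1, inv_one]
          _ = _ := by rw [i4 _ one_ne_zero]
      exact mul_left_cancel (mul_right_cancel key)
    have e2 : A.n α u = A.n α ((t * u : Fˣ) : F) * A.n α (-(t : F)) * A.n α 1 := by
      show _ = _ * n 1
      rw [← e1]
      show _ = _ * (A.n α t * A.n α _ * A.n α u)
      rw [← A.n_inv hα (t : F), ← A.n_inv hα ((t : F) * u), Units.val_mul]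
      group
    have e3 : h u = h (t * u) * (h t)⁻¹ := by
      show A.h α _ = _ * (A.h α _)⁻¹
      rw [← neg_neg (t : F), ← A.n_mul_n hp, StData.h, e2, mul_assoc _ (A.n α 1), ← A.n_inv hα 1,
        mul_inv_cancel, mul_one]
    rw [e3, inv_mul_cancel_right]
  -- conclusion
  suffices h a * h b = h (a * b) from this
  have hrep : ∀ g x : Fˣ, h (x ^ 2 * g) = h g * h (x ^ 2) := fun g x => (hsq x g).symm
  by_cases h2 : (2 : F) = 0
  · haveI : CharP F 2 := CharTwo.of_one_ne_zero_of_two_eq_zero one_ne_zero h2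
    obtain ⟨z, hz⟩ := FiniteField.isSquare_of_char_two (F := F)
      (ringChar.eq F 2) (b : F)
    have hz0 : z ≠ 0 := fun e => b.ne_zero (by rw [hz, e, zero_mul])
    have hb : b = Units.mk0 z hz0 ^ 2 := Units.ext (by simp [hz, sq])
    rw [hb, hsq, mul_comm a]
  obtain ⟨t, ht, hu⟩ := exists_nonsquare_add (F := F) h2
  have ht0 : t ≠ 0 := fun e => ht (e ▸ IsSquare.zero)
  have hu0 : 1 - t ≠ 0 := fun e => hu (e ▸ IsSquare.zero)
  set g : Fˣ := Units.mk0 t ht0
  have hcl : ∀ x : Fˣ, ∃ y : Fˣ, x = y ^ 2 ∨ x = y ^ 2 * g := by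
    intro x
    by_cases hx : IsSquare (x : F)
    · obtain ⟨z, hz⟩ := hx
      have hz0 : z ≠ 0 := fun e => x.ne_zero (by rw [hz, e, zero_mul])
      exact ⟨Units.mk0 z hz0, Or.inl (Units.ext (by simp [hz, sq]))⟩
    · have h3 : IsSquare ((x : F) * t) := by
        classical
        haveI := Fintype.ofFinite F
        rw [← quadraticChar_one_iff_isSquare (mul_ne_zero x.ne_zero ht0), map_mul,
          quadraticChar_neg_one_iff_not_isSquare.2 hx, quadraticChar_neg_one_iff_not_isSquare.2 ht]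
        rfl
      obtain ⟨z, hz⟩ := h3
      have hz0 : z ≠ 0 := fun e => mul_ne_zero x.ne_zero ht0 (by rw [hz, e, zero_mul])
      refine ⟨Units.mk0 (z / t) (div_ne_zero hz0 ht0), Or.inr (Units.ext ?_)⟩
      simp only [Units.val_mul, Units.val_pow_eq_pow_val, Units.val_mk0, g]
      field_simp
      linear_combination hz
  have hgg : h g * h g = h (g * g) := by
    obtain ⟨y, hy | hy⟩ := hcl (Units.mk0 _ hu0)
    · exact absurd (⟨(y : F), by
        have := congrArg Units.val hy; simpa [sq] using this⟩ : IsSquare (1 - t)) hu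
    have e := hst g (Units.mk0 _ hu0) (by simp [g])
    rw [hy, hrep, show g * (y ^ 2 * g) = y ^ 2 * (g * g) by rw [mul_left_comm], hrep, mul_assoc,
      ← hcomm g, ← mul_assoc] at e
    exact mul_right_cancel e
  obtain ⟨x, rfl | rfl⟩ := hcl a <;> obtain ⟨y, rfl | rfl⟩ := hcl b
  · rw [hsq, mul_comm]
  · rw [hcomm, hsq]
  · rw [hsq, mul_comm]
  · rw [hrep g x, hrep g y, show x ^ 2 * g * (y ^ 2 * g) = (x * y) ^ 2 * (g * g) by
      rw [mul_pow]; ac_rfl, hrep, ← hgg]
    have e4 : h (x ^ 2) * h (y ^ 2) = h ((x * y) ^ 2) := by rw [hsq, mul_pow, mul_comm]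
    rw [← e4, mul_assoc (h g), ← mul_assoc (h (x ^ 2)), hcomm (x ^ 2) g]
    group

/-- The relation (R3) for every root over a finite field. -/
theorem h_mul_all [Finite F] (hN : checkNbr c.T = true) {r : ℕ} (hr : r < D.nroots) :
    ∀ a b : Fˣ, A.h r (a : F) * A.h r (b : F) = A.h r ((a * b : Fˣ) : F) := by
  refine c.root_induction (P := fun r => ∀ a b : Fˣ,
    A.h r (a : F) * A.h r (b : F) = A.h r ((a * b : Fˣ) : F))
    (fun p hp a b => A.h_mul_of_finite hN hp a b) (fun p hp r hr hR a b => ?_) r hr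
  have hη : (c.T.eta p r : F) * c.T.eta p r = 1 := c.eta_F_sq p r
  let η : Fˣ := ⟨c.T.eta p r, c.T.eta p r, hη, hη⟩
  have key : ∀ x : Fˣ, A.h (c.w p r) (x : F) = A.np p * A.h r (x : F) * (A.np p)⁻¹ := by
    intro x
    have e1 := A.np_conj_n hN hp hr (((η * x : Fˣ) : F))
    have e2 := A.np_conj_n hN hp hr (-(η : F))
    rw [Units.val_mul, ← mul_assoc, hη, one_mul] at e1
    rw [mul_neg, hη] at e2
    have e3 : A.h r ((η * x : Fˣ) : F) = A.h r (η : F) * A.h r (x : F) := (hR η x).symm
    have e4 : A.h r (x : F) = A.n r ((η * x : Fˣ) : F) * A.n r (-(η : F)) := by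
      rw [StData.h, StData.h] at e3
      have hi : (A.h r (η : F))⁻¹ = A.n r 1 * A.n r (-(η : F)) := by
        rw [StData.h, _root_.mul_inv_rev, A.n_inv hr, A.n_inv hr, neg_neg]
      have hc : A.h r (x : F) = A.h r ((η * x : Fˣ) : F) * (A.h r (η : F))⁻¹ := by
        rw [← hR η x, hR η x, mul_comm η x, ← hR x η, mul_inv_cancel_right]
      rw [hc, hi, StData.h, mul_assoc, ← mul_assoc (A.n r (-1)), ← A.n_inv hr 1, inv_mul_cancel,
        one_mul]
    rw [e4, StData.h, ← e1, ← e2, Units.val_mul]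
    group
  rw [key a, key b, key (a * b), ← hR a b]
  group

end StData

namespace CertFull

variable {D : ChevalleyDatum} (c : CertFull D) (F : Type*) [Field F]
include c

theorem stCover_h (r : ℕ) (t : F) :
    (c.stCoverData F).h r t = PresentedGroup.mk (D.steinbergRelsAB F) (D.stH r t) := by
  rw [ChevalleyDatum.stH, ChevalleyDatum.stWord, ChevalleyDatum.hWord, ChevalleyDatum.nWord,
    ChevalleyDatum.nWord]
  simp only [List.cons_append, List.nil_append, List.map_cons, List.map_nil, List.prod_cons,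
    List.prod_nil, map_mul, map_one, mul_one, StData.h, StData.n, stCoverData, stData, mul_assoc]

/-- Over a finite field the two presented groups agree. -/
theorem exists_cover_equiv [Finite F] (hN : checkNbr c.T = true) :
    ∃ e : D.SteinbergCover F ≃* D.SteinbergGroup F,
      ∀ (r : ℕ) (t : F), e (D.scGen F r t) = D.stGen F r t := by
  have e1 : ∀ g ∈ D.steinbergRelsAB F, PresentedGroup.mk (D.steinbergRels F) g = 1 :=
    fun g hg => PresentedGroup.one_of_mem (Or.inl hg)
  have e2 : ∀ g ∈ D.steinbergRels F, PresentedGroup.mk (D.steinbergRelsAB F) g = 1 := by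
    rintro g (hg | ⟨r, t, u, hr, ht, hu, rfl⟩)
    · exact PresentedGroup.one_of_mem hg
    · rw [map_mul, map_mul, map_inv, ← c.stCover_h, ← c.stCover_h, ← c.stCover_h, mul_inv_eq_one]
      exact (c.stCoverData F).h_mul_all hN hr (Units.mk0 t ht) (Units.mk0 u hu)
  have h1 : Subgroup.normalClosure (D.steinbergRelsAB F) ≤
      Subgroup.normalClosure (D.steinbergRels F) :=
    Subgroup.normalClosure_mono Set.subset_union_left
  have h2 : Subgroup.normalClosure (D.steinbergRels F) ≤
      Subgroup.normalClosure (D.steinbergRelsAB F) :=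
    Subgroup.normalClosure_le_normal fun g hg =>
      (QuotientGroup.eq_one_iff g).1 (e2 g hg)
  exact ⟨QuotientGroup.quotientMulEquivOfEq (le_antisymm h1 h2), fun r t => rfl⟩

end CertFull

end Cfsg.Agent.Lie.Chev
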