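import Cfsg.Agent.Lib.Grp.EigenSplit

/-! The dimension count for representations of the unipotent radical of the parabolic of the
long root in ³D₄(q), stated for abstract operators. -/

set_option autoImplicit false
set_option linter.unusedSectionVars false

namespace Cfsg.Agent.Lie.Chev.D4Deg

open Module Cfsg.Agent.Grp.EigenSplit

/-- The operators and their relations. -/
structure Ops (K F : Type*) [Field K] [Field F] (ι : F →+* K) (V : Type*) [AddCommGroup V]
    [Module ℂ V] where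
  /-- The trace. -/
  T : K →+ F
  /-- The norm. -/
  N : K → F
  T_ne : ∃ c, T c ≠ 0
  T_smul : ∀ b c, T (ι b * c) = b * T c
  N_surj : ∀ b : F, ∃ t : K, N t = b
  N_ne : ∀ s : K, s ≠ 0 → N s ≠ 0
  N_zero : N 0 = 0
  /-- Operators. -/
  A : K → End ℂ V
  B : F → End ℂ V
  C : K → End ℂ V
  E : F → End ℂ V
  Z : F → End ℂ V
  X : K → (End ℂ V)ˣ
  act_A : IsAct A
  act_B : IsAct B
  act_C : IsAct C
  act_E : IsAct E
  act_Z : IsAct Z
  Z_A : ∀ z a, Commute (Z z) (A a)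
  Z_B : ∀ z b, Commute (Z z) (B b)
  Z_C : ∀ z c, Commute (Z z) (C c)
  Z_E : ∀ z e, Commute (Z z) (E e)
  Z_X : ∀ z t, Commute (Z z) (X t : End ℂ V)
  B_A : ∀ b a, Commute (B b) (A a)
  B_C : ∀ b c, Commute (B b) (C c)
  E_A : ∀ e a, Commute (E e) (A a)
  E_C : ∀ e c, Commute (E e) (C c)
  E_X : ∀ e t, Commute (E e) (X t : End ℂ V)
  B_E : ∀ b e, B b * E e = E e * B b * Z (e * b)
  A_C : ∀ a c, A a * C c = C c * A a * Z (-T (a * c))
  X_C : ∀ t c, (X t : End ℂ V) * C c = C c * X t * E (-T (t * c))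
  X_B : ∀ t b, ∃ a c z, (X t : End ℂ V) * B b = B b * A a * C c * Z z * E (-(b * N t)) * X t
  moveZ : ∃ n : (End ℂ V)ˣ, ∀ e, (n : End ℂ V) * E e = Z e * n
  moveB : ∃ n : (End ℂ V)ˣ, ∀ e, (n : End ℂ V) * E e = B e * n
  scaleZ : ∀ t : F, t ≠ 0 → ∃ h : (End ℂ V)ˣ, ∀ z, (h : End ℂ V) * Z z = Z (t * z) * h
  torus : ∀ s : K, s ≠ 0 → ∃ h : (End ℂ V)ˣ, (∀ e, (h : End ℂ V) * E e = E e * h) ∧
    (∀ z, (h : End ℂ V) * Z z = Z (N s * z) * h) ∧
    (∀ b, (h : End ℂ V) * B b = B (N s * b) * h) ∧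
    (∀ a, (h : End ℂ V) * A a = A (s ^ 2 * a) * h) ∧
    ∀ d, ∃ c, (h : End ℂ V) * C c = C d * h
  nontriv : ∃ z, Z z ≠ 1

theorem units_injective {V : Type*} [AddCommGroup V] [Module ℂ V] (u : (End ℂ V)ˣ) :
    Function.Injective (u : End ℂ V) := fun v w e => by
  have := congrArg ((u⁻¹ : (End ℂ V)ˣ) : End ℂ V) e
  rwa [← End.mul_apply, ← End.mul_apply, Units.inv_mul] at this

theorem act_injective {P V : Type*} [AddCommGroup P] [AddCommGroup V] [Module ℂ V]
    {φ : P → End ℂ V} (hφ : IsAct φ) (p : P) : Function.Injective (φ p) := fun v w e => by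
  have := congrArg (φ (-p)) e
  rwa [← End.mul_apply, ← End.mul_apply, ← hφ.map_add, neg_add_cancel, hφ.map_zero] at this

theorem sum_split {ι : Type*} [Fintype ι] [DecidableEq ι] (i₀ : ι) (f : ι → ℕ) (a : ℕ)
    (h : ∀ i, i ≠ i₀ → f i = a) : ∑ i, f i = f i₀ + (Fintype.card ι - 1) * a := by
  rw [← Finset.add_sum_erase _ _ (Finset.mem_univ i₀),
    Finset.sum_congr rfl fun i hi => h i (Finset.ne_of_mem_erase hi)]
  simp [Finset.card_erase_of_mem]

variable {K F : Type*} [Field K] [Fintype K] [Field F] [Fintype F] {ι : F →+* K} {V : Type*}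
  [AddCommGroup V] [Module ℂ V] (O : Ops K F ι V)

/-- A non-degenerate character of the smaller field. -/
noncomputable def psi (F : Type*) [Field F] [Fintype F] : AddChar F ℂ :=
  AddChar.FiniteField.primitiveChar_to_Complex F

/-- The characters of the smaller field. -/
noncomputable def chF (η : F) : AddChar F ℂ := AddChar.mulShift (psi F) η

theorem chF_apply (η x : F) : chF η x = psi F (η * x) := AddChar.mulShift_apply ..

theorem chF_injective : Function.Injective (chF (F := F)) :=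
  AddChar.to_mulShift_inj_of_isPrimitive
    (AddChar.FiniteField.primitiveChar_to_Complex_isPrimitive F)

/-- The characters of the larger field. -/
noncomputable def chK (γ : K) : AddChar K ℂ :=
  (psi F).compAddMonoidHom (O.T.comp (AddMonoidHom.mulLeft γ))

theorem chK_apply (γ c : K) : chK O γ c = psi F (O.T (γ * c)) := rfl

theorem chK_injective : Function.Injective (chK O) := by
  intro γ δ e
  by_contra hne
  obtain ⟨c₀, hc₀⟩ := O.T_ne
  have h : chF (O.T c₀) = chF (0 : F) := DFunLike.ext _ _ fun x => by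
    have h1 := DFunLike.congr_fun e ((γ - δ)⁻¹ * (ι x * c₀))
    simp only [chK_apply] at h1
    have h2 : γ * ((γ - δ)⁻¹ * (ι x * c₀)) - δ * ((γ - δ)⁻¹ * (ι x * c₀)) = ι x * c₀ := by
      rw [← sub_mul, mul_inv_cancel_left₀ (sub_ne_zero.2 hne)]
    rw [chF_apply, chF_apply, zero_mul, AddChar.map_zero_eq_one, mul_comm, ← O.T_smul, ← h2,
      map_sub, sub_eq_add_neg, AddChar.map_add_eq_mul, h1, ← AddChar.map_add_eq_mul, add_neg_cancel,
      AddChar.map_zero_eq_one]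
  exact hc₀ (chF_injective h)

/-- The eigenspaces. -/
noncomputable def Vz (ζ : F) : Submodule ℂ V := eig O.Z (chF ζ)
noncomputable def Ve (η : F) : Submodule ℂ V := eig O.E (chF η)
noncomputable def Vb (β : F) : Submodule ℂ V := eig O.B (chF β)
noncomputable def Vc (γ : K) : Submodule ℂ V := eig O.C (chK O γ)

theorem mem_Vz {ζ : F} {v : V} : v ∈ Vz O ζ ↔ ∀ z, O.Z z v = psi F (ζ * z) • v := by
  simp only [Vz, mem_eig, chF_apply]

theorem mem_Ve {η : F} {v : V} : v ∈ Ve O η ↔ ∀ e, O.E e v = psi F (η * e) • v := by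
  simp only [Ve, mem_eig, chF_apply]

theorem mem_Vb {β : F} {v : V} : v ∈ Vb O β ↔ ∀ b, O.B b v = psi F (β * b) • v := by
  simp only [Vb, mem_eig, chF_apply]

theorem mem_Vc {γ : K} {v : V} : v ∈ Vc O γ ↔ ∀ c, O.C c v = psi F (O.T (γ * c)) • v := Iff.rfl

/-- The action of the first orbit shifts the characters of the second. -/
theorem A_shift {ζ : F} {γ : K} (a : K) {v : V} (hz : v ∈ Vz O ζ) (hc : v ∈ Vc O γ) :
    O.A a v ∈ Vc O (γ + ι ζ * a) := by
  rw [mem_Vc] at hc ⊢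
  rw [mem_Vz] at hz
  intro c
  have e : O.C c * O.A a = O.A a * O.C c * O.Z (O.T (a * c)) := by
    rw [O.A_C, mul_assoc, ← O.act_Z.map_add, neg_add_cancel, O.act_Z.map_zero, mul_one]
  rw [← End.mul_apply, e, End.mul_apply, End.mul_apply, hz, map_smul, map_smul, hc, map_smul,
    smul_smul]
  congr 1
  rw [← AddChar.map_add_eq_mul, add_mul, O.T.map_add, mul_assoc (ι ζ), O.T_smul, add_comm]

theorem B_shift {ζ η : F} (b : F) {v : V} (hz : v ∈ Vz O ζ) (he : v ∈ Ve O η) :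
    O.B b v ∈ Ve O (η - ζ * b) := by
  rw [mem_Ve] at he ⊢
  rw [mem_Vz] at hz
  intro e
  have h : O.E e * O.B b = O.B b * O.E e * O.Z (-(e * b)) := by
    rw [O.B_E, mul_assoc, ← O.act_Z.map_add, add_neg_cancel, O.act_Z.map_zero, mul_one]
  rw [← End.mul_apply, h, End.mul_apply, End.mul_apply, hz, map_smul, map_smul, he, map_smul,
    smul_smul]
  congr 1
  rw [← AddChar.map_add_eq_mul]
  congr 1
  ring

theorem E_shift {ζ β : F} (e : F) {v : V} (hz : v ∈ Vz O ζ) (hb : v ∈ Vb O β) :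
    O.E e v ∈ Vb O (β + ζ * e) := by
  rw [mem_Vb] at hb ⊢
  rw [mem_Vz] at hz
  intro b
  rw [← End.mul_apply, O.B_E, End.mul_apply, End.mul_apply, hz, map_smul, map_smul, hb, map_smul,
    smul_smul]
  congr 1
  rw [← AddChar.map_add_eq_mul]
  congr 1
  ring

theorem X_shift {η : F} {γ : K} (t : K) {v : V} (he : v ∈ Ve O η) (hc : v ∈ Vc O γ) :
    (O.X t : End ℂ V) v ∈ Vc O (γ + ι η * t) := by
  rw [mem_Vc] at hc ⊢
  rw [mem_Ve] at he
  intro c
  have e : O.C c * O.X t = O.X t * O.C c * O.E (O.T (t * c)) := by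
    rw [O.X_C, mul_assoc, ← O.act_E.map_add, neg_add_cancel, O.act_E.map_zero, mul_one]
  rw [← End.mul_apply, e, End.mul_apply, End.mul_apply, he, map_smul, map_smul, hc, map_smul,
    smul_smul]
  congr 1
  rw [← AddChar.map_add_eq_mul, add_mul, O.T.map_add, mul_assoc (ι η), O.T_smul, add_comm]

theorem Vz_stable (ζ : F) :
    (∀ a, Stable (O.A a) (Vz O ζ)) ∧ (∀ b, Stable (O.B b) (Vz O ζ)) ∧
      (∀ c, Stable (O.C c) (Vz O ζ)) ∧ (∀ e, Stable (O.E e) (Vz O ζ)) ∧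
      ∀ t, Stable (O.X t : End ℂ V) (Vz O ζ) :=
  ⟨fun a => stable_eig (fun z => O.Z_A z a) _, fun b => stable_eig (fun z => O.Z_B z b) _,
    fun c => stable_eig (fun z => O.Z_C z c) _, fun e => stable_eig (fun z => O.Z_E z e) _,
    fun t => stable_eig (fun z => O.Z_X z t) _⟩

theorem Ve_stable (η : F) :
    (∀ a, Stable (O.A a) (Ve O η)) ∧ (∀ c, Stable (O.C c) (Ve O η)) ∧
      (∀ z, Stable (O.Z z) (Ve O η)) ∧ ∀ t, Stable (O.X t : End ℂ V) (Ve O η) :=
  ⟨fun a => stable_eig (fun e => O.E_A e a) _, fun c => stable_eig (fun e => O.E_C e c) _,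
    fun z => stable_eig (fun e => (O.Z_E z e).symm) _, fun t => stable_eig (fun e => O.E_X e t) _⟩

theorem Vb_stable (β : F) :
    (∀ a, Stable (O.A a) (Vb O β)) ∧ (∀ c, Stable (O.C c) (Vb O β)) ∧
      ∀ z, Stable (O.Z z) (Vb O β) :=
  ⟨fun a => stable_eig (fun b => O.B_A b a) _, fun c => stable_eig (fun b => O.B_C b c) _,
    fun z => stable_eig (fun b => (O.Z_B z b).symm) _⟩

theorem Vc_stable (γ : K) :
    (∀ b, Stable (O.B b) (Vc O γ)) ∧ (∀ e, Stable (O.E e) (Vc O γ)) :=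
  ⟨fun b => stable_eig (fun c => (O.B_C b c).symm) _,
    fun e => stable_eig (fun c => (O.E_C e c).symm) _⟩

variable [FiniteDimensional ℂ V]

theorem split_Z (W : Submodule ℂ V) (h : ∀ z, Stable (O.Z z) W) :
    ∑ ζ, finrank ℂ ↥(W ⊓ Vz O ζ) = finrank ℂ W :=
  sum_finrank O.act_Z chF chF_injective rfl h

theorem split_E (W : Submodule ℂ V) (h : ∀ e, Stable (O.E e) W) :
    ∑ η, finrank ℂ ↥(W ⊓ Ve O η) = finrank ℂ W :=
  sum_finrank O.act_E chF chF_injective rfl h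

theorem split_B (W : Submodule ℂ V) (h : ∀ b, Stable (O.B b) W) :
    ∑ β, finrank ℂ ↥(W ⊓ Vb O β) = finrank ℂ W :=
  sum_finrank O.act_B chF chF_injective rfl h

theorem split_C (W : Submodule ℂ V) (h : ∀ c, Stable (O.C c) W) :
    ∑ γ, finrank ℂ ↥(W ⊓ Vc O γ) = finrank ℂ W :=
  sum_finrank O.act_C (chK O) (chK_injective O) rfl h

theorem Vz_dim {ζ : F} (hζ : ζ ≠ 0) : finrank ℂ (Vz O ζ) = finrank ℂ (Vz O 1) := by
  have key : ∀ {a b : F}, a ≠ 0 → b ≠ 0 → finrank ℂ (Vz O a) ≤ finrank ℂ (Vz O b) := by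
    intro a b ha hb
    obtain ⟨h, hh⟩ := O.scaleZ (a * b⁻¹) (mul_ne_zero ha (inv_ne_zero hb))
    refine finrank_le_of_maps (units_injective h) fun v hv => ?_
    rw [mem_Vz] at hv ⊢
    intro z
    have e := hh ((a * b⁻¹)⁻¹ * z)
    rw [mul_inv_cancel_left₀ (mul_ne_zero ha (inv_ne_zero hb))] at e
    rw [← End.mul_apply, ← e, End.mul_apply, hv, map_smul]
    congr 2
    field_simp
  exact le_antisymm (key hζ one_ne_zero) (key one_ne_zero hζ)

theorem Ve_dim (η : F) : finrank ℂ (Ve O η) = finrank ℂ (Vz O η) := by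
  obtain ⟨n, hn⟩ := O.moveZ
  refine le_antisymm (finrank_le_of_maps (units_injective n) fun v hv => ?_)
    (finrank_le_of_maps (units_injective n⁻¹) fun v hv => ?_)
  · rw [mem_Ve] at hv; rw [mem_Vz]
    intro z; rw [← End.mul_apply, ← hn, End.mul_apply, hv, map_smul]
  · rw [mem_Vz] at hv; rw [mem_Ve]
    intro e
    apply units_injective n
    rw [← End.mul_apply, hn, End.mul_apply, ← End.mul_apply (n : End ℂ V), Units.mul_inv,
      End.one_apply, hv, map_smul, ← End.mul_apply (n : End ℂ V), Units.mul_inv, End.one_apply]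

theorem Vb_dim (β : F) : finrank ℂ (Vb O β) = finrank ℂ (Ve O β) := by
  obtain ⟨n, hn⟩ := O.moveB
  refine le_antisymm (finrank_le_of_maps (units_injective n⁻¹) fun v hv => ?_)
    (finrank_le_of_maps (units_injective n) fun v hv => ?_)
  · rw [mem_Vb] at hv; rw [mem_Ve]
    intro e
    apply units_injective n
    rw [← End.mul_apply, hn, End.mul_apply, ← End.mul_apply (n : End ℂ V), Units.mul_inv,
      End.one_apply, hv, map_smul, ← End.mul_apply (n : End ℂ V), Units.mul_inv, End.one_apply]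
  · rw [mem_Ve] at hv; rw [mem_Vb]
    intro z; rw [← End.mul_apply, ← hn, End.mul_apply, hv, map_smul]

/-- The multiplicity. -/
noncomputable def mult : ℕ := finrank ℂ ↥(Vz O 1 ⊓ Ve O 0 ⊓ Vc O 0)

theorem piece_E {ζ : F} (hζ : ζ ≠ 0) (η : F) :
    finrank ℂ ↥(Vz O ζ ⊓ Ve O η) =
      Fintype.card K * finrank ℂ ↥(Vz O ζ ⊓ Ve O 0 ⊓ Vc O 0) := by
  obtain ⟨zA, zB, zC, -, -⟩ := Vz_stable O ζ
  have hι : (ι ζ : K) ≠ 0 := fun e => hζ (ι.injective (e.trans (map_zero ι).symm))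
  have hA : ∀ (η : F) (γ δ : K), finrank ℂ ↥(Vz O ζ ⊓ Ve O η ⊓ Vc O γ) ≤
      finrank ℂ ↥(Vz O ζ ⊓ Ve O η ⊓ Vc O δ) := fun η γ δ =>
    finrank_le_of_maps (act_injective O.act_A ((ι ζ)⁻¹ * (δ - γ))) fun v hv =>
      ⟨⟨zA _ v hv.1.1, (Ve_stable O η).1 _ v hv.1.2⟩, by
        have h := A_shift O ((ι ζ)⁻¹ * (δ - γ)) hv.1.1 hv.2
        rwa [mul_inv_cancel_left₀ hι, add_sub_cancel] at h⟩
  have hB : ∀ η η' : F, finrank ℂ ↥(Vz O ζ ⊓ Ve O η ⊓ Vc O 0) ≤
      finrank ℂ ↥(Vz O ζ ⊓ Ve O η' ⊓ Vc O 0) := fun η η' =>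
    finrank_le_of_maps (act_injective O.act_B (ζ⁻¹ * (η - η'))) fun v hv =>
      ⟨⟨zB _ v hv.1.1, by
        have h := B_shift O (ζ⁻¹ * (η - η')) hv.1.1 hv.1.2
        rwa [mul_inv_cancel_left₀ hζ, sub_sub_cancel] at h⟩, (Vc_stable O 0).1 _ v hv.2⟩
  rw [← split_C O (Vz O ζ ⊓ Ve O η) fun c => (zC c).inf ((Ve_stable O η).2.1 c),
    Finset.sum_congr rfl fun γ _ => le_antisymm ((hA η γ 0).trans (hB η 0))
      ((hB 0 η).trans (hA η 0 γ))]
  simp

theorem mult_eq {ζ : F} (hζ : ζ ≠ 0) :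
    finrank ℂ ↥(Vz O ζ ⊓ Ve O 0 ⊓ Vc O 0) = mult O := by
  have tot : ∀ {ζ : F}, ζ ≠ 0 → finrank ℂ (Vz O ζ) =
      Fintype.card F * (Fintype.card K * finrank ℂ ↥(Vz O ζ ⊓ Ve O 0 ⊓ Vc O 0)) := by
    intro ζ hζ
    rw [← split_E O _ (Vz_stable O ζ).2.2.2.1, Finset.sum_congr rfl fun η _ => piece_E O hζ η]
    simp
  have h := Vz_dim O hζ
  rw [tot hζ, tot one_ne_zero] at h
  exact Nat.eq_of_mul_eq_mul_left Fintype.card_pos (Nat.eq_of_mul_eq_mul_left Fintype.card_pos h)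

theorem dim_Vz {ζ : F} (hζ : ζ ≠ 0) :
    finrank ℂ (Vz O ζ) = Fintype.card F * (Fintype.card K * mult O) := by
  rw [← split_E O _ (Vz_stable O ζ).2.2.2.1,
    Finset.sum_congr rfl fun η _ => (piece_E O hζ η).trans (by rw [mult_eq O hζ])]
  simp

theorem piece_B {ζ : F} (hζ : ζ ≠ 0) (β : F) :
    finrank ℂ ↥(Vz O ζ ⊓ Vb O β) = Fintype.card K * mult O := by
  obtain ⟨zA, -, zC, zE, -⟩ := Vz_stable O ζ
  have hι : (ι ζ : K) ≠ 0 := fun e => hζ (ι.injective (e.trans (map_zero ι).symm))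
  have hA : ∀ (β : F) (γ δ : K), finrank ℂ ↥(Vz O ζ ⊓ Vb O β ⊓ Vc O γ) ≤
      finrank ℂ ↥(Vz O ζ ⊓ Vb O β ⊓ Vc O δ) := fun β γ δ =>
    finrank_le_of_maps (act_injective O.act_A ((ι ζ)⁻¹ * (δ - γ))) fun v hv =>
      ⟨⟨zA _ v hv.1.1, (Vb_stable O β).1 _ v hv.1.2⟩, by
        have h := A_shift O ((ι ζ)⁻¹ * (δ - γ)) hv.1.1 hv.2
        rwa [mul_inv_cancel_left₀ hι, add_sub_cancel] at h⟩
  have hE : ∀ β β' : F, finrank ℂ ↥(Vz O ζ ⊓ Vb O β ⊓ Vc O 0) ≤
      finrank ℂ ↥(Vz O ζ ⊓ Vb O β' ⊓ Vc O 0) := fun β β' =>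
    finrank_le_of_maps (act_injective O.act_E (ζ⁻¹ * (β' - β))) fun v hv =>
      ⟨⟨zE _ v hv.1.1, by
        have h := E_shift O (ζ⁻¹ * (β' - β)) hv.1.1 hv.1.2
        rwa [mul_inv_cancel_left₀ hζ, add_sub_cancel] at h⟩, (Vc_stable O 0).2 _ v hv.2⟩
  have each : ∀ β, finrank ℂ ↥(Vz O ζ ⊓ Vb O β) =
      Fintype.card K * finrank ℂ ↥(Vz O ζ ⊓ Vb O 0 ⊓ Vc O 0) := fun β => by
    rw [← split_C O (Vz O ζ ⊓ Vb O β) fun c => (zC c).inf ((Vb_stable O β).2.1 c),
      Finset.sum_congr rfl fun γ _ => le_antisymm ((hA β γ 0).trans (hE β 0))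
        ((hE 0 β).trans (hA β 0 γ))]
    simp
  have h := split_B O _ (Vz_stable O ζ).2.1
  rw [Finset.sum_congr rfl fun β _ => each β, Finset.sum_const, Finset.card_univ, smul_eq_mul,
    dim_Vz O hζ] at h
  rw [each β, Nat.eq_of_mul_eq_mul_left Fintype.card_pos h]

theorem mult_pos : 0 < mult O := by
  rcases Nat.eq_zero_or_pos (mult O) with h0 | h0
  · exfalso
    obtain ⟨z, hz⟩ := O.nontriv
    refine hz (LinearMap.ext fun v => ?_)
    have h := split_Z O ⊤ fun _ => stable_top _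
    classical
    rw [sum_split (0 : F) _ 0 fun ζ hζ => by rw [top_inf_eq, dim_Vz O hζ, h0, mul_zero, mul_zero],
      mul_zero, add_zero, top_inf_eq] at h
    have hv : v ∈ Vz O 0 := by rw [Submodule.eq_of_le_of_finrank_eq le_top h]; trivial
    rw [mem_Vz] at hv
    rw [hv, zero_mul, AddChar.map_zero_eq_one, one_smul, End.one_apply]
  · exact h0

/-- The fixed points of the centre in the eigenspaces of `B` and `E`. -/
theorem fixed_piece (_hcard : Fintype.card K = Fintype.card F ^ 3) {η : F} (hη : η ≠ 0) :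
    finrank ℂ ↥(Vz O 0 ⊓ Ve O η) = Fintype.card K * mult O ∧
      finrank ℂ ↥(Vz O 0 ⊓ Vb O η) = Fintype.card K * mult O := by
  classical
  have hd := dim_Vz O hη
  have arith : ∀ x, x + (Fintype.card F - 1) * (Fintype.card K * mult O) =
      Fintype.card F * (Fintype.card K * mult O) → x = Fintype.card K * mult O := by
    intro x hx
    obtain ⟨n, hn⟩ : ∃ n, Fintype.card F = n + 1 :=
      ⟨Fintype.card F - 1, by have := Fintype.card_pos (α := F); omega⟩
    rw [hn, Nat.add_sub_cancel, add_one_mul] at hx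
    omega
  constructor
  · have h := split_Z O (Ve O η) (Ve_stable O η).2.2.1
    rw [sum_split (0 : F) _ (Fintype.card K * mult O) fun ζ hζ => by
      rw [inf_comm, piece_E O hζ, mult_eq O hζ], Ve_dim, hd, inf_comm] at h
    exact arith _ h
  · have h := split_Z O (Vb O η) (Vb_stable O η).2.2
    rw [sum_split (0 : F) _ (Fintype.card K * mult O) fun ζ hζ => by
      rw [inf_comm, piece_B O hζ], Vb_dim, Ve_dim, hd, inf_comm] at h
    exact arith _ h

theorem line (hcard : Fintype.card K = Fintype.card F ^ 3) {η : F} (hη : η ≠ 0) (γ : K) :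
    finrank ℂ ↥(Vz O 0 ⊓ Ve O η ⊓ Vc O γ) = mult O := by
  have hι : (ι η : K) ≠ 0 := fun e => hη (ι.injective (e.trans (map_zero ι).symm))
  have hX : ∀ γ δ : K, finrank ℂ ↥(Vz O 0 ⊓ Ve O η ⊓ Vc O γ) ≤
      finrank ℂ ↥(Vz O 0 ⊓ Ve O η ⊓ Vc O δ) := fun γ δ =>
    finrank_le_of_maps (units_injective (O.X ((ι η)⁻¹ * (δ - γ)))) fun v hv =>
      ⟨⟨(Vz_stable O 0).2.2.2.2 _ v hv.1.1, (Ve_stable O η).2.2.2 _ v hv.1.2⟩, by
        have h := X_shift O ((ι η)⁻¹ * (δ - γ)) hv.1.2 hv.2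
        rwa [mul_inv_cancel_left₀ hι, add_sub_cancel] at h⟩
  have h := split_C O (Vz O 0 ⊓ Ve O η)
    fun c => ((Vz_stable O 0).2.2.1 c).inf ((Ve_stable O η).2.1 c)
  rw [Finset.sum_congr rfl fun δ _ => le_antisymm (hX δ γ) (hX γ δ), Finset.sum_const,
    Finset.card_univ, smul_eq_mul, (fixed_piece O hcard hη).1] at h
  exact Nat.eq_of_mul_eq_mul_left Fintype.card_pos h

theorem exists_fixed_vector (hcard : Fintype.card K = Fintype.card F ^ 3) (hm : mult O = 1)
    (h4 : 4 ≤ Fintype.card K) :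
    ∃ η : F, η ≠ 0 ∧ Vz O 0 ⊓ Ve O η ⊓ Vb O 0 ≠ ⊥ := by
  classical
  set L := Vz O 0 ⊓ Ve O 1 ⊓ Vc O 0 with hL
  have hdim : finrank ℂ L = 1 := (line O hcard one_ne_zero 0).trans hm
  obtain ⟨v, hv0, hspan⟩ := finrank_eq_one_iff'.1 hdim
  have scal : ∀ {T : End ℂ V}, Stable T L → ∃ c : ℂ, T v = c • (v : V) := fun {T} hT => by
    obtain ⟨c, hc⟩ := hspan ⟨T v, hT v v.2⟩
    exact ⟨c, (congrArg Subtype.val hc).symm⟩
  have hvne : (v : V) ≠ 0 := fun e => hv0 (Subtype.ext e)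
  have hvz := mem_Vz O |>.1 v.2.1.1
  have hve := mem_Ve O |>.1 v.2.1.2
  have hvc := mem_Vc O |>.1 v.2.2
  simp only [zero_mul, map_zero, AddChar.map_zero_eq_one, one_smul] at hvz hvc
  simp only [one_mul] at hve
  have zfix : ∀ {w : V}, w ∈ Vz O 0 → ∀ z, O.Z z w = w := fun {w} hw z => by
    rw [(mem_Vz O).1 hw, zero_mul, AddChar.map_zero_eq_one, one_smul]
  have hAL : ∀ a, Stable (O.A a) L := fun a w hw =>
    ⟨⟨(Vz_stable O 0).1 a w hw.1.1, (Ve_stable O 1).1 a w hw.1.2⟩, by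
      have h := A_shift O a hw.1.1 hw.2
      rwa [map_zero, zero_mul, add_zero] at h⟩
  have hBL : ∀ b, Stable (O.B b) L := fun b w hw =>
    ⟨⟨(Vz_stable O 0).2.1 b w hw.1.1, by
      have h := B_shift O b hw.1.1 hw.1.2
      rwa [zero_mul, sub_zero] at h⟩, (Vc_stable O 0).1 b w hw.2⟩
  choose α hα using fun a => scal (hAL a)
  choose β hβ using fun b => scal (hBL b)
  -- the first orbit acts trivially on the line
  have hαadd : ∀ a b, α (a + b) = α a * α b := fun a b => by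
    refine smul_left_injective ℂ hvne ?_
    simp only
    rw [← hα, O.act_A.map_add, End.mul_apply, hα, map_smul, hα, smul_smul, mul_comm]
  have hα0 : α 0 = 1 := smul_left_injective ℂ hvne (by
    simp only
    rw [← hα, O.act_A.map_zero, End.one_apply, one_smul])
  obtain ⟨s, hs, hs2⟩ : ∃ s : K, s ≠ 0 ∧ s ^ 2 ≠ 1 := by
    obtain ⟨s, -, hs⟩ := Finset.exists_mem_notMem_of_card_lt_card
      (s := ({0, 1, -1} : Finset K)) (t := Finset.univ) (lt_of_le_of_lt Finset.card_le_three h4)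
    simp only [Finset.mem_insert, Finset.mem_singleton, not_or] at hs
    exact ⟨s, hs.1, fun e => (sq_eq_one_iff.1 e).elim hs.2.1 hs.2.2⟩
  obtain ⟨h, hE, hZ, -, hA, hC⟩ := O.torus s hs
  have hhL : Stable (h : End ℂ V) L := fun w hw => by
    refine ⟨⟨?_, ?_⟩, ?_⟩
    · refine (mem_Vz O).2 fun z => ?_
      have e := hZ ((O.N s)⁻¹ * z)
      rw [mul_inv_cancel_left₀ (O.N_ne s hs)] at e
      rw [← End.mul_apply, ← e, End.mul_apply, zfix hw.1.1, zero_mul, AddChar.map_zero_eq_one,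
        one_smul]
    · refine (mem_Ve O).2 fun e => ?_
      rw [← End.mul_apply, ← hE, End.mul_apply, (mem_Ve O).1 hw.1.2, map_smul]
    · refine (mem_Vc O).2 fun d => ?_
      obtain ⟨c₀, hc₀⟩ := hC d
      rw [← End.mul_apply, ← hc₀, End.mul_apply, (mem_Vc O).1 hw.2, map_smul]
      simp
  obtain ⟨κ, hκ⟩ := scal hhL
  have hκ0 : κ ≠ 0 := fun e => hvne (units_injective h (by rw [hκ, e, zero_smul, map_zero]))
  have hαs : ∀ a, α (s ^ 2 * a) = α a := fun a => by
    have e := LinearMap.congr_fun (hA a) (v : V)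
    rw [End.mul_apply, End.mul_apply, hα, map_smul, hκ, map_smul, hα, smul_smul, smul_smul] at e
    exact (mul_left_cancel₀ hκ0 ((smul_left_injective ℂ hvne e).symm.trans (mul_comm _ _)))
  have hα1 : ∀ a, α a = 1 := fun a => by
    have hne : s ^ 2 - 1 ≠ 0 := sub_ne_zero.2 hs2
    set b := (s ^ 2 - 1)⁻¹ * a with hb
    have e : a + b = s ^ 2 * b := by
      rw [hb]; field_simp; ring
    have h1 := hαadd a b
    rw [e, hαs] at h1
    have hb0 : α b ≠ 0 := fun e0 => by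
      have h2 := hαadd b (-b)
      rw [add_neg_cancel, hα0, e0, zero_mul] at h2
      exact one_ne_zero h2
    exact (mul_eq_right₀ hb0).1 h1.symm
  -- the eigenvalue of `B` on the line
  obtain ⟨μ, hμ⟩ : ∃ μ : F, (v : V) ∈ Vb O μ := by
    let χ : AddChar F ℂ :=
      { toFun := β
        map_zero_eq_one' := smul_left_injective ℂ hvne (by
          simp only
          rw [← hβ, O.act_B.map_zero, End.one_apply, one_smul])
        map_add_eq_mul' := fun a b => by
          refine smul_left_injective ℂ hvne ?_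
          simp only
          rw [← hβ, O.act_B.map_add, End.mul_apply, hβ, map_smul, hβ, smul_smul, mul_comm] }
    have hb : Function.Bijective (chF (F := F)) :=
      (Fintype.bijective_iff_injective_and_card _).2 ⟨chF_injective, AddChar.card_eq.symm⟩
    obtain ⟨μ, hμ⟩ := hb.2 χ
    refine ⟨μ, (mem_Vb O).2 fun b => ?_⟩
    rw [← chF_apply, hμ]
    exact hβ b
  obtain ⟨t, ht⟩ := O.N_surj μ
  refine ⟨1, one_ne_zero, fun hbot => ?_⟩
  set u := (((O.X t)⁻¹ : (End ℂ V)ˣ) : End ℂ V) (v : V) with hu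
  have hXu : (O.X t : End ℂ V) u = (v : V) := by
    rw [hu, ← End.mul_apply, Units.mul_inv, End.one_apply]
  have hu1 : u ∈ Vz O 0 := by
    rw [mem_Vz]
    intro z
    apply units_injective (O.X t)
    rw [← End.mul_apply, ← (O.Z_X z t).eq, End.mul_apply, map_smul, hXu, hvz, zero_mul,
      AddChar.map_zero_eq_one, one_smul]
  have hu2 : u ∈ Ve O 1 := by
    rw [mem_Ve]
    intro e
    apply units_injective (O.X t)
    rw [← End.mul_apply, ← (O.E_X e t).eq, End.mul_apply, map_smul, hXu, hve, one_mul]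
  have hu3 : u ∈ Vb O 0 := by
    rw [mem_Vb]
    intro b
    apply units_injective (O.X t)
    obtain ⟨a, c, z, e⟩ := O.X_B t b
    rw [← End.mul_apply, e]
    simp only [End.mul_apply, hXu, hve, map_smul, hvz, hvc, hα, hα1, one_smul,
      (mem_Vb O).1 hμ b, smul_smul, zero_mul, AddChar.map_zero_eq_one]
    rw [← AddChar.map_add_eq_mul, ht, show -(b * μ) + μ * b = 0 by ring, AddChar.map_zero_eq_one,
      one_smul]
  have : u ∈ (⊥ : Submodule ℂ V) := hbot ▸ ⟨⟨hu1, hu2⟩, hu3⟩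
  rw [Submodule.mem_bot] at this
  exact hvne (by rw [← hXu, this, map_zero])

theorem E0_large (hcard : Fintype.card K = Fintype.card F ^ 3) (hm : mult O = 1)
    (h4 : 4 ≤ Fintype.card K) :
    Fintype.card F - 1 ≤ finrank ℂ ↥(Vz O 0 ⊓ Ve O 0) := by
  classical
  obtain ⟨z1, z2, z3, z4, z5⟩ := Vz_stable O 0
  have hBstab : ∀ η b, Stable (O.B b) (Vz O 0 ⊓ Ve O η) := fun η b w hw =>
    ⟨z2 b w hw.1, by
      have h := B_shift O b hw.1 hw.2
      rwa [zero_mul, sub_zero] at h⟩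
  have hEstab : ∀ β e, Stable (O.E e) (Vz O 0 ⊓ Vb O β) := fun β e w hw =>
    ⟨z4 e w hw.1, by
      have h := E_shift O e hw.1 hw.2
      rwa [zero_mul, add_zero] at h⟩
  set D : F → F → ℕ := fun η β => finrank ℂ ↥(Vz O 0 ⊓ Ve O η ⊓ Vb O β) with hD
  have rows : ∀ η, ∑ β, D η β = finrank ℂ ↥(Vz O 0 ⊓ Ve O η) := fun η =>
    split_B O _ (hBstab η)
  have cols : ∀ β, ∑ η, D η β = finrank ℂ ↥(Vz O 0 ⊓ Vb O β) := fun β => by
    rw [← split_E O _ (hEstab β)]
    exact Finset.sum_congr rfl fun η _ => by rw [hD, inf_right_comm]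
  have hex : ∃ β, β ≠ 0 ∧ D 0 β ≠ 0 := by
    by_contra hcon
    push Not at hcon
    obtain ⟨η, hη, hne⟩ := exists_fixed_vector O hcard hm h4
    have h1 : ∑ β ∈ Finset.univ.erase 0, ∑ η ∈ Finset.univ.erase 0, D η β =
        ∑ _β ∈ Finset.univ.erase (0 : F), Fintype.card K * mult O :=
      Finset.sum_congr rfl fun β hβ => by
        have hβ' := Finset.ne_of_mem_erase hβ
        rw [← (fixed_piece O hcard hβ').2, ← cols β,
          ← Finset.add_sum_erase _ _ (Finset.mem_univ (0 : F)), hcon β hβ', zero_add]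
    have h2 : ∑ η ∈ Finset.univ.erase 0, (D η 0 + ∑ β ∈ Finset.univ.erase 0, D η β) =
        ∑ _η ∈ Finset.univ.erase (0 : F), Fintype.card K * mult O :=
      Finset.sum_congr rfl fun η hη => by
        rw [Finset.add_sum_erase _ _ (Finset.mem_univ (0 : F)), rows,
          (fixed_piece O hcard (Finset.ne_of_mem_erase hη)).1]
    rw [Finset.sum_add_distrib, Finset.sum_comm, h1, add_eq_right, Finset.sum_eq_zero_iff] at h2
    exact hne (Submodule.finrank_eq_zero.1 (h2 η (Finset.mem_erase.2 ⟨hη, Finset.mem_univ _⟩)))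
  obtain ⟨β₀, hβ₀, hD₀⟩ := hex
  have hall : ∀ β, β ≠ 0 → 1 ≤ D 0 β := fun β hβ => by
    obtain ⟨s, hs⟩ := O.N_surj (β₀ * β⁻¹)
    by_cases hs0 : s = 0
    · subst hs0
      exact absurd (hs.symm.trans O.N_zero) (mul_ne_zero hβ₀ (inv_ne_zero hβ))
    · obtain ⟨h, hE, hZ, hB, -, -⟩ := O.torus s hs0
      refine le_trans (Nat.one_le_iff_ne_zero.2 hD₀)
        (finrank_le_of_maps (units_injective h) fun v hv => ⟨⟨?_, ?_⟩, ?_⟩)
      · refine (mem_Vz O).2 fun z => ?_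
        have e := hZ ((O.N s)⁻¹ * z)
        rw [mul_inv_cancel_left₀ (O.N_ne s hs0)] at e
        rw [← End.mul_apply, ← e, End.mul_apply, (mem_Vz O).1 hv.1.1, map_smul]
        simp
      · refine (mem_Ve O).2 fun e => ?_
        rw [← End.mul_apply, ← hE, End.mul_apply, (mem_Ve O).1 hv.1.2, map_smul]
      · refine (mem_Vb O).2 fun b => ?_
        have e := hB ((O.N s)⁻¹ * b)
        rw [mul_inv_cancel_left₀ (O.N_ne s hs0)] at e
        rw [← End.mul_apply, ← e, End.mul_apply, (mem_Vb O).1 hv.2, map_smul, hs]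
        congr 2
        field_simp
  calc Fintype.card F - 1 = ∑ _β ∈ Finset.univ.erase (0 : F), 1 := by simp
    _ ≤ ∑ β ∈ Finset.univ.erase 0, D 0 β :=
        Finset.sum_le_sum fun β hβ => hall β (Finset.ne_of_mem_erase hβ)
    _ ≤ ∑ β, D 0 β := Finset.sum_le_sum_of_subset (Finset.erase_subset _ _)
    _ = _ := rows 0

/-- The bound on the dimension. -/
theorem bound (O : Ops K F ι V) (hcard : Fintype.card K = Fintype.card F ^ 3) :
    2 * ((Fintype.card F - 1) * (Fintype.card F ^ 4 + Fintype.card F ^ 3)) ≤ finrank ℂ V ∨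
      (Fintype.card F - 1) * (Fintype.card F ^ 4 + Fintype.card F ^ 3 + 1) ≤ finrank ℂ V := by
  classical
  have h := split_Z O ⊤ fun _ => stable_top _
  rw [finrank_top, sum_split (0 : F) _ _ fun ζ hζ => (by rw [top_inf_eq]; exact dim_Vz O hζ :
    finrank ℂ ↥(⊤ ⊓ Vz O ζ) = _), top_inf_eq, ← split_E O _ (Vz_stable O 0).2.2.2.1,
    sum_split (0 : F) _ _ fun η hη => (fixed_piece O hcard hη).1, hcard] at h
  have hq : 2 ≤ Fintype.card F := Fintype.one_lt_card
  have e : Fintype.card F * (Fintype.card F ^ 3 * mult O) = Fintype.card F ^ 4 * mult O := by ring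
  rw [e] at h
  rcases Nat.lt_or_ge (mult O) 2 with hm | hm
  · right
    have hm1 : mult O = 1 := by have := mult_pos O; omega
    have h0 := E0_large O hcard hm1 (by
      rw [hcard]; calc 4 ≤ 2 ^ 3 := by norm_num
        _ ≤ _ := Nat.pow_le_pow_left hq 3)
    rw [hm1, mul_one, mul_one] at h
    rw [← h]
    simp only [mul_add, mul_one]
    omega
  · left
    rw [← h]
    have a := Nat.mul_le_mul_left ((Fintype.card F - 1) * Fintype.card F ^ 4) hm
    have b := Nat.mul_le_mul_left ((Fintype.card F - 1) * Fintype.card F ^ 3) hm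
    simp only [mul_add, ← mul_assoc] at *
    nlinarith

end Cfsg.Agent.Lie.Chev.D4Deg
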