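import Cfsg.Agent.Lib.Lie.Chev.D4MinDegreeRels
import Cfsg.Agent.Lib.Lie.Chev.D4MinDegreeCount
import Cfsg.Agent.Lib.Lie.Chev.TwistAut
import Cfsg.Agent.Lib.Char.Integral

/-! The smallest degree of a non-trivial complex representation of ³D₄(q). -/

set_option autoImplicit false
set_option maxRecDepth 20000
set_option linter.unusedSectionVars false

namespace Cfsg.Agent.Lie.Chev.D4Deg

open Cfsg.Lie Module Cfsg.Agent.Grp.EigenSplit

variable {K : Type*} [Field K] (f : K →+* K) [Fintype K] {q : ℕ} (hf : ∀ t, f t = t ^ q)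
  (hK : Fintype.card K = q ^ 3)

/-- The field fixed by the twist. -/
abbrev FF : Subfield K := f.eqLocusField (RingHom.id K)

theorem weyl_values : ([(18, 19, 1), (13, 16, -1), (12, 15, -1), (22, 23, 1)].all fun (p : ℕ × ℕ × ℤ) =>
      certFullD4.T.wlT [1] p.1 == p.2.1 && certFullD4.wsign [1] p.1 == p.2.2) = true ∧
    ([(19, 17, 1), (16, 20, 1), (15, 21, 1), (22, 14, 1)].all fun (p : ℕ × ℕ × ℤ) =>
      certFullD4.T.wlT [0, 2, 3] p.1 == p.2.1 && certFullD4.wsign [0, 2, 3] p.1 == p.2.2) = true := by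
  decide +kernel

omit [Fintype K] in
theorem nw_conj {L : List ℕ} (hL : ∀ p ∈ L, p < 4) {r s : ℕ} {k : ℤ} (hr : r < 24)
    (h : (certFullD4.T.wlT L r == s && certFullD4.wsign L r == k) = true) (t : K) :
    certFullD4.nw K L * certFullD4.xg r t = certFullD4.xg s ((k : K) * t) * certFullD4.nw K L := by
  rw [Bool.and_eq_true, beq_iff_eq, beq_iff_eq] at h
  rw [certFullD4.nw_mul_xg (fun p hp => show p < 4 from hL p hp) (show r < chevD4.nroots from hr),
    ← certFullD4.wlT_eq, h.1, h.2]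

omit [Fintype K] in
theorem n1_eX (t : K) :
    certFullD4.nw K [1] * eX f t = eA f t * certFullD4.nw K [1] := by
  have h := weyl_values.1
  simp only [List.all_eq_true] at h
  rw [eX, D4.X, eA, ← mul_assoc, ← mul_assoc,
    nw_conj (by simp) (by omega) (h (18, 19, 1) (by simp)), Int.cast_one, one_mul,
    mul_assoc (certFullD4.xg 19 t), nw_conj (by simp) (by omega) (h (13, 16, -1) (by simp)),
    ← mul_assoc, mul_assoc (_ * certFullD4.xg 16 _),
    nw_conj (by simp) (by omega) (h (12, 15, -1) (by simp)), ← mul_assoc]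
  simp

omit [Fintype K] in
theorem n2_eA (t : K) :
    certFullD4.nw K [0, 2, 3] * eA f t = eC f t * certFullD4.nw K [0, 2, 3] := by
  have h := weyl_values.2
  simp only [List.all_eq_true] at h
  rw [eA, eC, ← mul_assoc, ← mul_assoc,
    nw_conj (by simp) (by omega) (h (19, 17, 1) (by simp)), Int.cast_one, one_mul,
    mul_assoc (certFullD4.xg 17 t), nw_conj (by simp) (by omega) (h (16, 20, 1) (by simp)),
    ← mul_assoc, mul_assoc (_ * certFullD4.xg 20 _),
    nw_conj (by simp) (by omega) (h (15, 21, 1) (by simp)), ← mul_assoc]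
  simp

omit [Fintype K] in
theorem n2_eE (e : K) :
    certFullD4.nw K [0, 2, 3] * eE e = eB e * certFullD4.nw K [0, 2, 3] := by
  have h := weyl_values.2
  simp only [List.all_eq_true] at h
  rw [eE, eB, nw_conj (by simp) (by omega) (h (22, 14, 1) (by simp)), Int.cast_one, one_mul]

omit [Fintype K] in
theorem n1_eE (e : K) :
    certFullD4.nw K [1] * eE e = eZ e * certFullD4.nw K [1] := by
  have h := weyl_values.1
  simp only [List.all_eq_true] at h
  rw [eE, eZ, nw_conj (by simp) (by omega) (h (22, 23, 1) (by simp)), Int.cast_one, one_mul]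

omit [Fintype K] in
theorem torus_values (z : ℕ → Kˣ) :
    (certFullD4.tchar z 23 = z 1) ∧
    (certFullD4.tchar z 22 = z 0 * (z 1)⁻¹ * z 2 * z 3) ∧
    (certFullD4.tchar z 14 = (z 0)⁻¹ * (z 1 * z 1) * (z 2)⁻¹ * (z 3)⁻¹) ∧
    (certFullD4.tchar z 19 = z 0 * z 1 * (z 2)⁻¹ * (z 3)⁻¹) ∧
    (certFullD4.tchar z 16 = (z 0)⁻¹ * z 1 * z 2 * (z 3)⁻¹) ∧
    (certFullD4.tchar z 15 = (z 0)⁻¹ * z 1 * (z 2)⁻¹ * z 3) ∧
    (certFullD4.tchar z 17 = (z 0)⁻¹ * z 2 * z 3) ∧
    (certFullD4.tchar z 20 = z 0 * (z 2)⁻¹ * z 3) ∧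
    (certFullD4.tchar z 21 = z 0 * z 2 * (z 3)⁻¹) := by
  have hA : ([23, 22, 14, 19, 16, 15, 17, 20, 21].map fun u =>
      (List.range 4).map fun i => certFullD4.T.cartan i u) =
      [[0, 1, 0, 0], [1, -1, 1, 1], [-1, 2, -1, -1], [1, 1, -1, -1], [-1, 1, 1, -1], [-1, 1, -1, 1],
        [-1, 0, 1, 1], [1, 0, -1, 1], [1, 0, 1, -1]] := by
    decide +kernel
  simp only [List.range_succ, List.range_zero, List.map_cons, List.map_nil, List.cons_append,
    List.nil_append, List.cons.injEq, and_true] at hA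
  simp only [Cert.tchar, show chevD4.rank = 4 from rfl, Finset.prod_range_succ,
    Finset.prod_range_zero, hA, zpow_two, _root_.zpow_neg, zpow_one, _root_.zpow_zero, one_mul,
    mul_one]
  exact ⟨trivial, trivial, trivial, trivial, trivial, trivial, trivial, trivial, trivial⟩

include hf hK

theorem fix (t : ↥(FF f)) : f (t : K) = (t : K) := t.2

theorem Tr_mem (c : K) : Tr f c ∈ FF f := by
  show f _ = _
  simp only [Tr, map_add, D4.pow_cube f hf hK, RingHom.id_apply]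
  ring

theorem Nm_mem (c : K) : Nm f c ∈ FF f := by
  show f _ = _
  simp only [Nm, map_mul, D4.pow_cube f hf hK, RingHom.id_apply]
  ring

theorem Tr_ne : ∃ c, Tr f c ≠ 0 := by
  by_contra h
  push Not at h
  have hq := D4.one_lt_q f hf hK
  let P : Polynomial K := Polynomial.X ^ (q ^ 2) + (Polynomial.X ^ q + Polynomial.X)
  have hsq : q < q ^ 2 := by nlinarith
  have hd : (Polynomial.X ^ q + Polynomial.X : Polynomial K).degree = q := by
    rw [Polynomial.degree_add_eq_left_of_degree_lt] <;>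
      simp only [Polynomial.degree_X_pow, Polynomial.degree_X]
    exact_mod_cast hq
  have hdeg : P.natDegree = q ^ 2 := by
    apply Polynomial.natDegree_eq_of_degree_eq_some
    rw [Polynomial.degree_add_eq_left_of_degree_lt] <;>
      simp only [Polynomial.degree_X_pow, hd]
    exact_mod_cast hsq
  have hP : P ≠ 0 := fun e => by rw [e] at hdeg; simp at hdeg; omega
  refine hP (Polynomial.eq_zero_of_natDegree_lt_card_of_eval_eq_zero P
    (f := fun c : K => c) Function.injective_id (fun c => ?_) ?_)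
  · have := h c
    simp only [Tr, hf, ← pow_mul, ← sq] at this
    simp only [P, Polynomial.eval_add, Polynomial.eval_pow, Polynomial.eval_X]
    linear_combination this
  · rw [hdeg, hK]
    exact Nat.pow_lt_pow_right hq (by norm_num)

theorem card_FF [Fintype ↥(FF f)] : Fintype.card ↥(FF f) = q := by
  classical
  have hq := D4.one_lt_q f hf hK
  obtain ⟨g, hg⟩ := IsCyclic.exists_generator (α := Kˣ)
  have ho : orderOf g = q ^ 3 - 1 := by
    rw [orderOf_eq_card_of_forall_mem_zpowers hg, Nat.card_eq_fintype_card, Fintype.card_units, hK]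
  obtain ⟨m, hm⟩ : (q - 1) ∣ q ^ 3 - 1 := Nat.sub_one_dvd_pow_sub_one q 3
  have hpos : 0 < q - 1 := by omega
  have h3 : q ≤ q ^ 3 := Nat.le_self_pow (by norm_num) q
  have hm0 : m ≠ 0 := by rintro rfl; omega
  have hord : orderOf (g ^ m) = q - 1 := by
    rw [orderOf_pow' g hm0, ho, hm, Nat.gcd_mul_left_left, Nat.mul_div_cancel _ (by omega)]
  refine le_antisymm ?_ ?_
  · let P : Polynomial K := Polynomial.X ^ q - Polynomial.X
    have hP : P.natDegree = q := FiniteField.X_pow_card_sub_X_natDegree_eq K hq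
    have hP0 : P ≠ 0 := fun e => by rw [e] at hP; simp at hP; omega
    by_contra h
    refine hP0 (Polynomial.eq_zero_of_natDegree_lt_card_of_eval_eq_zero P
      (f := fun t : ↥(FF f) => (t : K)) Subtype.val_injective (fun t => ?_) (by omega))
    simp only [P, Polynomial.eval_sub, Polynomial.eval_pow, Polynomial.eval_X, ← hf]
    rw [fix f hf hK t, sub_self]
  · have hfix : ∀ k : ℕ, (((g ^ m) ^ k : Kˣ) : K) ∈ FF f := fun k => by
      show f _ = _
      rw [hf, RingHom.id_apply, ← Units.val_pow_eq_pow_val]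
      congr 1
      have hone : ((g ^ m) ^ k) ^ (q - 1) = 1 := by
        rw [← pow_mul, mul_comm, pow_mul, ← hord, pow_orderOf_eq_one, one_pow]
      calc ((g ^ m) ^ k) ^ q = ((g ^ m) ^ k) ^ (q - 1) * (g ^ m) ^ k := by
            rw [← pow_succ]; congr 1; omega
        _ = _ := by rw [hone, one_mul]
    let φ : Fin q → ↥(FF f) := fun i =>
      if h : i.val < q - 1 then ⟨_, hfix i.val⟩ else 0
    have hφ : Function.Injective φ := by
      intro i j e
      by_cases hi : i.val < q - 1 <;> by_cases hj : j.val < q - 1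
      · simp only [φ, hi, hj, dif_pos, Subtype.mk.injEq] at e
        exact Fin.ext (pow_injOn_Iio_orderOf (by simpa [hord] using hi) (by simpa [hord] using hj)
          (Units.ext e))
      · simp only [φ, hi, hj, dif_pos, dif_neg, not_false_iff] at e
        exact absurd (congrArg Subtype.val e) (by simp)
      · simp only [φ, hi, hj, dif_pos, dif_neg, not_false_iff] at e
        exact absurd (congrArg Subtype.val e).symm (by simp)
      · exact Fin.ext (by have := i.2; have := j.2; omega)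
    simpa using Fintype.card_le_of_injective φ hφ

theorem Nm_surj (b : ↥(FF f)) : ∃ t, Nm f t = b := by
  classical
  have hq := D4.one_lt_q f hf hK
  by_cases hb : (b : K) = 0
  · exact ⟨0, by simp [Nm, hb]⟩
  obtain ⟨g, hg⟩ := IsCyclic.exists_generator (α := Kˣ)
  have ho : orderOf g = q ^ 3 - 1 := by
    rw [orderOf_eq_card_of_forall_mem_zpowers hg, Nat.card_eq_fintype_card, Fintype.card_units, hK]
  set u := Units.mk0 _ hb with hu
  obtain ⟨j, hj⟩ := (mem_powers_iff_mem_zpowers).2 (hg u)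
  change g ^ j = u at hj
  have h1 : u ^ (q - 1) = 1 := by
    refine Units.ext (mul_right_cancel₀ hb ?_)
    rw [Units.val_pow_eq_pow_val, Units.val_one, one_mul]
    show (b : K) ^ (q - 1) * (b : K) = _
    rw [← pow_succ, show q - 1 + 1 = q by omega, ← hf, fix f hf hK b]
  rw [← hj, ← pow_mul, ← orderOf_dvd_iff_pow_eq_one, ho] at h1
  have e : q ^ 3 - 1 = (1 + q + q * q) * (q - 1) := by
    obtain ⟨n, rfl⟩ : ∃ n, q = n + 1 := ⟨q - 1, by omega⟩
    exact Nat.sub_eq_of_eq_add (by rw [Nat.add_sub_cancel]; ring)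
  rw [e, mul_comm] at h1
  obtain ⟨c, rfl⟩ : (1 + q + q * q) ∣ j :=
    Nat.dvd_of_mul_dvd_mul_left (k := q - 1) (by omega) (by rwa [mul_comm j] at h1)
  refine ⟨(g : K) ^ c, ?_⟩
  have hv : (b : K) = ((u : Kˣ) : K) := rfl
  rw [hv, ← hj, Nm, hf, hf, Units.val_pow_eq_pow_val, ← pow_mul, ← pow_mul, ← pow_add, ← pow_add]
  congr 1
  ring

theorem h1_conj (t : Kˣ) (z : K) :
    certFullD4.torus (D4.zOf f 1 t) * eZ z = eZ ((t : K) * z) * certFullD4.torus (D4.zOf f 1 t) := by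
  rw [← mul_inv_eq_iff_eq_mul, eZ, eZ, certFullD4.torus_conj_xg _ (show 23 < 24 by omega),
    (torus_values _).1]
  simp [D4.zOf]

/-- The torus element attached to an element of the larger field. -/
noncomputable def hT (s : Kˣ) : ℕ → Kˣ :=
  D4.zOf f s (s * Units.map (f : K →* K) s * Units.map (f : K →* K) (Units.map (f : K →* K) s))

theorem hT_values (s : Kˣ) : hT f s 0 = s ∧ hT f s 1 = s * Units.map (f : K →* K) s *
    Units.map (f : K →* K) (Units.map (f : K →* K) s) ∧ hT f s 2 = Units.map (f : K →* K) s ∧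
    hT f s 3 = Units.map (f : K →* K) (Units.map (f : K →* K) s) := by
  simp [hT, D4.zOf]

theorem hT_conj (s : Kˣ) :
    (∀ e, certFullD4.torus (hT f s) * eE e = eE e * certFullD4.torus (hT f s)) ∧
    (∀ z, certFullD4.torus (hT f s) * eZ z = eZ (Nm f s * z) * certFullD4.torus (hT f s)) ∧
    (∀ b, certFullD4.torus (hT f s) * eB b = eB (Nm f s * b) * certFullD4.torus (hT f s)) ∧
    (∀ a, certFullD4.torus (hT f s) * eA f a =
      eA f ((s : K) ^ 2 * a) * certFullD4.torus (hT f s)) ∧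
    ∀ c, certFullD4.torus (hT f s) * eC f c =
      eC f ((f s * f (f s) * (s : K)⁻¹) * c) * certFullD4.torus (hT f s) := by
  obtain ⟨v0, v1, v2, v3⟩ := hT_values f hf hK s
  obtain ⟨c23, c22, c14, c19, c16, c15, c17, c20, c21⟩ := torus_values (hT f s)
  rw [v1] at c23; rw [v0, v1, v2, v3] at c22 c14 c19 c16 c15; rw [v0, v2, v3] at c17 c20 c21
  have s0 : (s : K) ≠ 0 := s.ne_zero
  have s1 : f s ≠ 0 := fun e => s0 (f.injective (e.trans (map_zero f).symm))
  have s2 : f (f s) ≠ 0 := fun e => s1 (f.injective (e.trans (map_zero f).symm))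
  have h3 := D4.pow_cube f hf hK (s : K)
  have hx : ∀ r, r < 24 → ∀ u, MulAut.conj (certFullD4.torus (hT f s)) (certFullD4.xg r u) =
      certFullD4.xg r ((certFullD4.tchar (hT f s) r : K) * u) :=
    fun r hr u => certFullD4.torus_conj_xg _ (show r < chevD4.nroots from hr) u
  refine ⟨fun e => ?_, fun z => ?_, fun b => ?_, fun a => ?_, fun c => ?_⟩ <;>
    rw [← mul_inv_eq_iff_eq_mul, ← MulAut.conj_apply]
  · rw [eE, hx 22 (by omega), c22]
    simp only [Units.val_mul, Units.val_inv_eq_inv_val, Units.coe_map, MonoidHom.coe_coe]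
    congr 1; field_simp
  · rw [eZ, eZ, hx 23 (by omega), c23]
    simp [Nm]
  · rw [eB, eB, hx 14 (by omega), c14]
    simp only [Units.val_mul, Units.val_inv_eq_inv_val, Units.coe_map, MonoidHom.coe_coe, Nm]
    congr 1; field_simp
  · rw [eA, eA, map_mul, map_mul, hx 19 (by omega), hx 16 (by omega), hx 15 (by omega), c19, c16,
      c15]
    simp only [Units.val_mul, Units.val_inv_eq_inv_val, Units.coe_map, MonoidHom.coe_coe,
      map_mul, map_pow]
    congr 3 <;> field_simp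
  · rw [eC, eC, map_mul, map_mul, hx 17 (by omega), hx 20 (by omega), hx 21 (by omega), c17, c20,
      c21]
    simp only [Units.val_mul, Units.val_inv_eq_inv_val, Units.coe_map, MonoidHom.coe_coe,
      map_mul, map_inv₀, h3]
    congr 3 <;> field_simp

theorem hT_mem (s : Kˣ) : certFullD4.torus (hT f s) ∈ twistedD4 K q :=
  D4.torus_zOf_mem f hf _ _ (by
    show f _ = _
    simp only [Units.val_mul, Units.coe_map, MonoidHom.coe_coe, map_mul, D4.pow_cube f hf hK]
    ring)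

theorem nw1_mem : certFullD4.nw K [1] ∈ twistedD4 K q := D4.n_mem f hf hK [1] (by simp [orbitsD4])

theorem nw2_mem : certFullD4.nw K [0, 2, 3] ∈ twistedD4 K q :=
  D4.n_mem f hf hK [0, 2, 3] (by simp [orbitsD4])

theorem mem_eA (a : K) : eA f a ∈ twistedD4 K q := by
  rw [eq_mul_inv_of_mul_eq (n1_eX f a).symm]
  exact mul_mem (mul_mem (nw1_mem f hf hK) (D4.genX f hf a)) (inv_mem (nw1_mem f hf hK))

theorem mem_eC (c : K) : eC f c ∈ twistedD4 K q := by
  rw [eq_mul_inv_of_mul_eq (n2_eA f c).symm]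
  exact mul_mem (mul_mem (nw2_mem f hf hK) (mem_eA f hf hK c)) (inv_mem (nw2_mem f hf hK))

theorem mem_eX (t : K) : eX f t ∈ twistedD4 K q := D4.genX f hf t

theorem mem_eB (b : ↥(FF f)) : eB (b : K) ∈ twistedD4 K q :=
  D4.gen1 f hf (Or.inl rfl) (fix f hf hK b)

theorem mem_eE (e : ↥(FF f)) : eE (e : K) ∈ twistedD4 K q := by
  rw [eq_inv_mul_of_mul_eq (n2_eE (e : K))]
  exact mul_mem (inv_mem (nw2_mem f hf hK)) (mul_mem (mem_eB f hf hK e) (nw2_mem f hf hK))

theorem mem_eZ (z : ↥(FF f)) : eZ (z : K) ∈ twistedD4 K q := by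
  rw [eq_mul_inv_of_mul_eq (n1_eE (z : K)).symm]
  exact mul_mem (mul_mem (nw1_mem f hf hK) (mem_eE f hf hK z)) (inv_mem (nw1_mem f hf hK))

variable {V : Type*} [AddCommGroup V] [Module ℂ V] [FiniteDimensional ℂ V]
  (ρ : ↥(twistedD4 K q) →* End ℂ V)

open Classical in
/-- The operator of an element of the ambient group. -/
noncomputable def op (g : GL chevD4.Idx K) : End ℂ V :=
  if h : g ∈ twistedD4 K q then ρ ⟨g, h⟩ else 0

theorem op_mul {g h : GL chevD4.Idx K} (hg : g ∈ twistedD4 K q) (hh : h ∈ twistedD4 K q) :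
    op ρ (g * h) = op ρ g * op ρ h := by
  rw [op, op, op, dif_pos (mul_mem hg hh), dif_pos hg, dif_pos hh, ← map_mul]
  rfl

theorem op_one : op ρ 1 = 1 := by
  rw [op, dif_pos (one_mem _)]
  exact map_one ρ

/-- The invertible operator of an element of the group. -/
noncomputable def opU (g : GL chevD4.Idx K) (hg : g ∈ twistedD4 K q) : (End ℂ V)ˣ :=
  Units.map ρ (toUnits ⟨g, hg⟩)

theorem opU_val (g : GL chevD4.Idx K) (hg : g ∈ twistedD4 K q) :
    (opU ρ g hg : End ℂ V) = op ρ g := by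
  rw [op, dif_pos hg]; rfl

theorem op_rel {a b c d : GL chevD4.Idx K} (ha : a ∈ twistedD4 K q) (hb : b ∈ twistedD4 K q)
    (hc : c ∈ twistedD4 K q) (hd : d ∈ twistedD4 K q) (e : a * b = c * d) :
    op ρ a * op ρ b = op ρ c * op ρ d := by
  rw [← op_mul f hf hK ρ ha hb, e, op_mul f hf hK ρ hc hd]

/-- The operators of a representation. -/
noncomputable def ops [Fintype ↥(FF f)] (hne : ∃ z : ↥(FF f), op ρ (eZ (z : K)) ≠ 1) :
    Ops K ↥(FF f) (FF f).subtype V where
  T := AddMonoidHom.mk' (fun c => ⟨Tr f c, Tr_mem f hf hK c⟩) fun a b => Subtype.ext (by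
    show Tr f (a + b) = Tr f a + Tr f b
    simp only [Tr, map_add]; ring)
  N c := ⟨Nm f c, Nm_mem f hf hK c⟩
  T_ne := by
    obtain ⟨c, hc⟩ := Tr_ne f hf hK
    exact ⟨c, fun e => hc (congrArg Subtype.val e)⟩
  T_smul b c := Subtype.ext (by
    show Tr f ((b : K) * c) = (b : K) * Tr f c
    simp only [Tr, map_mul, fix f hf hK b]; ring)
  N_surj b := by
    obtain ⟨t, ht⟩ := Nm_surj f hf hK b
    exact ⟨t, Subtype.ext ht⟩
  N_ne s hs e := by
    have h : Nm f s = 0 := congrArg Subtype.val e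
    simp [Nm, hs] at h
  N_zero := Subtype.ext (by simp [Nm])
  A a := op ρ (eA f a)
  B b := op ρ (eB (b : K))
  C c := op ρ (eC f c)
  E e := op ρ (eE (e : K))
  Z z := op ρ (eZ (z : K))
  X t := opU ρ (eX f t) (mem_eX f hf hK t)
  act_A := ⟨by rw [eA, map_zero, map_zero, neg_zero, certFullD4.xg_zero, certFullD4.xg_zero,
      certFullD4.xg_zero, mul_one, mul_one, op_one f hf hK ρ],
    fun a b => by rw [eA_add, op_mul f hf hK ρ (mem_eA f hf hK a) (mem_eA f hf hK b)]⟩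
  act_B := ⟨by rw [ZeroMemClass.coe_zero, eB, certFullD4.xg_zero, op_one f hf hK ρ],
    fun a b => by rw [AddMemClass.coe_add, eB_add,
      op_mul f hf hK ρ (mem_eB f hf hK a) (mem_eB f hf hK b)]⟩
  act_C := ⟨by rw [eC, map_zero, map_zero, neg_zero, certFullD4.xg_zero, certFullD4.xg_zero,
      certFullD4.xg_zero, mul_one, mul_one, op_one f hf hK ρ],
    fun a b => by rw [eC_add, op_mul f hf hK ρ (mem_eC f hf hK a) (mem_eC f hf hK b)]⟩
  act_E := ⟨by rw [ZeroMemClass.coe_zero, eE, certFullD4.xg_zero, op_one f hf hK ρ],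
    fun a b => by rw [AddMemClass.coe_add, eE_add,
      op_mul f hf hK ρ (mem_eE f hf hK a) (mem_eE f hf hK b)]⟩
  act_Z := ⟨by rw [ZeroMemClass.coe_zero, eZ, certFullD4.xg_zero, op_one f hf hK ρ],
    fun a b => by rw [AddMemClass.coe_add, eZ_add,
      op_mul f hf hK ρ (mem_eZ f hf hK a) (mem_eZ f hf hK b)]⟩
  Z_A z a := op_rel f hf hK ρ (mem_eZ f hf hK z) (mem_eA f hf hK a) (mem_eA f hf hK a)
    (mem_eZ f hf hK z) (eZ_eA f _ _).eq
  Z_B z b := op_rel f hf hK ρ (mem_eZ f hf hK z) (mem_eB f hf hK b) (mem_eB f hf hK b)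
    (mem_eZ f hf hK z) (eZ_eB _ _).eq
  Z_C z c := op_rel f hf hK ρ (mem_eZ f hf hK z) (mem_eC f hf hK c) (mem_eC f hf hK c)
    (mem_eZ f hf hK z) (eZ_eC f _ _).eq
  Z_E z e := op_rel f hf hK ρ (mem_eZ f hf hK z) (mem_eE f hf hK e) (mem_eE f hf hK e)
    (mem_eZ f hf hK z) (eZ_eE _ _).eq
  Z_X z t := by
    rw [opU_val f hf hK]
    exact op_rel f hf hK ρ (mem_eZ f hf hK z) (mem_eX f hf hK t) (mem_eX f hf hK t)
      (mem_eZ f hf hK z) (eZ_eX f _ _).eq
  B_A b a := op_rel f hf hK ρ (mem_eB f hf hK b) (mem_eA f hf hK a) (mem_eA f hf hK a)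
    (mem_eB f hf hK b) (eB_eA f _ _).eq
  B_C b c := op_rel f hf hK ρ (mem_eB f hf hK b) (mem_eC f hf hK c) (mem_eC f hf hK c)
    (mem_eB f hf hK b) (eB_eC f _ _).eq
  E_A e a := op_rel f hf hK ρ (mem_eE f hf hK e) (mem_eA f hf hK a) (mem_eA f hf hK a)
    (mem_eE f hf hK e) (eE_eA f _ _).eq
  E_C e c := op_rel f hf hK ρ (mem_eE f hf hK e) (mem_eC f hf hK c) (mem_eC f hf hK c)
    (mem_eE f hf hK e) (eE_eC f _ _).eq
  E_X e t := by
    rw [opU_val f hf hK]
    exact op_rel f hf hK ρ (mem_eE f hf hK e) (mem_eX f hf hK t) (mem_eX f hf hK t)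
      (mem_eE f hf hK e) (eE_eX f _ _).eq
  B_E b e := by
    rw [← op_mul f hf hK ρ (mem_eE f hf hK e) (mem_eB f hf hK b)]
    exact op_rel f hf hK ρ (mem_eB f hf hK b) (mem_eE f hf hK e)
      (mul_mem (mem_eE f hf hK e) (mem_eB f hf hK b)) (mem_eZ f hf hK (e * b)) (eB_eE _ _)
  A_C a c := by
    rw [← op_mul f hf hK ρ (mem_eC f hf hK c) (mem_eA f hf hK a)]
    exact op_rel f hf hK ρ (mem_eA f hf hK a) (mem_eC f hf hK c)
      (mul_mem (mem_eC f hf hK c) (mem_eA f hf hK a)) (mem_eZ f hf hK _) (eA_eC f _ _)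
  X_C t c := by
    rw [opU_val f hf hK, ← op_mul f hf hK ρ (mem_eC f hf hK c) (mem_eX f hf hK t)]
    exact op_rel f hf hK ρ (mem_eX f hf hK t) (mem_eC f hf hK c)
      (mul_mem (mem_eC f hf hK c) (mem_eX f hf hK t)) (mem_eE f hf hK _) (eX_eC f _ _)
  X_B t b := by
    obtain ⟨z, hz⟩ := eX_eB f (D4.pow_cube f hf hK) t (b : K) (fix f hf hK b)
    set a := -((b : K) * t)
    set c := (b : K) * f t * f (f t)
    set e : ↥(FF f) := -(b * ⟨Nm f t, Nm_mem f hf hK t⟩)
    have hBA := mul_mem (mem_eB f hf hK b) (mem_eA f hf hK a)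
    have hBAC := mul_mem hBA (mem_eC f hf hK c)
    have hX : eX f t * eB (b : K) ∈ twistedD4 K q :=
      mul_mem (mem_eX f hf hK t) (mem_eB f hf hK b)
    change eX f t * eB (b : K) =
      eB (b : K) * eA f a * eC f c * eZ z * eE (e : K) * eX f t at hz
    have hz' : eZ z ∈ twistedD4 K q := by
      rw [hz] at hX
      rwa [mul_mem_cancel_right (mem_eX f hf hK t), mul_mem_cancel_right (mem_eE f hf hK e),
        mul_mem_cancel_left hBAC] at hX
    have hzF : z ∈ FF f := by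
      have hfx := (D4.tw f).mem_fix.1 (D4.le_fix f hf hK hz') |>.2
      rw [eZ, (D4.tw f).act_xg (show 23 < chevD4.nroots by decide)] at hfx
      change certFullD4.xg (graphD4.ρ 23) ((graphD4.ε 23 : K) * f z) = certFullD4.xg 23 z at hfx
      rw [show graphD4.ρ 23 = 23 by decide, show graphD4.ε 23 = 1 by decide, Int.cast_one,
        one_mul] at hfx
      exact certFullD4.xg_inj (show 23 < chevD4.nroots by decide) hfx
    refine ⟨a, c, ⟨z, hzF⟩, ?_⟩
    rw [opU_val f hf hK, ← op_mul f hf hK ρ (mem_eB f hf hK b) (mem_eA f hf hK a),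
      ← op_mul f hf hK ρ hBA (mem_eC f hf hK c), ← op_mul f hf hK ρ hBAC hz',
      ← op_mul f hf hK ρ (mul_mem hBAC hz') (mem_eE f hf hK e)]
    exact op_rel f hf hK ρ (mem_eX f hf hK t) (mem_eB f hf hK b)
      (mul_mem (mul_mem hBAC hz') (mem_eE f hf hK e)) (mem_eX f hf hK t) hz
  moveZ := ⟨opU ρ _ (nw1_mem f hf hK), fun e => by
    rw [opU_val f hf hK]
    exact op_rel f hf hK ρ (nw1_mem f hf hK) (mem_eE f hf hK e) (mem_eZ f hf hK e)
      (nw1_mem f hf hK) (n1_eE _)⟩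
  moveB := ⟨opU ρ _ (nw2_mem f hf hK), fun e => by
    rw [opU_val f hf hK]
    exact op_rel f hf hK ρ (nw2_mem f hf hK) (mem_eE f hf hK e) (mem_eB f hf hK e)
      (nw2_mem f hf hK) (n2_eE _)⟩
  scaleZ t ht := by
    have h0 : (t : K) ≠ 0 := fun e => ht (Subtype.ext e)
    have hm := D4.torus_zOf_mem f hf 1 (Units.mk0 _ h0) (fix f hf hK t)
    refine ⟨opU ρ _ hm, fun z => ?_⟩
    rw [opU_val f hf hK]
    exact op_rel f hf hK ρ hm (mem_eZ f hf hK z) (mem_eZ f hf hK (t * z)) hm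
      (h1_conj f hf hK _ _)
  torus s hs := by
    obtain ⟨hE, hZ, hB, hA, hC⟩ := hT_conj f hf hK (Units.mk0 s hs)
    set σ := f s * f (f s) * s⁻¹ with hσ
    have hσ0 : σ ≠ 0 := by simp [hσ, hs]
    have hm := hT_mem f hf hK (Units.mk0 s hs)
    refine ⟨opU ρ _ hm, fun e => ?_, fun z => ?_, fun b => ?_, fun a => ?_,
      fun d => ⟨σ⁻¹ * d, ?_⟩⟩ <;> rw [opU_val f hf hK]
    · exact op_rel f hf hK ρ hm (mem_eE f hf hK e) (mem_eE f hf hK e) hm (hE _)
    · exact op_rel f hf hK ρ hm (mem_eZ f hf hK z) (mem_eZ f hf hK _) hm (hZ _)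
    · exact op_rel f hf hK ρ hm (mem_eB f hf hK b) (mem_eB f hf hK _) hm (hB _)
    · exact op_rel f hf hK ρ hm (mem_eA f hf hK a) (mem_eA f hf hK _) hm (hA _)
    · refine op_rel f hf hK ρ hm (mem_eC f hf hK _) (mem_eC f hf hK d) hm ?_
      rw [hC]
      show eC f (σ * (σ⁻¹ * d)) * _ = _
      rw [mul_inv_cancel_left₀ hσ0]
  nontriv := hne

omit hf hK in
/-- The extreme degree does not divide the order. -/
theorem not_dvd (q : ℕ) (hq : 2 ≤ q) : ¬ ((q - 1) * (q ^ 4 + q ^ 3 + 1) ∣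
    q ^ 12 * (q ^ 2 - 1) * (q ^ 6 - 1) * (q ^ 8 + q ^ 4 + 1)) := by
  intro h
  have h1 := (Dvd.intro_left _ rfl : q ^ 4 + q ^ 3 + 1 ∣ (q - 1) * (q ^ 4 + q ^ 3 + 1)).trans h
  have hz : ((q ^ 4 + q ^ 3 + 1 : ℕ) : ℤ) ∣
      (q : ℤ) ^ 12 * ((q : ℤ) ^ 2 - 1) * ((q : ℤ) ^ 6 - 1) * ((q : ℤ) ^ 8 + (q : ℤ) ^ 4 + 1) := by
    have := Int.natCast_dvd_natCast.2 h1
    rwa [Nat.cast_mul, Nat.cast_mul, Nat.cast_mul, Nat.cast_sub (Nat.one_le_pow _ _ (by omega)),
      Nat.cast_sub (Nat.one_le_pow _ _ (by omega)), Nat.cast_add, Nat.cast_add, Nat.cast_pow,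
      Nat.cast_pow, Nat.cast_pow, Nat.cast_pow, Nat.cast_pow, Nat.cast_one] at this
  push_cast at hz
  generalize hx : (q : ℤ) = x at hz
  have hx2 : 2 ≤ x := by omega
  set g := x ^ 4 + x ^ 3 + 1 with hg
  have cop : ∀ y a b : ℤ, a * g + b * y = 1 → IsCoprime g y := fun y a b e => ⟨a, b, e⟩
  have cq : IsCoprime g x := cop _ 1 (-(x ^ 3 + x ^ 2)) (by rw [hg]; ring)
  have cp : IsCoprime g (x + 1) := cop _ 1 (-x ^ 3) (by rw [hg]; ring)
  have c6 : IsCoprime g (x ^ 2 - x + 1) :=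
    cop _ (x - 1) (2 + x - x ^ 2 - x ^ 3) (by rw [hg]; ring)
  have c12 : IsCoprime g (x ^ 4 - x ^ 2 + 1) := cop _ (1 - x) x (by rw [hg]; ring)
  have cA : IsCoprime g (x ^ 12 * (x + 1) ^ 2 * (x ^ 2 - x + 1) ^ 2 * (x ^ 4 - x ^ 2 + 1)) :=
    (((cq.pow_right).mul_right cp.pow_right).mul_right c6.pow_right).mul_right c12
  have hy : g ∣ ((x - 1) * (x ^ 2 + x + 1)) ^ 2 := by
    refine cA.dvd_of_dvd_mul_left ?_
    rw [show x ^ 12 * (x + 1) ^ 2 * (x ^ 2 - x + 1) ^ 2 * (x ^ 4 - x ^ 2 + 1) *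
      ((x - 1) * (x ^ 2 + x + 1)) ^ 2 =
      x ^ 12 * (x ^ 2 - 1) * (x ^ 6 - 1) * (x ^ 8 + x ^ 4 + 1) by ring]
    exact hz
  set y₁ := x - 1 with hy₁
  set y₂ := x ^ 2 + x + 1 with hy₂
  set v₁ := -(2 + 2 * x + 2 * x ^ 2 + x ^ 3) with hv₁
  set v₂ := 2 - x - x ^ 2 + x ^ 3 with hv₂
  have hW : g ∣ 9 - v₁ * v₂ * (y₁ * y₂) := by
    refine ⟨3 + v₁ * y₁ * (1 - x), ?_⟩
    have e₁ : g + v₁ * y₁ = 3 := by rw [hg, hv₁, hy₁]; ring
    have e₂ : (1 - x) * g + v₂ * y₂ = 3 := by rw [hg, hv₂, hy₂]; ring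
    linear_combination (-3 : ℤ) * e₁ + (-(v₁ * y₁)) * e₂
  have h81 : g ∣ 81 := by
    have e : (81 : ℤ) = (9 - v₁ * v₂ * (y₁ * y₂)) * (9 + v₁ * v₂ * (y₁ * y₂)) +
        (v₁ * v₂) ^ 2 * (y₁ * y₂) ^ 2 := by ring
    rw [e]
    exact dvd_add (dvd_mul_of_dvd_left hW _) (dvd_mul_of_dvd_right hy _)
  rcases (show x = 2 ∨ 3 ≤ x by omega) with h2 | h3
  · rw [h2] at hg
    norm_num [hg] at h81
  · have := Int.le_of_dvd (by norm_num) h81
    have h4 : (3 : ℤ) ^ 4 ≤ x ^ 4 := pow_le_pow_left₀ (by norm_num) h3 4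
    have : 0 < x ^ 3 := by positivity
    rw [hg] at *
    linarith

end Cfsg.Agent.Lie.Chev.D4Deg

namespace Cfsg.Agent.Lie.Chev.D4Deg

open Cfsg.Lie Module

/-- The bound. -/
theorem min_degree {K : Type*} [Field K] [Fintype K] (q : ℕ) (hq : IsPrimePow q)
    (hK : Fintype.card K = q ^ 3) (k : ℕ) (ρ : Representation ℂ (twistedD4 K q) (Fin k → ℂ))
    (hirr : ρ.IsIrreducible) (hk : 2 ≤ k) : q * (q ^ 4 - q ^ 2 + 1) ≤ k := by
  classical
  obtain ⟨f, hf⟩ := exists_qPow (e := 3) hq hK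
  haveI := hirr
  haveI := (D4.simple f hf hK).1
  have hinj : Function.Injective ρ := by
    rcases Subgroup.Normal.eq_bot_or_eq_top (inferInstance : (MonoidHom.ker ρ).Normal) with h | h
    · exact (MonoidHom.ker_eq_bot_iff ρ).1 h
    · exfalso
      have htriv : ∀ g v, ρ g v = v := fun g v => by
        have : g ∈ MonoidHom.ker ρ := h ▸ Subgroup.mem_top g
        rw [MonoidHom.mem_ker.1 this]
        rfl
      let e0 : Fin k → ℂ := Pi.single (⟨0, by omega⟩ : Fin k) 1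
      let W : Subrepresentation ρ := ⟨ℂ ∙ e0, fun g v hv => by rw [htriv]; exact hv⟩
      rcases eq_bot_or_eq_top W with h | h
      · have h' := congrArg Subrepresentation.toSubmodule h
        have : (Pi.single (⟨0, by omega⟩ : Fin k) (1 : ℂ) : Fin k → ℂ) = 0 :=
          Submodule.span_singleton_eq_bot.1 h'
        simpa using congrFun this ⟨0, by omega⟩
      · have h' := congrArg Subrepresentation.toSubmodule h
        have hfr : Module.finrank ℂ (ℂ ∙ e0) = k := by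
          rw [show (ℂ ∙ e0) = ⊤ from h']; simp
        rw [finrank_span_singleton (show e0 ≠ 0 by simp [e0])] at hfr
        omega
  letI : Fintype ↥(FF f) := Fintype.ofFinite _
  have hne : ∃ z : ↥(FF f), op ρ (eZ (z : K)) ≠ 1 := by
    refine ⟨1, fun e => ?_⟩
    rw [op, dif_pos (mem_eZ f hf hK 1)] at e
    have h1 := congrArg Subtype.val (hinj (e.trans (map_one ρ).symm))
    exact one_ne_zero ((certFullD4.xg_eq_one_iff (show 23 < chevD4.nroots by decide) _).1 h1)
  have hF := card_FF f hf hK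
  have hb := bound (ops f hf hK ρ hne) (by rw [hK, hF])
  rw [hF, finrank_fin_fun] at hb
  have hq2 := D4.one_lt_q f hf hK
  obtain ⟨n, hn⟩ : ∃ n, q = n + 1 := ⟨q - 1, by omega⟩
  have e : q * (q ^ 4 - q ^ 2 + 1) = (q - 1) * (q ^ 4 + q ^ 3 + 1) + 1 := by
    have hle : q ^ 2 ≤ q ^ 4 := Nat.pow_le_pow_right (by omega) (by norm_num)
    zify [hle, show 1 ≤ q by omega]
    ring
  rcases hb with hb | hb
  · refine le_trans ?_ hb
    rw [e, two_mul]
    have : 1 ≤ (q - 1) * (q ^ 4 + q ^ 3) :=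
      Nat.one_le_iff_ne_zero.2 (mul_ne_zero (by omega) (by positivity))
    have h1 : q - 1 < (q - 1) * (q ^ 4 + q ^ 3) := by
      have h16 : 2 ≤ q ^ 4 + q ^ 3 := by
        have := Nat.le_self_pow (show 4 ≠ 0 by norm_num) q
        omega
      calc q - 1 < (q - 1) * 2 := by omega
        _ ≤ _ := Nat.mul_le_mul_left _ h16
    rw [mul_add (q - 1) (q ^ 4 + q ^ 3) 1, mul_one]
    omega
  · rw [e]
    refine lt_of_le_of_ne hb fun he => not_dvd q hq2 ?_
    have hd := Cfsg.Agent.Char.degree_dvd_card ρ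
    rw [finrank_fin_fun, D4.card_group f hf hK, ← he] at hd
    exact hd

end Cfsg.Agent.Lie.Chev.D4Deg
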