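import Cfsg.Agent.Lib.Lie.Chev.TwistD4

/-! Relations in the positive unipotent part of ³D₄(q). -/

set_option autoImplicit false
set_option maxRecDepth 20000

namespace Cfsg.Agent.Lie.Chev.D4Deg

open Cfsg.Lie

variable {K : Type*} [Field K]

local notation "x" => certFullD4.xg (F := K)

theorem cross3 {G : Type*} [Group G] {a₁ a₂ a₃ c₁ c₂ c₃ z₁ z₂ z₃ : G}
    (k12 : Commute a₁ c₂) (k13 : Commute a₁ c₃) (k21 : Commute a₂ c₁) (k23 : Commute a₂ c₃)
    (k31 : Commute a₃ c₁) (k32 : Commute a₃ c₂)
    (e₁ : a₁ * c₁ = c₁ * a₁ * z₁) (e₂ : a₂ * c₂ = c₂ * a₂ * z₂) (e₃ : a₃ * c₃ = c₃ * a₃ * z₃)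
    (y1 : Commute z₁ a₂) (y2 : Commute z₁ a₃) (y3 : Commute z₁ c₂) (y4 : Commute z₁ c₃)
    (y5 : Commute z₂ a₃) (y6 : Commute z₂ c₃) :
    a₁ * a₂ * a₃ * (c₁ * c₂ * c₃) = c₁ * c₂ * c₃ * (a₁ * a₂ * a₃) * (z₁ * z₂ * z₃) := by
  have l₁ : ∀ R, a₁ * (c₁ * R) = c₁ * (a₁ * (z₁ * R)) := fun R => by
    rw [← mul_assoc, e₁]; simp only [mul_assoc]
  have l₂ : ∀ R, a₂ * (c₂ * R) = c₂ * (a₂ * (z₂ * R)) := fun R => by
    rw [← mul_assoc, e₂]; simp only [mul_assoc]
  simp only [mul_assoc]
  simp only [k31.left_comm, k21.left_comm, l₁, k32.left_comm, l₂, e₃, y3.left_comm,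
    y1.left_comm, y2.left_comm, y4.left_comm, y5.left_comm, y6.left_comm, k12.left_comm,
    k23.left_comm, k13.left_comm, mul_assoc]

theorem mul3 {G : Type*} [Group G] {a₁ a₂ a₃ c₁ c₂ c₃ : G}
    (k1 : Commute a₂ c₁) (k2 : Commute a₃ c₁) (k3 : Commute a₃ c₂) :
    a₁ * a₂ * a₃ * (c₁ * c₂ * c₃) = a₁ * c₁ * (a₂ * c₂) * (a₃ * c₃) := by
  simp only [mul_assoc, k2.left_comm, k1.left_comm, k3.left_comm]

theorem com {r s : ℕ} (h : certFullD4.T.commTerms r s = []) (hr : r ∈ List.range' 12 12)
    (hs : s ∈ List.range' 12 12) (t u : K) : Commute (x r t) (x s u) := by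
  rw [List.mem_range'_1] at hr hs
  rcases eq_or_ne s r with rfl | hne
  · rw [Commute, SemiconjBy, ← certFullD4.xg_add, ← certFullD4.xg_add, add_comm]
  refine certFullD4.xg_commute (show r < 24 by omega) (show s < 24 by omega) hne ?_ h t u
  rw [show chevD4.neg r = 23 - r from certFullD4.neg_eq (show r < 24 by omega)]
  omega

theorem swap {r s w : ℕ} {k : ℤ} (h : certFullD4.T.commTerms r s = [(w, k, 1, 1)])
    (hr : r ∈ List.range' 12 12) (hs : s ∈ List.range' 12 12) (hne : s ≠ r) (t u : K) :
    x s u * x r t = x r t * x s u * x w ((k : K) * (-t) * u) := by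
  rw [List.mem_range'_1] at hr hs
  rw [certFullD4.xg_comm (show r < 24 by omega) (show s < 24 by omega) hne
    (by rw [show chevD4.neg r = 23 - r from certFullD4.neg_eq (show r < 24 by omega)]; omega) t u, h]
  simp

theorem central23 {r : ℕ} (hr : r ∈ List.range' 12 12) (t u : K) :
    Commute (x 23 t) (x r u) := by
  have hall : ((List.range' 12 12).all fun r => (certFullD4.T.commTerms 23 r).isEmpty) = true := by
    decide +kernel
  exact com (List.isEmpty_iff.1 (List.all_eq_true.1 hall r hr)) (by decide) hr t u

variable (f : K →+* K)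

/-- The long simple root element. -/
noncomputable def eB (b : K) : GL chevD4.Idx K := x 14 b

/-- The first orbit of three roots. -/
noncomputable def eA (a : K) : GL chevD4.Idx K := x 19 a * x 16 (-f a) * x 15 (-f (f a))

/-- The second orbit of three roots. -/
noncomputable def eC (c : K) : GL chevD4.Idx K := x 17 c * x 20 (-f c) * x 21 (-f (f c))

/-- The second highest long root element. -/
noncomputable def eE (e : K) : GL chevD4.Idx K := x 22 e

/-- The highest root element. -/
noncomputable def eZ (z : K) : GL chevD4.Idx K := x 23 z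

/-- The short simple orbit. -/
noncomputable def eX (t : K) : GL chevD4.Idx K := D4.X t (f t) (f (f t))

/-- The trace. -/
def Tr (c : K) : K := c + f c + f (f c)

/-- The norm. -/
def Nm (c : K) : K := c * f c * f (f c)

theorem eB_add (a b : K) : eB (a + b) = eB a * eB b := certFullD4.xg_add _ _ _
theorem eE_add (a b : K) : eE (a + b) = eE a * eE b := certFullD4.xg_add _ _ _
theorem eZ_add (a b : K) : eZ (a + b) = eZ a * eZ b := certFullD4.xg_add _ _ _

theorem eA_add (a b : K) : eA f (a + b) = eA f a * eA f b := by
  rw [eA, eA, eA, mul3 (com (by decide +kernel) (by decide) (by decide) _ _)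
    (com (by decide +kernel) (by decide) (by decide) _ _)
    (com (by decide +kernel) (by decide) (by decide) _ _), ← certFullD4.xg_add,
    ← certFullD4.xg_add, ← certFullD4.xg_add]
  simp only [map_add, neg_add]

theorem eC_add (a b : K) : eC f (a + b) = eC f a * eC f b := by
  rw [eC, eC, eC, mul3 (com (by decide +kernel) (by decide) (by decide) _ _)
    (com (by decide +kernel) (by decide) (by decide) _ _)
    (com (by decide +kernel) (by decide) (by decide) _ _), ← certFullD4.xg_add,
    ← certFullD4.xg_add, ← certFullD4.xg_add]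
  simp only [map_add, neg_add]

theorem eZ_eA (z a : K) : Commute (eZ z) (eA f a) :=
  ((central23 (by decide) _ _).mul_right (central23 (by decide) _ _)).mul_right
    (central23 (by decide) _ _)
theorem eZ_eC (z c : K) : Commute (eZ z) (eC f c) :=
  ((central23 (by decide) _ _).mul_right (central23 (by decide) _ _)).mul_right
    (central23 (by decide) _ _)
theorem eZ_eX (z t : K) : Commute (eZ z) (eX f t) :=
  ((central23 (by decide) _ _).mul_right (central23 (by decide) _ _)).mul_right
    (central23 (by decide) _ _)
theorem eZ_eB (z b : K) : Commute (eZ z) (eB b) := central23 (by decide) _ _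
theorem eZ_eE (z e : K) : Commute (eZ z) (eE e) := central23 (by decide) _ _

theorem eB_eA (b a : K) : Commute (eB b) (eA f a) :=
  ((com (by decide +kernel) (by decide) (by decide) _ _).mul_right
    (com (by decide +kernel) (by decide) (by decide) _ _)).mul_right
    (com (by decide +kernel) (by decide) (by decide) _ _)
theorem eB_eC (b c : K) : Commute (eB b) (eC f c) :=
  ((com (by decide +kernel) (by decide) (by decide) _ _).mul_right
    (com (by decide +kernel) (by decide) (by decide) _ _)).mul_right
    (com (by decide +kernel) (by decide) (by decide) _ _)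
theorem eE_eA (e a : K) : Commute (eE e) (eA f a) :=
  ((com (by decide +kernel) (by decide) (by decide) _ _).mul_right
    (com (by decide +kernel) (by decide) (by decide) _ _)).mul_right
    (com (by decide +kernel) (by decide) (by decide) _ _)
theorem eE_eC (e c : K) : Commute (eE e) (eC f c) :=
  ((com (by decide +kernel) (by decide) (by decide) _ _).mul_right
    (com (by decide +kernel) (by decide) (by decide) _ _)).mul_right
    (com (by decide +kernel) (by decide) (by decide) _ _)
theorem eE_eX (e t : K) : Commute (eE e) (eX f t) :=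
  ((com (by decide +kernel) (by decide) (by decide) _ _).mul_right
    (com (by decide +kernel) (by decide) (by decide) _ _)).mul_right
    (com (by decide +kernel) (by decide) (by decide) _ _)

theorem eB_eE (b e : K) : eB b * eE e = eE e * eB b * eZ (e * b) := by
  rw [eB, eE, eZ, swap (k := -1) (w := 23) (by decide +kernel) (by decide) (by decide) (by decide)]
  congr 2
  push_cast; ring

theorem eA_eC (a c : K) : eA f a * eC f c = eC f c * eA f a * eZ (-Tr f (a * c)) := by
  rw [eA, eC, eZ, cross3 (com (by decide +kernel) (by decide) (by decide) _ _)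
    (com (by decide +kernel) (by decide) (by decide) _ _)
    (com (by decide +kernel) (by decide) (by decide) _ _)
    (com (by decide +kernel) (by decide) (by decide) _ _)
    (com (by decide +kernel) (by decide) (by decide) _ _)
    (com (by decide +kernel) (by decide) (by decide) _ _)
    (swap (k := 1) (w := 23) (by decide +kernel) (by decide) (by decide) (by decide) _ _)
    (swap (k := 1) (w := 23) (by decide +kernel) (by decide) (by decide) (by decide) _ _)
    (swap (k := 1) (w := 23) (by decide +kernel) (by decide) (by decide) (by decide) _ _)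
    (central23 (by decide) _ _) (central23 (by decide) _ _) (central23 (by decide) _ _)
    (central23 (by decide) _ _) (central23 (by decide) _ _) (central23 (by decide) _ _),
    ← certFullD4.xg_add, ← certFullD4.xg_add]
  congr 2
  simp only [Tr, map_mul]
  push_cast; ring

theorem eX_eC (t c : K) : eX f t * eC f c = eC f c * eX f t * eE (-Tr f (t * c)) := by
  rw [eX, D4.X, eC, eE, cross3 (com (by decide +kernel) (by decide) (by decide) _ _)
    (com (by decide +kernel) (by decide) (by decide) _ _)
    (com (by decide +kernel) (by decide) (by decide) _ _)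
    (com (by decide +kernel) (by decide) (by decide) _ _)
    (com (by decide +kernel) (by decide) (by decide) _ _)
    (com (by decide +kernel) (by decide) (by decide) _ _)
    (swap (k := 1) (w := 22) (by decide +kernel) (by decide) (by decide) (by decide) _ _)
    (swap (k := -1) (w := 22) (by decide +kernel) (by decide) (by decide) (by decide) _ _)
    (swap (k := -1) (w := 22) (by decide +kernel) (by decide) (by decide) (by decide) _ _)
    (com (by decide +kernel) (by decide) (by decide) _ _)
    (com (by decide +kernel) (by decide) (by decide) _ _)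
    (com (by decide +kernel) (by decide) (by decide) _ _)
    (com (by decide +kernel) (by decide) (by decide) _ _)
    (com (by decide +kernel) (by decide) (by decide) _ _)
    (com (by decide +kernel) (by decide) (by decide) _ _),
    ← certFullD4.xg_add, ← certFullD4.xg_add]
  congr 2
  simp only [Tr, map_mul]
  push_cast; ring

theorem eX_eB (h3 : ∀ t, f (f (f t)) = t) (t b : K) (hb : f b = b) :
    ∃ z : K, eX f t * eB b =
      eB b * eA f (-(b * t)) * eC f (b * f t * f (f t)) * eZ z * eE (-(b * Nm f t)) * eX f t := by
  have hcm : ∀ {r s : ℕ}, certFullD4.T.commTerms r s = [] → r ∈ List.range' 12 12 →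
      s ∈ List.range' 12 12 → ∀ u v (R : GL chevD4.Idx K), x r u * (x s v * R) = x s v * (x r u * R) :=
    fun h hr hs u v R => (com h hr hs u v).left_comm R
  have sw : ∀ {r s w : ℕ} {k : ℤ}, certFullD4.T.commTerms r s = [(w, k, 1, 1)] →
      r ∈ List.range' 12 12 → s ∈ List.range' 12 12 → s ≠ r → ∀ u v (R : GL chevD4.Idx K),
      x s u * (x r v * R) = x r v * (x s u * (x w ((k : K) * (-v) * u) * R)) := by
    intro r s w k h hr hs hne u v R
    rw [← mul_assoc, swap h hr hs hne]
    simp only [mul_assoc]
  have p1 := @sw 14 12 15 (-1) (by decide +kernel) (by decide) (by decide) (by decide)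
  have p2 := @sw 14 13 16 (-1) (by decide +kernel) (by decide) (by decide) (by decide)
  have p3 := @sw 14 18 19 1 (by decide +kernel) (by decide) (by decide) (by decide)
  have p4 := @sw 15 13 17 (-1) (by decide +kernel) (by decide) (by decide) (by decide)
  have p5 := @sw 16 18 21 1 (by decide +kernel) (by decide) (by decide) (by decide)
  have p6 := @sw 15 18 20 1 (by decide +kernel) (by decide) (by decide) (by decide)
  have p7 := @sw 17 18 22 1 (by decide +kernel) (by decide) (by decide) (by decide)
  have p8 := @sw 15 21 23 (-1) (by decide +kernel) (by decide) (by decide) (by decide)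
  have q1 := @hcm 18 19 (by decide +kernel) (by decide) (by decide)
  have q2 := @hcm 13 16 (by decide +kernel) (by decide) (by decide)
  have q3 := @hcm 12 15 (by decide +kernel) (by decide) (by decide)
  have q5 := @hcm 13 17 (by decide +kernel) (by decide) (by decide)
  have q6 := @hcm 18 21 (by decide +kernel) (by decide) (by decide)
  have q7 := @hcm 18 20 (by decide +kernel) (by decide) (by decide)
  have q8 := @hcm 18 22 (by decide +kernel) (by decide) (by decide)
  have q11 := @hcm 23 17 (by decide +kernel) (by decide) (by decide)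
  have q12 := @hcm 21 17 (by decide +kernel) (by decide) (by decide)
  have q13 := @hcm 20 17 (by decide +kernel) (by decide) (by decide)
  have q15 := @hcm 18 23 (by decide +kernel) (by decide) (by decide)
  have q16 := @hcm 22 20 (by decide +kernel) (by decide) (by decide)
  have q17 := @hcm 22 21 (by decide +kernel) (by decide) (by decide)
  have q18 := @hcm 22 23 (by decide +kernel) (by decide) (by decide)
  refine ⟨-(b * b * Nm f t), ?_⟩
  apply mul_right_cancel (b := (1 : GL chevD4.Idx K))
  simp only [eX, D4.X, eB, eA, eC, eE, eZ, mul_assoc]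
  rw [p1, p2, p3]
  rw [q1, q2, q3]
  rw [p4, q5]
  rw [p5, p8, p6, q11, q12, q13, p7, q8, q7, q6, q15, q16, q17, q18]
  simp only [Nm, map_neg, map_mul, h3, hb]
  push_cast
  ring_nf
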