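import Cfsg.Agent.Lib.Lie.Chev.TwistD4
import Cfsg.Agent.Lib.Lie.Chev.AutBorel

/-! The unipotent subgroup of `D₄` in coordinates, ordered by the triality orbits, in every
characteristic. -/

set_option autoImplicit false
set_option maxRecDepth 20000

namespace Cfsg.Agent.Lie.Chev.D4Sub

open Cfsg.Lie

variable {F : Type*} [Field F]

/-- Root elements of `D₄`. -/
def X (r : ℕ) (t : F) : GL chevD4.Idx F := certFullD4.xg r t

theorem X_zero (r : ℕ) : X r (0 : F) = 1 := certFullD4.xg_zero r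

theorem merge (r : ℕ) (a b : F) (Z : GL chevD4.Idx F) : X r a * (X r b * Z) = X r (a + b) * Z := by
  rw [X, X, X, certFullD4.xg_add, mul_assoc]

/-- The product in the order of the orbits. -/
def nf (b a₁ a₂ a₃ c₁ c₂ c₃ d₁ d₂ d₃ e z : F) : GL chevD4.Idx F :=
  X 14 b * (X 18 a₁ * (X 13 a₂ * (X 12 a₃ * (X 19 c₁ * (X 16 c₂ * (X 15 c₃ * (X 17 d₁ * (X 20 d₂ * (X 21 d₃ * (X 22 e * (X 23 z * 1)))))))))))

theorem swap_pos {r s x : ℕ} (h : r < 24 ∧ s < 24 ∧ s ≠ r ∧ r + s ≠ 23 ∧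
    certFullD4.T.commTerms r s = [(x, 1, 1, 1)]) (t u : F) (Z : GL chevD4.Idx F) :
    X s u * (X r t * Z) = X r t * (X s u * (X x (-(t * u)) * Z)) := by
  obtain ⟨hr, hs, h1, h2, hc⟩ := h
  have e : chevD4.neg r = 23 - r := certFullD4.neg_eq hr
  have := certFullD4.xg_comm (show r < chevD4.nroots from hr) (show s < chevD4.nroots from hs) h1
    (by rw [e]; omega) t u
  simp only [← mul_assoc]
  rw [show X s u * X r t = _ from this]
  simp [hc, X, mul_assoc]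

theorem swap_neg {r s x : ℕ} (h : r < 24 ∧ s < 24 ∧ s ≠ r ∧ r + s ≠ 23 ∧
    certFullD4.T.commTerms r s = [(x, -1, 1, 1)]) (t u : F) (Z : GL chevD4.Idx F) :
    X s u * (X r t * Z) = X r t * (X s u * (X x (t * u) * Z)) := by
  obtain ⟨hr, hs, h1, h2, hc⟩ := h
  have e : chevD4.neg r = 23 - r := certFullD4.neg_eq hr
  have := certFullD4.xg_comm (show r < chevD4.nroots from hr) (show s < chevD4.nroots from hs) h1
    (by rw [e]; omega) t u
  simp only [← mul_assoc]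
  rw [show X s u * X r t = _ from this]
  simp [hc, X, mul_assoc]

theorem swap_nil {r s : ℕ} (h : r < 24 ∧ s < 24 ∧ s ≠ r ∧ r + s ≠ 23 ∧
    certFullD4.T.commTerms r s = []) (t u : F) (Z : GL chevD4.Idx F) :
    X s u * (X r t * Z) = X r t * (X s u * Z) := by
  obtain ⟨hr, hs, h1, h2, hc⟩ := h
  have e : chevD4.neg r = 23 - r := certFullD4.neg_eq hr
  rw [X, X, ← mul_assoc, ← (certFullD4.xg_commute (show r < chevD4.nroots from hr)
    (show s < chevD4.nroots from hs) h1 (by rw [e]; omega) hc t u).eq, mul_assoc]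

theorem sw14_18 (t u : F) (Z : GL chevD4.Idx F) :
    X 18 u * (X 14 t * Z) = X 14 t * (X 18 u * (X 19 (-(t * u)) * Z)) :=
  swap_pos (by decide +kernel) t u Z

theorem sw14_13 (t u : F) (Z : GL chevD4.Idx F) :
    X 13 u * (X 14 t * Z) = X 14 t * (X 13 u * (X 16 (t * u) * Z)) :=
  swap_neg (by decide +kernel) t u Z

theorem sw14_12 (t u : F) (Z : GL chevD4.Idx F) :
    X 12 u * (X 14 t * Z) = X 14 t * (X 12 u * (X 15 (t * u) * Z)) :=
  swap_neg (by decide +kernel) t u Z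

theorem sw14_19 (t u : F) (Z : GL chevD4.Idx F) :
    X 19 u * (X 14 t * Z) = X 14 t * (X 19 u * Z) :=
  swap_nil (by decide +kernel) t u Z

theorem sw14_16 (t u : F) (Z : GL chevD4.Idx F) :
    X 16 u * (X 14 t * Z) = X 14 t * (X 16 u * Z) :=
  swap_nil (by decide +kernel) t u Z

theorem sw14_15 (t u : F) (Z : GL chevD4.Idx F) :
    X 15 u * (X 14 t * Z) = X 14 t * (X 15 u * Z) :=
  swap_nil (by decide +kernel) t u Z

theorem sw14_17 (t u : F) (Z : GL chevD4.Idx F) :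
    X 17 u * (X 14 t * Z) = X 14 t * (X 17 u * Z) :=
  swap_nil (by decide +kernel) t u Z

theorem sw14_20 (t u : F) (Z : GL chevD4.Idx F) :
    X 20 u * (X 14 t * Z) = X 14 t * (X 20 u * Z) :=
  swap_nil (by decide +kernel) t u Z

theorem sw14_21 (t u : F) (Z : GL chevD4.Idx F) :
    X 21 u * (X 14 t * Z) = X 14 t * (X 21 u * Z) :=
  swap_nil (by decide +kernel) t u Z

theorem sw14_22 (t u : F) (Z : GL chevD4.Idx F) :
    X 22 u * (X 14 t * Z) = X 14 t * (X 22 u * (X 23 (-(t * u)) * Z)) :=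
  swap_pos (by decide +kernel) t u Z

theorem sw14_23 (t u : F) (Z : GL chevD4.Idx F) :
    X 23 u * (X 14 t * Z) = X 14 t * (X 23 u * Z) :=
  swap_nil (by decide +kernel) t u Z

theorem sw18_13 (t u : F) (Z : GL chevD4.Idx F) :
    X 13 u * (X 18 t * Z) = X 18 t * (X 13 u * Z) :=
  swap_nil (by decide +kernel) t u Z

theorem sw18_12 (t u : F) (Z : GL chevD4.Idx F) :
    X 12 u * (X 18 t * Z) = X 18 t * (X 12 u * Z) :=
  swap_nil (by decide +kernel) t u Z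

theorem sw18_19 (t u : F) (Z : GL chevD4.Idx F) :
    X 19 u * (X 18 t * Z) = X 18 t * (X 19 u * Z) :=
  swap_nil (by decide +kernel) t u Z

theorem sw18_16 (t u : F) (Z : GL chevD4.Idx F) :
    X 16 u * (X 18 t * Z) = X 18 t * (X 16 u * (X 21 (t * u) * Z)) :=
  swap_neg (by decide +kernel) t u Z

theorem sw18_15 (t u : F) (Z : GL chevD4.Idx F) :
    X 15 u * (X 18 t * Z) = X 18 t * (X 15 u * (X 20 (t * u) * Z)) :=
  swap_neg (by decide +kernel) t u Z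

theorem sw18_17 (t u : F) (Z : GL chevD4.Idx F) :
    X 17 u * (X 18 t * Z) = X 18 t * (X 17 u * (X 22 (t * u) * Z)) :=
  swap_neg (by decide +kernel) t u Z

theorem sw18_20 (t u : F) (Z : GL chevD4.Idx F) :
    X 20 u * (X 18 t * Z) = X 18 t * (X 20 u * Z) :=
  swap_nil (by decide +kernel) t u Z

theorem sw18_21 (t u : F) (Z : GL chevD4.Idx F) :
    X 21 u * (X 18 t * Z) = X 18 t * (X 21 u * Z) :=
  swap_nil (by decide +kernel) t u Z

theorem sw18_22 (t u : F) (Z : GL chevD4.Idx F) :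
    X 22 u * (X 18 t * Z) = X 18 t * (X 22 u * Z) :=
  swap_nil (by decide +kernel) t u Z

theorem sw18_23 (t u : F) (Z : GL chevD4.Idx F) :
    X 23 u * (X 18 t * Z) = X 18 t * (X 23 u * Z) :=
  swap_nil (by decide +kernel) t u Z

theorem sw13_12 (t u : F) (Z : GL chevD4.Idx F) :
    X 12 u * (X 13 t * Z) = X 13 t * (X 12 u * Z) :=
  swap_nil (by decide +kernel) t u Z

theorem sw13_19 (t u : F) (Z : GL chevD4.Idx F) :
    X 19 u * (X 13 t * Z) = X 13 t * (X 19 u * (X 21 (-(t * u)) * Z)) :=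
  swap_pos (by decide +kernel) t u Z

theorem sw13_16 (t u : F) (Z : GL chevD4.Idx F) :
    X 16 u * (X 13 t * Z) = X 13 t * (X 16 u * Z) :=
  swap_nil (by decide +kernel) t u Z

theorem sw13_15 (t u : F) (Z : GL chevD4.Idx F) :
    X 15 u * (X 13 t * Z) = X 13 t * (X 15 u * (X 17 (-(t * u)) * Z)) :=
  swap_pos (by decide +kernel) t u Z

theorem sw13_17 (t u : F) (Z : GL chevD4.Idx F) :
    X 17 u * (X 13 t * Z) = X 13 t * (X 17 u * Z) :=
  swap_nil (by decide +kernel) t u Z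

theorem sw13_20 (t u : F) (Z : GL chevD4.Idx F) :
    X 20 u * (X 13 t * Z) = X 13 t * (X 20 u * (X 22 (-(t * u)) * Z)) :=
  swap_pos (by decide +kernel) t u Z

theorem sw13_21 (t u : F) (Z : GL chevD4.Idx F) :
    X 21 u * (X 13 t * Z) = X 13 t * (X 21 u * Z) :=
  swap_nil (by decide +kernel) t u Z

theorem sw13_22 (t u : F) (Z : GL chevD4.Idx F) :
    X 22 u * (X 13 t * Z) = X 13 t * (X 22 u * Z) :=
  swap_nil (by decide +kernel) t u Z

theorem sw13_23 (t u : F) (Z : GL chevD4.Idx F) :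
    X 23 u * (X 13 t * Z) = X 13 t * (X 23 u * Z) :=
  swap_nil (by decide +kernel) t u Z

theorem sw12_19 (t u : F) (Z : GL chevD4.Idx F) :
    X 19 u * (X 12 t * Z) = X 12 t * (X 19 u * (X 20 (-(t * u)) * Z)) :=
  swap_pos (by decide +kernel) t u Z

theorem sw12_16 (t u : F) (Z : GL chevD4.Idx F) :
    X 16 u * (X 12 t * Z) = X 12 t * (X 16 u * (X 17 (-(t * u)) * Z)) :=
  swap_pos (by decide +kernel) t u Z

theorem sw12_15 (t u : F) (Z : GL chevD4.Idx F) :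
    X 15 u * (X 12 t * Z) = X 12 t * (X 15 u * Z) :=
  swap_nil (by decide +kernel) t u Z

theorem sw12_17 (t u : F) (Z : GL chevD4.Idx F) :
    X 17 u * (X 12 t * Z) = X 12 t * (X 17 u * Z) :=
  swap_nil (by decide +kernel) t u Z

theorem sw12_20 (t u : F) (Z : GL chevD4.Idx F) :
    X 20 u * (X 12 t * Z) = X 12 t * (X 20 u * Z) :=
  swap_nil (by decide +kernel) t u Z

theorem sw12_21 (t u : F) (Z : GL chevD4.Idx F) :
    X 21 u * (X 12 t * Z) = X 12 t * (X 21 u * (X 22 (-(t * u)) * Z)) :=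
  swap_pos (by decide +kernel) t u Z

theorem sw12_22 (t u : F) (Z : GL chevD4.Idx F) :
    X 22 u * (X 12 t * Z) = X 12 t * (X 22 u * Z) :=
  swap_nil (by decide +kernel) t u Z

theorem sw12_23 (t u : F) (Z : GL chevD4.Idx F) :
    X 23 u * (X 12 t * Z) = X 12 t * (X 23 u * Z) :=
  swap_nil (by decide +kernel) t u Z

theorem sw19_16 (t u : F) (Z : GL chevD4.Idx F) :
    X 16 u * (X 19 t * Z) = X 19 t * (X 16 u * Z) :=
  swap_nil (by decide +kernel) t u Z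

theorem sw19_15 (t u : F) (Z : GL chevD4.Idx F) :
    X 15 u * (X 19 t * Z) = X 19 t * (X 15 u * Z) :=
  swap_nil (by decide +kernel) t u Z

theorem sw19_17 (t u : F) (Z : GL chevD4.Idx F) :
    X 17 u * (X 19 t * Z) = X 19 t * (X 17 u * (X 23 (t * u) * Z)) :=
  swap_neg (by decide +kernel) t u Z

theorem sw19_20 (t u : F) (Z : GL chevD4.Idx F) :
    X 20 u * (X 19 t * Z) = X 19 t * (X 20 u * Z) :=
  swap_nil (by decide +kernel) t u Z

theorem sw19_21 (t u : F) (Z : GL chevD4.Idx F) :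
    X 21 u * (X 19 t * Z) = X 19 t * (X 21 u * Z) :=
  swap_nil (by decide +kernel) t u Z

theorem sw19_22 (t u : F) (Z : GL chevD4.Idx F) :
    X 22 u * (X 19 t * Z) = X 19 t * (X 22 u * Z) :=
  swap_nil (by decide +kernel) t u Z

theorem sw19_23 (t u : F) (Z : GL chevD4.Idx F) :
    X 23 u * (X 19 t * Z) = X 19 t * (X 23 u * Z) :=
  swap_nil (by decide +kernel) t u Z

theorem sw16_15 (t u : F) (Z : GL chevD4.Idx F) :
    X 15 u * (X 16 t * Z) = X 16 t * (X 15 u * Z) :=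
  swap_nil (by decide +kernel) t u Z

theorem sw16_17 (t u : F) (Z : GL chevD4.Idx F) :
    X 17 u * (X 16 t * Z) = X 16 t * (X 17 u * Z) :=
  swap_nil (by decide +kernel) t u Z

theorem sw16_20 (t u : F) (Z : GL chevD4.Idx F) :
    X 20 u * (X 16 t * Z) = X 16 t * (X 20 u * (X 23 (t * u) * Z)) :=
  swap_neg (by decide +kernel) t u Z

theorem sw16_21 (t u : F) (Z : GL chevD4.Idx F) :
    X 21 u * (X 16 t * Z) = X 16 t * (X 21 u * Z) :=
  swap_nil (by decide +kernel) t u Z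

theorem sw16_22 (t u : F) (Z : GL chevD4.Idx F) :
    X 22 u * (X 16 t * Z) = X 16 t * (X 22 u * Z) :=
  swap_nil (by decide +kernel) t u Z

theorem sw16_23 (t u : F) (Z : GL chevD4.Idx F) :
    X 23 u * (X 16 t * Z) = X 16 t * (X 23 u * Z) :=
  swap_nil (by decide +kernel) t u Z

theorem sw15_17 (t u : F) (Z : GL chevD4.Idx F) :
    X 17 u * (X 15 t * Z) = X 15 t * (X 17 u * Z) :=
  swap_nil (by decide +kernel) t u Z

theorem sw15_20 (t u : F) (Z : GL chevD4.Idx F) :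
    X 20 u * (X 15 t * Z) = X 15 t * (X 20 u * Z) :=
  swap_nil (by decide +kernel) t u Z

theorem sw15_21 (t u : F) (Z : GL chevD4.Idx F) :
    X 21 u * (X 15 t * Z) = X 15 t * (X 21 u * (X 23 (t * u) * Z)) :=
  swap_neg (by decide +kernel) t u Z

theorem sw15_22 (t u : F) (Z : GL chevD4.Idx F) :
    X 22 u * (X 15 t * Z) = X 15 t * (X 22 u * Z) :=
  swap_nil (by decide +kernel) t u Z

theorem sw15_23 (t u : F) (Z : GL chevD4.Idx F) :
    X 23 u * (X 15 t * Z) = X 15 t * (X 23 u * Z) :=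
  swap_nil (by decide +kernel) t u Z

theorem sw17_20 (t u : F) (Z : GL chevD4.Idx F) :
    X 20 u * (X 17 t * Z) = X 17 t * (X 20 u * Z) :=
  swap_nil (by decide +kernel) t u Z

theorem sw17_21 (t u : F) (Z : GL chevD4.Idx F) :
    X 21 u * (X 17 t * Z) = X 17 t * (X 21 u * Z) :=
  swap_nil (by decide +kernel) t u Z

theorem sw17_22 (t u : F) (Z : GL chevD4.Idx F) :
    X 22 u * (X 17 t * Z) = X 17 t * (X 22 u * Z) :=
  swap_nil (by decide +kernel) t u Z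

theorem sw17_23 (t u : F) (Z : GL chevD4.Idx F) :
    X 23 u * (X 17 t * Z) = X 17 t * (X 23 u * Z) :=
  swap_nil (by decide +kernel) t u Z

theorem sw20_21 (t u : F) (Z : GL chevD4.Idx F) :
    X 21 u * (X 20 t * Z) = X 20 t * (X 21 u * Z) :=
  swap_nil (by decide +kernel) t u Z

theorem sw20_22 (t u : F) (Z : GL chevD4.Idx F) :
    X 22 u * (X 20 t * Z) = X 20 t * (X 22 u * Z) :=
  swap_nil (by decide +kernel) t u Z

theorem sw20_23 (t u : F) (Z : GL chevD4.Idx F) :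
    X 23 u * (X 20 t * Z) = X 20 t * (X 23 u * Z) :=
  swap_nil (by decide +kernel) t u Z

theorem sw21_22 (t u : F) (Z : GL chevD4.Idx F) :
    X 22 u * (X 21 t * Z) = X 21 t * (X 22 u * Z) :=
  swap_nil (by decide +kernel) t u Z

theorem sw21_23 (t u : F) (Z : GL chevD4.Idx F) :
    X 23 u * (X 21 t * Z) = X 21 t * (X 23 u * Z) :=
  swap_nil (by decide +kernel) t u Z

theorem sw22_23 (t u : F) (Z : GL chevD4.Idx F) :
    X 23 u * (X 22 t * Z) = X 22 t * (X 23 u * Z) :=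
  swap_nil (by decide +kernel) t u Z

set_option maxHeartbeats 8000000 in
/-- The law of `U`. -/
theorem nf_mul (b a₁ a₂ a₃ c₁ c₂ c₃ d₁ d₂ d₃ e z b' a₁' a₂' a₃' c₁' c₂' c₃' d₁' d₂' d₃' e' z' : F) :
    nf b a₁ a₂ a₃ c₁ c₂ c₃ d₁ d₂ d₃ e z *
      nf b' a₁' a₂' a₃' c₁' c₂' c₃' d₁' d₂' d₃' e' z' =
      nf
        (b + b')
        (a₁ + a₁')
        (a₂ + a₂')
        (a₃ + a₃')
        (c₁ + c₁' - a₁ * b')
        (c₂ + c₂' + a₂ * b')
        (c₃ + c₃' + a₃ * b')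
        (d₁ + d₁' - a₂' * c₃ - a₃' * c₂ - a₂ * a₃ * b' - a₂ * a₃' * b' - a₂' * a₃ * b')
        (d₂ + d₂' + a₁' * c₃ - a₃' * c₁ + a₁ * a₃ * b' + a₁ * a₃' * b' + a₁' * a₃ * b')
        (d₃ + d₃' + a₁' * c₂ - a₂' * c₁ + a₁ * a₂ * b' + a₁ * a₂' * b' + a₁' * a₂ * b')
        (e + e' + a₁' * d₁ - a₂' * d₂ - a₃' * d₃ - a₁' * a₂' * c₃ - a₁' * a₃' * c₂ + a₂' * a₃' * c₁ - a₁ * a₂ * a₃ * b' - a₁ * a₂ * a₃' * b' - a₁ * a₂' * a₃ * b' - a₁ * a₂' * a₃' * b' - a₁' * a₂ * a₃ * b' - a₁' * a₂ * a₃' * b' - a₁' * a₂' * a₃ * b')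
        (z + z' - b' * e + c₁' * d₁ + c₂' * d₂ + c₃' * d₃ + a₁' * c₂ * c₃ + a₁' * c₂ * c₃' + a₁' * c₂' * c₃ - a₂' * c₁ * c₃ - a₂' * c₁ * c₃' - a₂' * c₁' * c₃ - a₃' * c₁ * c₂ - a₃' * c₁ * c₂' - a₃' * c₁' * c₂ + a₁ * a₂ * b' * c₃ + a₁ * a₂ * b' * c₃' + a₁ * a₂' * b' * c₃ + a₁ * a₂' * b' * c₃' + a₁ * a₃ * b' * c₂ + a₁ * a₃ * b' * c₂' + a₁ * a₃' * b' * c₂ + a₁ * a₃' * b' * c₂' + a₁' * a₂ * b' * c₃ + a₁' * a₂ * b' * c₃' + a₁' * a₃ * b' * c₂ + a₁' * a₃ * b' * c₂' - a₂ * a₃ * b' * c₁ - a₂ * a₃ * b' * c₁' - a₂ * a₃' * b' * c₁ - a₂ * a₃' * b' * c₁' - a₂' * a₃ * b' * c₁ - a₂' * a₃ * b' * c₁' + 2 * a₁ * a₂ * a₃ * b' * b' + a₁ * a₂ * a₃' * b' * b' + a₁ * a₂' * a₃ * b' * b' + a₁' * a₂ * a₃ * b' * b') := by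
  simp only [nf, mul_assoc, one_mul]
  simp only [merge, sw14_18, sw14_13, sw14_12, sw14_19, sw14_16, sw14_15, sw14_17, sw14_20, sw14_21,
    sw14_22, sw14_23, sw18_13, sw18_12, sw18_19, sw18_16, sw18_15, sw18_17, sw18_20, sw18_21,
    sw18_22, sw18_23, sw13_12, sw13_19, sw13_16, sw13_15, sw13_17, sw13_20, sw13_21, sw13_22,
    sw13_23, sw12_19, sw12_16, sw12_15, sw12_17, sw12_20, sw12_21, sw12_22, sw12_23, sw19_16,
    sw19_15, sw19_17, sw19_20, sw19_21, sw19_22, sw19_23, sw16_15, sw16_17, sw16_20, sw16_21,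
    sw16_22, sw16_23, sw15_17, sw15_20, sw15_21, sw15_22, sw15_23, sw17_20, sw17_21, sw17_22,
    sw17_23, sw20_21, sw20_22, sw20_23, sw21_22, sw21_23, sw22_23]
  refine congrArg₂ (· * ·) (congrArg (X 14) ?_) (congrArg₂ (· * ·) (congrArg (X 18) ?_) (congrArg₂ (· * ·) (congrArg (X 13) ?_)
    (congrArg₂ (· * ·) (congrArg (X 12) ?_) (congrArg₂ (· * ·) (congrArg (X 19) ?_) (congrArg₂ (· * ·) (congrArg (X 16) ?_)
    (congrArg₂ (· * ·) (congrArg (X 15) ?_) (congrArg₂ (· * ·) (congrArg (X 17) ?_) (congrArg₂ (· * ·) (congrArg (X 20) ?_)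
    (congrArg₂ (· * ·) (congrArg (X 21) ?_) (congrArg₂ (· * ·) (congrArg (X 22) ?_) (congrArg₂ (· * ·) (congrArg (X 23) ?_) rfl)))))))))))
  all_goals ring1

theorem nf_congr {b a₁ a₂ a₃ c₁ c₂ c₃ d₁ d₂ d₃ e z b' a₁' a₂' a₃' c₁' c₂' c₃' d₁' d₂' d₃' e' z' : F}
    (h0 : b = b') (h1 : a₁ = a₁') (h2 : a₂ = a₂') (h3 : a₃ = a₃') (h4 : c₁ = c₁') (h5 : c₂ = c₂') (h6 : c₃ = c₃') (h7 : d₁ = d₁') (h8 : d₂ = d₂') (h9 : d₃ = d₃') (h10 : e = e') (h11 : z = z') :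
    nf b a₁ a₂ a₃ c₁ c₂ c₃ d₁ d₂ d₃ e z = nf b' a₁' a₂' a₃' c₁' c₂' c₃' d₁' d₂' d₃' e' z' := by
  subst h0 h1 h2 h3 h4 h5 h6 h7 h8 h9 h10 h11; rfl

theorem nf_zero : nf (0 : F) 0 0 0 0 0 0 0 0 0 0 0 = 1 := by simp [nf, X_zero]

theorem X14_eq (t : F) : X 14 t = nf t 0 0 0 0 0 0 0 0 0 0 0 := by simp [nf, X_zero]
theorem X18_eq (t : F) : X 18 t = nf 0 t 0 0 0 0 0 0 0 0 0 0 := by simp [nf, X_zero]
theorem X13_eq (t : F) : X 13 t = nf 0 0 t 0 0 0 0 0 0 0 0 0 := by simp [nf, X_zero]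
theorem X12_eq (t : F) : X 12 t = nf 0 0 0 t 0 0 0 0 0 0 0 0 := by simp [nf, X_zero]
theorem X19_eq (t : F) : X 19 t = nf 0 0 0 0 t 0 0 0 0 0 0 0 := by simp [nf, X_zero]
theorem X16_eq (t : F) : X 16 t = nf 0 0 0 0 0 t 0 0 0 0 0 0 := by simp [nf, X_zero]
theorem X15_eq (t : F) : X 15 t = nf 0 0 0 0 0 0 t 0 0 0 0 0 := by simp [nf, X_zero]
theorem X17_eq (t : F) : X 17 t = nf 0 0 0 0 0 0 0 t 0 0 0 0 := by simp [nf, X_zero]
theorem X20_eq (t : F) : X 20 t = nf 0 0 0 0 0 0 0 0 t 0 0 0 := by simp [nf, X_zero]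
theorem X21_eq (t : F) : X 21 t = nf 0 0 0 0 0 0 0 0 0 t 0 0 := by simp [nf, X_zero]
theorem X22_eq (t : F) : X 22 t = nf 0 0 0 0 0 0 0 0 0 0 t 0 := by simp [nf, X_zero]
theorem X23_eq (t : F) : X 23 t = nf 0 0 0 0 0 0 0 0 0 0 0 t := by simp [nf, X_zero]

theorem X_mem (r : ℕ) (t : F) : X r t ∈ chevD4.group F := certFullD4.xg_mem_group_all r t

theorem nf_mem_U (b a₁ a₂ a₃ c₁ c₂ c₃ d₁ d₂ d₃ e z : F) : nf b a₁ a₂ a₃ c₁ c₂ c₃ d₁ d₂ d₃ e z ∈ chevD4.posUnipotent F := by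
  have h : ∀ r, 12 ≤ r → r < 24 → ∀ t : F, X r t ∈ chevD4.posUnipotent F :=
    fun r h1 h2 t => certFullD4.xg_mem_U ⟨h1, h2⟩ t
  unfold nf
  repeat' first
    | apply mul_mem
    | exact one_mem _
    | exact h _ (by omega) (by omega) _

/-- The increasing coordinates. -/
def ocoord (b a₁ a₂ a₃ c₁ c₂ c₃ d₁ d₂ d₃ e z : F) (r : ℕ) : F :=
  ([(a₃), (a₂), (b), (c₃ - a₃ * b), (c₂ - a₂ * b), (d₁ + a₂ * a₃ * b), (a₁), (c₁), (d₂ - a₁ * c₃), (d₃ - a₁ * c₂), (e - a₁ * d₁), (z - c₁ * d₁ - a₁ * c₂ * c₃)]).getD (r - 12) 0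

set_option maxHeartbeats 4000000 in
theorem nf_eq_oprod (b a₁ a₂ a₃ c₁ c₂ c₃ d₁ d₂ d₃ e z : F) :
    nf b a₁ a₂ a₃ c₁ c₂ c₃ d₁ d₂ d₃ e z = certFullD4.oprod 12 (ocoord b a₁ a₂ a₃ c₁ c₂ c₃ d₁ d₂ d₃ e z) := by
  rw [certFullD4.oprod_succ (show 12 < 24 by omega), certFullD4.oprod_succ (show 13 < 24 by omega), certFullD4.oprod_succ (show 14 < 24 by omega), certFullD4.oprod_succ (show 15 < 24 by omega), certFullD4.oprod_succ (show 16 < 24 by omega), certFullD4.oprod_succ (show 17 < 24 by omega), certFullD4.oprod_succ (show 18 < 24 by omega), certFullD4.oprod_succ (show 19 < 24 by omega), certFullD4.oprod_succ (show 20 < 24 by omega), certFullD4.oprod_succ (show 21 < 24 by omega), certFullD4.oprod_succ (show 22 < 24 by omega), certFullD4.oprod_succ (show 23 < 24 by omega),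
    certFullD4.oprod_of_ge (show chevD4.nroots ≤ 24 from le_refl 24)]
  simp only [show ∀ r (u : F), certFullD4.xg r u = X r u from fun _ _ => rfl, Nat.reduceAdd, ocoord,
    Nat.reduceSub, List.getD_cons_zero, List.getD_cons_succ]
  simp only [X12_eq, X13_eq, X14_eq, X15_eq, X16_eq, X17_eq, X18_eq, X19_eq, X20_eq, X21_eq, X22_eq, X23_eq, ← nf_zero, nf_mul]
  refine nf_congr ?_ ?_ ?_ ?_ ?_ ?_ ?_ ?_ ?_ ?_ ?_ ?_
  all_goals ring1

set_option maxHeartbeats 4000000 in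
theorem exists_nf {g : GL chevD4.Idx F} (hg : g ∈ chevD4.posUnipotent F) :
    ∃ b a₁ a₂ a₃ c₁ c₂ c₃ d₁ d₂ d₃ e z : F, g = nf b a₁ a₂ a₃ c₁ c₂ c₃ d₁ d₂ d₃ e z := by
  rw [certFullD4.posUnipotent_eq] at hg
  obtain ⟨t, rfl⟩ := certFullD4.exists_oprod _ _ rfl le_rfl g hg
  rw [show certFullD4.oprod certFullD4.T.h t = certFullD4.oprod 12 t from rfl,
    certFullD4.oprod_succ (show 12 < 24 by omega), certFullD4.oprod_succ (show 13 < 24 by omega), certFullD4.oprod_succ (show 14 < 24 by omega), certFullD4.oprod_succ (show 15 < 24 by omega), certFullD4.oprod_succ (show 16 < 24 by omega), certFullD4.oprod_succ (show 17 < 24 by omega), certFullD4.oprod_succ (show 18 < 24 by omega), certFullD4.oprod_succ (show 19 < 24 by omega), certFullD4.oprod_succ (show 20 < 24 by omega), certFullD4.oprod_succ (show 21 < 24 by omega), certFullD4.oprod_succ (show 22 < 24 by omega), certFullD4.oprod_succ (show 23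 < 24 by omega),
    certFullD4.oprod_of_ge (show chevD4.nroots ≤ 24 from le_refl 24)]
  simp only [show ∀ r (u : F), certFullD4.xg r u = X r u from fun _ _ => rfl, Nat.reduceAdd]
  simp only [X12_eq, X13_eq, X14_eq, X15_eq, X16_eq, X17_eq, X18_eq, X19_eq, X20_eq, X21_eq, X22_eq, X23_eq, ← nf_zero, nf_mul]
  exact ⟨_, _, _, _, _, _, _, _, _, _, _, _, rfl⟩

theorem nf_inj {b a₁ a₂ a₃ c₁ c₂ c₃ d₁ d₂ d₃ e z b' a₁' a₂' a₃' c₁' c₂' c₃' d₁' d₂' d₃' e' z' : F}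
    (h : nf b a₁ a₂ a₃ c₁ c₂ c₃ d₁ d₂ d₃ e z = nf b' a₁' a₂' a₃' c₁' c₂' c₃' d₁' d₂' d₃' e' z') :
    b = b' ∧ a₁ = a₁' ∧ a₂ = a₂' ∧ a₃ = a₃' ∧ c₁ = c₁' ∧ c₂ = c₂' ∧ c₃ = c₃' ∧ d₁ = d₁' ∧ d₂ = d₂' ∧ d₃ = d₃' ∧ e = e' ∧ z = z' := by
  rw [nf_eq_oprod, nf_eq_oprod] at h
  have key := fun r (h1 : 12 ≤ r) (h2 : r < 24) =>
    certFullD4.oprod_inj _ 12 rfl (le_refl 12) _ _ h r h1 h2
  have k12 := key 12 (by omega) (by omega)
  have k13 := key 13 (by omega) (by omega)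
  have k14 := key 14 (by omega) (by omega)
  have k15 := key 15 (by omega) (by omega)
  have k16 := key 16 (by omega) (by omega)
  have k17 := key 17 (by omega) (by omega)
  have k18 := key 18 (by omega) (by omega)
  have k19 := key 19 (by omega) (by omega)
  have k20 := key 20 (by omega) (by omega)
  have k21 := key 21 (by omega) (by omega)
  have k22 := key 22 (by omega) (by omega)
  have k23 := key 23 (by omega) (by omega)
  simp [ocoord] at k12 k13 k14 k15 k16 k17 k18 k19 k20 k21 k22 k23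
  subst k12 k13 k14 k18 k19
  simp only [add_left_inj, sub_left_inj] at k15 k16 k17
  subst k15 k16 k17
  simp only [add_left_inj, sub_left_inj] at k20 k21 k22
  subst k20 k21 k22
  simp only [add_left_inj, sub_left_inj] at k23
  subst k23
  simp

end Cfsg.Agent.Lie.Chev.D4Sub
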