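import Cfsg.Agent.Lib.Lie.Chev.SylowTorus
import Cfsg.Agent.Lib.Lie.Chev.FieldAut
import Cfsg.Agent.Lib.Grp.SectionAutomizer

/-! Powers of the elements of a Chevalley group normalising a subgroup of the diagonal subgroup
act as the corresponding powers of their Weyl group elements. -/

set_option autoImplicit false

namespace Cfsg.Agent.Lie.Chev

open Cfsg.Lie Matrix

namespace CertFull

variable {D : ChevalleyDatum} (c : CertFull D) {F : Type*} [Field F]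

include c

theorem nw_iterate_conj {L : List ℕ} (hL : ∀ p ∈ L, p < D.rank) :
    ∀ (k : ℕ) (z : ℕ → Fˣ), ∃ z' : ℕ → Fˣ,
      c.nw F L ^ k * c.torus z * (c.nw F L ^ k)⁻¹ = c.torus z' ∧
        ∀ s < D.nroots, (c.wl L)^[k] s < D.nroots ∧
          c.tchar z' ((c.wl L)^[k] s) = c.tchar z s
  | 0, z => ⟨z, by simp, fun s hs => ⟨hs, rfl⟩⟩
  | k + 1, z => by
    obtain ⟨z₁, h1, h2⟩ := nw_iterate_conj hL k z
    have hm := c.N_conj_H (c.nw_mem_N (F := F) hL) (c.torus_mem z₁)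
    rw [c.diagonalSubgroup_eq] at hm
    obtain ⟨z', hz'⟩ := hm
    refine ⟨z', ?_, fun s hs => ?_⟩
    · rw [hz', ← h1, pow_succ']
      group
    · obtain ⟨h3, h4⟩ := h2 s hs
      rw [Function.iterate_succ_apply']
      exact ⟨c.wl_lt hL h3, by rw [c.tchar_of_nw_conj hL hz'.symm h3, h4]⟩

theorem nw_pow_conj_diagonal {L : List ℕ} (hL : ∀ p ∈ L, p < D.rank) {e : ℕ}
    (he : ∀ s < D.nroots, (c.wl L)^[e] s = s) {h : GL D.Idx F} (hh : h ∈ D.diagonalSubgroup F) :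
    c.nw F L ^ e * h * (c.nw F L ^ e)⁻¹ = h := by
  rw [c.diagonalSubgroup_eq] at hh
  obtain ⟨z, rfl⟩ := hh
  obtain ⟨z', h1, h2⟩ := c.nw_iterate_conj hL e z
  rw [h1, Cert.torus_apply, Cert.torus_apply]
  refine dg_ext D F fun s hs => ?_
  have := (h2 s hs).2
  rwa [he s hs] at this

/-- An element normalising a subgroup of the diagonal subgroup acts on it as its Weyl element. -/
theorem conj_of_bruhat {L : List ℕ} (hL : ∀ p ∈ L, p < D.rank) {b u : GL D.Idx F}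
    (hb : b ∈ D.borelSubgroup F) (hu : u ∈ c.KS F (c.invSet L) c.T.h)
    {R : Subgroup (GL D.Idx F)} (hR : R ≤ D.diagonalSubgroup F)
    (hg : ∀ h ∈ R, b * c.nw F L * u * h * (b * c.nw F L * u)⁻¹ ∈ R) :
    ∀ h ∈ R, c.nw F L * h * (c.nw F L)⁻¹ = b * c.nw F L * u * h * (b * c.nw F L * u)⁻¹ := by
  intro h hh
  obtain ⟨v, hv, d, hd, rfl⟩ := c.mem_borel_iff.1 hb
  have h1 := hR hh
  have h2 := hR (hg h hh)
  rw [c.diagonalSubgroup_eq] at h1 h2
  obtain ⟨z, rfl⟩ := h1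
  obtain ⟨z', hz'⟩ := h2
  rw [← hz']
  refine (c.conj_factors hL hv hd (one_mem _) hu (z := z) (z' := z') ?_).1
  rw [one_mul, hz']
  group

theorem pow_conj_of_bruhat {L : List ℕ} (hL : ∀ p ∈ L, p < D.rank) {e : ℕ}
    (he : ∀ s < D.nroots, (c.wl L)^[e] s = s) {b u : GL D.Idx F}
    (hb : b ∈ D.borelSubgroup F) (hu : u ∈ c.KS F (c.invSet L) c.T.h)
    {R : Subgroup (GL D.Idx F)} (hR : R ≤ D.diagonalSubgroup F)
    (hg : ∀ h ∈ R, b * c.nw F L * u * h * (b * c.nw F L * u)⁻¹ ∈ R) :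
    ∀ h ∈ R, (b * c.nw F L * u) ^ e * h * ((b * c.nw F L * u) ^ e)⁻¹ = h := fun h hh => by
  rw [← (Grp.SectionAut.conj_pow_eq hg (c.conj_of_bruhat hL hb hu hR hg) e h hh).2]
  exact c.nw_pow_conj_diagonal hL he (hR hh)

theorem nw_pow_conj_diagonal_neg {L : List ℕ} (hL : ∀ p ∈ L, p < D.rank) {e : ℕ}
    (he : ∀ s < D.nroots, (c.wl L)^[e] s = D.neg s) {h : GL D.Idx F}
    (hh : h ∈ D.diagonalSubgroup F) : c.nw F L ^ e * h * (c.nw F L ^ e)⁻¹ = h⁻¹ := by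
  rw [c.diagonalSubgroup_eq] at hh
  obtain ⟨z, rfl⟩ := hh
  obtain ⟨z', h1, h2⟩ := c.nw_iterate_conj hL e z
  rw [h1, ← map_inv, Cert.torus_apply, Cert.torus_apply]
  refine dg_ext D F fun s hs => ?_
  have h3 := (h2 s hs).2
  rw [he s hs, c.tchar_neg _ hs, inv_eq_iff_eq_inv] at h3
  rw [h3]
  simp [Cert.tchar, ← Finset.prod_inv_distrib]

theorem pow_conj_of_bruhat_neg {L : List ℕ} (hL : ∀ p ∈ L, p < D.rank) {e : ℕ}
    (he : ∀ s < D.nroots, (c.wl L)^[e] s = D.neg s) {b u : GL D.Idx F}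
    (hb : b ∈ D.borelSubgroup F) (hu : u ∈ c.KS F (c.invSet L) c.T.h)
    {R : Subgroup (GL D.Idx F)} (hR : R ≤ D.diagonalSubgroup F)
    (hg : ∀ h ∈ R, b * c.nw F L * u * h * (b * c.nw F L * u)⁻¹ ∈ R) :
    ∀ h ∈ R, (b * c.nw F L * u) ^ e * h * ((b * c.nw F L * u) ^ e)⁻¹ = h⁻¹ := fun h hh => by
  rw [← (Grp.SectionAut.conj_pow_eq hg (c.conj_of_bruhat hL hb hu hR hg) e h hh).2]
  exact c.nw_pow_conj_diagonal_neg hL he (hR hh)

theorem wl_iterate_of_same {L M : List ℕ} (hL : ∀ p ∈ L, p < D.rank) (hM : ∀ p ∈ M, p < D.rank)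
    (hs : c.Same L M) : ∀ (e : ℕ) {s : ℕ}, s < D.nroots →
      (c.wl L)^[e] s = (c.wl M)^[e] s ∧ (c.wl M)^[e] s < D.nroots
  | 0, _, h => ⟨rfl, h⟩
  | e + 1, s, h => by
    obtain ⟨h1, h2⟩ := wl_iterate_of_same hL hM hs e h
    rw [Function.iterate_succ_apply', Function.iterate_succ_apply', h1]
    exact ⟨c.wl_eq_of_same hL hM hs h2, c.wl_lt hM h2⟩

/-- Powers of the elements normalising a subgroup of the diagonal subgroup centralise it, for an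
exponent killing the Weyl group. -/
theorem pow_conj_group {Ls : List (List Rep)} (hc : c.T.checkLevels Ls = true)
    (hlen : Ls.length = D.rank) {e : ℕ}
    (he : ∀ v ∈ chainWords Ls, ∀ s < D.nroots, (c.T.wlT v)^[e] s = s)
    {g : GL D.Idx F} (hg : g ∈ D.group F) {R : Subgroup (GL D.Idx F)}
    (hR : R ≤ D.diagonalSubgroup F) (hn : ∀ h ∈ R, g * h * g⁻¹ ∈ R) :
    ∀ h ∈ R, g ^ e * h * (g ^ e)⁻¹ = h := by
  obtain ⟨b, hb, a, ha, L, hL, u, hu, rfl⟩ := c.bruhat_exists hg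
  rw [← mul_assoc b] at hn ⊢
  refine c.pow_conj_of_bruhat hL (fun s hs => ?_) (mul_mem hb (c.H_le_B ha)) hu hR hn
  obtain ⟨hlt, hex, -, -⟩ := c.chain_spec Ls hc hlen.le
  obtain ⟨v, hv, hsv⟩ := hex L (fun p hp => hlen.symm ▸ hL p hp)
  have hvl : ∀ p ∈ v, p < D.rank := fun p hp => hlen ▸ hlt v hv p hp
  rw [(c.wl_iterate_of_same hL hvl hsv e hs).1,
    ← funext (c.wlT_eq v)]
  exact he v hv s hs

theorem map_group_le {K : Type*} [Field K] (ι : K →+* F) :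
    (D.group K).map (Matrix.GeneralLinearGroup.map (n := D.Idx) ι) ≤ D.group F := by
  rw [c.group_eq, MonoidHom.map_closure, Subgroup.closure_le]
  rintro _ ⟨g, ⟨r, hr, t, rfl⟩, rfl⟩
  rw [c.xg_mapHom]
  exact c.xg_mem_group hr _

end CertFull

end Cfsg.Agent.Lie.Chev
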