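import Cfsg.Agent.Lib.Lie.Chev.TwistD4
import Cfsg.Agent.Lib.Lie.Chev.WeylPowers
import Cfsg.Agent.Lib.Grp.SectionAlternating

/-! Alternating sections of the triality-twisted groups ³D₄. -/

set_option autoImplicit false
set_option maxRecDepth 4000

namespace Cfsg.Agent.Lie.Chev.D4Sec

open Cfsg.Lie Matrix

/-- The sixth powers in the fixed part of the Weyl group are trivial. -/
theorem weyl_iterate_check :
    ((List.range 12).all fun i => (List.range 24).all fun s =>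
      Nat.beq ((certFullD4.T.wlT (flatW orbitsD4 (twistD4Reps.get i).word))^[6] s) s) = true := by
  decide +kernel

theorem map_le {K L : Type*} [Field K] [Fintype K] [Field L] (ι : K →+* L) {q : ℕ}
    (hK : Fintype.card K = q ^ 3) :
    (twistedD4 K q).map (Matrix.GeneralLinearGroup.map (n := chevD4.Idx) ι) ≤
      twistedD4 L (q ^ 4) := by
  have hq4 : ∀ t : K, t ^ q ^ 4 = t ^ q := fun t => by
    rw [show q ^ 4 = q ^ 3 * q by ring, pow_mul, ← hK, FiniteField.pow_card]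
  have hq8 : ∀ t : K, t ^ (q ^ 4) ^ 2 = t ^ q ^ 2 := fun t => by
    rw [sq (q ^ 4), pow_mul, hq4, hq4, ← pow_mul, ← sq]
  rw [Subgroup.map_le_iff_le_comap]
  refine (Subgroup.closure_le _).2 ?_
  rintro g ⟨w, hw, hg⟩
  obtain rfl := eq_wordProd certFullD4 hg
  show Matrix.GeneralLinearGroup.map (n := chevD4.Idx) ι _ ∈ twistedD4 L (q ^ 4)
  rw [map_list_prod, List.map_map]
  rcases hw with ⟨t, ht, r, hr, rfl⟩ | ⟨t, rs, hrs, rfl⟩
  · have h := wordProd_mem certFullD4 (S := d4Words L (q ^ 4)) (w := [(r, ι t)])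
      (Or.inl ⟨ι t, by rw [← map_pow, hq4, ht], r, hr, rfl⟩)
    simpa [twistedD4, certFullD4.xg_mapHom] using h
  · have h := wordProd_mem certFullD4 (S := d4Words L (q ^ 4))
      (w := [(rs.1, ι t), (rs.2.1, ι t ^ q ^ 4), (rs.2.2, ι t ^ (q ^ 4) ^ 2)])
      (Or.inr ⟨ι t, rs, hrs, rfl⟩)
    simpa [twistedD4, certFullD4.xg_mapHom, ← map_pow, hq4, hq8] using h

/-- The index of the torus over a field with `m t + 1` elements. -/
theorem index_mod (m t : ℕ) (hm : ¬ m ∣ 12) :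
    ¬ m ∣ (m * t + 1) ^ 12 * ((m * t + 1) + 1) ^ 2 * ((m * t) * (m * t) + m * t + 1) *
      ((m * t + 1) ^ 8 + (m * t + 1) ^ 4 + 1) := by
  rw [← ZMod.natCast_eq_zero_iff] at hm ⊢
  push_cast at hm ⊢
  rw [ZMod.natCast_self, zero_mul, zero_add]
  intro h
  refine hm ?_
  rw [← h]
  norm_num

variable {K : Type*} [Field K] [Fintype K] {q : ℕ} (f : K →+* K) (hf : ∀ t, f t = t ^ q)
  (hK : Fintype.card K = q ^ 3)

include f hf hK

theorem index_not_dvd {m t : ℕ} (ht : q = m * t + 1) (hm : ¬ m ∣ 12) :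
    ¬ m ∣ ((chevD4.diagonalSubgroup K).subgroupOf (twistedD4 K q)).index := by
  intro hd
  have hmul := ((chevD4.diagonalSubgroup K).subgroupOf (twistedD4 K q)).card_mul_index
  rw [← Subgroup.inf_subgroupOf_right, Nat.card_congr
    (Subgroup.subgroupOfEquivOfLe (inf_le_right : _ ⊓ twistedD4 K q ≤ _)).toEquiv,
    Subgroup.inf_subgroupOf_right, D4.card_diag f hf hK, D4.card_group f hf hK] at hmul
  obtain ⟨A, hA⟩ : ∃ A, A = m * t := ⟨_, rfl⟩
  have hA0 : 0 < A := by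
    have := D4.one_lt_q f hf hK
    omega
  obtain ⟨I, hI⟩ : ∃ I, I = ((chevD4.diagonalSubgroup K).subgroupOf (twistedD4 K q)).index :=
    ⟨_, rfl⟩
  rw [← hI] at hmul hd
  rw [ht, ← hA, Nat.add_sub_cancel,
    show (A + 1) ^ 2 - 1 = A * (A + 1 + 1) from Nat.sub_eq_of_eq_add (by ring),
    show (A + 1) ^ 6 - 1 = A * ((A + 1) ^ 2 + (A + 1) + 1) * ((A + 1 + 1) * (A * A + A + 1))
      from Nat.sub_eq_of_eq_add (by ring)] at hmul
  refine index_mod m t hm ?_
  rw [← hA]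
  have hi : I =
      (A + 1) ^ 12 * (A + 1 + 1) ^ 2 * (A * A + A + 1) * ((A + 1) ^ 8 + (A + 1) ^ 4 + 1) :=
    Nat.eq_of_mul_eq_mul_left (show 0 < A ^ 2 * ((A + 1) ^ 2 + (A + 1) + 1) by positivity)
      (by rw [hmul]; ring)
  exact hi ▸ hd

theorem torus_sq_roots :
    Nat.card {a : (chevD4.diagonalSubgroup K).subgroupOf (twistedD4 K q) // a ^ 2 = 1} ≤ 4 := by
  classical
  choose s t ht e using fun a : {a : (chevD4.diagonalSubgroup K).subgroupOf (twistedD4 K q) //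
      a ^ 2 = 1} => D4.exists_zOf f hf hK (g := ((a.1 : ↥(twistedD4 K q)) : GL chevD4.Idx K))
      ⟨a.1.2, D4.le_fix f hf hK a.1.1.2⟩
  have hone : ∀ u : Kˣ, u ^ 2 = 1 → u = 1 ∨ u = -1 := fun u hu => by
    rcases sq_eq_one_iff.1 (show (u : K) ^ 2 = 1 by rw [← Units.val_pow_eq_pow_val, hu]; rfl)
      with h | h
    · exact Or.inl (Units.ext h)
    · exact Or.inr (Units.ext (by rw [h]; rfl))
  have hroots : ∀ a, (s a = 1 ∨ s a = -1) ∧ (t a = 1 ∨ t a = -1) := by
    intro a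
    have h := congrArg (fun v : (chevD4.diagonalSubgroup K).subgroupOf (twistedD4 K q) =>
      ((v : ↥(twistedD4 K q)) : GL chevD4.Idx K)) a.2
    simp only [SubmonoidClass.coe_pow, OneMemClass.coe_one] at h
    rw [e a, ← map_pow] at h
    obtain ⟨h0, h1, -, -, h5⟩ := D4.eq_one_of_torus h
    simp only [Pi.pow_apply, D4.zOf, ↓reduceIte, show ¬ (1 : ℕ) = 0 by omega,
      show ¬ (2 : ℕ) = 0 by omega, show ¬ (2 : ℕ) = 1 by omega,
      show ¬ (3 : ℕ) = 0 by omega, show ¬ (3 : ℕ) = 1 by omega, show ¬ (3 : ℕ) = 2 by omega,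
      ← map_pow] at h0 h1 h5
    refine ⟨hone _ ?_, hone _ h1⟩
    obtain ⟨b, hb⟩ : ∃ b, b = s a ^ 2 := ⟨_, rfl⟩
    rw [← hb] at h0 h5 ⊢
    have hfb : Units.map (f : K →* K) b = b := by
      refine Units.ext ?_
      rcases mul_self_eq_one_iff.1 (show (b : K) * b = 1 by rw [← Units.val_mul, h0, Units.val_one])
        with e | e <;> simp [e]
    rwa [hfb, hfb, h0, one_mul] at h5
  refine (Nat.card_le_card_of_injective (fun a => (decide (s a = 1), decide (t a = 1)))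
    ?_).trans (by simp)
  intro a b he
  simp only [Prod.mk.injEq, decide_eq_decide] at he
  obtain ⟨ha1, ha2⟩ := hroots a
  obtain ⟨hb1, hb2⟩ := hroots b
  have key : ∀ u v : Kˣ, (u = 1 ∨ u = -1) → (v = 1 ∨ v = -1) → (u = 1 ↔ v = 1) → u = v := by
    rintro u v (rfl | rfl) (rfl | rfl) h
    exacts [rfl, (h.1 rfl).symm, h.2 rfl, rfl]
  have h1 : s a = s b := key _ _ ha1 hb1 he.1
  have h2 : t a = t b := key _ _ ha2 hb2 he.2
  exact Subtype.ext (Subtype.ext (Subtype.ext (by rw [e a, e b, h1, h2])))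

theorem pow_six (g : ↥(twistedD4 K q)) (R : Subgroup ↥(twistedD4 K q))
    (hR : R ≤ (chevD4.diagonalSubgroup K).subgroupOf (twistedD4 K q))
    (hn : ∀ h ∈ R, g * h * g⁻¹ ∈ R) : ∀ h ∈ R, g ^ 6 * h * (g ^ 6)⁻¹ = h := by
  intro h hh
  refine Subtype.ext ?_
  simp only [Subgroup.coe_mul, Subgroup.coe_inv, SubmonoidClass.coe_pow]
  obtain ⟨b, hb, i, hi, u, hu, hg⟩ := (D4.datum f hf hK).exists_bruhat_fix
    (D4.le_fix f hf hK g.2)
  obtain ⟨hL, -, -⟩ := (D4.datum f hf hK).wd_spec hi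
  rw [hg]
  refine certFullD4.pow_conj_of_bruhat hL (fun s hs => ?_) hb.1 hu.1
    (R := R.map (twistedD4 K q).subtype) ?_ ?_ _ ⟨h, hh, rfl⟩
  · have hc := weyl_iterate_check
    simp only [List.all_eq_true, List.mem_range, Nat.beq_eq] at hc
    have h6 := hc i hi s hs
    rwa [show certFullD4.T.wlT _ = certFullD4.wl _ from funext fun a => certFullD4.wlT_eq _ a] at h6
  · rintro _ ⟨a, ha, rfl⟩
    exact hR ha
  · rintro _ ⟨a, ha, rfl⟩
    exact ⟨_, hn a ha, by simp [← hg]⟩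

end Cfsg.Agent.Lie.Chev.D4Sec

namespace Cfsg.Agent.Lie.Chev.D4Sec

open Cfsg.Lie Matrix

theorem alternating_section_le {K : Type*} [Field K] [Fintype K] (p a : ℕ) [Fact p.Prime]
    [CharP K p] (hK : Fintype.card K = (p ^ a) ^ 3) {H : Type*} [Group H]
    (j : H →* ↥(twistedD4 K (p ^ a))) (hj : Function.Injective j)
    {r : ℕ} {π : H →* alternatingGroup (Fin r)} (hπ : Function.Surjective π) :
    r ≤ 6 + (if p = 5 then 1 else 0) := by
  classical
  let _ : Fintype (FiniteField.Extension K p 4) := Fintype.ofFinite _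
  obtain ⟨q, hq⟩ : ∃ q, q = p ^ a := ⟨_, rfl⟩
  rw [← hq] at hK
  have hL : Fintype.card (FiniteField.Extension K p 4) = (q ^ 4) ^ 3 := by
    rw [← Nat.card_eq_fintype_card, FiniteField.natCard_extension, Nat.card_eq_fintype_card, hK]
    ring
  obtain ⟨ι, -⟩ : ∃ ι : K →+* FiniteField.Extension K p 4, ι = algebraMap K _ := ⟨_, rfl⟩
  have : CharP (FiniteField.Extension K p 4) p := charP_of_injective_ringHom ι.injective p
  have : ExpChar (FiniteField.Extension K p 4) p := ExpChar.prime Fact.out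
  obtain ⟨f, hf⟩ : ∃ f : FiniteField.Extension K p 4 →+* FiniteField.Extension K p 4,
      ∀ t, f t = t ^ q ^ 4 :=
    ⟨iterateFrobenius _ p (a * 4), fun t => by rw [iterateFrobenius_def, hq, ← pow_mul]⟩
  let emb : ↥(twistedD4 K q) →* ↥(twistedD4 (FiniteField.Extension K p 4) (q ^ 4)) :=
    ((Matrix.GeneralLinearGroup.map (n := chevD4.Idx) ι).comp
      (twistedD4 K q).subtype).codRestrict _ fun g => map_le ι hK ⟨g, g.2, rfl⟩
  have hemb : Function.Injective emb := fun x y e => by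
    have h := congrArg Subtype.val e
    exact Subtype.ext (Units.ext (Matrix.ext fun i k =>
      ι.injective (Matrix.ext_iff.2 (congrArg Units.val h) i k)))
  subst hq
  by_cases h5 : p = 5
  · rw [if_pos h5]
    refine Grp.SectionAut.no_alt_eight
      (T := (chevD4.diagonalSubgroup _).subgroupOf (twistedD4 _ _))
      (fun x hx y hy => Subtype.ext (certFullD4.H_commutative hx hy)) (torus_sq_roots f hf hL)
      (index_not_dvd f hf hL (t := (p ^ a) ^ 4 / 8) ?_ (by norm_num)) (emb.comp j)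
      (hemb.comp hj) hπ
    have hmod : (p ^ a) ^ 4 % 8 = 1 := by
      rw [h5, ← pow_mul, mul_comm, pow_mul, Nat.pow_mod]; norm_num
    omega
  · rw [if_neg h5]
    refine Nat.le_of_lt_succ (Grp.SectionAut.degree_lt_five
      (T := (chevD4.diagonalSubgroup _).subgroupOf (twistedD4 _ _))
      (index_not_dvd f hf hL (t := (p ^ a) ^ 4 / 5) ?_ (by norm_num)) (pow_six f hf hL)
      (emb.comp j) (hemb.comp hj) hπ)
    have hq5 : ¬ 5 ∣ p ^ a := fun hd => h5 ((Nat.prime_dvd_prime_iff_eq Nat.prime_five Fact.out).1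
      (Nat.prime_five.dvd_of_dvd_pow hd)).symm
    have hmod : (p ^ a) ^ 4 % 5 = 1 := by
      obtain ⟨v, hv⟩ : ∃ v, v = p ^ a := ⟨_, rfl⟩
      rw [← hv] at hq5 ⊢
      rw [Nat.pow_mod]
      have h0 : v % 5 ≠ 0 := fun h => hq5 (Nat.dvd_of_mod_eq_zero h)
      rcases (show v % 5 = 1 ∨ v % 5 = 2 ∨ v % 5 = 3 ∨ v % 5 = 4 by omega) with h | h | h | h <;>
        rw [h]
    omega

end Cfsg.Agent.Lie.Chev.D4Sec
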