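import Cfsg.Agent.Lib.Lie.Chev.D4NormalForm
import Cfsg.Agent.Lib.Lie.Chev.Subfield
import Cfsg.Agent.Lib.Lie.Chev.TwistFrob

/-! The subfield points of ³D₄(q): coordinates, and the elements which together with them generate
the whole group. -/

set_option autoImplicit false
set_option maxRecDepth 20000

namespace Cfsg.Agent.Lie.Chev.D4Sub

open Cfsg.Lie

variable {K : Type*} [Field K] (f : K →+* K)

/-- A fixed element of the unipotent subgroup. -/
def tn (b a c d e z : K) : GL chevD4.Idx K :=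
  nf b a (f a) (f (f a)) c (-f c) (-f (f c)) d (-f d) (-f (f d)) e z

/-- The entrywise map. -/
noncomputable def φ : GL chevD4.Idx K →* GL chevD4.Idx K := Matrix.GeneralLinearGroup.map f

/-- The subfield points. -/
noncomputable def sub (q : ℕ) : Subgroup (GL chevD4.Idx K) :=
  twistedD4 K q ⊓ MonoidHom.eqLocus (φ f) (MonoidHom.id _)

theorem mem_sub {q : ℕ} {g : GL chevD4.Idx K} :
    g ∈ sub f q ↔ g ∈ twistedD4 K q ∧ φ f g = g := Iff.rfl

theorem φ_X (r : ℕ) (t : K) : φ f (X r t) = X r (f t) := certFullD4.xg_map f r t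

theorem φ_nw (L : List ℕ) : φ f (certFullD4.nw K L) = certFullD4.nw K L := certFullD4.nw_map f L

theorem φ_nf (b a₁ a₂ a₃ c₁ c₂ c₃ d₁ d₂ d₃ e z : K) :
    φ f (nf b a₁ a₂ a₃ c₁ c₂ c₃ d₁ d₂ d₃ e z) =
      nf (f b) (f a₁) (f a₂) (f a₃) (f c₁) (f c₂) (f c₃) (f d₁) (f d₂) (f d₃) (f e) (f z) := by
  simp only [nf, map_mul, map_one, φ_X]

theorem φ_tn (b a c d e z : K) : φ f (tn f b a c d e z) = tn f (f b) (f a) (f c) (f d) (f e) (f z) := by
  simp only [tn, φ_nf, map_neg]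

theorem tn_congr {b a c d e z b' a' c' d' e' z' : K} (hb : b = b') (ha : a = a') (hc : c = c')
    (hd : d = d') (he : e = e') (hz : z = z') : tn f b a c d e z = tn f b' a' c' d' e' z' := by
  subst hb ha hc hd he hz; rfl

theorem tn_inj {b a c d e z b' a' c' d' e' z' : K}
    (h : tn f b a c d e z = tn f b' a' c' d' e' z') :
    b = b' ∧ a = a' ∧ c = c' ∧ d = d' ∧ e = e' ∧ z = z' := by
  obtain ⟨h1, h2, -, -, h5, -, -, h8, -, -, h11, h12⟩ := nf_inj h
  exact ⟨h1, h2, h5, h8, h11, h12⟩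

theorem tn_zero : tn f 0 0 0 0 0 0 = 1 := by simp [tn, nf_zero]

theorem tn_mem_U (b a c d e z : K) : tn f b a c d e z ∈ chevD4.posUnipotent K :=
  nf_mem_U _ _ _ _ _ _ _ _ _ _ _ _

theorem X14_tn (t : K) : X 14 t = tn f t 0 0 0 0 0 := by simp [tn, X14_eq]
theorem X22_tn (t : K) : X 22 t = tn f 0 0 0 0 t 0 := by simp [tn, X22_eq]
theorem X23_tn (t : K) : X 23 t = tn f 0 0 0 0 0 t := by simp [tn, X23_eq]

theorem move {J : List ℕ} {r r' : ℕ} {k : ℤ}
    (h : (∀ p ∈ J, p < 4) ∧ r < 24 ∧ certFullD4.T.wlT J r = r' ∧ certFullD4.wsign J r = k) (t : K) :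
    certFullD4.nw K J * X r t * (certFullD4.nw K J)⁻¹ = X r' ((k : K) * t) := by
  obtain ⟨hJ, hr, rfl, rfl⟩ := h
  rw [X, X, certFullD4.nw_mul_xg (show ∀ p ∈ J, p < chevD4.rank from hJ) (show r < chevD4.nroots from hr),
    mul_inv_cancel_right, certFullD4.wlT_eq]

/-- The two fixed generators of the Weyl group. -/
noncomputable def n1 (K : Type*) [Field K] : GL chevD4.Idx K := certFullD4.nw K [1]

/-- The two fixed generators of the Weyl group. -/
noncomputable def n3 (K : Type*) [Field K] : GL chevD4.Idx K := certFullD4.nw K [0, 2, 3]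

theorem n1_low (c d e z : K) :
    n1 K * tn f 0 0 c d e z * (n1 K)⁻¹ = tn f 0 (-c) 0 d (-z) e := by
  rw [tn, nf, ← MulAut.conj_apply]
  simp only [map_mul, map_one, MulAut.conj_apply, X_zero, map_zero, mul_one, one_mul, n1,
    mul_inv_cancel,
    move (J := [1]) (r := 19) (r' := 18) (k := -1) (by decide +kernel),
    move (J := [1]) (r := 16) (r' := 13) (k := 1) (by decide +kernel),
    move (J := [1]) (r := 15) (r' := 12) (k := 1) (by decide +kernel),
    move (J := [1]) (r := 17) (r' := 17) (k := 1) (by decide +kernel),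
    move (J := [1]) (r := 20) (r' := 20) (k := 1) (by decide +kernel),
    move (J := [1]) (r := 21) (r' := 21) (k := 1) (by decide +kernel),
    move (J := [1]) (r := 22) (r' := 23) (k := 1) (by decide +kernel),
    move (J := [1]) (r := 23) (r' := 22) (k := -1) (by decide +kernel)]
  simp only [Int.cast_one, Int.cast_neg, one_mul, X18_eq, X13_eq, X12_eq, X17_eq, X20_eq, X21_eq,
    X22_eq, X23_eq, ← nf_zero, nf_mul, tn, map_neg, map_zero]
  refine nf_congr ?_ ?_ ?_ ?_ ?_ ?_ ?_ ?_ ?_ ?_ ?_ ?_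
  all_goals ring1

theorem n3_D (d : K) : n3 K * tn f 0 0 0 d 0 0 * (n3 K)⁻¹ = tn f 0 0 (-d) 0 0 0 := by
  rw [tn, nf, ← MulAut.conj_apply]
  simp only [map_mul, map_one, MulAut.conj_apply, X_zero, map_zero, neg_zero, mul_one, one_mul, n3,
    mul_inv_cancel,
    move (J := [0, 2, 3]) (r := 17) (r' := 19) (k := -1) (by decide +kernel),
    move (J := [0, 2, 3]) (r := 20) (r' := 16) (k := -1) (by decide +kernel),
    move (J := [0, 2, 3]) (r := 21) (r' := 15) (k := -1) (by decide +kernel)]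
  simp only [Int.cast_one, Int.cast_neg, neg_mul, one_mul, X19_eq, X16_eq, X15_eq, ← nf_zero,
    nf_mul, tn, map_neg, map_zero]
  refine nf_congr ?_ ?_ ?_ ?_ ?_ ?_ ?_ ?_ ?_ ?_ ?_ ?_
  all_goals ring1

theorem n3_E (e z : K) : n3 K * tn f 0 0 0 0 e z * (n3 K)⁻¹ = tn f e 0 0 0 0 z := by
  rw [tn, nf, ← MulAut.conj_apply]
  simp only [map_mul, map_one, MulAut.conj_apply, X_zero, map_zero, neg_zero, mul_one, one_mul, n3,
    mul_inv_cancel,
    move (J := [0, 2, 3]) (r := 22) (r' := 14) (k := 1) (by decide +kernel),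
    move (J := [0, 2, 3]) (r := 23) (r' := 23) (k := 1) (by decide +kernel)]
  simp only [Int.cast_one, one_mul, X14_eq, X23_eq, ← nf_zero, nf_mul, tn, map_zero]
  refine nf_congr ?_ ?_ ?_ ?_ ?_ ?_ ?_ ?_ ?_ ?_ ?_ ?_
  all_goals ring1

theorem n3_A (t : K) : n3 K * tn f 0 t 0 0 0 0 * (n3 K)⁻¹ = D4.Y (-t) (-f t) (-f (f t)) := by
  rw [tn, nf, ← MulAut.conj_apply]
  simp only [map_mul, map_one, MulAut.conj_apply, X_zero, map_zero, neg_zero, mul_one, one_mul, n3,
    mul_inv_cancel,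
    move (J := [0, 2, 3]) (r := 18) (r' := 5) (k := -1) (by decide +kernel),
    move (J := [0, 2, 3]) (r := 13) (r' := 10) (k := -1) (by decide +kernel),
    move (J := [0, 2, 3]) (r := 12) (r' := 11) (k := -1) (by decide +kernel)]
  simp only [Int.cast_one, Int.cast_neg, neg_mul, one_mul, D4.Y, X, mul_assoc]

theorem torus_tn (z : ℕ → Kˣ) (b a₁ a₂ a₃ c₁ c₂ c₃ d₁ d₂ d₃ e w : K) :
    certFullD4.torus z * nf b a₁ a₂ a₃ c₁ c₂ c₃ d₁ d₂ d₃ e w * (certFullD4.torus z)⁻¹ =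
      nf ((certFullD4.tchar z 14 : K) * b) ((certFullD4.tchar z 18 : K) * a₁)
        ((certFullD4.tchar z 13 : K) * a₂) ((certFullD4.tchar z 12 : K) * a₃)
        ((certFullD4.tchar z 19 : K) * c₁) ((certFullD4.tchar z 16 : K) * c₂)
        ((certFullD4.tchar z 15 : K) * c₃) ((certFullD4.tchar z 17 : K) * d₁)
        ((certFullD4.tchar z 20 : K) * d₂) ((certFullD4.tchar z 21 : K) * d₃)
        ((certFullD4.tchar z 22 : K) * e) ((certFullD4.tchar z 23 : K) * w) := by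
  have hx : ∀ r < 24, ∀ t : K, certFullD4.torus z * X r t * (certFullD4.torus z)⁻¹ =
      X r ((certFullD4.tchar z r : K) * t) := fun r hr t => certFullD4.torus_conj_xg z hr t
  rw [nf, ← MulAut.conj_apply]
  simp only [map_mul, map_one, MulAut.conj_apply, mul_inv_cancel, nf, mul_one, one_mul,
    hx 14 (by omega), hx 18 (by omega), hx 13 (by omega), hx 12 (by omega), hx 19 (by omega),
    hx 16 (by omega), hx 15 (by omega), hx 17 (by omega), hx 20 (by omega), hx 21 (by omega),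
    hx 22 (by omega), hx 23 (by omega)]

variable [Fintype K] {q : ℕ} (hf : ∀ t, f t = t ^ q) (hK : Fintype.card K = q ^ 3)

include hf hK

theorem h3 (t : K) : f (f (f t)) = t := D4.pow_cube f hf hK t

theorem fix_pair {t : K} (h : f (f t) = t) : f t = t := by
  have := congrArg f h
  rw [h3 f hf hK] at this
  exact this.symm

set_option maxHeartbeats 4000000 in
theorem act_nf (b a₁ a₂ a₃ c₁ c₂ c₃ d₁ d₂ d₃ e z : K) :
    (D4.tw f).act (nf b a₁ a₂ a₃ c₁ c₂ c₃ d₁ d₂ d₃ e z) =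
      nf (f b) (f a₃) (f a₁) (f a₂) (-f c₃) (-f c₁) (f c₂) (-f d₃) (-f d₁) (f d₂) (f e) (f z) := by
  have hX : ∀ {r r' : ℕ} {k : ℤ}, r < 24 ∧ graphD4.ρ r = r' ∧ graphD4.ε r = k → ∀ t : K,
      (D4.tw f).act (X r t) = X r' ((k : K) * f t) := by
    rintro r r' k ⟨hr, rfl, rfl⟩ t
    rw [X, X, (D4.tw f).act_xg (show r < chevD4.nroots from hr)]
    rfl
  have hm := fun r (t : K) => X_mem (F := K) r t
  conv_lhs => rw [nf]
  simp (discharger := aesop (add safe apply mul_mem, safe apply one_mem, safe apply hm))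
    only [(D4.tw f).act_mul, (D4.tw f).act_one,
    hX (r := 14) (r' := 14) (k := 1) (by decide +kernel),
    hX (r := 18) (r' := 13) (k := 1) (by decide +kernel),
    hX (r := 13) (r' := 12) (k := 1) (by decide +kernel),
    hX (r := 12) (r' := 18) (k := 1) (by decide +kernel),
    hX (r := 19) (r' := 16) (k := -1) (by decide +kernel),
    hX (r := 16) (r' := 15) (k := 1) (by decide +kernel),
    hX (r := 15) (r' := 19) (k := -1) (by decide +kernel),
    hX (r := 17) (r' := 20) (k := -1) (by decide +kernel),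
    hX (r := 20) (r' := 21) (k := 1) (by decide +kernel),
    hX (r := 21) (r' := 17) (k := -1) (by decide +kernel),
    hX (r := 22) (r' := 22) (k := 1) (by decide +kernel),
    hX (r := 23) (r' := 23) (k := 1) (by decide +kernel)]
  simp only [Int.cast_one, Int.cast_neg, neg_mul, one_mul, X14_eq, X18_eq, X13_eq, X12_eq, X19_eq,
    X16_eq, X15_eq, X17_eq, X20_eq, X21_eq, X22_eq, X23_eq, ← nf_zero, nf_mul]
  refine nf_congr ?_ ?_ ?_ ?_ ?_ ?_ ?_ ?_ ?_ ?_ ?_ ?_
  all_goals ring1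

theorem tn_mem {b a c d e z : K} (hb : f b = b) (he : f e = e) (hz : f z = z) :
    tn f b a c d e z ∈ twistedD4 K q := by
  refine (D4.datum f hf hK).eq_fix.ge ((D4.tw f).mem_fix.2
    ⟨certFullD4.B_le_group (Subgroup.mem_sup_left (T := chevD4.diagonalSubgroup K)
      (tn_mem_U f b a c d e z)), ?_⟩)
  rw [tn, act_nf f hf hK, hb, he, hz]
  simp only [map_neg, h3 f hf hK, neg_neg]

theorem exists_tn {g : GL chevD4.Idx K} (hU : g ∈ chevD4.posUnipotent K)
    (hg : g ∈ twistedD4 K q) : ∃ b a c d e z : K, f b = b ∧ f e = e ∧ f z = z ∧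
      g = tn f b a c d e z := by
  obtain ⟨b, a₁, a₂, a₃, c₁, c₂, c₃, d₁, d₂, d₃, e, z, rfl⟩ := exists_nf hU
  have h := ((D4.tw f).mem_fix.1 (D4.le_fix f hf hK hg)).2
  rw [act_nf f hf hK] at h
  obtain ⟨hb, -, ha2, ha3, -, hc2, hc3, -, hd2, hd3, he, hz⟩ := nf_inj h
  refine ⟨b, a₁, c₁, d₁, e, z, hb, he, hz, nf_congr rfl rfl ha2.symm ?_ rfl hc2.symm ?_ rfl
    hd2.symm ?_ rfl rfl⟩
  · rw [← ha3, ← ha2]
  · rw [← hc3, ← hc2, map_neg]
  · rw [← hd3, ← hd2, map_neg]

theorem fix_of_tn_mem {b a c d e z : K} (h : tn f b a c d e z ∈ twistedD4 K q) :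
    f b = b ∧ f e = e ∧ f z = z := by
  obtain ⟨b', a', c', d', e', z', hb, he, hz, h'⟩ := exists_tn f hf hK (tn_mem_U f b a c d e z) h
  obtain ⟨rfl, -, -, -, rfl, rfl⟩ := tn_inj f h'
  exact ⟨hb, he, hz⟩

theorem tn_mem_sub_iff {b a c d e z : K} :
    tn f b a c d e z ∈ sub f q ↔ f b = b ∧ f a = a ∧ f c = c ∧ f d = d ∧ f e = e ∧ f z = z := by
  rw [mem_sub, φ_tn]
  constructor
  · rintro ⟨-, h⟩
    exact tn_inj f h
  · rintro ⟨hb, ha, hc, hd, he, hz⟩
    exact ⟨tn_mem f hf hK hb he hz, tn_congr f hb ha hc hd he hz⟩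

omit hf hK [Fintype K] in
theorem tn_split (b a c d e z : K) :
    tn f b a c d e z = tn f b 0 0 0 0 0 * tn f 0 a 0 0 0 0 * tn f 0 0 c 0 0 0 *
      tn f 0 0 0 d 0 0 * tn f 0 0 0 0 e z := by
  simp only [tn, map_zero, neg_zero, nf_mul]
  refine nf_congr ?_ ?_ ?_ ?_ ?_ ?_ ?_ ?_ ?_ ?_ ?_ ?_
  all_goals ring1

theorem n1_mem : n1 K ∈ sub f q :=
  (mem_sub f).2 ⟨D4.n_mem f hf hK [1] (by decide), φ_nw f _⟩

theorem n3_mem : n3 K ∈ sub f q :=
  (mem_sub f).2 ⟨D4.n_mem f hf hK [0, 2, 3] (by decide), φ_nw f _⟩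

/-- The field has the right number of fixed elements. -/
theorem card_fixed : Nat.card {x : K // f x = x} = q := by
  simp only [hf]
  exact card_pow_eq_self (D4.one_lt_q f hf hK) (e := 3) (by rw [Nat.card_eq_fintype_card, hK])

theorem exists_not_fixed : ∃ u : K, f u ≠ u := by
  by_contra h
  push Not at h
  have h1 := card_fixed f hf hK
  rw [Nat.card_congr (Equiv.subtypeUnivEquiv h), Nat.card_eq_fintype_card, hK] at h1
  have h2 := D4.one_lt_q f hf hK
  have : q * 1 < q * q ^ 2 := Nat.mul_lt_mul_of_pos_left (Nat.one_lt_pow two_ne_zero h2) (by omega)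
  rw [show q * q ^ 2 = q ^ 3 by ring, h1] at this
  omega

section

variable {H : Subgroup (GL chevD4.Idx K)} (hM : sub f q ≤ H)

omit hK hf [Fintype K] in
theorem mem_of_conj {n x y : GL chevD4.Idx K} (hn : n ∈ H) (e : n * x * n⁻¹ = y) :
    y ∈ H ↔ x ∈ H := by
  subst e
  refine ⟨fun h => ?_, fun h => mul_mem (mul_mem hn h) (inv_mem hn)⟩
  have := mul_mem (mul_mem (inv_mem hn) h) hn
  simpa [mul_assoc] using this

include hM

theorem EZ_mem {e z : K} (he : f e = e) (hz : f z = z) : tn f 0 0 0 0 e z ∈ H :=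
  hM ((tn_mem_sub_iff f hf hK).2
    ⟨map_zero f, map_zero f, map_zero f, map_zero f, he, hz⟩)

theorem C_iff {c : K} : tn f 0 (-c) 0 0 0 0 ∈ H ↔ tn f 0 0 c 0 0 0 ∈ H := by
  refine mem_of_conj (hM (n1_mem f hf hK)) ?_
  simpa using n1_low f c 0 0 0

theorem D_iff {d : K} : tn f 0 0 (-d) 0 0 0 ∈ H ↔ tn f 0 0 0 d 0 0 ∈ H :=
  mem_of_conj (hM (n3_mem f hf hK)) (n3_D f d)

theorem A_of_D {d : K} (h : tn f 0 0 0 d 0 0 ∈ H) : tn f 0 d 0 0 0 0 ∈ H := by
  have := (C_iff f hf hK hM).2 ((D_iff f hf hK hM).2 h)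
  rwa [neg_neg] at this

theorem D_of_low {d e z : K} (h : tn f 0 0 0 d e z ∈ H)
    (hmem : tn f 0 0 0 d e z ∈ twistedD4 K q) : tn f 0 0 0 d 0 0 ∈ H := by
  obtain ⟨-, he, hz⟩ := fix_of_tn_mem f hf hK hmem
  have e1 : tn f 0 0 0 d 0 0 * tn f 0 0 0 0 e z = tn f 0 0 0 d e z := by
    simp only [tn, map_zero, neg_zero, nf_mul]
    refine nf_congr ?_ ?_ ?_ ?_ ?_ ?_ ?_ ?_ ?_ ?_ ?_ ?_
    all_goals ring1
  exact (Subgroup.mul_mem_cancel_right H (EZ_mem f hf hK hM he hz)).1 (by rw [e1]; exact h)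

variable (hH : H ≤ twistedD4 K q)

include hH

/-- The product rule from the commutator of the two short root groups. -/
theorem A_cross {s v : K} (hs : tn f 0 s 0 0 0 0 ∈ H) (hv : tn f 0 0 v 0 0 0 ∈ H) :
    tn f 0 (f s * f (f v) + f (f s) * f v) 0 0 0 0 ∈ H := by
  set A := tn f 0 s 0 0 0 0
  set C := tn f 0 0 v 0 0 0
  have hP : (A * C)⁻¹ * (C * A) ∈ H := mul_mem (inv_mem (mul_mem hs hv)) (mul_mem hv hs)
  have hPU : (A * C)⁻¹ * (C * A) ∈ chevD4.posUnipotent K :=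
    mul_mem (inv_mem (mul_mem (tn_mem_U f _ _ _ _ _ _) (tn_mem_U f _ _ _ _ _ _)))
      (mul_mem (tn_mem_U f _ _ _ _ _ _) (tn_mem_U f _ _ _ _ _ _))
  obtain ⟨b, a, c, d, e, z, hb, he, hz, hPe⟩ := exists_tn f hf hK hPU (hH hP)
  rw [hPe] at hP
  have h := eq_mul_of_inv_mul_eq hPe
  simp only [A, C, tn, map_zero, neg_zero, nf_mul] at h
  obtain ⟨h1, h2, -, -, h5, -, -, h8, -, -, -, -⟩ := nf_inj h
  have hb0 : b = 0 := by linear_combination -h1
  have ha0 : a = 0 := by linear_combination -h2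
  subst hb0 ha0
  have hc0 : c = 0 := by linear_combination -h5
  subst hc0
  simp only [map_zero] at h8
  have hd : d = f s * f (f v) + f (f s) * f v := by linear_combination -h8
  subst hd
  exact A_of_D f hf hK hM (D_of_low f hf hK hM hP (hH hP))

omit hH in
theorem C_of_A {v : K} (hv : tn f 0 v 0 0 0 0 ∈ H) : tn f 0 0 v 0 0 0 ∈ H := by
  refine (C_iff f hf hK hM).1 ?_
  have e : tn f 0 v 0 0 0 0 * tn f 0 (-v) 0 0 0 0 = 1 := by
    simp only [tn, map_zero, map_neg, neg_zero, nf_mul, ← nf_zero]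
    refine nf_congr ?_ ?_ ?_ ?_ ?_ ?_ ?_ ?_ ?_ ?_ ?_ ?_
    all_goals ring1
  rw [eq_inv_of_mul_eq_one_right e]
  exact inv_mem hv

/-- The quadratic rule from the commutator with the long fundamental root group. -/
theorem A_square {s : K} (hs : tn f 0 s 0 0 0 0 ∈ H) :
    tn f 0 (-(f s * f (f s))) 0 0 0 0 ∈ H := by
  have hC : tn f 0 0 (-s) 0 0 0 ∈ H := by
    refine (C_iff f hf hK hM).1 ?_
    rwa [neg_neg]
  set A := tn f 0 s 0 0 0 0
  set B := tn f 1 0 0 0 0 0
  set C := tn f 0 0 (-s) 0 0 0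
  have hB : B ∈ H := hM ((tn_mem_sub_iff f hf hK).2
    ⟨map_one f, map_zero f, map_zero f, map_zero f, map_zero f, map_zero f⟩)
  have hP : (B * A * C)⁻¹ * (A * B) ∈ H :=
    mul_mem (inv_mem (mul_mem (mul_mem hB hs) hC)) (mul_mem hs hB)
  have hPU : (B * A * C)⁻¹ * (A * B) ∈ chevD4.posUnipotent K :=
    mul_mem (inv_mem (mul_mem (mul_mem (tn_mem_U f _ _ _ _ _ _) (tn_mem_U f _ _ _ _ _ _))
      (tn_mem_U f _ _ _ _ _ _))) (mul_mem (tn_mem_U f _ _ _ _ _ _) (tn_mem_U f _ _ _ _ _ _))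
  obtain ⟨b, a, c, d, e, z, hb, he, hz, hPe⟩ := exists_tn f hf hK hPU (hH hP)
  rw [hPe] at hP
  have h := eq_mul_of_inv_mul_eq hPe
  simp only [A, B, C, tn, map_zero, map_one, map_neg, neg_zero, nf_mul] at h
  obtain ⟨h1, h2, -, -, h5, -, -, h8, -, -, -, -⟩ := nf_inj h
  have hb0 : b = 0 := by linear_combination -h1
  have ha0 : a = 0 := by linear_combination -h2
  subst hb0 ha0
  have hc0 : c = 0 := by linear_combination -h5
  subst hc0
  simp only [map_zero] at h8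
  have hd : d = -(f s * f (f s)) := by linear_combination -h8
  subst hd
  exact A_of_D f hf hK hM (D_of_low f hf hK hM hP (hH hP))

theorem A_add {s v : K} (hs : tn f 0 s 0 0 0 0 ∈ H) (hv : tn f 0 v 0 0 0 0 ∈ H) :
    tn f 0 (s + v) 0 0 0 0 ∈ H := by
  have e : tn f 0 (s + v) 0 0 0 0 = tn f 0 s 0 0 0 0 * tn f 0 v 0 0 0 0 := by
    simp only [tn, map_zero, map_add, neg_zero, nf_mul]
    refine nf_congr ?_ ?_ ?_ ?_ ?_ ?_ ?_ ?_ ?_ ?_ ?_ ?_
    all_goals ring1
  rw [e]
  exact mul_mem hs hv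

theorem A_neg {s : K} (hs : tn f 0 s 0 0 0 0 ∈ H) : tn f 0 (-s) 0 0 0 0 ∈ H :=
  (C_iff f hf hK hM).2 (C_of_A f hf hK hM hs)

omit hH in
theorem A_fixed {k : K} (hk : f k = k) : tn f 0 k 0 0 0 0 ∈ H :=
  hM ((tn_mem_sub_iff f hf hK).2 ⟨map_zero f, hk, map_zero f, map_zero f, map_zero f, map_zero f⟩)

theorem A_smul {k v : K} (hk : f k = k) (hv : tn f 0 v 0 0 0 0 ∈ H) :
    tn f 0 (k * v) 0 0 0 0 ∈ H := by
  have h1 := A_cross f hf hK hM hH (A_fixed f hf hK hM hk) (C_of_A f hf hK hM hv)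
  rw [hk, hk] at h1
  have htr : f (k * (v + f v + f (f v))) = k * (v + f v + f (f v)) := by
    rw [map_mul, map_add, map_add, hk, h3 f hf hK]; ring
  have h2 := A_add f hf hK hM hH (A_fixed f hf hK hM htr) (A_neg f hf hK hM hH h1)
  rwa [show k * (v + f v + f (f v)) + -(k * f (f v) + k * f v) = k * v by ring] at h2

/-- One element outside the subfield in the short root group gives the whole root group. -/
theorem A_all {u : K} (hu : f u ≠ u) (huH : tn f 0 u 0 0 0 0 ∈ H) (t : K) :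
    tn f 0 t 0 0 0 0 ∈ H := by
  have hu2 : tn f 0 (u * u) 0 0 0 0 ∈ H := by
    have hN : tn f 0 (f u * f (f u)) 0 0 0 0 ∈ H := by
      have := A_neg f hf hK hM hH (A_square f hf hK hM hH huH)
      rwa [neg_neg] at this
    have h1 : f (u + f u + f (f u)) = u + f u + f (f u) := by
      rw [map_add, map_add, h3 f hf hK]; ring
    have h2 : f (u * f u + u * f (f u) + f u * f (f u)) = u * f u + u * f (f u) + f u * f (f u) := by
      rw [map_add, map_add, map_mul, map_mul, map_mul, h3 f hf hK]; ring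
    have h3' := A_add f hf hK hM hH (A_add f hf hK hM hH hN (A_smul f hf hK hM hH h1 huH))
      (A_neg f hf hK hM hH (A_fixed f hf hK hM h2))
    rwa [show f u * f (f u) + (u + f u + f (f u)) * u +
      -(u * f u + u * f (f u) + f u * f (f u)) = u * u by ring] at h3'
  let L := {x : K // f x = x}
  let g : L × L × L → K := fun p => p.1.1 + p.2.1.1 * u + p.2.2.1 * (u * u)
  have hinj : Function.Injective g := by
    rintro ⟨x, y, w⟩ ⟨x', y', w'⟩ h
    simp only [g] at h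
    have e1 := congrArg f h
    simp only [map_add, map_mul, x.2, y.2, w.2, x'.2, y'.2, w'.2] at e1
    have e2 := congrArg f e1
    simp only [map_add, map_mul, x.2, y.2, w.2, x'.2, y'.2, w'.2] at e2
    have n1 : u - f u ≠ 0 := sub_ne_zero.2 (Ne.symm hu)
    have n2 : f u - f (f u) ≠ 0 :=
      sub_ne_zero.2 fun e => hu (f.injective e).symm
    have n3 : u - f (f u) ≠ 0 :=
      sub_ne_zero.2 fun e => hu (fix_pair f hf hK e.symm)
    have r1 : (y.1 - y'.1) + (w.1 - w'.1) * (u + f u) = 0 := by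
      refine (mul_eq_zero.1 (?_ : (u - f u) * _ = 0)).resolve_left n1
      linear_combination h - e1
    have r2 : (y.1 - y'.1) + (w.1 - w'.1) * (f u + f (f u)) = 0 := by
      refine (mul_eq_zero.1 (?_ : (f u - f (f u)) * _ = 0)).resolve_left n2
      linear_combination e1 - e2
    have hw : w.1 - w'.1 = 0 := by
      refine (mul_eq_zero.1 (?_ : (u - f (f u)) * _ = 0)).resolve_left n3
      linear_combination r1 - r2
    have hy : y.1 - y'.1 = 0 := by linear_combination r1 - (u + f u) * hw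
    have hx : x.1 - x'.1 = 0 := by linear_combination h - u * hy - u * u * hw
    exact Prod.ext (Subtype.ext (sub_eq_zero.1 hx))
      (Prod.ext (Subtype.ext (sub_eq_zero.1 hy)) (Subtype.ext (sub_eq_zero.1 hw)))
  have hbij : Function.Bijective g := by
    refine (Nat.bijective_iff_injective_and_card g).2 ⟨hinj, ?_⟩
    rw [Nat.card_prod, Nat.card_prod, card_fixed f hf hK, Nat.card_eq_fintype_card, hK]
    ring
  obtain ⟨⟨x, y, w⟩, rfl⟩ := hbij.2 t
  exact A_add f hf hK hM hH (A_add f hf hK hM hH (A_fixed f hf hK hM x.2)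
    (A_smul f hf hK hM hH y.2 huH)) (A_smul f hf hK hM hH w.2 hu2)

theorem eq_top_of_A {u : K} (hu : f u ≠ u) (huH : tn f 0 u 0 0 0 0 ∈ H) :
    H = twistedD4 K q := by
  refine le_antisymm hH ((Subgroup.closure_le _).2 ?_)
  have hA := A_all f hf hK hM hH hu huH
  rintro g ⟨w, hw, hg⟩
  rw [eq_wordProd certFullD4 hg]
  rcases hw with ⟨t, ht, r, hr, rfl⟩ | ⟨t, rs, hrs, rfl⟩
  · simp only [List.map_cons, List.map_nil, List.prod_cons, List.prod_nil, mul_one]
    rw [← hf] at ht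
    simp only [d4p2, d4m2, List.mem_cons, List.not_mem_nil, or_false] at hr
    refine hM ((mem_sub f).2 ⟨D4.gen1 f hf hr ht, ?_⟩)
    change φ f (X r t) = X r t
    rw [φ_X, ht]
  · have e : t ^ q ^ 2 = f (f t) := by rw [hf, hf, ← pow_mul, sq]
    simp only [d4p1, d4p3, d4p4, d4m1, d4m3, d4m4, List.mem_cons, List.not_mem_nil, or_false] at hrs
    rcases hrs with rfl | rfl
    · simp only [List.map_cons, List.map_nil, List.prod_cons, List.prod_nil, mul_one]
      rw [e, ← hf]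
      have := hA t
      simpa [tn, nf, X, certFullD4.xg_zero, mul_assoc] using this
    · simp only [List.map_cons, List.map_nil, List.prod_cons, List.prod_nil, mul_one]
      rw [e, ← hf]
      have := (mem_of_conj (hM (n3_mem f hf hK)) (n3_A f (-t))).2 (hA (-t))
      simpa [D4.Y, map_neg, mul_assoc] using this

/-- An element of the radical with a coordinate outside the subfield gives everything. -/
theorem eq_top_of_low {b c d e z : K} (hc : f c ≠ c) (h : tn f b 0 c d e z ∈ H) :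
    H = twistedD4 K q := by
  obtain ⟨hb, he, hz⟩ := fix_of_tn_mem f hf hK (hH h)
  have hB : tn f (-b) 0 0 0 0 0 ∈ H := hM ((tn_mem_sub_iff f hf hK).2
    ⟨by rw [map_neg, hb], map_zero f, map_zero f, map_zero f, map_zero f, map_zero f⟩)
  have e1 : tn f (-b) 0 0 0 0 0 * tn f b 0 c d e z = tn f 0 0 c d e z := by
    simp only [tn, map_zero, map_neg, neg_zero, nf_mul]
    refine nf_congr ?_ ?_ ?_ ?_ ?_ ?_ ?_ ?_ ?_ ?_ ?_ ?_
    all_goals ring1
  have h1 := mul_mem hB h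
  rw [e1] at h1
  have h2 := (mem_of_conj (hM (n1_mem f hf hK)) (n1_low f c d e z)).2 h1
  set A := tn f 0 (-c) 0 d (-z) e
  set C := tn f 0 0 1 0 0 0
  have hC : C ∈ H := C_of_A f hf hK hM (A_fixed f hf hK hM (map_one f))
  have hP : (A * C)⁻¹ * (C * A) ∈ H := mul_mem (inv_mem (mul_mem h2 hC)) (mul_mem hC h2)
  have hPU : (A * C)⁻¹ * (C * A) ∈ chevD4.posUnipotent K :=
    mul_mem (inv_mem (mul_mem (tn_mem_U f _ _ _ _ _ _) (tn_mem_U f _ _ _ _ _ _)))
      (mul_mem (tn_mem_U f _ _ _ _ _ _) (tn_mem_U f _ _ _ _ _ _))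
  obtain ⟨b', a', c', d', e', z', hb', he', hz', hPe⟩ := exists_tn f hf hK hPU (hH hP)
  rw [hPe] at hP
  have h' := eq_mul_of_inv_mul_eq hPe
  simp only [A, C, tn, map_zero, map_one, map_neg, neg_zero, nf_mul] at h'
  obtain ⟨g1, g2, -, -, g5, -, -, g8, -, -, -, -⟩ := nf_inj h'
  have hb0 : b' = 0 := by linear_combination -g1
  have ha0 : a' = 0 := by linear_combination -g2
  subst hb0 ha0
  have hc0 : c' = 0 := by linear_combination -g5
  subst hc0
  simp only [map_zero] at g8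
  have hd : d' = -(f c + f (f c)) := by linear_combination -g8
  subst hd
  refine eq_top_of_A f hf hK hM hH ?_ (A_of_D f hf hK hM (D_of_low f hf hK hM hP (hH hP)))
  intro e2
  simp only [map_neg, map_add, h3 f hf hK, neg_inj] at e2
  exact hc (by linear_combination -e2)

end

end Cfsg.Agent.Lie.Chev.D4Sub
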