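import Cfsg.Agent.Lib.Lie.Chev.D4SubfieldPoints

/-! The subfield points of ³D₄(q) form a maximal subgroup: every long root group is one of the
subfield or a neighbour of exactly one of those, by counting. -/

set_option autoImplicit false
set_option maxRecDepth 20000

namespace Cfsg.Agent.Lie.Chev.D4Sub

open Cfsg.Lie

variable {K : Type*} [Field K] (f : K →+* K)

/-- A neighbour of the base point. -/
noncomputable def gtu (t u : K) : GL chevD4.Idx K :=
  tn f 0 t 0 0 0 0 * tn f 0 0 0 0 u 0 * (n3 K * n1 K)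

theorem X23_mul (j k : K) : X 23 (j + k) = X 23 j * X 23 k := by
  rw [X, X, X, certFullD4.xg_add]

theorem X23_comm (j : K) {u : GL chevD4.Idx K} (hu : u ∈ chevD4.posUnipotent K) :
    Commute u (X 23 j) := by
  have := U_comm hu j
  rw [mul_inv_eq_iff_eq_mul] at this
  exact this

theorem n3_B (b z : K) :
    n3 K * tn f b 0 0 0 0 z * (n3 K)⁻¹ = tn f 0 0 0 0 (-b) z := by
  rw [tn, nf, ← MulAut.conj_apply]
  simp only [map_mul, map_one, MulAut.conj_apply, X_zero, map_zero, neg_zero, mul_one, one_mul, n3,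
    mul_inv_cancel,
    move (J := [0, 2, 3]) (r := 14) (r' := 22) (k := -1) (by decide +kernel),
    move (J := [0, 2, 3]) (r := 23) (r' := 23) (k := 1) (by decide +kernel)]
  simp only [Int.cast_one, Int.cast_neg, neg_mul, one_mul, X22_eq, X23_eq, ← nf_zero, nf_mul, tn,
    map_zero, neg_zero]
  refine nf_congr ?_ ?_ ?_ ?_ ?_ ?_ ?_ ?_ ?_ ?_ ?_ ?_
  all_goals ring1

theorem g0_conj (k : K) :
    n3 K * n1 K * X 23 k * (n3 K * n1 K)⁻¹ = tn f (-k) 0 0 0 0 0 := by
  rw [show n3 K * n1 K * X 23 k * (n3 K * n1 K)⁻¹ =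
    n3 K * (n1 K * X 23 k * (n1 K)⁻¹) * (n3 K)⁻¹ by group, X23_tn f, n1_low, neg_zero, n3_E]

theorem gtu_conj (t u k : K) : gtu f t u * X 23 k * (gtu f t u)⁻¹ =
    tn f 0 t 0 0 0 0 * tn f (-k) 0 0 0 0 (k * u) * (tn f 0 t 0 0 0 0)⁻¹ := by
  rw [gtu, show ∀ a b n : GL chevD4.Idx K, a * b * n * X 23 k * (a * b * n)⁻¹ =
    a * (b * (n * X 23 k * n⁻¹) * b⁻¹) * a⁻¹ from fun a b n => by group, g0_conj f]
  congr 2
  rw [mul_inv_eq_iff_eq_mul]
  simp only [tn, map_zero, neg_zero, nf_mul]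
  refine nf_congr ?_ ?_ ?_ ?_ ?_ ?_ ?_ ?_ ?_ ?_ ?_ ?_
  all_goals ring1

/-- The count of points. -/
theorem count_arith {q P D S₁ M S₂ T : ℕ} (hq : 1 < q)
    (h1 : q ^ 12 * ((q ^ 3 - 1) * (q - 1)) * (1 + q ^ 3) ≤ S₁)
    (h2 : S₂ ≤ q ^ 6 * ((q - 1) * (q - 1)) * (q + 1))
    (h3 : q ^ 6 * ((q ^ 2 - 1) * (q ^ 6 - 1)) ≤ M)
    (hN : P * S₁ = q ^ 12 * (q ^ 2 - 1) * (q ^ 6 - 1) * (q ^ 8 + q ^ 4 + 1))
    (hM : D * S₂ = M) (hT : T + q = q ^ 3) :
    P ≤ D * (T * q + 1) := by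
  obtain ⟨n, rfl⟩ : ∃ n, q = n + 2 := ⟨q - 2, by omega⟩
  have s1 : n + 2 - 1 = n + 1 := rfl
  have s2 : (n + 2) ^ 2 - 1 = (n + 1) * (n + 3) := Nat.sub_eq_of_eq_add (by ring)
  have s3 : (n + 2) ^ 3 - 1 = (n + 1) * ((n + 2) ^ 2 + (n + 2) + 1) :=
    Nat.sub_eq_of_eq_add (by ring)
  have s6 : (n + 2) ^ 6 - 1 = (n + 1) * ((n + 2) ^ 2 + (n + 2) + 1) * ((n + 2) ^ 3 + 1) :=
    Nat.sub_eq_of_eq_add (by ring)
  rw [s1, s3] at h1
  rw [s1] at h2
  rw [s2, s6] at h3 hN
  have eT : T = (n + 2) * ((n + 1) * (n + 3)) := by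
    have : (n + 2) ^ 3 = (n + 2) * ((n + 1) * (n + 3)) + (n + 2) := by ring
    omega
  have hP : P ≤ ((n + 2) + 1) * ((n + 2) ^ 8 + (n + 2) ^ 4 + 1) := by
    refine Nat.le_of_mul_le_mul_left
      (c := (n + 2) ^ 12 * ((n + 1) * ((n + 2) ^ 2 + (n + 2) + 1) * (n + 1)) * (1 + (n + 2) ^ 3))
      ?_ (Nat.mul_pos (Nat.mul_pos (Nat.pow_pos (Nat.succ_pos _))
        (Nat.mul_pos (Nat.mul_pos (Nat.succ_pos _) (Nat.succ_pos _)) (Nat.succ_pos _)))
        (Nat.add_pos_left Nat.one_pos _))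
    have h := Nat.mul_le_mul h1 (le_refl P)
    rw [mul_comm S₁ P, hN] at h
    refine le_trans h (le_of_eq ?_)
    ring
  have hD : ((n + 2) ^ 2 + (n + 2) + 1) * ((n + 2) ^ 3 + 1) ≤ D := by
    refine Nat.le_of_mul_le_mul_left
      (c := (n + 2) ^ 6 * ((n + 1) * (n + 1)) * (n + 2 + 1)) ?_
      (Nat.mul_pos (Nat.mul_pos (Nat.pow_pos (Nat.succ_pos _))
        (Nat.mul_pos (Nat.succ_pos _) (Nat.succ_pos _))) (Nat.succ_pos _))
    have h := Nat.mul_le_mul h2 (le_refl D)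
    rw [mul_comm S₂ D, hM] at h
    refine le_trans ?_ (le_trans h3 h)
    refine le_of_eq ?_
    ring
  refine hP.trans (le_trans (le_of_eq ?_) (Nat.mul_le_mul_right _ hD))
  rw [eT]
  ring

variable [Fintype K] {q : ℕ} (hf : ∀ t, f t = t ^ q) (hK : Fintype.card K = q ^ 3)

include hf hK

theorem A_mem (a : K) : tn f 0 a 0 0 0 0 ∈ twistedD4 K q :=
  tn_mem f hf hK (map_zero f) (map_zero f) (map_zero f)

theorem gtu_mem {t u : K} (hu : f u = u) : gtu f t u ∈ twistedD4 K q :=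
  mul_mem (mul_mem (A_mem f hf hK t) (tn_mem f hf hK (map_zero f) hu (map_zero f)))
    (mul_mem ((mem_sub f).1 (n3_mem f hf hK)).1 ((mem_sub f).1 (n1_mem f hf hK)).1)

theorem X23_mem {k : K} (hk : f k = k) : X 23 k ∈ sub f q := by
  rw [X23_tn f, tn_mem_sub_iff f hf hK]
  simp [hk]

/-- Conjugation of the long fundamental root group by the short one. -/
theorem A_conj (r k z : K) (hk : f k = k) (hz : f z = z) :
    ∃ z', tn f 0 r 0 0 0 0 * tn f k 0 0 0 0 z * (tn f 0 r 0 0 0 0)⁻¹ =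
      tn f k 0 (-(r * k)) (f r * f (f r) * k) (-(r * f r * f (f r) * k)) z' := by
  have hA := A_mem f hf hK r
  have hB : tn f k 0 0 0 0 z ∈ twistedD4 K q := tn_mem f hf hK hk (map_zero f) hz
  obtain ⟨b, a, c, d, e, z', -, -, -, hP⟩ := exists_tn f hf hK
    (mul_mem (mul_mem (tn_mem_U f 0 r 0 0 0 0) (tn_mem_U f k 0 0 0 0 z))
      (inv_mem (tn_mem_U f 0 r 0 0 0 0))) (mul_mem (mul_mem hA hB) (inv_mem hA))
  refine ⟨z', hP.trans ?_⟩
  have h := mul_inv_eq_iff_eq_mul.1 hP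
  simp only [tn, map_zero, neg_zero, nf_mul] at h
  obtain ⟨h1, h2, -, -, h5, -, -, h8, -, -, h11, -⟩ := nf_inj h
  have hb : b = k := by linear_combination -h1
  subst hb
  have ha : a = 0 := by linear_combination -h2
  subst ha
  have hc : c = -(r * b) := by linear_combination -h5
  subst hc
  simp only [map_zero, map_neg, map_mul, hk] at h8
  have hd : d = f r * f (f r) * b := by linear_combination -h8
  subst hd
  simp only [map_zero, map_neg, map_mul, hk, h3 f hf hK] at h11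
  have he : e = -(r * f r * f (f r) * b) := by linear_combination -h11
  subst he
  rfl

/-- Conjugates of the long fundamental root elements by the unipotent subgroup. -/
theorem conj_B {b a c d e z k : K} (hb : f b = b) (he : f e = e) (hz : f z = z) (hk : f k = k) :
    ∃ z', f z' = z' ∧ tn f b a c d e z * X 14 k * (tn f b a c d e z)⁻¹ =
      tn f 0 a 0 0 0 0 * tn f k 0 0 0 0 z' * (tn f 0 a 0 0 0 0)⁻¹ := by
  set A := tn f 0 a 0 0 0 0
  set v := tn f b a c d e z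
  have hv : v ∈ twistedD4 K q := tn_mem f hf hK hb he hz
  have hA : A ∈ twistedD4 K q := A_mem f hf hK a
  obtain ⟨b₀, a₀, c₀, d₀, e₀, z₀, hb0, he0, hz0, hw⟩ := exists_tn f hf hK
    (mul_mem (inv_mem (tn_mem_U f 0 a 0 0 0 0)) (tn_mem_U f b a c d e z)) (mul_mem (inv_mem hA) hv)
  change A⁻¹ * v = _ at hw
  have h' := eq_mul_of_inv_mul_eq hw
  simp only [A, v, tn, map_zero, neg_zero, nf_mul] at h'
  have ha0 : a₀ = 0 := by
    obtain ⟨-, g2, -⟩ := nf_inj h'
    linear_combination -g2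
  subst ha0
  set w := tn f b₀ 0 c₀ d₀ e₀ z₀
  have hwG : w ∈ twistedD4 K q := tn_mem f hf hK hb0 he0 hz0
  have hB : X 14 k ∈ twistedD4 K q := by
    rw [X14_tn f]; exact tn_mem f hf hK hk (map_zero f) (map_zero f)
  obtain ⟨b', a', c', d', e', z', -, -, hz', hP⟩ := exists_tn f hf hK
    (mul_mem (mul_mem (tn_mem_U f b₀ 0 c₀ d₀ e₀ z₀) (by rw [X14_tn f]; exact tn_mem_U f _ _ _ _ _ _))
      (inv_mem (tn_mem_U f b₀ 0 c₀ d₀ e₀ z₀))) (mul_mem (mul_mem hwG hB) (inv_mem hwG))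
  refine ⟨z', hz', ?_⟩
  have h := mul_inv_eq_iff_eq_mul.1 hP
  simp only [w, X14_tn f, tn, map_zero, neg_zero, nf_mul] at h
  obtain ⟨h1, h2, -, -, h5, -, -, h8, -, -, h11, -⟩ := nf_inj h
  have hbk : b' = k := by linear_combination -h1
  subst hbk
  have ha' : a' = 0 := by linear_combination -h2
  subst ha'
  have hc' : c' = 0 := by linear_combination -h5
  subst hc'
  simp only [map_zero] at h8 h11
  have hd' : d' = 0 := by linear_combination -h8
  subst hd'
  simp only [map_zero] at h11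
  have he' : e' = 0 := by linear_combination -h11
  subst he'
  have hvw : v = A * w := by rw [← hw]; group
  rw [hvw, show A * w * X 14 b' * (A * w)⁻¹ = A * (w * X 14 b' * w⁻¹) * A⁻¹ by group]
  exact congrArg (fun x => A * x * A⁻¹) hP

/-- Conjugates of the long root elements at the second long root. -/
theorem conj_E {b a c d e z k : K} (hb : f b = b) (he : f e = e) (hz : f z = z) (hk : f k = k) :
    ∃ z', f z' = z' ∧ tn f b a c d e z * X 22 k * (tn f b a c d e z)⁻¹ = tn f 0 0 0 0 k z' := by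
  set v := tn f b a c d e z
  have hv : v ∈ twistedD4 K q := tn_mem f hf hK hb he hz
  have hE : X 22 k ∈ twistedD4 K q := by
    rw [X22_tn f]; exact tn_mem f hf hK (map_zero f) hk (map_zero f)
  obtain ⟨b', a', c', d', e', z', -, -, hz', hP⟩ := exists_tn f hf hK
    (mul_mem (mul_mem (tn_mem_U f b a c d e z) (by rw [X22_tn f]; exact tn_mem_U f _ _ _ _ _ _))
      (inv_mem (tn_mem_U f b a c d e z))) (mul_mem (mul_mem hv hE) (inv_mem hv))
  refine ⟨z', hz', hP.trans ?_⟩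
  have h := mul_inv_eq_iff_eq_mul.1 hP
  simp only [v, X22_tn f, tn, map_zero, neg_zero, nf_mul] at h
  obtain ⟨h1, h2, -, -, h5, -, -, h8, -, -, h11, -⟩ := nf_inj h
  have hb' : b' = 0 := by linear_combination -h1
  subst hb'
  have ha' : a' = 0 := by linear_combination -h2
  subst ha'
  have hc' : c' = 0 := by linear_combination -h5
  subst hc'
  simp only [map_zero] at h8 h11
  have hd' : d' = 0 := by linear_combination -h8
  subst hd'
  simp only [map_zero] at h11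
  have he' : e' = k := by linear_combination -h11
  subst he'
  rfl

omit hf hK [Fintype K] in
theorem excluded {r : ℕ} (hr : r = 9 ∨ r = 1 ∨ r = 0) {c : K}
    (h : Commute (X r c) (X 23 (1 : K))) : c = 0 := by
  have two : ∀ {r x : ℕ} {k : ℤ}, r < 24 ∧ x < 24 ∧ 23 ≠ r ∧ r + 23 ≠ 23 ∧ k.natAbs = 1 ∧
      certFullD4.T.commTerms r 23 = [(x, k, 1, 1)] → ∀ {c : K},
      Commute (X r c) (X 23 (1 : K)) → c = 0 := by
    intro r x k ⟨h0, hx, h1, h2, hk, hc⟩ c h
    have e := certFullD4.xg_comm (show r < chevD4.nroots from h0) (show 23 < chevD4.nroots by decide)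
      h1 (by rw [show chevD4.neg r = 23 - r from certFullD4.neg_eq h0]; omega) c 1
    rw [show certFullD4.xg 23 1 * certFullD4.xg r c = certFullD4.xg r c * certFullD4.xg 23 1 from
      h.eq.symm, hc] at e
    simp only [List.map_cons, List.map_nil, List.prod_cons, List.prod_nil, mul_one, left_eq_mul] at e
    rw [certFullD4.xg_eq_one_iff (show x < chevD4.nroots from hx)] at e
    rcases Int.natAbs_eq k with e' | e' <;> rw [e', hk] at e <;> simpa using e
  rcases hr with rfl | rfl | rfl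
  · exact two (r := 9) (x := 22) (k := 1) (by decide +kernel) h
  · exact two (r := 1) (x := 14) (k := -1) (by decide +kernel) h
  · have hc : certFullD4.T.commTerms 0 14 = [(1, 1, 1, 1)] := by decide +kernel
    have e := certFullD4.xg_comm (show 0 < chevD4.nroots by decide) (show 14 < chevD4.nroots by decide)
      (by decide) (by rw [show chevD4.neg 0 = 23 - 0 from certFullD4.neg_eq (by decide)]; decide)
      c (1 : K)
    simp only [hc, List.map_cons, List.map_nil, List.prod_cons, List.prod_nil, mul_one, pow_one,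
      Int.cast_one, one_mul] at e
    have h14 : Commute (X 14 (1 : K)) (X 23 (1 : K)) := X23_comm 1
      (by rw [X14_eq]; exact nf_mem_U _ _ _ _ _ _ _ _ _ _ _ _)
    have hx1 : X 1 (-c) = ((X 0 c * X 14 1)⁻¹ * (X 14 1 * X 0 c) : GL chevD4.Idx K) := by
      simp only [X]; rw [e]; group
    have h' : Commute (X 1 (-c)) (X 23 (1 : K)) := by
      rw [hx1]
      exact ((h.mul_left h14).inv_left).mul_left (h14.mul_left h)
    exact neg_eq_zero.1 (two (r := 1) (x := 14) (k := -1) (by decide +kernel) h')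

/-- The long root elements commuting with the base point. -/
theorem long_form {g : GL chevD4.Idx K} (hg : g ∈ twistedD4 K q)
    (h : Commute (g * X 23 1 * g⁻¹) (X 23 1)) :
    (∃ e z, f e = e ∧ f z = z ∧ g * X 23 1 * g⁻¹ = tn f 0 0 0 0 e z) ∨
      ∃ s b z, b ≠ 0 ∧ f b = b ∧ f z = z ∧
        g * X 23 1 * g⁻¹ = tn f 0 s 0 0 0 0 * tn f b 0 0 0 0 z * (tn f 0 s 0 0 0 0)⁻¹ := by
  have hyG : g * X 23 1 * g⁻¹ ∈ twistedD4 K q :=
    mul_mem (mul_mem hg ((mem_sub f).1 (X23_mem f hf hK (map_one f))).1) (inv_mem hg)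
  obtain ⟨bb, -, i, hi, u, -, rfl, v, hv, c, hc, hall⟩ := conj_long f hf hK hg
  have h1 := hall 1
  rw [mul_one] at h1
  set L := flatW orbitsD4 (twistD4Reps.get i).word
  obtain ⟨r, hr⟩ : ∃ r, certFullD4.T.wlT L 23 = r := ⟨_, rfl⟩
  rw [hr] at h1
  have hmem := (roots_long i hi).1
  rw [hr] at hmem
  rw [h1] at h hyG ⊢
  have hX : X r c ∈ twistedD4 K q := by
    have hv2 := (Subgroup.mem_inf.1 hv).2
    have := (twistedD4 K q).mul_mem ((twistedD4 K q).mul_mem ((twistedD4 K q).inv_mem hv2) hyG) hv2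
    simpa [mul_assoc] using this
  have hcomm : Commute (X r c) (X 23 1) := by
    have h2 := X23_comm (1 : K) hv.1
    have := ((h2.inv_left).mul_left h).mul_left h2
    simpa [mul_assoc] using this
  obtain ⟨b, a, c', d, e, z, hb, he, hz, rfl⟩ := exists_tn f hf hK hv.1 hv.2
  simp only [List.mem_cons, List.not_mem_nil, or_false] at hmem
  rcases hmem with rfl | rfl | rfl | hneg
  · rw [X23_tn f] at hX ⊢
    refine Or.inl ⟨0, c, map_zero f, (fix_of_tn_mem f hf hK hX).2.2, ?_⟩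
    rw [← X23_tn f, U_comm (tn_mem_U f b a c' d e z)]
  · rw [X22_tn f] at hX
    obtain ⟨-, hcf, -⟩ := fix_of_tn_mem f hf hK hX
    obtain ⟨z', hz', hP⟩ := conj_E f hf hK hb he hz hcf (a := a) (c := c') (d := d)
    exact Or.inl ⟨c, z', hcf, hz', hP⟩
  · rw [X14_tn f] at hX
    obtain ⟨hcf, -, -⟩ := fix_of_tn_mem f hf hK hX
    obtain ⟨z', hz', hP⟩ := conj_B f hf hK hb he hz hcf (a := a) (c := c') (d := d)
    exact Or.inr ⟨a, c, z', hc, hcf, hz', hP⟩
  · exact absurd (excluded hneg hcomm) hc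

theorem long_rad {g : GL chevD4.Idx K} (hg : g ∈ twistedD4 K q)
    (h : Commute (g * X 23 1 * g⁻¹) (X 23 1)) :
    ∃ b c d e z, g * X 23 1 * g⁻¹ = tn f b 0 c d e z := by
  rcases long_form f hf hK hg h with ⟨e, z, -, -, h'⟩ | ⟨s, b, z, -, hb, hz, h'⟩
  · exact ⟨0, 0, 0, e, z, h'⟩
  · obtain ⟨z', hz'⟩ := A_conj f hf hK s b z hb hz
    exact ⟨_, _, _, _, _, h'.trans hz'⟩

theorem rad_comm {b c d e z b' c' d' e' z' : K} (hx : tn f b 0 c d e z ∈ twistedD4 K q)
    (hy : tn f b' 0 c' d' e' z' ∈ twistedD4 K q) :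
    ∃ k, f k = k ∧ (tn f b' 0 c' d' e' z' * tn f b 0 c d e z)⁻¹ *
      (tn f b 0 c d e z * tn f b' 0 c' d' e' z') = X 23 k := by
  have hU := fun b c d e z => tn_mem_U f (b : K) 0 c d e z
  obtain ⟨B, A, C, D, E, Z, -, -, hZ, hP⟩ := exists_tn f hf hK
    (mul_mem (inv_mem (mul_mem (hU b' c' d' e' z') (hU b c d e z)))
      (mul_mem (hU b c d e z) (hU b' c' d' e' z')))
    (mul_mem (inv_mem (mul_mem hy hx)) (mul_mem hx hy))
  refine ⟨Z, hZ, hP.trans ?_⟩
  have h := eq_mul_of_inv_mul_eq hP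
  simp only [tn, map_zero, neg_zero, nf_mul] at h
  obtain ⟨h1, h2, -, -, h5, -, -, h8, -, -, h11, -⟩ := nf_inj h
  have hB : B = 0 := by linear_combination -h1
  subst hB
  have hA : A = 0 := by linear_combination -h2
  subst hA
  have hC : C = 0 := by linear_combination -h5
  subst hC
  simp only [map_zero] at h8 h11
  have hD : D = 0 := by linear_combination -h8
  subst hD
  have hE : E = 0 := by linear_combination -h11
  subst hE
  rw [X23_tn f]

theorem gtu_elt {t u k : K} (hu : f u = u) (hk : f k = k) :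
    ∃ d e z, gtu f t u * X 23 k * (gtu f t u)⁻¹ = tn f (-k) 0 (t * k) d e z := by
  obtain ⟨z', hz'⟩ := A_conj f hf hK t (-k) (k * u) (by rw [map_neg, hk]) (by rw [map_mul, hk, hu])
  rw [gtu_conj, hz', mul_neg, neg_neg]
  exact ⟨_, _, _, rfl⟩

theorem gtu_not_sub {t u k : K} (ht : f t ≠ t) (hu : f u = u) (hk : f k = k)
    (h : gtu f t u * X 23 k * (gtu f t u)⁻¹ ∈ sub f q) : k = 0 := by
  obtain ⟨d, e, z, he⟩ := gtu_elt f hf hK hu hk (t := t)
  rw [he] at h
  obtain ⟨-, -, hc, -⟩ := (tn_mem_sub_iff f hf hK).1 h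
  rw [map_mul, hk] at hc
  by_contra hne
  exact ht (mul_right_cancel₀ hne hc)

/-- A subfield point next to a neighbour of the base point is the base point. -/
theorem base_of_commute {m : GL chevD4.Idx K} (hm : m ∈ sub f q) {t u : K} (ht : f t ≠ t)
    (hu : f u = u) (h1 : Commute (m * X 23 1 * m⁻¹) (X 23 1))
    (h2 : Commute (m * X 23 1 * m⁻¹) (gtu f t u * X 23 1 * (gtu f t u)⁻¹)) : m ∈ stab f := by
  have hmG := ((mem_sub f).1 hm).1
  have hy : m * X 23 1 * m⁻¹ ∈ sub f q :=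
    mul_mem (mul_mem hm (X23_mem f hf hK (map_one f))) (inv_mem hm)
  rcases long_form f hf hK hmG h1 with ⟨e, z, he, hz, hy'⟩ | ⟨s, b, z, hb0, hb, hz, hy'⟩
  · obtain ⟨d', e', z', hy2⟩ := gtu_elt f hf hK hu (map_one f) (t := t)
    rw [hy', hy2] at h2
    have h := h2.eq
    simp only [tn, map_zero, neg_zero, mul_one, nf_mul] at h
    obtain ⟨-, -, -, -, -, -, -, -, -, -, -, h12⟩ := nf_inj h
    obtain rfl : e = 0 := by linear_combination h12
    rw [← X23_tn f] at hy'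
    exact (stab_of_conj f hf hK hmG hy').1
  · exfalso
    obtain ⟨z₁, hz₁⟩ := A_conj f hf hK s b z hb hz
    rw [hy', hz₁] at hy
    obtain ⟨-, -, hc, -⟩ := (tn_mem_sub_iff f hf hK).1 hy
    rw [map_neg, map_mul, hb, neg_inj] at hc
    have hs : f s = s := mul_right_cancel₀ hb0 hc
    obtain ⟨z₂, hz₂⟩ := A_conj f hf hK (t - s) (-1) (1 * u) (by rw [map_neg, map_one])
      (by rw [one_mul, hu])
    rw [hy', gtu_conj] at h2
    have e1 : tn f 0 t 0 0 0 0 = tn f 0 s 0 0 0 0 * tn f 0 (t - s) 0 0 0 0 := by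
      simp only [tn, map_zero, map_sub, neg_zero, nf_mul]
      refine nf_congr ?_ ?_ ?_ ?_ ?_ ?_ ?_ ?_ ?_ ?_ ?_ ?_
      all_goals ring1
    have h3' : Commute (tn f b 0 0 0 0 z)
        (tn f 0 (t - s) 0 0 0 0 * tn f (-1) 0 0 0 0 (1 * u) * (tn f 0 (t - s) 0 0 0 0)⁻¹) := by
      have := h2.eq
      rw [e1] at this
      refine mul_left_cancel (a := tn f 0 s 0 0 0 0) (mul_right_cancel (b := (tn f 0 s 0 0 0 0)⁻¹) ?_)
      calc _ = tn f 0 s 0 0 0 0 * tn f b 0 0 0 0 z * (tn f 0 s 0 0 0 0)⁻¹ *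
            (tn f 0 s 0 0 0 0 * tn f 0 (t - s) 0 0 0 0 * tn f (-1) 0 0 0 0 (1 * u) *
              (tn f 0 s 0 0 0 0 * tn f 0 (t - s) 0 0 0 0)⁻¹) := by group
        _ = _ := this
        _ = _ := by group
    rw [hz₂] at h3'
    have h := h3'.eq
    simp only [tn, map_zero, neg_zero, nf_mul] at h
    obtain ⟨-, -, -, -, -, -, -, -, -, -, -, h12⟩ := nf_inj h
    have hN : b * ((t - s) * f (t - s) * f (f (t - s))) = 0 := by linear_combination h12
    rcases mul_eq_zero.1 ((mul_eq_zero.1 hN).resolve_left hb0) with h | h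
    · rcases mul_eq_zero.1 h with h | h
      · exact ht (by rw [sub_eq_zero.1 h]; exact hs)
      · rw [map_eq_zero, sub_eq_zero] at h
        exact ht (by rw [h]; exact hs)
    · rw [map_eq_zero, map_eq_zero, sub_eq_zero] at h
      exact ht (by rw [h]; exact hs)

/-- Two neighbours with the same point agree. -/
theorem neighbour_inj {m : GL chevD4.Idx K} (hm : m ∈ sub f q) {t u t' u' : K} (ht : f t ≠ t)
    (hu : f u = u) (hu' : f u' = u') (he : Pt f (gtu f t u) = Pt f (m * gtu f t' u')) :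
    m ∈ stab f := by
  have hmG := ((mem_sub f).1 hm).1
  set g := gtu f t u
  set g' := gtu f t' u'
  have hgG : g ∈ twistedD4 K q := gtu_mem f hf hK hu
  have hgU : ∀ k, f k = k → g * X 23 k * g⁻¹ ∈ chevD4.posUnipotent K := fun k hk => by
    obtain ⟨d, e, z, h⟩ := gtu_elt f hf hK hu hk (t := t)
    rw [h]; exact tn_mem_U f _ _ _ _ _ _
  set y := m * X 23 1 * m⁻¹
  have hy : y ∈ sub f q := mul_mem (mul_mem hm (X23_mem f hf hK (map_one f))) (inv_mem hm)
  -- everything in the neighbour commutes with both subfield elements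
  have hcy : ∀ k, f k = k → Commute y (g * X 23 k * g⁻¹) := by
    intro k hk
    obtain ⟨j, hj, e⟩ : g * X 23 k * g⁻¹ ∈ Pt f (m * g') := he ▸ ⟨k, hk, rfl⟩
    obtain ⟨d, e', z, h⟩ := gtu_elt f hf hK hu' hj (t := t')
    have hc := X23_comm (1 : K) (tn_mem_U f (-j) 0 (t' * j) d e' z)
    rw [← h] at hc
    rw [e, show m * g' * X 23 j * (m * g')⁻¹ = m * (g' * X 23 j * g'⁻¹) * m⁻¹ by group]
    exact (Commute.conj_iff m).2 hc.symm
  have hcz : ∀ k, f k = k → Commute (X 23 1) (g * X 23 k * g⁻¹) := fun k hk =>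
    (X23_comm 1 (hgU k hk)).symm
  have hbase : ∀ x, Commute x (g * X 23 1 * g⁻¹) → Commute (g⁻¹ * x * g) (X 23 1) := by
    intro x hx
    have := (Commute.conj_iff g⁻¹).2 hx
    simpa [mul_assoc] using this
  have hy1 : g⁻¹ * y * g = g⁻¹ * m * X 23 1 * (g⁻¹ * m)⁻¹ := by simp only [y]; group
  have hz1 : g⁻¹ * X 23 1 * g = g⁻¹ * X 23 1 * g⁻¹⁻¹ := by rw [inv_inv]
  obtain ⟨b₁, c₁, d₁, e₁, z₁, hr1⟩ := long_rad f hf hK (mul_mem (inv_mem hgG) hmG)
    (hy1 ▸ hbase y (hcy 1 (map_one f)))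
  obtain ⟨b₂, c₂, d₂, e₂, z₂, hr2⟩ := long_rad f hf hK (inv_mem hgG)
    (hz1 ▸ hbase _ (hcz 1 (map_one f)))
  rw [← hy1] at hr1
  rw [← hz1] at hr2
  have hG1 : g⁻¹ * y * g ∈ twistedD4 K q :=
    mul_mem (mul_mem (inv_mem hgG) ((mem_sub f).1 hy).1) hgG
  have hG2 : g⁻¹ * X 23 1 * g ∈ twistedD4 K q :=
    mul_mem (mul_mem (inv_mem hgG) ((mem_sub f).1 (X23_mem f hf hK (map_one f))).1) hgG
  obtain ⟨k, hk, hcomm⟩ := rad_comm f hf hK (hr1 ▸ hG1) (hr2 ▸ hG2)
  rw [← hr1, ← hr2] at hcomm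
  have hk0 : k = 0 := by
    refine gtu_not_sub f hf hK ht hu hk ?_
    change g * X 23 k * g⁻¹ ∈ sub f q
    rw [← hcomm, show g * ((g⁻¹ * X 23 1 * g * (g⁻¹ * y * g))⁻¹ *
      (g⁻¹ * y * g * (g⁻¹ * X 23 1 * g))) * g⁻¹ = (X 23 1 * y)⁻¹ * (y * X 23 1) by group]
    exact mul_mem (inv_mem (mul_mem (X23_mem f hf hK (map_one f)) hy))
      (mul_mem hy (X23_mem f hf hK (map_one f)))
  rw [hk0, X_zero] at hcomm
  have h1 : Commute y (X 23 1) := by
    have e := inv_mul_eq_one.1 hcomm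
    have := congrArg (fun x => g * x * g⁻¹) e
    simp only [mul_assoc, mul_inv_cancel_left, mul_inv_cancel, mul_one] at this
    exact this.symm
  exact base_of_commute f hf hK hm ht hu h1 (hcy 1 (map_one f))

/-- Every point is one of the subfield or a neighbour of one of those. -/
theorem points_cover {h : GL chevD4.Idx K} (hh : h ∈ twistedD4 K q) :
    ∃ m ∈ sub f q, Pt f h = Pt f m ∨
      ∃ t u, f t ≠ t ∧ f u = u ∧ Pt f h = Pt f (m * gtu f t u) := by
  classical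
  let P := ↥(Pt f '' (twistedD4 K q : Set (GL chevD4.Idx K)))
  let D := ↥(Pt f '' (sub f q : Set (GL chevD4.Idx K)))
  let T := {x : K // ¬ f x = x}
  let L := {x : K // f x = x}
  choose rep hrep hrep' using fun d : D => d.2
  have hsG : ∀ d : D, rep d ∈ twistedD4 K q := fun d => ((mem_sub f).1 (hrep d)).1
  let F : D × Option (T × L) → P := fun p => match p.2 with
    | none => ⟨p.1.1, rep p.1, hsG p.1, hrep' p.1⟩
    | some tu => ⟨Pt f (rep p.1 * gtu f tu.1.1 tu.2.1), _,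
        mul_mem (hsG p.1) (gtu_mem f hf hK tu.2.2), rfl⟩
  have hdis : ∀ (d d' : D) (t : T) (u : L), Pt f (rep d * gtu f t.1 u.1) ≠ d'.1 := by
    intro d d' t u e
    obtain ⟨k, hk, e'⟩ : rep d * gtu f t.1 u.1 * X 23 1 * (rep d * gtu f t.1 u.1)⁻¹ ∈
        Pt f (rep d') := by
      rw [hrep', ← e]; exact ⟨1, map_one f, rfl⟩
    refine one_ne_zero (gtu_not_sub f hf hK t.2 u.2 (map_one f) ?_)
    rw [show gtu f t.1 u.1 * X 23 1 * (gtu f t.1 u.1)⁻¹ = (rep d)⁻¹ *
      (rep d * gtu f t.1 u.1 * X 23 1 * (rep d * gtu f t.1 u.1)⁻¹) * rep d by group, e']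
    exact mul_mem (mul_mem (inv_mem (hrep d))
      (mul_mem (mul_mem (hrep d') (X23_mem f hf hK hk)) (inv_mem (hrep d')))) (hrep d)
  have hinj : Function.Injective F := by
    rintro ⟨d, - | ⟨t, u⟩⟩ ⟨d', - | ⟨t', u'⟩⟩ e <;> have e' := congrArg Subtype.val e
    · exact congrArg (fun x => (x, none)) (Subtype.ext e')
    · exact absurd e'.symm (hdis d' d t' u')
    · exact absurd e' (hdis d d' t u)
    · change Pt f (rep d * gtu f t.1 u.1) = Pt f (rep d' * gtu f t'.1 u'.1) at e'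
      have he : Pt f (gtu f t.1 u.1) = Pt f ((rep d)⁻¹ * rep d' * gtu f t'.1 u'.1) := by
        rw [mul_assoc, Pt_mul f (rep d)⁻¹, ← e', ← Pt_mul, inv_mul_cancel_left]
      have hs := neighbour_inj f hf hK (mul_mem (inv_mem (hrep d)) (hrep d')) t.2 u.2 u'.2 he
      obtain rfl : d = d' := Subtype.ext (by rw [← hrep', ← hrep']; exact ((Pt_eq_iff f).2 hs).symm)
      rw [inv_mul_cancel, one_mul] at he
      obtain ⟨k, hk, hk'⟩ : gtu f t.1 u.1 * X 23 1 * (gtu f t.1 u.1)⁻¹ ∈ Pt f (gtu f t'.1 u'.1) :=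
        he ▸ ⟨1, map_one f, rfl⟩
      have h' := hk'
      obtain ⟨d₁, e₁, z₁, h1⟩ := gtu_elt f hf hK u.2 (map_one f) (t := t.1)
      obtain ⟨d₂, e₂, z₂, h2⟩ := gtu_elt f hf hK u'.2 hk (t := t'.1)
      rw [h1, h2] at h'
      obtain ⟨qb, -, qc, -⟩ := tn_inj f h'
      obtain rfl : (1 : K) = k := neg_inj.1 qb
      have qt : t = t' := Subtype.ext (by simpa using qc)
      subst qt
      rw [gtu_conj, gtu_conj, mul_left_inj, mul_right_inj] at hk'
      obtain ⟨-, -, -, -, -, qz⟩ := tn_inj f hk'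
      rw [Subtype.ext (show u.1 = u'.1 by simpa using qz)]
  have hN := card_orbit f (twistedD4 K q)
  have hM := card_orbit f (sub f q)
  rw [D4.card_group f hf hK] at hN
  have h1 := card_stab_ge f hf hK
  have h2 := card_sub_stab_le f hf hK
  have h3' := card_sub_ge f hf hK
  have hcard : Nat.card P ≤ Nat.card (D × Option (T × L)) := by
    have hT : Nat.card T + q = q ^ 3 := by
      have hsum := Nat.card_congr (Equiv.sumCompl fun x : K => f x = x)
      rw [Nat.card_sum, card_fixed f hf hK, Nat.card_eq_fintype_card (α := K), hK] at hsum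
      change q + Nat.card T = _ at hsum
      omega
    rw [Nat.card_prod, Finite.card_option, Nat.card_prod, show Nat.card L = q from card_fixed f hf hK]
    exact count_arith (D4.one_lt_q f hf hK) h1 h2 h3' hN hM hT
  have hbij : Function.Bijective F := (Nat.bijective_iff_injective_and_card F).2
    ⟨hinj, le_antisymm (Nat.card_le_card_of_injective F hinj) hcard⟩
  obtain ⟨⟨d, o⟩, e⟩ := hbij.2 ⟨Pt f h, h, hh, rfl⟩
  have e' := (congrArg Subtype.val e).symm
  refine ⟨rep d, hrep d, ?_⟩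
  rcases o with - | ⟨t, u⟩
  · exact Or.inl (e'.trans (hrep' d).symm)
  · exact Or.inr ⟨t.1, u.1, t.2, u.2, e'⟩

theorem sub_ne_top : sub f q ≠ twistedD4 K q := by
  obtain ⟨t, ht⟩ := exists_not_fixed f hf hK
  intro e
  exact ht ((tn_mem_sub_iff f hf hK).1 (e ▸ A_mem f hf hK t)).2.1

/-- The subfield points form a maximal subgroup. -/
theorem maximal {H : Subgroup (GL chevD4.Idx K)} (hM : sub f q ≤ H) (hH : H ≤ twistedD4 K q) :
    H = sub f q ∨ H = twistedD4 K q := by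
  by_cases hne : H = twistedD4 K q
  · exact Or.inr hne
  refine Or.inl (le_antisymm (fun h hh => ?_) hM)
  have hlow : ∀ {b c d e z : K}, tn f b 0 c d e z ∈ H → f c = c := fun {b c d e z} hx =>
    by_contra fun hc => hne (eq_top_of_low f hf hK hM hH hc hx)
  have hAfix : ∀ {u : K}, tn f 0 u 0 0 0 0 ∈ H → f u = u := fun {u} hx =>
    by_contra fun hc => hne (eq_top_of_A f hf hK hM hH hc hx)
  -- the first short coordinate of a Borel element is in the subfield
  have hfst : ∀ {b a c d e z : K} (w : ℕ → Kˣ),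
      tn f b a c d e z * certFullD4.torus w ∈ H → f a = a := by
    intro b a c d e z w hx
    have hxG := hH hx
    have hw : certFullD4.torus w ∈ twistedD4 K q ∧ f b = b ∧ f e = e ∧ f z = z := by
      have hxf : tn f b a c d e z * certFullD4.torus w ∈ chevD4.borelSubgroup K ⊓ (D4.tw f).fix :=
        ⟨mul_mem (Subgroup.mem_sup_left (tn_mem_U f b a c d e z))
          (certFullD4.H_le_B (certFullD4.torus_mem w)), (datum_fix f hf hK).ge hxG⟩
      obtain ⟨u', hu', a', ha', e'⟩ := (D4.tw f).borel_fix hxf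
      have h1 : u'⁻¹ * tn f b a c d e z = a' * (certFullD4.torus w)⁻¹ := by
        calc u'⁻¹ * tn f b a c d e z =
            u'⁻¹ * (tn f b a c d e z * certFullD4.torus w) * (certFullD4.torus w)⁻¹ := by group
          _ = _ := by rw [e']; group
      have h2 := certFullD4.U_inf_H.le (Subgroup.mem_inf.2
        ⟨mul_mem (inv_mem hu'.1) (tn_mem_U f b a c d e z),
          h1 ▸ mul_mem ha'.1 (inv_mem (certFullD4.torus_mem w))⟩)
      rw [Subgroup.mem_bot] at h2
      have h3' := inv_mul_eq_one.1 h2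
      rw [h1, mul_inv_eq_one] at h2
      refine ⟨h2 ▸ (datum_fix f hf hK).le ha'.2, ?_⟩
      exact fix_of_tn_mem f hf hK (h3' ▸ (datum_fix f hf hK).le hu'.2)
    obtain ⟨hwG, hb, he, hz⟩ := hw
    obtain ⟨h14, -, -⟩ := torus_fix_chars f hf hK hwG
    obtain ⟨z', hz', hP⟩ := conj_B f hf hK hb he hz h14 (a := a) (c := c) (d := d)
    obtain ⟨z'', hz''⟩ := A_conj f hf hK a (certFullD4.tchar w 14 : K) z' h14 hz'
    have hB : tn f 1 0 0 0 0 0 ∈ H := hM ((tn_mem_sub_iff f hf hK).2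
      ⟨map_one f, map_zero f, map_zero f, map_zero f, map_zero f, map_zero f⟩)
    have h4 := mul_mem (mul_mem hx hB) (inv_mem hx)
    rw [← X14_tn f, show tn f b a c d e z * certFullD4.torus w * X 14 1 *
      (tn f b a c d e z * certFullD4.torus w)⁻¹ = tn f b a c d e z *
      (certFullD4.torus w * X 14 1 * (certFullD4.torus w)⁻¹) * (tn f b a c d e z)⁻¹ by group, X,
      certFullD4.torus_conj_xg w (show 14 < chevD4.nroots by decide), mul_one] at h4
    change tn f b a c d e z * X 14 _ * _ ∈ H at h4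
    rw [hP, hz''] at h4
    have h5 := hlow h4
    rw [map_neg, map_mul, h14, neg_inj] at h5
    exact mul_right_cancel₀ (Units.ne_zero _) h5
  -- the second short coordinate
  have hsnd : ∀ {c d e z : K} (w : ℕ → Kˣ),
      tn f 0 0 c d e z * certFullD4.torus w ∈ H → f c = c := by
    intro c d e z w hx
    have hn := hM (n1_mem f hf hK)
    have h1 := mul_mem (mul_mem hn hx) (inv_mem hn)
    have h2 : n1 K * certFullD4.torus w * (n1 K)⁻¹ ∈ chevD4.diagonalSubgroup K :=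
      certFullD4.N_conj_H (certFullD4.nw_mem_N (by simp [D4.simple_values.2.2.2.2.1]))
        (certFullD4.torus_mem w)
    obtain ⟨w', hw'⟩ := certFullD4.diagonalSubgroup_eq.le h2
    rw [show n1 K * (tn f 0 0 c d e z * certFullD4.torus w) * (n1 K)⁻¹ =
      (n1 K * tn f 0 0 c d e z * (n1 K)⁻¹) * (n1 K * certFullD4.torus w * (n1 K)⁻¹) by group,
      n1_low, ← hw'] at h1
    have h3' := hfst w' h1
    rwa [map_neg, neg_inj] at h3'
  have hborel : ∀ bb ∈ chevD4.borelSubgroup K, bb ∈ H → bb ∈ sub f q := by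
    intro bb hbb hbH
    have hbf : bb ∈ chevD4.borelSubgroup K ⊓ (D4.tw f).fix :=
      ⟨hbb, (datum_fix f hf hK).ge (hH hbH)⟩
    obtain ⟨v, hv, t, ht, rfl⟩ := (D4.tw f).borel_fix hbf
    obtain ⟨w, rfl⟩ := certFullD4.diagonalSubgroup_eq.le ht.1
    obtain ⟨b, a, c, d, e, z, hb, he, hz, rfl⟩ :=
      exists_tn f hf hK hv.1 ((datum_fix f hf hK).le hv.2)
    have ha := hfst w hbH
    have hBs : tn f b 0 0 0 0 0 ∈ sub f q := (tn_mem_sub_iff f hf hK).2
      ⟨hb, map_zero f, map_zero f, map_zero f, map_zero f, map_zero f⟩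
    have hAs : tn f 0 a 0 0 0 0 ∈ sub f q := (tn_mem_sub_iff f hf hK).2
      ⟨map_zero f, ha, map_zero f, map_zero f, map_zero f, map_zero f⟩
    have hEs : tn f 0 0 0 0 e z ∈ sub f q := (tn_mem_sub_iff f hf hK).2
      ⟨map_zero f, map_zero f, map_zero f, map_zero f, he, hz⟩
    have hsplit : tn f b 0 0 0 0 0 * tn f 0 a 0 0 0 0 * tn f 0 0 c d e z = tn f b a c d e z := by
      simp only [tn, map_zero, neg_zero, nf_mul]
      refine nf_congr ?_ ?_ ?_ ?_ ?_ ?_ ?_ ?_ ?_ ?_ ?_ ?_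
      all_goals ring1
    have h1 : tn f 0 0 c d e z * certFullD4.torus w ∈ H := by
      rw [← hsplit, mul_assoc (tn f b 0 0 0 0 0 * tn f 0 a 0 0 0 0)] at hbH
      exact (Subgroup.mul_mem_cancel_left H (mul_mem (hM hBs) (hM hAs))).1 hbH
    have hc := hsnd w h1
    have hCs : tn f 0 0 c 0 0 0 ∈ sub f q := (tn_mem_sub_iff f hf hK).2
      ⟨map_zero f, map_zero f, hc, map_zero f, map_zero f, map_zero f⟩
    have hsplit2 : tn f 0 0 c 0 0 0 * tn f 0 0 0 0 e z * tn f 0 0 0 d 0 0 = tn f 0 0 c d e z := by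
      simp only [tn, map_zero, neg_zero, nf_mul]
      refine nf_congr ?_ ?_ ?_ ?_ ?_ ?_ ?_ ?_ ?_ ?_ ?_ ?_
      all_goals ring1
    have h2 : tn f 0 0 0 d 0 0 * certFullD4.torus w ∈ H := by
      rw [← hsplit2, mul_assoc (tn f 0 0 c 0 0 0 * tn f 0 0 0 0 e z)] at h1
      exact (Subgroup.mul_mem_cancel_left H (mul_mem (hM hCs) (hM hEs))).1 h1
    have hd : f d = d := by
      have hn := hM (n3_mem f hf hK)
      have h3' := mul_mem (mul_mem hn h2) (inv_mem hn)
      obtain ⟨w', hw'⟩ := certFullD4.diagonalSubgroup_eq.le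
        (certFullD4.N_conj_H (certFullD4.nw_mem_N (L := [0, 2, 3])
          (by simp [D4.simple_values.2.2.2.2.1])) (certFullD4.torus_mem w))
      rw [show n3 K * (tn f 0 0 0 d 0 0 * certFullD4.torus w) * (n3 K)⁻¹ =
        (n3 K * tn f 0 0 0 d 0 0 * (n3 K)⁻¹) * (n3 K * certFullD4.torus w * (n3 K)⁻¹) by group,
        n3_D, show n3 K * certFullD4.torus w * (n3 K)⁻¹ = certFullD4.torus w' from hw'.symm] at h3'
      have := hsnd w' h3'
      rwa [map_neg, neg_inj] at this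
    have hDs : tn f 0 0 0 d 0 0 ∈ sub f q := (tn_mem_sub_iff f hf hK).2
      ⟨map_zero f, map_zero f, map_zero f, hd, map_zero f, map_zero f⟩
    have h3' : certFullD4.torus w ∈ H := (Subgroup.mul_mem_cancel_left H (hM hDs)).1 h2
    have hwG := hH h3'
    obtain ⟨-, h13, h12⟩ := torus_fix_chars f hf hK hwG
    have hA1 : tn f 0 1 0 0 0 0 ∈ H := A_fixed f hf hK hM (map_one f)
    have h4 := mul_mem (mul_mem h3' hA1) (inv_mem h3')
    rw [tn, torus_tn, h13, h12] at h4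
    simp only [map_one, map_zero, neg_zero, mul_zero, mul_one] at h4
    have h18 : f (certFullD4.tchar w 18 : K) = certFullD4.tchar w 18 := by
      refine hAfix ?_
      simpa only [tn, map_zero, neg_zero] using h4
    rw [← hsplit, ← hsplit2]
    exact mul_mem (mul_mem (mul_mem hBs hAs) (mul_mem (mul_mem hCs hEs) hDs))
      (torus_mem_sub f hf hK hwG h18)
  obtain ⟨m, hm, hcase⟩ := points_cover f hf hK (hH hh)
  rcases hcase with hs | ⟨t, u, ht, hu, hs⟩
  swap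
  · exfalso
    obtain ⟨k, hk, he⟩ : h * X 23 1 * h⁻¹ ∈ Pt f (m * gtu f t u) := hs ▸ ⟨1, map_one f, rfl⟩
    have hk0 : k ≠ 0 := by
      rintro rfl
      rw [X_zero, mul_one, mul_inv_cancel, conj_eq_one_iff, X23_tn f, ← tn_zero f] at he
      exact one_ne_zero (tn_inj f he).2.2.2.2.2
    have hX := hM (X23_mem f hf hK (map_one f))
    have h1 : gtu f t u * X 23 k * (gtu f t u)⁻¹ ∈ H := by
      rw [show gtu f t u * X 23 k * (gtu f t u)⁻¹ = m⁻¹ * (h * X 23 1 * h⁻¹) * m by rw [he]; group]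
      exact mul_mem (mul_mem (inv_mem (hM hm)) (mul_mem (mul_mem hh hX) (inv_mem hh))) (hM hm)
    obtain ⟨d, e, z, h2⟩ := gtu_elt f hf hK hu hk (t := t)
    rw [h2] at h1
    have h3' := hlow h1
    rw [map_mul, hk] at h3'
    exact ht (mul_right_cancel₀ hk0 h3')
  set s := m⁻¹ * h
  have hsH : s ∈ H := mul_mem (inv_mem (hM hm)) hh
  have hsst : s ∈ stab f := (Pt_eq_iff f).1 hs
  suffices hsM : s ∈ sub f q by
    have := mul_mem hm hsM
    rwa [mul_inv_cancel_left] at this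
  obtain ⟨k, -, hk⟩ : s * X 23 1 * s⁻¹ ∈ Pt f 1 := by
    rw [← (mem_stab f).1 hsst]; exact ⟨1, map_one f, rfl⟩
  rw [one_mul, inv_one, mul_one] at hk
  obtain ⟨-, bb, hbb, hcase | ⟨a, hcase⟩⟩ := stab_of_conj f hf hK (hH hsH) hk
  · rw [hcase] at hsH ⊢
    exact hborel bb hbb.1 hsH
  rw [hcase] at hsH ⊢
  have hbb' : bb⁻¹ ∈ chevD4.borelSubgroup K ⊓ (D4.tw f).fix :=
    inv_mem ⟨hbb.1, (datum_fix f hf hK).ge hbb.2⟩
  obtain ⟨v, hv, tt, htt, e⟩ := (D4.tw f).borel_fix hbb'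
  obtain ⟨w, rfl⟩ := certFullD4.diagonalSubgroup_eq.le htt.1
  obtain ⟨b', a', c', d', e', z', hb', he', hz', rfl⟩ :=
    exists_tn f hf hK hv.1 ((datum_fix f hf hK).le hv.2)
  set χ : K := (certFullD4.tchar w 22 : K)
  have hχ : f χ = χ := by
    have h1 : certFullD4.torus w * X 22 1 * (certFullD4.torus w)⁻¹ ∈ twistedD4 K q :=
      mul_mem (mul_mem ((datum_fix f hf hK).le htt.2)
        (by rw [X22_tn f]; exact tn_mem f hf hK (map_zero f) (map_one f) (map_zero f)))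
        (inv_mem ((datum_fix f hf hK).le htt.2))
    rw [X, certFullD4.torus_conj_xg w (show 22 < chevD4.nroots by decide), mul_one] at h1
    change X 22 χ ∈ twistedD4 K q at h1
    rw [X22_tn f] at h1
    exact (fix_of_tn_mem f hf hK h1).2.1
  obtain ⟨z₁, hz₁, hP⟩ := conj_E f hf hK hb' he' hz' hχ (a := a') (c := c') (d := d')
  obtain ⟨z₂, hz₂⟩ := A_conj f hf hK (-a) (-χ) z₁ (by rw [map_neg, hχ]) hz₁
  have hE : X 22 (1 : K) ∈ H := by
    rw [X22_tn f]; exact EZ_mem f hf hK hM (map_one f) (map_zero f)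
  have hn := hM (n3_mem f hf hK)
  have h1 := mul_mem (mul_mem (inv_mem hsH) hE) hsH
  have e1 : (n3 K)⁻¹ * (bb⁻¹ * X 22 1 * bb⁻¹⁻¹) * n3 K = tn f (-χ) 0 0 0 0 z₁ := by
    rw [e, show ∀ v t : GL chevD4.Idx K, v * t * X 22 1 * (v * t)⁻¹ = v * (t * X 22 1 * t⁻¹) * v⁻¹
      from fun v t => by group, X, certFullD4.torus_conj_xg w (show 22 < chevD4.nroots by decide),
      mul_one]
    change (n3 K)⁻¹ * (_ * X 22 χ * _) * n3 K = _
    rw [hP, show tn f 0 0 0 0 χ z₁ = tn f 0 0 0 0 (- -χ) z₁ by rw [neg_neg], ← n3_B]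
    group
  have hAinv : (tn f 0 a 0 0 0 0)⁻¹ = tn f 0 (-a) 0 0 0 0 := by
    rw [inv_eq_iff_mul_eq_one, ← tn_zero f]
    simp only [tn, map_zero, map_neg, neg_zero, nf_mul]
    refine nf_congr ?_ ?_ ?_ ?_ ?_ ?_ ?_ ?_ ?_ ?_ ?_ ?_
    all_goals ring1
  rw [show (bb * n3 K * tn f 0 a 0 0 0 0)⁻¹ * X 22 1 * (bb * n3 K * tn f 0 a 0 0 0 0) =
    (tn f 0 a 0 0 0 0)⁻¹ * ((n3 K)⁻¹ * (bb⁻¹ * X 22 1 * bb⁻¹⁻¹) * n3 K) *
      (tn f 0 a 0 0 0 0)⁻¹⁻¹ by group, e1, hAinv, hz₂] at h1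
  have ha : f a = a := by
    have h2 := hlow h1
    rw [map_neg, map_mul, map_neg, map_neg, hχ, neg_inj] at h2
    exact neg_inj.1 (mul_right_cancel₀ (neg_ne_zero.2 (Units.ne_zero _)) h2)
  have hAs : tn f 0 a 0 0 0 0 ∈ sub f q := (tn_mem_sub_iff f hf hK).2
    ⟨map_zero f, ha, map_zero f, map_zero f, map_zero f, map_zero f⟩
  refine mul_mem (mul_mem (hborel bb hbb.1 ?_) (n3_mem f hf hK)) hAs
  exact (Subgroup.mul_mem_cancel_right H hn).1 ((Subgroup.mul_mem_cancel_right H (hM hAs)).1 hsH)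

end Cfsg.Agent.Lie.Chev.D4Sub
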