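import Cfsg.Agent.Lib.Lie.Chev.D4SubfieldGen
import Cfsg.Agent.Lib.Lie.Chev.D4Torus
import Cfsg.Agent.Lib.Lie.Chev.FoldG2
import Cfsg.Agent.Lib.Lie.Chev.OrderG2

/-! The long root groups of ³D₄(q) as points: their stabiliser, their number, and the neighbours
of the points of the subfield. -/

set_option autoImplicit false
set_option maxRecDepth 20000

namespace Cfsg.Agent.Lie.Chev.D4Sub

open Cfsg.Lie

variable {K : Type*} [Field K] (f : K →+* K)

/-- The long root group attached to an element. -/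
def Pt (g : GL chevD4.Idx K) : Set (GL chevD4.Idx K) :=
  {y | ∃ k, f k = k ∧ y = g * X 23 k * g⁻¹}

theorem Pt_mul (g h : GL chevD4.Idx K) : Pt f (g * h) = (MulAut.conj g) '' Pt f h := by
  ext y
  constructor
  · rintro ⟨k, hk, rfl⟩
    exact ⟨h * X 23 k * h⁻¹, ⟨k, hk, rfl⟩, by simp [mul_assoc]⟩
  · rintro ⟨x, ⟨k, hk, rfl⟩, rfl⟩
    exact ⟨k, hk, by simp [mul_assoc]⟩

/-- The elements fixing the base point. -/
def stab : Subgroup (GL chevD4.Idx K) where
  carrier := {g | Pt f g = Pt f 1}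
  one_mem' := rfl
  mul_mem' := fun {a b} ha hb => by
    show Pt f (a * b) = Pt f 1
    rw [Pt_mul, show Pt f b = Pt f 1 from hb, ← Pt_mul, mul_one]
    exact ha
  inv_mem' := fun {a} ha => by
    show Pt f a⁻¹ = Pt f 1
    conv_lhs => rw [← mul_one a⁻¹, Pt_mul, ← show Pt f a = Pt f 1 from ha, ← Pt_mul, inv_mul_cancel]

theorem mem_stab {g : GL chevD4.Idx K} : g ∈ stab f ↔ Pt f g = Pt f 1 := Iff.rfl

theorem Pt_eq_iff {g h : GL chevD4.Idx K} : Pt f g = Pt f h ↔ h⁻¹ * g ∈ stab f := by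
  rw [mem_stab]
  constructor
  · intro e
    rw [Pt_mul, e, ← Pt_mul, inv_mul_cancel]
  · intro e
    rw [show g = h * (h⁻¹ * g) by group, Pt_mul, e, ← Pt_mul, mul_one]

/-- Orbit and stabiliser. -/
theorem card_orbit (G : Subgroup (GL chevD4.Idx K)) [Finite (GL chevD4.Idx K)] :
    Nat.card ↥(Pt f '' (G : Set (GL chevD4.Idx K))) * Nat.card ↥(G ⊓ stab f) = Nat.card G := by
  classical
  have hrep : ∀ d : ↥(Pt f '' (G : Set (GL chevD4.Idx K))), ∃ g ∈ G, Pt f g = d.1 := fun d => by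
    obtain ⟨g, hg, e⟩ := d.2; exact ⟨g, hg, e⟩
  choose rep hrep hrep' using hrep
  rw [← Nat.card_prod]
  refine Nat.card_congr (Equiv.ofBijective (fun x => (⟨rep x.1 * x.2.1,
    mul_mem (hrep _) x.2.2.1⟩ : G)) ⟨fun x y e => ?_, fun g => ?_⟩)
  · have e' := congrArg Subtype.val e
    simp only at e'
    have h1 : x.1 = y.1 := by
      apply Subtype.ext
      rw [← hrep' x.1, ← hrep' y.1]
      have hx : Pt f (rep x.1 * x.2.1) = Pt f (rep x.1) := by
        rw [Pt_mul, show Pt f x.2.1 = Pt f 1 from x.2.2.2, ← Pt_mul, mul_one]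
      have hy : Pt f (rep y.1 * y.2.1) = Pt f (rep y.1) := by
        rw [Pt_mul, show Pt f y.2.1 = Pt f 1 from y.2.2.2, ← Pt_mul, mul_one]
      rw [← hx, e', hy]
    rw [h1] at e'
    exact Prod.ext h1 (Subtype.ext (mul_left_cancel e'))
  · obtain ⟨d, hd⟩ : ∃ d : ↥(Pt f '' (G : Set (GL chevD4.Idx K))), d.1 = Pt f g.1 :=
      ⟨⟨Pt f g.1, g.1, g.2, rfl⟩, rfl⟩
    have hs : (rep d)⁻¹ * g.1 ∈ G ⊓ stab f := Subgroup.mem_inf.2
      ⟨G.mul_mem (G.inv_mem (hrep d)) g.2, (Pt_eq_iff f).1 (by rw [hrep' d, hd])⟩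
    exact ⟨(d, ⟨_, hs⟩), Subtype.ext (by simp)⟩

theorem torus_ext {L : Type*} [Field L] {y z : ℕ → Lˣ}
    (h : ∀ s ∈ [18, 14, 13, 12], certFullD4.tchar y s = certFullD4.tchar z s) :
    certFullD4.torus y = certFullD4.torus z := by
  rw [Cert.torus_apply, Cert.torus_apply]
  refine dg_ext chevD4 L fun s hs => ?_
  rw [certFullD4.tchar_eq_prod _ hs, certFullD4.tchar_eq_prod _ hs]
  refine Finset.prod_congr rfl fun j hj => ?_
  congr 1
  refine h _ ?_
  obtain ⟨s0, s1, s2, s3, -⟩ := D4.simple_values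
  rw [show chevD4.rank = 4 from rfl, Finset.mem_range] at hj
  rcases (show j = 0 ∨ j = 1 ∨ j = 2 ∨ j = 3 by omega) with rfl | rfl | rfl | rfl <;>
    simp [s0, s1, s2, s3]

theorem torus_zOf_simple (s t : Kˣ) (ht : f (t : K) = t) :
    (certFullD4.tchar (D4.zOf f s t) 13 : K) = f (certFullD4.tchar (D4.zOf f s t) 18 : K) ∧
    (certFullD4.tchar (D4.zOf f s t) 12 : K) = f (f (certFullD4.tchar (D4.zOf f s t) 18 : K)) := by
  obtain ⟨a, -, c, d⟩ := D4.tchar_simple (D4.zOf f s t)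
  rw [a, c, d]
  simp [D4.zOf, ht]

variable [Fintype K] {q : ℕ} (hf : ∀ t, f t = t ^ q) (hK : Fintype.card K = q ^ 3)

include hf hK

theorem datum_fix : (D4.tw f).fix = twistedD4 K q := (D4.datum f hf hK).eq_fix.symm

theorem torus_fix_chars {z : ℕ → Kˣ} (h : certFullD4.torus z ∈ twistedD4 K q) :
    f (certFullD4.tchar z 14 : K) = certFullD4.tchar z 14 ∧
    (certFullD4.tchar z 13 : K) = f (certFullD4.tchar z 18 : K) ∧
    (certFullD4.tchar z 12 : K) = f (f (certFullD4.tchar z 18 : K)) := by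
  rw [← datum_fix f hf hK] at h
  refine ⟨?_, ?_⟩
  · have h1 : certFullD4.torus z * X 14 1 * (certFullD4.torus z)⁻¹ ∈ twistedD4 K q := by
      rw [← datum_fix f hf hK]
      refine mul_mem (mul_mem h ?_) (inv_mem h)
      rw [datum_fix f hf hK, X14_tn f]
      exact tn_mem f hf hK (map_one f) (map_zero f) (map_zero f)
    rw [X, certFullD4.torus_conj_xg z (show 14 < chevD4.nroots by decide), mul_one] at h1
    change X 14 _ ∈ twistedD4 K q at h1
    rw [X14_tn f] at h1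
    exact (fix_of_tn_mem f hf hK h1).1
  · obtain ⟨s, t, ht, e⟩ := D4.exists_zOf f hf hK ⟨certFullD4.torus_mem z, h⟩
    have e' : ∀ r < chevD4.nroots, certFullD4.tchar z r = certFullD4.tchar (D4.zOf f s t) r :=
      (dg_eq_iff chevD4 K).1 e
    rw [e' 13 (by decide), e' 12 (by decide), e' 18 (by decide)]
    exact torus_zOf_simple f s t ht

/-- A fixed torus element whose short character is fixed lies in the subfield points. -/
theorem torus_mem_sub {z : ℕ → Kˣ} (h : certFullD4.torus z ∈ twistedD4 K q)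
    (h18 : f (certFullD4.tchar z 18 : K) = certFullD4.tchar z 18) :
    certFullD4.torus z ∈ sub f q := by
  refine (mem_sub f).2 ⟨h, ?_⟩
  obtain ⟨h14, h13, h12⟩ := torus_fix_chars f hf hK h
  rw [h18] at h13
  rw [h18, h18] at h12
  rw [φ, certFullD4.torus_mapHom]
  refine torus_ext fun s hs => Units.ext ?_
  have key : (certFullD4.tchar (fun i => Units.map (f : K →* K) (z i)) s : K) =
      f (certFullD4.tchar z s : K) := by
    simp [Cert.tchar, Units.coe_prod, map_prod, map_zpow₀]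
  rw [key]
  simp only [List.mem_cons, List.not_mem_nil, or_false] at hs
  rcases hs with rfl | rfl | rfl | rfl
  · exact h18
  · exact h14
  · rw [h13, h18]
  · rw [h12, h18]

omit hf hK [Fintype K] in
/-- Elements of the unipotent subgroup centralise the base point. -/
theorem U_comm {u : GL chevD4.Idx K} (hu : u ∈ chevD4.posUnipotent K) (k : K) :
    u * X 23 k * u⁻¹ = X 23 k := by
  obtain ⟨b, a₁, a₂, a₃, c₁, c₂, c₃, d₁, d₂, d₃, e, z, rfl⟩ := exists_nf hu
  rw [mul_inv_eq_iff_eq_mul, X23_eq, nf_mul, nf_mul]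
  refine nf_congr ?_ ?_ ?_ ?_ ?_ ?_ ?_ ?_ ?_ ?_ ?_ ?_
  all_goals ring1

omit hf hK [Fintype K] in
theorem roots_long : ∀ i < 12,
    certFullD4.T.wlT (flatW orbitsD4 (twistD4Reps.get i).word) 23 ∈ [23, 22, 14, 9, 1, 0] ∧
    (certFullD4.T.wlT (flatW orbitsD4 (twistD4Reps.get i).word) 23 = 23 → i = 0 ∨ i = 2) := by
  decide +kernel

/-- The Bruhat form of a conjugate of the base point. -/
theorem conj_long {g : GL chevD4.Idx K} (hg : g ∈ twistedD4 K q) :
    ∃ bb ∈ chevD4.borelSubgroup K ⊓ twistedD4 K q, ∃ i < 12,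
      ∃ u ∈ certFullD4.KS K (certFullD4.invSet (flatW orbitsD4 (twistD4Reps.get i).word))
        certFullD4.T.h ⊓ twistedD4 K q,
      g = bb * certFullD4.nw K (flatW orbitsD4 (twistD4Reps.get i).word) * u ∧
      ∃ v ∈ chevD4.posUnipotent K ⊓ twistedD4 K q, ∃ c : K, c ≠ 0 ∧ ∀ t : K,
        g * X 23 t * g⁻¹ =
          v * X (certFullD4.T.wlT (flatW orbitsD4 (twistD4Reps.get i).word) 23) (c * t) * v⁻¹ := by
  rw [← datum_fix f hf hK] at hg ⊢
  obtain ⟨bb, hbb, i, hi, u, hu, rfl⟩ := (D4.datum f hf hK).exists_bruhat_fix hg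
  obtain ⟨hL, -, -⟩ := (D4.datum f hf hK).wd_spec hi
  refine ⟨bb, hbb, i, hi, u, hu, rfl, ?_⟩
  obtain ⟨v, hv, a, ha, rfl⟩ := (D4.tw f).borel_fix hbb
  have haH := (Subgroup.mem_inf.1 ha).1
  rw [certFullD4.diagonalSubgroup_eq] at haH
  obtain ⟨z, rfl⟩ := haH
  set L := flatW orbitsD4 (twistD4Reps.get i).word
  change ∀ p ∈ L, p < chevD4.rank at hL
  have hr : certFullD4.wl L 23 < chevD4.nroots := certFullD4.wl_lt hL (by decide)
  refine ⟨v, hv, (certFullD4.tchar z (certFullD4.wl L 23) : K) * (certFullD4.wsign L 23 : K),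
    mul_ne_zero (Units.ne_zero _) fun e => ?_, fun t => ?_⟩
  · have := certFullD4.wsign_sq (F := K) L 23
    rw [e, mul_zero] at this
    exact zero_ne_one this
  change v * certFullD4.torus z * certFullD4.nw K L * u * X 23 t *
      (v * certFullD4.torus z * certFullD4.nw K L * u)⁻¹ = _
  rw [show v * certFullD4.torus z * certFullD4.nw K L * u * X 23 t *
      (v * certFullD4.torus z * certFullD4.nw K L * u)⁻¹ = v * (certFullD4.torus z *
      (certFullD4.nw K L * (u * X 23 t * u⁻¹) * (certFullD4.nw K L)⁻¹) *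
      (certFullD4.torus z)⁻¹) * v⁻¹ by group,
    U_comm (certFullD4.KS_invSet_le_U hL hu.1), X,
    certFullD4.nw_mul_xg hL (show 23 < chevD4.nroots by decide), mul_inv_cancel_right,
    certFullD4.torus_conj_xg z hr, certFullD4.wlT_eq, X, mul_assoc ((certFullD4.tchar z _ : Kˣ) : K)]

omit hf hK [Fintype K] in
theorem long_of_pos {g : GL chevD4.Idx K} {r : ℕ} (hr : ¬ 12 ≤ r) (hr2 : r < 24) {k : K}
    (hk : k ≠ 0) (e : g = X r k) : g ∉ chevD4.posUnipotent K := by
  subst e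
  exact fun h => hk (certFullD4.eq_zero_of_mem (show r < chevD4.nroots from hr2)
    (fun hh => hr hh.1) (Subgroup.mem_sup_left h))

/-- An element moving the base point into itself stabilises it. -/
theorem stab_of_conj {g : GL chevD4.Idx K} (hg : g ∈ twistedD4 K q) {k : K}
    (h : g * X 23 1 * g⁻¹ = X 23 k) :
    g ∈ stab f ∧ ∃ bb ∈ chevD4.borelSubgroup K ⊓ twistedD4 K q,
      g = bb ∨ ∃ a, g = bb * n3 K * tn f 0 a 0 0 0 0 := by
  obtain ⟨bb, hbb, i, hi, u, hu, rfl, v, hv, c, hc, hall⟩ := conj_long f hf hK hg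
  have h1 := hall 1
  rw [mul_one, h] at h1
  set L := flatW orbitsD4 (twistD4Reps.get i).word
  obtain ⟨r, hr⟩ : ∃ r, certFullD4.T.wlT L 23 = r := ⟨_, rfl⟩
  rw [hr] at h1 hall
  have h2 : X r c = X 23 k := by
    have := U_comm (inv_mem hv.1) k
    rw [inv_inv] at this
    rw [← this, h1]; group
  obtain ⟨hmem, h23⟩ := roots_long i hi
  rw [hr] at hmem h23
  have hrck : r = 23 ∧ c = k := by
    simp only [List.mem_cons, List.not_mem_nil, or_false] at hmem
    rcases hmem with rfl | rfl | rfl | hneg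
    · exact ⟨rfl, certFullD4.xg_inj (by decide) h2⟩
    · rw [X22_eq, X23_eq] at h2
      exact absurd (nf_inj h2).2.2.2.2.2.2.2.2.2.2.1 hc
    · rw [X14_eq, X23_eq] at h2
      exact absurd (nf_inj h2).1 hc
    · refine absurd ?_ (long_of_pos (r := r) (by omega) (by omega) hc rfl)
      rw [h2, X23_eq]
      exact nf_mem_U _ _ _ _ _ _ _ _ _ _ _ _
  obtain ⟨rfl, rfl⟩ := hrck
  have hkf : f c = c := by
    have hX : X 23 (1 : K) ∈ twistedD4 K q := by
      rw [X23_tn f]; exact tn_mem f hf hK (map_zero f) (map_zero f) (map_one f)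
    have := mul_mem (mul_mem hg hX) (inv_mem hg)
    rw [h, X23_tn f] at this
    exact (fix_of_tn_mem f hf hK this).2.2
  refine ⟨?_, bb, hbb, ?_⟩
  · rw [mem_stab]
    have hall' : ∀ t, bb * certFullD4.nw K L * u * X 23 t * (bb * certFullD4.nw K L * u)⁻¹ =
        X 23 (c * t) := fun t => by rw [hall t, U_comm hv.1]
    ext y
    simp only [Pt, Set.mem_setOf_eq, one_mul, inv_one, mul_one]
    constructor
    · rintro ⟨t, ht, rfl⟩
      exact ⟨c * t, by rw [map_mul, hkf, ht], hall' t⟩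
    · rintro ⟨t, ht, rfl⟩
      exact ⟨t / c, by rw [map_div₀, hkf, ht], by rw [hall', mul_div_cancel₀ _ hc]⟩
  rcases h23 rfl with rfl | rfl
  · left
    have hL : L = [] := by decide +kernel
    obtain ⟨hu1, hu2⟩ := Subgroup.mem_inf.1 hu
    have : u = 1 := by
      have hset : certFullD4.invSet L = (∅ : Set ℕ) := by
        rw [hL]; ext r; simp [CertFull.invSet, Cert.wl]
      change u ∈ certFullD4.KS K (certFullD4.invSet L) certFullD4.T.h at hu1
      rw [hset, certFullD4.KS_empty, Subgroup.mem_bot] at hu1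
      exact hu1
    rw [this, mul_one, hL]
    simp [Cert.nw]
  · right
    have hL : L = [0, 2, 3] := by decide +kernel
    obtain ⟨hu1, hu2⟩ := Subgroup.mem_inf.1 hu
    change u ∈ certFullD4.KS K (certFullD4.invSet L) certFullD4.T.h at hu1
    suffices hform : ∀ g ∈ certFullD4.KS K (certFullD4.invSet L) certFullD4.T.h,
        ∃ a₁ a₂ a₃ : K, g = nf 0 a₁ a₂ a₃ 0 0 0 0 0 0 0 0 by
      obtain ⟨a₁, a₂, a₃, rfl⟩ := hform u hu1
      obtain ⟨b, a, c', d, e, z, -, -, -, hu3⟩ :=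
        exists_tn f hf hK (nf_mem_U _ _ _ _ _ _ _ _ _ _ _ _) hu2
      obtain ⟨hb, ha, -, -, hc', -, -, hd, -, -, he, hz⟩ := nf_inj hu3
      refine ⟨a, ?_⟩
      rw [hu3, hL, ← hb, ← hc', ← hd, ← he, ← hz]
      rfl
    clear hu1 hu2 hu hg hall h hmem h23 hr
    intro g hg
    induction hg using Subgroup.closure_induction with
      | mem g hg =>
        obtain ⟨r, t, hr', -, rfl⟩ := hg
        have hmem : r = 18 ∨ r = 13 ∨ r = 12 := by
          obtain ⟨hp, hnp⟩ := hr'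
          have hr24 : r < 24 := hp.2
          rw [hL, ← certFullD4.wlT_eq] at hnp
          have key : ∀ r < 24, 12 ≤ r → ¬ (12 ≤ certFullD4.T.wlT [0, 2, 3] r ∧
              certFullD4.T.wlT [0, 2, 3] r < 24) → r = 18 ∨ r = 13 ∨ r = 12 := by decide +kernel
          exact key r hr24 hp.1 hnp
        change ∃ a₁ a₂ a₃ : K, X r t = _
        rcases hmem with rfl | rfl | rfl
        · exact ⟨t, 0, 0, X18_eq t⟩
        · exact ⟨0, t, 0, X13_eq t⟩
        · exact ⟨0, 0, t, X12_eq t⟩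
      | one => exact ⟨0, 0, 0, nf_zero.symm⟩
      | mul a b _ _ ha hb =>
        obtain ⟨a₁, a₂, a₃, rfl⟩ := ha
        obtain ⟨b₁, b₂, b₃, rfl⟩ := hb
        refine ⟨a₁ + b₁, a₂ + b₂, a₃ + b₃, ?_⟩
        rw [nf_mul]
        refine nf_congr ?_ ?_ ?_ ?_ ?_ ?_ ?_ ?_ ?_ ?_ ?_ ?_
        all_goals ring1
      | inv a _ ha =>
        obtain ⟨a₁, a₂, a₃, rfl⟩ := ha
        refine ⟨-a₁, -a₂, -a₃, ?_⟩
        rw [inv_eq_iff_mul_eq_one, nf_mul, ← nf_zero]
        refine nf_congr ?_ ?_ ?_ ?_ ?_ ?_ ?_ ?_ ?_ ?_ ?_ ?_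
        all_goals ring1

omit hf hK [Fintype K] in
theorem A_zero_of_conj_mem_B {a : K}
    (h : n3 K * tn f 0 a 0 0 0 0 * (n3 K)⁻¹ ∈ chevD4.borelSubgroup K) : a = 0 := by
  rw [n3_A] at h
  have hY : D4.Y (-a) (-f a) (-f (f a)) ∈ chevD4.negUnipotent K := by
    have hV : ∀ r, r < 12 → ∀ t : K, certFullD4.xg r t ∈ chevD4.negUnipotent K := fun r hr t =>
      certFullD4.xg_mem_V (show r < chevD4.nroots from Nat.lt_trans hr (by decide))
        (fun hp => absurd hp.1 (show ¬ 12 ≤ r by omega)) t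
    exact mul_mem (mul_mem (hV 5 (by omega) _) (hV 10 (by omega) _)) (hV 11 (by omega) _)
  have h1 := certFullD4.borel_inf_negUnipotent.1.le (Subgroup.mem_inf.2 ⟨h, hY⟩)
  rw [Subgroup.mem_bot, ← n3_A, conj_eq_one_iff, ← tn_zero f] at h1
  exact (tn_inj f h1).2.1

/-- The stabiliser of the base point has at least the order of the parabolic subgroup. -/
theorem card_stab_ge : q ^ 12 * ((q ^ 3 - 1) * (q - 1)) * (1 + q ^ 3) ≤
    Nat.card ↥(twistedD4 K q ⊓ stab f) := by
  classical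
  let B := chevD4.borelSubgroup K ⊓ twistedD4 K q
  have hn3 := ((mem_sub f).1 (n3_mem f hf hK)).1
  have hA : ∀ a, tn f 0 a 0 0 0 0 ∈ twistedD4 K q := fun a =>
    tn_mem f hf hK (map_zero f) (map_zero f) (map_zero f)
  have hBs : ∀ b ∈ B, b ∈ stab f := by
    intro b hb
    obtain ⟨u, hu, a, ha, rfl⟩ := certFullD4.mem_borel_iff.1 hb.1
    rw [certFullD4.diagonalSubgroup_eq] at ha
    obtain ⟨z, rfl⟩ := ha
    refine (stab_of_conj f hf hK hb.2 (k := (certFullD4.tchar z 23 : K)) ?_).1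
    rw [show u * certFullD4.torus z * X 23 1 * (u * certFullD4.torus z)⁻¹ =
      u * (certFullD4.torus z * X 23 1 * (certFullD4.torus z)⁻¹) * u⁻¹ by group, X,
      certFullD4.torus_conj_xg z (show 23 < chevD4.nroots by decide), mul_one]
    exact U_comm hu _
  have hns : ∀ a, n3 K * tn f 0 a 0 0 0 0 ∈ stab f := by
    intro a
    refine (stab_of_conj f hf hK (mul_mem hn3 (hA a)) (k := 1) ?_).1
    rw [show n3 K * tn f 0 a 0 0 0 0 * X 23 1 * (n3 K * tn f 0 a 0 0 0 0)⁻¹ =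
      n3 K * (tn f 0 a 0 0 0 0 * X 23 1 * (tn f 0 a 0 0 0 0)⁻¹) * (n3 K)⁻¹ by group,
      U_comm (tn_mem_U f _ _ _ _ _ _), X23_tn f, n3_E]
  let F : ↥B × Option K → ↥(twistedD4 K q ⊓ stab f) := fun p => match p.2 with
    | none => ⟨p.1.1, p.1.2.2, hBs _ p.1.2⟩
    | some a => ⟨p.1.1 * (n3 K * tn f 0 a 0 0 0 0), mul_mem p.1.2.2 (mul_mem hn3 (hA a)),
        mul_mem (hBs _ p.1.2) (hns a)⟩
  have hzero : ∀ b : GL chevD4.Idx K, ∀ a, b ∈ chevD4.borelSubgroup K →
      n3 K * tn f 0 a 0 0 0 0 ≠ b := by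
    intro b a hb e
    have h1 : n3 K ∈ chevD4.borelSubgroup K := by
      have := mul_mem hb (inv_mem (Subgroup.mem_sup_left (tn_mem_U f 0 a 0 0 0 0) :
        tn f 0 a 0 0 0 0 ∈ chevD4.borelSubgroup K))
      rwa [← e, mul_inv_cancel_right] at this
    exact one_ne_zero (A_zero_of_conj_mem_B f
      (mul_mem (mul_mem h1 (Subgroup.mem_sup_left (tn_mem_U f 0 1 0 0 0 0))) (inv_mem h1)))
  have hinj : Function.Injective F := by
    rintro ⟨b, o⟩ ⟨b', o'⟩ e
    have e' := congrArg Subtype.val e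
    rcases o with - | a <;> rcases o' with - | a' <;> simp only [F] at e'
    · rw [Subtype.ext e']
    · exact absurd (eq_inv_mul_iff_mul_eq.2 e'.symm)
        (hzero _ a' (mul_mem (inv_mem b'.2.1) b.2.1))
    · exact absurd (eq_inv_mul_iff_mul_eq.2 e')
        (hzero _ a (mul_mem (inv_mem b.2.1) b'.2.1))
    · have e2 : b.1⁻¹ * b'.1 = n3 K * tn f 0 (a - a') 0 0 0 0 * (n3 K)⁻¹ := by
        have hs : tn f 0 a 0 0 0 0 = tn f 0 (a - a') 0 0 0 0 * tn f 0 a' 0 0 0 0 := by
          simp only [tn, map_zero, map_sub, neg_zero, nf_mul]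
          refine nf_congr ?_ ?_ ?_ ?_ ?_ ?_ ?_ ?_ ?_ ?_ ?_ ?_
          all_goals ring1
        rw [hs] at e'
        calc b.1⁻¹ * b'.1 = b.1⁻¹ * (b'.1 * (n3 K * tn f 0 a' 0 0 0 0)) *
              (n3 K * tn f 0 a' 0 0 0 0)⁻¹ := by group
          _ = _ := by rw [← e']; group
      obtain rfl : a = a' := sub_eq_zero.1 (A_zero_of_conj_mem_B f
        (e2 ▸ mul_mem (inv_mem b.2.1) b'.2.1))
      rw [Subtype.ext (mul_right_cancel e')]
  have h := Nat.card_le_card_of_injective F hinj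
  rw [Nat.card_prod, Finite.card_option, Nat.card_eq_fintype_card (α := K), hK] at h
  have hB : Nat.card ↥B = q ^ 12 * ((q ^ 3 - 1) * (q - 1)) := by
    show Nat.card ↥(chevD4.borelSubgroup K ⊓ twistedD4 K q) = _
    rw [← datum_fix f hf hK, Twist.Datum.card_B_fix, D4.card_H f hf hK, datum_fix f hf hK,
      D4.card_U f hf hK]
  rw [hB] at h
  rw [add_comm 1]
  exact h

/-- The stabiliser of the base point among the subfield points is small. -/
theorem card_sub_stab_le :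
    Nat.card ↥(sub f q ⊓ stab f) ≤ q ^ 6 * ((q - 1) * (q - 1)) * (q + 1) := by
  classical
  let L := {x : K // f x = x}
  let L' := {x : Kˣ // f (x : K) = x}
  haveI : Fintype L := Fintype.ofFinite L
  let T := ↥(chevD4.diagonalSubgroup K ⊓ sub f q)
  let F : ((L × L × L × L × L × L) × T) × Option L → GL chevD4.Idx K := fun p =>
    let b := tn f p.1.1.1.1 p.1.1.2.1.1 p.1.1.2.2.1.1 p.1.1.2.2.2.1.1 p.1.1.2.2.2.2.1.1
      p.1.1.2.2.2.2.2.1 * (p.1.2.1 : GL chevD4.Idx K)
    match p.2 with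
    | none => b
    | some a => b * (n3 K * tn f 0 a.1 0 0 0 0)
  have hB : ∀ bb ∈ chevD4.borelSubgroup K ⊓ twistedD4 K q, φ f bb = bb →
      ∃ x : (L × L × L × L × L × L) × T, F (x, none) = bb := by
    intro bb hbb hfix
    rw [← datum_fix f hf hK] at hbb
    obtain ⟨v, hv, t, ht, rfl⟩ := (D4.tw f).borel_fix hbb
    rw [datum_fix f hf hK] at hv ht
    obtain ⟨b, a, c, d, e, z, hb, he, hz, rfl⟩ := exists_tn f hf hK hv.1 hv.2
    rw [map_mul, φ_tn] at hfix
    have ht' : φ f t ∈ chevD4.diagonalSubgroup K := certFullD4.H_map f ht.1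
    have h1 : (tn f b a c d e z)⁻¹ * tn f (f b) (f a) (f c) (f d) (f e) (f z) = t * (φ f t)⁻¹ := by
      calc (tn f b a c d e z)⁻¹ * tn f (f b) (f a) (f c) (f d) (f e) (f z) =
          (tn f b a c d e z)⁻¹ * (tn f (f b) (f a) (f c) (f d) (f e) (f z) * φ f t) * (φ f t)⁻¹ := by
            group
        _ = _ := by rw [hfix]; group
    have h2 := certFullD4.U_inf_H.le (Subgroup.mem_inf.2
      ⟨mul_mem (inv_mem (tn_mem_U f b a c d e z)) (tn_mem_U f (f b) (f a) (f c) (f d) (f e) (f z)),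
        h1 ▸ mul_mem ht.1 (inv_mem ht')⟩)
    rw [Subgroup.mem_bot] at h2
    obtain ⟨qb, qa, qc, qd, qe, qz⟩ := tn_inj f (inv_mul_eq_one.1 h2)
    rw [h1, mul_inv_eq_one] at h2
    exact ⟨((⟨b, qb.symm⟩, ⟨a, qa.symm⟩, ⟨c, qc.symm⟩, ⟨d, qd.symm⟩, ⟨e, qe.symm⟩, ⟨z, qz.symm⟩),
      ⟨t, ht.1, (mem_sub f).2 ⟨ht.2, h2.symm⟩⟩), rfl⟩
  have hsurj : ∀ g ∈ sub f q ⊓ stab f, ∃ p, F p = g := by
    rintro g ⟨hg, hgs⟩
    obtain ⟨hgG, hgf⟩ := (mem_sub f).1 hg
    obtain ⟨k, -, hk⟩ : g * X 23 1 * g⁻¹ ∈ Pt f 1 := by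
      rw [← (mem_stab f).1 hgs]
      exact ⟨1, map_one f, rfl⟩
    rw [one_mul, inv_one, mul_one] at hk
    obtain ⟨-, bb, hbb, h | ⟨a, h⟩⟩ := stab_of_conj f hf hK hgG hk
    · subst h
      obtain ⟨x, hx⟩ := hB g hbb hgf
      exact ⟨(x, none), hx⟩
    · subst h
      rw [map_mul, map_mul, φ_tn, show φ f (n3 K) = n3 K from φ_nw f _, map_zero] at hgf
      have e2 : bb⁻¹ * φ f bb = n3 K * tn f 0 (a - f a) 0 0 0 0 * (n3 K)⁻¹ := by
        have hs : tn f 0 a 0 0 0 0 = tn f 0 (a - f a) 0 0 0 0 * tn f 0 (f a) 0 0 0 0 := by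
          simp only [tn, map_zero, map_sub, neg_zero, nf_mul]
          refine nf_congr ?_ ?_ ?_ ?_ ?_ ?_ ?_ ?_ ?_ ?_ ?_ ?_
          all_goals ring1
        calc bb⁻¹ * φ f bb = bb⁻¹ * (φ f bb * n3 K * tn f 0 (f a) 0 0 0 0) *
              (n3 K * tn f 0 (f a) 0 0 0 0)⁻¹ := by group
          _ = bb⁻¹ * (bb * n3 K * tn f 0 a 0 0 0 0) * (n3 K * tn f 0 (f a) 0 0 0 0)⁻¹ := by
            rw [hgf]
          _ = _ := by rw [hs]; group
      have hφB : φ f bb ∈ chevD4.borelSubgroup K := by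
        obtain ⟨u, hu, t, ht, e⟩ := certFullD4.mem_borel_iff.1 hbb.1
        rw [e, map_mul]
        exact mul_mem (Subgroup.mem_sup_left (certFullD4.U_map f hu))
          (certFullD4.H_le_B (certFullD4.H_map f ht))
      have ha : f a = a := (sub_eq_zero.1 (A_zero_of_conj_mem_B f
        (e2 ▸ mul_mem (inv_mem hbb.1) hφB))).symm
      rw [ha] at hgf
      obtain ⟨x, hx⟩ := hB bb hbb (mul_right_cancel (mul_right_cancel hgf))
      refine ⟨(x, some ⟨a, ha⟩), ?_⟩
      simp only [F] at hx ⊢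
      rw [hx, mul_assoc]
  have hT : Nat.card T ≤ (q - 1) * (q - 1) := by
    have hL' : Nat.card L' ≤ q - 1 := by
      let g : Option L' → L := fun o => o.elim ⟨0, map_zero f⟩ fun u => ⟨u.1, u.2⟩
      have hg : Function.Injective g := by
        rintro (- | u) (- | u') e <;> have e' := congrArg Subtype.val e
        · rfl
        · exact absurd e'.symm u'.1.ne_zero
        · exact absurd e' u.1.ne_zero
        · exact congrArg some (Subtype.ext (Units.ext e'))
      have := Nat.card_le_card_of_injective g hg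
      rw [Finite.card_option, card_fixed f hf hK] at this
      omega
    have hz : ∀ t : T, ∃ z : ℕ → Kˣ, t.1 = certFullD4.torus z ∧
        f (certFullD4.tchar z 18 : K) = certFullD4.tchar z 18 ∧
        f (certFullD4.tchar z 14 : K) = certFullD4.tchar z 14 := by
      intro t
      have h := certFullD4.diagonalSubgroup_eq.le (Subgroup.mem_inf.1 t.2).1
      obtain ⟨z, hz⟩ := h
      obtain ⟨hG, hfx⟩ := (mem_sub f).1 (Subgroup.mem_inf.1 t.2).2
      rw [← hz] at hG hfx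
      refine ⟨z, hz.symm, ?_, (torus_fix_chars f hf hK hG).1⟩
      have h1 := congrArg (φ f) (certFullD4.torus_conj_xg z (show 18 < chevD4.nroots by decide) (1 : K))
      rw [map_mul, map_mul, map_inv, hfx, show φ f (certFullD4.xg 18 1) = _ from φ_X f 18 1,
        show φ f (certFullD4.xg 18 _) = _ from φ_X f 18 _, map_one, X, X,
        certFullD4.torus_conj_xg z (show 18 < chevD4.nroots by decide), mul_one] at h1
      exact (certFullD4.xg_inj (by decide) h1).symm
    choose zf hzf hz18 hz14 using hz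
    let g : T → L' × L' := fun t =>
      (⟨certFullD4.tchar (zf t) 18, hz18 t⟩, ⟨certFullD4.tchar (zf t) 14, hz14 t⟩)
    have hg : Function.Injective g := by
      intro s t e
      obtain ⟨e1, e2⟩ := Prod.ext_iff.1 e
      replace e1 : certFullD4.tchar (zf s) 18 = certFullD4.tchar (zf t) 18 := congrArg Subtype.val e1
      replace e2 : certFullD4.tchar (zf s) 14 = certFullD4.tchar (zf t) 14 := congrArg Subtype.val e2
      refine Subtype.ext ?_
      rw [hzf s, hzf t]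
      obtain ⟨-, hs13, hs12⟩ := torus_fix_chars f hf hK (hzf s ▸ (mem_sub f).1 (Subgroup.mem_inf.1 s.2).2 |>.1)
      obtain ⟨-, ht13, ht12⟩ := torus_fix_chars f hf hK (hzf t ▸ (mem_sub f).1 (Subgroup.mem_inf.1 t.2).2 |>.1)
      refine torus_ext fun r hr => ?_
      simp only [List.mem_cons, List.not_mem_nil, or_false] at hr
      rcases hr with rfl | rfl | rfl | rfl
      · exact e1
      · exact e2
      · exact Units.ext (by rw [hs13, ht13, e1])
      · exact Units.ext (by rw [hs12, ht12, e1])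
    refine (Nat.card_le_card_of_injective g hg).trans ?_
    rw [Nat.card_prod]
    exact Nat.mul_le_mul hL' hL'
  choose p hp using fun g : ↥(sub f q ⊓ stab f) => hsurj g.1 g.2
  have h := Nat.card_le_card_of_injective p fun g g' e => Subtype.ext (by rw [← hp g, ← hp g', e])
  simp only [Nat.card_prod, Finite.card_option, L, card_fixed f hf hK] at h
  calc Nat.card ↥(sub f q ⊓ stab f) ≤ q * (q * (q * (q * (q * q)))) * Nat.card T * (q + 1) := h
    _ ≤ q * (q * (q * (q * (q * q)))) * ((q - 1) * (q - 1)) * (q + 1) :=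
      Nat.mul_le_mul_right _ (Nat.mul_le_mul_left _ hT)
    _ = _ := by ring

/-- The subfield points contain a copy of the group of type G₂. -/
theorem card_sub_ge : q ^ 6 * ((q ^ 2 - 1) * (q ^ 6 - 1)) ≤ Nat.card ↥(sub f q) := by
  classical
  let L : Subfield K := RingHom.eqLocusField f (RingHom.id K)
  haveI : Fintype L := Fintype.ofFinite L
  let ι : L →+* K := L.subtype
  have hι : ∀ t : L, f (ι t) = ι (RingHom.id L t) := fun t => t.2
  have hmap : ∀ g ∈ (foldingD4G2.tw L).fix, Matrix.GeneralLinearGroup.map ι g ∈ sub f q := by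
    intro g hg
    obtain ⟨hG, hact⟩ := (foldingD4G2.tw L).mem_fix.1 hg
    refine (mem_sub f).2 ⟨?_, ?_⟩
    · rw [← datum_fix f hf hK]
      refine (D4.tw f).mem_fix.2 ⟨certFullD4.mapHom_mem_group ι hG, ?_⟩
      rw [D4Torus.act_mapHom ι hι hG]
      exact congrArg _ hact
    · refine Units.ext (Matrix.ext fun i j => ?_)
      exact ((g : Matrix chevD4.Idx chevD4.Idx L) i j).2
  have hinj : Function.Injective fun g : ↥(foldingD4G2.tw L).fix =>
      (⟨_, hmap g.1 g.2⟩ : ↥(sub f q)) := by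
    intro g g' e
    refine Subtype.ext (Units.ext (Matrix.ext fun i j => Subtype.ext ?_))
    exact congrArg (fun x : ↥(sub f q) =>
      ((x : GL chevD4.Idx K) : Matrix chevD4.Idx chevD4.Idx K) i j) e
  refine le_trans (le_of_eq ?_) (Nat.card_le_card_of_injective _ hinj)
  obtain ⟨e⟩ := foldingD4G2.equiv (F := L)
  rw [Nat.card_congr e.toEquiv]
  have hcard : Fintype.card L = q := by
    rw [← Nat.card_eq_fintype_card, ← card_fixed f hf hK]
    rfl
  have hH : 1 * Nat.card (chevG2.diagonalSubgroup L) = (Fintype.card L - 1) ^ chevG2.rank := by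
    rw [one_mul, cardHG2, show chevG2.rank = 2 from rfl, Fin.prod_univ_two]
    simp [sq]
  have h := certFullG2.card_group_formula (F := L) chainG2_ok chainG2_len chainG2_poly hH
  rw [one_mul, hcard] at h
  rw [h, show chevG2.nroots / 2 = 6 from rfl]
  simp

end Cfsg.Agent.Lie.Chev.D4Sub
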