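import Cfsg.Prelude.Def_E6

/-! Tables for the representation of E₆ on the 27 coordinates of the cubic form. -/

set_option autoImplicit false

namespace Cfsg.Agent.Lie.Chev.E6Cubic

/-- The monomials of the cubic form. -/
def mons : List (ℤ × ℕ × ℕ × ℕ) :=
  [(1, 0, 4, 8), ((-1), 0, 5, 7), ((-1), 1, 3, 8), (1, 1, 5, 6), (1, 2, 3, 7), ((-1), 2, 4, 6), (1, 9, 13, 17), ((-1), 9, 14, 16), ((-1), 10, 12, 17), (1, 10, 14, 15), (1, 11, 12, 16), ((-1), 11, 13, 15), (1, 18, 22, 26), ((-1), 18, 23, 25), ((-1), 19, 21, 26), (1, 19, 23, 24), (1, 20, 21, 25), ((-1), 20, 22, 24), ((-1), 0, 9, 18), ((-1), 0, 10, 21), ((-1), 0, 11, 24), ((-1), 1, 12, 18), ((-1), 1, 13, 21), ((-1), 1, 14, 24), ((-1), 2, 15, 18), ((-1), 2, 16, 21), ((-1), 2, 17, 24), ((-1), 3, 9, 19), ((-1), 3, 10, 22), ((-1), 3, 11, 25), ((-1), 4, 12, 19), ((-1), 4, 13, 22), ((-1), 4, 14, 25), ((-1), 5, 15, 19),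 ((-1), 5, 16, 22), ((-1), 5, 17, 25), ((-1), 6, 9, 20), ((-1), 6, 10, 23), ((-1), 6, 11, 26), ((-1), 7, 12, 20), ((-1), 7, 13, 23), ((-1), 7, 14, 26), ((-1), 8, 15, 20), ((-1), 8, 16, 23), ((-1), 8, 17, 26)]

/-- The entries (row, column, sign) of the root elements. -/
def rootEnt : List (List (ℕ × ℕ × ℤ)) :=
  [
    [(2, 0, 1), (5, 3, 1), (8, 6, 1), (9, 15, (-1)), (10, 16, (-1)), (11, 17, (-1))],
    [(4, 15, (-1)), (5, 12, 1), (10, 25, (-1)), (11, 22, 1), (18, 6, 1), (20, 0, (-1))],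
    [(7, 15, 1), (8, 12, (-1)), (10, 26, 1), (11, 23, (-1)), (18, 3, 1), (19, 0, (-1))],
    [(5, 23, 1), (8, 22, (-1)), (10, 1, 1), (13, 0, (-1)), (18, 17, (-1)), (24, 15, 1)],
    [(5, 26, (-1)), (8, 25, 1), (11, 1, (-1)), (14, 0, 1), (18, 16, (-1)), (21, 15, 1)],
    [(1, 15, (-1)), (2, 12, 1), (10, 24, (-1)), (11, 21, 1), (19, 6, (-1)), (20, 3, 1)],
    [(2, 22, 1), (5, 21, (-1)), (10, 7, 1), (13, 6, (-1)), (20, 17, (-1)), (26, 15, 1)],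
    [(2, 25, (-1)), (5, 24, 1), (11, 7, (-1)), (14, 6, 1), (20, 16, (-1)), (23, 15, 1)],
    [(2, 23, (-1)), (8, 21, 1), (10, 4, 1), (13, 3, (-1)), (19, 17, (-1)), (25, 15, 1)],
    [(2, 26, 1), (8, 24, (-1)), (11, 4, (-1)), (14, 3, 1), (19, 16, (-1)), (22, 15, 1)],
    [(2, 1, 1), (5, 4, 1), (8, 7, 1), (12, 15, (-1)), (13, 16, (-1)), (14, 17, (-1))],
    [(10, 9, (-1)), (13, 12, (-1)), (16, 15, (-1)), (18, 21, 1), (19, 22, 1), (20, 23, 1)],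
    [(11, 9, 1), (14, 12, 1), (17, 15, 1), (18, 24, (-1)), (19, 25, (-1)), (20, 26, (-1))],
    [(3, 15, 1), (5, 9, (-1)), (13, 25, (-1)), (14, 22, 1), (18, 7, 1), (20, 1, (-1))],
    [(6, 15, (-1)), (8, 9, 1), (13, 26, 1), (14, 23, (-1)), (18, 4, 1), (19, 1, (-1))],
    [(0, 15, 1), (2, 9, (-1)), (13, 24, (-1)), (14, 21, 1), (19, 7, (-1)), (20, 4, 1)],
    [(1, 0, 1), (4, 3, 1), (7, 6, 1), (9, 12, (-1)), (10, 13, (-1)), (11, 14, (-1))],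
    [(4, 17, (-1)), (5, 14, 1), (9, 22, (-1)), (10, 19, 1), (24, 6, 1), (26, 0, (-1))],
    [(4, 16, (-1)), (5, 13, 1), (9, 25, 1), (11, 19, (-1)), (21, 6, 1), (23, 0, (-1))],
    [(7, 17, 1), (8, 14, (-1)), (9, 23, 1), (10, 20, (-1)), (24, 3, 1), (25, 0, (-1))],
    [(7, 16, 1), (8, 13, (-1)), (9, 26, (-1)), (11, 20, 1), (21, 3, 1), (22, 0, (-1))],
    [(5, 20, (-1)), (8, 19, 1), (9, 1, (-1)), (12, 0, 1), (21, 17, (-1)), (24, 16, 1)],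
    [(1, 17, (-1)), (2, 14, 1), (9, 21, (-1)), (10, 18, 1), (25, 6, (-1)), (26, 3, 1)],
    [(1, 16, (-1)), (2, 13, 1), (9, 24, 1), (11, 18, (-1)), (22, 6, (-1)), (23, 3, 1)],
    [(2, 19, (-1)), (5, 18, 1), (9, 7, (-1)), (12, 6, 1), (23, 17, (-1)), (26, 16, 1)],
    [(2, 20, 1), (8, 18, (-1)), (9, 4, (-1)), (12, 3, 1), (22, 17, (-1)), (25, 16, 1)],
    [(4, 23, 1), (7, 22, (-1)), (10, 2, (-1)), (16, 0, 1), (18, 14, (-1)), (24, 12, 1)],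
    [(4, 26, (-1)), (7, 25, 1), (11, 2, 1), (17, 0, (-1)), (18, 13, (-1)), (21, 12, 1)],
    [(3, 0, (-1)), (4, 1, (-1)), (5, 2, (-1)), (18, 19, 1), (21, 22, 1), (24, 25, 1)],
    [(6, 0, 1), (7, 1, 1), (8, 2, 1), (18, 20, (-1)), (21, 23, (-1)), (24, 26, (-1))],
    [(1, 22, (-1)), (4, 21, 1), (10, 8, 1), (16, 6, (-1)), (20, 14, 1), (26, 12, (-1))],
    [(1, 25, 1), (4, 24, (-1)), (11, 8, (-1)), (17, 6, 1), (20, 13, 1), (23, 12, (-1))],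
    [(3, 6, 1), (4, 7, 1), (5, 8, 1), (20, 19, (-1)), (23, 22, (-1)), (26, 25, (-1))],
    [(1, 23, (-1)), (7, 21, 1), (10, 5, (-1)), (16, 3, 1), (19, 14, (-1)), (25, 12, 1)],
    [(1, 26, 1), (7, 24, (-1)), (11, 5, 1), (17, 3, (-1)), (19, 13, (-1)), (22, 12, 1)],
    [(10, 11, 1), (13, 14, 1), (16, 17, 1), (24, 21, (-1)), (25, 22, (-1)), (26, 23, (-1))],
    [(11, 10, 1), (14, 13, 1), (17, 16, 1), (21, 24, (-1)), (22, 25, (-1)), (23, 26, (-1))],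
    [(3, 17, (-1)), (5, 11, 1), (12, 22, 1), (13, 19, (-1)), (24, 7, (-1)), (26, 1, 1)],
    [(3, 16, 1), (5, 10, (-1)), (12, 25, 1), (14, 19, (-1)), (21, 7, 1), (23, 1, (-1))],
    [(6, 3, 1), (7, 4, 1), (8, 5, 1), (19, 20, (-1)), (22, 23, (-1)), (25, 26, (-1))],
    [(6, 17, 1), (8, 11, (-1)), (12, 23, (-1)), (13, 20, 1), (24, 4, (-1)), (25, 1, 1)],
    [(6, 16, (-1)), (8, 10, 1), (12, 26, (-1)), (14, 20, 1), (21, 4, 1), (22, 1, (-1))],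
    [(0, 6, 1), (1, 7, 1), (2, 8, 1), (20, 18, (-1)), (23, 21, (-1)), (26, 24, (-1))],
    [(0, 3, (-1)), (1, 4, (-1)), (2, 5, (-1)), (19, 18, 1), (22, 21, 1), (25, 24, 1)],
    [(0, 17, (-1)), (2, 11, 1), (12, 21, 1), (13, 18, (-1)), (25, 7, 1), (26, 4, (-1))],
    [(0, 16, 1), (2, 10, (-1)), (12, 24, 1), (14, 18, (-1)), (22, 7, (-1)), (23, 4, 1)],
    [(3, 12, 1), (4, 9, (-1)), (16, 25, 1), (17, 22, (-1)), (18, 8, (-1)), (20, 2, 1)],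
    [(6, 12, 1), (7, 9, (-1)), (16, 26, 1), (17, 23, (-1)), (18, 5, 1), (19, 2, (-1))],
    [(3, 23, 1), (6, 22, (-1)), (13, 2, 1), (16, 1, (-1)), (18, 11, (-1)), (24, 9, 1)],
    [(3, 26, 1), (6, 25, (-1)), (14, 2, 1), (17, 1, (-1)), (18, 10, 1), (21, 9, (-1))],
    [(0, 12, 1), (1, 9, (-1)), (16, 24, 1), (17, 21, (-1)), (19, 8, 1), (20, 5, (-1))],
    [(0, 22, (-1)), (3, 21, 1), (13, 8, (-1)), (16, 7, 1), (20, 11, 1), (26, 9, (-1))],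
    [(0, 25, (-1)), (3, 24, 1), (14, 8, (-1)), (17, 7, 1), (20, 10, (-1)), (23, 9, 1)],
    [(0, 23, (-1)), (6, 21, 1), (13, 5, 1), (16, 4, (-1)), (19, 11, (-1)), (25, 9, 1)],
    [(0, 26, (-1)), (6, 24, 1), (14, 5, 1), (17, 4, (-1)), (19, 10, 1), (22, 9, (-1))],
    [(0, 1, 1), (3, 4, 1), (6, 7, 1), (12, 9, (-1)), (13, 10, (-1)), (14, 11, (-1))],
    [(4, 20, 1), (7, 19, (-1)), (9, 2, (-1)), (15, 0, 1), (21, 14, 1), (24, 13, (-1))],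
    [(1, 19, (-1)), (4, 18, 1), (9, 8, 1), (15, 6, (-1)), (23, 14, (-1)), (26, 13, 1)],
    [(1, 20, (-1)), (7, 18, 1), (9, 5, (-1)), (15, 3, 1), (22, 14, 1), (25, 13, (-1))],
    [(9, 11, 1), (12, 14, 1), (15, 17, 1), (24, 18, (-1)), (25, 19, (-1)), (26, 20, (-1))],
    [(9, 10, (-1)), (12, 13, (-1)), (15, 16, (-1)), (21, 18, 1), (22, 19, 1), (23, 20, 1)],
    [(1, 2, 1), (4, 5, 1), (7, 8, 1), (15, 12, (-1)), (16, 13, (-1)), (17, 14, (-1))],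
    [(3, 14, 1), (4, 11, (-1)), (15, 22, 1), (16, 19, (-1)), (24, 8, (-1)), (26, 2, 1)],
    [(3, 13, (-1)), (4, 10, 1), (15, 25, 1), (17, 19, (-1)), (21, 8, 1), (23, 2, (-1))],
    [(6, 14, 1), (7, 11, (-1)), (15, 23, 1), (16, 20, (-1)), (24, 5, 1), (25, 2, (-1))],
    [(6, 13, (-1)), (7, 10, 1), (15, 26, 1), (17, 20, (-1)), (21, 5, (-1)), (22, 2, 1)],
    [(3, 20, 1), (6, 19, (-1)), (12, 2, 1), (15, 1, (-1)), (21, 11, 1), (24, 10, (-1))],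
    [(0, 14, 1), (1, 11, (-1)), (15, 21, 1), (16, 18, (-1)), (25, 8, 1), (26, 5, (-1))],
    [(0, 13, (-1)), (1, 10, 1), (15, 24, 1), (17, 18, (-1)), (22, 8, (-1)), (23, 5, 1)],
    [(0, 19, (-1)), (3, 18, 1), (12, 8, (-1)), (15, 7, 1), (23, 11, (-1)), (26, 10, 1)],
    [(0, 20, (-1)), (6, 18, 1), (12, 5, 1), (15, 4, (-1)), (22, 11, 1), (25, 10, (-1))],
    [(0, 2, 1), (3, 5, 1), (6, 8, 1), (15, 9, (-1)), (16, 10, (-1)), (17, 11, (-1))]]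

/-- The root moving the second index to the first. -/
def moveTab : List (ℕ × ℕ × ℕ) :=
  [(0, 1, 16), (0, 2, 0), (0, 3, 28), (0, 6, 29), (0, 12, 21), (0, 13, 3), (0, 14, 4), (0, 15, 56), (0, 16, 26), (0, 17, 27), (0, 19, 2), (0, 20, 1), (0, 22, 20), (0, 23, 18), (0, 25, 19), (0, 26, 17), (1, 0, 55), (1, 2, 10), (1, 4, 28), (1, 7, 29), (1, 9, 21), (1, 10, 3), (1, 11, 4), (1, 15, 66), (1, 16, 48), (1, 17, 49), (1, 19, 14), (1, 20, 13), (1, 22, 41), (1, 23, 38), (1, 25, 40), (1, 26, 37), (2, 0, 71), (2, 1, 61), (2, 5, 28), (2, 8, 29), (2, 9, 56), (2, 10, 26), (2, 11, 27), (2, 12, 66), (2, 13, 48), (2, 14, 49), (2, 19, 47), (2, 20, 46), (2, 22, 65), (2, 23, 63), (2, 25, 64), (2, 26, 62), (3, 0, 43), (3, 4, 16), (3, 5, 0), (3, 6, 39), (3, 12, 25), (3, 13, 8), (3, 14, 9), (3, 15, 58), (3, 16, 33), (3, 17, 34), (3, 18, 2), (3, 20, 5), (3, 21, 20), (3, 23, 23), (3, 24,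 19), (3, 26, 22), (4, 1, 43), (4, 3, 55), (4, 5, 10), (4, 7, 39), (4, 9, 25), (4, 10, 8), (4, 11, 9), (4, 15, 70), (4, 16, 53), (4, 17, 54), (4, 18, 14), (4, 20, 15), (4, 21, 41), (4, 23, 45), (4, 24, 40), (4, 26, 44), (5, 2, 43), (5, 3, 71), (5, 4, 61), (5, 8, 39), (5, 9, 58), (5, 10, 33), (5, 11, 34), (5, 12, 70), (5, 13, 53), (5, 14, 54), (5, 18, 47), (5, 20, 50), (5, 21, 65), (5, 23, 68), (5, 24, 64), (5, 26, 67), (6, 0, 42), (6, 3, 32), (6, 7, 16), (6, 8, 0), (6, 12, 24), (6, 13, 6), (6, 14, 7), (6, 15, 57), (6, 16, 30), (6, 17, 31), (6, 18, 1), (6, 19, 5), (6, 21, 18), (6, 22, 23), (6, 24, 17), (6, 25, 22), (7, 1, 42), (7, 4, 32), (7, 6, 55), (7, 8, 10), (7, 9, 24), (7, 10, 6), (7, 11, 7), (7, 15, 69), (7, 16, 51), (7, 17, 52), (7, 18, 13), (7, 19, 15), (7, 21, 38), (7, 22, 45), (7, 24, 37), (7, 25, 44), (8, 2, 42), (8, 5, 32), (8, 6, 71), (8, 7, 61), (8,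 9, 57), (8, 10, 30), (8, 11, 31), (8, 12, 69), (8, 13, 51), (8, 14, 52), (8, 18, 46), (8, 19, 50), (8, 21, 63), (8, 22, 68), (8, 24, 62), (8, 25, 67), (9, 1, 50), (9, 2, 15), (9, 4, 46), (9, 5, 13), (9, 7, 47), (9, 8, 14), (9, 10, 11), (9, 11, 12), (9, 12, 55), (9, 15, 71), (9, 21, 49), (9, 22, 54), (9, 23, 52), (9, 24, 48), (9, 25, 53), (9, 26, 51), (10, 1, 68), (10, 2, 45), (10, 4, 63), (10, 5, 38), (10, 7, 65), (10, 8, 41), (10, 9, 60), (10, 11, 36), (10, 13, 55), (10, 16, 71), (10, 18, 49), (10, 19, 54), (10, 20, 52), (10, 24, 66), (10, 25, 70), (10, 26, 69), (11, 1, 67), (11, 2, 44), (11, 4, 62), (11, 5, 37), (11, 7, 64), (11, 8, 40), (11, 9, 59), (11, 10, 35), (11, 14, 55), (11, 17, 71), (11, 18, 48), (11, 19, 53), (11, 20, 51), (11, 21, 66), (11, 22, 70), (11, 23, 69), (12, 0, 50), (12, 2, 5), (12, 3, 46), (12, 5, 1), (12, 6, 47), (12, 8, 2), (12, 9, 16),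 (12, 13, 11), (12, 14, 12), (12, 15, 61), (12, 21, 27), (12, 22, 34), (12, 23, 31), (12, 24, 26), (12, 25, 33), (12, 26, 30), (13, 0, 68), (13, 2, 23), (13, 3, 63), (13, 5, 18), (13, 6, 65), (13, 8, 20), (13, 10, 16), (13, 12, 60), (13, 14, 36), (13, 16, 61), (13, 18, 27), (13, 19, 34), (13, 20, 31), (13, 24, 56), (13, 25, 58), (13, 26, 57), (14, 0, 67), (14, 2, 22), (14, 3, 62), (14, 5, 17), (14, 6, 64), (14, 8, 19), (14, 11, 16), (14, 12, 59), (14, 13, 35), (14, 17, 61), (14, 18, 26), (14, 19, 33), (14, 20, 30), (14, 21, 56), (14, 22, 58), (14, 23, 57), (15, 0, 15), (15, 1, 5), (15, 3, 13), (15, 4, 1), (15, 6, 14), (15, 7, 2), (15, 9, 0), (15, 12, 10), (15, 16, 11), (15, 17, 12), (15, 21, 4), (15, 22, 9), (15, 23, 7), (15, 24, 3), (15, 25, 8), (15, 26, 6), (16, 0, 45), (16, 1, 23), (16, 3, 38), (16, 4, 18), (16, 6, 41), (16, 7, 20), (16, 10, 0), (16, 13, 10),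 (16, 15, 60), (16, 17, 36), (16, 18, 4), (16, 19, 9), (16, 20, 7), (16, 24, 21), (16, 25, 25), (16, 26, 24), (17, 0, 44), (17, 1, 22), (17, 3, 37), (17, 4, 17), (17, 6, 40), (17, 7, 19), (17, 11, 0), (17, 14, 10), (17, 15, 59), (17, 16, 35), (17, 18, 3), (17, 19, 8), (17, 20, 6), (17, 21, 21), (17, 22, 25), (17, 23, 24), (18, 3, 69), (18, 4, 57), (18, 5, 24), (18, 6, 70), (18, 7, 58), (18, 8, 25), (18, 10, 22), (18, 11, 23), (18, 13, 44), (18, 14, 45), (18, 16, 67), (18, 17, 68), (18, 19, 43), (18, 20, 42), (18, 21, 60), (18, 24, 59), (19, 0, 69), (19, 1, 57), (19, 2, 24), (19, 6, 66), (19, 7, 56), (19, 8, 21), (19, 10, 17), (19, 11, 18), (19, 13, 37), (19, 14, 38), (19, 16, 62), (19, 17, 63), (19, 18, 28), (19, 20, 32), (19, 22, 60), (19, 25, 59), (20, 0, 70), (20, 1, 58), (20, 2, 25), (20, 3, 66), (20, 4, 56), (20, 5, 21), (20, 10, 19), (20, 11, 20), (20, 13,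 40), (20, 14, 41), (20, 16, 64), (20, 17, 65), (20, 18, 29), (20, 19, 39), (20, 23, 60), (20, 26, 59), (21, 3, 51), (21, 4, 30), (21, 5, 6), (21, 6, 53), (21, 7, 33), (21, 8, 8), (21, 9, 22), (21, 11, 5), (21, 12, 44), (21, 14, 15), (21, 15, 67), (21, 17, 50), (21, 18, 11), (21, 22, 43), (21, 23, 42), (21, 24, 35), (22, 0, 51), (22, 1, 30), (22, 2, 6), (22, 6, 48), (22, 7, 26), (22, 8, 3), (22, 9, 17), (22, 11, 1), (22, 12, 37), (22, 14, 13), (22, 15, 62), (22, 17, 46), (22, 19, 11), (22, 21, 28), (22, 23, 32), (22, 25, 35), (23, 0, 53), (23, 1, 33), (23, 2, 8), (23, 3, 48), (23, 4, 26), (23, 5, 3), (23, 9, 19), (23, 11, 2), (23, 12, 40), (23, 14, 14), (23, 15, 64), (23, 17, 47), (23, 20, 11), (23, 21, 29), (23, 22, 39), (23, 26, 35), (24, 3, 52), (24, 4, 31), (24, 5, 7), (24, 6, 54), (24, 7, 34), (24, 8, 9), (24, 9, 23), (24, 10, 5), (24, 12, 45), (24, 13, 15),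 (24, 15, 68), (24, 16, 50), (24, 18, 12), (24, 21, 36), (24, 25, 43), (24, 26, 42), (25, 0, 52), (25, 1, 31), (25, 2, 7), (25, 6, 49), (25, 7, 27), (25, 8, 4), (25, 9, 18), (25, 10, 1), (25, 12, 38), (25, 13, 13), (25, 15, 63), (25, 16, 46), (25, 19, 12), (25, 22, 36), (25, 24, 28), (25, 26, 32), (26, 0, 54), (26, 1, 34), (26, 2, 9), (26, 3, 49), (26, 4, 27), (26, 5, 4), (26, 9, 20), (26, 10, 2), (26, 12, 41), (26, 13, 14), (26, 15, 65), (26, 16, 47), (26, 20, 12), (26, 23, 36), (26, 24, 29), (26, 25, 39)]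

/-- The stages: the next coordinate, the witness, and the Weyl moves. -/
def stages : List (ℕ × Option ℕ × List (ℕ × List ℕ)) :=
  [
    (0, none, [(0, []), (1, [55]), (2, [71]), (3, [43]), (4, [70, 15]), (5, [71, 43]), (6, [42]), (7, [69, 15]), (8, [71, 42]), (9, [71, 15]), (10, [71, 45]), (11, [71, 44]), (12, [50]), (13, [68]), (14, [67]), (15, [15]), (16, [45]), (17, [44]), (18, [70, 42]), (19, [69]), (20, [70]), (21, [67, 15]), (22, [51]), (23, [53]), (24, [68, 15]), (25, [52]), (26, [54])]),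
    (1, none, [(1, []), (2, [61]), (3, [58, 5]), (6, [57, 5]), (12, [61, 5]), (13, [61, 23]), (14, [61, 22]), (15, [5]), (16, [23]), (17, [22]), (19, [57]), (20, [58]), (22, [30]), (23, [33]), (25, [31]), (26, [34])]),
    (2, none, [(2, []), (15, [9, 6]), (16, [25, 7]), (17, [25, 6]), (19, [24]), (20, [25]), (22, [6]), (23, [8]), (25, [7]), (26, [9])]),
    (9, some 0, [(9, []), (10, [60]), (11, [59])]),
    (12, some 1, [(12, [])]),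
    (15, some 2, [(15, [])]),
    (18, none, []),
    (3, none, [(3, []), (6, [32])]),
    (4, none, [(4, [])]),
    (5, none, [(5, [])]),
    (6, none, []),
    (7, none, []),
    (8, none, []),
    (10, none, [(10, []), (11, [35])]),
    (11, none, [(11, [])]),
    (13, none, []),
    (14, none, []),
    (16, none, []),
    (17, none, []),
    (19, none, []),
    (20, none, []),
    (21, none, []),
    (22, none, []),
    (23, none, []),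
    (24, none, []),
    (25, none, []),
    (26, none, [])]

/-- Six coordinates whose weights form a basis. -/
def frame : List ℕ :=
  [0, 1, 2, 3, 9, 10]

/-- The inverse of the weights of the frame. -/
def frameInv : List (List ℤ) :=
  [[1, 0, (-1), 0, 1, 0], [1, 0, (-1), 0, 0, 0], [2, 0, (-1), 0, 1, 0], [3, (-1), (-2), (-1), 1, 0], [2, (-1), (-1), 0, 1, 0], [0, 0, 0, 0, 0, (-1)]]

/-- The triads determining the other coordinates from the frame. -/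
def steps : List (ℕ × ℕ × ℕ) :=
  [(8, 1, 3), (7, 2, 3), (18, 0, 9), (21, 0, 10), (12, 1, 18), (13, 1, 21), (15, 2, 18), (16, 2, 21), (19, 3, 9), (22, 3, 10), (4, 12, 19), (5, 15, 19), (20, 7, 12), (23, 7, 13), (6, 1, 5), (17, 9, 13), (14, 9, 16), (11, 12, 16), (26, 18, 22), (25, 18, 23), (24, 19, 23)]

/-- The weights of the coordinates at the fundamental coroots. -/
def weight : List (List ℤ) :=
  [[(-1), 0, 1, 0, 0, 0], [0, 0, 1, 0, (-1), 0], [(-1), (-1), 1, 0, 0, 0], [0, 1, 0, (-1), 1, 0], [1, 1, 0, (-1), 0, 0], [0, 0, 0, (-1), 1, 0], [0, 0, (-1), 1, 0, 0], [1, 0, (-1), 1, (-1), 0], [0, (-1), (-1), 1, 0, 0], [1, (-1), 0, 0, 0, 0], [0, 0, 0, 0, 0, (-1)], [0, 0, 0, 0, (-1), 1], [0, (-1), 0, 0, 1, 0], [(-1), 0, 0, 0, 1, (-1)], [(-1), 0, 0, 0, 0, 1], [1, 0, 0, 0, 0, 0], [0, 1, 0, 0, 0, (-1)], [0, 1, 0, 0, (-1), 1], [0, 1, (-1), 0, 0, 0], [(-1), 0, 0, 1, (-1), 0],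 [(-1), 1, 1, (-1), 0, 0], [1, 0, (-1), 0, 0, 1], [0, (-1), 0, 1, (-1), 1], [0, 0, 1, (-1), 0, 1], [1, 0, (-1), 0, 1, (-1)], [0, (-1), 0, 1, 0, (-1)], [0, 0, 1, (-1), 1, (-1)]]

end Cfsg.Agent.Lie.Chev.E6Cubic
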