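import Cfsg.Agent.Lib.Lie.Chev.E6CubicData
import Cfsg.Agent.Lib.Lie.Chev.SteinbergInst
import Cfsg.Agent.Lib.Lie.OrthGenBasic

/-! Root elements of type E₆ in the isometry group of the cubic form. -/

set_option autoImplicit false
set_option linter.unusedSectionVars false
set_option maxRecDepth 4000

namespace Cfsg.Agent.Lie.Chev.E6Cubic

open Cfsg.Lie Matrix Cfsg.Agent.Lie.OrthGen

/-- The coordinate with a given number. -/
def dec (n : ℕ) : I27 :=
  (⟨n / 9 % 3, Nat.mod_lt _ (by decide)⟩, ⟨n / 3 % 3, Nat.mod_lt _ (by decide)⟩,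
    ⟨n % 3, Nat.mod_lt _ (by decide)⟩)

theorem dec_inj {a b : ℕ} (ha : a < 27) (hb : b < 27) (h : dec a = dec b) : a = b := by
  have := congrArg (fun x : I27 => ((x.1 : ℕ), (x.2.1 : ℕ), (x.2.2 : ℕ))) h
  simp [dec] at this
  omega

theorem dec_surj (i : I27) : ∃ n < 27, dec n = i := by
  obtain ⟨⟨a, ha⟩, ⟨b, hb⟩, ⟨c, hc⟩⟩ := i
  refine ⟨9 * a + 3 * b + c, by omega, ?_⟩
  simp only [dec, Prod.mk.injEq, Fin.mk.injEq]
  omega

variable {F : Type*} [Field F]

/-- A numbered coordinate of a vector. -/
def co (v : I27 → F) (n : ℕ) : F := v (dec n)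

theorem vec_ext {v w : I27 → F} (h : ∀ n < 27, co v n = co w n) : v = w := by
  funext i
  obtain ⟨n, hn, rfl⟩ := dec_surj i
  exact h n hn

@[simp] theorem co_add (v w : I27 → F) (n : ℕ) : co (v + w) n = co v n + co w n := rfl

@[simp] theorem co_smul (c : F) (v : I27 → F) (n : ℕ) : co (c • v) n = c * co v n := rfl

/-- The value of a list of monomials. -/
def ev (L : List (ℤ × ℕ × ℕ × ℕ)) (v : I27 → F) : F :=
  (L.map fun m => (m.1 : F) * (co v m.2.1 * co v m.2.2.1 * co v m.2.2.2)).sum

/-- The part of `T (v + u)` linear in `u`. -/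
def dv (v u : I27 → F) : F :=
  (mons.map fun m => (m.1 : F) * (co u m.2.1 * co v m.2.2.1 * co v m.2.2.2 +
    co v m.2.1 * co u m.2.2.1 * co v m.2.2.2 + co v m.2.1 * co v m.2.2.1 * co u m.2.2.2)).sum

/-- The trilinear form. -/
def bf (u v w : I27 → F) : F :=
  (mons.map fun m => (m.1 : F) * (co u m.2.1 * co v m.2.2.1 * co w m.2.2.2 +
    co u m.2.1 * co w m.2.2.1 * co v m.2.2.2 + co v m.2.1 * co u m.2.2.1 * co w m.2.2.2 +
    co v m.2.1 * co w m.2.2.1 * co u m.2.2.2 + co w m.2.1 * co u m.2.2.1 * co v m.2.2.2 +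
    co w m.2.1 * co v m.2.2.1 * co u m.2.2.2)).sum

theorem cubicT_eq (v : I27 → F) : cubicT v = ev mons v := by
  simp [cubicT, mat3, ev, mons, co, dec, Matrix.det_fin_three, Matrix.trace, Fin.sum_univ_three,
    Matrix.mul_apply]
  ring

theorem sum_map_combine {α : Type*} (L : List α) (f g h : α → F) (e : ∀ m ∈ L, f m = g m + h m) :
    (L.map f).sum = (L.map g).sum + (L.map h).sum := by
  rw [← List.sum_map_add]
  exact congrArg List.sum (List.map_congr_left e)

theorem cubicT_add (v u : I27 → F) :
    cubicT (v + u) = cubicT v + dv v u + dv u v + cubicT u := by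
  simp only [cubicT_eq, ev, dv]
  rw [← List.sum_map_add, ← List.sum_map_add, ← List.sum_map_add]
  exact congrArg List.sum (List.map_congr_left fun m _ => by simp; ring)

theorem cubicT_smul (c : F) (v : I27 → F) : cubicT (c • v) = c ^ 3 * cubicT v := by
  simp only [cubicT_eq, ev]
  rw [← List.sum_map_mul_left]
  exact congrArg List.sum (List.map_congr_left fun m _ => by simp; ring)

theorem dv_smul_right (c : F) (v u : I27 → F) : dv v (c • u) = c * dv v u := by
  simp only [dv]
  rw [← List.sum_map_mul_left]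
  exact congrArg List.sum (List.map_congr_left fun m _ => by simp; ring)

theorem dv_smul_left (c : F) (v u : I27 → F) : dv (c • v) u = c ^ 2 * dv v u := by
  simp only [dv]
  rw [← List.sum_map_mul_left]
  exact congrArg List.sum (List.map_congr_left fun m _ => by simp; ring)

theorem dv_add_left (v w u : I27 → F) : dv (v + w) u = dv v u + dv w u + bf v w u := by
  simp only [dv, bf]
  rw [← List.sum_map_add, ← List.sum_map_add]
  exact congrArg List.sum (List.map_congr_left fun m _ => by simp; ring)

theorem bf_smul_left (c : F) (u v w : I27 → F) : bf (c • u) v w = c * bf u v w := by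
  simp only [bf]
  rw [← List.sum_map_mul_left]
  exact congrArg List.sum (List.map_congr_left fun m _ => by simp; ring)

theorem bf_smul_mid (c : F) (u v w : I27 → F) : bf u (c • v) w = c * bf u v w := by
  simp only [bf]
  rw [← List.sum_map_mul_left]
  exact congrArg List.sum (List.map_congr_left fun m _ => by simp; ring)

theorem bf_smul_right (c : F) (u v w : I27 → F) : bf u v (c • w) = c * bf u v w := by
  simp only [bf]
  rw [← List.sum_map_mul_left]
  exact congrArg List.sum (List.map_congr_left fun m _ => by simp; ring)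

theorem exists_scalar [Fintype F] (hF : 3 ≤ Fintype.card F) : ∃ c : F, c ≠ 0 ∧ c ≠ 1 := by
  classical
  obtain ⟨c, -, hc⟩ := Finset.exists_mem_notMem_of_card_lt_card (s := ({0, 1} : Finset F))
    (t := Finset.univ) (lt_of_le_of_lt (Finset.card_insert_le _ _) (by simp; omega))
  exact ⟨c, fun h => hc (by simp [h]), fun h => hc (by simp [h])⟩

/-- The action of a matrix. -/
def act (g : GL I27 F) (v : I27 → F) : I27 → F := (Units.coeHom (Matrix I27 I27 F) g) *ᵥ v

theorem act_mul (g h : GL I27 F) (v : I27 → F) : act (g * h) v = act g (act h v) := by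
  simp [act, Matrix.mulVec_mulVec]

theorem act_one (v : I27 → F) : act (1 : GL I27 F) v = v := by simp [act]

theorem act_add (g : GL I27 F) (v w : I27 → F) : act g (v + w) = act g v + act g w :=
  Matrix.mulVec_add _ _ _

theorem act_smul (g : GL I27 F) (c : F) (v : I27 → F) : act g (c • v) = c • act g v :=
  Matrix.mulVec_smul _ _ _

theorem act_cubicT {g : GL I27 F} (hg : g ∈ E6univ F) (v : I27 → F) :
    cubicT (act g v) = cubicT v := hg v

theorem act_dv [Fintype F] (hF : 3 ≤ Fintype.card F) {g : GL I27 F} (hg : g ∈ E6univ F)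
    (v u : I27 → F) : dv (act g v) (act g u) = dv v u := by
  obtain ⟨c, h0, h1⟩ := exists_scalar hF
  have key : ∀ x y : I27 → F, cubicT (x + c • y) - cubicT x - c ^ 3 * cubicT y -
      c ^ 2 * (cubicT (x + y) - cubicT x - cubicT y) = (c - c ^ 2) * dv x y := fun x y => by
    rw [cubicT_add, cubicT_add, dv_smul_right, dv_smul_left, cubicT_smul]; ring
  have e := key (act g v) (act g u)
  rw [← act_smul, ← act_add, ← act_add, act_cubicT hg, act_cubicT hg, act_cubicT hg,
    act_cubicT hg, key] at e
  refine (mul_left_cancel₀ ?_ e).symm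
  rw [show c - c ^ 2 = c * (1 - c) by ring]
  exact mul_ne_zero h0 (sub_ne_zero.2 h1.symm)

theorem act_bf [Fintype F] (hF : 3 ≤ Fintype.card F) {g : GL I27 F} (hg : g ∈ E6univ F)
    (u v w : I27 → F) : bf (act g u) (act g v) (act g w) = bf u v w := by
  have e := dv_add_left (act g u) (act g v) (act g w)
  rw [← act_add, act_dv hF hg, act_dv hF hg, act_dv hF hg, dv_add_left] at e
  exact (add_left_cancel e).symm

/-! ### The root elements -/

/-- The entries of a root element, by number. -/
def entN (r : ℕ) : List (ℕ × ℕ × ℤ) := rootEnt.getD r []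

/-- The entries of a root element. -/
def ent (r : ℕ) : List (I27 × I27 × ℤ) := (entN r).map fun x => (dec x.1, dec x.2.1, x.2.2)

/-- The coordinates feeding a coordinate. -/
def srcs (r n : ℕ) : List (ℤ × ℕ) :=
  ((entN r).filter fun x => x.1 == n).map fun x => (x.2.2, x.2.1)

theorem entN_bound : ∀ r < 72, (entN r).all (fun x => x.1 < 27 && x.2.1 < 27) = true := by
  decide +kernel

theorem mons_bound : mons.all (fun m => m.2.1 < 27 && m.2.2.1 < 27 && m.2.2.2 < 27) = true := by
  decide +kernel

theorem co_toM {r n : ℕ} (hr : r < 72) (hn : n < 27) (v : I27 → F) :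
    co (toM F (ent r) *ᵥ v) n = ((srcs r n).map fun x => (x.1 : F) * co v x.2).sum := by
  have hb := entN_bound r hr
  rw [List.all_eq_true] at hb
  unfold ent srcs
  generalize entN r = L at hb ⊢
  induction L with
  | nil => simp [toM, co]
  | cons x L ih =>
    have hx := hb x (by simp)
    simp only [Bool.and_eq_true, decide_eq_true_eq] at hx
    have ih' := ih fun y hy => hb y (by simp [hy])
    rw [List.map_cons, toM_cons, Matrix.add_mulVec, co_add, ih', List.filter_cons]
    by_cases h : x.1 = n
    · subst h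
      simp [co, Matrix.single_mulVec, Function.update]
    · have h' : dec n ≠ dec x.1 := fun e => h (dec_inj hn hx.1 e).symm
      simp [co, Matrix.single_mulVec, Function.update, h, h']

/-- The terms of `D (v, N v)`. -/
def linTerms (r : ℕ) : List (ℤ × ℕ × ℕ × ℕ) :=
  mons.flatMap fun m =>
    ((srcs r m.2.1).map fun x => (m.1 * x.1, x.2, m.2.2.1, m.2.2.2)) ++
    (((srcs r m.2.2.1).map fun x => (m.1 * x.1, m.2.1, x.2, m.2.2.2)) ++
    ((srcs r m.2.2.2).map fun x => (m.1 * x.1, m.2.1, m.2.2.1, x.2)))

/-- Two monomials cancel. -/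
def opp (m x : ℤ × ℕ × ℕ × ℕ) : Bool :=
  (m.1 + x.1 == 0) && [(m.2.1, m.2.2.1, m.2.2.2), (m.2.1, m.2.2.2, m.2.2.1),
    (m.2.2.1, m.2.1, m.2.2.2), (m.2.2.1, m.2.2.2, m.2.1), (m.2.2.2, m.2.1, m.2.2.1),
    (m.2.2.2, m.2.2.1, m.2.1)].contains x.2

/-- All monomials cancel in pairs. -/
def cancels : ℕ → List (ℤ × ℕ × ℕ × ℕ) → Bool
  | _, [] => true
  | 0, _ :: _ => false
  | k + 1, m :: L =>
    match L.find? (opp m) with
    | some x => cancels k (L.erase x)
    | none => false

theorem ev_of_cancels (k : ℕ) (v : I27 → F) :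
    ∀ L : List (ℤ × ℕ × ℕ × ℕ), cancels k L = true → ev L v = 0 := by
  induction k with
  | zero =>
    rintro (_ | ⟨m, L⟩) h
    · simp [ev]
    · simp [cancels] at h
  | succ k ih =>
    rintro (_ | ⟨m, L⟩) h
    · simp [ev]
    simp only [cancels] at h
    split at h
    · rename_i x hx
      have hxm := List.mem_of_find?_eq_some hx
      have hp := List.find?_some hx
      simp only [opp, Bool.and_eq_true, beq_iff_eq, List.contains_iff_mem, List.mem_cons,
        List.not_mem_nil, or_false] at hp
      have hperm : (L.map fun m => (m.1 : F) * (co v m.2.1 * co v m.2.2.1 * co v m.2.2.2)).sum =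
          ((x :: L.erase x).map fun m =>
            (m.1 : F) * (co v m.2.1 * co v m.2.2.1 * co v m.2.2.2)).sum :=
        ((List.perm_cons_erase hxm).map _).sum_eq
      have h0 := ih _ h
      rw [ev] at h0 ⊢
      rw [List.map_cons, List.sum_cons, hperm, List.map_cons, List.sum_cons, h0, add_zero]
      obtain ⟨e, hp⟩ := hp
      have e' : (x.1 : F) = -(m.1 : F) := by
        rw [eq_neg_iff_add_eq_zero, add_comm, ← Int.cast_add, e, Int.cast_zero]
      rw [e']
      rcases hp with hp | hp | hp | hp | hp | hp <;> rw [hp] <;> ring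
    · simp at h

theorem linTerms_ok : ∀ r < 72, cancels 300 (linTerms r) = true := by decide +kernel

theorem targets_apart : ∀ r < 72, mons.all (fun m =>
    ((srcs r m.2.1).isEmpty || (srcs r m.2.2.1).isEmpty) &&
    ((srcs r m.2.1).isEmpty || (srcs r m.2.2.2).isEmpty) &&
    ((srcs r m.2.2.1).isEmpty || (srcs r m.2.2.2).isEmpty)) = true := by decide +kernel

theorem dv_toM {r : ℕ} (hr : r < 72) (v : I27 → F) : dv v (toM F (ent r) *ᵥ v) = 0 := by
  rw [← ev_of_cancels 300 v _ (linTerms_ok r hr), ev, linTerms, List.map_flatMap, dv]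
  have hb := mons_bound
  rw [List.all_eq_true] at hb
  rw [List.flatMap_def, List.sum_flatten, List.map_map]
  refine congrArg List.sum (List.map_congr_left fun m hm => ?_)
  obtain ⟨⟨ha, hb⟩, hc⟩ : (m.2.1 < 27 ∧ m.2.2.1 < 27) ∧ m.2.2.2 < 27 := by
    simpa using hb m hm
  simp only [Function.comp_apply, List.map_append, List.sum_append, List.map_map,
    co_toM hr ha, co_toM hr hb, co_toM hr hc, Function.comp_def]
  rw [mul_add, mul_add, add_assoc]
  congr 1
  · rw [mul_assoc _ (co v m.2.2.1), ← List.sum_map_mul_right, ← List.sum_map_mul_left]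
    exact congrArg List.sum (List.map_congr_left fun x _ => by push_cast; ring)
  congr 1
  · rw [mul_comm (co v m.2.1), mul_assoc, ← List.sum_map_mul_right, ← List.sum_map_mul_left]
    exact congrArg List.sum (List.map_congr_left fun x _ => by push_cast; ring)
  · rw [mul_comm (co v m.2.1 * co v m.2.2.1), ← List.sum_map_mul_right, ← List.sum_map_mul_left]
    exact congrArg List.sum (List.map_congr_left fun x _ => by push_cast; ring)

theorem toM_high {r : ℕ} (hr : r < 72) (v w : I27 → F) :
    dv (toM F (ent r) *ᵥ v) w = 0 ∧ cubicT (toM F (ent r) *ᵥ v) = 0 := by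
  have h : ∀ m ∈ mons,
      co (toM F (ent r) *ᵥ v) m.2.1 * co (toM F (ent r) *ᵥ v) m.2.2.1 = 0 ∧
      co (toM F (ent r) *ᵥ v) m.2.1 * co (toM F (ent r) *ᵥ v) m.2.2.2 = 0 ∧
      co (toM F (ent r) *ᵥ v) m.2.2.1 * co (toM F (ent r) *ᵥ v) m.2.2.2 = 0 := fun m hm => by
    obtain ⟨⟨ha, hb⟩, hc⟩ : (m.2.1 < 27 ∧ m.2.2.1 < 27) ∧ m.2.2.2 < 27 := by
      simpa using List.all_eq_true.1 mons_bound m hm
    obtain ⟨⟨h1, h2⟩, h3⟩ : (((srcs r m.2.1) = [] ∨ (srcs r m.2.2.1) = []) ∧
        ((srcs r m.2.1) = [] ∨ (srcs r m.2.2.2) = [])) ∧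
        ((srcs r m.2.2.1) = [] ∨ (srcs r m.2.2.2) = []) := by
      simpa [List.isEmpty_iff] using List.all_eq_true.1 (targets_apart r hr) m hm
    rw [co_toM hr ha, co_toM hr hb, co_toM hr hc]
    refine ⟨?_, ?_, ?_⟩
    · rcases h1 with e | e <;> simp [e]
    · rcases h2 with e | e <;> simp [e]
    · rcases h3 with e | e <;> simp [e]
  rw [cubicT_eq, ev, dv]
  refine ⟨List.sum_eq_zero ?_, List.sum_eq_zero ?_⟩
  · intro x hx
    obtain ⟨m, hm, rfl⟩ := List.mem_map.1 hx
    obtain ⟨e1, e2, e3⟩ := h m hm
    linear_combination (m.1 : F) * co w m.2.2.2 * e1 + (m.1 : F) * co w m.2.2.1 * e2 +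
      (m.1 : F) * co w m.2.1 * e3
  · intro x hx
    obtain ⟨m, hm, rfl⟩ := List.mem_map.1 hx
    linear_combination (m.1 : F) * co (toM F (ent r) *ᵥ v) m.2.2.2 * (h m hm).1

theorem sq_check : ∀ r < 72, sameEntries (lmul (ent r) (ent r)) [] = true := by decide +kernel

theorem toM_sq {r : ℕ} (hr : r < 72) : toM F (ent r) * toM F (ent r) = 0 := by
  rw [← toM_lmul, sameEntries_toM (sq_check r hr), toM_nil]

variable (F)

/-- A root element. -/
noncomputable def root (r : ℕ) (t : F) : GL I27 F :=
  if hr : r < 72 then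
    ⟨1 + t • toM F (ent r), 1 - t • toM F (ent r),
      by simp [add_mul, mul_sub, toM_sq hr],
      by simp [sub_mul, mul_add, toM_sq hr]⟩
  else 1

variable {F}

theorem root_val {r : ℕ} (hr : r < 72) (t : F) :
    (root F r t : Matrix I27 I27 F) = 1 + t • toM F (ent r) := by
  rw [root, dif_pos hr]

theorem root_act {r : ℕ} (hr : r < 72) (t : F) (v : I27 → F) :
    act (root F r t) v = v + t • (toM F (ent r) *ᵥ v) := by
  simp [act, root_val hr, Matrix.add_mulVec, Matrix.smul_mulVec]

theorem co_root {r n : ℕ} (hr : r < 72) (hn : n < 27) (t : F) (v : I27 → F) :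
    co (act (root F r t) v) n =
      co v n + t * ((srcs r n).map fun x => (x.1 : F) * co v x.2).sum := by
  rw [root_act hr, co_add, co_smul, co_toM hr hn]

theorem root_mem {r : ℕ} (hr : r < 72) (t : F) : root F r t ∈ E6univ F := fun v => by
  show cubicT (act (root F r t) v) = cubicT v
  rw [root_act hr, cubicT_add, dv_smul_right, dv_smul_left, cubicT_smul, dv_toM hr,
    (toM_high hr v v).1, (toM_high hr v v).2]
  ring

theorem root_add {r : ℕ} (hr : r < 72) (t u : F) :
    root F r t * root F r u = root F r (t + u) := by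
  refine Units.ext ?_
  rw [Units.val_mul, root_val hr, root_val hr, root_val hr]
  simp [add_mul, mul_add, toM_sq hr, add_smul]
  abel

/-- Numbered entries as coordinate entries. -/
def d3 (x : ℕ × ℕ × ℤ) : I27 × I27 × ℤ := (dec x.1, dec x.2.1, x.2.2)

/-- Entries with numbers below 27. -/
def Bd (L : List (ℕ × ℕ × ℤ)) : Prop := ∀ x ∈ L, x.1 < 27 ∧ x.2.1 < 27

theorem bd_entN {r : ℕ} (hr : r < 72) : Bd (entN r) := fun x hx => by
  simpa using List.all_eq_true.1 (entN_bound r hr) x hx

theorem bd_append {L M : List (ℕ × ℕ × ℤ)} (hL : Bd L) (hM : Bd M) : Bd (L ++ M) := fun x hx =>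
  (List.mem_append.1 hx).elim (hL x) (hM x)

theorem bd_lscale {L : List (ℕ × ℕ × ℤ)} (C : ℤ) (hL : Bd L) : Bd (lscale C L) := fun x hx => by
  obtain ⟨y, hy, rfl⟩ := List.mem_map.1 hx
  exact hL y hy

theorem bd_lmul {L M : List (ℕ × ℕ × ℤ)} (hL : Bd L) (hM : Bd M) : Bd (lmul L M) := fun x hx => by
  obtain ⟨y, hy, hx⟩ := List.mem_flatMap.1 hx
  obtain ⟨z, hz, rfl⟩ := List.mem_map.1 hx
  exact ⟨(hL y hy).1, (hM z (List.mem_filter.1 hz).1).2⟩

theorem bd_nil : Bd [] := fun x hx => by simp at hx

theorem map_lscale (C : ℤ) (L : List (ℕ × ℕ × ℤ)) :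
    (lscale C L).map d3 = lscale C (L.map d3) := by
  simp only [lscale, List.map_map]
  rfl

theorem map_lmul {L M : List (ℕ × ℕ × ℤ)} (hL : Bd L) (hM : Bd M) :
    (lmul L M).map d3 = lmul (L.map d3) (M.map d3) := by
  rw [lmul, lmul, List.map_flatMap, List.flatMap_map]
  refine List.flatMap_congr fun x hx => ?_
  rw [List.filter_map, List.map_map, List.map_map]
  have e : M.filter (fun y => decide (x.2.1 = y.1)) =
      M.filter ((fun y => decide ((d3 x).2.1 = y.1)) ∘ d3) :=
    List.filter_congr fun y hy => decide_eq_decide.2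
      ⟨fun h => congrArg dec h, fun h => dec_inj (hL x hx).2 (hM y hy).1 h⟩
  rw [e]
  rfl

theorem coef_map {L : List (ℕ × ℕ × ℤ)} (hL : Bd L) {i j : ℕ} (hi : i < 27) (hj : j < 27) :
    coef (L.map d3) (dec i) (dec j) = coef L i j := by
  rw [coef, coef, List.map_map]
  refine congrArg List.sum (List.map_congr_left fun x hx => ?_)
  exact if_congr ⟨fun h => ⟨dec_inj (hL x hx).1 hi h.1, dec_inj (hL x hx).2 hj h.2⟩,
    fun h => ⟨congrArg dec h.1, congrArg dec h.2⟩⟩ rfl rfl

theorem same_map {L M : List (ℕ × ℕ × ℤ)} (hL : Bd L) (hM : Bd M)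
    (h : sameEntries L M = true) : sameEntries (L.map d3) (M.map d3) = true := by
  simp only [sameEntries, List.all_eq_true, beq_iff_eq, List.mem_append, List.mem_map] at h ⊢
  rintro x (⟨y, hy, rfl⟩ | ⟨y, hy, rfl⟩)
  · rw [d3, coef_map hL (hL y hy).1 (hL y hy).2, coef_map hM (hL y hy).1 (hL y hy).2]
    exact h y (Or.inl hy)
  · rw [d3, coef_map hL (hM y hy).1 (hM y hy).2, coef_map hM (hM y hy).1 (hM y hy).2]
    exact h y (Or.inr hy)

/-- The relation of a pair, as an identity of the nilpotent parts. -/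
def checkPair (r s : ℕ) : Bool :=
  match certFullE6.T.commTerms r s with
  | [] => sameEntries (lmul (entN s) (entN r)) (lmul (entN r) (entN s))
  | [(x, C, i, j)] =>
      Nat.beq i 1 && Nat.beq j 1 &&
      (sameEntries (lmul (entN s) (entN r)) (lmul (entN r) (entN s) ++ lscale (-C) (entN x)) &&
        sameEntries (lmul (entN r) (entN x)) [] && sameEntries (lmul (entN s) (entN x)) [])
  | _ => false

/-- The relations of the pairs starting in a row. -/
def checkRow (r : ℕ) : Bool :=
  (List.range 72).all fun s => Nat.beq s r || Nat.beq s (certFullE6.T.neg r) || checkPair r s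

theorem checkRows_a : ((List.range 24).all fun r => checkRow r) = true := by decide +kernel

theorem checkRows_b : ((List.range 24).all fun r => checkRow (24 + r)) = true := by decide +kernel

theorem checkRows_c : ((List.range 24).all fun r => checkRow (48 + r)) = true := by decide +kernel

theorem checkPair_all {r s : ℕ} (hr : r < 72) (hs : s < 72) (h1 : s ≠ r)
    (h2 : s ≠ certFullE6.T.neg r) : checkPair r s = true := by
  have key : checkRow r = true := by
    by_cases ha : r < 24
    · exact List.all_eq_true.1 checkRows_a r (List.mem_range.2 ha)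
    by_cases hb : r < 48
    · have := List.all_eq_true.1 checkRows_b (r - 24) (List.mem_range.2 (by omega))
      simpa [show 24 + (r - 24) = r by omega] using this
    · have := List.all_eq_true.1 checkRows_c (r - 48) (List.mem_range.2 (by omega))
      simpa [show 48 + (r - 48) = r by omega] using this
  simp only [checkRow, List.all_eq_true, List.mem_range, Bool.or_eq_true, Nat.beq_eq] at key
  rcases key s hs with (h | h) | h
  exacts [absurd h h1, absurd h h2, h]

theorem rel_eq {r s : ℕ} (hr : r < 72) (hs : s < 72) (h1 : s ≠ r)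
    (h2 : s ≠ certFullE6.T.neg r) (hx : ∀ x ∈ certFullE6.T.commTerms r s, x.1 < 72) (t u : F) :
    root F s u * root F r t = root F r t * root F s u *
      ((certFullE6.T.commTerms r s).map fun x =>
        root F x.1 ((x.2.1 : F) * (-t) ^ x.2.2.1 * u ^ x.2.2.2)).prod := by
  have h := checkPair_all hr hs h1 h2
  unfold checkPair at h
  refine Units.ext ?_
  match hL : certFullE6.T.commTerms r s, h with
  | [], h =>
    simp only [List.map_nil, List.prod_nil, mul_one, Units.val_mul, root_val hr, root_val hs]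
    have e := sameEntries_toM (F := F)
      (same_map (bd_lmul (bd_entN hs) (bd_entN hr)) (bd_lmul (bd_entN hr) (bd_entN hs)) h)
    rw [map_lmul (bd_entN hs) (bd_entN hr), map_lmul (bd_entN hr) (bd_entN hs), toM_lmul,
      toM_lmul] at e
    change toM F (ent s) * toM F (ent r) = toM F (ent r) * toM F (ent s) at e
    simp only [mul_add, add_mul, one_mul, mul_one, Matrix.smul_mul, Matrix.mul_smul, smul_smul, e,
      mul_comm u t]
    abel
  | [(x, C, i, j)], h =>
    simp only [Bool.and_eq_true, Nat.beq_eq] at h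
    obtain ⟨⟨rfl, rfl⟩, ⟨h0, h3⟩, h4⟩ := h
    have hx' : x < 72 := hx (x, C, 1, 1) (by rw [hL]; simp)
    have br := bd_entN hr
    have bs := bd_entN hs
    have bx := bd_entN hx'
    have e := sameEntries_toM (F := F)
      (same_map (bd_lmul bs br) (bd_append (bd_lmul br bs) (bd_lscale _ bx)) h0)
    have e3 := sameEntries_toM (F := F) (same_map (bd_lmul br bx) bd_nil h3)
    have e4 := sameEntries_toM (F := F) (same_map (bd_lmul bs bx) bd_nil h4)
    rw [List.map_append, map_lscale, map_lmul bs br, map_lmul br bs, toM_lmul, toM_append,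
      toM_lmul, toM_lscale] at e
    rw [map_lmul br bx, List.map_nil, toM_lmul, toM_nil] at e3
    rw [map_lmul bs bx, List.map_nil, toM_lmul, toM_nil] at e4
    change toM F (ent s) * toM F (ent r) =
      toM F (ent r) * toM F (ent s) + ((-C : ℤ) : F) • toM F (ent x) at e
    change toM F (ent r) * toM F (ent x) = 0 at e3
    change toM F (ent s) * toM F (ent x) = 0 at e4
    have e5 : toM F (ent r) * toM F (ent s) * toM F (ent x) = 0 := by
      rw [Matrix.mul_assoc, e4, Matrix.mul_zero]
    simp only [List.map_cons, List.map_nil, List.prod_cons, List.prod_nil, mul_one, pow_one,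
      Units.val_mul, root_val hr, root_val hs, root_val hx']
    simp only [mul_add, add_mul, one_mul, mul_one, Matrix.smul_mul, Matrix.mul_smul, smul_smul,
      Matrix.add_mul, e3, e4, e5, smul_zero, add_zero, e, Int.cast_neg, smul_add]
    module
  | _ :: _ :: _, h => simp at h

variable (F)

theorem nroots_E6 : chevE6.nroots = 72 := certFullE6.nroots_eq

/-- A root element in the universal group. -/
noncomputable def rootU (r : ℕ) (t : F) : E6univ F :=
  if hr : r < 72 then ⟨root F r t, root_mem hr t⟩ else 1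

theorem rootU_val (r : ℕ) (t : F) : (rootU F r t : GL I27 F) = root F r t := by
  unfold rootU root
  split_ifs <;> rfl

/-- The homomorphism from Steinberg's cover. -/
noncomputable def coverHom : chevE6.SteinbergCover F →* E6univ F :=
  PresentedGroup.toGroup (f := fun x : Fin chevE6.nroots × F => rootU F x.1 x.2) (by
    have hn := nroots_E6
    have hf : ∀ {r : ℕ} (hr : r < chevE6.nroots) (t : F), FreeGroup.lift
        (fun x : Fin chevE6.nroots × F => rootU F x.1 x.2) (chevE6.stX r t) = rootU F r t :=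
      fun {r} hr t => by rw [ChevalleyDatum.stX, dif_pos hr, FreeGroup.lift_apply_of]
    rintro g (⟨r, t, u, hr, rfl⟩ | ⟨r, s, t, u, hr, hs, h1, h2, rfl⟩)
    · have e : rootU F r t * rootU F r u = rootU F r (t + u) := Subtype.ext (by
        rw [Subgroup.coe_mul, rootU_val, rootU_val, rootU_val, root_add (hn ▸ hr)])
      simp only [map_mul, map_inv, hf hr, e, mul_inv_cancel]
    · have c := certFullE6.commTerms_eq hr hs
      have e : rootU F s u * rootU F r t = rootU F r t * rootU F s u *
          ((certFullE6.T.commTerms r s).map fun x =>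
            rootU F x.1 ((x.2.1 : F) * (-t) ^ x.2.2.1 * u ^ x.2.2.2)).prod := Subtype.ext (by
        rw [Subgroup.coe_mul, Subgroup.coe_mul, Subgroup.coe_mul, rootU_val, rootU_val,
          SubmonoidClass.coe_list_prod, List.map_map]
        simp only [Function.comp_def, rootU_val]
        exact rel_eq (hn ▸ hr) (hn ▸ hs) h1 (by rw [← certFullE6.neg_eq hr]; exact h2)
          (fun x hx => hn ▸ (certFullE6.mem_commTerms hr hs hx).1) t u)
      rw [map_mul, map_inv, mul_inv_eq_one]
      simp only [map_mul, map_inv, hf hr, hf hs]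
      rw [ChevalleyDatum.stWord, ChevalleyDatum.commWord, c, map_list_prod,
        List.map_map, List.map_map, mul_assoc _ (rootU F s u), e]
      have key : ∀ a b z : E6univ F, a⁻¹ * b⁻¹ * (b⁻¹⁻¹ * a * z) = z :=
        fun a b z => by group
      simp only [inv_inv] at key
      rw [key]
      exact congrArg List.prod (List.map_congr_left fun x hx =>
        (hf (certFullE6.mem_commTerms hr hs hx).1 _).symm))

theorem coverHom_X {r : ℕ} (hr : r < chevE6.nroots) (t : F) :
    coverHom F ((certFullE6.stCoverData F).X r t) = rootU F r t := by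
  show PresentedGroup.toGroup _ (PresentedGroup.mk _ (chevE6.stX r t)) = _
  rw [ChevalleyDatum.stX, dif_pos hr]
  exact PresentedGroup.toGroup.of _

/-- The group generated by the root elements. -/
noncomputable def rootGroup : Subgroup (GL I27 F) := (coverHom F).range.map (E6univ F).subtype

theorem root_mem_rootGroup {r : ℕ} (hr : r < 72) (t : F) : root F r t ∈ rootGroup F :=
  ⟨rootU F r t, ⟨_, coverHom_X F (nroots_E6 ▸ hr) t⟩, rootU_val F r t⟩

theorem rootGroup_le : rootGroup F ≤ E6univ F := Subgroup.map_subtype_le _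

end Cfsg.Agent.Lie.Chev.E6Cubic
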