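import Cfsg.Agent.Lib.Lie.Chev.E6CubicForm

/-! The root elements generate the whole isometry group of the cubic form. -/

set_option autoImplicit false
set_option linter.unusedSectionVars false
set_option maxRecDepth 4000

namespace Cfsg.Agent.Lie.Chev.E6Cubic

open Cfsg.Lie Matrix Cfsg.Agent.Lie.OrthGen

/-- The coefficients of `T (e_s, v, u)`. -/
def bil (s : ℕ) : List (ℤ × ℕ × ℕ) :=
  mons.flatMap fun m =>
    (if m.2.1 = s then [(m.1, m.2.2.1, m.2.2.2), (m.1, m.2.2.2, m.2.2.1)] else []) ++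
    ((if m.2.2.1 = s then [(m.1, m.2.1, m.2.2.2), (m.1, m.2.2.2, m.2.1)] else []) ++
    (if m.2.2.2 = s then [(m.1, m.2.1, m.2.2.1), (m.1, m.2.2.1, m.2.1)] else []))

/-- The coefficients of `T (e_s, v, e_y)`. -/
def lin (s y : ℕ) : List (ℤ × ℕ) :=
  ((bil s).filter fun m => m.2.2 == y).map fun m => (m.1, m.2.1)

/-- The coefficients of `D (v, e_w)`. -/
def quad (w : ℕ) : List (ℤ × ℕ × ℕ) :=
  mons.flatMap fun m =>
    (if m.2.1 = w then [(m.1, m.2.2.1, m.2.2.2)] else []) ++
    ((if m.2.2.1 = w then [(m.1, m.2.1, m.2.2.2)] else []) ++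
    (if m.2.2.2 = w then [(m.1, m.2.1, m.2.2.1)] else []))

/-- The coordinates fed by a coordinate. -/
def tgts (r a : ℕ) : List (ℤ × ℕ) :=
  ((entN r).filter fun x => x.2.1 == a).map fun x => (x.2.2, x.1)

variable {F : Type*} [Field F]

/-- A basis vector. -/
def bv (n : ℕ) : I27 → F := Pi.single (dec n) 1

theorem co_bv {a n : ℕ} (ha : a < 27) (hn : n < 27) :
    co (bv a : I27 → F) n = if n = a then 1 else 0 := by
  by_cases h : n = a
  · subst h; simp [co, bv]
  · rw [if_neg h, co, bv, Pi.single_eq_of_ne fun e => h (dec_inj hn ha e)]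

theorem bil_check : ∀ s < 27, (bil s).all (fun m =>
    Nat.blt m.2.1 27 && Nat.blt m.2.2 27 && (bil s).contains (m.1, m.2.2, m.2.1)) = true := by
  decide +kernel

theorem bil_ok {s : ℕ} (hs : s < 27) {m : ℤ × ℕ × ℕ} (hm : m ∈ bil s) :
    m.2.1 < 27 ∧ m.2.2 < 27 ∧ (m.1, m.2.2, m.2.1) ∈ bil s := by
  have := List.all_eq_true.1 (bil_check s hs) m hm
  simp only [Bool.and_eq_true, Nat.blt_eq, List.contains_eq_mem, decide_eq_true_eq] at this
  exact ⟨this.1.1, this.1.2, this.2⟩

theorem quad_check : ∀ w < 27, (quad w).all (fun m => Nat.blt m.2.1 27 && Nat.blt m.2.2 27) = true := by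
  decide +kernel

theorem quad_lt {w : ℕ} (hw : w < 27) {m : ℤ × ℕ × ℕ} (hm : m ∈ quad w) :
    m.2.1 < 27 ∧ m.2.2 < 27 := by
  simpa using List.all_eq_true.1 (quad_check w hw) m hm

theorem mons_lt {m : ℤ × ℕ × ℕ × ℕ} (hm : m ∈ mons) :
    m.2.1 < 27 ∧ m.2.2.1 < 27 ∧ m.2.2.2 < 27 := by
  have := List.all_eq_true.1 mons_bound m hm
  simp only [Bool.and_eq_true, decide_eq_true_eq] at this
  exact ⟨this.1.1, this.1.2, this.2⟩

theorem bf_bv {s : ℕ} (hs : s < 27) (v u : I27 → F) :
    bf (bv s) v u = ((bil s).map fun x => (x.1 : F) * (co v x.2.1 * co u x.2.2)).sum := by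
  rw [bil, List.map_flatMap, List.flatMap_def, List.sum_flatten, List.map_map, bf]
  refine congrArg List.sum (List.map_congr_left fun m hm => ?_)
  obtain ⟨ha, hb, hc⟩ := mons_lt hm
  simp only [Function.comp_apply, co_bv hs ha, co_bv hs hb, co_bv hs hc, List.map_append,
    List.sum_append]
  split_ifs <;> simp <;> ring

theorem bf_bv_bv {s y : ℕ} (hs : s < 27) (hy : y < 27) (v : I27 → F) :
    bf (bv s) v (bv y) = ((lin s y).map fun x => (x.1 : F) * co v x.2).sum := by
  have hb : ∀ x ∈ bil s, x.2.2 < 27 := fun x hx => (bil_ok hs hx).2.1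
  rw [bf_bv hs, lin, List.map_map]
  generalize bil s = L at hb ⊢
  induction L with
  | nil => simp
  | cons x L ih =>
    rw [List.map_cons, List.sum_cons, ih fun z hz => hb z (by simp [hz]), List.filter_cons,
      co_bv hy (hb x (by simp))]
    by_cases h : x.2.2 = y <;> simp [h]

theorem dv_bv {w : ℕ} (hw : w < 27) (v : I27 → F) :
    dv v (bv w) = ((quad w).map fun x => (x.1 : F) * (co v x.2.1 * co v x.2.2)).sum := by
  rw [quad, List.map_flatMap, List.flatMap_def, List.sum_flatten, List.map_map, dv]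
  refine congrArg List.sum (List.map_congr_left fun m hm => ?_)
  obtain ⟨ha, hb, hc⟩ := mons_lt hm
  simp only [Function.comp_apply, co_bv hw ha, co_bv hw hb, co_bv hw hc, List.map_append,
    List.sum_append]
  split_ifs <;> simp <;> ring

theorem mons_distinct : mons.all (fun m =>
    m.2.1 != m.2.2.1 && m.2.1 != m.2.2.2 && m.2.2.1 != m.2.2.2) = true := by decide +kernel

theorem dv_bv_left {c : ℕ} (hc : c < 27) (u : I27 → F) : dv (bv c) u = 0 := by
  rw [dv]
  refine List.sum_eq_zero fun x hx => ?_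
  obtain ⟨m, hm, rfl⟩ := List.mem_map.1 hx
  obtain ⟨ha, hb, hc'⟩ := mons_lt hm
  obtain ⟨⟨h1, h2⟩, h3⟩ : (m.2.1 ≠ m.2.2.1 ∧ m.2.1 ≠ m.2.2.2) ∧ m.2.2.1 ≠ m.2.2.2 := by
    simpa using List.all_eq_true.1 mons_distinct m hm
  rw [co_bv hc ha, co_bv hc hb, co_bv hc hc']
  split_ifs <;> simp_all

theorem act_root_bv {r a : ℕ} (hr : r < 72) (ha : a < 27) (t : F) :
    act (root F r t) (bv a) =
      bv a + ((tgts r a).map fun x => (t * (x.1 : F)) • (bv x.2 : I27 → F)).sum := by
  refine vec_ext fun n hn => ?_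
  rw [co_root hr hn, co_add]
  congr 1
  have hsum : ∀ L : List (ℤ × ℕ),
      co (L.map fun x => (t * (x.1 : F)) • (bv x.2 : I27 → F)).sum n =
        (L.map fun x => t * (x.1 : F) * co (bv x.2 : I27 → F) n).sum := fun L => by
    induction L with
    | nil => simp [co]
    | cons x L ih => simp [ih]
  rw [hsum, srcs, tgts, List.map_map, List.map_map, ← List.sum_map_mul_left]
  simp only [Function.comp_def, ← mul_assoc]
  have hb := bd_entN hr
  generalize entN r = L at hb ⊢
  induction L with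
  | nil => simp
  | cons x L ih =>
    have := hb x (by simp)
    have ih' := ih fun z hz => hb z (by simp [hz])
    simp only [List.filter_cons]
    by_cases h1 : x.1 = n <;> by_cases h2 : x.2.1 = a <;>
      simp [h1, h2, ih', co_bv ha this.2, co_bv this.1 hn, co_bv ha ha, co_bv hn hn, eq_comm (a := n)]

theorem act_apply (g : GL I27 F) (v : I27 → F) (i : I27) :
    act g v i = ∑ j, (g : Matrix I27 I27 F) i j * v j := rfl

theorem act_bv_apply (g : GL I27 F) (n : ℕ) (i : I27) :
    act g (bv n) i = (g : Matrix I27 I27 F) i (dec n) := by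
  rw [act_apply, Finset.sum_eq_single (dec n)]
  · simp [bv]
  · intro j _ hj; simp [bv, Pi.single_eq_of_ne hj]
  · simp

/-! ### Fixed lines -/

/-- The listed coordinate lines are fixed. -/
def Fixes (S : List ℕ) (g : GL I27 F) : Prop :=
  ∀ s ∈ S, ∃ l : F, l ≠ 0 ∧ act g (bv s) = l • bv s

theorem Fixes.mul {S : List ℕ} {g h : GL I27 F} (hg : Fixes S g) (hh : Fixes S h) :
    Fixes S (g * h) := fun s hs => by
  obtain ⟨l, hl, e⟩ := hh s hs
  obtain ⟨k, hk, e'⟩ := hg s hs
  exact ⟨l * k, mul_ne_zero hl hk, by rw [act_mul, e, act_smul, e', smul_smul]⟩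

/-- A root element fixes the listed lines. -/
def fixS (S : List ℕ) (r : ℕ) : Bool := S.all fun s => Nat.blt s 27 && (tgts r s).isEmpty

theorem fixes_root {S : List ℕ} {r : ℕ} (hr : r < 72) (h : fixS S r = true) (t : F) :
    Fixes S (root F r t) := fun s hs => by
  simp only [fixS, List.all_eq_true, Bool.and_eq_true, Nat.blt_eq, List.isEmpty_iff] at h
  obtain ⟨hs', he⟩ := h s hs
  exact ⟨1, one_ne_zero, by rw [act_root_bv hr hs', he]; simp⟩

/-- The unit `σ` at one coordinate. -/
def unitAt (L : List (ℤ × ℕ)) (x : ℕ) : Bool :=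
  match L with
  | [(σ, w)] => Nat.beq w x && (σ * σ == 1)
  | _ => false

theorem unitAt_spec {L : List (ℤ × ℕ)} {x : ℕ} (h : unitAt L x = true) :
    ∃ σ : ℤ, σ * σ = 1 ∧ L = [(σ, x)] := by
  unfold unitAt at h
  split at h
  · simp only [Bool.and_eq_true, Nat.beq_eq, beq_iff_eq] at h
    obtain ⟨rfl, h⟩ := h
    exact ⟨_, h, rfl⟩
  · simp at h

theorem unit_ne {σ : ℤ} (h : σ * σ = 1) : (σ : F) ≠ 0 := fun e => by
  have := congrArg (Int.cast : ℤ → F) h
  simp [e] at this

/-- A coordinate of the image of `e_c` that must vanish. -/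
def forb (S : List ℕ) (c x : ℕ) : Bool :=
  S.any fun s => ((lin s c).isEmpty && (List.range 27).any fun y => unitAt (lin s y) x) ||
    (S.any fun t => !(Nat.beq x c) && unitAt (lin s t) x)

/-- The image of `e_c` has a non-zero coordinate at `c`. -/
def forced (S : List ℕ) (c : ℕ) : Bool := S.any fun s => S.any fun t => unitAt (lin s t) c

/-- Follows a coordinate under a Weyl element. -/
def step (r x : ℕ) : Option ℕ :=
  match tgts r x with
  | [(e, b)] => if srcs r b == [(e, x)] && srcs (71 - r) x == [(e, b)] && (srcs r x).isEmpty &&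
      (srcs (71 - r) b).isEmpty && (e * e == 1) && Nat.blt b 27 then some b else none
  | _ => none

/-- A word of Weyl elements moving one coordinate to another. -/
def pathOK (S : List ℕ) : List ℕ → ℕ → ℕ → Bool
  | [], x, c => Nat.beq x c
  | r :: L, x, c => Nat.blt r 72 && fixS S r && fixS S (71 - r) &&
    match step r x with
    | some b => pathOK S L b c
    | none => false

/-- A neighbour of `c`. -/
def nbr (c x : ℕ) : Bool := (lin c x).isEmpty && !(Nat.beq x c)

/-- A neighbour is forbidden or can be cleared. -/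
def clearable (S : List ℕ) (c x : ℕ) : Bool :=
  forb S c x ||
    ((moveTab.filter fun m => Nat.beq m.1 c && Nat.beq m.2.1 x).any fun m =>
      Nat.blt m.2.2 72 && fixS S m.2.2 && (srcs m.2.2 c).isEmpty && unitAt (srcs m.2.2 x) c &&
      (List.range 27).all fun y => !(nbr c y) || Nat.beq y x || (srcs m.2.2 y).isEmpty)

/-- The other coordinates are killed by singularity. -/
def killed (c x : ℕ) : Bool :=
  (List.range 27).any fun w =>
    match (quad w).filter fun m => !(nbr c m.2.1) && !(nbr c m.2.2) with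
    | [(σ, a, b)] => (σ * σ == 1) && ((Nat.beq a c && Nat.beq b x) || (Nat.beq a x && Nat.beq b c))
    | _ => false

/-- The coordinates among which the image of `e_c` is not zero, each movable to `c`. -/
def movable (S : List ℕ) (c : ℕ) (w : Option ℕ) (P : List (ℕ × List ℕ)) : Bool :=
  let ok : ℕ → Bool := fun x => forb S c x || P.any fun p => Nat.beq p.1 x && pathOK S p.2 x c
  forced S c ||
    match w with
    | none => (List.range 27).all fun x => S.contains x || ok x
    | some s => S.contains s && !(lin s c).isEmpty &&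
        (List.range 27).any (fun y => unitAt (lin s y) c) &&
        (List.range 27).all fun x => !((bil s).any fun m => Nat.beq m.2.1 x) || ok x

/-- One stage. -/
def stageOK (S : List ℕ) (st : ℕ × Option ℕ × List (ℕ × List ℕ)) : Bool :=
  Nat.blt st.1 27 && !(S.contains st.1) && S.all (fun s => Nat.blt s 27) &&
    movable S st.1 st.2.1 st.2.2 &&
    (List.range 27).all fun x =>
      Nat.beq x st.1 || (if nbr st.1 x then clearable S st.1 x else killed st.1 x)

/-- All stages. -/
def allStages : List ℕ → List (ℕ × Option ℕ × List (ℕ × List ℕ)) → Bool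
  | S, [] => (List.range 27).all fun x => S.contains x
  | S, st :: L => stageOK S st && allStages (st.1 :: S) L

theorem allStages_ok : allStages [] stages = true := by decide +kernel

section Stage

variable [Fintype F] (hF : 3 ≤ Fintype.card F) {S : List ℕ} (hS : ∀ s ∈ S, s < 27)
  {g : GL I27 F} (hg : g ∈ E6univ F) (hfix : Fixes S g) {c : ℕ} (hc : c < 27)

include hF hS hg hfix hc

theorem bf_pair {s : ℕ} (hs : s ∈ S) (u : I27 → F) :
    ∃ l : F, l ≠ 0 ∧ l * bf (bv s) (act g (bv c)) (act g u) = bf (bv s) (bv c) u := by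
  obtain ⟨l, hl, e⟩ := hfix s hs
  exact ⟨l, hl, by rw [← bf_smul_left, ← e, act_bf hF hg]⟩

theorem forb_spec {x : ℕ} (h : forb S c x = true) : co (act g (bv c)) x = 0 := by
  simp only [forb, List.any_eq_true, Bool.or_eq_true, Bool.and_eq_true, List.isEmpty_iff,
    List.mem_range, Bool.not_eq_true'] at h
  obtain ⟨s, hs, (⟨he, y, hy, hu⟩ | ⟨t, ht, hxc, hu⟩)⟩ := h
  · obtain ⟨σ, hσ, hu⟩ := unitAt_spec hu
    obtain ⟨l, hl, e⟩ := bf_pair hF hS hg hfix hc hs (act g⁻¹ (bv y))
    have h0 : bf (bv s) (bv c) (act g⁻¹ (bv y)) = (0 : F) := by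
      rw [bf_bv (hS s hs)]
      refine List.sum_eq_zero fun z hz => ?_
      obtain ⟨m, hm, rfl⟩ := List.mem_map.1 hz
      by_cases hmc : m.2.1 = c
      · exfalso
        have hsym : (m.1, m.2.2, m.2.1) ∈ bil s := (bil_ok (hS s hs) hm).2.2
        have : (m.1, m.2.2) ∈ lin s c :=
          List.mem_map.2 ⟨_, List.mem_filter.2 ⟨hsym, by simp [hmc]⟩, rfl⟩
        simp [he] at this
      · have hb : m.2.1 < 27 := (bil_ok (hS s hs) hm).1
        simp [co_bv hc hb, hmc]
    rw [h0, ← act_mul, mul_inv_cancel, act_one, bf_bv_bv (hS s hs) hy, hu] at e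
    simpa [hl, unit_ne hσ] using e
  · obtain ⟨σ, hσ, hu⟩ := unitAt_spec hu
    obtain ⟨l, hl, e⟩ := bf_pair hF hS hg hfix hc hs (bv t)
    obtain ⟨k, hk, e'⟩ := hfix t ht
    have hx : x ≠ c := fun h => by simp [h] at hxc
    rw [e', bf_smul_right, bf_bv_bv (hS s hs) (hS t ht), bf_bv_bv (hS s hs) (hS t ht), hu] at e
    have hx27 : x < 27 := by
      have : (σ, x) ∈ lin s t := by simp [hu]
      obtain ⟨m, hm, e⟩ := List.mem_map.1 this
      simp only [Prod.mk.injEq] at e
      rw [← e.2]
      exact (bil_ok (hS s hs) (List.mem_filter.1 hm).1).1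
    simpa [hl, hk, unit_ne hσ, co_bv hc hx27, hx] using e

theorem forced_spec (h : forced S c = true) : co (act g (bv c)) c ≠ 0 := by
  simp only [forced, List.any_eq_true] at h
  obtain ⟨s, hs, t, ht, hu⟩ := h
  obtain ⟨σ, hσ, hu⟩ := unitAt_spec hu
  obtain ⟨l, hl, e⟩ := bf_pair hF hS hg hfix hc hs (bv t)
  obtain ⟨k, hk, e'⟩ := hfix t ht
  rw [e', bf_smul_right, bf_bv_bv (hS s hs) (hS t ht), bf_bv_bv (hS s hs) (hS t ht), hu] at e
  intro h0
  simp [h0, co_bv hc hc] at e
  exact unit_ne hσ e.symm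

theorem exists_outside (hcS : c ∉ S) : ∃ x < 27, x ∉ S ∧ co (act g (bv c)) x ≠ 0 := by
  by_contra hcon
  push Not at hcon
  have h1 : act g⁻¹ (act g (bv c)) = (bv c : I27 → F) := by
    rw [← act_mul, inv_mul_cancel, act_one]
  have h2 := congrFun h1 (dec c)
  rw [act_apply, Finset.sum_eq_zero] at h2
  · rw [bv, Pi.single_eq_same] at h2
    exact zero_ne_one h2
  intro i _
  obtain ⟨n, hn, rfl⟩ := dec_surj i
  by_cases hnS : n ∈ S
  · obtain ⟨l, hl, e⟩ := hfix n hnS
    have e2 : act g⁻¹ (bv n) = l⁻¹ • (bv n : I27 → F) := by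
      rw [← inv_smul_smul₀ hl (act g⁻¹ (bv n)), ← act_smul, ← e, ← act_mul, inv_mul_cancel,
        act_one]
    have e3 := congrFun e2 (dec c)
    rw [act_bv_apply, Pi.smul_apply, bv,
      Pi.single_eq_of_ne (fun e : (dec c : I27) = dec n => hcS (dec_inj hc hn e ▸ hnS)),
      smul_zero] at e3
    rw [e3, zero_mul]
  · rw [show (act g (bv c)) (dec n) = co (act g (bv c)) n from rfl, hcon n hn hnS, mul_zero]

theorem exists_adj {s : ℕ} (hs : s ∈ S) (hu : ∃ y < 27, unitAt (lin s y) c = true) :
    ∃ x < 27, (∃ m ∈ bil s, m.2.1 = x) ∧ co (act g (bv c)) x ≠ 0 := by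
  by_contra hcon
  push Not at hcon
  obtain ⟨y, hy, hu⟩ := hu
  obtain ⟨σ, hσ, hu⟩ := unitAt_spec hu
  obtain ⟨l, hl, e⟩ := bf_pair hF hS hg hfix hc hs (bv y)
  rw [bf_bv_bv (hS s hs) hy, hu, bf_bv (hS s hs), List.sum_eq_zero, mul_zero] at e
  · simp [co_bv hc hc, (unit_ne hσ).symm] at e
  intro z hz
  obtain ⟨m, hm, rfl⟩ := List.mem_map.1 hz
  have hb : m.2.1 < 27 := (bil_ok (hS s hs) hm).1
  rw [hcon _ hb ⟨m, hm, rfl⟩, zero_mul, mul_zero]

end Stage

theorem step_spec {S : List ℕ} {r x b : ℕ} (hr : r < 72) (hx : x < 27) (h1 : fixS S r = true)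
    (h2 : fixS S (71 - r) = true) (h : step r x = some b) :
    b < 27 ∧ ∃ n ∈ rootGroup F, Fixes S n ∧ ∀ v : I27 → F, co v x ≠ 0 → co (act n v) b ≠ 0 := by
  unfold step at h
  split at h
  · rename_i e b' he
    split_ifs at h with hc
    simp only [Option.some.injEq] at h
    subst h
    simp only [Bool.and_eq_true, beq_iff_eq, List.isEmpty_iff, Nat.blt_eq] at hc
    obtain ⟨⟨⟨⟨⟨hrb, hnx⟩, hrx⟩, hnb⟩, hsq⟩, hb⟩ := hc
    have hr' : 71 - r < 72 := by omega
    refine ⟨hb, root F r 1 * (root F (71 - r) (-1) * root F r 1),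
      mul_mem (root_mem_rootGroup F hr 1)
        (mul_mem (root_mem_rootGroup F hr' _) (root_mem_rootGroup F hr 1)),
      (fixes_root hr h1 1).mul ((fixes_root hr' h2 _).mul (fixes_root hr h1 1)), fun v hv => ?_⟩
    rw [act_mul, act_mul, co_root hr hb, hrb, co_root hr' hb, hnb]
    simp only [List.map_cons, List.map_nil, List.sum_cons, List.sum_nil]
    rw [co_root hr' hx, hnx]
    simp only [List.map_cons, List.map_nil, List.sum_cons, List.sum_nil]
    rw [co_root hr hb, co_root hr hx, hrb, hrx]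
    simp only [List.map_cons, List.map_nil, List.sum_cons, List.sum_nil]
    have e2 : (e : F) * e = 1 := by rw [← Int.cast_mul, hsq, Int.cast_one]
    intro h0
    apply mul_ne_zero (unit_ne hsq) hv
    linear_combination h0 + (co v b' + (e : F) * co v x) * e2
  · simp at h

theorem path_spec {S : List ℕ} : ∀ (L : List ℕ) (x c : ℕ), x < 27 → pathOK S L x c = true →
    ∀ v : I27 → F, co v x ≠ 0 → ∃ n ∈ rootGroup F, Fixes S n ∧ co (act n v) c ≠ 0
  | [], x, c, _, h, v, hv => by
    simp only [pathOK, Nat.beq_eq] at h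
    subst h
    exact ⟨1, one_mem _, fun s _ => ⟨1, one_ne_zero, by rw [act_one, one_smul]⟩,
      by rwa [act_one]⟩
  | r :: L, x, c, hx, h, v, hv => by
    simp only [pathOK, Bool.and_eq_true, Nat.blt_eq] at h
    obtain ⟨⟨⟨hr, h1⟩, h2⟩, h⟩ := h
    cases hb : step r x with
    | none => simp [hb] at h
    | some b =>
      simp only [hb] at h
      obtain ⟨hb', n, hn, hnf, hnv⟩ := step_spec (F := F) hr hx h1 h2 hb
      obtain ⟨m, hm, hmf, hmv⟩ := path_spec L b c hb' h _ (hnv v hv)
      exact ⟨m * n, mul_mem hm hn, hmf.mul hnf, by rwa [act_mul]⟩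

theorem stage_spec [Fintype F] (hF : 3 ≤ Fintype.card F) {S : List ℕ}
    {st : ℕ × Option ℕ × List (ℕ × List ℕ)} (hst : stageOK S st = true) {g : GL I27 F}
    (hg : g ∈ E6univ F) (hfix : Fixes S g) :
    ∃ h ∈ rootGroup F, Fixes (st.1 :: S) (h * g) := by
  obtain ⟨c, w, P⟩ := st
  simp only [stageOK, Bool.and_eq_true, Nat.blt_eq, List.all_eq_true, List.mem_range,
    Bool.not_eq_true', List.contains_eq_mem, decide_eq_false_iff_not] at hst
  obtain ⟨⟨⟨⟨hc, hcS⟩, hS⟩, hmov⟩, hall⟩ := hst
  have hmem : ∀ h ∈ rootGroup F, h * g ∈ E6univ F := fun h hh => mul_mem (rootGroup_le F hh) hg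
  -- a non-zero coordinate at `c`
  obtain ⟨h₀, hh₀, hf₀, hv₀⟩ :
      ∃ h ∈ rootGroup F, Fixes S h ∧ co (act (h * g) (bv c)) c ≠ 0 := by
    have use_ok : ∀ x < 27, co (act g (bv c)) x ≠ 0 →
        ((forb S c x || P.any fun p => Nat.beq p.1 x && pathOK S p.2 x c) = true) →
        ∃ h ∈ rootGroup F, Fixes S h ∧ co (act (h * g) (bv c)) c ≠ 0 := fun x hx hv hok => by
      simp only [Bool.or_eq_true, List.any_eq_true, Bool.and_eq_true] at hok
      rcases hok with hfb | ⟨p, -, -, hp⟩
      · exact absurd (forb_spec hF hS hg hfix hc hfb) hv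
      · obtain ⟨n, hn, hnf, hnv⟩ := path_spec p.2 x c hx hp _ hv
        exact ⟨n, hn, hnf, by rwa [act_mul]⟩
    simp only [movable, Bool.or_eq_true] at hmov
    rcases hmov with hfo | hmov
    · exact ⟨1, one_mem _, fun s _ => ⟨1, one_ne_zero, by rw [act_one, one_smul]⟩,
        by rw [one_mul]; exact forced_spec hF hS hg hfix hc hfo⟩
    cases w with
    | none =>
      simp only [List.all_eq_true, List.mem_range, Bool.or_eq_true, List.contains_eq_mem,
        decide_eq_true_eq] at hmov
      obtain ⟨x, hx, hxS, hv⟩ := exists_outside hF hS hg hfix hc hcS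
      exact use_ok x hx hv (by simpa using (hmov x hx).resolve_left hxS)
    | some s =>
      simp only [Bool.and_eq_true, List.contains_eq_mem, decide_eq_true_eq, List.any_eq_true,
        List.all_eq_true, List.mem_range, Bool.or_eq_true, Bool.not_eq_true'] at hmov
      obtain ⟨⟨⟨hs, -⟩, hu⟩, hall'⟩ := hmov
      obtain ⟨x, hx, ⟨m, hm, hmx⟩, hv⟩ := exists_adj hF hS hg hfix hc hs hu
      refine use_ok x hx hv ?_
      have h' := (hall' x hx).resolve_left fun h => by
        rw [List.any_eq_false] at h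
        exact h m hm (by simp [hmx])
      simpa using h'
  -- clearing the neighbours
  have clear : ∀ L : List ℕ, (∀ x ∈ L, x < 27 ∧ nbr c x = true) →
      ∃ h ∈ rootGroup F, Fixes S h ∧ co (act (h * g) (bv c)) c ≠ 0 ∧
        ∀ x ∈ L, co (act (h * g) (bv c)) x = 0 := by
    intro L
    induction L with
    | nil => exact fun _ => ⟨h₀, hh₀, hf₀, hv₀, fun x hx => by simp at hx⟩
    | cons x L ih =>
      intro hL
      obtain ⟨h, hh, hf, hv, hz⟩ := ih fun y hy => hL y (by simp [hy])
      obtain ⟨hx, hxn⟩ := hL x (by simp)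
      by_cases hx0 : co (act (h * g) (bv c)) x = 0
      · exact ⟨h, hh, hf, hv, fun y hy => (List.mem_cons.1 hy).elim (fun e => e ▸ hx0) (hz y)⟩
      have hcx := hall x hx
      have hne : x ≠ c := fun e => by simp [nbr, e] at hxn
      simp only [Bool.or_eq_true, Nat.beq_eq, hne, false_or, hxn, if_true] at hcx
      simp only [clearable, Bool.or_eq_true, List.any_eq_true, Bool.and_eq_true, Nat.blt_eq,
        List.all_eq_true, List.mem_range, Bool.not_eq_true', List.isEmpty_iff, Nat.beq_eq] at hcx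
      rcases hcx with hfb | ⟨m, -, ⟨⟨⟨hr, hfr⟩, hrc⟩, hu⟩, hoth⟩
      · exact absurd (forb_spec hF hS (hmem h hh) (hf.mul hfix) hc hfb) hx0
      obtain ⟨σ, hσ, hu⟩ := unitAt_spec hu
      set v := act (h * g) (bv c) with hvdef
      set t := -(co v x) / ((σ : F) * co v c) with ht
      refine ⟨root F m.2.2 t * h, mul_mem (root_mem_rootGroup F hr t) hh,
        (fixes_root hr hfr t).mul hf, ?_, fun y hy => ?_⟩
      · rw [mul_assoc, act_mul, co_root hr hc, hrc]; simpa using hv
      rw [mul_assoc, act_mul, ← hvdef]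
      rcases eq_or_ne y x with rfl | hyx
      · rw [co_root hr hx, hu, ht]
        have := unit_ne (F := F) hσ
        simp only [List.map_cons, List.map_nil, List.sum_cons, List.sum_nil, add_zero]
        field_simp
        ring
      · have hy' : y ∈ L := (List.mem_cons.1 hy).resolve_left hyx
        obtain ⟨hy27, hyn⟩ := hL y hy
        have := hoth y hy27
        have hem : srcs m.2.2 y = [] := by simpa [hyn, hyx] using this
        rw [co_root hr hy27, hem, hz y hy']
        simp
  obtain ⟨h₁, hh₁, hf₁, hv₁, hclr⟩ :=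
    clear ((List.range 27).filter (nbr c)) (fun x hx => by simpa using hx)
  refine ⟨h₁, hh₁, ?_⟩
  set v := act (h₁ * g) (bv c) with hvdef
  have hnb : ∀ x < 27, nbr c x = true → co v x = 0 := fun x hx hn =>
    hclr x (List.mem_filter.2 ⟨List.mem_range.2 hx, hn⟩)
  have hzero : ∀ x < 27, x ≠ c → co v x = 0 := fun x hx hne => by
    by_cases hn : nbr c x = true
    · exact hnb x hx hn
    have hk := hall x hx
    simp only [Bool.or_eq_true, Nat.beq_eq, hne, false_or, hn, Bool.false_eq_true, if_false,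
      killed, List.any_eq_true, List.mem_range] at hk
    obtain ⟨w', hw', hk⟩ := hk
    have hD : dv v (bv w') = 0 := by
      have e := act_dv hF (hmem h₁ hh₁) (bv c) (act (h₁ * g)⁻¹ (bv w'))
      rwa [← act_mul, mul_inv_cancel, act_one, ← hvdef, dv_bv_left hc] at e
    rw [dv_bv hw'] at hD
    have hq : ∀ m ∈ quad w', m.2.1 < 27 ∧ m.2.2 < 27 := fun m hm => quad_lt hw' hm
    have hfil : ((quad w').map fun m => (m.1 : F) * (co v m.2.1 * co v m.2.2)).sum =
        (((quad w').filter fun m => !(nbr c m.2.1) && !(nbr c m.2.2)).map fun m =>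
          (m.1 : F) * (co v m.2.1 * co v m.2.2)).sum := by
      generalize quad w' = L at hq ⊢
      induction L with
      | nil => simp
      | cons m L ih =>
        rw [List.map_cons, List.sum_cons, ih fun z hz => hq z (by simp [hz]), List.filter_cons]
        obtain ⟨hm1, hm2⟩ := hq m (by simp)
        by_cases h1 : nbr c m.2.1 = true
        · simp [h1, hnb _ hm1 h1]
        by_cases h2 : nbr c m.2.2 = true
        · simp [h2, hnb _ hm2 h2]
        simp [h1, h2]
    rw [hfil] at hD
    split at hk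
    · rename_i σ a b hL
      simp only [Bool.and_eq_true, beq_iff_eq, Bool.or_eq_true, Nat.beq_eq] at hk
      obtain ⟨hσ, hab⟩ := hk
      rw [hL] at hD
      simp only [List.map_cons, List.map_nil, List.sum_cons, List.sum_nil, add_zero,
        mul_eq_zero, unit_ne hσ, false_or] at hD
      rcases hab with ⟨rfl, rfl⟩ | ⟨rfl, rfl⟩
      · exact hD.resolve_left hv₁
      · exact hD.resolve_right hv₁
    · simp at hk
  intro s hs
  rcases List.mem_cons.1 hs with rfl | hs
  · refine ⟨co v s, hv₁, vec_ext fun x hx => ?_⟩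
    rw [co_smul, co_bv hc hx, ← hvdef]
    split_ifs with h
    · rw [h, mul_one]
    · rw [mul_zero, hzero x hx h]
  · exact hf₁.mul hfix s hs

theorem stages_spec [Fintype F] (hF : 3 ≤ Fintype.card F) :
    ∀ (L : List (ℕ × Option ℕ × List (ℕ × List ℕ))) (S : List ℕ), allStages S L = true →
      ∀ g : GL I27 F, g ∈ E6univ F → Fixes S g →
        ∃ h ∈ rootGroup F, Fixes (List.range 27) (h * g)
  | [], S, h, g, _, hf => ⟨1, one_mem _, fun s hs => by
      simp only [allStages, List.all_eq_true, List.contains_eq_mem, decide_eq_true_eq] at h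
      rw [one_mul]
      exact hf s (h s hs)⟩
  | st :: L, S, h, g, hg, hf => by
    simp only [allStages, Bool.and_eq_true] at h
    obtain ⟨k, hk, hkf⟩ := stage_spec hF h.1 hg hf
    obtain ⟨m, hm, hmf⟩ := stages_spec hF L _ h.2 _ (mul_mem (rootGroup_le F hk) hg) hkf
    exact ⟨m * k, mul_mem hm hk, by rwa [mul_assoc]⟩

/-! ### The torus -/

/-- A weight entry. -/
def wt (a p : ℕ) : ℤ := (weight.getD a []).getD p 0

/-- A simple root index. -/
def sroot (p : ℕ) : ℕ := [56, 46, 42, 39, 37, 36].getD p 0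

/-- The weight entry is read off the root elements. -/
def weightOK (p a : ℕ) : Bool :=
  let r := sroot p
  let q := 71 - r
  Nat.blt r 72 &&
  if wt a p == 0 then (tgts r a).isEmpty && (tgts q a).isEmpty
  else if wt a p == 1 then
    match tgts q a with
    | [(e, b)] => Nat.blt b 27 && (e * e == 1) && tgts r b == [(e, a)] && (tgts r a).isEmpty &&
        (tgts q b).isEmpty
    | _ => false
  else (wt a p == -1) &&
    match tgts r a with
    | [(e, b)] => Nat.blt b 27 && (e * e == 1) && tgts q b == [(e, a)] && (tgts q a).isEmpty &&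
        (tgts r b).isEmpty
    | _ => false

theorem weightOK_all : ∀ p < 6, ∀ a < 27, weightOK p a = true := by decide +kernel

/-- A Weyl element with a parameter. -/
noncomputable def wel (r : ℕ) (t : F) : GL I27 F :=
  root F r t * root F (71 - r) (-t⁻¹) * root F r t

theorem wel_src {r a b : ℕ} {e : ℤ} (hr : r < 72) (ha : a < 27) (hb : b < 27) (he : e * e = 1)
    (h1 : tgts r a = [(e, b)]) (h2 : tgts (71 - r) b = [(e, a)]) (h3 : tgts (71 - r) a = [])
    (h4 : tgts r b = []) {t : F} (ht : t ≠ 0) :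
    act (wel r t) (bv a) = (t * e) • (bv b : I27 → F) := by
  have hq : 71 - r < 72 := by omega
  have e2 : (e : F) * e = 1 := by rw [← Int.cast_mul, he, Int.cast_one]
  simp only [wel, act_mul, act_root_bv hr ha, h1, List.map_cons, List.map_nil, List.sum_cons,
    List.sum_nil, add_zero, act_add, act_smul, act_root_bv hq ha, h3, act_root_bv hq hb, h2,
    act_root_bv hr hb, h4]
  have e3 : t * (e : F) * (-t⁻¹ * e) = -1 := by
    calc t * (e : F) * (-t⁻¹ * e) = -((t * t⁻¹) * ((e : F) * e)) := by ring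
      _ = -1 := by rw [mul_inv_cancel₀ ht, e2, mul_one]
  simp only [smul_add, smul_smul, e3]
  match_scalars
  all_goals first
    | linear_combination (t * e) * e3
    | linear_combination e3
    | ring

theorem wel_tgt {r a b : ℕ} {e : ℤ} (hr : r < 72) (ha : a < 27) (hb : b < 27) (he : e * e = 1)
    (h1 : tgts (71 - r) a = [(e, b)]) (h2 : tgts r b = [(e, a)]) (h3 : tgts r a = [])
    {t : F} (ht : t ≠ 0) :
    act (wel r t) (bv a) = (-t⁻¹ * e) • (bv b : I27 → F) := by
  have hq : 71 - r < 72 := by omega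
  have e2 : (e : F) * e = 1 := by rw [← Int.cast_mul, he, Int.cast_one]
  simp only [wel, act_mul, act_root_bv hr ha, h3, List.map_cons, List.map_nil, List.sum_cons,
    List.sum_nil, add_zero, act_add, act_smul, act_root_bv hq ha, h1, act_root_bv hr hb, h2]
  have e3 : (-t⁻¹ * (e : F)) * (t * e) = -1 := by
    calc (-t⁻¹ * (e : F)) * (t * e) = -((t * t⁻¹) * ((e : F) * e)) := by ring
      _ = -1 := by rw [mul_inv_cancel₀ ht, e2, mul_one]
  simp only [smul_add, smul_smul, e3]
  module

/-- A torus element. -/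
noncomputable def tor (p : ℕ) (t : Fˣ) : GL I27 F :=
  wel (sroot p) (t : F) * wel (sroot p) (-1)

theorem tor_mem {p : ℕ} (hp : p < 6) (t : Fˣ) : tor p t ∈ rootGroup F := by
  have hr : sroot p < 72 := by
    have := weightOK_all p hp 0 (by norm_num)
    simp only [weightOK, Bool.and_eq_true, Nat.blt_eq] at this
    exact this.1
  have hq : 71 - sroot p < 72 := by omega
  exact mul_mem (mul_mem (mul_mem (root_mem_rootGroup F hr _) (root_mem_rootGroup F hq _))
    (root_mem_rootGroup F hr _)) (mul_mem (mul_mem (root_mem_rootGroup F hr _)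
      (root_mem_rootGroup F hq _)) (root_mem_rootGroup F hr _))

theorem act_tor {p a : ℕ} (hp : p < 6) (ha : a < 27) (t : Fˣ) :
    act (tor p t) (bv a) = ((t ^ wt a p : Fˣ) : F) • (bv a : I27 → F) := by
  have h := weightOK_all p hp a ha
  simp only [weightOK, Bool.and_eq_true, Nat.blt_eq] at h
  obtain ⟨hr, h⟩ := h
  have hn1 : (-1 : F) ≠ 0 := neg_ne_zero.2 one_ne_zero
  have hq : 71 - sroot p < 72 := by omega
  rw [tor, act_mul]
  split_ifs at h with h0 h1
  · simp only [Bool.and_eq_true, List.isEmpty_iff] at h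
    rw [beq_iff_eq] at h0
    simp [wel, act_mul, act_root_bv hr ha, act_root_bv hq ha, h.1, h.2, h0]
  · rw [beq_iff_eq] at h1
    split at h
    · rename_i e b he
      simp only [Bool.and_eq_true, Nat.blt_eq, beq_iff_eq, List.isEmpty_iff] at h
      obtain ⟨⟨⟨⟨hb, hsq⟩, h2⟩, h3⟩, h4⟩ := h
      rw [wel_tgt hr ha hb hsq he h2 h3 hn1, act_smul,
        wel_src hr hb ha hsq h2 he h4 h3 t.ne_zero, smul_smul, h1, zpow_one]
      congr 1
      have e2 : (e : F) * e = 1 := by rw [← Int.cast_mul, hsq, Int.cast_one]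
      rw [inv_neg, inv_one]
      linear_combination (t : F) * e2
    · simp at h
  · simp only [Bool.and_eq_true, beq_iff_eq] at h
    obtain ⟨hm, h⟩ := h
    split at h
    · rename_i e b he
      simp only [Bool.and_eq_true, Nat.blt_eq, beq_iff_eq, List.isEmpty_iff] at h
      obtain ⟨⟨⟨⟨hb, hsq⟩, h2⟩, h3⟩, h4⟩ := h
      rw [wel_src hr ha hb hsq he h2 h3 h4 hn1, act_smul,
        wel_tgt hr hb ha hsq h2 he h4 t.ne_zero, smul_smul, hm, _root_.zpow_neg_one,
        Units.val_inv_eq_inv_val]
      congr 1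
      have e2 : (e : F) * e = 1 := by rw [← Int.cast_mul, hsq, Int.cast_one]
      linear_combination (t : F)⁻¹ * e2
    · simp at h

theorem exists_torus (t : ℕ → Fˣ) : ∀ k ≤ 6, ∃ h ∈ rootGroup F, ∀ a < 27,
    act h (bv a) = ((∏ p ∈ Finset.range k, t p ^ wt a p : Fˣ) : F) • (bv a : I27 → F)
  | 0, _ => ⟨1, one_mem _, fun a _ => by simp [act_one]⟩
  | k + 1, hk => by
    obtain ⟨h, hh, he⟩ := exists_torus t k (by omega)
    refine ⟨h * tor k (t k), mul_mem hh (tor_mem (by omega) _), fun a ha => ?_⟩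
    rw [act_mul, act_tor (by omega) ha, act_smul, he a ha, smul_smul, Finset.prod_range_succ,
      Units.val_mul, mul_comm]

/-- An entry of the inverse. -/
def finv (p k : ℕ) : ℤ := (frameInv.getD p []).getD k 0

theorem frame_inv : ∀ i < 6, ∀ k < 6,
    (∑ p ∈ Finset.range 6, finv p k * wt (frame.getD i 0) p) = if k = i then 1 else 0 := by
  decide +kernel

theorem frame_lt : ∀ i < 6, frame.getD i 0 < 27 := by decide +kernel

/-- The steps determine every coordinate from the frame. -/
def coverOK : List (ℕ × ℕ × ℕ) → List ℕ → Bool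
  | [], K => (List.range 27).all fun x => K.contains x
  | (u, a, b) :: L, K => K.contains a && K.contains b && Nat.blt a 27 && Nat.blt b 27 &&
      Nat.blt u 27 && unitAt (lin a b) u && coverOK L (u :: K)

theorem cover_all : coverOK steps frame = true := by decide +kernel

theorem mem_rootGroup [Fintype F] (hF : 3 ≤ Fintype.card F) {g : GL I27 F}
    (hg : g ∈ E6univ F) : g ∈ rootGroup F := by
  obtain ⟨h, hh, hfix⟩ := stages_spec hF stages [] allStages_ok g hg (fun s hs => by simp at hs)
  have hd : ∀ a : ℕ, ∃ l : Fˣ, a < 27 → act (h * g) (bv a) = (l : F) • (bv a : I27 → F) :=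
    fun a => by
      by_cases ha : a < 27
      · obtain ⟨l, hl, e⟩ := hfix a (List.mem_range.2 ha)
        exact ⟨Units.mk0 l hl, fun _ => e⟩
      · exact ⟨1, fun h => absurd h ha⟩
  choose d hd using hd
  let t : ℕ → Fˣ := fun p => ∏ k ∈ Finset.range 6, d (frame.getD k 0) ^ finv p k
  obtain ⟨k, hk, hke⟩ := exists_torus t 6 le_rfl
  let d' : ℕ → Fˣ := fun a => (∏ p ∈ Finset.range 6, t p ^ wt a p)⁻¹ * d a
  have hk' : ∀ a < 27, act (k⁻¹ * (h * g)) (bv a) = (d' a : F) • (bv a : I27 → F) := fun a ha => by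
    set P : Fˣ := ∏ p ∈ Finset.range 6, t p ^ wt a p with hP
    have e : act k⁻¹ (bv a) = ((P⁻¹ : Fˣ) : F) • (bv a : I27 → F) := by
      rw [← inv_smul_smul₀ P.ne_zero (act k⁻¹ (bv a)), ← act_smul, ← hke a ha, ← act_mul,
        inv_mul_cancel, act_one, Units.val_inv_eq_inv_val]
    rw [act_mul, hd a ha, act_smul, e, smul_smul, mul_comm]
    rfl
  have hframe : ∀ i < 6, d' (frame.getD i 0) = 1 := fun i hi => by
    have zsum : ∀ (x : Fˣ) (s : Finset ℕ) (f : ℕ → ℤ),
        ∏ p ∈ s, x ^ f p = x ^ (∑ p ∈ s, f p) := fun x s f => by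
      induction s using Finset.cons_induction with
      | empty => simp
      | cons a s ha ih => rw [Finset.prod_cons, Finset.sum_cons, ih, _root_.zpow_add]
    show (∏ p ∈ Finset.range 6, t p ^ wt (frame.getD i 0) p)⁻¹ * _ = 1
    rw [inv_mul_eq_one]
    simp only [t, ← Finset.prod_zpow]
    simp only [← _root_.zpow_mul]
    rw [Finset.prod_comm]
    simp only [zsum]
    rw [Finset.prod_congr rfl fun k hk => by rw [frame_inv i hi k (Finset.mem_range.1 hk)]]
    simp [Finset.prod_ite_eq', hi]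
  have hmem : k⁻¹ * (h * g) ∈ E6univ F :=
    mul_mem (inv_mem (rootGroup_le F hk)) (mul_mem (rootGroup_le F hh) hg)
  have hall : ∀ (L : List (ℕ × ℕ × ℕ)) (K : List ℕ), coverOK L K = true →
      (∀ x ∈ K, d' x = 1) → ∀ x < 27, d' x = 1 := by
    intro L
    induction L with
    | nil =>
      intro K hK h1 x hx
      simp only [coverOK, List.all_eq_true, List.mem_range, List.contains_eq_mem,
        decide_eq_true_eq] at hK
      exact h1 x (hK x hx)
    | cons m L ih =>
      obtain ⟨u, a, b⟩ := m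
      intro K hK h1
      simp only [coverOK, Bool.and_eq_true, Nat.blt_eq, List.contains_eq_mem,
        decide_eq_true_eq] at hK
      obtain ⟨⟨⟨⟨⟨⟨haK, hbK⟩, ha⟩, hb⟩, hu⟩, hunit⟩, hrest⟩ := hK
      refine ih _ hrest fun x hx => ?_
      rcases List.mem_cons.1 hx with rfl | hx
      · obtain ⟨σ, hσ, hl⟩ := unitAt_spec hunit
        have e := act_bf hF hmem (bv a) (bv x) (bv b)
        rw [hk' a ha, hk' x hu, hk' b hb, h1 a haK, h1 b hbK, bf_smul_left, bf_smul_mid,
          bf_smul_right, bf_bv_bv ha hb, hl] at e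
        simp [co_bv hu hu, unit_ne hσ] at e
        exact e
      · exact h1 x hx
  have h1 : k⁻¹ * (h * g) = 1 := by
    refine Units.ext (Matrix.ext fun i j => ?_)
    obtain ⟨a, ha, rfl⟩ := dec_surj j
    have hd1 : d' a = 1 := hall steps frame cover_all (fun x hx => by
      obtain ⟨i, hi, rfl⟩ := List.getElem_of_mem hx
      have := hframe i (by simpa [frame] using hi)
      rwa [List.getD_eq_getElem _ _ hi] at this) a ha
    have e := hk' a ha
    rw [hd1, Units.val_one, one_smul, act, bv, Matrix.mulVec_single] at e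
    have e' := congrFun e i
    simp [Pi.single_apply] at e'
    rw [Units.val_one, Matrix.one_apply]
    simpa only [Units.val_mul, Matrix.coe_units_inv] using e'
  have : g = h⁻¹ * k := by
    rw [← mul_one k, ← h1]; group
  rw [this]
  exact mul_mem (inv_mem hh) hk

end Cfsg.Agent.Lie.Chev.E6Cubic
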