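import Cfsg.Agent.Lib.Lie.Chev.CertsFull
import Cfsg.Agent.Lib.Lie.Chev.Bruhat
import Cfsg.Agent.Lib.Lie.Chev.Centralizer
import Cfsg.Agent.Lib.Grp.SchurZassenhaus

/-! The normaliser of the split torus in odd characteristic, and conjugation of an involution into
that normaliser. -/

set_option autoImplicit false

namespace Cfsg.Agent.Lie.Chev

open Cfsg.Lie Matrix
open scoped Pointwise

namespace CertFull

variable {D : ChevalleyDatum} (c : CertFull D) {F : Type*} [Field F]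
include c

theorem toral_conj_oprod (z : ℕ → Fˣ) (m : ℕ) (t : ℕ → F) :
    c.torus z * c.oprod m t * (c.torus z)⁻¹ = c.oprod m (fun r => (c.tchar z r : F) * t r) := by
  show MulAut.conj (c.torus z) (c.oprod m t) = _
  unfold Cert.oprod
  rw [map_list_prod, List.map_map]
  refine congrArg List.prod (List.map_congr_left fun s hs => ?_)
  rw [List.mem_range'_1] at hs
  exact c.torus_conj_xg z (show s < D.nroots by omega) (t s)

/-- An element of a root product group which commutes with a torus element. -/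
theorem mem_KS_of_commute {S : Set ℕ} (hS : c.IsClosed S) (z : ℕ → Fˣ) {g : GL D.Idx F}
    (hg : g ∈ c.KS F S c.T.h) (h : c.torus z * g * (c.torus z)⁻¹ = g) :
    g ∈ c.KS F (S ∩ {r | c.tchar z r = 1}) c.T.h := by
  obtain ⟨t, ht, rfl⟩ := c.exists_oprod_KS hS _ c.T.h rfl le_rfl g hg
  rw [c.toral_conj_oprod] at h
  refine Subgroup.list_prod_mem _ fun x hx => ?_
  obtain ⟨r, hr, rfl⟩ := List.mem_map.1 hx
  rw [List.mem_range'_1] at hr
  have he : (c.tchar z r : F) * t r = t r :=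
    c.oprod_inj _ c.T.h rfl le_rfl _ t h r hr.1 (by omega)
  by_cases h0 : t r = 0
  · rw [h0, c.xg_zero]; exact one_mem _
  · refine c.xg_mem_KS (S := S ∩ {r | c.tchar z r = 1}) ⟨?_, Units.ext ?_⟩ hr.1 _
    · by_contra hn; exact h0 (ht r hn)
    · exact mul_right_cancel₀ h0 (by rw [he, Units.val_one, one_mul])

theorem torus_conj_KS {S : Set ℕ} (hS : ∀ r ∈ S, r < D.nroots) (z : ℕ → Fˣ) {g : GL D.Idx F}
    (hg : g ∈ c.KS F S c.T.h) : c.torus z * g * (c.torus z)⁻¹ ∈ c.KS F S c.T.h := by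
  refine conj_closure_mem ?_ hg
  rintro x ⟨r, t, hr, hm, rfl⟩
  rw [c.torus_conj_xg z (hS r hr)]
  exact c.xg_mem_KS hr hm _

/-- No root character is trivial. -/
def OddPair : Prop := ∀ r < D.nroots, ∃ s < D.nroots, c.T.pairing s r % 2 = 1

/-- The torus element of a sign. -/
theorem exists_torus_sign (hodd : c.OddPair) {r : ℕ} (hr : r < D.nroots) :
    ∃ z : ℕ → Fˣ, c.tchar z r = -1 := by
  obtain ⟨s, hs, hp⟩ := hodd r hr
  have hm : c.hg s ((-1 : Fˣ) : F) ∈ D.diagonalSubgroup F :=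
    c.hg_mem hs (Units.ne_zero _)
  rw [c.diagonalSubgroup_eq] at hm
  obtain ⟨z, hz⟩ := hm
  refine ⟨z, ?_⟩
  rw [c.hg_eq hs, Cert.torus_apply, dg_eq_iff] at hz
  rw [hz r hr]
  show (-1 : Fˣ) ^ c.T.pairing s r = -1
  exact Odd.neg_one_zpow (Int.odd_iff.2 hp)

variable (hodd : c.OddPair) (h2 : (-1 : F) ≠ 1)
include hodd h2

theorem eq_one_of_commute_H {S : Set ℕ} (hS : c.IsClosed S) {g : GL D.Idx F}
    (hg : g ∈ c.KS F S c.T.h) (h : ∀ a ∈ D.diagonalSubgroup F, a * g * a⁻¹ = g) : g = 1 := by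
  obtain ⟨t, ht, rfl⟩ := c.exists_oprod_KS hS _ c.T.h rfl le_rfl g hg
  refine List.prod_eq_one fun x hx => ?_
  obtain ⟨r, hr, rfl⟩ := List.mem_map.1 hx
  rw [List.mem_range'_1] at hr
  obtain ⟨z, hz⟩ := c.exists_torus_sign (F := F) hodd (show r < D.nroots by omega)
  have h' := h (c.torus z) (c.diagonalSubgroup_eq (F := F) ▸ ⟨z, rfl⟩)
  rw [c.toral_conj_oprod] at h'
  have he : (c.tchar z r : F) * t r = t r :=
    c.oprod_inj _ c.T.h rfl le_rfl _ t h' r hr.1 (by omega)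
  rw [hz] at he
  have h0 : t r = 0 := by
    by_contra h0
    exact h2 (mul_right_cancel₀ h0 (by simpa using he))
  rw [h0, c.xg_zero]

omit hodd h2 in
theorem pos_closedSet : c.IsClosed {r | c.Pos r} :=
  ⟨fun _ h => h, fun _ hr _ hs x hx => by
    obtain ⟨h1, h2, h3⟩ := c.commTerms_gt hr hs hx
    exact h1⟩

omit hodd h2 in
theorem U_eq_KS_pos : D.posUnipotent F = c.KS F {r | c.Pos r} c.T.h := by
  refine le_antisymm ?_ (c.KS_le_U c.pos_closedSet _)
  rw [c.posUnipotent_eq, Cert.K]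
  refine (Subgroup.closure_le _).2 ?_
  rintro g ⟨r, t, hr, hm, rfl⟩
  exact c.xg_mem_KS hr hm _

/-- The normaliser of the torus in the group is the monomial group. -/
theorem mem_N_of_normalizes {g : GL D.Idx F} (hg : g ∈ D.group F)
    (hn : ∀ a ∈ D.diagonalSubgroup F, g * a * g⁻¹ ∈ D.diagonalSubgroup F) :
    g ∈ D.monomialSubgroup F := by
  obtain ⟨b, hb, a, ha, L, hL, u, hu, rfl⟩ := c.bruhat_exists hg
  have hnN : a * c.nw F L ∈ D.monomialSubgroup F := c.mem_monomial_iff.2 ⟨a, ha, L, hL, rfl⟩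
  set n := a * c.nw F L with hndef
  have key : ∀ τ ∈ D.diagonalSubgroup F,
      b * (n * τ * n⁻¹) = (b * n * u * τ * (b * n * u)⁻¹) * b ∧ τ⁻¹ * u * τ = u := by
    intro τ hτ
    have hτ' := hn τ hτ
    have hu' : τ⁻¹ * u * τ ∈ c.KS F (c.invSet L) c.T.h := by
      have hτi := inv_mem hτ
      rw [c.diagonalSubgroup_eq] at hτi
      obtain ⟨z, hz⟩ := hτi
      have := c.torus_conj_KS (fun r hr => hr.1.2) z hu
      rw [hz, inv_inv] at this
      exact this
    have := c.bruhat_unique_factors ha hL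
      (mul_mem hb (c.H_le_B (c.N_conj_H hnN hτ))) (mul_mem (c.H_le_B hτ') hb) hu' hu
      (show b * (n * τ * n⁻¹) * n * (τ⁻¹ * u * τ) =
        (b * n * u * τ * (b * n * u)⁻¹) * b * n * u by group)
    exact this
  have hu1 : u = 1 := c.eq_one_of_commute_H hodd h2 (c.invSet_closed hL) hu fun τ hτ => by
    simpa using (key τ⁻¹ (inv_mem hτ)).2
  obtain ⟨v, hv, d, hd, rfl⟩ := c.mem_borel_iff.1 hb
  have hv1 : v = 1 := by
    rw [c.U_eq_KS_pos] at hv
    refine c.eq_one_of_commute_H hodd h2 c.pos_closedSet hv fun τ hτ => ?_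
    have hτ1 := c.N_conj_H (inv_mem hnN) (c.N_conj_H (inv_mem (c.mem_monomial_iff.2
      ⟨d, hd, [], by simp, (mul_one d).symm⟩)) hτ)
    set σ := n⁻¹ * (d⁻¹ * τ * d⁻¹⁻¹) * n⁻¹⁻¹ with hσ
    have h3 := hn σ hτ1
    rw [hu1, mul_one] at h3
    have e : v * d * n * σ * (v * d * n)⁻¹ = v * τ * v⁻¹ := by rw [hσ]; group
    rw [e] at h3
    have h4 : v * τ * v⁻¹ * τ⁻¹ ∈ D.posUnipotent F ⊓ D.diagonalSubgroup F := by
      refine Subgroup.mem_inf.2 ⟨?_, mul_mem h3 (inv_mem hτ)⟩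
      rw [mul_assoc, mul_assoc, ← mul_assoc τ]
      rw [← c.U_eq_KS_pos] at hv
      exact mul_mem hv ((Subgroup.mem_normalizer_iff.1 (c.H_le_normalizer_U hτ) _).1 (inv_mem hv))
    rw [c.U_inf_H, Subgroup.mem_bot, mul_inv_eq_one, mul_inv_eq_iff_eq_mul] at h4
    rw [← h4, mul_inv_cancel_right]
  rw [hu1, hv1, mul_one, one_mul]
  exact mul_mem (c.mem_monomial_iff.2 ⟨d, hd, [], by simp, (mul_one d).symm⟩) hnN

omit hodd h2 in
theorem exists_fixed_of_odd {α : Type*} [Finite α] (h : Odd (Nat.card α)) (f : α → α)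
    (hf : ∀ x, f (f x) = x) : ∃ x, f x = x := by
  classical
  haveI := Fintype.ofFinite α
  haveI : Fact (Nat.Prime 2) := ⟨Nat.prime_two⟩
  let σ : Function.End α := f
  have hσ : σ ^ (2 ^ 1) = 1 := by
    rw [pow_one, sq]
    funext x
    exact hf x
  have := Equiv.Perm.card_fixedPoints_modEq (p := 2) (n := 1) (f := σ) hσ
  by_contra hne
  push Not at hne
  have he : Fintype.card (Function.fixedPoints σ) = 0 := by
    rw [Fintype.card_eq_zero_iff]
    exact ⟨fun x => hne x.1 x.2⟩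
  rw [he, ← Nat.card_eq_fintype_card] at this
  rw [Nat.odd_iff] at h
  unfold Nat.ModEq at this
  omega

variable [Fintype F]

/-- Every involution is conjugate into the monomial group. -/
theorem exists_conj_mem_N {p : ℕ} [Fact p.Prime] [CharP F p] {t : GL D.Idx F}
    (ht : t ∈ D.group F) (ht2 : t * t = 1) :
    ∃ g ∈ D.group F, g * t * g⁻¹ ∈ D.monomialSubgroup F := by
  classical
  have hti : t⁻¹ = t := inv_eq_of_mul_eq_one_left ht2
  obtain ⟨b, hb, a, ha, L, hL, u, hu, e⟩ := c.bruhat_exists ht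
  have hnN : a * c.nw F L ∈ D.monomialSubgroup F := c.mem_monomial_iff.2 ⟨a, ha, L, hL, rfl⟩
  set n := a * c.nw F L
  have huB : u ∈ D.borelSubgroup F := Subgroup.mem_sup_left (c.KS_invSet_le_U hL hu)
  set Tb : Subgroup (GL D.Idx F) := MulAut.conj b • D.diagonalSubgroup F
  set Dd : Subgroup (GL D.Idx F) := D.borelSubgroup F ⊓ MulAut.conj t • D.borelSubgroup F
  set Nn : Subgroup (GL D.Idx F) := D.posUnipotent F ⊓ Dd
  have hmemTb : ∀ {x}, x ∈ Tb ↔ b⁻¹ * x * b ∈ D.diagonalSubgroup F := by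
    intro x
    rw [Subgroup.mem_pointwise_smul_iff_inv_smul_mem]
    simp [MulAut.smul_def]
  have hmemt : ∀ {H : Subgroup (GL D.Idx F)} {x}, x ∈ MulAut.conj t • H ↔ t * x * t ∈ H := by
    intro H x
    rw [Subgroup.mem_pointwise_smul_iff_inv_smul_mem]
    simp [MulAut.smul_def, hti]
  have hTbD : Tb ≤ Dd := by
    intro x hx
    rw [hmemTb] at hx
    refine Subgroup.mem_inf.2 ⟨?_, hmemt.2 ?_⟩
    · have := mul_mem (mul_mem hb (c.H_le_B hx)) (inv_mem hb)
      simpa [mul_assoc] using this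
    · have h1 : n⁻¹ * (b⁻¹ * x * b) * n⁻¹⁻¹ ∈ D.diagonalSubgroup F := c.N_conj_H (inv_mem hnN) hx
      have h3 : t * x * t = u⁻¹ * (n⁻¹ * (b⁻¹ * x * b) * n⁻¹⁻¹) * u := by
        nth_rw 1 [← hti]
        rw [e]; group
      rw [h3]
      exact mul_mem (mul_mem (inv_mem huB) (c.H_le_B h1)) huB
  have htD : ∀ {x}, x ∈ Dd → t * x * t ∈ Dd := by
    intro x hx
    obtain ⟨h1, h3⟩ := Subgroup.mem_inf.1 hx
    refine Subgroup.mem_inf.2 ⟨hmemt.1 h3, hmemt.2 ?_⟩
    have : t * (t * x * t) * t = x := by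
      rw [← mul_assoc, ← mul_assoc, ht2, one_mul, mul_assoc, ht2, mul_one]
    rwa [this]
  have hDle : Dd ≤ Nn ⊔ Tb := by
    intro x hx
    obtain ⟨w, hw, τ, hτ, e'⟩ := c.mem_borel_iff.1
      (mul_mem (mul_mem (inv_mem hb) (Subgroup.mem_inf.1 hx).1) hb)
    have hτ' : b * τ * b⁻¹ ∈ Tb := hmemTb.2 (by simpa [mul_assoc] using hτ)
    have hx' : x = (b * w * b⁻¹) * (b * τ * b⁻¹) := by
      calc x = b * (b⁻¹ * x * b) * b⁻¹ := by group
        _ = _ := by rw [e']; group
    have hwU : b * w * b⁻¹ ∈ D.posUnipotent F := by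
      obtain ⟨v, hv, d, hd, rfl⟩ := c.mem_borel_iff.1 hb
      have := mul_mem (mul_mem hv
        ((Subgroup.mem_normalizer_iff.1 (c.H_le_normalizer_U hd) w).1 hw)) (inv_mem hv)
      simpa [mul_assoc] using this
    have hwD : b * w * b⁻¹ ∈ Dd := by
      rw [eq_mul_inv_of_mul_eq hx'.symm]
      exact mul_mem hx (inv_mem (hTbD hτ'))
    rw [hx']
    exact mul_mem (Subgroup.mem_sup_left (Subgroup.mem_inf.2 ⟨hwU, hwD⟩))
      (Subgroup.mem_sup_right hτ')
  have hnorm : Tb ≤ Subgroup.normalizer (Nn : Set (GL D.Idx F)) := by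
    intro x hx
    have hxD := hTbD hx
    have key : ∀ {y z}, y ∈ D.borelSubgroup F → z ∈ D.posUnipotent F →
        y * z * y⁻¹ ∈ D.posUnipotent F := by
      intro y z hy hz
      obtain ⟨v, hv, d, hd, rfl⟩ := c.mem_borel_iff.1 hy
      have := mul_mem (mul_mem hv
        ((Subgroup.mem_normalizer_iff.1 (c.H_le_normalizer_U hd) z).1 hz)) (inv_mem hv)
      simpa [mul_assoc] using this
    rw [Subgroup.mem_normalizer_iff]
    refine fun y => ⟨fun hy => ?_, fun hy => ?_⟩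
    · exact Subgroup.mem_inf.2 ⟨key (Subgroup.mem_inf.1 hxD).1 (Subgroup.mem_inf.1 hy).1,
        mul_mem (mul_mem hxD (Subgroup.mem_inf.1 hy).2) (inv_mem hxD)⟩
    · have h1 := key (inv_mem (Subgroup.mem_inf.1 hxD).1) (Subgroup.mem_inf.1 hy).1
      have h3 := mul_mem (mul_mem (inv_mem hxD) (Subgroup.mem_inf.1 hy).2) hxD
      simp [mul_assoc] at h1 h3
      exact Subgroup.mem_inf.2 ⟨h1, h3⟩
  have hp : IsPGroup p ↥Nn :=
    (c.isPGroup_U (F := F) (ℓ := p)).to_le inf_le_left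
  have hp2 : p ≠ 2 := by
    rintro rfl
    exact h2 (CharTwo.neg_eq 1)
  obtain ⟨k, hk⟩ := hp.exists_card_eq
  have hNodd : Odd (Nat.card Nn) := by
    rw [hk]
    exact (((Fact.out : p.Prime).odd_of_ne_two hp2)).pow
  have hcardTb : Nat.card Tb = Nat.card (D.diagonalSubgroup F) :=
    Grp.card_conj_smul b _
  have hpT : ¬ p ∣ Nat.card (D.diagonalSubgroup F) := by
    intro hd
    obtain ⟨x, hx⟩ := exists_prime_orderOf_dvd_card' p hd
    obtain ⟨z, hz⟩ : ∃ z, c.torus z = (x : GL D.Idx F) := by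
      have h0 : (x : GL D.Idx F) ∈ (c.torus (F := F)).range := c.diagonalSubgroup_eq (F := F) ▸ x.2
      exact h0
    have hxp : (x : GL D.Idx F) ^ p = 1 := by
      rw [← Subgroup.coe_pow, ← hx, pow_orderOf_eq_one, Subgroup.coe_one]
    have hx1 : (x : GL D.Idx F) = 1 := by
      rw [← hz, Cert.torus_apply, ← map_pow] at hxp
      rw [← hz, Cert.torus_apply, show (1 : GL D.Idx F) = dg D F 1 from (map_one _).symm, dg_eq_iff]
      rw [show (1 : GL D.Idx F) = dg D F 1 from (map_one _).symm, dg_eq_iff] at hxp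
      intro s hs
      have h3 := congrArg Units.val (hxp s hs)
      simp only [Pi.pow_apply, Units.val_pow_eq_pow_val, Pi.one_apply, Units.val_one] at h3
      refine Units.ext ?_
      have h4 : ((c.tchar z s : F) - 1) ^ p = 0 := by rw [sub_pow_char, h3, one_pow, sub_self]
      simpa [sub_eq_zero] using eq_zero_of_pow_eq_zero h4
    rw [orderOf_eq_one_iff.2 (Subtype.ext hx1)] at hx
    exact (Fact.out : p.Prime).one_lt.ne hx
  have hcop : (Nat.card Nn).Coprime (Nat.card Tb) := by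
    rw [hk, hcardTb]
    exact ((Fact.out : p.Prime).coprime_iff_not_dvd.2 hpT).pow_left _
  have hsolv : Group.IsSolvable Nn ∨ Group.IsSolvable Tb := by
    left
    haveI := hp.isNilpotent
    infer_instance
  set K : Subgroup (GL D.Idx F) := MulAut.conj t • Tb
  have hKle : K ≤ Nn ⊔ Tb := fun x hx => hDle (by
    have h1 := htD (hTbD (hmemt.1 hx))
    have e2 : t * (t * x * t) * t = x := by
      rw [← mul_assoc, ← mul_assoc, ht2, one_mul, mul_assoc, ht2, mul_one]
    rwa [e2] at h1)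
  obtain ⟨m, hm, hmK⟩ := Grp.exists_conj_of_le_sup hnorm hKle (Grp.card_conj_smul t _) hcop hsolv
  letI : MulAction ↥Nn (Subgroup (GL D.Idx F)) :=
    MulAction.compHom _ ((MulAut.conj : GL D.Idx F →* MulAut (GL D.Idx F)).comp Nn.subtype)
  have hsmul : ∀ (v : Nn) (H : Subgroup (GL D.Idx F)),
      v • H = MulAut.conj (v : GL D.Idx F) • H := fun v H => rfl
  set X := MulAction.orbit ↥Nn Tb
  have hXodd : Odd (Nat.card X) := by
    have h1 : Nat.card X ∣ Nat.card Nn := by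
      rw [Nat.card_congr (MulAction.orbitEquivQuotientStabilizer ↥Nn Tb), ← Subgroup.index]
      exact Subgroup.index_dvd_card _
    exact hNodd.of_dvd_nat h1
  have hX : ∀ H ∈ X, MulAut.conj t • H ∈ X := by
    rintro _ ⟨v, rfl⟩
    show MulAut.conj t • (v • Tb) ∈ X
    have hv : t * (v : GL D.Idx F) * t ∈ Nn := by
      refine Subgroup.mem_inf.2 ⟨?_, htD (Subgroup.mem_inf.1 v.2).2⟩
      -- a `p`-element of the Borel subgroup lies in its unipotent radical
      have hB : t * (v : GL D.Idx F) * t ∈ D.borelSubgroup F :=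
        (Subgroup.mem_inf.1 (htD (Subgroup.mem_inf.1 v.2).2)).1
      obtain ⟨j, hj⟩ := hp v
      obtain ⟨w, hw, τ, hτ, e'⟩ := c.mem_borel_iff.1 hB
      have hvp : (t * (v : GL D.Idx F) * t) ^ p ^ j = 1 := by
        nth_rw 2 [← hti]
        rw [conj_pow, ← Subgroup.coe_pow, hj, Subgroup.coe_one, mul_one, mul_inv_cancel]
      rw [e'] at hvp ⊢
      suffices τ = 1 by rw [this, mul_one]; exact hw
      have hpow : ∀ i : ℕ, ∃ w' ∈ D.posUnipotent F, (w * τ) ^ i = w' * τ ^ i := by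
        intro i
        induction i with
        | zero => exact ⟨1, one_mem _, by simp⟩
        | succ i ih =>
          obtain ⟨w', hw', e3⟩ := ih
          refine ⟨w' * (τ ^ i * w * (τ ^ i)⁻¹), mul_mem hw'
            ((Subgroup.mem_normalizer_iff.1 (c.H_le_normalizer_U (pow_mem hτ i)) w).1 hw), ?_⟩
          rw [pow_succ, e3, pow_succ]; group
      obtain ⟨w', hw', e3⟩ := hpow (p ^ j)
      rw [hvp] at e3
      have h5 : τ ^ p ^ j ∈ D.posUnipotent F ⊓ D.diagonalSubgroup F := by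
        refine Subgroup.mem_inf.2 ⟨?_, pow_mem hτ _⟩
        rw [eq_inv_of_mul_eq_one_right e3.symm]; exact inv_mem hw'
      rw [c.U_inf_H, Subgroup.mem_bot] at h5
      have h6 : orderOf (⟨τ, hτ⟩ : D.diagonalSubgroup F) ∣ p ^ j :=
        orderOf_dvd_of_pow_eq_one (Subtype.ext h5)
      have h7 := orderOf_dvd_natCard (⟨τ, hτ⟩ : D.diagonalSubgroup F)
      have h8 : (p ^ j).Coprime (Nat.card (D.diagonalSubgroup F)) :=
        ((Fact.out : p.Prime).coprime_iff_not_dvd.2 hpT).pow_left j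
      exact congrArg Subtype.val (orderOf_eq_one_iff.1 (Nat.eq_one_of_dvd_coprimes h8 h6 h7))
    refine ⟨⟨t * (v : GL D.Idx F) * t * m, mul_mem hv hm⟩, ?_⟩
    show MulAut.conj (t * (v : GL D.Idx F) * t * m) • Tb = MulAut.conj t • MulAut.conj (v : GL D.Idx F) • Tb
    have e1 : MulAut.conj (t * (v : GL D.Idx F) * t * m) • Tb =
        (MulAut.conj (t * (v : GL D.Idx F) * t) * MulAut.conj t) • Tb := by
      rw [map_mul _ (t * (v : GL D.Idx F) * t) m, mul_smul, hmK]
      exact (mul_smul _ _ Tb).symm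
    rw [e1, ← map_mul, show t * (v : GL D.Idx F) * t * t = t * v by
      rw [mul_assoc (t * _), ht2, mul_one], map_mul]
    exact mul_smul _ _ Tb
  obtain ⟨⟨_, v, rfl⟩, hfix⟩ := c.exists_fixed_of_odd hXodd
    (fun H : X => (⟨MulAut.conj t • H.1, hX _ H.2⟩ : X)) (fun H => Subtype.ext (by
      show MulAut.conj t • MulAut.conj t • H.1 = H.1
      exact (mul_smul _ _ _).symm.trans (by rw [← map_mul, ht2, map_one, one_smul])))
  have hfix' : MulAut.conj t • MulAut.conj ((v : GL D.Idx F) * b) • D.diagonalSubgroup F =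
      MulAut.conj ((v : GL D.Idx F) * b) • D.diagonalSubgroup F := by
    have h3 := congrArg Subtype.val hfix
    rw [map_mul, mul_smul]
    exact h3
  set g := ((v : GL D.Idx F) * b)⁻¹
  have hgG : g ∈ D.group F :=
    inv_mem (mul_mem (c.B_le_group (Subgroup.mem_inf.1 (Subgroup.mem_inf.1 v.2).2).1)
      (c.B_le_group hb))
  refine ⟨g, hgG, c.mem_N_of_normalizes hodd h2 (mul_mem (mul_mem hgG ht) (inv_mem hgG)) ?_⟩
  intro τ hτ
  have h3 : MulAut.conj (g * t * g⁻¹) • D.diagonalSubgroup F = D.diagonalSubgroup F := by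
    rw [map_mul, map_mul, mul_smul, mul_smul]
    conv_lhs => rw [show g⁻¹ = (v : GL D.Idx F) * b by simp [g]]
    rw [hfix', ← mul_smul, ← map_mul, inv_mul_cancel, map_one, one_smul]
  rw [← h3]
  exact Subgroup.smul_mem_pointwise_smul _ _ _ hτ

end CertFull

end Cfsg.Agent.Lie.Chev
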