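import Cfsg.Agent.Lib.Lie.Chev.CycTori
import Cfsg.Agent.Lib.Lie.Chev.ToralBase
import Cfsg.Agent.Lib.Lie.Chev.Order

/-! The order of the centraliser of an element of the split torus, from a transversal of its
stabiliser in the Weyl group. -/

set_option autoImplicit false

namespace Cfsg.Agent.Lie.Chev

open Cfsg.Lie Matrix

namespace CertFull

variable {D : ChevalleyDatum} (c : CertFull D) {F : Type*} [Field F]

/-- A word keeps the values of a torus parameter. -/
def KeepsChar (z : ℕ → Fˣ) (L : List ℕ) : Prop :=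
  ∀ s < D.nroots, c.tchar z (c.wl L s) = c.tchar z s

include c

theorem closed_inter_ker (z : ℕ → Fˣ) {S : Set ℕ} (hS : c.IsClosed S) :
    c.IsClosed (S ∩ {r | c.tchar z r = 1}) := by
  refine ⟨fun r hr => hS.1 r hr.1, fun r hr s hs x hx => ⟨hS.2 r hr.1 s hs.1 x hx, ?_⟩⟩
  have hr' := (hS.1 r hr.1).2
  have hs' := (hS.1 s hs.1).2
  show c.tchar z x.1 = 1
  have e1 := (c.tchar_eq_prod z hr').symm.trans hr.2
  have e2 := (c.tchar_eq_prod z hs').symm.trans hs.2
  rw [c.tchar_eq_prod z (c.mem_commTerms hr' hs' hx).1,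
    Finset.prod_congr rfl fun j hj => by
      rw [c.commTerms_vec hr' hs' (Finset.mem_range.1 hj) hx, _root_.zpow_add,
        mul_comm ((x.2.2.1 : ℕ) : ℤ), mul_comm ((x.2.2.2 : ℕ) : ℤ), _root_.zpow_mul,
        _root_.zpow_mul],
    Finset.prod_mul_distrib, Finset.prod_zpow, Finset.prod_zpow, e1, e2]
  simp

theorem H_mul_comm {a b : GL D.Idx F} (ha : a ∈ D.diagonalSubgroup F)
    (hb : b ∈ D.diagonalSubgroup F) : a * b = b * a := by
  rw [c.diagonalSubgroup_eq] at ha hb
  obtain ⟨z, rfl⟩ := ha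
  obtain ⟨w, rfl⟩ := hb
  rw [← map_mul, ← map_mul, mul_comm]

theorem commute_mono_iff (z : ℕ → Fˣ) {a : GL D.Idx F} (ha : a ∈ D.diagonalSubgroup F)
    {L : List ℕ} (hL : ∀ p ∈ L, p < D.rank) :
    c.torus z * (a * c.nw F L) = a * c.nw F L * c.torus z ↔ c.KeepsChar z L := by
  rw [← mul_assoc, c.H_mul_comm (c.torus_mem z) ha, mul_assoc, mul_assoc, mul_right_inj]
  refine ⟨fun h => ?_, fun h => ?_⟩
  · intro s hs
    refine c.tchar_of_nw_conj (F := F) hL ?_ hs
    rw [← h, mul_inv_cancel_right]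
  · have := c.nw_conj_torus (F := F) hL (z := z) (z' := z) h
    rw [mul_inv_eq_iff_eq_mul] at this
    exact this.symm

/-- The order of the centraliser of a torus element. -/
theorem card_centralizer_torus [Fintype F] (z : ℕ → Fˣ) {E : List (List ℕ)}
    (hlt : ∀ v ∈ E, ∀ p ∈ v, p < D.rank)
    (hex : ∀ L : List ℕ, (∀ p ∈ L, p < D.rank) → c.KeepsChar z L → ∃ v ∈ E, c.Same L v)
    (hpw : E.Pairwise fun a b => ¬ c.Same a b) (hkeep : ∀ v ∈ E, c.KeepsChar z v) :
    Nat.card {g : D.group F // c.torus z * (g : GL D.Idx F) = (g : GL D.Idx F) * c.torus z} =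
      Fintype.card F ^ Nat.card ({r | c.Pos r} ∩ {r | c.tchar z r = 1} : Set ℕ) *
        Nat.card (D.diagonalSubgroup F) *
        (E.map fun v => Fintype.card F ^
          Nat.card (c.invSet v ∩ {r | c.tchar z r = 1} : Set ℕ)).sum := by
  set S : Set ℕ := {r | c.tchar z r = 1}
  set P : Set ℕ := {r | c.Pos r} ∩ S
  set τ := c.torus z
  have hτH : τ ∈ D.diagonalSubgroup F := c.torus_mem z
  have hPc : c.IsClosed P := c.closed_inter_ker z c.pos_closedSet
  have hw : ∀ i : Fin E.length, ∀ p ∈ E[i], p < D.rank := fun i p hp =>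
    hlt _ (List.getElem_mem _) p hp
  have hfix : ∀ {T : Set ℕ}, T ⊆ S → (∀ r ∈ T, r < D.nroots) → ∀ {g : GL D.Idx F},
      g ∈ c.KS F T c.T.h → τ * g = g * τ := by
    intro T hT hTn g hg
    have h : c.KS F T c.T.h ≤ Subgroup.centralizer {τ} := by
      refine (Subgroup.closure_le _).2 ?_
      rintro x ⟨r, t, hr, -, rfl⟩
      rw [SetLike.mem_coe, Subgroup.mem_centralizer_singleton_iff]
      have e := c.torus_conj_xg z (hTn r hr) t
      rw [show c.tchar z r = 1 from hT hr, Units.val_one, one_mul, mul_inv_eq_iff_eq_mul] at e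
      exact e.symm
    exact (Subgroup.mem_centralizer_singleton_iff.1 (h hg)).symm
  let f : (Σ i : Fin E.length, (c.KS F P c.T.h × D.diagonalSubgroup F) ×
        c.KS F (c.invSet E[i] ∩ S) c.T.h) →
      {g : D.group F // τ * (g : GL D.Idx F) = (g : GL D.Idx F) * τ} := fun x =>
    ⟨⟨x.2.1.1.1 * x.2.1.2.1 * (1 * c.nw F E[x.1]) * x.2.2.1,
      mul_mem (mul_mem (mul_mem (c.B_le_group (Subgroup.mem_sup_left
          (c.KS_le_U hPc _ x.2.1.1.2)))
        (c.B_le_group (c.H_le_B x.2.1.2.2)))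
        (mul_mem (one_mem _) (c.N_le_group (c.nw_mem_N (hw x.1)))))
        (c.B_le_group (Subgroup.mem_sup_left
          (c.KS_le_U (c.closed_inter_ker z (c.invSet_closed (hw x.1))) _ x.2.2.2)))⟩, by
      have h1 := hfix (Set.inter_subset_right) (fun r hr => hr.1.2) x.2.1.1.2
      have h2 := c.H_mul_comm hτH x.2.1.2.2
      have h3 := (c.commute_mono_iff z (one_mem _) (hw x.1)).2
        (hkeep _ (List.getElem_mem _))
      have h4 := hfix (Set.inter_subset_right) (fun r hr => hr.1.1.2) x.2.2.2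
      simp only [Fin.getElem_fin] at h3 ⊢
      exact Commute.mul_right (Commute.mul_right (Commute.mul_right h1 h2) h3) h4⟩
  have hKS : ∀ (v : List ℕ), c.KS F (c.invSet v ∩ S) c.T.h ≤ c.KS F (c.invSet v) c.T.h :=
    fun v => Subgroup.closure_mono fun g ⟨r, t, hr, hm, e⟩ => ⟨r, t, hr.1, hm, e⟩
  have hf : Function.Bijective f := by
    refine ⟨?_, fun g => ?_⟩
    · rintro ⟨i, ⟨v, d⟩, u⟩ ⟨j, ⟨v', d'⟩, u'⟩ e
      have e' := congrArg (fun g => ((g.1 : D.group F) : GL D.Idx F)) e
      simp only [f] at e'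
      have hn : ∀ k : Fin E.length, (1 : GL D.Idx F) * c.nw F E[k] ∈ D.monomialSubgroup F :=
        fun k => mul_mem (one_mem _) (c.nw_mem_N (hw k))
      have hvU : ∀ {x : GL D.Idx F}, x ∈ c.KS F P c.T.h → x ∈ D.posUnipotent F :=
        fun hx => c.KS_le_U hPc _ hx
      have hb : ∀ (x : c.KS F P c.T.h) (y : D.diagonalSubgroup F),
          (x : GL D.Idx F) * y ∈ D.borelSubgroup F := fun x y =>
        mul_mem (Subgroup.mem_sup_left (hvU x.2)) (c.H_le_B y.2)
      have h1 := c.bruhat_unique (hb v d) (hb v' d') (hn i) (hn j)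
        (c.KS_invSet_le_U (hw i) (hKS _ u.2)) (c.KS_invSet_le_U (hw j) (hKS _ u'.2)) e'
      have hij : i = j := by
        have hsame : ∀ {p q : Fin E.length},
            (1 * c.nw F E[p])⁻¹ * (1 * c.nw F E[q]) ∈ D.diagonalSubgroup F → p < q → False := by
          intro p q hpq hlt'
          rw [List.pairwise_iff_getElem] at hpw
          refine hpw p.1 q.1 p.2 q.2 hlt' fun m hm => ?_
          refine (c.wl_eq_of_eq (one_mem _) (c.N_conj_H (hn p) hpq) (hw q) (hw p) ?_
            (c.simple_lt hm)).symm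
          simp [mul_assoc]
        rcases lt_trichotomy i j with h | h | h
        · exact (hsame h1 h).elim
        · exact h
        · refine (hsame ?_ h).elim
          have := inv_mem h1
          simpa [mul_assoc] using this
      subst hij
      obtain ⟨h2, h3⟩ := c.bruhat_unique_factors (one_mem _) (hw i) (hb v d) (hb v' d')
        (hKS _ u.2) (hKS _ u'.2) e'
      have h4 : (v'.1)⁻¹ * v.1 = d'.1 * d.1⁻¹ :=
        calc (v'.1)⁻¹ * v.1 = v'.1⁻¹ * (v.1 * d.1) * d.1⁻¹ := by group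
          _ = _ := by rw [h2]; group
      have h5 := c.U_inf_H.le (Subgroup.mem_inf.2 ⟨mul_mem (inv_mem (hvU v'.2)) (hvU v.2),
        h4 ▸ mul_mem d'.2 (inv_mem d.2)⟩)
      rw [Subgroup.mem_bot, inv_mul_eq_one] at h5
      obtain rfl : v' = v := Subtype.ext h5
      obtain rfl : d = d' := Subtype.ext (mul_left_cancel h2)
      obtain rfl : u = u' := Subtype.ext h3
      rfl
    · obtain ⟨g, hc⟩ := g
      obtain ⟨b, hb, a, ha, L, hL, u, hu, e⟩ := c.bruhat_exists g.2
      obtain ⟨v, hv, d, hd, rfl⟩ := c.mem_borel_iff.1 hb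
      set n := a * c.nw F L
      have hnN : n ∈ D.monomialSubgroup F := c.mem_monomial_iff.2 ⟨a, ha, L, hL, rfl⟩
      have hv' : τ * v * τ⁻¹ ∈ D.posUnipotent F :=
        (Subgroup.mem_normalizer_iff.1 (c.H_le_normalizer_U hτH) v).1 hv
      have hu' : τ * u * τ⁻¹ ∈ c.KS F (c.invSet L) c.T.h := c.torus_conj_KS (fun r hr => hr.1.2) z hu
      set k := τ * n * τ⁻¹ * n⁻¹
      have hk : k ∈ D.diagonalSubgroup F := by
        have := mul_mem hτH (c.N_conj_H hnN (inv_mem hτH))
        simpa [k, mul_assoc] using this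
      have e' : τ * v * τ⁻¹ * (d * k) * n * (τ * u * τ⁻¹) = v * d * n * u := by
        have hd' : τ * d = d * τ := c.H_mul_comm hτH hd
        calc τ * v * τ⁻¹ * (d * k) * n * (τ * u * τ⁻¹)
            = τ * v * τ⁻¹ * (d * τ) * n * u * τ⁻¹ := by simp only [k]; group
          _ = τ * (g : GL D.Idx F) * τ⁻¹ := by rw [← hd', e]; group
          _ = v * d * n * u := by rw [hc, mul_inv_cancel_right, e]
      obtain ⟨h2, h3⟩ := c.bruhat_unique_factors ha hL
        (mul_mem (Subgroup.mem_sup_left hv') (c.H_le_B (mul_mem hd hk)))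
        (mul_mem (Subgroup.mem_sup_left hv) (c.H_le_B hd)) hu' hu e'
      have h4 : v⁻¹ * (τ * v * τ⁻¹) = d * (d * k)⁻¹ :=
        calc v⁻¹ * (τ * v * τ⁻¹) = v⁻¹ * (τ * v * τ⁻¹ * (d * k)) * (d * k)⁻¹ := by group
          _ = _ := by rw [h2]; group
      have h5 := c.U_inf_H.le (Subgroup.mem_inf.2 ⟨mul_mem (inv_mem hv) hv',
        h4 ▸ mul_mem hd (inv_mem (mul_mem hd hk))⟩)
      rw [Subgroup.mem_bot] at h5
      have hk1 : k = 1 := by
        rw [h4, mul_inv_eq_one] at h5
        exact left_eq_mul.1 h5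
      have hkeepL : c.KeepsChar z L := (c.commute_mono_iff z ha hL).1 (by
        have := mul_inv_eq_one.1 hk1
        exact mul_inv_eq_iff_eq_mul.1 this)
      rw [c.U_eq_KS_pos] at hv
      have hvP : v ∈ c.KS F P c.T.h :=
        c.mem_KS_of_commute c.pos_closedSet z hv (inv_mul_eq_one.1 h5).symm
      have huS : u ∈ c.KS F (c.invSet L ∩ S) c.T.h :=
        c.mem_KS_of_commute (c.invSet_closed hL) z hu h3
      obtain ⟨w, hwE, hs⟩ := hex L hL hkeepL
      obtain ⟨i, hi, rfl⟩ := List.getElem_of_mem hwE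
      have hwi := hw ⟨i, hi⟩
      simp only [Fin.getElem_fin] at hwi
      have hinv : c.invSet L = c.invSet E[i] := Set.ext fun r =>
        and_congr_right fun hr => by rw [c.wl_eq_of_same hL hwi hs hr.2]
      have hk' : c.nw F L * (c.nw F E[i])⁻¹ ∈ D.diagonalSubgroup F := by
        have hrev : ∀ p ∈ (E[i]).reverse, p < D.rank := fun p hp => hwi p (List.mem_reverse.1 hp)
        obtain ⟨a', ha', M, hM, hn⟩ := c.mem_monomial_iff.1
          (mul_mem (c.nw_mem_N (F := F) hL) (inv_mem (c.nw_mem_N hwi)))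
        rw [hn]
        refine c.mem_H_of_wl ha' hM fun q hq => ?_
        have hα := c.simple_lt hq
        have hy := c.wl_lt hrev hα
        have h := congrArg (· * c.nw F E[i]) hn
        simp only [mul_assoc, inv_mul_cancel, mul_one, ← c.nw_append] at h
        have h' := c.wl_eq_of_eq (one_mem _) ha' hL
          (fun p hp => (List.mem_append.1 hp).elim (hM p) (hwi p)) (by rw [one_mul]; exact h) hy
        rw [c.wl_eq_of_same hL hwi hs hy, c.wl_append, c.wl_reverse hwi hα] at h'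
        rw [← h']
        exact c.pos_simple hq
      refine ⟨⟨⟨i, hi⟩, ⟨⟨v, hvP⟩, ⟨d * (a * (c.nw F L * (c.nw F E[i])⁻¹)),
        mul_mem hd (mul_mem ha hk')⟩⟩, ⟨u, ?_⟩⟩, Subtype.ext (Subtype.ext ?_)⟩
      · simp only [Fin.getElem_fin]
        rw [← hinv]
        exact huS
      · show v * (d * (a * (c.nw F L * (c.nw F E[i])⁻¹))) * (1 * c.nw F E[i]) * u =
          (g : GL D.Idx F)
        rw [e]
        simp only [n]
        group
  rw [← Nat.card_congr (Equiv.ofBijective f hf), Nat.card_sigma,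
    ← Fin.sum_univ_getElem (E.map fun v => Fintype.card F ^ Nat.card (c.invSet v ∩ S : Set ℕ)),
    Finset.mul_sum]
  refine Finset.sum_equiv (finCongr (List.length_map _).symm)
    (fun i => iff_of_true (Finset.mem_univ _) (Finset.mem_univ _)) fun i _ => ?_
  rw [Nat.card_prod, Nat.card_prod, c.card_KS hPc,
    c.card_KS (c.closed_inter_ker z (c.invSet_closed (hw i)))]
  simp
  exact Or.inl rfl

end CertFull

end Cfsg.Agent.Lie.Chev
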