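import Cfsg.Agent.Lib.Lie.Chev.TorusE7
import Cfsg.Agent.Lib.Lie.Chev.InvolutionCentralizer
import Cfsg.Agent.Lib.Lie.Chev.TorusConj
import Cfsg.Agent.Lib.Lie.Chev.SylowTorusInst

/-! The group E₇(2) has no element of order sixty-five: the centraliser of an element of order
thirteen has order prime to five. -/

set_option autoImplicit false
set_option maxRecDepth 4000

namespace Cfsg.Agent.Lie.Chev.E7SixtyFive

open Cfsg.Lie Matrix TwelveTori TorusE7

/-- An eigenvector modulo thirteen of the twisting word, for the eigenvalue two. -/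
def e13 : Fin 7 → ℤ := ![2, 0, 10, 10, 0, 1, 0]

/-- The exponent of a root. -/
def expo (s : ℕ) : ℤ := ∑ j : Fin 7, certFullE7.T.vec s j * e13 j

/-- The words of the reflections in the roots orthogonal to the component. -/
def flips : List (List ℕ) := ([1, 4, 6] : List ℕ).sublists

theorem expo_facts : ∀ s < 126,
    (((13 : ℤ) ∣ expo s → wt s = 0) ∧ (wt s = 0 → (13 : ℤ) ∣ expo s)) ∧
    (13 : ℤ) ∣ expo (certFullE7.T.wlT W2.reverse s) - 2 * expo s := by decide +kernel

theorem flip_keeps : ∀ v ∈ flips, ∀ s < 126,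
    (13 : ℤ) ∣ expo (certFullE7.T.wlT v s) - expo s ∧ wt (certFullE7.T.wlT v s) = wt s ∧
      certFullE7.T.wlT v (certFullE7.T.wlT v s) = s := by decide +kernel

theorem flip_images : ∀ v ∈ flips, ∀ j ∈ ([1, 4, 6] : List ℕ),
    certFullE7.T.wlT v (certFullE7.T.simple j) =
      (if j ∈ v then certFullE7.T.neg (certFullE7.T.simple j) else certFullE7.T.simple j) ∧
    certFullE7.T.wlT v (certFullE7.T.neg (certFullE7.T.simple j)) =
      (if j ∈ v then certFullE7.T.simple j else certFullE7.T.neg (certFullE7.T.simple j)) := by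
  decide +kernel

theorem flips_sep : flips.Pairwise fun a b =>
    ∃ j ∈ ([1, 4, 6] : List ℕ), certFullE7.T.wlT a (certFullE7.T.simple j) ≠
      certFullE7.T.wlT b (certFullE7.T.simple j) := by decide +kernel

theorem flips_length : flips.length = 8 := by decide +kernel

theorem flips_lt : ∀ v ∈ flips, ∀ p ∈ v, p < chevE7.rank := by decide +kernel

/-- The twisting words with a flip, modulo five, minus twice the identity. -/
def twoMat (v : List ℕ) : Matrix (Fin 7) (Fin 7) (ZMod 5) :=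
  Matrix.of fun i j : Fin 7 =>
    ((certFullE7.T.vec (certFullE7.T.wlT (W2 ++ v).reverse (certFullE7.T.simple i)) j : ℤ) : ZMod 5) -
      if i = j then 2 else 0

/-- Their inverses. -/
def twoInv : List (List ℕ × Matrix (Fin 7) (Fin 7) (ZMod 5)) := [
  ([], !![2, 3, 1, 1, 4, 2, 1; 0, 4, 0, 0, 2, 0, 1; 4, 3, 3, 1, 4, 2, 1; 3, 0, 2, 3, 4, 1, 4; 0, 4, 0, 0, 4, 0, 2; 4, 1, 1, 4, 1, 1, 0; 0, 3, 0, 0, 4, 0, 4]),
  ([1], !![2, 3, 1, 1, 4, 2, 1; 0, 3, 0, 0, 4, 0, 2; 4, 3, 3, 1, 4, 2, 1; 3, 4, 2, 3, 1, 1, 0; 0, 2, 0, 0, 3, 0, 4; 4, 4, 1, 4, 0, 1, 2; 0, 4, 0, 0, 2, 0, 3]),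
  ([4], !![2, 3, 1, 1, 4, 2, 1; 0, 3, 0, 0, 1, 0, 3; 4, 3, 3, 1, 4, 2, 1; 3, 1, 2, 3, 0, 1, 2; 0, 3, 0, 0, 3, 0, 4; 4, 0, 1, 4, 0, 1, 2; 0, 1, 0, 0, 2, 0, 3]),
  ([1, 4], !![2, 3, 1, 1, 4, 2, 1; 0, 4, 0, 0, 3, 0, 4; 4, 3, 3, 1, 4, 2, 1; 3, 4, 2, 3, 1, 1, 0; 0, 1, 0, 0, 4, 0, 2; 4, 3, 1, 4, 1, 1, 0; 0, 2, 0, 0, 4, 0, 4]),
  ([6], !![2, 3, 1, 1, 4, 2, 1; 0, 3, 0, 0, 4, 0, 3; 4, 3, 3, 1, 4, 2, 1; 3, 4, 2, 3, 1, 1, 1; 0, 2, 0, 0, 3, 0, 1; 4, 3, 1, 4, 2, 1, 1; 0, 1, 0, 0, 3, 0, 3]),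
  ([1, 6], !![2, 3, 1, 1, 4, 2, 1; 0, 4, 0, 0, 2, 0, 4; 4, 3, 3, 1, 4, 2, 1; 3, 0, 2, 3, 4, 1, 2; 0, 4, 0, 0, 4, 0, 3; 4, 4, 1, 4, 0, 1, 2; 0, 2, 0, 0, 1, 0, 4]),
  ([4, 6], !![2, 3, 1, 1, 4, 2, 1; 0, 4, 0, 0, 3, 0, 1; 4, 3, 3, 1, 4, 2, 1; 3, 4, 2, 3, 1, 1, 1; 0, 1, 0, 0, 4, 0, 3; 4, 0, 1, 4, 0, 1, 2; 0, 3, 0, 0, 1, 0, 4]),
  ([1, 4, 6], !![2, 3, 1, 1, 4, 2, 1; 0, 3, 0, 0, 1, 0, 2; 4, 3, 3, 1, 4, 2, 1; 3, 1, 2, 3, 0, 1, 4; 0, 3, 0, 0, 3, 0, 1; 4, 1, 1, 4, 2, 1, 1; 0, 4, 0, 0, 3, 0, 3])]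

theorem twoMat_inv : ∀ v ∈ flips, ∃ N ∈ twoInv, N.1 = v ∧ N.2 * twoMat v = 1 := by decide +kernel

theorem orderOf_two : orderOf (2 : ZMod 13) = 12 := by
  rw [orderOf_eq_iff (by norm_num)]
  exact ⟨by decide +kernel, fun m hm hm0 => by interval_cases m <;> decide +kernel⟩

theorem eq_one_fix {W : List ℕ} (hW : ∀ p ∈ W, p < chevE7.rank)
    (hpos : ∀ p < chevE7.rank, certFullE7.Pos (certFullE7.wl W (chevE7.simple p))) {F : Type*}
    [Field F] {s : ℕ} (hs : s < chevE7.nroots) : certFullE7.wl W s = s := by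
  have h := certFullE7.nw_mem_H (F := F) hW hpos
  have := certFullE7.wl_eq_of_eq (F := F) (a := 1) (b := certFullE7.nw F W) (one_mem _) h hW
    (M := []) (by simp) (by rw [one_mul, Cert.nw_nil, mul_one]) hs
  simpa using this

/-- A word that keeps the weights is a flip. -/
theorem exists_flip {F : Type*} [Field F] {M : List ℕ} (hM : ∀ p ∈ M, p < chevE7.rank)
    (hwt : ∀ s < chevE7.nroots, wt (certFullE7.wl M s) = wt s) :
    ∃ v ∈ flips, ∀ s < chevE7.nroots, certFullE7.wl M s = certFullE7.wl v s := by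
  classical
  have hn : chevE7.nroots = 126 := rfl
  obtain ⟨v, hv⟩ : ∃ v, v = ([1, 4, 6] : List ℕ).filter fun j => decide (∃ p ∈ ([1, 4, 6] : List ℕ),
      certFullE7.wl M (chevE7.simple p) = chevE7.neg (chevE7.simple j)) := ⟨_, rfl⟩
  have hvmem : v ∈ flips := List.mem_sublists.2 (hv ▸ List.filter_sublist)
  have hvlt := flips_lt v hvmem
  have hjr : ∀ j ∈ ([1, 4, 6] : List ℕ), j < chevE7.rank := by decide
  have hz : ∀ p < 7, wt (certFullE7.T.simple p) = 0 → p ∈ ([1, 4, 6] : List ℕ) := by decide +kernel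
  have hK : ∀ p ∈ v ++ M, p < chevE7.rank := fun p hp =>
    (List.mem_append.1 hp).elim (hvlt p) (hM p)
  have hpos : ∀ p < chevE7.rank, certFullE7.Pos (certFullE7.wl (v ++ M) (chevE7.simple p)) := by
    intro p hp
    have hs := certFullE7.simple_lt hp
    have ht := certFullE7.wl_lt hM hs
    rw [certFullE7.wl_append]
    have hw : wt (certFullE7.wl v (certFullE7.wl M (chevE7.simple p))) = wt (chevE7.simple p) := by
      rw [← hwt _ hs, ← certFullE7.wlT_eq]
      exact (flip_keeps v hvmem _ (hn ▸ ht)).2.1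
    by_cases h0 : wt (chevE7.simple p) = 0
    · have hw' := hwt _ hs
      rw [h0] at hw'
      have hp146 : p ∈ ([1, 4, 6] : List ℕ) := by
        rw [certFullE7.simple_eq hp] at h0
        exact hz p hp h0
      obtain ⟨j, hj, hj'⟩ : ∃ j ∈ ([1, 4, 6] : List ℕ),
          certFullE7.wl M (chevE7.simple p) = certFullE7.T.simple j ∨
          certFullE7.wl M (chevE7.simple p) = certFullE7.T.neg (certFullE7.T.simple j) := by
        rcases (wt_facts _ (hn ▸ ht)).1 hw' with e | e | e | e | e | e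
        exacts [⟨1, by simp, Or.inl e⟩, ⟨4, by simp, Or.inl e⟩, ⟨6, by simp, Or.inl e⟩,
          ⟨1, by simp, Or.inr e⟩, ⟨4, by simp, Or.inr e⟩, ⟨6, by simp, Or.inr e⟩]
      have hsim : chevE7.simple j = certFullE7.T.simple j ∧
          chevE7.neg (chevE7.simple j) = certFullE7.T.neg (certFullE7.T.simple j) :=
        ⟨certFullE7.simple_eq (hjr j hj), by
          rw [certFullE7.neg_eq (certFullE7.simple_lt (hjr j hj)), certFullE7.simple_eq (hjr j hj)]⟩
      have hin : j ∈ v ↔ ∃ p ∈ ([1, 4, 6] : List ℕ),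
          certFullE7.wl M (chevE7.simple p) = chevE7.neg (chevE7.simple j) := by
        rw [hv, List.mem_filter, decide_eq_true_iff]
        exact ⟨And.right, fun h => ⟨hj, h⟩⟩
      rcases hj' with e | e
      · have hnin : j ∉ v := fun h => by
          obtain ⟨p', hp', e'⟩ := hin.1 h
          have hp'r := hjr p' hp'
          have e2 : certFullE7.wl M (chevE7.simple p') =
              certFullE7.wl M (chevE7.neg (chevE7.simple p)) := by
            rw [e', certFullE7.wl_neg hM hs, e, ← hsim.1]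
          have e3 := congrArg (certFullE7.wl M.reverse) e2
          have hMr : ∀ p ∈ M.reverse, p < chevE7.rank := fun p hp => hM p (List.mem_reverse.1 hp)
          have hrev : ∀ r < chevE7.nroots, certFullE7.wl M.reverse (certFullE7.wl M r) = r :=
            fun r hr => by
              have := certFullE7.wl_reverse hMr hr
              rwa [List.reverse_reverse] at this
          rw [hrev _ (certFullE7.simple_lt hp'r), hrev _ (certFullE7.neg_lt hs)] at e3
          exact (certFullE7.not_pos_iff hs).2 (e3 ▸ certFullE7.pos_simple hp'r)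
            (certFullE7.pos_simple hp)
        rw [e, ← certFullE7.wlT_eq, (flip_images v hvmem j hj).1, if_neg hnin, ← hsim.1]
        exact certFullE7.pos_simple (hjr j hj)
      · have hmem : j ∈ v := hin.2 ⟨p, hp146, e.trans hsim.2.symm⟩
        rw [e, ← certFullE7.wlT_eq, (flip_images v hvmem j hj).2, if_pos hmem, ← hsim.1]
        exact certFullE7.pos_simple (hjr j hj)
    · refine ⟨(wt_facts _ (hn ▸ certFullE7.wl_lt hvlt ht)).2 ?_, certFullE7.wl_lt hvlt ht⟩
      rw [hw]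
      have hnn : ∀ p < 7, 0 ≤ wt (certFullE7.T.simple p) := by decide +kernel
      have := hnn p hp
      rw [← certFullE7.simple_eq hp] at this
      omega
  refine ⟨v, hvmem, fun s hs => ?_⟩
  have h1 := eq_one_fix hK hpos (F := F) hs
  rw [certFullE7.wl_append] at h1
  have h2 := (flip_keeps v hvmem _ (hn ▸ certFullE7.wl_lt hM hs)).2.2
  rw [certFullE7.wlT_eq, certFullE7.wlT_eq, h1] at h2
  exact h2.symm

section

variable {F L : Type*} [Field F] [Field L] [Fintype F] [Fintype L] (ι : F →+* L)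
  (hF : Fintype.card F = 2) (φ : L →+* L) (hφ : ∀ t, φ t = t ^ 2) (hL : Fintype.card L = 2 ^ 12)

include hL in
/-- The torus element of order thirteen twisted by the word. -/
theorem exists_param : ∃ z : ℕ → Lˣ, certFullE7.Twisted 2 W2 z ∧
    (∀ s < chevE7.nroots, (certFullE7.tchar z s = 1 ↔ (13 : ℤ) ∣ expo s)) ∧
    (∀ s < chevE7.nroots, certFullE7.tchar z s ^ 13 = 1) ∧
    (∀ v ∈ flips, certFullE7.KeepsChar z v) := by
  classical
  haveI : Fact (Nat.Prime 13) := ⟨by norm_num⟩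
  obtain ⟨ζ, hζ⟩ : ∃ ζ : Lˣ, orderOf ζ = 13 := by
    refine exists_prime_orderOf_dvd_card' 13 ?_
    rw [Nat.card_units, Nat.card_eq_fintype_card, hL]
    norm_num
  obtain ⟨z, hz⟩ := certFullE7.exists_param_chi (L := L) (by
    have h := torusOrderE7 L
    rw [hL, show Nat.gcd 2 (2 ^ 12 - 1) = 1 by norm_num, one_mul] at h
    rw [h, hL]) (fun i => ζ ^ e13 i)
  have hn : chevE7.nroots = 126 := rfl
  have key : ∀ s < chevE7.nroots, certFullE7.tchar z s = ζ ^ expo s := fun s hs => by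
    rw [certFullE7.tchar_eq_chi z hs, expo, ← zpow_sum_eq, hz]
    exact Finset.prod_congr rfl fun j _ => by rw [← _root_.zpow_mul, mul_comm]
  have heq : ∀ a b : ℤ, (13 : ℤ) ∣ a - b → ζ ^ a = ζ ^ b := fun a b h => by
    rw [← mul_inv_eq_one, ← _root_.zpow_sub, ← orderOf_dvd_iff_zpow_eq_one, hζ]
    exact h
  refine ⟨z, fun s hs => ?_, fun s hs => ?_, fun s hs => ?_, fun v hv s hs => ?_⟩
  · obtain ⟨-, -, hW2, -⟩ := words_lt
    have ht := certFullE7.wl_lt hW2 hs
    have h := (expo_facts _ (hn ▸ ht)).2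
    rw [certFullE7.wlT_eq] at h
    have hrev : certFullE7.wl W2.reverse (certFullE7.wl W2 s) = s := by
      have := certFullE7.wl_reverse (L := W2.reverse)
        (fun p hp => hW2 p (List.mem_reverse.1 hp)) hs
      rwa [List.reverse_reverse] at this
    rw [hrev] at h
    rw [key _ ht, key s hs, ← zpow_natCast, ← _root_.zpow_mul]
    refine heq _ _ ?_
    rw [mul_comm, show ((2 : ℕ) : ℤ) = 2 from rfl]
    have := dvd_neg.2 h
    rwa [neg_sub] at this
  · rw [key s hs, ← orderOf_dvd_iff_zpow_eq_one, hζ]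
    rfl
  · rw [key s hs, ← zpow_natCast, ← _root_.zpow_mul, ← orderOf_dvd_iff_zpow_eq_one, hζ]
    exact dvd_mul_left _ _
  · rw [key _ (certFullE7.wl_lt (flips_lt v hv) hs), key s hs]
    refine heq _ _ ?_
    rw [← certFullE7.wlT_eq]
    exact (flip_keeps v hv s (hn ▸ hs)).1

include hL in
/-- The words keeping such an element are the flips. -/
theorem keeps_flip {z : ℕ → Lˣ} (htw : certFullE7.Twisted 2 W2 z)
    (hker : ∀ s < chevE7.nroots, (certFullE7.tchar z s = 1 ↔ (13 : ℤ) ∣ expo s))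
    (hzr : ∀ s < chevE7.nroots, certFullE7.tchar z s ^ 13 = 1) {M : List ℕ}
    (hM : ∀ p ∈ M, p < chevE7.rank) (hkeep : certFullE7.KeepsChar z M) :
    ∃ v ∈ flips, ∀ s < chevE7.nroots, certFullE7.wl M s = certFullE7.wl v s := by
  haveI : Fact (Nat.Prime 13) := ⟨by norm_num⟩
  obtain ⟨-, -, hW2, -⟩ := words_lt
  have hrk : chevE7.rank = 7 := rfl
  have hne : ∃ s < chevE7.nroots, certFullE7.tchar z s ≠ 1 := by
    refine ⟨chevE7.simple 0, certFullE7.simple_lt (by decide), fun h => ?_⟩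
    have h' := (hker _ (certFullE7.simple_lt (by decide))).1 h
    rw [certFullE7.simple_eq (show 0 < chevE7.rank by decide)] at h'
    exact absurd h' (by decide +kernel)
  obtain ⟨eb, heb, hWe, hfix⟩ := certFullE7.exists_eigen (r := 13) (by rw [hL]; norm_num) hW2 hzr hne htw
  obtain ⟨p1, p2, p3, p4⟩ := M7_props
  have hf : Polynomial.aeval M7 (Polynomial.X ^ 3 + 1 : Polynomial ℤ) = U7 * V7 := by
    rw [← p3, map_add, map_pow, map_one, Polynomial.aeval_X, pow_three, Matrix.mul_assoc]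
  refine exists_flip (F := L) hM fun s hs => ?_
  have h := certFullE7.weight_fixed (κ := Fin 4) (by rw [hrk]; omega) hW2 (Mw := M7) M7_rows
    (U := U7) (V := V7) (C' := C7) p1 p2 hf (n := 12) (k := 12) rfl (by norm_num) (by norm_num)
    (by norm_num) C7_pow (q := 2) (by rw [eval_twelve]; norm_num) (by norm_num) (by norm_num)
    heb (by exact_mod_cast hWe) ![1, -3, -2, 6] hM
    (hfix M hM fun i => hkeep _ (certFullE7.simple_lt i.2)) hs
  rw [wt_eq_sum, wt_eq_sum, ← p4]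
  exact h

include ι hF hφ hL in
set_option maxHeartbeats 1000000 in
theorem orderOf_ne (x : ↥(chevE7.group F)) : orderOf x ≠ 65 := by
  classical
  intro hx
  haveI : Fact (Nat.Prime 13) := ⟨by norm_num⟩
  haveI : Fact (Nat.Prime 5) := ⟨by norm_num⟩
  haveI : Finite ↥(chevE7.group F) := Subtype.finite
  haveI : Finite ↥(chevE7.group L) := Subtype.finite
  obtain ⟨-, -, hW2, -⟩ := words_lt
  obtain ⟨g, hg, h, hh, hk⟩ := exists_twisting ι hF φ hφ hL (r := 13)
    (by rw [eval_twelve]; norm_num) le_rfl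
  obtain ⟨z, htw, hker, hzr, hflip⟩ := exists_param hL
  have hτH : certFullE7.torus z ∈ chevE7.diagonalSubgroup L := certFullE7.torus_mem z
  -- the element over the small field
  have hY0 : g⁻¹ * certFullE7.torus z * g ∈ chevE7.group L :=
    mul_mem (mul_mem (inv_mem hg) (certFullE7.diagonal_le_group hτH)) hg
  have hfix : Matrix.GeneralLinearGroup.map φ (g⁻¹ * certFullE7.torus z * g) =
      g⁻¹ * certFullE7.torus z * g := by
    have hn := certFullE7.nw_of_twisted hW2 htw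
    rw [map_mul, map_mul, map_inv, certFullE7.sigma_torus hφ, ← hn,
      show Matrix.GeneralLinearGroup.map φ g = certFullE7.nw L W2 * h * g by rw [← hk]; group]
    have hc := certFullE7.H_commutative hh hτH
    calc (certFullE7.nw L W2 * h * g)⁻¹ * (certFullE7.nw L W2 * certFullE7.torus z *
          (certFullE7.nw L W2)⁻¹) * (certFullE7.nw L W2 * h * g)
        = g⁻¹ * h⁻¹ * (certFullE7.torus z * h) * g := by group
      _ = g⁻¹ * h⁻¹ * (h * certFullE7.torus z) * g := by rw [hc]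
      _ = _ := by group
  have hgcd : Nat.gcd 2 (Fintype.card F - 1) = 1 := by rw [hF]; rfl
  have hτ13 : certFullE7.torus z ^ 13 = 1 := by
    rw [← map_pow, Cert.torus_apply, ← map_one (dg chevE7 L), dg_eq_iff]
    intro s hs
    show certFullE7.tchar (z ^ 13) s = 1
    rw [certFullE7.tchar_pow]
    exact hzr s hs
  have hY13 : (g⁻¹ * certFullE7.torus z * g) ^ 13 = 1 := by
    rw [show g⁻¹ * certFullE7.torus z * g = g⁻¹ * certFullE7.torus z * g⁻¹⁻¹ by rw [inv_inv],
      conj_pow, hτ13]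
    group
  obtain ⟨x0, hx0, hx0e⟩ := certFullE7.exists_of_fixed ι φ (CertFull.range_eq_fixed ι hF hφ)
    (g₀ := Nat.gcd 2 (Fintype.card F - 1)) (torusOrderE7 F) hY0 hfix hY13
    (by rw [hgcd]; exact Nat.coprime_one_left _)
  have hτ1 : certFullE7.torus z ≠ 1 := by
    intro e
    rw [Cert.torus_apply, ← map_one (dg chevE7 L), dg_eq_iff] at e
    have hs : chevE7.simple 0 < chevE7.nroots := certFullE7.simple_lt (by decide)
    have h' := (hker _ hs).1 (e _ hs)
    rw [certFullE7.simple_eq (show 0 < chevE7.rank by decide)] at h'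
    exact absurd h' (by decide +kernel)
  have hinj : Function.Injective (Matrix.GeneralLinearGroup.map (n := chevE7.Idx) ι) :=
    fun a b e => Units.ext (Matrix.ext fun i j =>
      ι.injective (congrArg (fun v : GL chevE7.Idx L => (v : Matrix _ _ L) i j) e))
  obtain ⟨X0, hX0⟩ : ∃ X0 : ↥(chevE7.group F), (X0 : GL chevE7.Idx F) = x0 := ⟨⟨x0, hx0⟩, rfl⟩
  have hX13 : orderOf X0 = 13 := by
    refine orderOf_eq_prime (Subtype.ext (hinj ?_)) fun e => hτ1 ?_
    · rw [Subgroup.coe_pow, map_pow, hX0, hx0e, hY13, Subgroup.coe_one, map_one]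
    · rw [e, Subgroup.coe_one] at hX0
      rw [← hX0, map_one] at hx0e
      calc certFullE7.torus z = g * (g⁻¹ * certFullE7.torus z * g) * g⁻¹ := by group
        _ = 1 := by rw [← hx0e]; group
  -- the Sylow subgroups
  have h12 : orderOf ((2 : ℕ) : ZMod 13) = 12 := by
    rw [Nat.cast_ofNat]; exact orderOf_two
  have hP : ∀ P : Sylow 13 ↥(chevE7.group F), Nat.card P = 13 := fun P => by
    obtain ⟨e⟩ := SylowTorus.homocyclic_tabulated hF (chevE7, [2, 6, 8, 10, 12, 14, 18]) (by simp)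
      13 (by norm_num) (by norm_num) (hX13 ▸ orderOf_dvd_natCard X0) P
    change ↥(P : Subgroup ↥(chevE7.group F)) ≃* _ at e
    rw [h12] at e
    rw [Nat.card_congr e.toEquiv, Nat.card_fun, Nat.card_congr Multiplicative.toAdd, Nat.card_zmod,
      Nat.card_fin, eval_twelve]
    have : (((2 : ℕ) : ℤ) ^ 4 - ((2 : ℕ) : ℤ) ^ 2 + 1).natAbs = 13 := by norm_num
    rw [this, padicValNat.self (by norm_num)]
    decide
  have hx5 : orderOf (x ^ 5) = 13 := by
    rw [orderOf_pow_of_dvd (by norm_num) (by rw [hx]; norm_num), hx]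
  have hx13 : orderOf (x ^ 13) = 5 := by
    rw [orderOf_pow_of_dvd (by norm_num) (by rw [hx]; norm_num), hx]
  obtain ⟨P, hPle⟩ := (IsPGroup.of_card (n := 1) (G := ↥(Subgroup.zpowers (x ^ 5)))
    (by rw [Nat.card_zpowers, hx5, pow_one])).exists_le_sylow
  obtain ⟨P0, hP0le⟩ := (IsPGroup.of_card (n := 1) (G := ↥(Subgroup.zpowers X0))
    (by rw [Nat.card_zpowers, hX13, pow_one])).exists_le_sylow
  have eP : Subgroup.zpowers (x ^ 5) = P := Subgroup.eq_of_le_of_card_ge hPle
    (by rw [Nat.card_zpowers, hx5, hP])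
  obtain ⟨c, hc⟩ := MulAction.exists_smul_eq ↥(chevE7.group F) P P0
  have hX0P : X0 ∈ ((c • P : Sylow 13 ↥(chevE7.group F)) : Subgroup ↥(chevE7.group F)) :=
    hc ▸ hP0le (Subgroup.mem_zpowers X0)
  rw [Sylow.smul_def, Sylow.pointwise_smul_def, ← eP] at hX0P
  obtain ⟨y, hy, hy'⟩ := hX0P
  obtain ⟨i, rfl⟩ := Subgroup.mem_zpowers_iff.1 hy
  obtain ⟨Y5, hY5⟩ : ∃ Y5, Y5 = c * x ^ 13 * c⁻¹ := ⟨_, rfl⟩
  have hY5o : orderOf Y5 = 5 := by
    rw [hY5, show c * x ^ 13 * c⁻¹ = (MulAut.conj c).toMonoidHom (x ^ 13) from rfl,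
      orderOf_injective _ (MulAut.conj c).injective, hx13]
  have hcomm : Y5 * X0 = X0 * Y5 := by
    rw [← hy', hY5]
    show c * x ^ 13 * c⁻¹ * (c * (x ^ 5) ^ i * c⁻¹) = c * (x ^ 5) ^ i * c⁻¹ * (c * x ^ 13 * c⁻¹)
    have : Commute (x ^ 13) ((x ^ 5) ^ i) := ((Commute.refl x).pow_pow 13 5).zpow_right i
    calc _ = c * (x ^ 13 * (x ^ 5) ^ i) * c⁻¹ := by group
      _ = c * ((x ^ 5) ^ i * x ^ 13) * c⁻¹ := by rw [this.eq]
      _ = _ := by group
  -- over the large field
  obtain ⟨τ, hτ⟩ : ∃ τ : ↥(chevE7.group L), (τ : GL chevE7.Idx L) = certFullE7.torus z :=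
    ⟨⟨_, certFullE7.diagonal_le_group hτH⟩, rfl⟩
  obtain ⟨Y, hY⟩ : ∃ Y : ↥(chevE7.group L), (Y : GL chevE7.Idx L) =
      g * Matrix.GeneralLinearGroup.map ι (Y5 : GL chevE7.Idx F) * g⁻¹ :=
    ⟨⟨_, mul_mem (mul_mem hg (certFullE7.mapHom_mem_group ι Y5.2)) (inv_mem hg)⟩, rfl⟩
  obtain ⟨H, hH⟩ : ∃ H, H = Subgroup.centralizer ({τ} : Set ↥(chevE7.group L)) := ⟨_, rfl⟩
  have hτe : certFullE7.torus z = g * Matrix.GeneralLinearGroup.map ι (X0 : GL chevE7.Idx F) * g⁻¹ := by
    rw [hX0, hx0e]; group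
  have hYH : Y ∈ H := by
    rw [hH, Subgroup.mem_centralizer_singleton_iff]
    refine Subtype.ext ?_
    rw [Subgroup.coe_mul, Subgroup.coe_mul, hτ, hY, hτe]
    calc _ = g * (Matrix.GeneralLinearGroup.map ι (Y5 : GL chevE7.Idx F) *
          Matrix.GeneralLinearGroup.map ι (X0 : GL chevE7.Idx F)) * g⁻¹ := by group
      _ = g * (Matrix.GeneralLinearGroup.map ι (X0 : GL chevE7.Idx F) *
          Matrix.GeneralLinearGroup.map ι (Y5 : GL chevE7.Idx F)) * g⁻¹ := by
        rw [← map_mul, ← map_mul, ← Subgroup.coe_mul, hcomm, Subgroup.coe_mul]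
      _ = _ := by group
  have hYo : orderOf Y = 5 := by
    rw [← Subgroup.orderOf_coe, hY,
      show ∀ a : GL chevE7.Idx L, g * a * g⁻¹ = (MulAut.conj g).toMonoidHom a from fun a => rfl,
      orderOf_injective (MulAut.conj g).toMonoidHom (MulAut.conj g).injective,
      orderOf_injective _ hinj, Subgroup.orderOf_coe, hY5o]
  -- the torus has index prime to five in the centraliser
  have hle : (chevE7.diagonalSubgroup L).subgroupOf (chevE7.group L) ≤ H := fun a ha => by
    rw [hH, Subgroup.mem_centralizer_singleton_iff]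
    refine Subtype.ext ?_
    rw [Subgroup.coe_mul, Subgroup.coe_mul, hτ]
    exact certFullE7.H_commutative (Subgroup.mem_subgroupOf.1 ha) hτH
  have hsame : ∀ M : List ℕ, (∀ p ∈ M, p < chevE7.rank) → certFullE7.KeepsChar z M →
      ∃ v ∈ flips, certFullE7.Same M v := fun M hM hk => by
    obtain ⟨v, hv, e⟩ := keeps_flip hL htw hker hzr hM hk
    exact ⟨v, hv, fun q hq => e _ (certFullE7.simple_lt hq)⟩
  have hjr : ∀ j ∈ ([1, 4, 6] : List ℕ), j < chevE7.rank := by decide
  have hpw : flips.Pairwise fun a b => ¬ certFullE7.Same a b :=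
    flips_sep.imp fun {a b} ⟨j, hj, hne⟩ hs => hne (by
      rw [certFullE7.wlT_eq, certFullE7.wlT_eq, ← certFullE7.simple_eq (hjr j hj)]
      exact hs j (hjr j hj))
  have hcard := certFullE7.card_centralizer_torus z flips_lt hsame hpw hflip
  have hL1 : ((Fintype.card L : ℕ) : ZMod 5) = 1 := by rw [hL]; rfl
  have hidx : ¬ 5 ∣ (((chevE7.diagonalSubgroup L).subgroupOf (chevE7.group L)).subgroupOf H).index := by
    have e1 : Nat.card H = Nat.card {a : chevE7.group L //
        certFullE7.torus z * (a : GL chevE7.Idx L) = (a : GL chevE7.Idx L) * certFullE7.torus z} := by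
      refine Nat.card_congr (Equiv.subtypeEquivRight fun a => ?_)
      rw [hH, Subgroup.mem_centralizer_singleton_iff, ← hτ, ← Subgroup.coe_mul, ← Subgroup.coe_mul,
        Subtype.coe_inj, eq_comm]
    have e2 := (((chevE7.diagonalSubgroup L).subgroupOf (chevE7.group L)).subgroupOf H).card_mul_index
    rw [Nat.card_congr (Subgroup.subgroupOfEquivOfLe hle).toEquiv,
      Nat.card_congr (Subgroup.subgroupOfEquivOfLe certFullE7.diagonal_le_group).toEquiv, e1, hcard,
      mul_comm (_ ^ _) (Nat.card (chevE7.diagonalSubgroup L)), mul_assoc] at e2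
    haveI : Finite ↥(chevE7.diagonalSubgroup L) := Subtype.finite
    rw [Nat.eq_of_mul_eq_mul_left Nat.card_pos e2, ← ZMod.natCast_eq_zero_iff, Nat.cast_mul,
      Nat.cast_pow, hL1, one_pow, one_mul, Nat.cast_list_sum, List.map_map,
      List.map_congr_left (g := fun _ => (1 : ZMod 5)) (fun v _ => by simp [hL1]),
      List.map_const', List.sum_replicate, flips_length, nsmul_eq_mul, mul_one,
      ZMod.natCast_eq_zero_iff]
    norm_num
  obtain ⟨a, ha⟩ := Grp.SectionAut.exists_conj_le hidx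
    (IsPGroup.of_card (p := 5) (n := 1) (G := ↥(Subgroup.zpowers (⟨Y, hYH⟩ : ↥H)))
      (by rw [Nat.card_zpowers, pow_one, ← Subgroup.orderOf_coe, hYo]))
  have hmemD := Subgroup.mem_subgroupOf.1 (Subgroup.mem_subgroupOf.1 (ha _ (Subgroup.mem_zpowers _)))
  rw [certFullE7.diagonalSubgroup_eq] at hmemD
  obtain ⟨w, hw⟩ := hmemD
  obtain ⟨g', hg'def⟩ : ∃ g', g' = ((a : ↥(chevE7.group L)) : GL chevE7.Idx L) * g := ⟨_, rfl⟩
  have hg' : g' ∈ chevE7.group L := hg'def ▸ mul_mem (a : ↥(chevE7.group L)).2 hg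
  have hzg : g' * Matrix.GeneralLinearGroup.map ι (X0 : GL chevE7.Idx F) * g'⁻¹ =
      certFullE7.torus z := by
    have haH := a.2
    simp only [hH, Subgroup.mem_centralizer_singleton_iff] at haH
    have e := congrArg Subtype.val haH
    rw [Subgroup.coe_mul, Subgroup.coe_mul, hτ] at e
    calc _ = ((a : ↥(chevE7.group L)) : GL chevE7.Idx L) * certFullE7.torus z *
          ((a : ↥(chevE7.group L)) : GL chevE7.Idx L)⁻¹ := by rw [hτe, hg'def]; group
      _ = _ := by rw [e, mul_inv_cancel_right]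
  have hwg : g' * Matrix.GeneralLinearGroup.map ι (Y5 : GL chevE7.Idx F) * g'⁻¹ =
      certFullE7.torus w := by
    rw [hw]
    simp only [Subgroup.coe_mul, Subgroup.coe_inv, hY, hg'def]
    group
  have hfixed : ∀ (t : ℕ → Lˣ) (u : ↥(chevE7.group F)),
      g' * Matrix.GeneralLinearGroup.map ι (u : GL chevE7.Idx F) * g'⁻¹ = certFullE7.torus t →
      Matrix.GeneralLinearGroup.map φ (g'⁻¹ * certFullE7.torus t * g') =
        g'⁻¹ * certFullE7.torus t * g' := fun t u e => by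
    rw [← e, show g'⁻¹ * (g' * Matrix.GeneralLinearGroup.map ι (u : GL chevE7.Idx F) * g'⁻¹) * g' =
      Matrix.GeneralLinearGroup.map ι (u : GL chevE7.Idx F) by group]
    exact Units.ext (Matrix.ext fun i j => by
      show φ (ι _) = ι _
      rw [hφ, ← map_pow, ← hF, FiniteField.pow_card])
  obtain ⟨W, hW, htws, -⟩ := certFullE7.exists_twist hφ hg' (Z := {z, w}) (fun t ht => by
    rcases ht with rfl | ht
    · exact hfixed _ X0 hzg
    · obtain rfl : t = w := ht
      exact hfixed _ Y5 hwg)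
  -- the word is the twisting word with a flip
  have hW2r : ∀ p ∈ W2.reverse, p < chevE7.rank := fun p hp => hW2 p (List.mem_reverse.1 hp)
  have hMlt : ∀ p ∈ W2.reverse ++ W, p < chevE7.rank := fun p hp =>
    (List.mem_append.1 hp).elim (hW2r p) (hW p)
  have hkeep : certFullE7.KeepsChar z (W2.reverse ++ W) := fun s hs => by
    have ht := certFullE7.wl_lt hW hs
    rw [certFullE7.wl_append, ← htw _ (certFullE7.wl_lt hW2r ht), certFullE7.wl_reverse hW2 ht]
    exact htws z (Or.inl rfl) s hs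
  obtain ⟨v, hv, hMv⟩ := keeps_flip hL htw hker hzr hMlt hkeep
  have hV : ∀ p ∈ W2 ++ v, p < chevE7.rank := fun p hp =>
    (List.mem_append.1 hp).elim (hW2 p) (flips_lt v hv p)
  have hwtw : certFullE7.Twisted 2 (W2 ++ v) w := fun s hs => by
    have e := htws w (Or.inr rfl) s hs
    rwa [certFullE7.wl_append, ← hMv s hs, certFullE7.wl_append,
      certFullE7.wl_reverse hW2 (certFullE7.wl_lt hW hs)]
  have hwo : orderOf (certFullE7.torus w) = 5 := by
    rw [← hwg, show g' * Matrix.GeneralLinearGroup.map ι (Y5 : GL chevE7.Idx F) * g'⁻¹ =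
      (MulAut.conj g').toMonoidHom (Matrix.GeneralLinearGroup.map ι (Y5 : GL chevE7.Idx F)) from rfl,
      orderOf_injective (MulAut.conj g').toMonoidHom (MulAut.conj g').injective,
      orderOf_injective _ hinj, Subgroup.orderOf_coe, hY5o]
  have hw5 : ∀ s < chevE7.nroots, certFullE7.tchar w s ^ 5 = 1 := fun s hs => by
    have h1 := pow_orderOf_eq_one (certFullE7.torus w)
    rw [hwo, ← map_pow, Cert.torus_apply, ← map_one (dg chevE7 L), dg_eq_iff] at h1
    rw [← certFullE7.tchar_pow]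
    exact h1 s hs
  have hwne : ∃ s < chevE7.nroots, certFullE7.tchar w s ≠ 1 := by
    by_contra hall
    push Not at hall
    have h1 : certFullE7.torus w = 1 := by
      rw [Cert.torus_apply, ← map_one (dg chevE7 L), dg_eq_iff]
      exact hall
    rw [h1, orderOf_one] at hwo
    exact absurd hwo (by norm_num)
  obtain ⟨eb, heb, hWe, -⟩ := certFullE7.exists_eigen (r := 5) (by rw [hL]; norm_num) hV hw5 hwne hwtw
  obtain ⟨⟨v', N⟩, -, rfl, hN⟩ := twoMat_inv v hv
  refine heb ?_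
  have hz2 : twoMat v' *ᵥ (fun i : Fin 7 => eb i) = 0 := by
    funext i
    have h1 := congrFun hWe i
    simp only [Matrix.mulVec, dotProduct, twoMat, Matrix.map_apply, Pi.smul_apply, smul_eq_mul,
      CertFull.wmat, Matrix.of_apply, certFullE7.wlT_eq, sub_mul, Finset.sum_sub_distrib,
      ite_mul, zero_mul, Finset.sum_ite_eq, Finset.mem_univ, if_true, Pi.zero_apply,
      Int.coe_castRingHom] at h1 ⊢
    rw [← certFullE7.simple_eq (show (i : ℕ) < chevE7.rank from i.2), sub_eq_zero]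
    exact h1
  have := congrArg (N *ᵥ ·) hz2
  simp only [Matrix.mulVec_mulVec, hN, Matrix.one_mulVec, Matrix.mulVec_zero] at this
  exact this

end

end Cfsg.Agent.Lie.Chev.E7SixtyFive
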