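/- Generated certificates for the two classes of involutions in type E8: stabilisers of the
seeds in the Weyl group, their chains, and words moving every mask to a seed. -/
import Cfsg.Agent.Lib.Lie.Chev.InvolutionClasses

set_option autoImplicit false
set_option maxRecDepth 100000

namespace Cfsg.Agent.Lie.Chev

def invE8Gen1_0 : SubGen := ⟨[0],
 (.node 120 (.node 60 (.node 30 (.node 15 (.node 7 (.node 3 (.node 1 (.leaf 0)
 (.node 2 (.leaf 1)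
 (.leaf 2)))
 (.node 5 (.node 4 (.leaf 3)
 (.leaf 4))
 (.node 6 (.leaf 5)
 (.leaf 14))))
 (.node 11 (.node 9 (.node 8 (.leaf 7)
 (.leaf 15))
 (.node 10 (.leaf 16)
 (.leaf 17)))
 (.node 13 (.node 12 (.leaf 18)
 (.leaf 19))
 (.node 14 (.leaf 20)
 (.leaf 6)))))
 (.node 22 (.node 18 (.node 16 (.leaf 8)
 (.node 17 (.leaf 9)
 (.leaf 10)))
 (.node 20 (.node 19 (.leaf 11)
 (.leaf 12))
 (.node 21 (.leaf 13)
 (.leaf 21))))
 (.node 26 (.node 24 (.node 23 (.leaf 22)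
 (.leaf 23))
 (.node 25 (.leaf 24)
 (.leaf 25)))
 (.node 28 (.node 27 (.leaf 26)
 (.leaf 27))
 (.node 29 (.leaf 28)
 (.leaf 29))))))
 (.node 45 (.node 37 (.node 33 (.node 31 (.leaf 30)
 (.node 32 (.leaf 31)
 (.leaf 32)))
 (.node 35 (.node 34 (.leaf 33)
 (.leaf 34))
 (.node 36 (.leaf 35)
 (.leaf 36))))
 (.node 41 (.node 39 (.node 38 (.leaf 37)
 (.leaf 38))
 (.node 40 (.leaf 39)
 (.leaf 40)))
 (.node 43 (.node 42 (.leaf 41)
 (.leaf 42))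
 (.node 44 (.leaf 43)
 (.leaf 44)))))
 (.node 52 (.node 48 (.node 46 (.leaf 45)
 (.node 47 (.leaf 46)
 (.leaf 47)))
 (.node 50 (.node 49 (.leaf 48)
 (.leaf 49))
 (.node 51 (.leaf 50)
 (.leaf 51))))
 (.node 56 (.node 54 (.node 53 (.leaf 52)
 (.leaf 53))
 (.node 55 (.leaf 54)
 (.leaf 55)))
 (.node 58 (.node 57 (.leaf 78)
 (.leaf 79))
 (.node 59 (.leaf 80)
 (.leaf 81)))))))
 (.node 90 (.node 75 (.node 67 (.node 63 (.node 61 (.leaf 82)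
 (.node 62 (.leaf 83)
 (.leaf 84)))
 (.node 65 (.node 64 (.leaf 85)
 (.leaf 86))
 (.node 66 (.leaf 87)
 (.leaf 88))))
 (.node 71 (.node 69 (.node 68 (.leaf 89)
 (.leaf 90))
 (.node 70 (.leaf 91)
 (.leaf 92)))
 (.node 73 (.node 72 (.leaf 99)
 (.leaf 100))
 (.node 74 (.leaf 101)
 (.leaf 102)))))
 (.node 82 (.node 78 (.node 76 (.leaf 103)
 (.node 77 (.leaf 104)
 (.leaf 162)))
 (.node 80 (.node 79 (.leaf 56)
 (.leaf 57))
 (.node 81 (.leaf 58)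
 (.leaf 59))))
 (.node 86 (.node 84 (.node 83 (.leaf 60)
 (.leaf 61))
 (.node 85 (.leaf 62)
 (.leaf 63)))
 (.node 88 (.node 87 (.leaf 64)
 (.leaf 65))
 (.node 89 (.leaf 66)
 (.leaf 67))))))
 (.node 105 (.node 97 (.node 93 (.node 91 (.leaf 68)
 (.node 92 (.leaf 69)
 (.leaf 70)))
 (.node 95 (.node 94 (.leaf 93)
 (.leaf 94))
 (.node 96 (.leaf 95)
 (.leaf 96))))
 (.node 101 (.node 99 (.node 98 (.leaf 97)
 (.leaf 98))
 (.node 100 (.leaf 71)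
 (.leaf 72)))
 (.node 103 (.node 102 (.leaf 73)
 (.leaf 74))
 (.node 104 (.leaf 75)
 (.leaf 76)))))
 (.node 112 (.node 108 (.node 106 (.leaf 105)
 (.node 107 (.leaf 106)
 (.leaf 107)))
 (.node 110 (.node 109 (.leaf 108)
 (.leaf 109))
 (.node 111 (.leaf 110)
 (.leaf 111))))
 (.node 116 (.node 114 (.node 113 (.leaf 112)
 (.leaf 113))
 (.node 115 (.leaf 114)
 (.leaf 115)))
 (.node 118 (.node 117 (.leaf 116)
 (.leaf 117))
 (.node 119 (.leaf 118)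
 (.leaf 119))))))))
 (.node 180 (.node 150 (.node 135 (.node 127 (.node 123 (.node 121 (.leaf 120)
 (.node 122 (.leaf 121)
 (.leaf 122)))
 (.node 125 (.node 124 (.leaf 123)
 (.leaf 124))
 (.node 126 (.leaf 125)
 (.leaf 126))))
 (.node 131 (.node 129 (.node 128 (.leaf 127)
 (.leaf 128))
 (.node 130 (.leaf 129)
 (.leaf 130)))
 (.node 133 (.node 132 (.leaf 131)
 (.leaf 132))
 (.node 134 (.leaf 133)
 (.leaf 134)))))
 (.node 142 (.node 138 (.node 136 (.leaf 163)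
 (.node 137 (.leaf 164)
 (.leaf 165)))
 (.node 140 (.node 139 (.leaf 166)
 (.leaf 167))
 (.node 141 (.leaf 168)
 (.leaf 141))))
 (.node 146 (.node 144 (.node 143 (.leaf 142)
 (.leaf 143))
 (.node 145 (.leaf 144)
 (.leaf 145)))
 (.node 148 (.node 147 (.leaf 146)
 (.leaf 169))
 (.node 149 (.leaf 170)
 (.leaf 171))))))
 (.node 165 (.node 157 (.node 153 (.node 151 (.leaf 172)
 (.node 152 (.leaf 173)
 (.leaf 174)))
 (.node 155 (.node 154 (.leaf 175)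
 (.leaf 176))
 (.node 156 (.leaf 177)
 (.leaf 178))))
 (.node 161 (.node 159 (.node 158 (.leaf 179)
 (.leaf 180))
 (.node 160 (.leaf 181)
 (.leaf 182)))
 (.node 163 (.node 162 (.leaf 183)
 (.leaf 77))
 (.node 164 (.leaf 135)
 (.leaf 136)))))
 (.node 172 (.node 168 (.node 166 (.leaf 137)
 (.node 167 (.leaf 138)
 (.leaf 139)))
 (.node 170 (.node 169 (.leaf 140)
 (.leaf 147))
 (.node 171 (.leaf 148)
 (.leaf 149))))
 (.node 176 (.node 174 (.node 173 (.leaf 150)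
 (.leaf 151))
 (.node 175 (.leaf 152)
 (.leaf 153)))
 (.node 178 (.node 177 (.leaf 154)
 (.leaf 155))
 (.node 179 (.leaf 156)
 (.leaf 157)))))))
 (.node 210 (.node 195 (.node 187 (.node 183 (.node 181 (.leaf 158)
 (.node 182 (.leaf 159)
 (.leaf 160)))
 (.node 185 (.node 184 (.leaf 161)
 (.leaf 184))
 (.node 186 (.leaf 185)
 (.leaf 186))))
 (.node 191 (.node 189 (.node 188 (.leaf 187)
 (.leaf 188))
 (.node 190 (.leaf 189)
 (.leaf 190)))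
 (.node 193 (.node 192 (.leaf 191)
 (.leaf 192))
 (.node 194 (.leaf 193)
 (.leaf 194)))))
 (.node 202 (.node 198 (.node 196 (.leaf 195)
 (.node 197 (.leaf 196)
 (.leaf 197)))
 (.node 200 (.node 199 (.leaf 198)
 (.leaf 199))
 (.node 201 (.leaf 200)
 (.leaf 201))))
 (.node 206 (.node 204 (.node 203 (.leaf 202)
 (.leaf 203))
 (.node 205 (.leaf 204)
 (.leaf 205)))
 (.node 208 (.node 207 (.leaf 206)
 (.leaf 207))
 (.node 209 (.leaf 208)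
 (.leaf 209))))))
 (.node 225 (.node 217 (.node 213 (.node 211 (.leaf 210)
 (.node 212 (.leaf 211)
 (.leaf 212)))
 (.node 215 (.node 214 (.leaf 213)
 (.leaf 214))
 (.node 216 (.leaf 215)
 (.leaf 216))))
 (.node 221 (.node 219 (.node 218 (.leaf 217)
 (.leaf 218))
 (.node 220 (.leaf 226)
 (.leaf 227)))
 (.node 223 (.node 222 (.leaf 228)
 (.leaf 229))
 (.node 224 (.leaf 230)
 (.leaf 231)))))
 (.node 232 (.node 228 (.node 226 (.leaf 233)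
 (.node 227 (.leaf 219)
 (.leaf 220)))
 (.node 230 (.node 229 (.leaf 221)
 (.leaf 222))
 (.node 231 (.leaf 223)
 (.leaf 224))))
 (.node 236 (.node 234 (.node 233 (.leaf 232)
 (.leaf 225))
 (.node 235 (.leaf 234)
 (.leaf 235)))
 (.node 238 (.node 237 (.leaf 236)
 (.leaf 237))
 (.node 239 (.leaf 238)
 (.leaf 239)))))))))⟩

def invE8Gen1_1 : SubGen := ⟨[3, 2, 3],
 (.node 120 (.node 60 (.node 30 (.node 15 (.node 7 (.node 3 (.node 1 (.leaf 0)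
 (.node 2 (.leaf 1)
 (.leaf 2)))
 (.node 5 (.node 4 (.leaf 3)
 (.leaf 6))
 (.node 6 (.leaf 5)
 (.leaf 4))))
 (.node 11 (.node 9 (.node 8 (.leaf 9)
 (.leaf 8))
 (.node 10 (.leaf 7)
 (.leaf 10)))
 (.node 13 (.node 12 (.leaf 11)
 (.leaf 12))
 (.node 14 (.leaf 13)
 (.leaf 14)))))
 (.node 22 (.node 18 (.node 16 (.leaf 21)
 (.node 17 (.leaf 16)
 (.leaf 26)))
 (.node 20 (.node 19 (.leaf 27)
 (.leaf 28))
 (.node 21 (.leaf 29)
 (.leaf 15))))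
 (.node 26 (.node 24 (.node 23 (.leaf 22)
 (.leaf 23))
 (.node 25 (.leaf 24)
 (.leaf 25)))
 (.node 28 (.node 27 (.leaf 17)
 (.leaf 18))
 (.node 29 (.leaf 19)
 (.leaf 20))))))
 (.node 45 (.node 37 (.node 33 (.node 31 (.leaf 30)
 (.node 32 (.leaf 31)
 (.leaf 32)))
 (.node 35 (.node 34 (.leaf 33)
 (.leaf 34))
 (.node 36 (.leaf 35)
 (.leaf 36))))
 (.node 41 (.node 39 (.node 38 (.leaf 37)
 (.leaf 38))
 (.node 40 (.leaf 39)
 (.leaf 56)))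
 (.node 43 (.node 42 (.leaf 57)
 (.leaf 58))
 (.node 44 (.leaf 59)
 (.leaf 60)))))
 (.node 52 (.node 48 (.node 46 (.leaf 61)
 (.node 47 (.leaf 46)
 (.leaf 47)))
 (.node 50 (.node 49 (.leaf 48)
 (.leaf 49))
 (.node 51 (.leaf 50)
 (.leaf 51))))
 (.node 56 (.node 54 (.node 53 (.leaf 66)
 (.leaf 67))
 (.node 55 (.leaf 68)
 (.leaf 69)))
 (.node 58 (.node 57 (.leaf 40)
 (.leaf 41))
 (.node 59 (.leaf 42)
 (.leaf 43)))))))
 (.node 90 (.node 75 (.node 67 (.node 63 (.node 61 (.leaf 44)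
 (.node 62 (.leaf 45)
 (.leaf 62)))
 (.node 65 (.node 64 (.leaf 63)
 (.leaf 64))
 (.node 66 (.leaf 65)
 (.leaf 52))))
 (.node 71 (.node 69 (.node 68 (.leaf 53)
 (.leaf 54))
 (.node 70 (.leaf 55)
 (.leaf 70)))
 (.node 73 (.node 72 (.leaf 71)
 (.leaf 72))
 (.node 74 (.leaf 73)
 (.leaf 74)))))
 (.node 82 (.node 78 (.node 76 (.leaf 77)
 (.node 77 (.leaf 76)
 (.leaf 75)))
 (.node 80 (.node 79 (.leaf 78)
 (.leaf 79))
 (.node 81 (.leaf 80)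
 (.leaf 81))))
 (.node 86 (.node 84 (.node 83 (.leaf 82)
 (.leaf 83))
 (.node 85 (.leaf 93)
 (.leaf 94)))
 (.node 88 (.node 87 (.leaf 95)
 (.leaf 96))
 (.node 89 (.leaf 88)
 (.leaf 89))))))
 (.node 105 (.node 97 (.node 93 (.node 91 (.leaf 90)
 (.node 92 (.leaf 91)
 (.leaf 98)))
 (.node 95 (.node 94 (.leaf 84)
 (.leaf 85))
 (.node 96 (.leaf 86)
 (.leaf 87))))
 (.node 101 (.node 99 (.node 98 (.leaf 97)
 (.leaf 92))
 (.node 100 (.leaf 110)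
 (.leaf 111)))
 (.node 103 (.node 102 (.leaf 112)
 (.leaf 113))
 (.node 104 (.leaf 136)
 (.leaf 130)))))
 (.node 112 (.node 108 (.node 106 (.leaf 105)
 (.node 107 (.leaf 106)
 (.leaf 107)))
 (.node 110 (.node 109 (.leaf 108)
 (.leaf 135))
 (.node 111 (.leaf 99)
 (.leaf 100))))
 (.node 116 (.node 114 (.node 113 (.leaf 101)
 (.leaf 102))
 (.node 115 (.leaf 114)
 (.leaf 115)))
 (.node 118 (.node 117 (.leaf 116)
 (.leaf 117))
 (.node 119 (.leaf 118)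
 (.leaf 119))))))))
 (.node 180 (.node 150 (.node 135 (.node 127 (.node 123 (.node 121 (.leaf 120)
 (.node 122 (.leaf 121)
 (.leaf 122)))
 (.node 125 (.node 124 (.leaf 123)
 (.leaf 124))
 (.node 126 (.leaf 125)
 (.leaf 137))))
 (.node 131 (.node 129 (.node 128 (.leaf 138)
 (.leaf 139))
 (.node 130 (.leaf 140)
 (.leaf 104)))
 (.node 133 (.node 132 (.leaf 131)
 (.leaf 132))
 (.node 134 (.leaf 133)
 (.leaf 134)))))
 (.node 142 (.node 138 (.node 136 (.leaf 109)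
 (.node 137 (.leaf 103)
 (.leaf 126)))
 (.node 140 (.node 139 (.leaf 127)
 (.leaf 128))
 (.node 141 (.leaf 129)
 (.leaf 147))))
 (.node 146 (.node 144 (.node 143 (.leaf 142)
 (.leaf 152))
 (.node 145 (.leaf 153)
 (.leaf 154)))
 (.node 148 (.node 147 (.leaf 155)
 (.leaf 141))
 (.node 149 (.leaf 148)
 (.leaf 149))))))
 (.node 165 (.node 157 (.node 153 (.node 151 (.leaf 150)
 (.node 152 (.leaf 151)
 (.leaf 143)))
 (.node 155 (.node 154 (.leaf 144)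
 (.leaf 145))
 (.node 156 (.leaf 146)
 (.leaf 156))))
 (.node 161 (.node 159 (.node 158 (.leaf 157)
 (.leaf 158))
 (.node 160 (.leaf 159)
 (.leaf 160)))
 (.node 163 (.node 162 (.leaf 161)
 (.leaf 164))
 (.node 164 (.leaf 163)
 (.leaf 162)))))
 (.node 172 (.node 168 (.node 166 (.leaf 165)
 (.node 167 (.leaf 166)
 (.leaf 167)))
 (.node 170 (.node 169 (.leaf 168)
 (.leaf 169))
 (.node 171 (.leaf 184)
 (.leaf 185))))
 (.node 176 (.node 174 (.node 173 (.leaf 186)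
 (.leaf 187))
 (.node 175 (.leaf 174)
 (.leaf 175)))
 (.node 178 (.node 177 (.leaf 176)
 (.leaf 177))
 (.node 179 (.leaf 194)
 (.leaf 195)))))))
 (.node 210 (.node 195 (.node 187 (.node 183 (.node 181 (.leaf 196)
 (.node 182 (.leaf 197)
 (.leaf 198)))
 (.node 185 (.node 184 (.leaf 199)
 (.leaf 170))
 (.node 186 (.leaf 171)
 (.leaf 172))))
 (.node 191 (.node 189 (.node 188 (.leaf 173)
 (.leaf 188))
 (.node 190 (.leaf 189)
 (.leaf 190)))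
 (.node 193 (.node 192 (.leaf 191)
 (.leaf 192))
 (.node 194 (.leaf 193)
 (.leaf 178)))))
 (.node 202 (.node 198 (.node 196 (.leaf 179)
 (.node 197 (.leaf 180)
 (.leaf 181)))
 (.node 200 (.node 199 (.leaf 182)
 (.leaf 183))
 (.node 201 (.leaf 200)
 (.leaf 201))))
 (.node 206 (.node 204 (.node 203 (.leaf 202)
 (.leaf 203))
 (.node 205 (.leaf 204)
 (.leaf 205)))
 (.node 208 (.node 207 (.leaf 206)
 (.leaf 207))
 (.node 209 (.leaf 208)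
 (.leaf 209))))))
 (.node 225 (.node 217 (.node 213 (.node 211 (.leaf 219)
 (.node 212 (.leaf 220)
 (.leaf 221)))
 (.node 215 (.node 214 (.leaf 222)
 (.leaf 214))
 (.node 216 (.leaf 215)
 (.leaf 216))))
 (.node 221 (.node 219 (.node 218 (.leaf 217)
 (.leaf 224))
 (.node 220 (.leaf 210)
 (.leaf 211)))
 (.node 223 (.node 222 (.leaf 212)
 (.leaf 213))
 (.node 224 (.leaf 223)
 (.leaf 218)))))
 (.node 232 (.node 228 (.node 226 (.leaf 225)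
 (.node 227 (.leaf 226)
 (.leaf 227)))
 (.node 230 (.node 229 (.leaf 228)
 (.leaf 229))
 (.node 231 (.leaf 232)
 (.leaf 231))))
 (.node 236 (.node 234 (.node 233 (.leaf 230)
 (.leaf 235))
 (.node 235 (.leaf 234)
 (.leaf 233)))
 (.node 238 (.node 237 (.leaf 236)
 (.leaf 237))
 (.node 239 (.leaf 238)
 (.leaf 239)))))))))⟩

def invE8Gen1_2 : SubGen := ⟨[1],
 (.node 120 (.node 60 (.node 30 (.node 15 (.node 7 (.node 3 (.node 1 (.leaf 0)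
 (.node 2 (.leaf 1)
 (.leaf 2)))
 (.node 5 (.node 4 (.leaf 3)
 (.leaf 4))
 (.node 6 (.leaf 7)
 (.leaf 8))))
 (.node 11 (.node 9 (.node 8 (.leaf 5)
 (.leaf 6))
 (.node 10 (.leaf 9)
 (.leaf 10)))
 (.node 13 (.node 12 (.leaf 11)
 (.leaf 12))
 (.node 14 (.leaf 13)
 (.leaf 15)))))
 (.node 22 (.node 18 (.node 16 (.leaf 14)
 (.node 17 (.leaf 16)
 (.leaf 17)))
 (.node 20 (.node 19 (.leaf 18)
 (.leaf 19))
 (.node 21 (.leaf 20)
 (.leaf 21))))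
 (.node 26 (.node 24 (.node 23 (.leaf 22)
 (.leaf 23))
 (.node 25 (.leaf 24)
 (.leaf 25)))
 (.node 28 (.node 27 (.leaf 36)
 (.leaf 37))
 (.node 29 (.leaf 38)
 (.leaf 39))))))
 (.node 45 (.node 37 (.node 33 (.node 31 (.leaf 40)
 (.node 32 (.leaf 41)
 (.leaf 42)))
 (.node 35 (.node 34 (.leaf 43)
 (.leaf 44))
 (.node 36 (.leaf 45)
 (.leaf 26))))
 (.node 41 (.node 39 (.node 38 (.leaf 27)
 (.leaf 28))
 (.node 40 (.leaf 29)
 (.leaf 30)))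
 (.node 43 (.node 42 (.leaf 31)
 (.leaf 32))
 (.node 44 (.leaf 33)
 (.leaf 34)))))
 (.node 52 (.node 48 (.node 46 (.leaf 35)
 (.node 47 (.leaf 46)
 (.leaf 47)))
 (.node 50 (.node 49 (.leaf 48)
 (.leaf 49))
 (.node 51 (.leaf 50)
 (.leaf 51))))
 (.node 56 (.node 54 (.node 53 (.leaf 52)
 (.leaf 53))
 (.node 55 (.leaf 54)
 (.leaf 55)))
 (.node 58 (.node 57 (.leaf 56)
 (.leaf 57))
 (.node 59 (.leaf 58)
 (.leaf 59)))))))
 (.node 90 (.node 75 (.node 67 (.node 63 (.node 61 (.leaf 60)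
 (.node 62 (.leaf 61)
 (.leaf 62)))
 (.node 65 (.node 64 (.leaf 63)
 (.leaf 64))
 (.node 66 (.leaf 65)
 (.leaf 71))))
 (.node 71 (.node 69 (.node 68 (.leaf 72)
 (.leaf 73))
 (.node 70 (.leaf 74)
 (.leaf 75)))
 (.node 73 (.node 72 (.leaf 66)
 (.leaf 67))
 (.node 74 (.leaf 68)
 (.leaf 69)))))
 (.node 82 (.node 78 (.node 76 (.leaf 70)
 (.node 77 (.leaf 76)
 (.leaf 77)))
 (.node 80 (.node 79 (.leaf 78)
 (.leaf 79))
 (.node 81 (.leaf 80)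
 (.leaf 81))))
 (.node 86 (.node 84 (.node 83 (.leaf 82)
 (.leaf 83))
 (.node 85 (.leaf 84)
 (.leaf 85)))
 (.node 88 (.node 87 (.leaf 86)
 (.leaf 87))
 (.node 89 (.leaf 99)
 (.leaf 100))))))
 (.node 105 (.node 97 (.node 93 (.node 91 (.leaf 101)
 (.node 92 (.leaf 102)
 (.leaf 103)))
 (.node 95 (.node 94 (.leaf 105)
 (.leaf 106))
 (.node 96 (.leaf 107)
 (.leaf 108))))
 (.node 101 (.node 99 (.node 98 (.leaf 109)
 (.leaf 141))
 (.node 100 (.leaf 88)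
 (.leaf 89)))
 (.node 103 (.node 102 (.leaf 90)
 (.leaf 91))
 (.node 104 (.leaf 92)
 (.leaf 104)))))
 (.node 112 (.node 108 (.node 106 (.leaf 93)
 (.node 107 (.leaf 94)
 (.leaf 95)))
 (.node 110 (.node 109 (.leaf 96)
 (.leaf 97))
 (.node 111 (.leaf 110)
 (.leaf 111))))
 (.node 116 (.node 114 (.node 113 (.leaf 112)
 (.leaf 113))
 (.node 115 (.leaf 114)
 (.leaf 115)))
 (.node 118 (.node 117 (.leaf 116)
 (.leaf 117))
 (.node 119 (.leaf 118)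
 (.leaf 119))))))))
 (.node 180 (.node 150 (.node 135 (.node 127 (.node 123 (.node 121 (.leaf 120)
 (.node 122 (.leaf 121)
 (.leaf 122)))
 (.node 125 (.node 124 (.leaf 123)
 (.leaf 124))
 (.node 126 (.leaf 125)
 (.leaf 126))))
 (.node 131 (.node 129 (.node 128 (.leaf 127)
 (.leaf 128))
 (.node 130 (.leaf 129)
 (.leaf 142)))
 (.node 133 (.node 132 (.leaf 143)
 (.leaf 144))
 (.node 134 (.leaf 145)
 (.leaf 146)))))
 (.node 142 (.node 138 (.node 136 (.leaf 135)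
 (.node 137 (.leaf 147)
 (.leaf 148)))
 (.node 140 (.node 139 (.leaf 149)
 (.leaf 150))
 (.node 141 (.leaf 151)
 (.leaf 98))))
 (.node 146 (.node 144 (.node 143 (.leaf 130)
 (.leaf 131))
 (.node 145 (.leaf 132)
 (.leaf 133)))
 (.node 148 (.node 147 (.leaf 134)
 (.leaf 136))
 (.node 149 (.leaf 137)
 (.leaf 138))))))
 (.node 165 (.node 157 (.node 153 (.node 151 (.leaf 139)
 (.node 152 (.leaf 140)
 (.leaf 152)))
 (.node 155 (.node 154 (.leaf 153)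
 (.leaf 154))
 (.node 156 (.leaf 155)
 (.leaf 156))))
 (.node 161 (.node 159 (.node 158 (.leaf 157)
 (.leaf 158))
 (.node 160 (.leaf 159)
 (.leaf 160)))
 (.node 163 (.node 162 (.leaf 161)
 (.leaf 162))
 (.node 164 (.leaf 163)
 (.leaf 169)))))
 (.node 172 (.node 168 (.node 166 (.leaf 170)
 (.node 167 (.leaf 171)
 (.leaf 172)))
 (.node 170 (.node 169 (.leaf 173)
 (.leaf 164))
 (.node 171 (.leaf 165)
 (.leaf 166))))
 (.node 176 (.node 174 (.node 173 (.leaf 167)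
 (.leaf 168))
 (.node 175 (.leaf 174)
 (.leaf 175)))
 (.node 178 (.node 177 (.leaf 176)
 (.leaf 177))
 (.node 179 (.leaf 178)
 (.leaf 179)))))))
 (.node 210 (.node 195 (.node 187 (.node 183 (.node 181 (.leaf 180)
 (.node 182 (.leaf 181)
 (.leaf 182)))
 (.node 185 (.node 184 (.leaf 183)
 (.leaf 184))
 (.node 186 (.leaf 185)
 (.leaf 186))))
 (.node 191 (.node 189 (.node 188 (.leaf 187)
 (.leaf 188))
 (.node 190 (.leaf 189)
 (.leaf 190)))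
 (.node 193 (.node 192 (.leaf 191)
 (.leaf 192))
 (.node 194 (.leaf 193)
 (.leaf 204)))))
 (.node 202 (.node 198 (.node 196 (.leaf 205)
 (.node 197 (.leaf 206)
 (.leaf 207)))
 (.node 200 (.node 199 (.leaf 208)
 (.leaf 209))
 (.node 201 (.leaf 210)
 (.leaf 211))))
 (.node 206 (.node 204 (.node 203 (.leaf 212)
 (.leaf 213))
 (.node 205 (.leaf 194)
 (.leaf 195)))
 (.node 208 (.node 207 (.leaf 196)
 (.leaf 197))
 (.node 209 (.leaf 198)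
 (.leaf 199))))))
 (.node 225 (.node 217 (.node 213 (.node 211 (.leaf 200)
 (.node 212 (.leaf 201)
 (.leaf 202)))
 (.node 215 (.node 214 (.leaf 203)
 (.leaf 214))
 (.node 216 (.leaf 215)
 (.leaf 216))))
 (.node 221 (.node 219 (.node 218 (.leaf 217)
 (.leaf 218))
 (.node 220 (.leaf 219)
 (.leaf 220)))
 (.node 223 (.node 222 (.leaf 221)
 (.leaf 222))
 (.node 224 (.leaf 223)
 (.leaf 225)))))
 (.node 232 (.node 228 (.node 226 (.leaf 224)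
 (.node 227 (.leaf 226)
 (.leaf 227)))
 (.node 230 (.node 229 (.leaf 228)
 (.leaf 229))
 (.node 231 (.leaf 230)
 (.leaf 233))))
 (.node 236 (.node 234 (.node 233 (.leaf 234)
 (.leaf 231))
 (.node 235 (.leaf 232)
 (.leaf 235)))
 (.node 238 (.node 237 (.leaf 236)
 (.leaf 237))
 (.node 239 (.leaf 238)
 (.leaf 239)))))))))⟩

def invE8Gen1_3 : SubGen := ⟨[4],
 (.node 120 (.node 60 (.node 30 (.node 15 (.node 7 (.node 3 (.node 1 (.leaf 0)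
 (.node 2 (.leaf 1)
 (.leaf 2)))
 (.node 5 (.node 4 (.leaf 4)
 (.leaf 3))
 (.node 6 (.leaf 5)
 (.leaf 6))))
 (.node 11 (.node 9 (.node 8 (.leaf 7)
 (.leaf 8))
 (.node 10 (.leaf 10)
 (.leaf 9)))
 (.node 13 (.node 12 (.leaf 11)
 (.leaf 12))
 (.node 14 (.leaf 13)
 (.leaf 14)))))
 (.node 22 (.node 18 (.node 16 (.leaf 15)
 (.node 17 (.leaf 17)
 (.leaf 16)))
 (.node 20 (.node 19 (.leaf 18)
 (.leaf 19))
 (.node 21 (.leaf 20)
 (.leaf 22))))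
 (.node 26 (.node 24 (.node 23 (.leaf 21)
 (.leaf 23))
 (.node 25 (.leaf 24)
 (.leaf 25)))
 (.node 28 (.node 27 (.leaf 26)
 (.leaf 30))
 (.node 29 (.leaf 31)
 (.leaf 32))))))
 (.node 45 (.node 37 (.node 33 (.node 31 (.leaf 27)
 (.node 32 (.leaf 28)
 (.leaf 29)))
 (.node 35 (.node 34 (.leaf 33)
 (.leaf 34))
 (.node 36 (.leaf 35)
 (.leaf 36))))
 (.node 41 (.node 39 (.node 38 (.leaf 40)
 (.leaf 41))
 (.node 40 (.leaf 42)
 (.leaf 37)))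
 (.node 43 (.node 42 (.leaf 38)
 (.leaf 39))
 (.node 44 (.leaf 43)
 (.leaf 44)))))
 (.node 52 (.node 48 (.node 46 (.leaf 45)
 (.node 47 (.leaf 46)
 (.leaf 47)))
 (.node 50 (.node 49 (.leaf 48)
 (.leaf 52))
 (.node 51 (.leaf 53)
 (.leaf 54))))
 (.node 56 (.node 54 (.node 53 (.leaf 49)
 (.leaf 50))
 (.node 55 (.leaf 51)
 (.leaf 55)))
 (.node 58 (.node 57 (.leaf 56)
 (.leaf 57))
 (.node 59 (.leaf 58)
 (.leaf 62)))))))
 (.node 90 (.node 75 (.node 67 (.node 63 (.node 61 (.leaf 63)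
 (.node 62 (.leaf 64)
 (.leaf 59)))
 (.node 65 (.node 64 (.leaf 60)
 (.leaf 61))
 (.node 66 (.leaf 65)
 (.leaf 66))))
 (.node 71 (.node 69 (.node 68 (.leaf 67)
 (.leaf 68))
 (.node 70 (.leaf 70)
 (.leaf 69)))
 (.node 73 (.node 72 (.leaf 71)
 (.leaf 72))
 (.node 74 (.leaf 73)
 (.leaf 75)))))
 (.node 82 (.node 78 (.node 76 (.leaf 74)
 (.node 77 (.leaf 76)
 (.leaf 77)))
 (.node 80 (.node 79 (.leaf 78)
 (.leaf 79))
 (.node 81 (.leaf 80)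
 (.leaf 84))))
 (.node 86 (.node 84 (.node 83 (.leaf 85)
 (.leaf 86))
 (.node 85 (.leaf 81)
 (.leaf 82)))
 (.node 88 (.node 87 (.leaf 83)
 (.leaf 87))
 (.node 89 (.leaf 88)
 (.leaf 89))))))
 (.node 105 (.node 97 (.node 93 (.node 91 (.leaf 90)
 (.node 92 (.leaf 92)
 (.leaf 91)))
 (.node 95 (.node 94 (.leaf 93)
 (.leaf 94))
 (.node 96 (.leaf 95)
 (.leaf 97))))
 (.node 101 (.node 99 (.node 98 (.leaf 96)
 (.leaf 98))
 (.node 100 (.leaf 99)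
 (.leaf 100)))
 (.node 103 (.node 102 (.leaf 101)
 (.leaf 103))
 (.node 104 (.leaf 102)
 (.leaf 104)))))
 (.node 112 (.node 108 (.node 106 (.leaf 105)
 (.node 107 (.leaf 106)
 (.leaf 107)))
 (.node 110 (.node 109 (.leaf 109)
 (.leaf 108))
 (.node 111 (.leaf 114)
 (.leaf 115))))
 (.node 116 (.node 114 (.node 113 (.leaf 116)
 (.leaf 126))
 (.node 115 (.leaf 110)
 (.leaf 111)))
 (.node 118 (.node 117 (.leaf 112)
 (.leaf 117))
 (.node 119 (.leaf 118)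
 (.leaf 119))))))))
 (.node 180 (.node 150 (.node 135 (.node 127 (.node 123 (.node 121 (.leaf 120)
 (.node 122 (.leaf 121)
 (.leaf 122)))
 (.node 125 (.node 124 (.leaf 127)
 (.leaf 128))
 (.node 126 (.leaf 129)
 (.leaf 113))))
 (.node 131 (.node 129 (.node 128 (.leaf 123)
 (.leaf 124))
 (.node 130 (.leaf 125)
 (.leaf 131)))
 (.node 133 (.node 132 (.leaf 130)
 (.leaf 132))
 (.node 134 (.leaf 133)
 (.leaf 134)))))
 (.node 142 (.node 138 (.node 136 (.leaf 135)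
 (.node 137 (.leaf 137)
 (.leaf 136)))
 (.node 140 (.node 139 (.leaf 138)
 (.leaf 139))
 (.node 141 (.leaf 140)
 (.leaf 141))))
 (.node 146 (.node 144 (.node 143 (.leaf 143)
 (.leaf 142))
 (.node 145 (.leaf 144)
 (.leaf 145)))
 (.node 148 (.node 147 (.leaf 146)
 (.leaf 148))
 (.node 149 (.leaf 147)
 (.leaf 149))))))
 (.node 165 (.node 157 (.node 153 (.node 151 (.leaf 150)
 (.node 152 (.leaf 151)
 (.leaf 152)))
 (.node 155 (.node 154 (.leaf 156)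
 (.leaf 157))
 (.node 156 (.leaf 158)
 (.leaf 153))))
 (.node 161 (.node 159 (.node 158 (.leaf 154)
 (.leaf 155))
 (.node 160 (.leaf 159)
 (.leaf 160)))
 (.node 163 (.node 162 (.leaf 161)
 (.leaf 162))
 (.node 164 (.leaf 163)
 (.leaf 165)))))
 (.node 172 (.node 168 (.node 166 (.leaf 164)
 (.node 167 (.leaf 166)
 (.leaf 167)))
 (.node 170 (.node 169 (.leaf 168)
 (.leaf 170))
 (.node 171 (.leaf 169)
 (.leaf 171))))
 (.node 176 (.node 174 (.node 173 (.leaf 172)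
 (.leaf 173))
 (.node 175 (.leaf 174)
 (.leaf 178)))
 (.node 178 (.node 177 (.leaf 179)
 (.leaf 180))
 (.node 179 (.leaf 175)
 (.leaf 176)))))))
 (.node 210 (.node 195 (.node 187 (.node 183 (.node 181 (.leaf 177)
 (.node 182 (.leaf 181)
 (.leaf 182)))
 (.node 185 (.node 184 (.leaf 183)
 (.leaf 184))
 (.node 186 (.leaf 188)
 (.leaf 189))))
 (.node 191 (.node 189 (.node 188 (.leaf 190)
 (.leaf 185))
 (.node 190 (.leaf 186)
 (.leaf 187)))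
 (.node 193 (.node 192 (.leaf 191)
 (.leaf 192))
 (.node 194 (.leaf 193)
 (.leaf 194)))))
 (.node 202 (.node 198 (.node 196 (.leaf 195)
 (.node 197 (.leaf 196)
 (.leaf 200)))
 (.node 200 (.node 199 (.leaf 201)
 (.leaf 202))
 (.node 201 (.leaf 197)
 (.leaf 198))))
 (.node 206 (.node 204 (.node 203 (.leaf 199)
 (.leaf 203))
 (.node 205 (.leaf 204)
 (.leaf 205)))
 (.node 208 (.node 207 (.leaf 206)
 (.leaf 210))
 (.node 209 (.leaf 211)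
 (.leaf 212))))))
 (.node 225 (.node 217 (.node 213 (.node 211 (.leaf 207)
 (.node 212 (.leaf 208)
 (.leaf 209)))
 (.node 215 (.node 214 (.leaf 213)
 (.leaf 214))
 (.node 216 (.leaf 215)
 (.leaf 216))))
 (.node 221 (.node 219 (.node 218 (.leaf 218)
 (.leaf 217))
 (.node 220 (.leaf 219)
 (.leaf 220)))
 (.node 223 (.node 222 (.leaf 221)
 (.leaf 223))
 (.node 224 (.leaf 222)
 (.leaf 224)))))
 (.node 232 (.node 228 (.node 226 (.leaf 225)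
 (.node 227 (.leaf 226)
 (.leaf 227)))
 (.node 230 (.node 229 (.leaf 228)
 (.leaf 230))
 (.node 231 (.leaf 229)
 (.leaf 231))))
 (.node 236 (.node 234 (.node 233 (.leaf 232)
 (.leaf 233))
 (.node 235 (.leaf 234)
 (.leaf 236)))
 (.node 238 (.node 237 (.leaf 235)
 (.leaf 237))
 (.node 239 (.leaf 238)
 (.leaf 239)))))))))⟩

def invE8Gen1_4 : SubGen := ⟨[5],
 (.node 120 (.node 60 (.node 30 (.node 15 (.node 7 (.node 3 (.node 1 (.leaf 0)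
 (.node 2 (.leaf 1)
 (.leaf 3)))
 (.node 5 (.node 4 (.leaf 2)
 (.leaf 4))
 (.node 6 (.leaf 5)
 (.leaf 6))))
 (.node 11 (.node 9 (.node 8 (.leaf 7)
 (.leaf 8))
 (.node 10 (.leaf 9)
 (.leaf 11)))
 (.node 13 (.node 12 (.leaf 10)
 (.leaf 12))
 (.node 14 (.leaf 13)
 (.leaf 14)))))
 (.node 22 (.node 18 (.node 16 (.leaf 15)
 (.node 17 (.leaf 16)
 (.leaf 18)))
 (.node 20 (.node 19 (.leaf 17)
 (.leaf 19))
 (.node 21 (.leaf 20)
 (.leaf 21))))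
 (.node 26 (.node 24 (.node 23 (.leaf 23)
 (.leaf 22))
 (.node 25 (.leaf 24)
 (.leaf 25)))
 (.node 28 (.node 27 (.leaf 27)
 (.leaf 26))
 (.node 29 (.leaf 28)
 (.leaf 29))))))
 (.node 45 (.node 37 (.node 33 (.node 31 (.leaf 30)
 (.node 32 (.leaf 33)
 (.leaf 34)))
 (.node 35 (.node 34 (.leaf 31)
 (.leaf 32))
 (.node 36 (.leaf 35)
 (.leaf 37))))
 (.node 41 (.node 39 (.node 38 (.leaf 36)
 (.leaf 38))
 (.node 40 (.leaf 39)
 (.leaf 40)))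
 (.node 43 (.node 42 (.leaf 43)
 (.leaf 44))
 (.node 44 (.leaf 41)
 (.leaf 42)))))
 (.node 52 (.node 48 (.node 46 (.leaf 45)
 (.node 47 (.leaf 46)
 (.leaf 49)))
 (.node 50 (.node 49 (.leaf 50)
 (.leaf 47))
 (.node 51 (.leaf 48)
 (.leaf 51))))
 (.node 56 (.node 54 (.node 53 (.leaf 52)
 (.leaf 53))
 (.node 55 (.leaf 55)
 (.leaf 54)))
 (.node 58 (.node 57 (.leaf 56)
 (.leaf 59))
 (.node 59 (.leaf 60)
 (.leaf 57)))))))
 (.node 90 (.node 75 (.node 67 (.node 63 (.node 61 (.leaf 58)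
 (.node 62 (.leaf 61)
 (.leaf 62)))
 (.node 65 (.node 64 (.leaf 63)
 (.leaf 65))
 (.node 66 (.leaf 64)
 (.leaf 66))))
 (.node 71 (.node 69 (.node 68 (.leaf 67)
 (.leaf 69))
 (.node 70 (.leaf 68)
 (.leaf 70)))
 (.node 73 (.node 72 (.leaf 71)
 (.leaf 72))
 (.node 74 (.leaf 74)
 (.leaf 73)))))
 (.node 82 (.node 78 (.node 76 (.leaf 75)
 (.node 77 (.leaf 76)
 (.leaf 77)))
 (.node 80 (.node 79 (.leaf 78)
 (.leaf 81))
 (.node 81 (.leaf 82)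
 (.leaf 79))))
 (.node 86 (.node 84 (.node 83 (.leaf 80)
 (.leaf 83))
 (.node 85 (.leaf 84)
 (.leaf 85)))
 (.node 88 (.node 87 (.leaf 87)
 (.leaf 86))
 (.node 89 (.leaf 88)
 (.leaf 89))))))
 (.node 105 (.node 97 (.node 93 (.node 91 (.leaf 91)
 (.node 92 (.leaf 90)
 (.leaf 92)))
 (.node 95 (.node 94 (.leaf 93)
 (.leaf 94))
 (.node 96 (.leaf 96)
 (.leaf 95))))
 (.node 101 (.node 99 (.node 98 (.leaf 97)
 (.leaf 98))
 (.node 100 (.leaf 99)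
 (.leaf 100)))
 (.node 103 (.node 102 (.leaf 102)
 (.leaf 101))
 (.node 104 (.leaf 103)
 (.leaf 104)))))
 (.node 112 (.node 108 (.node 106 (.leaf 105)
 (.node 107 (.leaf 106)
 (.leaf 108)))
 (.node 110 (.node 109 (.leaf 107)
 (.leaf 109))
 (.node 111 (.leaf 110)
 (.leaf 111))))
 (.node 116 (.node 114 (.node 113 (.leaf 113)
 (.leaf 112))
 (.node 115 (.leaf 117)
 (.leaf 118)))
 (.node 118 (.node 117 (.leaf 123)
 (.leaf 114))
 (.node 119 (.leaf 115)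
 (.leaf 119))))))))
 (.node 180 (.node 150 (.node 135 (.node 127 (.node 123 (.node 121 (.leaf 120)
 (.node 122 (.leaf 124)
 (.leaf 125)))
 (.node 125 (.node 124 (.leaf 116)
 (.leaf 121))
 (.node 126 (.leaf 122)
 (.leaf 127))))
 (.node 131 (.node 129 (.node 128 (.leaf 126)
 (.leaf 128))
 (.node 130 (.leaf 129)
 (.leaf 130)))
 (.node 133 (.node 132 (.leaf 132)
 (.leaf 131))
 (.node 134 (.leaf 133)
 (.leaf 134)))))
 (.node 142 (.node 138 (.node 136 (.leaf 135)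
 (.node 137 (.leaf 136)
 (.leaf 138)))
 (.node 140 (.node 139 (.leaf 137)
 (.leaf 139))
 (.node 141 (.leaf 140)
 (.leaf 141))))
 (.node 146 (.node 144 (.node 143 (.leaf 142)
 (.leaf 144))
 (.node 145 (.leaf 143)
 (.leaf 145)))
 (.node 148 (.node 147 (.leaf 146)
 (.leaf 147))
 (.node 149 (.leaf 149)
 (.leaf 148))))))
 (.node 165 (.node 157 (.node 153 (.node 151 (.leaf 150)
 (.node 152 (.leaf 151)
 (.leaf 153)))
 (.node 155 (.node 154 (.leaf 152)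
 (.leaf 154))
 (.node 156 (.leaf 155)
 (.leaf 156))))
 (.node 161 (.node 159 (.node 158 (.leaf 159)
 (.leaf 160))
 (.node 160 (.leaf 157)
 (.leaf 158)))
 (.node 163 (.node 162 (.leaf 161)
 (.leaf 162))
 (.node 164 (.leaf 163)
 (.leaf 164)))))
 (.node 172 (.node 168 (.node 166 (.leaf 166)
 (.node 167 (.leaf 165)
 (.leaf 167)))
 (.node 170 (.node 169 (.leaf 168)
 (.leaf 169))
 (.node 171 (.leaf 171)
 (.leaf 170))))
 (.node 176 (.node 174 (.node 173 (.leaf 172)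
 (.leaf 173))
 (.node 175 (.leaf 175)
 (.leaf 174)))
 (.node 178 (.node 177 (.leaf 176)
 (.leaf 177))
 (.node 179 (.leaf 178)
 (.leaf 181)))))))
 (.node 210 (.node 195 (.node 187 (.node 183 (.node 181 (.leaf 182)
 (.node 182 (.leaf 179)
 (.leaf 180)))
 (.node 185 (.node 184 (.leaf 183)
 (.leaf 185))
 (.node 186 (.leaf 184)
 (.leaf 186))))
 (.node 191 (.node 189 (.node 188 (.leaf 187)
 (.leaf 188))
 (.node 190 (.leaf 191)
 (.leaf 192)))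
 (.node 193 (.node 192 (.leaf 189)
 (.leaf 190))
 (.node 194 (.leaf 193)
 (.leaf 194)))))
 (.node 202 (.node 198 (.node 196 (.leaf 197)
 (.node 197 (.leaf 198)
 (.leaf 195)))
 (.node 200 (.node 199 (.leaf 196)
 (.leaf 199))
 (.node 201 (.leaf 200)
 (.leaf 201))))
 (.node 206 (.node 204 (.node 203 (.leaf 203)
 (.leaf 202))
 (.node 205 (.leaf 204)
 (.leaf 207)))
 (.node 208 (.node 207 (.leaf 208)
 (.leaf 205))
 (.node 209 (.leaf 206)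
 (.leaf 209))))))
 (.node 225 (.node 217 (.node 213 (.node 211 (.leaf 210)
 (.node 212 (.leaf 211)
 (.leaf 213)))
 (.node 215 (.node 214 (.leaf 212)
 (.leaf 214))
 (.node 216 (.leaf 215)
 (.leaf 217))))
 (.node 221 (.node 219 (.node 218 (.leaf 216)
 (.leaf 218))
 (.node 220 (.leaf 219)
 (.leaf 220)))
 (.node 223 (.node 222 (.leaf 222)
 (.leaf 221))
 (.node 224 (.leaf 223)
 (.leaf 224)))))
 (.node 232 (.node 228 (.node 226 (.leaf 225)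
 (.node 227 (.leaf 226)
 (.leaf 227)))
 (.node 230 (.node 229 (.leaf 229)
 (.leaf 228))
 (.node 231 (.leaf 230)
 (.leaf 231))))
 (.node 236 (.node 234 (.node 233 (.leaf 232)
 (.leaf 233))
 (.node 235 (.leaf 234)
 (.leaf 235)))
 (.node 238 (.node 237 (.leaf 237)
 (.leaf 236))
 (.node 239 (.leaf 238)
 (.leaf 239)))))))))⟩

def invE8Gen1_5 : SubGen := ⟨[6],
 (.node 120 (.node 60 (.node 30 (.node 15 (.node 7 (.node 3 (.node 1 (.leaf 0)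
 (.node 2 (.leaf 2)
 (.leaf 1)))
 (.node 5 (.node 4 (.leaf 3)
 (.leaf 4))
 (.node 6 (.leaf 5)
 (.leaf 6))))
 (.node 11 (.node 9 (.node 8 (.leaf 7)
 (.leaf 8))
 (.node 10 (.leaf 9)
 (.leaf 10)))
 (.node 13 (.node 12 (.leaf 12)
 (.leaf 11))
 (.node 14 (.leaf 13)
 (.leaf 14)))))
 (.node 22 (.node 18 (.node 16 (.leaf 15)
 (.node 17 (.leaf 16)
 (.leaf 17)))
 (.node 20 (.node 19 (.leaf 19)
 (.leaf 18))
 (.node 21 (.leaf 20)
 (.leaf 21))))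
 (.node 26 (.node 24 (.node 23 (.leaf 22)
 (.leaf 24))
 (.node 25 (.leaf 23)
 (.leaf 25)))
 (.node 28 (.node 27 (.leaf 26)
 (.leaf 28))
 (.node 29 (.leaf 27)
 (.leaf 29))))))
 (.node 45 (.node 37 (.node 33 (.node 31 (.leaf 31)
 (.node 32 (.leaf 30)
 (.leaf 32)))
 (.node 35 (.node 34 (.leaf 33)
 (.leaf 35))
 (.node 36 (.leaf 34)
 (.leaf 36))))
 (.node 41 (.node 39 (.node 38 (.leaf 38)
 (.leaf 37))
 (.node 40 (.leaf 39)
 (.leaf 41)))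
 (.node 43 (.node 42 (.leaf 40)
 (.leaf 42))
 (.node 44 (.leaf 43)
 (.leaf 45)))))
 (.node 52 (.node 48 (.node 46 (.leaf 44)
 (.node 47 (.leaf 47)
 (.leaf 46)))
 (.node 50 (.node 49 (.leaf 48)
 (.leaf 49))
 (.node 51 (.leaf 51)
 (.leaf 50))))
 (.node 56 (.node 54 (.node 53 (.leaf 52)
 (.leaf 54))
 (.node 55 (.leaf 53)
 (.leaf 55)))
 (.node 58 (.node 57 (.leaf 57)
 (.leaf 56))
 (.node 59 (.leaf 58)
 (.leaf 59)))))))
 (.node 90 (.node 75 (.node 67 (.node 63 (.node 61 (.leaf 61)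
 (.node 62 (.leaf 60)
 (.leaf 62)))
 (.node 65 (.node 64 (.leaf 64)
 (.leaf 63))
 (.node 66 (.leaf 65)
 (.leaf 66))))
 (.node 71 (.node 69 (.node 68 (.leaf 68)
 (.leaf 67))
 (.node 70 (.leaf 69)
 (.leaf 70)))
 (.node 73 (.node 72 (.leaf 71)
 (.leaf 73))
 (.node 74 (.leaf 72)
 (.leaf 74)))))
 (.node 82 (.node 78 (.node 76 (.leaf 75)
 (.node 77 (.leaf 76)
 (.leaf 77)))
 (.node 80 (.node 79 (.leaf 79)
 (.leaf 78))
 (.node 81 (.leaf 80)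
 (.leaf 81))))
 (.node 86 (.node 84 (.node 83 (.leaf 83)
 (.leaf 82))
 (.node 85 (.leaf 84)
 (.leaf 86)))
 (.node 88 (.node 87 (.leaf 85)
 (.leaf 87))
 (.node 89 (.leaf 88)
 (.leaf 90))))))
 (.node 105 (.node 97 (.node 93 (.node 91 (.leaf 89)
 (.node 92 (.leaf 91)
 (.leaf 92)))
 (.node 95 (.node 94 (.leaf 93)
 (.leaf 95))
 (.node 96 (.leaf 94)
 (.leaf 96))))
 (.node 101 (.node 99 (.node 98 (.leaf 97)
 (.leaf 98))
 (.node 100 (.leaf 99)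
 (.leaf 101)))
 (.node 103 (.node 102 (.leaf 100)
 (.leaf 102))
 (.node 104 (.leaf 103)
 (.leaf 104)))))
 (.node 112 (.node 108 (.node 106 (.leaf 105)
 (.node 107 (.leaf 107)
 (.leaf 106)))
 (.node 110 (.node 109 (.leaf 108)
 (.leaf 109))
 (.node 111 (.leaf 110)
 (.leaf 112))))
 (.node 116 (.node 114 (.node 113 (.leaf 111)
 (.leaf 113))
 (.node 115 (.leaf 114)
 (.leaf 116)))
 (.node 118 (.node 117 (.leaf 115)
 (.leaf 119))
 (.node 119 (.leaf 121)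
 (.leaf 117))))))))
 (.node 180 (.node 150 (.node 135 (.node 127 (.node 123 (.node 121 (.leaf 122)
 (.node 122 (.leaf 118)
 (.leaf 120)))
 (.node 125 (.node 124 (.leaf 124)
 (.leaf 123))
 (.node 126 (.leaf 125)
 (.leaf 126))))
 (.node 131 (.node 129 (.node 128 (.leaf 128)
 (.leaf 127))
 (.node 130 (.leaf 129)
 (.leaf 130)))
 (.node 133 (.node 132 (.leaf 131)
 (.leaf 133))
 (.node 134 (.leaf 132)
 (.leaf 134)))))
 (.node 142 (.node 138 (.node 136 (.leaf 135)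
 (.node 137 (.leaf 136)
 (.leaf 137)))
 (.node 140 (.node 139 (.leaf 139)
 (.leaf 138))
 (.node 141 (.leaf 140)
 (.leaf 141))))
 (.node 146 (.node 144 (.node 143 (.leaf 142)
 (.leaf 143))
 (.node 145 (.leaf 145)
 (.leaf 144)))
 (.node 148 (.node 147 (.leaf 146)
 (.leaf 147))
 (.node 149 (.leaf 148)
 (.leaf 150))))))
 (.node 165 (.node 157 (.node 153 (.node 151 (.leaf 149)
 (.node 152 (.leaf 151)
 (.leaf 152)))
 (.node 155 (.node 154 (.leaf 154)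
 (.leaf 153))
 (.node 156 (.leaf 155)
 (.leaf 157))))
 (.node 161 (.node 159 (.node 158 (.leaf 156)
 (.leaf 158))
 (.node 160 (.leaf 159)
 (.leaf 161)))
 (.node 163 (.node 162 (.leaf 160)
 (.leaf 162))
 (.node 164 (.leaf 163)
 (.leaf 164)))))
 (.node 172 (.node 168 (.node 166 (.leaf 165)
 (.node 167 (.leaf 167)
 (.leaf 166)))
 (.node 170 (.node 169 (.leaf 168)
 (.leaf 169))
 (.node 171 (.leaf 170)
 (.leaf 172))))
 (.node 176 (.node 174 (.node 173 (.leaf 171)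
 (.leaf 173))
 (.node 175 (.leaf 174)
 (.leaf 176)))
 (.node 178 (.node 177 (.leaf 175)
 (.leaf 177))
 (.node 179 (.leaf 179)
 (.leaf 178)))))))
 (.node 210 (.node 195 (.node 187 (.node 183 (.node 181 (.leaf 180)
 (.node 182 (.leaf 181)
 (.leaf 183)))
 (.node 185 (.node 184 (.leaf 182)
 (.leaf 184))
 (.node 186 (.leaf 186)
 (.leaf 185))))
 (.node 191 (.node 189 (.node 188 (.leaf 187)
 (.leaf 189))
 (.node 190 (.leaf 188)
 (.leaf 190)))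
 (.node 193 (.node 192 (.leaf 191)
 (.leaf 193))
 (.node 194 (.leaf 192)
 (.leaf 195)))))
 (.node 202 (.node 198 (.node 196 (.leaf 194)
 (.node 197 (.leaf 196)
 (.leaf 197)))
 (.node 200 (.node 199 (.leaf 199)
 (.leaf 198))
 (.node 201 (.leaf 200)
 (.leaf 202))))
 (.node 206 (.node 204 (.node 203 (.leaf 201)
 (.leaf 203))
 (.node 205 (.leaf 205)
 (.leaf 204)))
 (.node 208 (.node 207 (.leaf 206)
 (.leaf 207))
 (.node 209 (.leaf 209)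
 (.leaf 208))))))
 (.node 225 (.node 217 (.node 213 (.node 211 (.leaf 210)
 (.node 212 (.leaf 212)
 (.leaf 211)))
 (.node 215 (.node 214 (.leaf 213)
 (.leaf 214))
 (.node 216 (.leaf 216)
 (.leaf 215))))
 (.node 221 (.node 219 (.node 218 (.leaf 217)
 (.leaf 218))
 (.node 220 (.leaf 219)
 (.leaf 221)))
 (.node 223 (.node 222 (.leaf 220)
 (.leaf 222))
 (.node 224 (.leaf 223)
 (.leaf 224)))))
 (.node 232 (.node 228 (.node 226 (.leaf 225)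
 (.node 227 (.leaf 226)
 (.leaf 228)))
 (.node 230 (.node 229 (.leaf 227)
 (.leaf 229))
 (.node 231 (.leaf 230)
 (.leaf 231))))
 (.node 236 (.node 234 (.node 233 (.leaf 232)
 (.leaf 233))
 (.node 235 (.leaf 234)
 (.leaf 235)))
 (.node 238 (.node 237 (.leaf 236)
 (.leaf 238))
 (.node 239 (.leaf 237)
 (.leaf 239)))))))))⟩

def invE8Gen1_6 : SubGen := ⟨[7],
 (.node 120 (.node 60 (.node 30 (.node 15 (.node 7 (.node 3 (.node 1 (.leaf 1)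
 (.node 2 (.leaf 0)
 (.leaf 2)))
 (.node 5 (.node 4 (.leaf 3)
 (.leaf 4))
 (.node 6 (.leaf 5)
 (.leaf 6))))
 (.node 11 (.node 9 (.node 8 (.leaf 7)
 (.leaf 8))
 (.node 10 (.leaf 9)
 (.leaf 10)))
 (.node 13 (.node 12 (.leaf 11)
 (.leaf 13))
 (.node 14 (.leaf 12)
 (.leaf 14)))))
 (.node 22 (.node 18 (.node 16 (.leaf 15)
 (.node 17 (.leaf 16)
 (.leaf 17)))
 (.node 20 (.node 19 (.leaf 18)
 (.leaf 20))
 (.node 21 (.leaf 19)
 (.leaf 21))))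
 (.node 26 (.node 24 (.node 23 (.leaf 22)
 (.leaf 23))
 (.node 25 (.leaf 25)
 (.leaf 24)))
 (.node 28 (.node 27 (.leaf 26)
 (.leaf 27))
 (.node 29 (.leaf 29)
 (.leaf 28))))))
 (.node 45 (.node 37 (.node 33 (.node 31 (.leaf 30)
 (.node 32 (.leaf 32)
 (.leaf 31)))
 (.node 35 (.node 34 (.leaf 34)
 (.leaf 33))
 (.node 36 (.leaf 35)
 (.leaf 36))))
 (.node 41 (.node 39 (.node 38 (.leaf 37)
 (.leaf 39))
 (.node 40 (.leaf 38)
 (.leaf 40)))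
 (.node 43 (.node 42 (.leaf 42)
 (.leaf 41))
 (.node 44 (.leaf 44)
 (.leaf 43)))))
 (.node 52 (.node 48 (.node 46 (.leaf 45)
 (.node 47 (.leaf 46)
 (.leaf 48)))
 (.node 50 (.node 49 (.leaf 47)
 (.leaf 50))
 (.node 51 (.leaf 49)
 (.leaf 51))))
 (.node 56 (.node 54 (.node 53 (.leaf 53)
 (.leaf 52))
 (.node 55 (.leaf 54)
 (.leaf 55)))
 (.node 58 (.node 57 (.leaf 56)
 (.leaf 58))
 (.node 59 (.leaf 57)
 (.leaf 60)))))))
 (.node 90 (.node 75 (.node 67 (.node 63 (.node 61 (.leaf 59)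
 (.node 62 (.leaf 61)
 (.leaf 63)))
 (.node 65 (.node 64 (.leaf 62)
 (.leaf 64))
 (.node 66 (.leaf 65)
 (.leaf 67))))
 (.node 71 (.node 69 (.node 68 (.leaf 66)
 (.leaf 68))
 (.node 70 (.leaf 69)
 (.leaf 70)))
 (.node 73 (.node 72 (.leaf 72)
 (.leaf 71))
 (.node 74 (.leaf 73)
 (.leaf 74)))))
 (.node 82 (.node 78 (.node 76 (.leaf 75)
 (.node 77 (.leaf 76)
 (.leaf 77)))
 (.node 80 (.node 79 (.leaf 78)
 (.leaf 80))
 (.node 81 (.leaf 79)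
 (.leaf 82))))
 (.node 86 (.node 84 (.node 83 (.leaf 81)
 (.leaf 83))
 (.node 85 (.leaf 85)
 (.leaf 84)))
 (.node 88 (.node 87 (.leaf 86)
 (.leaf 87))
 (.node 89 (.leaf 89)
 (.leaf 88))))))
 (.node 105 (.node 97 (.node 93 (.node 91 (.leaf 90)
 (.node 92 (.leaf 91)
 (.leaf 92)))
 (.node 95 (.node 94 (.leaf 94)
 (.leaf 93))
 (.node 96 (.leaf 95)
 (.leaf 96))))
 (.node 101 (.node 99 (.node 98 (.leaf 97)
 (.leaf 98))
 (.node 100 (.leaf 100)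
 (.leaf 99)))
 (.node 103 (.node 102 (.leaf 101)
 (.leaf 102))
 (.node 104 (.leaf 103)
 (.leaf 104)))))
 (.node 112 (.node 108 (.node 106 (.leaf 106)
 (.node 107 (.leaf 105)
 (.leaf 107)))
 (.node 110 (.node 109 (.leaf 108)
 (.leaf 109))
 (.node 111 (.leaf 111)
 (.leaf 110))))
 (.node 116 (.node 114 (.node 113 (.leaf 112)
 (.leaf 113))
 (.node 115 (.leaf 115)
 (.leaf 114)))
 (.node 118 (.node 117 (.leaf 116)
 (.leaf 118))
 (.node 119 (.leaf 117)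
 (.leaf 120))))))))
 (.node 180 (.node 150 (.node 135 (.node 127 (.node 123 (.node 121 (.leaf 119)
 (.node 122 (.leaf 122)
 (.leaf 121)))
 (.node 125 (.node 124 (.leaf 123)
 (.leaf 125))
 (.node 126 (.leaf 124)
 (.leaf 126))))
 (.node 131 (.node 129 (.node 128 (.leaf 127)
 (.leaf 129))
 (.node 130 (.leaf 128)
 (.leaf 130)))
 (.node 133 (.node 132 (.leaf 131)
 (.leaf 132))
 (.node 134 (.leaf 134)
 (.leaf 133)))))
 (.node 142 (.node 138 (.node 136 (.leaf 135)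
 (.node 137 (.leaf 136)
 (.leaf 137)))
 (.node 140 (.node 139 (.leaf 138)
 (.leaf 140))
 (.node 141 (.leaf 139)
 (.leaf 141))))
 (.node 146 (.node 144 (.node 143 (.leaf 142)
 (.leaf 143))
 (.node 145 (.leaf 144)
 (.leaf 146)))
 (.node 148 (.node 147 (.leaf 145)
 (.leaf 147))
 (.node 149 (.leaf 148)
 (.leaf 149))))))
 (.node 165 (.node 157 (.node 153 (.node 151 (.leaf 151)
 (.node 152 (.leaf 150)
 (.leaf 152)))
 (.node 155 (.node 154 (.leaf 153)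
 (.leaf 155))
 (.node 156 (.leaf 154)
 (.leaf 156))))
 (.node 161 (.node 159 (.node 158 (.leaf 158)
 (.leaf 157))
 (.node 160 (.leaf 160)
 (.leaf 159)))
 (.node 163 (.node 162 (.leaf 161)
 (.leaf 162))
 (.node 164 (.leaf 163)
 (.leaf 164)))))
 (.node 172 (.node 168 (.node 166 (.leaf 165)
 (.node 167 (.leaf 166)
 (.leaf 168)))
 (.node 170 (.node 169 (.leaf 167)
 (.leaf 169))
 (.node 171 (.leaf 170)
 (.leaf 171))))
 (.node 176 (.node 174 (.node 173 (.leaf 173)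
 (.leaf 172))
 (.node 175 (.leaf 174)
 (.leaf 175)))
 (.node 178 (.node 177 (.leaf 177)
 (.leaf 176))
 (.node 179 (.leaf 178)
 (.leaf 180)))))))
 (.node 210 (.node 195 (.node 187 (.node 183 (.node 181 (.leaf 179)
 (.node 182 (.leaf 182)
 (.leaf 181)))
 (.node 185 (.node 184 (.leaf 183)
 (.leaf 184))
 (.node 186 (.leaf 185)
 (.leaf 187))))
 (.node 191 (.node 189 (.node 188 (.leaf 186)
 (.leaf 188))
 (.node 190 (.leaf 190)
 (.leaf 189)))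
 (.node 193 (.node 192 (.leaf 192)
 (.leaf 191))
 (.node 194 (.leaf 193)
 (.leaf 194)))))
 (.node 202 (.node 198 (.node 196 (.leaf 196)
 (.node 197 (.leaf 195)
 (.leaf 198)))
 (.node 200 (.node 199 (.leaf 197)
 (.leaf 199))
 (.node 201 (.leaf 201)
 (.leaf 200))))
 (.node 206 (.node 204 (.node 203 (.leaf 202)
 (.leaf 203))
 (.node 205 (.leaf 204)
 (.leaf 206)))
 (.node 208 (.node 207 (.leaf 205)
 (.leaf 208))
 (.node 209 (.leaf 207)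
 (.leaf 209))))))
 (.node 225 (.node 217 (.node 213 (.node 211 (.leaf 211)
 (.node 212 (.leaf 210)
 (.leaf 212)))
 (.node 215 (.node 214 (.leaf 213)
 (.leaf 215))
 (.node 216 (.leaf 214)
 (.leaf 216))))
 (.node 221 (.node 219 (.node 218 (.leaf 217)
 (.leaf 218))
 (.node 220 (.leaf 220)
 (.leaf 219)))
 (.node 223 (.node 222 (.leaf 221)
 (.leaf 222))
 (.node 224 (.leaf 223)
 (.leaf 224)))))
 (.node 232 (.node 228 (.node 226 (.leaf 225)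
 (.node 227 (.leaf 227)
 (.leaf 226)))
 (.node 230 (.node 229 (.leaf 228)
 (.leaf 229))
 (.node 231 (.leaf 230)
 (.leaf 231))))
 (.node 236 (.node 234 (.node 233 (.leaf 232)
 (.leaf 233))
 (.node 235 (.leaf 234)
 (.leaf 235)))
 (.node 238 (.node 237 (.leaf 236)
 (.leaf 237))
 (.node 239 (.leaf 239)
 (.leaf 238)))))))))⟩

def invE8Gen1_7 : SubGen := ⟨[3, 4, 5, 6, 1, 3, 4, 5, 2, 3, 4, 1, 3, 2, 0, 2, 3, 1, 4, 3, 2, 5, 4, 3, 1, 6, 5, 4, 3],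
 (.node 120 (.node 60 (.node 30 (.node 15 (.node 7 (.node 3 (.node 1 (.leaf 0)
 (.node 2 (.leaf 46)
 (.leaf 47)))
 (.node 5 (.node 4 (.leaf 49)
 (.leaf 52))
 (.node 6 (.leaf 5)
 (.leaf 66))))
 (.node 11 (.node 9 (.node 8 (.leaf 7)
 (.leaf 71))
 (.node 10 (.leaf 9)
 (.leaf 10)))
 (.node 13 (.node 12 (.leaf 11)
 (.leaf 12))
 (.node 14 (.leaf 76)
 (.leaf 88)))))
 (.node 22 (.node 18 (.node 16 (.leaf 99)
 (.node 17 (.leaf 16)
 (.leaf 17)))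
 (.node 20 (.node 19 (.leaf 18)
 (.leaf 19))
 (.node 21 (.leaf 104)
 (.leaf 110))))
 (.node 26 (.node 24 (.node 23 (.leaf 114)
 (.leaf 117))
 (.node 25 (.leaf 119)
 (.leaf 214)))
 (.node 28 (.node 27 (.leaf 26)
 (.leaf 27))
 (.node 29 (.leaf 28)
 (.leaf 130))))))
 (.node 45 (.node 37 (.node 33 (.node 31 (.leaf 30)
 (.node 32 (.leaf 31)
 (.leaf 131)))
 (.node 35 (.node 34 (.leaf 33)
 (.leaf 132))
 (.node 36 (.leaf 133)
 (.leaf 36))))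
 (.node 41 (.node 39 (.node 38 (.leaf 37)
 (.leaf 38))
 (.node 40 (.leaf 142)
 (.leaf 40)))
 (.node 43 (.node 42 (.leaf 41)
 (.leaf 143))
 (.node 44 (.leaf 43)
 (.leaf 144)))))
 (.node 52 (.node 48 (.node 46 (.leaf 145)
 (.node 47 (.leaf 1)
 (.leaf 2)))
 (.node 50 (.node 49 (.leaf 48)
 (.leaf 3))
 (.node 51 (.leaf 50)
 (.leaf 51))))
 (.node 56 (.node 54 (.node 53 (.leaf 4)
 (.leaf 53))
 (.node 55 (.leaf 54)
 (.leaf 55)))
 (.node 58 (.node 57 (.leaf 56)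
 (.leaf 57))
 (.node 59 (.leaf 152)
 (.leaf 59)))))))
 (.node 90 (.node 75 (.node 67 (.node 63 (.node 61 (.leaf 153)
 (.node 62 (.leaf 154)
 (.leaf 62)))
 (.node 65 (.node 64 (.leaf 156)
 (.leaf 157))
 (.node 66 (.leaf 159)
 (.leaf 6))))
 (.node 71 (.node 69 (.node 68 (.leaf 67)
 (.leaf 68))
 (.node 70 (.leaf 69)
 (.leaf 70)))
 (.node 73 (.node 72 (.leaf 8)
 (.leaf 72))
 (.node 74 (.leaf 73)
 (.leaf 74)))))
 (.node 82 (.node 78 (.node 76 (.leaf 75)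
 (.node 77 (.leaf 13)
 (.leaf 77)))
 (.node 80 (.node 79 (.leaf 78)
 (.leaf 79))
 (.node 81 (.leaf 174)
 (.leaf 81))))
 (.node 86 (.node 84 (.node 83 (.leaf 175)
 (.leaf 176))
 (.node 85 (.leaf 84)
 (.leaf 178)))
 (.node 88 (.node 87 (.leaf 179)
 (.leaf 181))
 (.node 89 (.leaf 14)
 (.leaf 89))))))
 (.node 105 (.node 97 (.node 93 (.node 91 (.leaf 90)
 (.node 92 (.leaf 91)
 (.leaf 92)))
 (.node 95 (.node 94 (.leaf 93)
 (.leaf 194))
 (.node 96 (.leaf 195)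
 (.leaf 197))))
 (.node 101 (.node 99 (.node 98 (.leaf 200)
 (.leaf 98))
 (.node 100 (.leaf 15)
 (.leaf 100)))
 (.node 103 (.node 102 (.leaf 101)
 (.leaf 102))
 (.node 104 (.leaf 103)
 (.leaf 20)))))
 (.node 112 (.node 108 (.node 106 (.leaf 105)
 (.node 107 (.leaf 204)
 (.leaf 205)))
 (.node 110 (.node 109 (.leaf 207)
 (.leaf 210))
 (.node 111 (.leaf 21)
 (.leaf 111))))
 (.node 116 (.node 114 (.node 113 (.leaf 112)
 (.leaf 113))
 (.node 115 (.leaf 22)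
 (.leaf 115)))
 (.node 118 (.node 117 (.leaf 116)
 (.leaf 23))
 (.node 119 (.leaf 118)
 (.leaf 24))))))))
 (.node 180 (.node 150 (.node 135 (.node 127 (.node 123 (.node 121 (.leaf 215)
 (.node 122 (.leaf 121)
 (.leaf 216)))
 (.node 125 (.node 124 (.leaf 123)
 (.leaf 124))
 (.node 126 (.leaf 217)
 (.leaf 126))))
 (.node 131 (.node 129 (.node 128 (.leaf 127)
 (.leaf 128))
 (.node 130 (.leaf 218)
 (.leaf 29)))
 (.node 133 (.node 132 (.leaf 32)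
 (.leaf 34))
 (.node 134 (.leaf 35)
 (.leaf 134)))))
 (.node 142 (.node 138 (.node 136 (.leaf 219)
 (.node 137 (.leaf 136)
 (.leaf 137)))
 (.node 140 (.node 139 (.leaf 138)
 (.leaf 139))
 (.node 141 (.leaf 224)
 (.leaf 141))))
 (.node 146 (.node 144 (.node 143 (.leaf 39)
 (.leaf 42))
 (.node 145 (.leaf 44)
 (.leaf 45)))
 (.node 148 (.node 147 (.leaf 146)
 (.leaf 147))
 (.node 149 (.leaf 148)
 (.leaf 149))))))
 (.node 165 (.node 157 (.node 153 (.node 151 (.leaf 150)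
 (.node 152 (.leaf 225)
 (.leaf 58)))
 (.node 155 (.node 154 (.leaf 60)
 (.leaf 61))
 (.node 156 (.leaf 155)
 (.leaf 63))))
 (.node 161 (.node 159 (.node 158 (.leaf 64)
 (.leaf 158))
 (.node 160 (.leaf 65)
 (.leaf 160)))
 (.node 163 (.node 162 (.leaf 161)
 (.leaf 162))
 (.node 164 (.leaf 226)
 (.leaf 164)))))
 (.node 172 (.node 168 (.node 166 (.leaf 165)
 (.node 167 (.leaf 166)
 (.leaf 167)))
 (.node 170 (.node 169 (.leaf 231)
 (.leaf 169))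
 (.node 171 (.leaf 170)
 (.leaf 171))))
 (.node 176 (.node 174 (.node 173 (.leaf 172)
 (.leaf 233))
 (.node 175 (.leaf 80)
 (.leaf 82)))
 (.node 178 (.node 177 (.leaf 83)
 (.leaf 177))
 (.node 179 (.leaf 85)
 (.leaf 86)))))))
 (.node 210 (.node 195 (.node 187 (.node 183 (.node 181 (.leaf 180)
 (.node 182 (.leaf 87)
 (.leaf 182)))
 (.node 185 (.node 184 (.leaf 183)
 (.leaf 184))
 (.node 186 (.leaf 185)
 (.leaf 186))))
 (.node 191 (.node 189 (.node 188 (.leaf 235)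
 (.leaf 188))
 (.node 190 (.leaf 189)
 (.leaf 236)))
 (.node 193 (.node 192 (.leaf 191)
 (.leaf 237))
 (.node 194 (.leaf 238)
 (.leaf 94)))))
 (.node 202 (.node 198 (.node 196 (.leaf 95)
 (.node 197 (.leaf 196)
 (.leaf 96)))
 (.node 200 (.node 199 (.leaf 198)
 (.leaf 199))
 (.node 201 (.leaf 97)
 (.leaf 201))))
 (.node 206 (.node 204 (.node 203 (.leaf 202)
 (.leaf 203))
 (.node 205 (.leaf 106)
 (.leaf 107)))
 (.node 208 (.node 207 (.leaf 206)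
 (.leaf 108))
 (.node 209 (.leaf 208)
 (.leaf 209))))))
 (.node 225 (.node 217 (.node 213 (.node 211 (.leaf 109)
 (.node 212 (.leaf 211)
 (.leaf 212)))
 (.node 215 (.node 214 (.leaf 213)
 (.leaf 25))
 (.node 216 (.leaf 120)
 (.leaf 122))))
 (.node 221 (.node 219 (.node 218 (.leaf 125)
 (.leaf 129))
 (.node 220 (.leaf 135)
 (.leaf 220)))
 (.node 223 (.node 222 (.leaf 221)
 (.leaf 222))
 (.node 224 (.leaf 223)
 (.leaf 140)))))
 (.node 232 (.node 228 (.node 226 (.leaf 151)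
 (.node 227 (.leaf 163)
 (.leaf 227)))
 (.node 230 (.node 229 (.leaf 228)
 (.leaf 229))
 (.node 231 (.leaf 230)
 (.leaf 168))))
 (.node 236 (.node 234 (.node 233 (.leaf 232)
 (.leaf 173))
 (.node 235 (.leaf 234)
 (.leaf 187)))
 (.node 238 (.node 237 (.leaf 190)
 (.leaf 192))
 (.node 239 (.leaf 193)
 (.leaf 239)))))))))⟩

def invE8Level1_8 : SubLevel := ⟨8, [214, 215, 216, 217, 218, 224, 225, 231, 233, 235, 236, 237, 238, 239],
  [[],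
    [7],
    [6, 7],
    [5, 6, 7],
    [4, 5, 6, 7],
    [3, 4, 5, 6, 7],
    [1, 3, 4, 5, 6, 7],
    [0, 1, 3, 4, 5, 6, 7],
    [2, 1, 3, 4, 5, 6, 7],
    [2, 0, 1, 3, 4, 5, 6, 7],
    [1, 2, 0, 1, 3, 4, 5, 6, 7],
    [3, 1, 2, 0, 1, 3, 4, 5, 6, 7],
    [4, 3, 1, 2, 0, 1, 3, 4, 5, 6, 7],
    [5, 4, 3, 1, 2, 0, 1, 3, 4, 5, 6, 7],
    [6, 5, 4, 3, 1, 2, 0, 1, 3, 4, 5, 6, 7],
    [7, 6, 5, 4, 3, 1, 2, 0, 1, 3, 4, 5, 6, 7]],
  [[(0, [0]), (0, [1]), (0, [2]), (0, [3]), (0, [4]), (0, [5]), (0, [6]), (1, [])],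
    [(1, [0]), (1, [1]), (1, [2]), (1, [3]), (1, [4]), (1, [5]), (2, []), (0, [])],
    [(2, [0]), (2, [1]), (2, [2]), (2, [3]), (2, [4]), (3, []), (1, []), (2, [6])],
    [(3, [0]), (3, [1]), (3, [2]), (3, [3]), (4, []), (2, []), (3, [5]), (3, [6])],
    [(4, [0]), (4, [1]), (4, [2]), (5, []), (3, []), (4, [4]), (4, [5]), (4, [6])],
    [(5, [0]), (6, []), (5, [2]), (4, []), (5, [3]), (5, [4]), (5, [5]), (5, [6])],
    [(7, []), (5, []), (8, []), (6, [1]), (6, [3]), (6, [4]), (6, [5]), (6, [6])],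
    [(6, []), (7, [0]), (9, []), (7, [1]), (7, [3]), (7, [4]), (7, [5]), (7, [6])],
    [(9, []), (8, [2]), (6, []), (8, [1]), (8, [3]), (8, [4]), (8, [5]), (8, [6])],
    [(8, []), (10, []), (7, []), (9, [1]), (9, [3]), (9, [4]), (9, [5]), (9, [6])],
    [(10, [2]), (9, []), (10, [0]), (11, []), (10, [3]), (10, [4]), (10, [5]), (10, [6])],
    [(11, [2]), (11, [1]), (11, [0]), (10, []), (12, []), (11, [4]), (11, [5]), (11, [6])],
    [(12, [2]), (12, [1]), (12, [0]), (12, [3]), (11, []), (13, []), (12, [5]), (12, [6])],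
    [(13, [2]), (13, [1]), (13, [0]), (13, [3]), (13, [4]), (12, []), (14, []), (13, [6])],
    [(14, [2]), (14, [1]), (14, [0]), (14, [3]), (14, [4]), (14, [5]), (13, []), (15, [])],
    [(15, [2]), (15, [1]), (15, [0]), (15, [3]), (15, [4]), (15, [5]), (15, [6]), (14, [])]]⟩

def invE8Level1_7 : SubLevel := ⟨7, [120, 122, 125, 129, 140, 151, 168, 173, 187, 190, 192, 193],
  [[],
    [6],
    [5, 6],
    [4, 5, 6],
    [3, 4, 5, 6],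
    [1, 3, 4, 5, 6],
    [0, 1, 3, 4, 5, 6],
    [2, 1, 3, 4, 5, 6],
    [2, 0, 1, 3, 4, 5, 6],
    [1, 2, 0, 1, 3, 4, 5, 6],
    [3, 1, 2, 0, 1, 3, 4, 5, 6],
    [4, 3, 1, 2, 0, 1, 3, 4, 5, 6],
    [5, 4, 3, 1, 2, 0, 1, 3, 4, 5, 6],
    [6, 5, 4, 3, 1, 2, 0, 1, 3, 4, 5, 6]],
  [[(0, [0]), (0, [1]), (0, [2]), (0, [3]), (0, [4]), (0, [5]), (1, [])],
    [(1, [0]), (1, [1]), (1, [2]), (1, [3]), (1, [4]), (2, []), (0, [])],
    [(2, [0]), (2, [1]), (2, [2]), (2, [3]), (3, []), (1, []), (2, [5])],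
    [(3, [0]), (3, [1]), (3, [2]), (4, []), (2, []), (3, [4]), (3, [5])],
    [(4, [0]), (5, []), (4, [2]), (3, []), (4, [3]), (4, [4]), (4, [5])],
    [(6, []), (4, []), (7, []), (5, [1]), (5, [3]), (5, [4]), (5, [5])],
    [(5, []), (6, [0]), (8, []), (6, [1]), (6, [3]), (6, [4]), (6, [5])],
    [(8, []), (7, [2]), (5, []), (7, [1]), (7, [3]), (7, [4]), (7, [5])],
    [(7, []), (9, []), (6, []), (8, [1]), (8, [3]), (8, [4]), (8, [5])],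
    [(9, [2]), (8, []), (9, [0]), (10, []), (9, [3]), (9, [4]), (9, [5])],
    [(10, [2]), (10, [1]), (10, [0]), (9, []), (11, []), (10, [4]), (10, [5])],
    [(11, [2]), (11, [1]), (11, [0]), (11, [3]), (10, []), (12, []), (11, [5])],
    [(12, [2]), (12, [1]), (12, [0]), (12, [3]), (12, [4]), (11, []), (13, [])],
    [(13, [2]), (13, [1]), (13, [0]), (13, [3]), (13, [4]), (13, [5]), (12, [])]]⟩

def invE8Level1_6 : SubLevel := ⟨6, [121, 124, 128, 139, 150, 167, 172, 186, 189, 191],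
  [[],
    [5],
    [4, 5],
    [3, 4, 5],
    [1, 3, 4, 5],
    [0, 1, 3, 4, 5],
    [2, 1, 3, 4, 5],
    [2, 0, 1, 3, 4, 5],
    [1, 2, 0, 1, 3, 4, 5],
    [3, 1, 2, 0, 1, 3, 4, 5],
    [4, 3, 1, 2, 0, 1, 3, 4, 5],
    [5, 4, 3, 1, 2, 0, 1, 3, 4, 5]],
  [[(0, [0]), (0, [1]), (0, [2]), (0, [3]), (0, [4]), (1, [])],
    [(1, [0]), (1, [1]), (1, [2]), (1, [3]), (2, []), (0, [])],
    [(2, [0]), (2, [1]), (2, [2]), (3, []), (1, []), (2, [4])],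
    [(3, [0]), (4, []), (3, [2]), (2, []), (3, [3]), (3, [4])],
    [(5, []), (3, []), (6, []), (4, [1]), (4, [3]), (4, [4])],
    [(4, []), (5, [0]), (7, []), (5, [1]), (5, [3]), (5, [4])],
    [(7, []), (6, [2]), (4, []), (6, [1]), (6, [3]), (6, [4])],
    [(6, []), (8, []), (5, []), (7, [1]), (7, [3]), (7, [4])],
    [(8, [2]), (7, []), (8, [0]), (9, []), (8, [3]), (8, [4])],
    [(9, [2]), (9, [1]), (9, [0]), (8, []), (10, []), (9, [4])],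
    [(10, [2]), (10, [1]), (10, [0]), (10, [3]), (9, []), (11, [])],
    [(11, [2]), (11, [1]), (11, [0]), (11, [3]), (11, [4]), (10, [])]]⟩

def invE8Level1_5 : SubLevel := ⟨5, [123, 127, 138, 149, 166, 171, 185, 188],
  [[],
    [4],
    [3, 4],
    [1, 3, 4],
    [0, 1, 3, 4],
    [2, 1, 3, 4],
    [2, 0, 1, 3, 4],
    [1, 2, 0, 1, 3, 4],
    [3, 1, 2, 0, 1, 3, 4],
    [4, 3, 1, 2, 0, 1, 3, 4]],
  [[(0, [0]), (0, [1]), (0, [2]), (0, [3]), (1, [])],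
    [(1, [0]), (1, [1]), (1, [2]), (2, []), (0, [])],
    [(2, [0]), (3, []), (2, [2]), (1, []), (2, [3])],
    [(4, []), (2, []), (5, []), (3, [1]), (3, [3])],
    [(3, []), (4, [0]), (6, []), (4, [1]), (4, [3])],
    [(6, []), (5, [2]), (3, []), (5, [1]), (5, [3])],
    [(5, []), (7, []), (4, []), (6, [1]), (6, [3])],
    [(7, [2]), (6, []), (7, [0]), (8, []), (7, [3])],
    [(8, [2]), (8, [1]), (8, [0]), (7, []), (9, [])],
    [(9, [2]), (9, [1]), (9, [0]), (9, [3]), (8, [])]]⟩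

def invE8Level1_4 : SubLevel := ⟨4, [126, 137, 148, 165, 170, 184],
  [[],
    [3],
    [1, 3],
    [0, 1, 3],
    [2, 1, 3],
    [2, 0, 1, 3],
    [1, 2, 0, 1, 3],
    [3, 1, 2, 0, 1, 3]],
  [[(0, [0]), (0, [1]), (0, [2]), (1, [])],
    [(1, [0]), (2, []), (1, [2]), (0, [])],
    [(3, []), (1, []), (4, []), (2, [1])],
    [(2, []), (3, [0]), (5, []), (3, [1])],
    [(5, []), (4, [2]), (2, []), (4, [1])],
    [(4, []), (6, []), (3, []), (5, [1])],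
    [(6, [2]), (5, []), (6, [0]), (7, [])],
    [(7, [2]), (7, [1]), (7, [0]), (6, [])]]⟩

def invE8Level1_3 : SubLevel := ⟨3, [141, 147, 169],
  [[],
    [2],
    [1, 2],
    [0, 1, 2]],
  [[(0, [0]), (0, [1]), (1, [])],
    [(1, [0]), (2, []), (0, [])],
    [(3, []), (1, []), (2, [1])],
    [(2, []), (3, [0]), (3, [1])]]⟩

def invE8Level1_2 : SubLevel := ⟨2, [136, 164],
  [[],
    [1],
    [0, 1]],
  [[(0, [0]), (1, [])],
    [(2, []), (0, [])],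
    [(1, []), (2, [0])]]⟩

def invE8Level1_1 : SubLevel := ⟨1, [162],
  [[],
    [0]],
  [[(1, [])],
    [(0, [])]]⟩

def invE8Orbit1 : List (List ℕ) :=
  [[],
    [2],
    [3],
    [0, 2],
    [1, 3],
    [4, 3],
    [4, 1, 3],
    [5, 4, 3],
    [3, 4, 1, 3],
    [5, 4, 1, 3],
    [6, 5, 4, 3],
    [2, 3, 4, 1, 3],
    [5, 3, 4, 1, 3],
    [6, 5, 4, 1, 3],
    [7, 6, 5, 4, 3],
    [0, 2, 3, 4, 1, 3],
    [5, 2, 3, 4, 1, 3],
    [4, 5, 3, 4, 1, 3],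
    [6, 5, 3, 4, 1, 3],
    [7, 6, 5, 4, 1, 3],
    [5, 0, 2, 3, 4, 1, 3],
    [4, 5, 2, 3, 4, 1, 3],
    [6, 5, 2, 3, 4, 1, 3],
    [6, 4, 5, 3, 4, 1, 3],
    [7, 6, 5, 3, 4, 1, 3],
    [4, 5, 0, 2, 3, 4, 1, 3],
    [6, 5, 0, 2, 3, 4, 1, 3],
    [3, 4, 5, 2, 3, 4, 1, 3],
    [6, 4, 5, 2, 3, 4, 1, 3],
    [7, 6, 5, 2, 3, 4, 1, 3],
    [5, 6, 4, 5, 3, 4, 1, 3],
    [7, 6, 4, 5, 3, 4, 1, 3],
    [3, 4, 5, 0, 2, 3, 4, 1, 3],
    [6, 4, 5, 0, 2, 3, 4, 1, 3],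
    [7, 6, 5, 0, 2, 3, 4, 1, 3],
    [1, 3, 4, 5, 2, 3, 4, 1, 3],
    [6, 3, 4, 5, 2, 3, 4, 1, 3],
    [5, 6, 4, 5, 2, 3, 4, 1, 3],
    [7, 6, 4, 5, 2, 3, 4, 1, 3],
    [7, 5, 6, 4, 5, 3, 4, 1, 3],
    [1, 3, 4, 5, 0, 2, 3, 4, 1, 3],
    [2, 3, 4, 5, 0, 2, 3, 4, 1, 3],
    [6, 3, 4, 5, 0, 2, 3, 4, 1, 3],
    [5, 6, 4, 5, 0, 2, 3, 4, 1, 3],
    [7, 6, 4, 5, 0, 2, 3, 4, 1, 3],
    [6, 1, 3, 4, 5, 2, 3, 4, 1, 3],
    [5, 6, 3, 4, 5, 2, 3, 4, 1, 3],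
    [7, 6, 3, 4, 5, 2, 3, 4, 1, 3],
    [7, 5, 6, 4, 5, 2, 3, 4, 1, 3],
    [6, 7, 5, 6, 4, 5, 3, 4, 1, 3],
    [2, 1, 3, 4, 5, 0, 2, 3, 4, 1, 3],
    [6, 1, 3, 4, 5, 0, 2, 3, 4, 1, 3],
    [6, 2, 3, 4, 5, 0, 2, 3, 4, 1, 3],
    [5, 6, 3, 4, 5, 0, 2, 3, 4, 1, 3],
    [7, 6, 3, 4, 5, 0, 2, 3, 4, 1, 3],
    [7, 5, 6, 4, 5, 0, 2, 3, 4, 1, 3],
    [5, 6, 1, 3, 4, 5, 2, 3, 4, 1, 3],
    [7, 6, 1, 3, 4, 5, 2, 3, 4, 1, 3],
    [4, 5, 6, 3, 4, 5, 2, 3, 4, 1, 3],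
    [7, 5, 6, 3, 4, 5, 2, 3, 4, 1, 3],
    [6, 7, 5, 6, 4, 5, 2, 3, 4, 1, 3],
    [3, 2, 1, 3, 4, 5, 0, 2, 3, 4, 1, 3],
    [6, 2, 1, 3, 4, 5, 0, 2, 3, 4, 1, 3],
    [5, 6, 1, 3, 4, 5, 0, 2, 3, 4, 1, 3],
    [7, 6, 1, 3, 4, 5, 0, 2, 3, 4, 1, 3],
    [5, 6, 2, 3, 4, 5, 0, 2, 3, 4, 1, 3],
    [7, 6, 2, 3, 4, 5, 0, 2, 3, 4, 1, 3],
    [4, 5, 6, 3, 4, 5, 0, 2, 3, 4, 1, 3],
    [7, 5, 6, 3, 4, 5, 0, 2, 3, 4, 1, 3],
    [6, 7, 5, 6, 4, 5, 0, 2, 3, 4, 1, 3],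
    [4, 5, 6, 1, 3, 4, 5, 2, 3, 4, 1, 3],
    [7, 5, 6, 1, 3, 4, 5, 2, 3, 4, 1, 3],
    [7, 4, 5, 6, 3, 4, 5, 2, 3, 4, 1, 3],
    [6, 7, 5, 6, 3, 4, 5, 2, 3, 4, 1, 3],
    [4, 3, 2, 1, 3, 4, 5, 0, 2, 3, 4, 1, 3],
    [6, 3, 2, 1, 3, 4, 5, 0, 2, 3, 4, 1, 3],
    [5, 6, 2, 1, 3, 4, 5, 0, 2, 3, 4, 1, 3],
    [7, 6, 2, 1, 3, 4, 5, 0, 2, 3, 4, 1, 3],
    [4, 5, 6, 1, 3, 4, 5, 0, 2, 3, 4, 1, 3],
    [7, 5, 6, 1, 3, 4, 5, 0, 2, 3, 4, 1, 3],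
    [4, 5, 6, 2, 3, 4, 5, 0, 2, 3, 4, 1, 3],
    [7, 5, 6, 2, 3, 4, 5, 0, 2, 3, 4, 1, 3],
    [7, 4, 5, 6, 3, 4, 5, 0, 2, 3, 4, 1, 3],
    [6, 7, 5, 6, 3, 4, 5, 0, 2, 3, 4, 1, 3],
    [3, 4, 5, 6, 1, 3, 4, 5, 2, 3, 4, 1, 3],
    [7, 4, 5, 6, 1, 3, 4, 5, 2, 3, 4, 1, 3],
    [6, 7, 5, 6, 1, 3, 4, 5, 2, 3, 4, 1, 3],
    [6, 7, 4, 5, 6, 3, 4, 5, 2, 3, 4, 1, 3],
    [5, 4, 3, 2, 1, 3, 4, 5, 0, 2, 3, 4, 1, 3],
    [6, 4, 3, 2, 1, 3, 4, 5, 0, 2, 3, 4, 1, 3],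
    [5, 6, 3, 2, 1, 3, 4, 5, 0, 2, 3, 4, 1, 3],
    [7, 6, 3, 2, 1, 3, 4, 5, 0, 2, 3, 4, 1, 3],
    [4, 5, 6, 2, 1, 3, 4, 5, 0, 2, 3, 4, 1, 3],
    [7, 5, 6, 2, 1, 3, 4, 5, 0, 2, 3, 4, 1, 3],
    [3, 4, 5, 6, 1, 3, 4, 5, 0, 2, 3, 4, 1, 3],
    [7, 4, 5, 6, 1, 3, 4, 5, 0, 2, 3, 4, 1, 3],
    [6, 7, 5, 6, 1, 3, 4, 5, 0, 2, 3, 4, 1, 3],
    [3, 4, 5, 6, 2, 3, 4, 5, 0, 2, 3, 4, 1, 3],
    [7, 4, 5, 6, 2, 3, 4, 5, 0, 2, 3, 4, 1, 3],
    [6, 7, 5, 6, 2, 3, 4, 5, 0, 2, 3, 4, 1, 3],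
    [6, 7, 4, 5, 6, 3, 4, 5, 0, 2, 3, 4, 1, 3],
    [2, 3, 4, 5, 6, 1, 3, 4, 5, 2, 3, 4, 1, 3],
    [7, 3, 4, 5, 6, 1, 3, 4, 5, 2, 3, 4, 1, 3],
    [6, 7, 4, 5, 6, 1, 3, 4, 5, 2, 3, 4, 1, 3],
    [5, 6, 7, 4, 5, 6, 3, 4, 5, 2, 3, 4, 1, 3],
    [7, 6, 4, 3, 2, 1, 3, 4, 5, 0, 2, 3, 4, 1, 3],
    [7, 5, 6, 3, 2, 1, 3, 4, 5, 0, 2, 3, 4, 1, 3],
    [7, 4, 5, 6, 2, 1, 3, 4, 5, 0, 2, 3, 4, 1, 3],
    [6, 7, 5, 6, 2, 1, 3, 4, 5, 0, 2, 3, 4, 1, 3],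
    [7, 3, 4, 5, 6, 1, 3, 4, 5, 0, 2, 3, 4, 1, 3],
    [6, 7, 4, 5, 6, 1, 3, 4, 5, 0, 2, 3, 4, 1, 3],
    [7, 3, 4, 5, 6, 2, 3, 4, 5, 0, 2, 3, 4, 1, 3],
    [6, 7, 4, 5, 6, 2, 3, 4, 5, 0, 2, 3, 4, 1, 3],
    [5, 6, 7, 4, 5, 6, 3, 4, 5, 0, 2, 3, 4, 1, 3],
    [7, 2, 3, 4, 5, 6, 1, 3, 4, 5, 2, 3, 4, 1, 3],
    [6, 7, 3, 4, 5, 6, 1, 3, 4, 5, 2, 3, 4, 1, 3],
    [5, 6, 7, 4, 5, 6, 1, 3, 4, 5, 2, 3, 4, 1, 3],
    [6, 7, 5, 6, 3, 2, 1, 3, 4, 5, 0, 2, 3, 4, 1, 3],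
    [6, 7, 4, 5, 6, 2, 1, 3, 4, 5, 0, 2, 3, 4, 1, 3],
    [6, 7, 3, 4, 5, 6, 1, 3, 4, 5, 0, 2, 3, 4, 1, 3],
    [5, 6, 7, 4, 5, 6, 1, 3, 4, 5, 0, 2, 3, 4, 1, 3],
    [6, 7, 3, 4, 5, 6, 2, 3, 4, 5, 0, 2, 3, 4, 1, 3],
    [5, 6, 7, 4, 5, 6, 2, 3, 4, 5, 0, 2, 3, 4, 1, 3],
    [6, 7, 2, 3, 4, 5, 6, 1, 3, 4, 5, 2, 3, 4, 1, 3],
    [5, 6, 7, 3, 4, 5, 6, 1, 3, 4, 5, 2, 3, 4, 1, 3],
    [5, 6, 7, 4, 5, 6, 2, 1, 3, 4, 5, 0, 2, 3, 4, 1, 3],
    [5, 6, 7, 3, 4, 5, 6, 1, 3, 4, 5, 0, 2, 3, 4, 1, 3],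
    [5, 6, 7, 3, 4, 5, 6, 2, 3, 4, 5, 0, 2, 3, 4, 1, 3],
    [5, 6, 7, 2, 3, 4, 5, 6, 1, 3, 4, 5, 2, 3, 4, 1, 3],
    [4, 5, 6, 7, 3, 4, 5, 6, 1, 3, 4, 5, 2, 3, 4, 1, 3],
    [4, 5, 6, 7, 3, 4, 5, 6, 1, 3, 4, 5, 0, 2, 3, 4, 1, 3],
    [4, 5, 6, 7, 3, 4, 5, 6, 2, 3, 4, 5, 0, 2, 3, 4, 1, 3],
    [4, 5, 6, 7, 2, 3, 4, 5, 6, 1, 3, 4, 5, 2, 3, 4, 1, 3],
    [3, 4, 5, 6, 7, 2, 3, 4, 5, 6, 1, 3, 4, 5, 2, 3, 4, 1, 3],
    [1, 3, 4, 5, 6, 7, 2, 3, 4, 5, 6, 1, 3, 4, 5, 2, 3, 4, 1, 3]]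

def invE8Steps1 : List (List (ℕ × List ℕ)) :=
  [[(0, [0]), (0, [2]), (1, []), (2, []), (0, [3]), (0, [4]), (0, [5]), (0, [6])],
    [(3, []), (1, [2]), (0, []), (1, [1]), (1, [3]), (1, [4]), (1, [5]), (1, [6])],
    [(2, [0]), (4, []), (2, [1]), (0, []), (5, []), (2, [4]), (2, [5]), (2, [6])],
    [(1, []), (3, [2]), (3, [0]), (3, [1]), (3, [3]), (3, [4]), (3, [5]), (3, [6])],
    [(4, [0]), (2, []), (4, [1]), (4, [2]), (6, []), (4, [4]), (4, [5]), (4, [6])],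
    [(5, [0]), (6, []), (5, [1]), (5, [3]), (2, []), (7, []), (5, [5]), (5, [6])],
    [(6, [0]), (5, []), (6, [1]), (8, []), (4, []), (9, []), (6, [5]), (6, [6])],
    [(7, [0]), (9, []), (7, [1]), (7, [3]), (7, [4]), (5, []), (10, []), (7, [6])],
    [(8, [0]), (8, [3]), (11, []), (6, []), (8, [2]), (12, []), (8, [5]), (8, [6])],
    [(9, [0]), (7, []), (9, [1]), (12, []), (9, [4]), (6, []), (13, []), (9, [6])],
    [(10, [0]), (13, []), (10, [1]), (10, [3]), (10, [4]), (10, [5]), (7, []), (14, [])],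
    [(15, []), (11, [3]), (8, []), (11, [1]), (11, [2]), (16, []), (11, [5]), (11, [6])],
    [(12, [0]), (12, [3]), (16, []), (9, []), (17, []), (8, []), (18, []), (12, [6])],
    [(13, [0]), (10, []), (13, [1]), (18, []), (13, [4]), (13, [5]), (9, []), (19, [])],
    [(14, [0]), (19, []), (14, [1]), (14, [3]), (14, [4]), (14, [5]), (14, [6]), (10, [])],
    [(11, []), (15, [3]), (15, [0]), (15, [1]), (15, [2]), (20, []), (15, [5]), (15, [6])],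
    [(20, []), (16, [3]), (12, []), (16, [1]), (21, []), (11, []), (22, []), (16, [6])],
    [(17, [0]), (17, [3]), (21, []), (17, [4]), (12, []), (17, [2]), (23, []), (17, [6])],
    [(18, [0]), (18, [3]), (22, []), (13, []), (23, []), (18, [5]), (12, []), (24, [])],
    [(19, [0]), (14, []), (19, [1]), (24, []), (19, [4]), (19, [5]), (19, [6]), (13, [])],
    [(16, []), (20, [3]), (20, [0]), (20, [1]), (25, []), (15, []), (26, []), (20, [6])],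
    [(25, []), (21, [3]), (17, []), (27, []), (16, []), (21, [2]), (28, []), (21, [6])],
    [(26, []), (22, [3]), (18, []), (22, [1]), (28, []), (22, [5]), (16, []), (29, [])],
    [(23, [0]), (23, [3]), (28, []), (23, [4]), (18, []), (30, []), (17, []), (31, [])],
    [(24, [0]), (24, [3]), (29, []), (19, []), (31, []), (24, [5]), (24, [6]), (18, [])],
    [(21, []), (25, [3]), (25, [0]), (32, []), (20, []), (25, [2]), (33, []), (25, [6])],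
    [(22, []), (26, [3]), (26, [0]), (26, [1]), (33, []), (26, [5]), (20, []), (34, [])],
    [(32, []), (35, []), (27, [4]), (21, []), (27, [1]), (27, [2]), (36, []), (27, [6])],
    [(33, []), (28, [3]), (23, []), (36, []), (22, []), (37, []), (21, []), (38, [])],
    [(34, []), (29, [3]), (24, []), (29, [1]), (38, []), (29, [5]), (29, [6]), (22, [])],
    [(30, [0]), (30, [3]), (37, []), (30, [4]), (30, [5]), (23, []), (30, [2]), (39, [])],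
    [(31, [0]), (31, [3]), (38, []), (31, [4]), (24, []), (39, []), (31, [6]), (23, [])],
    [(27, []), (40, []), (41, []), (25, []), (32, [1]), (32, [2]), (42, []), (32, [6])],
    [(28, []), (33, [3]), (33, [0]), (42, []), (26, []), (43, []), (25, []), (44, [])],
    [(29, []), (34, [3]), (34, [0]), (34, [1]), (44, []), (34, [5]), (34, [6]), (26, [])],
    [(40, []), (27, []), (35, [4]), (35, [3]), (35, [1]), (35, [2]), (45, []), (35, [6])],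
    [(42, []), (45, []), (36, [4]), (28, []), (36, [1]), (46, []), (27, []), (47, [])],
    [(43, []), (37, [3]), (30, []), (46, []), (37, [5]), (28, []), (37, [2]), (48, [])],
    [(44, []), (38, [3]), (31, []), (47, []), (29, []), (48, []), (38, [6]), (28, [])],
    [(39, [0]), (39, [3]), (48, []), (39, [4]), (39, [5]), (31, []), (49, []), (30, [])],
    [(35, []), (32, []), (50, []), (40, [3]), (40, [1]), (40, [2]), (51, []), (40, [6])],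
    [(41, [4]), (50, []), (32, []), (41, [0]), (41, [1]), (41, [2]), (52, []), (41, [6])],
    [(36, []), (51, []), (52, []), (33, []), (42, [1]), (53, []), (32, []), (54, [])],
    [(37, []), (43, [3]), (43, [0]), (53, []), (43, [5]), (33, []), (43, [2]), (55, [])],
    [(38, []), (44, [3]), (44, [0]), (54, []), (34, []), (55, []), (44, [6]), (33, [])],
    [(51, []), (36, []), (45, [4]), (45, [3]), (45, [1]), (56, []), (35, []), (57, [])],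
    [(53, []), (56, []), (46, [4]), (37, []), (58, []), (36, []), (46, [2]), (59, [])],
    [(54, []), (57, []), (47, [4]), (38, []), (47, [1]), (59, []), (47, [6]), (36, [])],
    [(55, []), (48, [3]), (39, []), (59, []), (48, [5]), (38, []), (60, []), (37, [])],
    [(49, [0]), (49, [3]), (60, []), (49, [4]), (49, [5]), (49, [6]), (39, []), (49, [2])],
    [(50, [4]), (41, []), (40, []), (61, []), (50, [1]), (50, [2]), (62, []), (50, [6])],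
    [(45, []), (42, []), (62, []), (51, [3]), (51, [1]), (63, []), (40, []), (64, [])],
    [(52, [4]), (62, []), (42, []), (52, [0]), (52, [1]), (65, []), (41, []), (66, [])],
    [(46, []), (63, []), (65, []), (43, []), (67, []), (42, []), (53, [2]), (68, [])],
    [(47, []), (64, []), (66, []), (44, []), (54, [1]), (68, []), (54, [6]), (42, [])],
    [(48, []), (55, [3]), (55, [0]), (68, []), (55, [5]), (44, []), (69, []), (43, [])],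
    [(63, []), (46, []), (56, [4]), (56, [3]), (70, []), (45, []), (56, [2]), (71, [])],
    [(64, []), (47, []), (57, [4]), (57, [3]), (57, [1]), (71, []), (57, [6]), (45, [])],
    [(67, []), (70, []), (58, [4]), (58, [5]), (46, []), (58, [1]), (58, [2]), (72, [])],
    [(68, []), (71, []), (59, [4]), (48, []), (72, []), (47, []), (73, []), (46, [])],
    [(69, []), (60, [3]), (49, []), (73, []), (60, [5]), (60, [6]), (48, []), (60, [2])],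
    [(61, [4]), (61, [0]), (61, [3]), (50, []), (74, []), (61, [2]), (75, []), (61, [6])],
    [(62, [4]), (52, []), (51, []), (75, []), (62, [1]), (76, []), (50, []), (77, [])],
    [(56, []), (53, []), (76, []), (63, [3]), (78, []), (51, []), (63, [2]), (79, [])],
    [(57, []), (54, []), (77, []), (64, [3]), (64, [1]), (79, []), (64, [6]), (51, [])],
    [(65, [4]), (76, []), (53, []), (65, [0]), (80, []), (52, []), (65, [2]), (81, [])],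
    [(66, [4]), (77, []), (54, []), (66, [0]), (66, [1]), (81, []), (66, [6]), (52, [])],
    [(58, []), (78, []), (80, []), (67, [5]), (53, []), (67, [1]), (67, [2]), (82, [])],
    [(59, []), (79, []), (81, []), (55, []), (82, []), (54, []), (83, []), (53, [])],
    [(60, []), (69, [3]), (69, [0]), (83, []), (69, [5]), (69, [6]), (55, []), (69, [2])],
    [(78, []), (58, []), (70, [4]), (84, []), (56, []), (70, [1]), (70, [2]), (85, [])],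
    [(79, []), (59, []), (71, [4]), (71, [3]), (85, []), (57, []), (86, []), (56, [])],
    [(82, []), (85, []), (72, [4]), (72, [5]), (59, []), (72, [1]), (87, []), (58, [])],
    [(83, []), (86, []), (73, [4]), (60, []), (87, []), (73, [6]), (59, []), (73, [2])],
    [(74, [4]), (74, [0]), (74, [3]), (74, [1]), (61, []), (88, []), (89, []), (74, [6])],
    [(75, [4]), (75, [0]), (75, [3]), (62, []), (89, []), (90, []), (61, []), (91, [])],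
    [(76, [4]), (65, []), (63, []), (90, []), (92, []), (62, []), (76, [2]), (93, [])],
    [(77, [4]), (66, []), (64, []), (91, []), (77, [1]), (93, []), (77, [6]), (62, [])],
    [(70, []), (67, []), (92, []), (94, []), (63, []), (78, [1]), (78, [2]), (95, [])],
    [(71, []), (68, []), (93, []), (79, [3]), (95, []), (64, []), (96, []), (63, [])],
    [(80, [4]), (92, []), (67, []), (97, []), (65, []), (80, [1]), (80, [2]), (98, [])],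
    [(81, [4]), (93, []), (68, []), (81, [0]), (98, []), (66, []), (99, []), (65, [])],
    [(72, []), (95, []), (98, []), (82, [5]), (68, []), (82, [1]), (100, []), (67, [])],
    [(73, []), (96, []), (99, []), (69, []), (100, []), (83, [6]), (68, []), (83, [2])],
    [(94, []), (84, [5]), (101, []), (70, []), (84, [3]), (84, [1]), (84, [2]), (102, [])],
    [(95, []), (72, []), (85, [4]), (102, []), (71, []), (85, [1]), (103, []), (70, [])],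
    [(96, []), (73, []), (86, [4]), (86, [3]), (103, []), (86, [6]), (71, []), (86, [2])],
    [(100, []), (103, []), (87, [4]), (87, [5]), (73, []), (104, []), (72, []), (87, [2])],
    [(88, [4]), (88, [0]), (88, [3]), (88, [1]), (88, [2]), (74, []), (88, [7]), (88, [6])],
    [(89, [4]), (89, [0]), (89, [3]), (89, [1]), (75, []), (89, [7]), (74, []), (105, [])],
    [(90, [4]), (90, [0]), (90, [3]), (76, []), (90, [7]), (75, []), (90, [2]), (106, [])],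
    [(91, [4]), (91, [0]), (91, [3]), (77, []), (105, []), (106, []), (91, [6]), (75, [])],
    [(92, [4]), (80, []), (78, []), (92, [7]), (76, []), (92, [1]), (92, [2]), (107, [])],
    [(93, [4]), (81, []), (79, []), (106, []), (107, []), (77, []), (108, []), (76, [])],
    [(84, []), (94, [5]), (94, [7]), (78, []), (94, [3]), (94, [1]), (94, [2]), (109, [])],
    [(85, []), (82, []), (107, []), (109, []), (79, []), (95, [1]), (110, []), (78, [])],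
    [(86, []), (83, []), (108, []), (96, [3]), (110, []), (96, [6]), (79, []), (96, [2])],
    [(97, [4]), (97, [7]), (97, [5]), (80, []), (97, [0]), (97, [1]), (97, [2]), (111, [])],
    [(98, [4]), (107, []), (82, []), (111, []), (81, []), (98, [1]), (112, []), (80, [])],
    [(99, [4]), (108, []), (83, []), (99, [0]), (112, []), (99, [6]), (81, []), (99, [2])],
    [(87, []), (110, []), (112, []), (100, [5]), (83, []), (113, []), (82, []), (100, [2])],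
    [(101, [7]), (101, [5]), (84, []), (101, [4]), (101, [3]), (101, [1]), (101, [2]), (114, [])],
    [(109, []), (102, [5]), (114, []), (85, []), (102, [3]), (102, [1]), (115, []), (84, [])],
    [(110, []), (87, []), (103, [4]), (115, []), (86, []), (116, []), (85, []), (103, [2])],
    [(113, []), (116, []), (104, [4]), (104, [5]), (104, [6]), (87, []), (104, [1]), (104, [2])],
    [(105, [4]), (105, [0]), (105, [3]), (105, [1]), (91, []), (105, [7]), (105, [6]), (89, [])],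
    [(106, [4]), (106, [0]), (106, [3]), (93, []), (106, [7]), (91, []), (117, []), (90, [])],
    [(107, [4]), (98, []), (95, []), (107, [7]), (93, []), (107, [1]), (118, []), (92, [])],
    [(108, [4]), (99, []), (96, []), (117, []), (118, []), (108, [6]), (93, []), (108, [2])],
    [(102, []), (109, [5]), (109, [7]), (95, []), (109, [3]), (109, [1]), (119, []), (94, [])],
    [(103, []), (100, []), (118, []), (119, []), (96, []), (120, []), (95, []), (110, [2])],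
    [(111, [4]), (111, [7]), (111, [5]), (98, []), (111, [0]), (111, [1]), (121, []), (97, [])],
    [(112, [4]), (118, []), (100, []), (121, []), (99, []), (122, []), (98, []), (112, [2])],
    [(104, []), (120, []), (122, []), (113, [5]), (113, [6]), (100, []), (113, [1]), (113, [2])],
    [(114, [7]), (114, [5]), (102, []), (114, [4]), (114, [3]), (114, [1]), (123, []), (101, [])],
    [(119, []), (115, [5]), (123, []), (103, []), (115, [3]), (124, []), (102, []), (115, [2])],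
    [(120, []), (104, []), (116, [4]), (124, []), (116, [6]), (103, []), (116, [1]), (116, [2])],
    [(117, [4]), (117, [0]), (117, [3]), (108, []), (117, [7]), (117, [6]), (106, []), (117, [2])],
    [(118, [4]), (112, []), (110, []), (118, [7]), (108, []), (125, []), (107, []), (118, [2])],
    [(115, []), (119, [5]), (119, [7]), (110, []), (119, [3]), (126, []), (109, []), (119, [2])],
    [(116, []), (113, []), (125, []), (126, []), (120, [6]), (110, []), (120, [1]), (120, [2])],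
    [(121, [4]), (121, [7]), (121, [5]), (112, []), (121, [0]), (127, []), (111, []), (121, [2])],
    [(122, [4]), (125, []), (113, []), (127, []), (122, [6]), (112, []), (122, [1]), (122, [2])],
    [(123, [7]), (123, [5]), (115, []), (123, [4]), (123, [3]), (128, []), (114, []), (123, [2])],
    [(126, []), (124, [5]), (128, []), (116, []), (129, []), (115, []), (124, [1]), (124, [2])],
    [(125, [4]), (122, []), (120, []), (125, [7]), (125, [6]), (118, []), (125, [1]), (125, [2])],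
    [(124, []), (126, [5]), (126, [7]), (120, []), (130, []), (119, []), (126, [1]), (126, [2])],
    [(127, [4]), (127, [7]), (127, [5]), (122, []), (131, []), (121, []), (127, [1]), (127, [2])],
    [(128, [7]), (128, [5]), (124, []), (128, [4]), (132, []), (123, []), (128, [1]), (128, [2])],
    [(130, []), (129, [5]), (132, []), (129, [6]), (124, []), (129, [3]), (129, [1]), (129, [2])],
    [(129, []), (130, [5]), (130, [7]), (130, [6]), (126, []), (130, [3]), (130, [1]), (130, [2])],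
    [(131, [4]), (131, [7]), (131, [5]), (131, [6]), (127, []), (131, [0]), (131, [1]), (131, [2])],
    [(132, [7]), (132, [5]), (129, []), (133, []), (128, []), (132, [3]), (132, [1]), (132, [2])],
    [(133, [7]), (134, []), (133, [6]), (132, []), (133, [4]), (133, [3]), (133, [1]), (133, [2])],
    [(134, [7]), (133, []), (134, [6]), (134, [5]), (134, [4]), (134, [3]), (134, [1]), (134, [2])]]

/-- The stabiliser data of seed 1 of type E8. -/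
def invE8Stab1 : StabData :=
  ⟨3, [invE8Gen1_0, invE8Gen1_1, invE8Gen1_2, invE8Gen1_3, invE8Gen1_4, invE8Gen1_5, invE8Gen1_6, invE8Gen1_7],
    [invE8Level1_8, invE8Level1_7, invE8Level1_6, invE8Level1_5, invE8Level1_4, invE8Level1_3, invE8Level1_2, invE8Level1_1],
    invE8Orbit1, invE8Steps1, [2, 4, 6, 8, 10, 12, 14, 8]⟩

def invE8Gen2_0 : SubGen := ⟨[2, 3, 4, 1, 3, 2, 0, 2, 3, 1, 4, 3, 2],
 (.node 120 (.node 60 (.node 30 (.node 15 (.node 7 (.node 3 (.node 1 (.leaf 0)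
 (.node 2 (.leaf 1)
 (.leaf 2)))
 (.node 5 (.node 4 (.leaf 21)
 (.leaf 22))
 (.node 6 (.leaf 26)
 (.leaf 6))))
 (.node 11 (.node 9 (.node 8 (.leaf 36)
 (.leaf 8))
 (.node 10 (.leaf 9)
 (.leaf 10)))
 (.node 13 (.node 12 (.leaf 56)
 (.leaf 57))
 (.node 14 (.leaf 58)
 (.leaf 14)))))
 (.node 22 (.node 18 (.node 16 (.leaf 15)
 (.node 17 (.leaf 16)
 (.leaf 17)))
 (.node 20 (.node 19 (.leaf 78)
 (.leaf 79))
 (.node 21 (.leaf 80)
 (.leaf 3))))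
 (.node 26 (.node 24 (.node 23 (.leaf 4)
 (.leaf 23))
 (.node 25 (.leaf 24)
 (.leaf 25)))
 (.node 28 (.node 27 (.leaf 5)
 (.leaf 27))
 (.node 29 (.leaf 28)
 (.leaf 29))))))
 (.node 45 (.node 37 (.node 33 (.node 31 (.leaf 30)
 (.node 32 (.leaf 31)
 (.leaf 32)))
 (.node 35 (.node 34 (.leaf 93)
 (.leaf 94))
 (.node 36 (.leaf 95)
 (.leaf 7))))
 (.node 41 (.node 39 (.node 38 (.leaf 37)
 (.leaf 38))
 (.node 40 (.leaf 39)
 (.leaf 40)))
 (.node 43 (.node 42 (.leaf 41)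
 (.leaf 42))
 (.node 44 (.leaf 105)
 (.leaf 106)))))
 (.node 52 (.node 48 (.node 46 (.leaf 107)
 (.node 47 (.leaf 46)
 (.leaf 47)))
 (.node 50 (.node 49 (.leaf 48)
 (.leaf 110))
 (.node 51 (.leaf 111)
 (.leaf 112))))
 (.node 56 (.node 54 (.node 53 (.leaf 114)
 (.leaf 115))
 (.node 55 (.leaf 116)
 (.leaf 184)))
 (.node 58 (.node 57 (.leaf 11)
 (.leaf 12))
 (.node 59 (.leaf 13)
 (.leaf 59)))))))
 (.node 90 (.node 75 (.node 67 (.node 63 (.node 61 (.leaf 60)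
 (.node 62 (.leaf 61)
 (.leaf 62)))
 (.node 65 (.node 64 (.leaf 63)
 (.leaf 64))
 (.node 66 (.leaf 135)
 (.leaf 66))))
 (.node 71 (.node 69 (.node 68 (.leaf 67)
 (.leaf 68))
 (.node 70 (.leaf 136)
 (.leaf 137)))
 (.node 73 (.node 72 (.leaf 71)
 (.leaf 72))
 (.node 74 (.leaf 73)
 (.leaf 147)))))
 (.node 82 (.node 78 (.node 76 (.leaf 148)
 (.node 77 (.leaf 152)
 (.leaf 77)))
 (.node 80 (.node 79 (.leaf 18)
 (.leaf 19))
 (.node 81 (.leaf 20)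
 (.leaf 81))))
 (.node 86 (.node 84 (.node 83 (.leaf 82)
 (.leaf 83))
 (.node 85 (.leaf 84)
 (.leaf 85)))
 (.node 88 (.node 87 (.leaf 86)
 (.leaf 163))
 (.node 89 (.leaf 88)
 (.leaf 89))))))
 (.node 105 (.node 97 (.node 93 (.node 91 (.leaf 90)
 (.node 92 (.leaf 164)
 (.leaf 165)))
 (.node 95 (.node 94 (.leaf 33)
 (.leaf 34))
 (.node 96 (.leaf 35)
 (.leaf 96))))
 (.node 101 (.node 99 (.node 98 (.leaf 97)
 (.leaf 98))
 (.node 100 (.leaf 99)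
 (.leaf 100)))
 (.node 103 (.node 102 (.leaf 101)
 (.leaf 169))
 (.node 104 (.leaf 170)
 (.leaf 174)))))
 (.node 112 (.node 108 (.node 106 (.leaf 43)
 (.node 107 (.leaf 44)
 (.leaf 45)))
 (.node 110 (.node 109 (.leaf 108)
 (.leaf 109))
 (.node 111 (.leaf 49)
 (.leaf 50))))
 (.node 116 (.node 114 (.node 113 (.leaf 51)
 (.leaf 113))
 (.node 115 (.leaf 52)
 (.leaf 53)))
 (.node 118 (.node 117 (.leaf 54)
 (.leaf 117))
 (.node 119 (.leaf 118)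
 (.leaf 119))))))))
 (.node 180 (.node 150 (.node 135 (.node 127 (.node 123 (.node 121 (.leaf 120)
 (.node 122 (.leaf 121)
 (.leaf 122)))
 (.node 125 (.node 124 (.leaf 185)
 (.leaf 186))
 (.node 126 (.leaf 187)
 (.leaf 126))))
 (.node 131 (.node 129 (.node 128 (.leaf 188)
 (.leaf 189))
 (.node 130 (.leaf 190)
 (.leaf 130)))
 (.node 133 (.node 132 (.leaf 131)
 (.leaf 194))
 (.node 134 (.leaf 195)
 (.leaf 196)))))
 (.node 142 (.node 138 (.node 136 (.leaf 65)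
 (.node 137 (.leaf 69)
 (.leaf 70)))
 (.node 140 (.node 139 (.leaf 138)
 (.leaf 139))
 (.node 141 (.leaf 140)
 (.leaf 141))))
 (.node 146 (.node 144 (.node 143 (.leaf 142)
 (.leaf 143))
 (.node 145 (.leaf 204)
 (.leaf 205)))
 (.node 148 (.node 147 (.leaf 206)
 (.leaf 74))
 (.node 149 (.leaf 75)
 (.leaf 149))))))
 (.node 165 (.node 157 (.node 153 (.node 151 (.leaf 150)
 (.node 152 (.leaf 151)
 (.leaf 76)))
 (.node 155 (.node 154 (.leaf 153)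
 (.leaf 154))
 (.node 156 (.leaf 155)
 (.leaf 156))))
 (.node 161 (.node 159 (.node 158 (.leaf 157)
 (.leaf 158))
 (.node 160 (.leaf 219)
 (.leaf 220)))
 (.node 163 (.node 162 (.leaf 221)
 (.leaf 162))
 (.node 164 (.leaf 87)
 (.leaf 91)))))
 (.node 172 (.node 168 (.node 166 (.leaf 92)
 (.node 167 (.leaf 166)
 (.leaf 167)))
 (.node 170 (.node 169 (.leaf 168)
 (.leaf 102))
 (.node 171 (.leaf 103)
 (.leaf 171))))
 (.node 176 (.node 174 (.node 173 (.leaf 172)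
 (.leaf 173))
 (.node 175 (.leaf 104)
 (.leaf 175)))
 (.node 178 (.node 177 (.leaf 176)
 (.leaf 177))
 (.node 179 (.leaf 178)
 (.leaf 179)))))))
 (.node 210 (.node 195 (.node 187 (.node 183 (.node 181 (.leaf 180)
 (.node 182 (.leaf 226)
 (.leaf 227)))
 (.node 185 (.node 184 (.leaf 228)
 (.leaf 55))
 (.node 186 (.leaf 123)
 (.leaf 124))))
 (.node 191 (.node 189 (.node 188 (.leaf 125)
 (.leaf 127))
 (.node 190 (.leaf 128)
 (.leaf 129)))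
 (.node 193 (.node 192 (.leaf 191)
 (.leaf 192))
 (.node 194 (.leaf 193)
 (.leaf 132)))))
 (.node 202 (.node 198 (.node 196 (.leaf 133)
 (.node 197 (.leaf 134)
 (.leaf 197)))
 (.node 200 (.node 199 (.leaf 198)
 (.leaf 199))
 (.node 201 (.leaf 200)
 (.leaf 201))))
 (.node 206 (.node 204 (.node 203 (.leaf 202)
 (.leaf 232))
 (.node 205 (.leaf 144)
 (.leaf 145)))
 (.node 208 (.node 207 (.leaf 146)
 (.leaf 207))
 (.node 209 (.leaf 208)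
 (.leaf 209))))))
 (.node 225 (.node 217 (.node 213 (.node 211 (.leaf 210)
 (.node 212 (.leaf 211)
 (.leaf 212)))
 (.node 215 (.node 214 (.leaf 234)
 (.leaf 214))
 (.node 216 (.leaf 215)
 (.leaf 216))))
 (.node 221 (.node 219 (.node 218 (.leaf 235)
 (.leaf 236))
 (.node 220 (.leaf 159)
 (.leaf 160)))
 (.node 223 (.node 222 (.leaf 161)
 (.leaf 222))
 (.node 224 (.leaf 223)
 (.leaf 224)))))
 (.node 232 (.node 228 (.node 226 (.leaf 225)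
 (.node 227 (.leaf 181)
 (.leaf 182)))
 (.node 230 (.node 229 (.leaf 183)
 (.leaf 229))
 (.node 231 (.leaf 230)
 (.leaf 231))))
 (.node 236 (.node 234 (.node 233 (.leaf 203)
 (.leaf 233))
 (.node 235 (.leaf 213)
 (.leaf 217)))
 (.node 238 (.node 237 (.leaf 218)
 (.leaf 237))
 (.node 239 (.leaf 238)
 (.leaf 239)))))))))⟩

def invE8Gen2_1 : SubGen := ⟨[5],
 (.node 120 (.node 60 (.node 30 (.node 15 (.node 7 (.node 3 (.node 1 (.leaf 0)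
 (.node 2 (.leaf 1)
 (.leaf 3)))
 (.node 5 (.node 4 (.leaf 2)
 (.leaf 4))
 (.node 6 (.leaf 5)
 (.leaf 6))))
 (.node 11 (.node 9 (.node 8 (.leaf 7)
 (.leaf 8))
 (.node 10 (.leaf 9)
 (.leaf 11)))
 (.node 13 (.node 12 (.leaf 10)
 (.leaf 12))
 (.node 14 (.leaf 13)
 (.leaf 14)))))
 (.node 22 (.node 18 (.node 16 (.leaf 15)
 (.node 17 (.leaf 16)
 (.leaf 18)))
 (.node 20 (.node 19 (.leaf 17)
 (.leaf 19))
 (.node 21 (.leaf 20)
 (.leaf 21))))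
 (.node 26 (.node 24 (.node 23 (.leaf 23)
 (.leaf 22))
 (.node 25 (.leaf 24)
 (.leaf 25)))
 (.node 28 (.node 27 (.leaf 27)
 (.leaf 26))
 (.node 29 (.leaf 28)
 (.leaf 29))))))
 (.node 45 (.node 37 (.node 33 (.node 31 (.leaf 30)
 (.node 32 (.leaf 33)
 (.leaf 34)))
 (.node 35 (.node 34 (.leaf 31)
 (.leaf 32))
 (.node 36 (.leaf 35)
 (.leaf 37))))
 (.node 41 (.node 39 (.node 38 (.leaf 36)
 (.leaf 38))
 (.node 40 (.leaf 39)
 (.leaf 40)))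
 (.node 43 (.node 42 (.leaf 43)
 (.leaf 44))
 (.node 44 (.leaf 41)
 (.leaf 42)))))
 (.node 52 (.node 48 (.node 46 (.leaf 45)
 (.node 47 (.leaf 46)
 (.leaf 49)))
 (.node 50 (.node 49 (.leaf 50)
 (.leaf 47))
 (.node 51 (.leaf 48)
 (.leaf 51))))
 (.node 56 (.node 54 (.node 53 (.leaf 52)
 (.leaf 53))
 (.node 55 (.leaf 55)
 (.leaf 54)))
 (.node 58 (.node 57 (.leaf 56)
 (.leaf 59))
 (.node 59 (.leaf 60)
 (.leaf 57)))))))
 (.node 90 (.node 75 (.node 67 (.node 63 (.node 61 (.leaf 58)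
 (.node 62 (.leaf 61)
 (.leaf 62)))
 (.node 65 (.node 64 (.leaf 63)
 (.leaf 65))
 (.node 66 (.leaf 64)
 (.leaf 66))))
 (.node 71 (.node 69 (.node 68 (.leaf 67)
 (.leaf 69))
 (.node 70 (.leaf 68)
 (.leaf 70)))
 (.node 73 (.node 72 (.leaf 71)
 (.leaf 72))
 (.node 74 (.leaf 74)
 (.leaf 73)))))
 (.node 82 (.node 78 (.node 76 (.leaf 75)
 (.node 77 (.leaf 76)
 (.leaf 77)))
 (.node 80 (.node 79 (.leaf 78)
 (.leaf 81))
 (.node 81 (.leaf 82)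
 (.leaf 79))))
 (.node 86 (.node 84 (.node 83 (.leaf 80)
 (.leaf 83))
 (.node 85 (.leaf 84)
 (.leaf 85)))
 (.node 88 (.node 87 (.leaf 87)
 (.leaf 86))
 (.node 89 (.leaf 88)
 (.leaf 89))))))
 (.node 105 (.node 97 (.node 93 (.node 91 (.leaf 91)
 (.node 92 (.leaf 90)
 (.leaf 92)))
 (.node 95 (.node 94 (.leaf 93)
 (.leaf 94))
 (.node 96 (.leaf 96)
 (.leaf 95))))
 (.node 101 (.node 99 (.node 98 (.leaf 97)
 (.leaf 98))
 (.node 100 (.leaf 99)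
 (.leaf 100)))
 (.node 103 (.node 102 (.leaf 102)
 (.leaf 101))
 (.node 104 (.leaf 103)
 (.leaf 104)))))
 (.node 112 (.node 108 (.node 106 (.leaf 105)
 (.node 107 (.leaf 106)
 (.leaf 108)))
 (.node 110 (.node 109 (.leaf 107)
 (.leaf 109))
 (.node 111 (.leaf 110)
 (.leaf 111))))
 (.node 116 (.node 114 (.node 113 (.leaf 113)
 (.leaf 112))
 (.node 115 (.leaf 117)
 (.leaf 118)))
 (.node 118 (.node 117 (.leaf 123)
 (.leaf 114))
 (.node 119 (.leaf 115)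
 (.leaf 119))))))))
 (.node 180 (.node 150 (.node 135 (.node 127 (.node 123 (.node 121 (.leaf 120)
 (.node 122 (.leaf 124)
 (.leaf 125)))
 (.node 125 (.node 124 (.leaf 116)
 (.leaf 121))
 (.node 126 (.leaf 122)
 (.leaf 127))))
 (.node 131 (.node 129 (.node 128 (.leaf 126)
 (.leaf 128))
 (.node 130 (.leaf 129)
 (.leaf 130)))
 (.node 133 (.node 132 (.leaf 132)
 (.leaf 131))
 (.node 134 (.leaf 133)
 (.leaf 134)))))
 (.node 142 (.node 138 (.node 136 (.leaf 135)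
 (.node 137 (.leaf 136)
 (.leaf 138)))
 (.node 140 (.node 139 (.leaf 137)
 (.leaf 139))
 (.node 141 (.leaf 140)
 (.leaf 141))))
 (.node 146 (.node 144 (.node 143 (.leaf 142)
 (.leaf 144))
 (.node 145 (.leaf 143)
 (.leaf 145)))
 (.node 148 (.node 147 (.leaf 146)
 (.leaf 147))
 (.node 149 (.leaf 149)
 (.leaf 148))))))
 (.node 165 (.node 157 (.node 153 (.node 151 (.leaf 150)
 (.node 152 (.leaf 151)
 (.leaf 153)))
 (.node 155 (.node 154 (.leaf 152)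
 (.leaf 154))
 (.node 156 (.leaf 155)
 (.leaf 156))))
 (.node 161 (.node 159 (.node 158 (.leaf 159)
 (.leaf 160))
 (.node 160 (.leaf 157)
 (.leaf 158)))
 (.node 163 (.node 162 (.leaf 161)
 (.leaf 162))
 (.node 164 (.leaf 163)
 (.leaf 164)))))
 (.node 172 (.node 168 (.node 166 (.leaf 166)
 (.node 167 (.leaf 165)
 (.leaf 167)))
 (.node 170 (.node 169 (.leaf 168)
 (.leaf 169))
 (.node 171 (.leaf 171)
 (.leaf 170))))
 (.node 176 (.node 174 (.node 173 (.leaf 172)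
 (.leaf 173))
 (.node 175 (.leaf 175)
 (.leaf 174)))
 (.node 178 (.node 177 (.leaf 176)
 (.leaf 177))
 (.node 179 (.leaf 178)
 (.leaf 181)))))))
 (.node 210 (.node 195 (.node 187 (.node 183 (.node 181 (.leaf 182)
 (.node 182 (.leaf 179)
 (.leaf 180)))
 (.node 185 (.node 184 (.leaf 183)
 (.leaf 185))
 (.node 186 (.leaf 184)
 (.leaf 186))))
 (.node 191 (.node 189 (.node 188 (.leaf 187)
 (.leaf 188))
 (.node 190 (.leaf 191)
 (.leaf 192)))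
 (.node 193 (.node 192 (.leaf 189)
 (.leaf 190))
 (.node 194 (.leaf 193)
 (.leaf 194)))))
 (.node 202 (.node 198 (.node 196 (.leaf 197)
 (.node 197 (.leaf 198)
 (.leaf 195)))
 (.node 200 (.node 199 (.leaf 196)
 (.leaf 199))
 (.node 201 (.leaf 200)
 (.leaf 201))))
 (.node 206 (.node 204 (.node 203 (.leaf 203)
 (.leaf 202))
 (.node 205 (.leaf 204)
 (.leaf 207)))
 (.node 208 (.node 207 (.leaf 208)
 (.leaf 205))
 (.node 209 (.leaf 206)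
 (.leaf 209))))))
 (.node 225 (.node 217 (.node 213 (.node 211 (.leaf 210)
 (.node 212 (.leaf 211)
 (.leaf 213)))
 (.node 215 (.node 214 (.leaf 212)
 (.leaf 214))
 (.node 216 (.leaf 215)
 (.leaf 217))))
 (.node 221 (.node 219 (.node 218 (.leaf 216)
 (.leaf 218))
 (.node 220 (.leaf 219)
 (.leaf 220)))
 (.node 223 (.node 222 (.leaf 222)
 (.leaf 221))
 (.node 224 (.leaf 223)
 (.leaf 224)))))
 (.node 232 (.node 228 (.node 226 (.leaf 225)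
 (.node 227 (.leaf 226)
 (.leaf 227)))
 (.node 230 (.node 229 (.leaf 229)
 (.leaf 228))
 (.node 231 (.leaf 230)
 (.leaf 231))))
 (.node 236 (.node 234 (.node 233 (.leaf 232)
 (.leaf 233))
 (.node 235 (.leaf 234)
 (.leaf 235)))
 (.node 238 (.node 237 (.leaf 237)
 (.leaf 236))
 (.node 239 (.leaf 238)
 (.leaf 239)))))))))⟩

def invE8Gen2_2 : SubGen := ⟨[4],
 (.node 120 (.node 60 (.node 30 (.node 15 (.node 7 (.node 3 (.node 1 (.leaf 0)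
 (.node 2 (.leaf 1)
 (.leaf 2)))
 (.node 5 (.node 4 (.leaf 4)
 (.leaf 3))
 (.node 6 (.leaf 5)
 (.leaf 6))))
 (.node 11 (.node 9 (.node 8 (.leaf 7)
 (.leaf 8))
 (.node 10 (.leaf 10)
 (.leaf 9)))
 (.node 13 (.node 12 (.leaf 11)
 (.leaf 12))
 (.node 14 (.leaf 13)
 (.leaf 14)))))
 (.node 22 (.node 18 (.node 16 (.leaf 15)
 (.node 17 (.leaf 17)
 (.leaf 16)))
 (.node 20 (.node 19 (.leaf 18)
 (.leaf 19))
 (.node 21 (.leaf 20)
 (.leaf 22))))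
 (.node 26 (.node 24 (.node 23 (.leaf 21)
 (.leaf 23))
 (.node 25 (.leaf 24)
 (.leaf 25)))
 (.node 28 (.node 27 (.leaf 26)
 (.leaf 30))
 (.node 29 (.leaf 31)
 (.leaf 32))))))
 (.node 45 (.node 37 (.node 33 (.node 31 (.leaf 27)
 (.node 32 (.leaf 28)
 (.leaf 29)))
 (.node 35 (.node 34 (.leaf 33)
 (.leaf 34))
 (.node 36 (.leaf 35)
 (.leaf 36))))
 (.node 41 (.node 39 (.node 38 (.leaf 40)
 (.leaf 41))
 (.node 40 (.leaf 42)
 (.leaf 37)))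
 (.node 43 (.node 42 (.leaf 38)
 (.leaf 39))
 (.node 44 (.leaf 43)
 (.leaf 44)))))
 (.node 52 (.node 48 (.node 46 (.leaf 45)
 (.node 47 (.leaf 46)
 (.leaf 47)))
 (.node 50 (.node 49 (.leaf 48)
 (.leaf 52))
 (.node 51 (.leaf 53)
 (.leaf 54))))
 (.node 56 (.node 54 (.node 53 (.leaf 49)
 (.leaf 50))
 (.node 55 (.leaf 51)
 (.leaf 55)))
 (.node 58 (.node 57 (.leaf 56)
 (.leaf 57))
 (.node 59 (.leaf 58)
 (.leaf 62)))))))
 (.node 90 (.node 75 (.node 67 (.node 63 (.node 61 (.leaf 63)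
 (.node 62 (.leaf 64)
 (.leaf 59)))
 (.node 65 (.node 64 (.leaf 60)
 (.leaf 61))
 (.node 66 (.leaf 65)
 (.leaf 66))))
 (.node 71 (.node 69 (.node 68 (.leaf 67)
 (.leaf 68))
 (.node 70 (.leaf 70)
 (.leaf 69)))
 (.node 73 (.node 72 (.leaf 71)
 (.leaf 72))
 (.node 74 (.leaf 73)
 (.leaf 75)))))
 (.node 82 (.node 78 (.node 76 (.leaf 74)
 (.node 77 (.leaf 76)
 (.leaf 77)))
 (.node 80 (.node 79 (.leaf 78)
 (.leaf 79))
 (.node 81 (.leaf 80)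
 (.leaf 84))))
 (.node 86 (.node 84 (.node 83 (.leaf 85)
 (.leaf 86))
 (.node 85 (.leaf 81)
 (.leaf 82)))
 (.node 88 (.node 87 (.leaf 83)
 (.leaf 87))
 (.node 89 (.leaf 88)
 (.leaf 89))))))
 (.node 105 (.node 97 (.node 93 (.node 91 (.leaf 90)
 (.node 92 (.leaf 92)
 (.leaf 91)))
 (.node 95 (.node 94 (.leaf 93)
 (.leaf 94))
 (.node 96 (.leaf 95)
 (.leaf 97))))
 (.node 101 (.node 99 (.node 98 (.leaf 96)
 (.leaf 98))
 (.node 100 (.leaf 99)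
 (.leaf 100)))
 (.node 103 (.node 102 (.leaf 101)
 (.leaf 103))
 (.node 104 (.leaf 102)
 (.leaf 104)))))
 (.node 112 (.node 108 (.node 106 (.leaf 105)
 (.node 107 (.leaf 106)
 (.leaf 107)))
 (.node 110 (.node 109 (.leaf 109)
 (.leaf 108))
 (.node 111 (.leaf 114)
 (.leaf 115))))
 (.node 116 (.node 114 (.node 113 (.leaf 116)
 (.leaf 126))
 (.node 115 (.leaf 110)
 (.leaf 111)))
 (.node 118 (.node 117 (.leaf 112)
 (.leaf 117))
 (.node 119 (.leaf 118)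
 (.leaf 119))))))))
 (.node 180 (.node 150 (.node 135 (.node 127 (.node 123 (.node 121 (.leaf 120)
 (.node 122 (.leaf 121)
 (.leaf 122)))
 (.node 125 (.node 124 (.leaf 127)
 (.leaf 128))
 (.node 126 (.leaf 129)
 (.leaf 113))))
 (.node 131 (.node 129 (.node 128 (.leaf 123)
 (.leaf 124))
 (.node 130 (.leaf 125)
 (.leaf 131)))
 (.node 133 (.node 132 (.leaf 130)
 (.leaf 132))
 (.node 134 (.leaf 133)
 (.leaf 134)))))
 (.node 142 (.node 138 (.node 136 (.leaf 135)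
 (.node 137 (.leaf 137)
 (.leaf 136)))
 (.node 140 (.node 139 (.leaf 138)
 (.leaf 139))
 (.node 141 (.leaf 140)
 (.leaf 141))))
 (.node 146 (.node 144 (.node 143 (.leaf 143)
 (.leaf 142))
 (.node 145 (.leaf 144)
 (.leaf 145)))
 (.node 148 (.node 147 (.leaf 146)
 (.leaf 148))
 (.node 149 (.leaf 147)
 (.leaf 149))))))
 (.node 165 (.node 157 (.node 153 (.node 151 (.leaf 150)
 (.node 152 (.leaf 151)
 (.leaf 152)))
 (.node 155 (.node 154 (.leaf 156)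
 (.leaf 157))
 (.node 156 (.leaf 158)
 (.leaf 153))))
 (.node 161 (.node 159 (.node 158 (.leaf 154)
 (.leaf 155))
 (.node 160 (.leaf 159)
 (.leaf 160)))
 (.node 163 (.node 162 (.leaf 161)
 (.leaf 162))
 (.node 164 (.leaf 163)
 (.leaf 165)))))
 (.node 172 (.node 168 (.node 166 (.leaf 164)
 (.node 167 (.leaf 166)
 (.leaf 167)))
 (.node 170 (.node 169 (.leaf 168)
 (.leaf 170))
 (.node 171 (.leaf 169)
 (.leaf 171))))
 (.node 176 (.node 174 (.node 173 (.leaf 172)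
 (.leaf 173))
 (.node 175 (.leaf 174)
 (.leaf 178)))
 (.node 178 (.node 177 (.leaf 179)
 (.leaf 180))
 (.node 179 (.leaf 175)
 (.leaf 176)))))))
 (.node 210 (.node 195 (.node 187 (.node 183 (.node 181 (.leaf 177)
 (.node 182 (.leaf 181)
 (.leaf 182)))
 (.node 185 (.node 184 (.leaf 183)
 (.leaf 184))
 (.node 186 (.leaf 188)
 (.leaf 189))))
 (.node 191 (.node 189 (.node 188 (.leaf 190)
 (.leaf 185))
 (.node 190 (.leaf 186)
 (.leaf 187)))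
 (.node 193 (.node 192 (.leaf 191)
 (.leaf 192))
 (.node 194 (.leaf 193)
 (.leaf 194)))))
 (.node 202 (.node 198 (.node 196 (.leaf 195)
 (.node 197 (.leaf 196)
 (.leaf 200)))
 (.node 200 (.node 199 (.leaf 201)
 (.leaf 202))
 (.node 201 (.leaf 197)
 (.leaf 198))))
 (.node 206 (.node 204 (.node 203 (.leaf 199)
 (.leaf 203))
 (.node 205 (.leaf 204)
 (.leaf 205)))
 (.node 208 (.node 207 (.leaf 206)
 (.leaf 210))
 (.node 209 (.leaf 211)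
 (.leaf 212))))))
 (.node 225 (.node 217 (.node 213 (.node 211 (.leaf 207)
 (.node 212 (.leaf 208)
 (.leaf 209)))
 (.node 215 (.node 214 (.leaf 213)
 (.leaf 214))
 (.node 216 (.leaf 215)
 (.leaf 216))))
 (.node 221 (.node 219 (.node 218 (.leaf 218)
 (.leaf 217))
 (.node 220 (.leaf 219)
 (.leaf 220)))
 (.node 223 (.node 222 (.leaf 221)
 (.leaf 223))
 (.node 224 (.leaf 222)
 (.leaf 224)))))
 (.node 232 (.node 228 (.node 226 (.leaf 225)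
 (.node 227 (.leaf 226)
 (.leaf 227)))
 (.node 230 (.node 229 (.leaf 228)
 (.leaf 230))
 (.node 231 (.leaf 229)
 (.leaf 231))))
 (.node 236 (.node 234 (.node 233 (.leaf 232)
 (.leaf 233))
 (.node 235 (.leaf 234)
 (.leaf 236)))
 (.node 238 (.node 237 (.leaf 235)
 (.leaf 237))
 (.node 239 (.leaf 238)
 (.leaf 239)))))))))⟩

def invE8Gen2_3 : SubGen := ⟨[6],
 (.node 120 (.node 60 (.node 30 (.node 15 (.node 7 (.node 3 (.node 1 (.leaf 0)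
 (.node 2 (.leaf 2)
 (.leaf 1)))
 (.node 5 (.node 4 (.leaf 3)
 (.leaf 4))
 (.node 6 (.leaf 5)
 (.leaf 6))))
 (.node 11 (.node 9 (.node 8 (.leaf 7)
 (.leaf 8))
 (.node 10 (.leaf 9)
 (.leaf 10)))
 (.node 13 (.node 12 (.leaf 12)
 (.leaf 11))
 (.node 14 (.leaf 13)
 (.leaf 14)))))
 (.node 22 (.node 18 (.node 16 (.leaf 15)
 (.node 17 (.leaf 16)
 (.leaf 17)))
 (.node 20 (.node 19 (.leaf 19)
 (.leaf 18))
 (.node 21 (.leaf 20)
 (.leaf 21))))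
 (.node 26 (.node 24 (.node 23 (.leaf 22)
 (.leaf 24))
 (.node 25 (.leaf 23)
 (.leaf 25)))
 (.node 28 (.node 27 (.leaf 26)
 (.leaf 28))
 (.node 29 (.leaf 27)
 (.leaf 29))))))
 (.node 45 (.node 37 (.node 33 (.node 31 (.leaf 31)
 (.node 32 (.leaf 30)
 (.leaf 32)))
 (.node 35 (.node 34 (.leaf 33)
 (.leaf 35))
 (.node 36 (.leaf 34)
 (.leaf 36))))
 (.node 41 (.node 39 (.node 38 (.leaf 38)
 (.leaf 37))
 (.node 40 (.leaf 39)
 (.leaf 41)))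
 (.node 43 (.node 42 (.leaf 40)
 (.leaf 42))
 (.node 44 (.leaf 43)
 (.leaf 45)))))
 (.node 52 (.node 48 (.node 46 (.leaf 44)
 (.node 47 (.leaf 47)
 (.leaf 46)))
 (.node 50 (.node 49 (.leaf 48)
 (.leaf 49))
 (.node 51 (.leaf 51)
 (.leaf 50))))
 (.node 56 (.node 54 (.node 53 (.leaf 52)
 (.leaf 54))
 (.node 55 (.leaf 53)
 (.leaf 55)))
 (.node 58 (.node 57 (.leaf 57)
 (.leaf 56))
 (.node 59 (.leaf 58)
 (.leaf 59)))))))
 (.node 90 (.node 75 (.node 67 (.node 63 (.node 61 (.leaf 61)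
 (.node 62 (.leaf 60)
 (.leaf 62)))
 (.node 65 (.node 64 (.leaf 64)
 (.leaf 63))
 (.node 66 (.leaf 65)
 (.leaf 66))))
 (.node 71 (.node 69 (.node 68 (.leaf 68)
 (.leaf 67))
 (.node 70 (.leaf 69)
 (.leaf 70)))
 (.node 73 (.node 72 (.leaf 71)
 (.leaf 73))
 (.node 74 (.leaf 72)
 (.leaf 74)))))
 (.node 82 (.node 78 (.node 76 (.leaf 75)
 (.node 77 (.leaf 76)
 (.leaf 77)))
 (.node 80 (.node 79 (.leaf 79)
 (.leaf 78))
 (.node 81 (.leaf 80)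
 (.leaf 81))))
 (.node 86 (.node 84 (.node 83 (.leaf 83)
 (.leaf 82))
 (.node 85 (.leaf 84)
 (.leaf 86)))
 (.node 88 (.node 87 (.leaf 85)
 (.leaf 87))
 (.node 89 (.leaf 88)
 (.leaf 90))))))
 (.node 105 (.node 97 (.node 93 (.node 91 (.leaf 89)
 (.node 92 (.leaf 91)
 (.leaf 92)))
 (.node 95 (.node 94 (.leaf 93)
 (.leaf 95))
 (.node 96 (.leaf 94)
 (.leaf 96))))
 (.node 101 (.node 99 (.node 98 (.leaf 97)
 (.leaf 98))
 (.node 100 (.leaf 99)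
 (.leaf 101)))
 (.node 103 (.node 102 (.leaf 100)
 (.leaf 102))
 (.node 104 (.leaf 103)
 (.leaf 104)))))
 (.node 112 (.node 108 (.node 106 (.leaf 105)
 (.node 107 (.leaf 107)
 (.leaf 106)))
 (.node 110 (.node 109 (.leaf 108)
 (.leaf 109))
 (.node 111 (.leaf 110)
 (.leaf 112))))
 (.node 116 (.node 114 (.node 113 (.leaf 111)
 (.leaf 113))
 (.node 115 (.leaf 114)
 (.leaf 116)))
 (.node 118 (.node 117 (.leaf 115)
 (.leaf 119))
 (.node 119 (.leaf 121)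
 (.leaf 117))))))))
 (.node 180 (.node 150 (.node 135 (.node 127 (.node 123 (.node 121 (.leaf 122)
 (.node 122 (.leaf 118)
 (.leaf 120)))
 (.node 125 (.node 124 (.leaf 124)
 (.leaf 123))
 (.node 126 (.leaf 125)
 (.leaf 126))))
 (.node 131 (.node 129 (.node 128 (.leaf 128)
 (.leaf 127))
 (.node 130 (.leaf 129)
 (.leaf 130)))
 (.node 133 (.node 132 (.leaf 131)
 (.leaf 133))
 (.node 134 (.leaf 132)
 (.leaf 134)))))
 (.node 142 (.node 138 (.node 136 (.leaf 135)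
 (.node 137 (.leaf 136)
 (.leaf 137)))
 (.node 140 (.node 139 (.leaf 139)
 (.leaf 138))
 (.node 141 (.leaf 140)
 (.leaf 141))))
 (.node 146 (.node 144 (.node 143 (.leaf 142)
 (.leaf 143))
 (.node 145 (.leaf 145)
 (.leaf 144)))
 (.node 148 (.node 147 (.leaf 146)
 (.leaf 147))
 (.node 149 (.leaf 148)
 (.leaf 150))))))
 (.node 165 (.node 157 (.node 153 (.node 151 (.leaf 149)
 (.node 152 (.leaf 151)
 (.leaf 152)))
 (.node 155 (.node 154 (.leaf 154)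
 (.leaf 153))
 (.node 156 (.leaf 155)
 (.leaf 157))))
 (.node 161 (.node 159 (.node 158 (.leaf 156)
 (.leaf 158))
 (.node 160 (.leaf 159)
 (.leaf 161)))
 (.node 163 (.node 162 (.leaf 160)
 (.leaf 162))
 (.node 164 (.leaf 163)
 (.leaf 164)))))
 (.node 172 (.node 168 (.node 166 (.leaf 165)
 (.node 167 (.leaf 167)
 (.leaf 166)))
 (.node 170 (.node 169 (.leaf 168)
 (.leaf 169))
 (.node 171 (.leaf 170)
 (.leaf 172))))
 (.node 176 (.node 174 (.node 173 (.leaf 171)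
 (.leaf 173))
 (.node 175 (.leaf 174)
 (.leaf 176)))
 (.node 178 (.node 177 (.leaf 175)
 (.leaf 177))
 (.node 179 (.leaf 179)
 (.leaf 178)))))))
 (.node 210 (.node 195 (.node 187 (.node 183 (.node 181 (.leaf 180)
 (.node 182 (.leaf 181)
 (.leaf 183)))
 (.node 185 (.node 184 (.leaf 182)
 (.leaf 184))
 (.node 186 (.leaf 186)
 (.leaf 185))))
 (.node 191 (.node 189 (.node 188 (.leaf 187)
 (.leaf 189))
 (.node 190 (.leaf 188)
 (.leaf 190)))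
 (.node 193 (.node 192 (.leaf 191)
 (.leaf 193))
 (.node 194 (.leaf 192)
 (.leaf 195)))))
 (.node 202 (.node 198 (.node 196 (.leaf 194)
 (.node 197 (.leaf 196)
 (.leaf 197)))
 (.node 200 (.node 199 (.leaf 199)
 (.leaf 198))
 (.node 201 (.leaf 200)
 (.leaf 202))))
 (.node 206 (.node 204 (.node 203 (.leaf 201)
 (.leaf 203))
 (.node 205 (.leaf 205)
 (.leaf 204)))
 (.node 208 (.node 207 (.leaf 206)
 (.leaf 207))
 (.node 209 (.leaf 209)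
 (.leaf 208))))))
 (.node 225 (.node 217 (.node 213 (.node 211 (.leaf 210)
 (.node 212 (.leaf 212)
 (.leaf 211)))
 (.node 215 (.node 214 (.leaf 213)
 (.leaf 214))
 (.node 216 (.leaf 216)
 (.leaf 215))))
 (.node 221 (.node 219 (.node 218 (.leaf 217)
 (.leaf 218))
 (.node 220 (.leaf 219)
 (.leaf 221)))
 (.node 223 (.node 222 (.leaf 220)
 (.leaf 222))
 (.node 224 (.leaf 223)
 (.leaf 224)))))
 (.node 232 (.node 228 (.node 226 (.leaf 225)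
 (.node 227 (.leaf 226)
 (.leaf 228)))
 (.node 230 (.node 229 (.leaf 227)
 (.leaf 229))
 (.node 231 (.leaf 230)
 (.leaf 231))))
 (.node 236 (.node 234 (.node 233 (.leaf 232)
 (.leaf 233))
 (.node 235 (.leaf 234)
 (.leaf 235)))
 (.node 238 (.node 237 (.leaf 236)
 (.leaf 238))
 (.node 239 (.leaf 237)
 (.leaf 239)))))))))⟩

def invE8Gen2_4 : SubGen := ⟨[3],
 (.node 120 (.node 60 (.node 30 (.node 15 (.node 7 (.node 3 (.node 1 (.leaf 0)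
 (.node 2 (.leaf 1)
 (.leaf 2)))
 (.node 5 (.node 4 (.leaf 3)
 (.leaf 5))
 (.node 6 (.leaf 4)
 (.leaf 6))))
 (.node 11 (.node 9 (.node 8 (.leaf 7)
 (.leaf 9))
 (.node 10 (.leaf 8)
 (.leaf 10)))
 (.node 13 (.node 12 (.leaf 11)
 (.leaf 12))
 (.node 14 (.leaf 13)
 (.leaf 14)))))
 (.node 22 (.node 18 (.node 16 (.leaf 16)
 (.node 17 (.leaf 15)
 (.leaf 17)))
 (.node 20 (.node 19 (.leaf 18)
 (.leaf 19))
 (.node 21 (.leaf 20)
 (.leaf 21))))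
 (.node 26 (.node 24 (.node 23 (.leaf 26)
 (.leaf 27))
 (.node 25 (.leaf 28)
 (.leaf 29)))
 (.node 28 (.node 27 (.leaf 22)
 (.leaf 23))
 (.node 29 (.leaf 24)
 (.leaf 25))))))
 (.node 45 (.node 37 (.node 33 (.node 31 (.leaf 30)
 (.node 32 (.leaf 31)
 (.leaf 32)))
 (.node 35 (.node 34 (.leaf 33)
 (.leaf 34))
 (.node 36 (.leaf 35)
 (.leaf 36))))
 (.node 41 (.node 39 (.node 38 (.leaf 37)
 (.leaf 38))
 (.node 40 (.leaf 39)
 (.leaf 46)))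
 (.node 43 (.node 42 (.leaf 47)
 (.leaf 48))
 (.node 44 (.leaf 49)
 (.leaf 50)))))
 (.node 52 (.node 48 (.node 46 (.leaf 51)
 (.node 47 (.leaf 40)
 (.leaf 41)))
 (.node 50 (.node 49 (.leaf 42)
 (.leaf 43))
 (.node 51 (.leaf 44)
 (.leaf 45))))
 (.node 56 (.node 54 (.node 53 (.leaf 52)
 (.leaf 53))
 (.node 55 (.leaf 54)
 (.leaf 55)))
 (.node 58 (.node 57 (.leaf 56)
 (.leaf 57))
 (.node 59 (.leaf 58)
 (.leaf 59)))))))
 (.node 90 (.node 75 (.node 67 (.node 63 (.node 61 (.leaf 60)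
 (.node 62 (.leaf 61)
 (.leaf 66)))
 (.node 65 (.node 64 (.leaf 67)
 (.leaf 68))
 (.node 66 (.leaf 69)
 (.leaf 62))))
 (.node 71 (.node 69 (.node 68 (.leaf 63)
 (.leaf 64))
 (.node 70 (.leaf 65)
 (.leaf 70)))
 (.node 73 (.node 72 (.leaf 71)
 (.leaf 72))
 (.node 74 (.leaf 73)
 (.leaf 74)))))
 (.node 82 (.node 78 (.node 76 (.leaf 76)
 (.node 77 (.leaf 75)
 (.leaf 77)))
 (.node 80 (.node 79 (.leaf 78)
 (.leaf 79))
 (.node 81 (.leaf 80)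
 (.leaf 81))))
 (.node 86 (.node 84 (.node 83 (.leaf 82)
 (.leaf 83))
 (.node 85 (.leaf 88)
 (.leaf 89)))
 (.node 88 (.node 87 (.leaf 90)
 (.leaf 91))
 (.node 89 (.leaf 84)
 (.leaf 85))))))
 (.node 105 (.node 97 (.node 93 (.node 91 (.leaf 86)
 (.node 92 (.leaf 87)
 (.leaf 92)))
 (.node 95 (.node 94 (.leaf 93)
 (.leaf 94))
 (.node 96 (.leaf 95)
 (.leaf 96))))
 (.node 101 (.node 99 (.node 98 (.leaf 98)
 (.leaf 97))
 (.node 100 (.leaf 99)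
 (.leaf 100)))
 (.node 103 (.node 102 (.leaf 101)
 (.leaf 102))
 (.node 104 (.leaf 104)
 (.leaf 103)))))
 (.node 112 (.node 108 (.node 106 (.leaf 110)
 (.node 107 (.leaf 111)
 (.leaf 112)))
 (.node 110 (.node 109 (.leaf 113)
 (.leaf 130))
 (.node 111 (.leaf 105)
 (.leaf 106))))
 (.node 116 (.node 114 (.node 113 (.leaf 107)
 (.leaf 108))
 (.node 115 (.leaf 114)
 (.leaf 115)))
 (.node 118 (.node 117 (.leaf 116)
 (.leaf 117))
 (.node 119 (.leaf 118)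
 (.leaf 119))))))))
 (.node 180 (.node 150 (.node 135 (.node 127 (.node 123 (.node 121 (.leaf 120)
 (.node 122 (.leaf 121)
 (.leaf 122)))
 (.node 125 (.node 124 (.leaf 123)
 (.leaf 124))
 (.node 126 (.leaf 125)
 (.leaf 131))))
 (.node 131 (.node 129 (.node 128 (.leaf 132)
 (.leaf 133))
 (.node 130 (.leaf 134)
 (.leaf 109)))
 (.node 133 (.node 132 (.leaf 126)
 (.leaf 127))
 (.node 134 (.leaf 128)
 (.leaf 129)))))
 (.node 142 (.node 138 (.node 136 (.leaf 136)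
 (.node 137 (.leaf 135)
 (.leaf 137)))
 (.node 140 (.node 139 (.leaf 138)
 (.leaf 139))
 (.node 141 (.leaf 140)
 (.leaf 142))))
 (.node 146 (.node 144 (.node 143 (.leaf 141)
 (.leaf 143))
 (.node 145 (.leaf 144)
 (.leaf 145)))
 (.node 148 (.node 147 (.leaf 146)
 (.leaf 147))
 (.node 149 (.leaf 152)
 (.leaf 153))))))
 (.node 165 (.node 157 (.node 153 (.node 151 (.leaf 154)
 (.node 152 (.leaf 155)
 (.leaf 148)))
 (.node 155 (.node 154 (.leaf 149)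
 (.leaf 150))
 (.node 156 (.leaf 151)
 (.leaf 156))))
 (.node 161 (.node 159 (.node 158 (.leaf 157)
 (.leaf 158))
 (.node 160 (.leaf 159)
 (.leaf 160)))
 (.node 163 (.node 162 (.leaf 161)
 (.leaf 162))
 (.node 164 (.leaf 164)
 (.leaf 163)))))
 (.node 172 (.node 168 (.node 166 (.leaf 165)
 (.node 167 (.leaf 166)
 (.leaf 167)))
 (.node 170 (.node 169 (.leaf 168)
 (.leaf 169))
 (.node 171 (.leaf 174)
 (.leaf 175))))
 (.node 176 (.node 174 (.node 173 (.leaf 176)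
 (.leaf 177))
 (.node 175 (.leaf 170)
 (.leaf 171)))
 (.node 178 (.node 177 (.leaf 172)
 (.leaf 173))
 (.node 179 (.leaf 178)
 (.leaf 179)))))))
 (.node 210 (.node 195 (.node 187 (.node 183 (.node 181 (.leaf 180)
 (.node 182 (.leaf 181)
 (.leaf 182)))
 (.node 185 (.node 184 (.leaf 183)
 (.leaf 184))
 (.node 186 (.leaf 185)
 (.leaf 186))))
 (.node 191 (.node 189 (.node 188 (.leaf 187)
 (.leaf 194))
 (.node 190 (.leaf 195)
 (.leaf 196)))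
 (.node 193 (.node 192 (.leaf 197)
 (.leaf 198))
 (.node 194 (.leaf 199)
 (.leaf 188)))))
 (.node 202 (.node 198 (.node 196 (.leaf 189)
 (.node 197 (.leaf 190)
 (.leaf 191)))
 (.node 200 (.node 199 (.leaf 192)
 (.leaf 193))
 (.node 201 (.leaf 200)
 (.leaf 201))))
 (.node 206 (.node 204 (.node 203 (.leaf 202)
 (.leaf 203))
 (.node 205 (.leaf 204)
 (.leaf 205)))
 (.node 208 (.node 207 (.leaf 206)
 (.leaf 207))
 (.node 209 (.leaf 208)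
 (.leaf 209))))))
 (.node 225 (.node 217 (.node 213 (.node 211 (.leaf 214)
 (.node 212 (.leaf 215)
 (.leaf 216)))
 (.node 215 (.node 214 (.leaf 217)
 (.leaf 210))
 (.node 216 (.leaf 211)
 (.leaf 212))))
 (.node 221 (.node 219 (.node 218 (.leaf 213)
 (.leaf 218))
 (.node 220 (.leaf 219)
 (.leaf 220)))
 (.node 223 (.node 222 (.leaf 221)
 (.leaf 222))
 (.node 224 (.leaf 224)
 (.leaf 223)))))
 (.node 232 (.node 228 (.node 226 (.leaf 225)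
 (.node 227 (.leaf 226)
 (.leaf 227)))
 (.node 230 (.node 229 (.leaf 228)
 (.leaf 229))
 (.node 231 (.leaf 231)
 (.leaf 230))))
 (.node 236 (.node 234 (.node 233 (.leaf 232)
 (.leaf 233))
 (.node 235 (.leaf 235)
 (.leaf 234)))
 (.node 238 (.node 237 (.leaf 236)
 (.leaf 237))
 (.node 239 (.leaf 238)
 (.leaf 239)))))))))⟩

def invE8Gen2_5 : SubGen := ⟨[7],
 (.node 120 (.node 60 (.node 30 (.node 15 (.node 7 (.node 3 (.node 1 (.leaf 1)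
 (.node 2 (.leaf 0)
 (.leaf 2)))
 (.node 5 (.node 4 (.leaf 3)
 (.leaf 4))
 (.node 6 (.leaf 5)
 (.leaf 6))))
 (.node 11 (.node 9 (.node 8 (.leaf 7)
 (.leaf 8))
 (.node 10 (.leaf 9)
 (.leaf 10)))
 (.node 13 (.node 12 (.leaf 11)
 (.leaf 13))
 (.node 14 (.leaf 12)
 (.leaf 14)))))
 (.node 22 (.node 18 (.node 16 (.leaf 15)
 (.node 17 (.leaf 16)
 (.leaf 17)))
 (.node 20 (.node 19 (.leaf 18)
 (.leaf 20))
 (.node 21 (.leaf 19)
 (.leaf 21))))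
 (.node 26 (.node 24 (.node 23 (.leaf 22)
 (.leaf 23))
 (.node 25 (.leaf 25)
 (.leaf 24)))
 (.node 28 (.node 27 (.leaf 26)
 (.leaf 27))
 (.node 29 (.leaf 29)
 (.leaf 28))))))
 (.node 45 (.node 37 (.node 33 (.node 31 (.leaf 30)
 (.node 32 (.leaf 32)
 (.leaf 31)))
 (.node 35 (.node 34 (.leaf 34)
 (.leaf 33))
 (.node 36 (.leaf 35)
 (.leaf 36))))
 (.node 41 (.node 39 (.node 38 (.leaf 37)
 (.leaf 39))
 (.node 40 (.leaf 38)
 (.leaf 40)))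
 (.node 43 (.node 42 (.leaf 42)
 (.leaf 41))
 (.node 44 (.leaf 44)
 (.leaf 43)))))
 (.node 52 (.node 48 (.node 46 (.leaf 45)
 (.node 47 (.leaf 46)
 (.leaf 48)))
 (.node 50 (.node 49 (.leaf 47)
 (.leaf 50))
 (.node 51 (.leaf 49)
 (.leaf 51))))
 (.node 56 (.node 54 (.node 53 (.leaf 53)
 (.leaf 52))
 (.node 55 (.leaf 54)
 (.leaf 55)))
 (.node 58 (.node 57 (.leaf 56)
 (.leaf 58))
 (.node 59 (.leaf 57)
 (.leaf 60)))))))
 (.node 90 (.node 75 (.node 67 (.node 63 (.node 61 (.leaf 59)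
 (.node 62 (.leaf 61)
 (.leaf 63)))
 (.node 65 (.node 64 (.leaf 62)
 (.leaf 64))
 (.node 66 (.leaf 65)
 (.leaf 67))))
 (.node 71 (.node 69 (.node 68 (.leaf 66)
 (.leaf 68))
 (.node 70 (.leaf 69)
 (.leaf 70)))
 (.node 73 (.node 72 (.leaf 72)
 (.leaf 71))
 (.node 74 (.leaf 73)
 (.leaf 74)))))
 (.node 82 (.node 78 (.node 76 (.leaf 75)
 (.node 77 (.leaf 76)
 (.leaf 77)))
 (.node 80 (.node 79 (.leaf 78)
 (.leaf 80))
 (.node 81 (.leaf 79)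
 (.leaf 82))))
 (.node 86 (.node 84 (.node 83 (.leaf 81)
 (.leaf 83))
 (.node 85 (.leaf 85)
 (.leaf 84)))
 (.node 88 (.node 87 (.leaf 86)
 (.leaf 87))
 (.node 89 (.leaf 89)
 (.leaf 88))))))
 (.node 105 (.node 97 (.node 93 (.node 91 (.leaf 90)
 (.node 92 (.leaf 91)
 (.leaf 92)))
 (.node 95 (.node 94 (.leaf 94)
 (.leaf 93))
 (.node 96 (.leaf 95)
 (.leaf 96))))
 (.node 101 (.node 99 (.node 98 (.leaf 97)
 (.leaf 98))
 (.node 100 (.leaf 100)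
 (.leaf 99)))
 (.node 103 (.node 102 (.leaf 101)
 (.leaf 102))
 (.node 104 (.leaf 103)
 (.leaf 104)))))
 (.node 112 (.node 108 (.node 106 (.leaf 106)
 (.node 107 (.leaf 105)
 (.leaf 107)))
 (.node 110 (.node 109 (.leaf 108)
 (.leaf 109))
 (.node 111 (.leaf 111)
 (.leaf 110))))
 (.node 116 (.node 114 (.node 113 (.leaf 112)
 (.leaf 113))
 (.node 115 (.leaf 115)
 (.leaf 114)))
 (.node 118 (.node 117 (.leaf 116)
 (.leaf 118))
 (.node 119 (.leaf 117)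
 (.leaf 120))))))))
 (.node 180 (.node 150 (.node 135 (.node 127 (.node 123 (.node 121 (.leaf 119)
 (.node 122 (.leaf 122)
 (.leaf 121)))
 (.node 125 (.node 124 (.leaf 123)
 (.leaf 125))
 (.node 126 (.leaf 124)
 (.leaf 126))))
 (.node 131 (.node 129 (.node 128 (.leaf 127)
 (.leaf 129))
 (.node 130 (.leaf 128)
 (.leaf 130)))
 (.node 133 (.node 132 (.leaf 131)
 (.leaf 132))
 (.node 134 (.leaf 134)
 (.leaf 133)))))
 (.node 142 (.node 138 (.node 136 (.leaf 135)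
 (.node 137 (.leaf 136)
 (.leaf 137)))
 (.node 140 (.node 139 (.leaf 138)
 (.leaf 140))
 (.node 141 (.leaf 139)
 (.leaf 141))))
 (.node 146 (.node 144 (.node 143 (.leaf 142)
 (.leaf 143))
 (.node 145 (.leaf 144)
 (.leaf 146)))
 (.node 148 (.node 147 (.leaf 145)
 (.leaf 147))
 (.node 149 (.leaf 148)
 (.leaf 149))))))
 (.node 165 (.node 157 (.node 153 (.node 151 (.leaf 151)
 (.node 152 (.leaf 150)
 (.leaf 152)))
 (.node 155 (.node 154 (.leaf 153)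
 (.leaf 155))
 (.node 156 (.leaf 154)
 (.leaf 156))))
 (.node 161 (.node 159 (.node 158 (.leaf 158)
 (.leaf 157))
 (.node 160 (.leaf 160)
 (.leaf 159)))
 (.node 163 (.node 162 (.leaf 161)
 (.leaf 162))
 (.node 164 (.leaf 163)
 (.leaf 164)))))
 (.node 172 (.node 168 (.node 166 (.leaf 165)
 (.node 167 (.leaf 166)
 (.leaf 168)))
 (.node 170 (.node 169 (.leaf 167)
 (.leaf 169))
 (.node 171 (.leaf 170)
 (.leaf 171))))
 (.node 176 (.node 174 (.node 173 (.leaf 173)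
 (.leaf 172))
 (.node 175 (.leaf 174)
 (.leaf 175)))
 (.node 178 (.node 177 (.leaf 177)
 (.leaf 176))
 (.node 179 (.leaf 178)
 (.leaf 180)))))))
 (.node 210 (.node 195 (.node 187 (.node 183 (.node 181 (.leaf 179)
 (.node 182 (.leaf 182)
 (.leaf 181)))
 (.node 185 (.node 184 (.leaf 183)
 (.leaf 184))
 (.node 186 (.leaf 185)
 (.leaf 187))))
 (.node 191 (.node 189 (.node 188 (.leaf 186)
 (.leaf 188))
 (.node 190 (.leaf 190)
 (.leaf 189)))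
 (.node 193 (.node 192 (.leaf 192)
 (.leaf 191))
 (.node 194 (.leaf 193)
 (.leaf 194)))))
 (.node 202 (.node 198 (.node 196 (.leaf 196)
 (.node 197 (.leaf 195)
 (.leaf 198)))
 (.node 200 (.node 199 (.leaf 197)
 (.leaf 199))
 (.node 201 (.leaf 201)
 (.leaf 200))))
 (.node 206 (.node 204 (.node 203 (.leaf 202)
 (.leaf 203))
 (.node 205 (.leaf 204)
 (.leaf 206)))
 (.node 208 (.node 207 (.leaf 205)
 (.leaf 208))
 (.node 209 (.leaf 207)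
 (.leaf 209))))))
 (.node 225 (.node 217 (.node 213 (.node 211 (.leaf 211)
 (.node 212 (.leaf 210)
 (.leaf 212)))
 (.node 215 (.node 214 (.leaf 213)
 (.leaf 215))
 (.node 216 (.leaf 214)
 (.leaf 216))))
 (.node 221 (.node 219 (.node 218 (.leaf 217)
 (.leaf 218))
 (.node 220 (.leaf 220)
 (.leaf 219)))
 (.node 223 (.node 222 (.leaf 221)
 (.leaf 222))
 (.node 224 (.leaf 223)
 (.leaf 224)))))
 (.node 232 (.node 228 (.node 226 (.leaf 225)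
 (.node 227 (.leaf 227)
 (.leaf 226)))
 (.node 230 (.node 229 (.leaf 228)
 (.leaf 229))
 (.node 231 (.leaf 230)
 (.leaf 231))))
 (.node 236 (.node 234 (.node 233 (.leaf 232)
 (.leaf 233))
 (.node 235 (.leaf 234)
 (.leaf 235)))
 (.node 238 (.node 237 (.leaf 236)
 (.leaf 237))
 (.node 239 (.leaf 239)
 (.leaf 238)))))))))⟩

def invE8Gen2_6 : SubGen := ⟨[1],
 (.node 120 (.node 60 (.node 30 (.node 15 (.node 7 (.node 3 (.node 1 (.leaf 0)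
 (.node 2 (.leaf 1)
 (.leaf 2)))
 (.node 5 (.node 4 (.leaf 3)
 (.leaf 4))
 (.node 6 (.leaf 7)
 (.leaf 8))))
 (.node 11 (.node 9 (.node 8 (.leaf 5)
 (.leaf 6))
 (.node 10 (.leaf 9)
 (.leaf 10)))
 (.node 13 (.node 12 (.leaf 11)
 (.leaf 12))
 (.node 14 (.leaf 13)
 (.leaf 15)))))
 (.node 22 (.node 18 (.node 16 (.leaf 14)
 (.node 17 (.leaf 16)
 (.leaf 17)))
 (.node 20 (.node 19 (.leaf 18)
 (.leaf 19))
 (.node 21 (.leaf 20)
 (.leaf 21))))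
 (.node 26 (.node 24 (.node 23 (.leaf 22)
 (.leaf 23))
 (.node 25 (.leaf 24)
 (.leaf 25)))
 (.node 28 (.node 27 (.leaf 36)
 (.leaf 37))
 (.node 29 (.leaf 38)
 (.leaf 39))))))
 (.node 45 (.node 37 (.node 33 (.node 31 (.leaf 40)
 (.node 32 (.leaf 41)
 (.leaf 42)))
 (.node 35 (.node 34 (.leaf 43)
 (.leaf 44))
 (.node 36 (.leaf 45)
 (.leaf 26))))
 (.node 41 (.node 39 (.node 38 (.leaf 27)
 (.leaf 28))
 (.node 40 (.leaf 29)
 (.leaf 30)))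
 (.node 43 (.node 42 (.leaf 31)
 (.leaf 32))
 (.node 44 (.leaf 33)
 (.leaf 34)))))
 (.node 52 (.node 48 (.node 46 (.leaf 35)
 (.node 47 (.leaf 46)
 (.leaf 47)))
 (.node 50 (.node 49 (.leaf 48)
 (.leaf 49))
 (.node 51 (.leaf 50)
 (.leaf 51))))
 (.node 56 (.node 54 (.node 53 (.leaf 52)
 (.leaf 53))
 (.node 55 (.leaf 54)
 (.leaf 55)))
 (.node 58 (.node 57 (.leaf 56)
 (.leaf 57))
 (.node 59 (.leaf 58)
 (.leaf 59)))))))
 (.node 90 (.node 75 (.node 67 (.node 63 (.node 61 (.leaf 60)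
 (.node 62 (.leaf 61)
 (.leaf 62)))
 (.node 65 (.node 64 (.leaf 63)
 (.leaf 64))
 (.node 66 (.leaf 65)
 (.leaf 71))))
 (.node 71 (.node 69 (.node 68 (.leaf 72)
 (.leaf 73))
 (.node 70 (.leaf 74)
 (.leaf 75)))
 (.node 73 (.node 72 (.leaf 66)
 (.leaf 67))
 (.node 74 (.leaf 68)
 (.leaf 69)))))
 (.node 82 (.node 78 (.node 76 (.leaf 70)
 (.node 77 (.leaf 76)
 (.leaf 77)))
 (.node 80 (.node 79 (.leaf 78)
 (.leaf 79))
 (.node 81 (.leaf 80)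
 (.leaf 81))))
 (.node 86 (.node 84 (.node 83 (.leaf 82)
 (.leaf 83))
 (.node 85 (.leaf 84)
 (.leaf 85)))
 (.node 88 (.node 87 (.leaf 86)
 (.leaf 87))
 (.node 89 (.leaf 99)
 (.leaf 100))))))
 (.node 105 (.node 97 (.node 93 (.node 91 (.leaf 101)
 (.node 92 (.leaf 102)
 (.leaf 103)))
 (.node 95 (.node 94 (.leaf 105)
 (.leaf 106))
 (.node 96 (.leaf 107)
 (.leaf 108))))
 (.node 101 (.node 99 (.node 98 (.leaf 109)
 (.leaf 141))
 (.node 100 (.leaf 88)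
 (.leaf 89)))
 (.node 103 (.node 102 (.leaf 90)
 (.leaf 91))
 (.node 104 (.leaf 92)
 (.leaf 104)))))
 (.node 112 (.node 108 (.node 106 (.leaf 93)
 (.node 107 (.leaf 94)
 (.leaf 95)))
 (.node 110 (.node 109 (.leaf 96)
 (.leaf 97))
 (.node 111 (.leaf 110)
 (.leaf 111))))
 (.node 116 (.node 114 (.node 113 (.leaf 112)
 (.leaf 113))
 (.node 115 (.leaf 114)
 (.leaf 115)))
 (.node 118 (.node 117 (.leaf 116)
 (.leaf 117))
 (.node 119 (.leaf 118)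
 (.leaf 119))))))))
 (.node 180 (.node 150 (.node 135 (.node 127 (.node 123 (.node 121 (.leaf 120)
 (.node 122 (.leaf 121)
 (.leaf 122)))
 (.node 125 (.node 124 (.leaf 123)
 (.leaf 124))
 (.node 126 (.leaf 125)
 (.leaf 126))))
 (.node 131 (.node 129 (.node 128 (.leaf 127)
 (.leaf 128))
 (.node 130 (.leaf 129)
 (.leaf 142)))
 (.node 133 (.node 132 (.leaf 143)
 (.leaf 144))
 (.node 134 (.leaf 145)
 (.leaf 146)))))
 (.node 142 (.node 138 (.node 136 (.leaf 135)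
 (.node 137 (.leaf 147)
 (.leaf 148)))
 (.node 140 (.node 139 (.leaf 149)
 (.leaf 150))
 (.node 141 (.leaf 151)
 (.leaf 98))))
 (.node 146 (.node 144 (.node 143 (.leaf 130)
 (.leaf 131))
 (.node 145 (.leaf 132)
 (.leaf 133)))
 (.node 148 (.node 147 (.leaf 134)
 (.leaf 136))
 (.node 149 (.leaf 137)
 (.leaf 138))))))
 (.node 165 (.node 157 (.node 153 (.node 151 (.leaf 139)
 (.node 152 (.leaf 140)
 (.leaf 152)))
 (.node 155 (.node 154 (.leaf 153)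
 (.leaf 154))
 (.node 156 (.leaf 155)
 (.leaf 156))))
 (.node 161 (.node 159 (.node 158 (.leaf 157)
 (.leaf 158))
 (.node 160 (.leaf 159)
 (.leaf 160)))
 (.node 163 (.node 162 (.leaf 161)
 (.leaf 162))
 (.node 164 (.leaf 163)
 (.leaf 169)))))
 (.node 172 (.node 168 (.node 166 (.leaf 170)
 (.node 167 (.leaf 171)
 (.leaf 172)))
 (.node 170 (.node 169 (.leaf 173)
 (.leaf 164))
 (.node 171 (.leaf 165)
 (.leaf 166))))
 (.node 176 (.node 174 (.node 173 (.leaf 167)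
 (.leaf 168))
 (.node 175 (.leaf 174)
 (.leaf 175)))
 (.node 178 (.node 177 (.leaf 176)
 (.leaf 177))
 (.node 179 (.leaf 178)
 (.leaf 179)))))))
 (.node 210 (.node 195 (.node 187 (.node 183 (.node 181 (.leaf 180)
 (.node 182 (.leaf 181)
 (.leaf 182)))
 (.node 185 (.node 184 (.leaf 183)
 (.leaf 184))
 (.node 186 (.leaf 185)
 (.leaf 186))))
 (.node 191 (.node 189 (.node 188 (.leaf 187)
 (.leaf 188))
 (.node 190 (.leaf 189)
 (.leaf 190)))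
 (.node 193 (.node 192 (.leaf 191)
 (.leaf 192))
 (.node 194 (.leaf 193)
 (.leaf 204)))))
 (.node 202 (.node 198 (.node 196 (.leaf 205)
 (.node 197 (.leaf 206)
 (.leaf 207)))
 (.node 200 (.node 199 (.leaf 208)
 (.leaf 209))
 (.node 201 (.leaf 210)
 (.leaf 211))))
 (.node 206 (.node 204 (.node 203 (.leaf 212)
 (.leaf 213))
 (.node 205 (.leaf 194)
 (.leaf 195)))
 (.node 208 (.node 207 (.leaf 196)
 (.leaf 197))
 (.node 209 (.leaf 198)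
 (.leaf 199))))))
 (.node 225 (.node 217 (.node 213 (.node 211 (.leaf 200)
 (.node 212 (.leaf 201)
 (.leaf 202)))
 (.node 215 (.node 214 (.leaf 203)
 (.leaf 214))
 (.node 216 (.leaf 215)
 (.leaf 216))))
 (.node 221 (.node 219 (.node 218 (.leaf 217)
 (.leaf 218))
 (.node 220 (.leaf 219)
 (.leaf 220)))
 (.node 223 (.node 222 (.leaf 221)
 (.leaf 222))
 (.node 224 (.leaf 223)
 (.leaf 225)))))
 (.node 232 (.node 228 (.node 226 (.leaf 224)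
 (.node 227 (.leaf 226)
 (.leaf 227)))
 (.node 230 (.node 229 (.leaf 228)
 (.leaf 229))
 (.node 231 (.leaf 230)
 (.leaf 233))))
 (.node 236 (.node 234 (.node 233 (.leaf 234)
 (.leaf 231))
 (.node 235 (.leaf 232)
 (.leaf 235)))
 (.node 238 (.node 237 (.leaf 236)
 (.leaf 237))
 (.node 239 (.leaf 238)
 (.leaf 239)))))))))⟩

def invE8Gen2_7 : SubGen := ⟨[0],
 (.node 120 (.node 60 (.node 30 (.node 15 (.node 7 (.node 3 (.node 1 (.leaf 0)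
 (.node 2 (.leaf 1)
 (.leaf 2)))
 (.node 5 (.node 4 (.leaf 3)
 (.leaf 4))
 (.node 6 (.leaf 5)
 (.leaf 14))))
 (.node 11 (.node 9 (.node 8 (.leaf 7)
 (.leaf 15))
 (.node 10 (.leaf 16)
 (.leaf 17)))
 (.node 13 (.node 12 (.leaf 18)
 (.leaf 19))
 (.node 14 (.leaf 20)
 (.leaf 6)))))
 (.node 22 (.node 18 (.node 16 (.leaf 8)
 (.node 17 (.leaf 9)
 (.leaf 10)))
 (.node 20 (.node 19 (.leaf 11)
 (.leaf 12))
 (.node 21 (.leaf 13)
 (.leaf 21))))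
 (.node 26 (.node 24 (.node 23 (.leaf 22)
 (.leaf 23))
 (.node 25 (.leaf 24)
 (.leaf 25)))
 (.node 28 (.node 27 (.leaf 26)
 (.leaf 27))
 (.node 29 (.leaf 28)
 (.leaf 29))))))
 (.node 45 (.node 37 (.node 33 (.node 31 (.leaf 30)
 (.node 32 (.leaf 31)
 (.leaf 32)))
 (.node 35 (.node 34 (.leaf 33)
 (.leaf 34))
 (.node 36 (.leaf 35)
 (.leaf 36))))
 (.node 41 (.node 39 (.node 38 (.leaf 37)
 (.leaf 38))
 (.node 40 (.leaf 39)
 (.leaf 40)))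
 (.node 43 (.node 42 (.leaf 41)
 (.leaf 42))
 (.node 44 (.leaf 43)
 (.leaf 44)))))
 (.node 52 (.node 48 (.node 46 (.leaf 45)
 (.node 47 (.leaf 46)
 (.leaf 47)))
 (.node 50 (.node 49 (.leaf 48)
 (.leaf 49))
 (.node 51 (.leaf 50)
 (.leaf 51))))
 (.node 56 (.node 54 (.node 53 (.leaf 52)
 (.leaf 53))
 (.node 55 (.leaf 54)
 (.leaf 55)))
 (.node 58 (.node 57 (.leaf 78)
 (.leaf 79))
 (.node 59 (.leaf 80)
 (.leaf 81)))))))
 (.node 90 (.node 75 (.node 67 (.node 63 (.node 61 (.leaf 82)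
 (.node 62 (.leaf 83)
 (.leaf 84)))
 (.node 65 (.node 64 (.leaf 85)
 (.leaf 86))
 (.node 66 (.leaf 87)
 (.leaf 88))))
 (.node 71 (.node 69 (.node 68 (.leaf 89)
 (.leaf 90))
 (.node 70 (.leaf 91)
 (.leaf 92)))
 (.node 73 (.node 72 (.leaf 99)
 (.leaf 100))
 (.node 74 (.leaf 101)
 (.leaf 102)))))
 (.node 82 (.node 78 (.node 76 (.leaf 103)
 (.node 77 (.leaf 104)
 (.leaf 162)))
 (.node 80 (.node 79 (.leaf 56)
 (.leaf 57))
 (.node 81 (.leaf 58)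
 (.leaf 59))))
 (.node 86 (.node 84 (.node 83 (.leaf 60)
 (.leaf 61))
 (.node 85 (.leaf 62)
 (.leaf 63)))
 (.node 88 (.node 87 (.leaf 64)
 (.leaf 65))
 (.node 89 (.leaf 66)
 (.leaf 67))))))
 (.node 105 (.node 97 (.node 93 (.node 91 (.leaf 68)
 (.node 92 (.leaf 69)
 (.leaf 70)))
 (.node 95 (.node 94 (.leaf 93)
 (.leaf 94))
 (.node 96 (.leaf 95)
 (.leaf 96))))
 (.node 101 (.node 99 (.node 98 (.leaf 97)
 (.leaf 98))
 (.node 100 (.leaf 71)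
 (.leaf 72)))
 (.node 103 (.node 102 (.leaf 73)
 (.leaf 74))
 (.node 104 (.leaf 75)
 (.leaf 76)))))
 (.node 112 (.node 108 (.node 106 (.leaf 105)
 (.node 107 (.leaf 106)
 (.leaf 107)))
 (.node 110 (.node 109 (.leaf 108)
 (.leaf 109))
 (.node 111 (.leaf 110)
 (.leaf 111))))
 (.node 116 (.node 114 (.node 113 (.leaf 112)
 (.leaf 113))
 (.node 115 (.leaf 114)
 (.leaf 115)))
 (.node 118 (.node 117 (.leaf 116)
 (.leaf 117))
 (.node 119 (.leaf 118)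
 (.leaf 119))))))))
 (.node 180 (.node 150 (.node 135 (.node 127 (.node 123 (.node 121 (.leaf 120)
 (.node 122 (.leaf 121)
 (.leaf 122)))
 (.node 125 (.node 124 (.leaf 123)
 (.leaf 124))
 (.node 126 (.leaf 125)
 (.leaf 126))))
 (.node 131 (.node 129 (.node 128 (.leaf 127)
 (.leaf 128))
 (.node 130 (.leaf 129)
 (.leaf 130)))
 (.node 133 (.node 132 (.leaf 131)
 (.leaf 132))
 (.node 134 (.leaf 133)
 (.leaf 134)))))
 (.node 142 (.node 138 (.node 136 (.leaf 163)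
 (.node 137 (.leaf 164)
 (.leaf 165)))
 (.node 140 (.node 139 (.leaf 166)
 (.leaf 167))
 (.node 141 (.leaf 168)
 (.leaf 141))))
 (.node 146 (.node 144 (.node 143 (.leaf 142)
 (.leaf 143))
 (.node 145 (.leaf 144)
 (.leaf 145)))
 (.node 148 (.node 147 (.leaf 146)
 (.leaf 169))
 (.node 149 (.leaf 170)
 (.leaf 171))))))
 (.node 165 (.node 157 (.node 153 (.node 151 (.leaf 172)
 (.node 152 (.leaf 173)
 (.leaf 174)))
 (.node 155 (.node 154 (.leaf 175)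
 (.leaf 176))
 (.node 156 (.leaf 177)
 (.leaf 178))))
 (.node 161 (.node 159 (.node 158 (.leaf 179)
 (.leaf 180))
 (.node 160 (.leaf 181)
 (.leaf 182)))
 (.node 163 (.node 162 (.leaf 183)
 (.leaf 77))
 (.node 164 (.leaf 135)
 (.leaf 136)))))
 (.node 172 (.node 168 (.node 166 (.leaf 137)
 (.node 167 (.leaf 138)
 (.leaf 139)))
 (.node 170 (.node 169 (.leaf 140)
 (.leaf 147))
 (.node 171 (.leaf 148)
 (.leaf 149))))
 (.node 176 (.node 174 (.node 173 (.leaf 150)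
 (.leaf 151))
 (.node 175 (.leaf 152)
 (.leaf 153)))
 (.node 178 (.node 177 (.leaf 154)
 (.leaf 155))
 (.node 179 (.leaf 156)
 (.leaf 157)))))))
 (.node 210 (.node 195 (.node 187 (.node 183 (.node 181 (.leaf 158)
 (.node 182 (.leaf 159)
 (.leaf 160)))
 (.node 185 (.node 184 (.leaf 161)
 (.leaf 184))
 (.node 186 (.leaf 185)
 (.leaf 186))))
 (.node 191 (.node 189 (.node 188 (.leaf 187)
 (.leaf 188))
 (.node 190 (.leaf 189)
 (.leaf 190)))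
 (.node 193 (.node 192 (.leaf 191)
 (.leaf 192))
 (.node 194 (.leaf 193)
 (.leaf 194)))))
 (.node 202 (.node 198 (.node 196 (.leaf 195)
 (.node 197 (.leaf 196)
 (.leaf 197)))
 (.node 200 (.node 199 (.leaf 198)
 (.leaf 199))
 (.node 201 (.leaf 200)
 (.leaf 201))))
 (.node 206 (.node 204 (.node 203 (.leaf 202)
 (.leaf 203))
 (.node 205 (.leaf 204)
 (.leaf 205)))
 (.node 208 (.node 207 (.leaf 206)
 (.leaf 207))
 (.node 209 (.leaf 208)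
 (.leaf 209))))))
 (.node 225 (.node 217 (.node 213 (.node 211 (.leaf 210)
 (.node 212 (.leaf 211)
 (.leaf 212)))
 (.node 215 (.node 214 (.leaf 213)
 (.leaf 214))
 (.node 216 (.leaf 215)
 (.leaf 216))))
 (.node 221 (.node 219 (.node 218 (.leaf 217)
 (.leaf 218))
 (.node 220 (.leaf 226)
 (.leaf 227)))
 (.node 223 (.node 222 (.leaf 228)
 (.leaf 229))
 (.node 224 (.leaf 230)
 (.leaf 231)))))
 (.node 232 (.node 228 (.node 226 (.leaf 233)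
 (.node 227 (.leaf 219)
 (.leaf 220)))
 (.node 230 (.node 229 (.leaf 221)
 (.leaf 222))
 (.node 231 (.leaf 223)
 (.leaf 224))))
 (.node 236 (.node 234 (.node 233 (.leaf 232)
 (.leaf 225))
 (.node 235 (.leaf 234)
 (.leaf 235)))
 (.node 238 (.node 237 (.leaf 236)
 (.leaf 237))
 (.node 239 (.leaf 238)
 (.leaf 239)))))))))⟩

def invE8Level2_8 : SubLevel := ⟨8, [162],
  [[],
    [7]],
  [[(0, [0]), (0, [1]), (0, [2]), (0, [3]), (0, [4]), (0, [5]), (0, [6]), (1, [])],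
    [(1, [0]), (1, [1]), (1, [2]), (1, [3]), (1, [4]), (1, [5]), (1, [6]), (0, [])]]⟩

def invE8Level2_7 : SubLevel := ⟨7, [141, 142, 143, 144, 145, 146, 204, 205, 206, 207, 208, 209, 210, 211, 212, 213, 214, 215, 216, 217, 218, 234, 235, 236, 237, 238, 239],
  [[],
    [6],
    [4, 6],
    [2, 4, 6],
    [1, 2, 4, 6],
    [0, 1, 2, 4, 6],
    [3, 1, 2, 4, 6],
    [3, 0, 1, 2, 4, 6],
    [5, 3, 1, 2, 4, 6],
    [1, 3, 0, 1, 2, 4, 6],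
    [5, 3, 0, 1, 2, 4, 6],
    [2, 1, 3, 0, 1, 2, 4, 6],
    [5, 1, 3, 0, 1, 2, 4, 6],
    [4, 2, 1, 3, 0, 1, 2, 4, 6],
    [5, 2, 1, 3, 0, 1, 2, 4, 6],
    [3, 5, 1, 3, 0, 1, 2, 4, 6],
    [5, 4, 2, 1, 3, 0, 1, 2, 4, 6],
    [6, 4, 2, 1, 3, 0, 1, 2, 4, 6],
    [3, 5, 2, 1, 3, 0, 1, 2, 4, 6],
    [3, 5, 4, 2, 1, 3, 0, 1, 2, 4, 6],
    [6, 5, 4, 2, 1, 3, 0, 1, 2, 4, 6],
    [1, 3, 5, 2, 1, 3, 0, 1, 2, 4, 6],
    [1, 3, 5, 4, 2, 1, 3, 0, 1, 2, 4, 6],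
    [6, 3, 5, 4, 2, 1, 3, 0, 1, 2, 4, 6],
    [0, 1, 3, 5, 2, 1, 3, 0, 1, 2, 4, 6],
    [0, 1, 3, 5, 4, 2, 1, 3, 0, 1, 2, 4, 6],
    [2, 1, 3, 5, 4, 2, 1, 3, 0, 1, 2, 4, 6],
    [6, 1, 3, 5, 4, 2, 1, 3, 0, 1, 2, 4, 6],
    [2, 0, 1, 3, 5, 4, 2, 1, 3, 0, 1, 2, 4, 6],
    [6, 0, 1, 3, 5, 4, 2, 1, 3, 0, 1, 2, 4, 6],
    [6, 2, 1, 3, 5, 4, 2, 1, 3, 0, 1, 2, 4, 6],
    [1, 2, 0, 1, 3, 5, 4, 2, 1, 3, 0, 1, 2, 4, 6],
    [6, 2, 0, 1, 3, 5, 4, 2, 1, 3, 0, 1, 2, 4, 6],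
    [4, 6, 2, 1, 3, 5, 4, 2, 1, 3, 0, 1, 2, 4, 6],
    [3, 1, 2, 0, 1, 3, 5, 4, 2, 1, 3, 0, 1, 2, 4, 6],
    [6, 1, 2, 0, 1, 3, 5, 4, 2, 1, 3, 0, 1, 2, 4, 6],
    [4, 6, 2, 0, 1, 3, 5, 4, 2, 1, 3, 0, 1, 2, 4, 6],
    [5, 3, 1, 2, 0, 1, 3, 5, 4, 2, 1, 3, 0, 1, 2, 4, 6],
    [6, 3, 1, 2, 0, 1, 3, 5, 4, 2, 1, 3, 0, 1, 2, 4, 6],
    [4, 6, 1, 2, 0, 1, 3, 5, 4, 2, 1, 3, 0, 1, 2, 4, 6],
    [6, 5, 3, 1, 2, 0, 1, 3, 5, 4, 2, 1, 3, 0, 1, 2, 4, 6],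
    [4, 6, 3, 1, 2, 0, 1, 3, 5, 4, 2, 1, 3, 0, 1, 2, 4, 6],
    [2, 4, 6, 1, 2, 0, 1, 3, 5, 4, 2, 1, 3, 0, 1, 2, 4, 6],
    [4, 6, 5, 3, 1, 2, 0, 1, 3, 5, 4, 2, 1, 3, 0, 1, 2, 4, 6],
    [2, 4, 6, 3, 1, 2, 0, 1, 3, 5, 4, 2, 1, 3, 0, 1, 2, 4, 6],
    [2, 4, 6, 5, 3, 1, 2, 0, 1, 3, 5, 4, 2, 1, 3, 0, 1, 2, 4, 6],
    [1, 2, 4, 6, 3, 1, 2, 0, 1, 3, 5, 4, 2, 1, 3, 0, 1, 2, 4, 6],
    [1, 2, 4, 6, 5, 3, 1, 2, 0, 1, 3, 5, 4, 2, 1, 3, 0, 1, 2, 4, 6],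
    [0, 1, 2, 4, 6, 3, 1, 2, 0, 1, 3, 5, 4, 2, 1, 3, 0, 1, 2, 4, 6],
    [0, 1, 2, 4, 6, 5, 3, 1, 2, 0, 1, 3, 5, 4, 2, 1, 3, 0, 1, 2, 4, 6],
    [3, 1, 2, 4, 6, 5, 3, 1, 2, 0, 1, 3, 5, 4, 2, 1, 3, 0, 1, 2, 4, 6],
    [3, 0, 1, 2, 4, 6, 5, 3, 1, 2, 0, 1, 3, 5, 4, 2, 1, 3, 0, 1, 2, 4, 6],
    [1, 3, 0, 1, 2, 4, 6, 5, 3, 1, 2, 0, 1, 3, 5, 4, 2, 1, 3, 0, 1, 2, 4, 6],
    [2, 1, 3, 0, 1, 2, 4, 6, 5, 3, 1, 2, 0, 1, 3, 5, 4, 2, 1, 3, 0, 1, 2, 4, 6],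
    [4, 2, 1, 3, 0, 1, 2, 4, 6, 5, 3, 1, 2, 0, 1, 3, 5, 4, 2, 1, 3, 0, 1, 2, 4, 6],
    [6, 4, 2, 1, 3, 0, 1, 2, 4, 6, 5, 3, 1, 2, 0, 1, 3, 5, 4, 2, 1, 3, 0, 1, 2, 4, 6]],
  [[(0, [0]), (0, [1]), (0, [2]), (0, [3]), (0, [4]), (0, [5]), (1, [])],
    [(1, [0]), (1, [1]), (1, [2]), (1, [3]), (2, []), (1, [5]), (0, [])],
    [(2, [0]), (2, [1]), (3, []), (2, [3]), (1, []), (2, [5]), (2, [4])],
    [(3, [0]), (4, []), (2, []), (3, [3]), (3, [2]), (3, [5]), (3, [4])],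
    [(5, []), (3, []), (4, [1]), (6, []), (4, [2]), (4, [5]), (4, [4])],
    [(4, []), (5, [0]), (5, [1]), (7, []), (5, [2]), (5, [5]), (5, [4])],
    [(7, []), (6, [3]), (6, [1]), (4, []), (6, [2]), (8, []), (6, [4])],
    [(6, []), (9, []), (7, [1]), (5, []), (7, [2]), (10, []), (7, [4])],
    [(10, []), (8, [3]), (8, [1]), (8, [5]), (8, [2]), (6, []), (8, [4])],
    [(9, [3]), (7, []), (11, []), (9, [0]), (9, [2]), (12, []), (9, [4])],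
    [(8, []), (12, []), (10, [1]), (10, [5]), (10, [2]), (7, []), (10, [4])],
    [(11, [3]), (11, [1]), (9, []), (11, [0]), (13, []), (14, []), (11, [4])],
    [(12, [3]), (10, []), (14, []), (15, []), (12, [2]), (9, []), (12, [4])],
    [(13, [3]), (13, [1]), (13, [2]), (13, [0]), (11, []), (16, []), (17, [])],
    [(14, [3]), (14, [1]), (12, []), (18, []), (16, []), (11, []), (14, [4])],
    [(15, [3]), (15, [5]), (18, []), (12, []), (15, [2]), (15, [0]), (15, [4])],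
    [(16, [3]), (16, [1]), (16, [2]), (19, []), (14, []), (13, []), (20, [])],
    [(17, [3]), (17, [1]), (17, [2]), (17, [0]), (17, [4]), (20, []), (13, [])],
    [(18, [3]), (21, []), (15, []), (14, []), (19, []), (18, [0]), (18, [4])],
    [(19, [3]), (22, []), (19, [2]), (16, []), (18, []), (19, [0]), (23, [])],
    [(20, [3]), (20, [1]), (20, [2]), (23, []), (20, [4]), (17, []), (16, [])],
    [(24, []), (18, []), (21, [5]), (21, [1]), (22, []), (21, [0]), (21, [4])],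
    [(25, []), (19, []), (26, []), (22, [1]), (21, []), (22, [0]), (27, [])],
    [(23, [3]), (27, []), (23, [2]), (20, []), (23, [4]), (23, [0]), (19, [])],
    [(21, []), (24, [3]), (24, [5]), (24, [1]), (25, []), (24, [0]), (24, [4])],
    [(22, []), (25, [3]), (28, []), (25, [1]), (24, []), (25, [0]), (29, [])],
    [(28, []), (26, [2]), (22, []), (26, [1]), (26, [5]), (26, [0]), (30, [])],
    [(29, []), (23, []), (30, []), (27, [1]), (27, [4]), (27, [0]), (22, [])],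
    [(26, []), (31, []), (25, []), (28, [1]), (28, [5]), (28, [0]), (32, [])],
    [(27, []), (29, [3]), (32, []), (29, [1]), (29, [4]), (29, [0]), (25, [])],
    [(32, []), (30, [2]), (27, []), (30, [1]), (33, []), (30, [0]), (26, [])],
    [(31, [2]), (28, []), (31, [3]), (34, []), (31, [5]), (31, [0]), (35, [])],
    [(30, []), (35, []), (29, []), (32, [1]), (36, []), (32, [0]), (28, [])],
    [(36, []), (33, [2]), (33, [4]), (33, [1]), (30, []), (33, [0]), (33, [5])],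
    [(34, [2]), (34, [1]), (34, [3]), (31, []), (34, [5]), (37, []), (38, [])],
    [(35, [2]), (32, []), (35, [3]), (38, []), (39, []), (35, [0]), (31, [])],
    [(33, []), (39, []), (36, [4]), (36, [1]), (32, []), (36, [0]), (36, [5])],
    [(37, [2]), (37, [1]), (37, [3]), (37, [0]), (37, [5]), (34, []), (40, [])],
    [(38, [2]), (38, [1]), (38, [3]), (35, []), (41, []), (40, []), (34, [])],
    [(39, [2]), (36, []), (42, []), (41, []), (35, []), (39, [0]), (39, [5])],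
    [(40, [2]), (40, [1]), (40, [3]), (40, [0]), (43, []), (38, []), (37, [])],
    [(41, [2]), (41, [1]), (44, []), (39, []), (38, []), (43, []), (41, [5])],
    [(42, [2]), (42, [4]), (39, []), (44, []), (42, [3]), (42, [0]), (42, [5])],
    [(43, [2]), (43, [1]), (45, []), (43, [0]), (40, []), (41, []), (43, [5])],
    [(44, [2]), (46, []), (41, []), (42, []), (44, [3]), (45, []), (44, [5])],
    [(45, [2]), (47, []), (43, []), (45, [0]), (45, [3]), (44, []), (45, [5])],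
    [(48, []), (44, []), (46, [1]), (46, [4]), (46, [3]), (47, []), (46, [5])],
    [(49, []), (45, []), (47, [1]), (50, []), (47, [3]), (46, []), (47, [5])],
    [(46, []), (48, [2]), (48, [1]), (48, [4]), (48, [3]), (49, []), (48, [5])],
    [(47, []), (49, [2]), (49, [1]), (51, []), (49, [3]), (48, []), (49, [5])],
    [(51, []), (50, [0]), (50, [1]), (47, []), (50, [3]), (50, [4]), (50, [5])],
    [(50, []), (52, []), (51, [1]), (49, []), (51, [3]), (51, [4]), (51, [5])],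
    [(52, [0]), (51, []), (53, []), (52, [2]), (52, [3]), (52, [4]), (52, [5])],
    [(53, [0]), (53, [1]), (52, []), (53, [2]), (54, []), (53, [4]), (53, [5])],
    [(54, [0]), (54, [1]), (54, [3]), (54, [2]), (53, []), (54, [4]), (55, [])],
    [(55, [0]), (55, [1]), (55, [3]), (55, [2]), (55, [5]), (55, [4]), (54, [])]]⟩

def invE8Level2_6 : SubLevel := ⟨6, [120, 122, 125, 129, 134, 187, 190, 192, 193, 196, 198, 199, 201, 202, 203, 232],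
  [[],
    [5],
    [3, 5],
    [1, 3, 5],
    [0, 1, 3, 5],
    [2, 1, 3, 5],
    [2, 0, 1, 3, 5],
    [4, 2, 1, 3, 5],
    [1, 2, 0, 1, 3, 5],
    [4, 2, 0, 1, 3, 5],
    [3, 1, 2, 0, 1, 3, 5],
    [4, 1, 2, 0, 1, 3, 5],
    [4, 3, 1, 2, 0, 1, 3, 5],
    [5, 3, 1, 2, 0, 1, 3, 5],
    [2, 4, 1, 2, 0, 1, 3, 5],
    [2, 4, 3, 1, 2, 0, 1, 3, 5],
    [5, 4, 3, 1, 2, 0, 1, 3, 5],
    [1, 2, 4, 3, 1, 2, 0, 1, 3, 5],
    [5, 2, 4, 3, 1, 2, 0, 1, 3, 5],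
    [0, 1, 2, 4, 3, 1, 2, 0, 1, 3, 5],
    [5, 1, 2, 4, 3, 1, 2, 0, 1, 3, 5],
    [5, 0, 1, 2, 4, 3, 1, 2, 0, 1, 3, 5],
    [3, 5, 1, 2, 4, 3, 1, 2, 0, 1, 3, 5],
    [3, 5, 0, 1, 2, 4, 3, 1, 2, 0, 1, 3, 5],
    [1, 3, 5, 0, 1, 2, 4, 3, 1, 2, 0, 1, 3, 5],
    [2, 1, 3, 5, 0, 1, 2, 4, 3, 1, 2, 0, 1, 3, 5],
    [4, 2, 1, 3, 5, 0, 1, 2, 4, 3, 1, 2, 0, 1, 3, 5]],
  [[(0, [0]), (0, [1]), (0, [2]), (0, [3]), (0, [4]), (1, [])],
    [(1, [0]), (1, [1]), (1, [2]), (2, []), (1, [4]), (0, [])],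
    [(2, [0]), (3, []), (2, [2]), (1, []), (2, [4]), (2, [3])],
    [(4, []), (2, []), (5, []), (3, [1]), (3, [4]), (3, [3])],
    [(3, []), (4, [0]), (6, []), (4, [1]), (4, [4]), (4, [3])],
    [(6, []), (5, [2]), (3, []), (5, [1]), (7, []), (5, [3])],
    [(5, []), (8, []), (4, []), (6, [1]), (9, []), (6, [3])],
    [(9, []), (7, [2]), (7, [4]), (7, [1]), (5, []), (7, [3])],
    [(8, [2]), (6, []), (8, [0]), (10, []), (11, []), (8, [3])],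
    [(7, []), (11, []), (9, [4]), (9, [1]), (6, []), (9, [3])],
    [(10, [2]), (10, [1]), (10, [0]), (8, []), (12, []), (13, [])],
    [(11, [2]), (9, []), (14, []), (12, []), (8, []), (11, [3])],
    [(12, [2]), (12, [1]), (15, []), (11, []), (10, []), (16, [])],
    [(13, [2]), (13, [1]), (13, [0]), (13, [3]), (16, []), (10, [])],
    [(14, [2]), (14, [4]), (11, []), (15, []), (14, [0]), (14, [3])],
    [(15, [2]), (17, []), (12, []), (14, []), (15, [0]), (18, [])],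
    [(16, [2]), (16, [1]), (18, []), (16, [3]), (13, []), (12, [])],
    [(19, []), (15, []), (17, [1]), (17, [4]), (17, [0]), (20, [])],
    [(18, [2]), (20, []), (16, []), (18, [3]), (18, [0]), (15, [])],
    [(17, []), (19, [2]), (19, [1]), (19, [4]), (19, [0]), (21, [])],
    [(21, []), (18, []), (20, [1]), (22, []), (20, [0]), (17, [])],
    [(20, []), (21, [2]), (21, [1]), (23, []), (21, [0]), (19, [])],
    [(23, []), (22, [3]), (22, [1]), (20, []), (22, [0]), (22, [4])],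
    [(22, []), (24, []), (23, [1]), (21, []), (23, [0]), (23, [4])],
    [(24, [3]), (23, []), (25, []), (24, [2]), (24, [0]), (24, [4])],
    [(25, [3]), (25, [1]), (24, []), (25, [2]), (26, []), (25, [4])],
    [(26, [3]), (26, [1]), (26, [0]), (26, [2]), (25, []), (26, [4])]]⟩

def invE8Level2_5 : SubLevel := ⟨5, [130, 131, 132, 133, 194, 195, 197, 200],
  [[],
    [4],
    [2, 4],
    [1, 2, 4],
    [0, 1, 2, 4],
    [3, 1, 2, 4],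
    [3, 0, 1, 2, 4],
    [1, 3, 0, 1, 2, 4],
    [2, 1, 3, 0, 1, 2, 4],
    [4, 2, 1, 3, 0, 1, 2, 4]],
  [[(0, [0]), (0, [1]), (0, [2]), (0, [3]), (1, [])],
    [(1, [0]), (1, [1]), (2, []), (1, [3]), (0, [])],
    [(2, [0]), (3, []), (1, []), (2, [3]), (2, [2])],
    [(4, []), (2, []), (3, [1]), (5, []), (3, [2])],
    [(3, []), (4, [0]), (4, [1]), (6, []), (4, [2])],
    [(6, []), (5, [3]), (5, [1]), (3, []), (5, [2])],
    [(5, []), (7, []), (6, [1]), (4, []), (6, [2])],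
    [(7, [3]), (6, []), (8, []), (7, [0]), (7, [2])],
    [(8, [3]), (8, [1]), (7, []), (8, [0]), (9, [])],
    [(9, [3]), (9, [1]), (9, [2]), (9, [0]), (8, [])]]⟩

def invE8Level2_4 : SubLevel := ⟨4, [121, 124, 128, 186, 189, 191],
  [[],
    [3],
    [1, 3],
    [0, 1, 3],
    [2, 1, 3],
    [2, 0, 1, 3],
    [1, 2, 0, 1, 3],
    [3, 1, 2, 0, 1, 3]],
  [[(0, [0]), (0, [1]), (0, [2]), (1, [])],
    [(1, [0]), (2, []), (1, [2]), (0, [])],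
    [(3, []), (1, []), (4, []), (2, [1])],
    [(2, []), (3, [0]), (5, []), (3, [1])],
    [(5, []), (4, [2]), (2, []), (4, [1])],
    [(4, []), (6, []), (3, []), (5, [1])],
    [(6, [2]), (5, []), (6, [0]), (7, [])],
    [(7, [2]), (7, [1]), (7, [0]), (6, [])]]⟩

def invE8Level2_3 : SubLevel := ⟨3, [126, 127, 188],
  [[],
    [2],
    [1, 2],
    [0, 1, 2]],
  [[(0, [0]), (0, [1]), (1, [])],
    [(1, [0]), (2, []), (0, [])],
    [(3, []), (1, []), (2, [1])],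
    [(2, []), (3, [0]), (3, [1])]]⟩

def invE8Level2_2 : SubLevel := ⟨2, [123, 185],
  [[],
    [1],
    [0, 1]],
  [[(0, [0]), (1, [])],
    [(2, []), (0, [])],
    [(1, []), (2, [0])]]⟩

def invE8Level2_1 : SubLevel := ⟨1, [184],
  [[],
    [0]],
  [[(1, [])],
    [(0, [])]]⟩

def invE8Orbit2 : List (List ℕ) :=
  [[],
    [2],
    [0, 2],
    [3, 2],
    [3, 0, 2],
    [1, 3, 2],
    [4, 3, 2],
    [1, 3, 0, 2],
    [2, 3, 0, 2],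
    [4, 3, 0, 2],
    [4, 1, 3, 2],
    [5, 4, 3, 2],
    [2, 1, 3, 0, 2],
    [4, 1, 3, 0, 2],
    [4, 2, 3, 0, 2],
    [5, 4, 3, 0, 2],
    [3, 4, 1, 3, 2],
    [5, 4, 1, 3, 2],
    [6, 5, 4, 3, 2],
    [3, 2, 1, 3, 0, 2],
    [4, 2, 1, 3, 0, 2],
    [3, 4, 1, 3, 0, 2],
    [5, 4, 1, 3, 0, 2],
    [3, 4, 2, 3, 0, 2],
    [5, 4, 2, 3, 0, 2],
    [6, 5, 4, 3, 0, 2],
    [2, 3, 4, 1, 3, 2],
    [5, 3, 4, 1, 3, 2],
    [6, 5, 4, 1, 3, 2],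
    [7, 6, 5, 4, 3, 2],
    [5, 4, 2, 1, 3, 0, 2],
    [5, 3, 4, 1, 3, 0, 2],
    [6, 5, 4, 1, 3, 0, 2],
    [5, 3, 4, 2, 3, 0, 2],
    [6, 5, 4, 2, 3, 0, 2],
    [7, 6, 5, 4, 3, 0, 2],
    [5, 2, 3, 4, 1, 3, 2],
    [4, 5, 3, 4, 1, 3, 2],
    [6, 5, 3, 4, 1, 3, 2],
    [7, 6, 5, 4, 1, 3, 2],
    [6, 5, 4, 2, 1, 3, 0, 2],
    [4, 5, 3, 4, 1, 3, 0, 2],
    [6, 5, 3, 4, 1, 3, 0, 2],
    [7, 6, 5, 4, 1, 3, 0, 2],
    [4, 5, 3, 4, 2, 3, 0, 2],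
    [6, 5, 3, 4, 2, 3, 0, 2],
    [7, 6, 5, 4, 2, 3, 0, 2],
    [4, 5, 2, 3, 4, 1, 3, 2],
    [6, 5, 2, 3, 4, 1, 3, 2],
    [6, 4, 5, 3, 4, 1, 3, 2],
    [7, 6, 5, 3, 4, 1, 3, 2],
    [7, 6, 5, 4, 2, 1, 3, 0, 2],
    [6, 4, 5, 3, 4, 1, 3, 0, 2],
    [7, 6, 5, 3, 4, 1, 3, 0, 2],
    [6, 4, 5, 3, 4, 2, 3, 0, 2],
    [7, 6, 5, 3, 4, 2, 3, 0, 2],
    [3, 4, 5, 2, 3, 4, 1, 3, 2],
    [6, 4, 5, 2, 3, 4, 1, 3, 2],
    [7, 6, 5, 2, 3, 4, 1, 3, 2],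
    [5, 6, 4, 5, 3, 4, 1, 3, 2],
    [7, 6, 4, 5, 3, 4, 1, 3, 2],
    [5, 6, 4, 5, 3, 4, 1, 3, 0, 2],
    [7, 6, 4, 5, 3, 4, 1, 3, 0, 2],
    [5, 6, 4, 5, 3, 4, 2, 3, 0, 2],
    [7, 6, 4, 5, 3, 4, 2, 3, 0, 2],
    [1, 3, 4, 5, 2, 3, 4, 1, 3, 2],
    [6, 3, 4, 5, 2, 3, 4, 1, 3, 2],
    [5, 6, 4, 5, 2, 3, 4, 1, 3, 2],
    [7, 6, 4, 5, 2, 3, 4, 1, 3, 2],
    [7, 5, 6, 4, 5, 3, 4, 1, 3, 2],
    [7, 5, 6, 4, 5, 3, 4, 1, 3, 0, 2],
    [7, 5, 6, 4, 5, 3, 4, 2, 3, 0, 2],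
    [6, 1, 3, 4, 5, 2, 3, 4, 1, 3, 2],
    [5, 6, 3, 4, 5, 2, 3, 4, 1, 3, 2],
    [7, 6, 3, 4, 5, 2, 3, 4, 1, 3, 2],
    [7, 5, 6, 4, 5, 2, 3, 4, 1, 3, 2],
    [6, 7, 5, 6, 4, 5, 3, 4, 1, 3, 2],
    [6, 7, 5, 6, 4, 5, 3, 4, 1, 3, 0, 2],
    [6, 7, 5, 6, 4, 5, 3, 4, 2, 3, 0, 2],
    [5, 6, 1, 3, 4, 5, 2, 3, 4, 1, 3, 2],
    [7, 6, 1, 3, 4, 5, 2, 3, 4, 1, 3, 2],
    [4, 5, 6, 3, 4, 5, 2, 3, 4, 1, 3, 2],
    [7, 5, 6, 3, 4, 5, 2, 3, 4, 1, 3, 2],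
    [6, 7, 5, 6, 4, 5, 2, 3, 4, 1, 3, 2],
    [4, 5, 6, 1, 3, 4, 5, 2, 3, 4, 1, 3, 2],
    [7, 5, 6, 1, 3, 4, 5, 2, 3, 4, 1, 3, 2],
    [7, 4, 5, 6, 3, 4, 5, 2, 3, 4, 1, 3, 2],
    [6, 7, 5, 6, 3, 4, 5, 2, 3, 4, 1, 3, 2],
    [3, 4, 5, 6, 1, 3, 4, 5, 2, 3, 4, 1, 3, 2],
    [7, 4, 5, 6, 1, 3, 4, 5, 2, 3, 4, 1, 3, 2],
    [6, 7, 5, 6, 1, 3, 4, 5, 2, 3, 4, 1, 3, 2],
    [6, 7, 4, 5, 6, 3, 4, 5, 2, 3, 4, 1, 3, 2],
    [2, 3, 4, 5, 6, 1, 3, 4, 5, 2, 3, 4, 1, 3, 2],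
    [7, 3, 4, 5, 6, 1, 3, 4, 5, 2, 3, 4, 1, 3, 2],
    [6, 7, 4, 5, 6, 1, 3, 4, 5, 2, 3, 4, 1, 3, 2],
    [5, 6, 7, 4, 5, 6, 3, 4, 5, 2, 3, 4, 1, 3, 2],
    [0, 2, 3, 4, 5, 6, 1, 3, 4, 5, 2, 3, 4, 1, 3, 2],
    [7, 2, 3, 4, 5, 6, 1, 3, 4, 5, 2, 3, 4, 1, 3, 2],
    [6, 7, 3, 4, 5, 6, 1, 3, 4, 5, 2, 3, 4, 1, 3, 2],
    [5, 6, 7, 4, 5, 6, 1, 3, 4, 5, 2, 3, 4, 1, 3, 2],
    [7, 0, 2, 3, 4, 5, 6, 1, 3, 4, 5, 2, 3, 4, 1, 3, 2],
    [6, 7, 2, 3, 4, 5, 6, 1, 3, 4, 5, 2, 3, 4, 1, 3, 2],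
    [5, 6, 7, 3, 4, 5, 6, 1, 3, 4, 5, 2, 3, 4, 1, 3, 2],
    [6, 7, 0, 2, 3, 4, 5, 6, 1, 3, 4, 5, 2, 3, 4, 1, 3, 2],
    [5, 6, 7, 2, 3, 4, 5, 6, 1, 3, 4, 5, 2, 3, 4, 1, 3, 2],
    [4, 5, 6, 7, 3, 4, 5, 6, 1, 3, 4, 5, 2, 3, 4, 1, 3, 2],
    [5, 6, 7, 0, 2, 3, 4, 5, 6, 1, 3, 4, 5, 2, 3, 4, 1, 3, 2],
    [4, 5, 6, 7, 2, 3, 4, 5, 6, 1, 3, 4, 5, 2, 3, 4, 1, 3, 2],
    [4, 5, 6, 7, 0, 2, 3, 4, 5, 6, 1, 3, 4, 5, 2, 3, 4, 1, 3, 2],
    [3, 4, 5, 6, 7, 2, 3, 4, 5, 6, 1, 3, 4, 5, 2, 3, 4, 1, 3, 2],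
    [3, 4, 5, 6, 7, 0, 2, 3, 4, 5, 6, 1, 3, 4, 5, 2, 3, 4, 1, 3, 2],
    [1, 3, 4, 5, 6, 7, 2, 3, 4, 5, 6, 1, 3, 4, 5, 2, 3, 4, 1, 3, 2],
    [1, 3, 4, 5, 6, 7, 0, 2, 3, 4, 5, 6, 1, 3, 4, 5, 2, 3, 4, 1, 3, 2],
    [2, 3, 4, 5, 6, 7, 0, 2, 3, 4, 5, 6, 1, 3, 4, 5, 2, 3, 4, 1, 3, 2],
    [2, 1, 3, 4, 5, 6, 7, 0, 2, 3, 4, 5, 6, 1, 3, 4, 5, 2, 3, 4, 1, 3, 2],
    [3, 2, 1, 3, 4, 5, 6, 7, 0, 2, 3, 4, 5, 6, 1, 3, 4, 5, 2, 3, 4, 1, 3, 2],
    [4, 3, 2, 1, 3, 4, 5, 6, 7, 0, 2, 3, 4, 5, 6, 1, 3, 4, 5, 2, 3, 4, 1, 3, 2],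
    [5, 4, 3, 2, 1, 3, 4, 5, 6, 7, 0, 2, 3, 4, 5, 6, 1, 3, 4, 5, 2, 3, 4, 1, 3, 2],
    [6, 5, 4, 3, 2, 1, 3, 4, 5, 6, 7, 0, 2, 3, 4, 5, 6, 1, 3, 4, 5, 2, 3, 4, 1, 3, 2],
    [7, 6, 5, 4, 3, 2, 1, 3, 4, 5, 6, 7, 0, 2, 3, 4, 5, 6, 1, 3, 4, 5, 2, 3, 4, 1, 3, 2]]

def invE8Steps2 : List (List (ℕ × List ℕ)) :=
  [[(0, [7]), (0, [6]), (1, []), (0, [4]), (0, [2]), (0, [1]), (0, [3]), (0, [5])],
    [(2, []), (1, [6]), (0, []), (3, []), (1, [2]), (1, [1]), (1, [3]), (1, [5])],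
    [(1, []), (2, [6]), (2, [7]), (4, []), (2, [2]), (2, [1]), (2, [3]), (2, [5])],
    [(4, []), (5, []), (3, [4]), (1, []), (6, []), (3, [1]), (3, [3]), (3, [5])],
    [(3, []), (7, []), (8, []), (2, []), (9, []), (4, [1]), (4, [3]), (4, [5])],
    [(7, []), (3, []), (5, [4]), (5, [6]), (10, []), (5, [1]), (5, [3]), (5, [5])],
    [(9, []), (10, []), (6, [4]), (6, [2]), (3, []), (11, []), (6, [3]), (6, [5])],
    [(5, []), (4, []), (12, []), (7, [6]), (13, []), (7, [1]), (7, [3]), (7, [5])],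
    [(8, [4]), (12, []), (4, []), (8, [7]), (14, []), (8, [1]), (8, [3]), (8, [5])],
    [(6, []), (13, []), (14, []), (9, [2]), (4, []), (15, []), (9, [3]), (9, [5])],
    [(13, []), (6, []), (10, [4]), (16, []), (5, []), (17, []), (10, [3]), (10, [5])],
    [(15, []), (17, []), (11, [4]), (11, [2]), (11, [1]), (6, []), (18, []), (11, [5])],
    [(12, [4]), (8, []), (7, []), (19, []), (20, []), (12, [1]), (12, [3]), (12, [5])],
    [(10, []), (9, []), (20, []), (21, []), (7, []), (22, []), (13, [3]), (13, [5])],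
    [(14, [4]), (20, []), (9, []), (23, []), (8, []), (24, []), (14, [3]), (14, [5])],
    [(11, []), (22, []), (24, []), (15, [2]), (15, [1]), (9, []), (25, []), (15, [5])],
    [(21, []), (16, [2]), (26, []), (10, []), (16, [6]), (27, []), (16, [3]), (16, [5])],
    [(22, []), (11, []), (17, [4]), (27, []), (17, [1]), (10, []), (28, []), (17, [5])],
    [(25, []), (28, []), (18, [4]), (18, [2]), (18, [1]), (18, [3]), (11, []), (29, [])],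
    [(19, [4]), (19, [7]), (19, [6]), (12, []), (19, [0]), (19, [1]), (19, [3]), (19, [5])],
    [(20, [4]), (14, []), (13, []), (20, [0]), (12, []), (30, []), (20, [3]), (20, [5])],
    [(16, []), (21, [2]), (21, [0]), (13, []), (21, [6]), (31, []), (21, [3]), (21, [5])],
    [(17, []), (15, []), (30, []), (31, []), (22, [1]), (13, []), (32, []), (22, [5])],
    [(23, [4]), (23, [0]), (23, [2]), (14, []), (23, [7]), (33, []), (23, [3]), (23, [5])],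
    [(24, [4]), (30, []), (15, []), (33, []), (24, [1]), (14, []), (34, []), (24, [5])],
    [(18, []), (32, []), (34, []), (25, [2]), (25, [1]), (25, [3]), (15, []), (35, [])],
    [(26, [0]), (26, [2]), (16, []), (26, [4]), (26, [6]), (36, []), (26, [3]), (26, [5])],
    [(31, []), (27, [2]), (36, []), (17, []), (37, []), (16, []), (38, []), (27, [5])],
    [(32, []), (18, []), (28, [4]), (38, []), (28, [1]), (28, [3]), (17, []), (39, [])],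
    [(35, []), (39, []), (29, [4]), (29, [2]), (29, [1]), (29, [3]), (29, [5]), (18, [])],
    [(30, [4]), (24, []), (22, []), (30, [0]), (30, [1]), (20, []), (40, []), (30, [5])],
    [(27, []), (31, [2]), (31, [0]), (22, []), (41, []), (21, []), (42, []), (31, [5])],
    [(28, []), (25, []), (40, []), (42, []), (32, [1]), (32, [3]), (22, []), (43, [])],
    [(33, [4]), (33, [0]), (33, [2]), (24, []), (44, []), (23, []), (45, []), (33, [5])],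
    [(34, [4]), (40, []), (25, []), (45, []), (34, [1]), (34, [3]), (24, []), (46, [])],
    [(29, []), (43, []), (46, []), (35, [2]), (35, [1]), (35, [3]), (35, [5]), (25, [])],
    [(36, [0]), (36, [2]), (27, []), (36, [4]), (47, []), (26, []), (48, []), (36, [5])],
    [(41, []), (37, [2]), (47, []), (37, [1]), (27, []), (37, [6]), (49, []), (37, [5])],
    [(42, []), (38, [2]), (48, []), (28, []), (49, []), (38, [3]), (27, []), (50, [])],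
    [(43, []), (29, []), (39, [4]), (50, []), (39, [1]), (39, [3]), (39, [5]), (28, [])],
    [(40, [4]), (34, []), (32, []), (40, [0]), (40, [1]), (40, [3]), (30, []), (51, [])],
    [(37, []), (41, [2]), (41, [0]), (41, [1]), (31, []), (41, [6]), (52, []), (41, [5])],
    [(38, []), (42, [2]), (42, [0]), (32, []), (52, []), (42, [3]), (31, []), (53, [])],
    [(39, []), (35, []), (51, []), (53, []), (43, [1]), (43, [3]), (43, [5]), (32, [])],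
    [(44, [4]), (44, [0]), (44, [2]), (44, [1]), (33, []), (44, [7]), (54, []), (44, [5])],
    [(45, [4]), (45, [0]), (45, [2]), (34, []), (54, []), (45, [3]), (33, []), (55, [])],
    [(46, [4]), (51, []), (35, []), (55, []), (46, [1]), (46, [3]), (46, [5]), (34, [])],
    [(47, [0]), (47, [2]), (37, []), (56, []), (36, []), (47, [6]), (57, []), (47, [5])],
    [(48, [0]), (48, [2]), (38, []), (48, [4]), (57, []), (48, [3]), (36, []), (58, [])],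
    [(52, []), (49, [2]), (57, []), (49, [1]), (38, []), (59, []), (37, []), (60, [])],
    [(53, []), (50, [2]), (58, []), (39, []), (60, []), (50, [3]), (50, [5]), (38, [])],
    [(51, [4]), (46, []), (43, []), (51, [0]), (51, [1]), (51, [3]), (51, [5]), (40, [])],
    [(49, []), (52, [2]), (52, [0]), (52, [1]), (42, []), (61, []), (41, []), (62, [])],
    [(50, []), (53, [2]), (53, [0]), (43, []), (62, []), (53, [3]), (53, [5]), (42, [])],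
    [(54, [4]), (54, [0]), (54, [2]), (54, [1]), (45, []), (63, []), (44, []), (64, [])],
    [(55, [4]), (55, [0]), (55, [2]), (46, []), (64, []), (55, [3]), (55, [5]), (45, [])],
    [(56, [0]), (65, []), (56, [1]), (47, []), (56, [4]), (56, [6]), (66, []), (56, [5])],
    [(57, [0]), (57, [2]), (49, []), (66, []), (48, []), (67, []), (47, []), (68, [])],
    [(58, [0]), (58, [2]), (50, []), (58, [4]), (68, []), (58, [3]), (58, [5]), (48, [])],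
    [(61, []), (59, [2]), (67, []), (59, [1]), (59, [3]), (49, []), (59, [6]), (69, [])],
    [(62, []), (60, [2]), (68, []), (60, [1]), (50, []), (69, []), (60, [5]), (49, [])],
    [(59, []), (61, [2]), (61, [0]), (61, [1]), (61, [3]), (52, []), (61, [6]), (70, [])],
    [(60, []), (62, [2]), (62, [0]), (62, [1]), (53, []), (70, []), (62, [5]), (52, [])],
    [(63, [4]), (63, [0]), (63, [2]), (63, [1]), (63, [3]), (54, []), (63, [7]), (71, [])],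
    [(64, [4]), (64, [0]), (64, [2]), (64, [1]), (55, []), (71, []), (64, [5]), (54, [])],
    [(65, [0]), (56, []), (65, [1]), (65, [2]), (65, [4]), (65, [6]), (72, []), (65, [5])],
    [(66, [0]), (72, []), (66, [1]), (57, []), (66, [4]), (73, []), (56, []), (74, [])],
    [(67, [0]), (67, [2]), (59, []), (73, []), (67, [3]), (57, []), (67, [6]), (75, [])],
    [(68, [0]), (68, [2]), (60, []), (74, []), (58, []), (75, []), (68, [5]), (57, [])],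
    [(70, []), (69, [2]), (75, []), (69, [1]), (69, [3]), (60, []), (76, []), (59, [])],
    [(69, []), (70, [2]), (70, [0]), (70, [1]), (70, [3]), (62, []), (77, []), (61, [])],
    [(71, [4]), (71, [0]), (71, [2]), (71, [1]), (71, [3]), (64, []), (78, []), (63, [])],
    [(72, [0]), (66, []), (72, [1]), (72, [2]), (72, [4]), (79, []), (65, []), (80, [])],
    [(73, [0]), (79, []), (73, [1]), (67, []), (81, []), (66, []), (73, [6]), (82, [])],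
    [(74, [0]), (80, []), (74, [1]), (68, []), (74, [4]), (82, []), (74, [5]), (66, [])],
    [(75, [0]), (75, [2]), (69, []), (82, []), (75, [3]), (68, []), (83, []), (67, [])],
    [(77, []), (76, [2]), (83, []), (76, [1]), (76, [3]), (76, [5]), (69, []), (76, [6])],
    [(76, []), (77, [2]), (77, [0]), (77, [1]), (77, [3]), (77, [5]), (70, []), (77, [6])],
    [(78, [4]), (78, [0]), (78, [2]), (78, [1]), (78, [3]), (78, [5]), (71, []), (78, [7])],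
    [(79, [0]), (73, []), (79, [1]), (79, [2]), (84, []), (72, []), (79, [6]), (85, [])],
    [(80, [0]), (74, []), (80, [1]), (80, [2]), (80, [4]), (85, []), (80, [5]), (72, [])],
    [(81, [0]), (84, []), (81, [1]), (81, [3]), (73, []), (81, [4]), (81, [6]), (86, [])],
    [(82, [0]), (85, []), (82, [1]), (75, []), (86, []), (74, []), (87, []), (73, [])],
    [(83, [0]), (83, [2]), (76, []), (87, []), (83, [3]), (83, [5]), (75, []), (83, [6])],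
    [(84, [0]), (81, []), (84, [1]), (88, []), (79, []), (84, [4]), (84, [6]), (89, [])],
    [(85, [0]), (82, []), (85, [1]), (85, [2]), (89, []), (80, []), (90, []), (79, [])],
    [(86, [0]), (89, []), (86, [1]), (86, [3]), (82, []), (86, [4]), (91, []), (81, [])],
    [(87, [0]), (90, []), (87, [1]), (83, []), (91, []), (87, [5]), (82, []), (87, [6])],
    [(88, [0]), (88, [3]), (92, []), (84, []), (88, [2]), (88, [4]), (88, [6]), (93, [])],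
    [(89, [0]), (86, []), (89, [1]), (93, []), (85, []), (89, [4]), (94, []), (84, [])],
    [(90, [0]), (87, []), (90, [1]), (90, [2]), (94, []), (90, [5]), (85, []), (90, [6])],
    [(91, [0]), (94, []), (91, [1]), (91, [3]), (87, []), (95, []), (86, []), (91, [6])],
    [(96, []), (92, [3]), (88, []), (92, [1]), (92, [2]), (92, [4]), (92, [6]), (97, [])],
    [(93, [0]), (93, [3]), (97, []), (89, []), (93, [2]), (93, [4]), (98, []), (88, [])],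
    [(94, [0]), (91, []), (94, [1]), (98, []), (90, []), (99, []), (89, []), (94, [6])],
    [(95, [0]), (99, []), (95, [1]), (95, [3]), (95, [5]), (91, []), (95, [4]), (95, [6])],
    [(92, []), (96, [3]), (96, [0]), (96, [1]), (96, [2]), (96, [4]), (96, [6]), (100, [])],
    [(100, []), (97, [3]), (93, []), (97, [1]), (97, [2]), (97, [4]), (101, []), (92, [])],
    [(98, [0]), (98, [3]), (101, []), (94, []), (98, [2]), (102, []), (93, []), (98, [6])],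
    [(99, [0]), (95, []), (99, [1]), (102, []), (99, [5]), (94, []), (99, [4]), (99, [6])],
    [(97, []), (100, [3]), (100, [0]), (100, [1]), (100, [2]), (100, [4]), (103, []), (96, [])],
    [(103, []), (101, [3]), (98, []), (101, [1]), (101, [2]), (104, []), (97, []), (101, [6])],
    [(102, [0]), (102, [3]), (104, []), (99, []), (105, []), (98, []), (102, [4]), (102, [6])],
    [(101, []), (103, [3]), (103, [0]), (103, [1]), (103, [2]), (106, []), (100, []), (103, [6])],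
    [(106, []), (104, [3]), (102, []), (104, [1]), (107, []), (101, []), (104, [4]), (104, [6])],
    [(105, [0]), (105, [3]), (107, []), (105, [5]), (102, []), (105, [2]), (105, [4]), (105, [6])],
    [(104, []), (106, [3]), (106, [0]), (106, [1]), (108, []), (103, []), (106, [4]), (106, [6])],
    [(108, []), (107, [3]), (105, []), (109, []), (104, []), (107, [2]), (107, [4]), (107, [6])],
    [(107, []), (108, [3]), (108, [0]), (110, []), (106, []), (108, [2]), (108, [4]), (108, [6])],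
    [(110, []), (111, []), (109, [5]), (107, []), (109, [1]), (109, [2]), (109, [4]), (109, [6])],
    [(109, []), (112, []), (113, []), (108, []), (110, [1]), (110, [2]), (110, [4]), (110, [6])],
    [(112, []), (109, []), (111, [5]), (111, [3]), (111, [1]), (111, [2]), (111, [4]), (111, [6])],
    [(111, []), (110, []), (114, []), (112, [3]), (112, [1]), (112, [2]), (112, [4]), (112, [6])],
    [(113, [5]), (114, []), (110, []), (113, [0]), (113, [1]), (113, [2]), (113, [4]), (113, [6])],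
    [(114, [5]), (113, []), (112, []), (115, []), (114, [1]), (114, [2]), (114, [4]), (114, [6])],
    [(115, [5]), (115, [0]), (115, [3]), (114, []), (116, []), (115, [2]), (115, [4]), (115, [6])],
    [(116, [5]), (116, [0]), (116, [3]), (116, [1]), (115, []), (117, []), (116, [4]), (116, [6])],
    [(117, [5]), (117, [0]), (117, [3]), (117, [1]), (117, [2]), (116, []), (118, []), (117, [6])],
    [(118, [5]), (118, [0]), (118, [3]), (118, [1]), (118, [2]), (118, [4]), (117, []), (119, [])],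
    [(119, [5]), (119, [0]), (119, [3]), (119, [1]), (119, [2]), (119, [4]), (119, [6]), (118, [])]]

/-- The stabiliser data of seed 2 of type E8. -/
def invE8Stab2 : StabData :=
  ⟨1, [invE8Gen2_0, invE8Gen2_1, invE8Gen2_2, invE8Gen2_3, invE8Gen2_4, invE8Gen2_5, invE8Gen2_6, invE8Gen2_7],
    [invE8Level2_8, invE8Level2_7, invE8Level2_6, invE8Level2_5, invE8Level2_4, invE8Level2_3, invE8Level2_2, invE8Level2_1],
    invE8Orbit2, invE8Steps2, [2, 2, 6, 8, 10, 12, 14, 18]⟩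

/-- Words moving every mask to a seed. -/
def invE8Masks : List (Bool × List ℕ) :=
  [(true, []),
    (true, [0, 2]),
    (true, [1, 3, 4, 5, 6, 7, 2, 3, 4, 5, 6, 1, 3, 4, 5, 2, 3, 4, 1, 3]),
    (false, [1, 3, 4, 5, 6, 7, 2, 3, 4, 5, 6, 1, 3, 4, 5, 2, 3, 4, 1, 3, 2]),
    (false, []),
    (true, [2]),
    (false, [2, 3, 4, 5, 6, 7, 0, 2, 3, 4, 5, 6, 1, 3, 4, 5, 2, 3, 4, 1, 3, 2]),
    (false, [1, 3, 4, 5, 6, 7, 0, 2, 3, 4, 5, 6, 1, 3, 4, 5, 2, 3, 4, 1, 3, 2]),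
    (false, [3, 2, 1, 3, 0, 2]),
    (false, [0, 2]),
    (true, [3, 4, 5, 6, 7, 2, 3, 4, 5, 6, 1, 3, 4, 5, 2, 3, 4, 1, 3]),
    (false, [3, 4, 5, 6, 7, 2, 3, 4, 5, 6, 1, 3, 4, 5, 2, 3, 4, 1, 3, 2]),
    (true, []),
    (false, [2]),
    (false, [2, 1, 3, 4, 5, 6, 7, 0, 2, 3, 4, 5, 6, 1, 3, 4, 5, 2, 3, 4, 1, 3, 2]),
    (false, [3, 4, 5, 6, 7, 0, 2, 3, 4, 5, 6, 1, 3, 4, 5, 2, 3, 4, 1, 3, 2]),
    (true, [4, 5, 6, 7, 3, 4, 5, 6, 2, 3, 4, 5, 0, 2, 3, 4, 1, 3]),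
    (true, [4, 5, 6, 7, 3, 4, 5, 6, 1, 3, 4, 5, 0, 2, 3, 4, 1, 3]),
    (true, [1, 3]),
    (false, [1, 3, 2]),
    (false, [4, 5, 6, 7, 3, 4, 5, 6, 1, 3, 4, 5, 2, 3, 4, 1, 3, 2]),
    (true, [4, 5, 6, 7, 3, 4, 5, 6, 1, 3, 4, 5, 2, 3, 4, 1, 3]),
    (false, [2, 3, 0, 2]),
    (false, [1, 3, 0, 2]),
    (false, [3, 2, 1, 3, 4, 5, 6, 7, 0, 2, 3, 4, 5, 6, 1, 3, 4, 5, 2, 3, 4, 1, 3, 2]),
    (false, [4, 5, 6, 7, 0, 2, 3, 4, 5, 6, 1, 3, 4, 5, 2, 3, 4, 1, 3, 2]),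
    (true, [3]),
    (false, [3, 2]),
    (true, [4, 5, 6, 7, 2, 3, 4, 5, 6, 1, 3, 4, 5, 2, 3, 4, 1, 3]),
    (false, [4, 5, 6, 7, 2, 3, 4, 5, 6, 1, 3, 4, 5, 2, 3, 4, 1, 3, 2]),
    (false, [2, 1, 3, 0, 2]),
    (false, [3, 0, 2]),
    (true, [5, 4, 3, 2, 1, 3, 4, 5, 0, 2, 3, 4, 1, 3]),
    (true, [0, 2, 3, 4, 1, 3]),
    (false, [5, 6, 7, 4, 5, 6, 3, 4, 5, 2, 3, 4, 1, 3, 2]),
    (true, [5, 6, 7, 4, 5, 6, 3, 4, 5, 2, 3, 4, 1, 3]),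
    (false, [2, 3, 4, 1, 3, 2]),
    (true, [2, 3, 4, 1, 3]),
    (true, [5, 6, 7, 4, 5, 6, 2, 1, 3, 4, 5, 0, 2, 3, 4, 1, 3]),
    (true, [5, 6, 7, 4, 5, 6, 3, 4, 5, 0, 2, 3, 4, 1, 3]),
    (false, [3, 4, 2, 3, 0, 2]),
    (false, [3, 4, 1, 3, 0, 2]),
    (false, [5, 6, 7, 4, 5, 6, 1, 3, 4, 5, 2, 3, 4, 1, 3, 2]),
    (true, [5, 6, 7, 4, 5, 6, 1, 3, 4, 5, 2, 3, 4, 1, 3]),
    (true, [3, 4, 1, 3]),
    (false, [3, 4, 1, 3, 2]),
    (true, [5, 6, 7, 4, 5, 6, 2, 3, 4, 5, 0, 2, 3, 4, 1, 3]),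
    (true, [5, 6, 7, 4, 5, 6, 1, 3, 4, 5, 0, 2, 3, 4, 1, 3]),
    (false, [4, 3, 2, 1, 3, 4, 5, 6, 7, 0, 2, 3, 4, 5, 6, 1, 3, 4, 5, 2, 3, 4, 1, 3, 2]),
    (false, [5, 6, 7, 0, 2, 3, 4, 5, 6, 1, 3, 4, 5, 2, 3, 4, 1, 3, 2]),
    (true, [4, 3]),
    (false, [4, 3, 2]),
    (true, [5, 6, 7, 2, 3, 4, 5, 6, 1, 3, 4, 5, 2, 3, 4, 1, 3]),
    (false, [5, 6, 7, 2, 3, 4, 5, 6, 1, 3, 4, 5, 2, 3, 4, 1, 3, 2]),
    (false, [4, 2, 1, 3, 0, 2]),
    (false, [4, 3, 0, 2]),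
    (true, [5, 6, 7, 3, 4, 5, 6, 2, 3, 4, 5, 0, 2, 3, 4, 1, 3]),
    (true, [5, 6, 7, 3, 4, 5, 6, 1, 3, 4, 5, 0, 2, 3, 4, 1, 3]),
    (true, [4, 1, 3]),
    (false, [4, 1, 3, 2]),
    (false, [5, 6, 7, 3, 4, 5, 6, 1, 3, 4, 5, 2, 3, 4, 1, 3, 2]),
    (true, [5, 6, 7, 3, 4, 5, 6, 1, 3, 4, 5, 2, 3, 4, 1, 3]),
    (false, [4, 2, 3, 0, 2]),
    (false, [4, 1, 3, 0, 2]),
    (false, [6, 7, 5, 6, 4, 5, 3, 4, 2, 3, 0, 2]),
    (false, [6, 7, 5, 6, 4, 5, 3, 4, 1, 3, 0, 2]),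
    (false, [1, 3, 4, 5, 2, 3, 4, 1, 3, 2]),
    (true, [1, 3, 4, 5, 2, 3, 4, 1, 3]),
    (true, [6, 7, 5, 6, 4, 5, 3, 4, 1, 3]),
    (false, [6, 7, 5, 6, 4, 5, 3, 4, 1, 3, 2]),
    (true, [2, 3, 4, 5, 0, 2, 3, 4, 1, 3]),
    (true, [1, 3, 4, 5, 0, 2, 3, 4, 1, 3]),
    (true, [6, 7, 5, 6, 3, 2, 1, 3, 4, 5, 0, 2, 3, 4, 1, 3]),
    (true, [6, 7, 5, 6, 4, 5, 0, 2, 3, 4, 1, 3]),
    (false, [3, 4, 5, 2, 3, 4, 1, 3, 2]),
    (true, [3, 4, 5, 2, 3, 4, 1, 3]),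
    (false, [6, 7, 5, 6, 4, 5, 2, 3, 4, 1, 3, 2]),
    (true, [6, 7, 5, 6, 4, 5, 2, 3, 4, 1, 3]),
    (true, [2, 1, 3, 4, 5, 0, 2, 3, 4, 1, 3]),
    (true, [3, 4, 5, 0, 2, 3, 4, 1, 3]),
    (false, [4, 5, 3, 4, 2, 3, 0, 2]),
    (false, [4, 5, 3, 4, 1, 3, 0, 2]),
    (false, [6, 7, 5, 6, 1, 3, 4, 5, 2, 3, 4, 1, 3, 2]),
    (true, [6, 7, 5, 6, 1, 3, 4, 5, 2, 3, 4, 1, 3]),
    (true, [4, 5, 3, 4, 1, 3]),
    (false, [4, 5, 3, 4, 1, 3, 2]),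
    (true, [6, 7, 5, 6, 2, 3, 4, 5, 0, 2, 3, 4, 1, 3]),
    (true, [6, 7, 5, 6, 1, 3, 4, 5, 0, 2, 3, 4, 1, 3]),
    (true, [3, 2, 1, 3, 4, 5, 0, 2, 3, 4, 1, 3]),
    (true, [4, 5, 0, 2, 3, 4, 1, 3]),
    (false, [6, 7, 5, 6, 3, 4, 5, 2, 3, 4, 1, 3, 2]),
    (true, [6, 7, 5, 6, 3, 4, 5, 2, 3, 4, 1, 3]),
    (false, [4, 5, 2, 3, 4, 1, 3, 2]),
    (true, [4, 5, 2, 3, 4, 1, 3]),
    (true, [6, 7, 5, 6, 2, 1, 3, 4, 5, 0, 2, 3, 4, 1, 3]),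
    (true, [6, 7, 5, 6, 3, 4, 5, 0, 2, 3, 4, 1, 3]),
    (false, [5, 4, 3, 2, 1, 3, 4, 5, 6, 7, 0, 2, 3, 4, 5, 6, 1, 3, 4, 5, 2, 3, 4, 1, 3, 2]),
    (false, [6, 7, 0, 2, 3, 4, 5, 6, 1, 3, 4, 5, 2, 3, 4, 1, 3, 2]),
    (true, [5, 4, 3]),
    (false, [5, 4, 3, 2]),
    (true, [6, 7, 2, 3, 4, 5, 6, 1, 3, 4, 5, 2, 3, 4, 1, 3]),
    (false, [6, 7, 2, 3, 4, 5, 6, 1, 3, 4, 5, 2, 3, 4, 1, 3, 2]),
    (false, [5, 4, 2, 1, 3, 0, 2]),
    (false, [5, 4, 3, 0, 2]),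
    (true, [6, 7, 3, 4, 5, 6, 2, 3, 4, 5, 0, 2, 3, 4, 1, 3]),
    (true, [6, 7, 3, 4, 5, 6, 1, 3, 4, 5, 0, 2, 3, 4, 1, 3]),
    (true, [5, 4, 1, 3]),
    (false, [5, 4, 1, 3, 2]),
    (false, [6, 7, 3, 4, 5, 6, 1, 3, 4, 5, 2, 3, 4, 1, 3, 2]),
    (true, [6, 7, 3, 4, 5, 6, 1, 3, 4, 5, 2, 3, 4, 1, 3]),
    (false, [5, 4, 2, 3, 0, 2]),
    (false, [5, 4, 1, 3, 0, 2]),
    (true, [4, 3, 2, 1, 3, 4, 5, 0, 2, 3, 4, 1, 3]),
    (true, [5, 0, 2, 3, 4, 1, 3]),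
    (false, [6, 7, 4, 5, 6, 3, 4, 5, 2, 3, 4, 1, 3, 2]),
    (true, [6, 7, 4, 5, 6, 3, 4, 5, 2, 3, 4, 1, 3]),
    (false, [5, 2, 3, 4, 1, 3, 2]),
    (true, [5, 2, 3, 4, 1, 3]),
    (true, [6, 7, 4, 5, 6, 2, 1, 3, 4, 5, 0, 2, 3, 4, 1, 3]),
    (true, [6, 7, 4, 5, 6, 3, 4, 5, 0, 2, 3, 4, 1, 3]),
    (false, [5, 3, 4, 2, 3, 0, 2]),
    (false, [5, 3, 4, 1, 3, 0, 2]),
    (false, [6, 7, 4, 5, 6, 1, 3, 4, 5, 2, 3, 4, 1, 3, 2]),
    (true, [6, 7, 4, 5, 6, 1, 3, 4, 5, 2, 3, 4, 1, 3]),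
    (true, [5, 3, 4, 1, 3]),
    (false, [5, 3, 4, 1, 3, 2]),
    (true, [6, 7, 4, 5, 6, 2, 3, 4, 5, 0, 2, 3, 4, 1, 3]),
    (true, [6, 7, 4, 5, 6, 1, 3, 4, 5, 0, 2, 3, 4, 1, 3]),
    (false, [7, 6, 5, 4, 3, 2, 1, 3, 4, 5, 6, 7, 0, 2, 3, 4, 5, 6, 1, 3, 4, 5, 2, 3, 4, 1, 3, 2]),
    (false, [0, 2, 3, 4, 5, 6, 1, 3, 4, 5, 2, 3, 4, 1, 3, 2]),
    (true, [7, 6, 5, 4, 3]),
    (false, [7, 6, 5, 4, 3, 2]),
    (true, [2, 3, 4, 5, 6, 1, 3, 4, 5, 2, 3, 4, 1, 3]),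
    (false, [2, 3, 4, 5, 6, 1, 3, 4, 5, 2, 3, 4, 1, 3, 2]),
    (false, [7, 6, 5, 4, 2, 1, 3, 0, 2]),
    (false, [7, 6, 5, 4, 3, 0, 2]),
    (true, [3, 4, 5, 6, 2, 3, 4, 5, 0, 2, 3, 4, 1, 3]),
    (true, [3, 4, 5, 6, 1, 3, 4, 5, 0, 2, 3, 4, 1, 3]),
    (true, [7, 6, 5, 4, 1, 3]),
    (false, [7, 6, 5, 4, 1, 3, 2]),
    (false, [3, 4, 5, 6, 1, 3, 4, 5, 2, 3, 4, 1, 3, 2]),
    (true, [3, 4, 5, 6, 1, 3, 4, 5, 2, 3, 4, 1, 3]),
    (false, [7, 6, 5, 4, 2, 3, 0, 2]),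
    (false, [7, 6, 5, 4, 1, 3, 0, 2]),
    (true, [7, 6, 4, 3, 2, 1, 3, 4, 5, 0, 2, 3, 4, 1, 3]),
    (true, [7, 6, 5, 0, 2, 3, 4, 1, 3]),
    (false, [4, 5, 6, 3, 4, 5, 2, 3, 4, 1, 3, 2]),
    (true, [4, 5, 6, 3, 4, 5, 2, 3, 4, 1, 3]),
    (false, [7, 6, 5, 2, 3, 4, 1, 3, 2]),
    (true, [7, 6, 5, 2, 3, 4, 1, 3]),
    (true, [4, 5, 6, 2, 1, 3, 4, 5, 0, 2, 3, 4, 1, 3]),
    (true, [4, 5, 6, 3, 4, 5, 0, 2, 3, 4, 1, 3]),
    (false, [7, 6, 5, 3, 4, 2, 3, 0, 2]),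
    (false, [7, 6, 5, 3, 4, 1, 3, 0, 2]),
    (false, [4, 5, 6, 1, 3, 4, 5, 2, 3, 4, 1, 3, 2]),
    (true, [4, 5, 6, 1, 3, 4, 5, 2, 3, 4, 1, 3]),
    (true, [7, 6, 5, 3, 4, 1, 3]),
    (false, [7, 6, 5, 3, 4, 1, 3, 2]),
    (true, [4, 5, 6, 2, 3, 4, 5, 0, 2, 3, 4, 1, 3]),
    (true, [4, 5, 6, 1, 3, 4, 5, 0, 2, 3, 4, 1, 3]),
    (false, [5, 6, 4, 5, 3, 4, 2, 3, 0, 2]),
    (false, [5, 6, 4, 5, 3, 4, 1, 3, 0, 2]),
    (false, [7, 6, 1, 3, 4, 5, 2, 3, 4, 1, 3, 2]),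
    (true, [7, 6, 1, 3, 4, 5, 2, 3, 4, 1, 3]),
    (true, [5, 6, 4, 5, 3, 4, 1, 3]),
    (false, [5, 6, 4, 5, 3, 4, 1, 3, 2]),
    (true, [7, 6, 2, 3, 4, 5, 0, 2, 3, 4, 1, 3]),
    (true, [7, 6, 1, 3, 4, 5, 0, 2, 3, 4, 1, 3]),
    (true, [5, 6, 3, 2, 1, 3, 4, 5, 0, 2, 3, 4, 1, 3]),
    (true, [5, 6, 4, 5, 0, 2, 3, 4, 1, 3]),
    (false, [7, 6, 3, 4, 5, 2, 3, 4, 1, 3, 2]),
    (true, [7, 6, 3, 4, 5, 2, 3, 4, 1, 3]),
    (false, [5, 6, 4, 5, 2, 3, 4, 1, 3, 2]),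
    (true, [5, 6, 4, 5, 2, 3, 4, 1, 3]),
    (true, [7, 6, 2, 1, 3, 4, 5, 0, 2, 3, 4, 1, 3]),
    (true, [7, 6, 3, 4, 5, 0, 2, 3, 4, 1, 3]),
    (false, [7, 6, 4, 5, 3, 4, 2, 3, 0, 2]),
    (false, [7, 6, 4, 5, 3, 4, 1, 3, 0, 2]),
    (false, [5, 6, 1, 3, 4, 5, 2, 3, 4, 1, 3, 2]),
    (true, [5, 6, 1, 3, 4, 5, 2, 3, 4, 1, 3]),
    (true, [7, 6, 4, 5, 3, 4, 1, 3]),
    (false, [7, 6, 4, 5, 3, 4, 1, 3, 2]),
    (true, [5, 6, 2, 3, 4, 5, 0, 2, 3, 4, 1, 3]),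
    (true, [5, 6, 1, 3, 4, 5, 0, 2, 3, 4, 1, 3]),
    (true, [7, 6, 3, 2, 1, 3, 4, 5, 0, 2, 3, 4, 1, 3]),
    (true, [7, 6, 4, 5, 0, 2, 3, 4, 1, 3]),
    (false, [5, 6, 3, 4, 5, 2, 3, 4, 1, 3, 2]),
    (true, [5, 6, 3, 4, 5, 2, 3, 4, 1, 3]),
    (false, [7, 6, 4, 5, 2, 3, 4, 1, 3, 2]),
    (true, [7, 6, 4, 5, 2, 3, 4, 1, 3]),
    (true, [5, 6, 2, 1, 3, 4, 5, 0, 2, 3, 4, 1, 3]),
    (true, [5, 6, 3, 4, 5, 0, 2, 3, 4, 1, 3]),
    (false, [6, 5, 4, 3, 2, 1, 3, 4, 5, 6, 7, 0, 2, 3, 4, 5, 6, 1, 3, 4, 5, 2, 3, 4, 1, 3, 2]),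
    (false, [7, 0, 2, 3, 4, 5, 6, 1, 3, 4, 5, 2, 3, 4, 1, 3, 2]),
    (true, [6, 5, 4, 3]),
    (false, [6, 5, 4, 3, 2]),
    (true, [7, 2, 3, 4, 5, 6, 1, 3, 4, 5, 2, 3, 4, 1, 3]),
    (false, [7, 2, 3, 4, 5, 6, 1, 3, 4, 5, 2, 3, 4, 1, 3, 2]),
    (false, [6, 5, 4, 2, 1, 3, 0, 2]),
    (false, [6, 5, 4, 3, 0, 2]),
    (true, [7, 3, 4, 5, 6, 2, 3, 4, 5, 0, 2, 3, 4, 1, 3]),
    (true, [7, 3, 4, 5, 6, 1, 3, 4, 5, 0, 2, 3, 4, 1, 3]),
    (true, [6, 5, 4, 1, 3]),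
    (false, [6, 5, 4, 1, 3, 2]),
    (false, [7, 3, 4, 5, 6, 1, 3, 4, 5, 2, 3, 4, 1, 3, 2]),
    (true, [7, 3, 4, 5, 6, 1, 3, 4, 5, 2, 3, 4, 1, 3]),
    (false, [6, 5, 4, 2, 3, 0, 2]),
    (false, [6, 5, 4, 1, 3, 0, 2]),
    (true, [6, 4, 3, 2, 1, 3, 4, 5, 0, 2, 3, 4, 1, 3]),
    (true, [6, 5, 0, 2, 3, 4, 1, 3]),
    (false, [7, 4, 5, 6, 3, 4, 5, 2, 3, 4, 1, 3, 2]),
    (true, [7, 4, 5, 6, 3, 4, 5, 2, 3, 4, 1, 3]),
    (false, [6, 5, 2, 3, 4, 1, 3, 2]),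
    (true, [6, 5, 2, 3, 4, 1, 3]),
    (true, [7, 4, 5, 6, 2, 1, 3, 4, 5, 0, 2, 3, 4, 1, 3]),
    (true, [7, 4, 5, 6, 3, 4, 5, 0, 2, 3, 4, 1, 3]),
    (false, [6, 5, 3, 4, 2, 3, 0, 2]),
    (false, [6, 5, 3, 4, 1, 3, 0, 2]),
    (false, [7, 4, 5, 6, 1, 3, 4, 5, 2, 3, 4, 1, 3, 2]),
    (true, [7, 4, 5, 6, 1, 3, 4, 5, 2, 3, 4, 1, 3]),
    (true, [6, 5, 3, 4, 1, 3]),
    (false, [6, 5, 3, 4, 1, 3, 2]),
    (true, [7, 4, 5, 6, 2, 3, 4, 5, 0, 2, 3, 4, 1, 3]),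
    (true, [7, 4, 5, 6, 1, 3, 4, 5, 0, 2, 3, 4, 1, 3]),
    (false, [7, 5, 6, 4, 5, 3, 4, 2, 3, 0, 2]),
    (false, [7, 5, 6, 4, 5, 3, 4, 1, 3, 0, 2]),
    (false, [6, 1, 3, 4, 5, 2, 3, 4, 1, 3, 2]),
    (true, [6, 1, 3, 4, 5, 2, 3, 4, 1, 3]),
    (true, [7, 5, 6, 4, 5, 3, 4, 1, 3]),
    (false, [7, 5, 6, 4, 5, 3, 4, 1, 3, 2]),
    (true, [6, 2, 3, 4, 5, 0, 2, 3, 4, 1, 3]),
    (true, [6, 1, 3, 4, 5, 0, 2, 3, 4, 1, 3]),
    (true, [7, 5, 6, 3, 2, 1, 3, 4, 5, 0, 2, 3, 4, 1, 3]),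
    (true, [7, 5, 6, 4, 5, 0, 2, 3, 4, 1, 3]),
    (false, [6, 3, 4, 5, 2, 3, 4, 1, 3, 2]),
    (true, [6, 3, 4, 5, 2, 3, 4, 1, 3]),
    (false, [7, 5, 6, 4, 5, 2, 3, 4, 1, 3, 2]),
    (true, [7, 5, 6, 4, 5, 2, 3, 4, 1, 3]),
    (true, [6, 2, 1, 3, 4, 5, 0, 2, 3, 4, 1, 3]),
    (true, [6, 3, 4, 5, 0, 2, 3, 4, 1, 3]),
    (false, [6, 4, 5, 3, 4, 2, 3, 0, 2]),
    (false, [6, 4, 5, 3, 4, 1, 3, 0, 2]),
    (false, [7, 5, 6, 1, 3, 4, 5, 2, 3, 4, 1, 3, 2]),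
    (true, [7, 5, 6, 1, 3, 4, 5, 2, 3, 4, 1, 3]),
    (true, [6, 4, 5, 3, 4, 1, 3]),
    (false, [6, 4, 5, 3, 4, 1, 3, 2]),
    (true, [7, 5, 6, 2, 3, 4, 5, 0, 2, 3, 4, 1, 3]),
    (true, [7, 5, 6, 1, 3, 4, 5, 0, 2, 3, 4, 1, 3]),
    (true, [6, 3, 2, 1, 3, 4, 5, 0, 2, 3, 4, 1, 3]),
    (true, [6, 4, 5, 0, 2, 3, 4, 1, 3]),
    (false, [7, 5, 6, 3, 4, 5, 2, 3, 4, 1, 3, 2]),
    (true, [7, 5, 6, 3, 4, 5, 2, 3, 4, 1, 3]),
    (false, [6, 4, 5, 2, 3, 4, 1, 3, 2]),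
    (true, [6, 4, 5, 2, 3, 4, 1, 3]),
    (true, [7, 5, 6, 2, 1, 3, 4, 5, 0, 2, 3, 4, 1, 3]),
    (true, [7, 5, 6, 3, 4, 5, 0, 2, 3, 4, 1, 3])]

end Cfsg.Agent.Lie.Chev
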