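import Mathlib

/-! A small evaluator for matrix identities with polynomial entries, usable by kernel reduction:
vectors are lists of monomial terms, matrices are functions giving each column as such a list. -/

set_option autoImplicit false

namespace Cfsg.Agent.Lie.Chev

/-- Binary look-up tree. -/
inductive BT (α : Type) where
  | leaf (a : α)
  | node (m : ℕ) (l r : BT α)

/-- Look up an index. -/
def BT.get {α : Type} : BT α → ℕ → α
  | .leaf a, _ => a
  | .node m l r, i => bif Nat.blt i m then l.get i else r.get i

/-- Extract the `i`-th field of width `w`. -/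
def field (w x i : ℕ) : ℕ := Nat.land (Nat.shiftRight x (w * i)) (2 ^ w - 1)

/-- A monomial `coef * t^ea * u^eb * v^ec` at a coordinate `row`. -/
structure Term where
  row : ℕ
  ea : ℕ
  eb : ℕ
  ec : ℕ
  coef : ℤ

/-- Same coordinate and same monomial. -/
def Term.same (p q : Term) : Bool :=
  Nat.beq p.row q.row && Nat.beq p.ea q.ea && Nat.beq p.eb q.eb && Nat.beq p.ec q.ec

/-- Coefficient-wise scaling of the term `p` (in a column) by the term `q` (in a vector). -/
def Term.times (p q : Term) : Term :=
  ⟨p.row, p.ea + q.ea, p.eb + q.eb, p.ec + q.ec, p.coef * q.coef⟩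

/-- Negation. -/
def Term.negate (p : Term) : Term := ⟨p.row, p.ea, p.eb, p.ec, -p.coef⟩

/-- Cancel `t` against `v`. -/
def Term.cancel (p : Term) : Term :=
  ⟨p.row, p.ea - min p.ea p.ec, p.eb, p.ec - min p.ea p.ec, p.coef⟩

/-- Apply a matrix, given by its columns, to a vector. -/
def apply (col : ℕ → List Term) (v : List Term) : List Term :=
  v.flatMap fun q => (col q.row).map fun p => p.times q

/-- The vector of a coordinate. -/
def unitVec (c : ℕ) : List Term := [⟨c, 0, 0, 0, 1⟩]

/-- Vanishing of an integer. -/
def intZero : ℤ → Bool
  | .ofNat n => Nat.beq n 0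
  | .negSucc _ => false

/-- Insert a term, adding coefficients within a class. -/
def insertTerm (p : Term) : List Term → List Term
  | [] => bif intZero p.coef then [] else [p]
  | q :: L => bif p.same q then
      (bif intZero (p.coef + q.coef) then L
        else ⟨q.row, q.ea, q.eb, q.ec, p.coef + q.coef⟩ :: L)
    else q :: insertTerm p L

/-- Collect the terms of each class. -/
def merge (L : List Term) : List Term := L.foldr insertTerm []

/-- Apply a product of matrices, the last one first. -/
def applyAll (cols : List (ℕ → List Term)) (v : List Term) : List Term :=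
  cols.foldr (fun col acc => merge (apply col acc)) v

/-- Apply a product of matrices, cancelling `t` against `v` on the way. -/
def applyAllInv (cols : List (ℕ → List Term)) (v : List Term) : List Term :=
  cols.foldr (fun col acc => merge ((apply col acc).map Term.cancel)) v

/-- Formal equality. -/
def same (a b : List Term) : Bool := (merge (a ++ b.map Term.negate)).isEmpty

/-- Formal equality after cancelling `t` against `v`. -/
def sameInv (a b : List Term) : Bool := same (a.map Term.cancel) (b.map Term.cancel)

section Eval

variable {ι : Type*} (enum : ι → ℕ) {F : Type*} [CommRing F] (t u v : F)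

/-- Value of a monomial. -/
def Term.val (p : Term) : F := (p.coef : F) * (t ^ p.ea * u ^ p.eb * v ^ p.ec)

/-- Value of a vector. -/
def ev (L : List Term) : ι → F :=
  fun i => (L.map fun p => if enum i = p.row then p.val t u v else 0).sum

/-- Value of a matrix. -/
def evMat (col : ℕ → List Term) : Matrix ι ι F :=
  Matrix.of fun i j => ev enum t u v (col (enum j)) i

theorem ev_nil : ev enum t u v ([] : List Term) = 0 := by funext i; simp [ev]

theorem ev_cons (p : Term) (L : List Term) :
    ev enum t u v (p :: L) =
      (fun i => if enum i = p.row then p.val t u v else 0) + ev enum t u v L := by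
  funext i; simp [ev]

theorem ev_append (a b : List Term) :
    ev enum t u v (a ++ b) = ev enum t u v a + ev enum t u v b := by
  funext i; simp [ev]

theorem ev_negate (a : List Term) : ev enum t u v (a.map Term.negate) = -ev enum t u v a := by
  induction a with
  | nil => simp [ev_nil]
  | cons p L ih =>
    rw [List.map_cons, ev_cons, ev_cons, ih]
    funext i
    simp only [Pi.add_apply, Pi.neg_apply, Term.negate, Term.val]
    by_cases h : enum i = p.row <;> simp [h]
    ring

theorem Term.same_refl (p : Term) : p.same p = true := by simp [Term.same]

theorem Term.same_iff {p q : Term} :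
    p.same q = true ↔ p.row = q.row ∧ p.ea = q.ea ∧ p.eb = q.eb ∧ p.ec = q.ec := by
  simp [Term.same, and_assoc]

theorem intZero_iff {z : ℤ} : intZero z = true ↔ z = 0 := by
  cases z <;> simp [intZero]

theorem ev_insertTerm (p : Term) (L : List Term) :
    ev enum t u v (insertTerm p L) = ev enum t u v (p :: L) := by
  induction L with
  | nil =>
    simp only [insertTerm]
    cases h : intZero p.coef with
    | false => rfl
    | true => funext i; simp [ev, Term.val, intZero_iff.1 h]
  | cons q L ih =>
    simp only [insertTerm]
    cases h : p.same q with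
    | false => simp only [cond_false, ev_cons, ih]; abel
    | true =>
      obtain ⟨h1, h2, h3, h4⟩ := Term.same_iff.1 h
      simp only [cond_true]
      cases hz : intZero (p.coef + q.coef) with
      | false =>
        simp only [cond_false, ev_cons, ← add_assoc]
        congr 1
        funext i
        simp only [Pi.add_apply, Term.val, h1, h2, h3, h4]
        split_ifs <;> push_cast <;> ring
      | true =>
        have hz' : ((p.coef + q.coef : ℤ) : F) = 0 := by simp [intZero_iff.1 hz]
        simp only [cond_true, ev_cons]
        funext i
        simp only [Pi.add_apply, Term.val, h1, h2, h3, h4]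
        split_ifs
        · rw [← add_assoc, ← add_mul, ← Int.cast_add, hz', zero_mul, zero_add]
        · ring

theorem ev_merge (L : List Term) : ev enum t u v (merge L) = ev enum t u v L := by
  induction L with
  | nil => rfl
  | cons p L ih =>
    show ev enum t u v (insertTerm p (merge L)) = _
    rw [ev_insertTerm, ev_cons, ev_cons, ih]

theorem ev_eq_of_same {a b : List Term} (h : same a b = true) :
    ev enum t u v a = ev enum t u v b := by
  have h2 := ev_merge enum t u v (a ++ b.map Term.negate)
  rw [List.isEmpty_iff.1 h, ev_nil, ev_append, ev_negate] at h2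
  exact add_neg_eq_zero.1 h2.symm

theorem Term.val_cancel (htv : t * v = 1) (p : Term) : p.cancel.val t u v = p.val t u v := by
  obtain ⟨ja, hja⟩ : ∃ j, j = min p.ea p.ec := ⟨_, rfl⟩
  obtain ⟨a, ha⟩ : ∃ a, p.ea = a + ja := ⟨p.ea - ja, by omega⟩
  obtain ⟨c, hc⟩ : ∃ c, p.ec = c + ja := ⟨p.ec - ja, by omega⟩
  simp only [Term.val, Term.cancel, ← hja]
  rw [ha, hc, Nat.add_sub_cancel, Nat.add_sub_cancel]
  have : (t * v) ^ ja = 1 := by rw [htv, one_pow]
  calc (p.coef : F) * (t ^ a * u ^ p.eb * v ^ c)
      = (p.coef : F) * (t ^ a * u ^ p.eb * v ^ c) * (t * v) ^ ja := by rw [this, mul_one]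
    _ = _ := by rw [pow_add, pow_add, mul_pow]; ring

theorem ev_cancel (htv : t * v = 1) (L : List Term) :
    ev enum t u v (L.map Term.cancel) = ev enum t u v L := by
  induction L with
  | nil => rfl
  | cons p L ih =>
    rw [List.map_cons, ev_cons, ev_cons, ih, Term.val_cancel t u v htv]
    rfl

theorem ev_eq_of_sameInv (htv : t * v = 1) {a b : List Term} (h : sameInv a b = true) :
    ev enum t u v a = ev enum t u v b := by
  have h2 := ev_eq_of_same enum t u v h
  rwa [ev_cancel enum t u v htv, ev_cancel enum t u v htv] at h2

variable [Fintype ι] [DecidableEq ι]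

theorem evMat_mulVec (hinj : Function.Injective enum) (col : ℕ → List Term)
    (hcol : ∀ c, (∀ i, enum i ≠ c) → col c = []) (L : List Term) :
    (evMat enum t u v col).mulVec (ev enum t u v L) = ev enum t u v (apply col L) := by
  induction L with
  | nil => simp [ev_nil, apply]
  | cons q L ih =>
    rw [ev_cons, Matrix.mulVec_add, ih]
    show _ = ev enum t u v ((col q.row).map (fun p => p.times q) ++ apply col L)
    rw [ev_append]
    congr 1
    funext i
    by_cases hj : ∃ j, enum j = q.row
    · obtain ⟨j, hj⟩ := hj
      have e : (fun i => if enum i = q.row then q.val t u v else 0) =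
          Pi.single j (q.val t u v) := by
        funext k
        rw [Pi.single_apply]
        by_cases hk : k = j
        · simp [hk, hj]
        · rw [if_neg hk, if_neg (fun h => hk (hinj (h.trans hj.symm)))]
      rw [e, Matrix.mulVec_single, ← hj]
      simp only [evMat, ev, Matrix.of_apply, Matrix.col_apply, List.map_map, Pi.smul_apply,
        op_smul_eq_mul]
      rw [← List.sum_map_mul_right]
      congr 1
      refine List.map_congr_left fun p _ => ?_
      simp only [Function.comp_apply, Term.times, Term.val]
      split_ifs <;> push_cast <;> ring
    · push Not at hj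
      have e : (fun i => if enum i = q.row then q.val t u v else 0) = 0 := by
        funext k
        simp [hj k]
      rw [e, hcol _ hj]
      simp [Matrix.mulVec_zero, ev_nil]

omit [Fintype ι] in
theorem ev_unitVec (hinj : Function.Injective enum) (j : ι) :
    ev enum t u v (unitVec (enum j)) = Pi.single j 1 := by
  funext k
  by_cases hk : k = j
  · simp [ev, unitVec, Term.val, hk]
  · simp [ev, unitVec, Term.val, hk, hinj.ne hk]

/-- Product of a list of matrices applied to a coordinate vector. -/
theorem prod_evMat_mulVec (hinj : Function.Injective enum) (cols : List (ℕ → List Term))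
    (hcols : ∀ col ∈ cols, ∀ c, (∀ i, enum i ≠ c) → col c = []) (L : List Term) :
    (cols.map (evMat enum t u v)).prod.mulVec (ev enum t u v L) =
      ev enum t u v (applyAll cols L) := by
  induction cols with
  | nil => simp [applyAll]
  | cons col cols ih =>
    rw [List.map_cons, List.prod_cons, ← Matrix.mulVec_mulVec,
      ih (fun x hx => hcols x (List.mem_cons_of_mem _ hx)),
      evMat_mulVec enum t u v hinj col (hcols col (by simp)), ← ev_merge enum t u v (apply col _)]
    rfl

/-- Product of a list of matrices applied to a coordinate vector, when `t * v = 1`. -/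
theorem prod_evMat_mulVec_inv (htv : t * v = 1) (hinj : Function.Injective enum)
    (cols : List (ℕ → List Term))
    (hcols : ∀ col ∈ cols, ∀ c, (∀ i, enum i ≠ c) → col c = []) (L : List Term) :
    (cols.map (evMat enum t u v)).prod.mulVec (ev enum t u v L) =
      ev enum t u v (applyAllInv cols L) := by
  induction cols with
  | nil => simp [applyAllInv]
  | cons col cols ih =>
    rw [List.map_cons, List.prod_cons, ← Matrix.mulVec_mulVec,
      ih (fun x hx => hcols x (List.mem_cons_of_mem _ hx)),
      evMat_mulVec enum t u v hinj col (hcols col (by simp)),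
      ← ev_cancel enum t u v htv (apply col _), ← ev_merge enum t u v (List.map Term.cancel _)]
    rfl

/-- Two products agree if they agree formally on every coordinate vector. -/
theorem prod_eq_of_same (hinj : Function.Injective enum) {A B : List (ℕ → List Term)}
    (hA : ∀ col ∈ A, ∀ c, (∀ i, enum i ≠ c) → col c = [])
    (hB : ∀ col ∈ B, ∀ c, (∀ i, enum i ≠ c) → col c = [])
    (h : ∀ j, ev enum t u v (applyAll A (unitVec (enum j))) =
      ev enum t u v (applyAll B (unitVec (enum j)))) :
    (A.map (evMat enum t u v)).prod = (B.map (evMat enum t u v)).prod := by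
  refine Matrix.ext_of_mulVec_single fun j => ?_
  rw [← ev_unitVec enum t u v hinj j, prod_evMat_mulVec enum t u v hinj A hA,
    prod_evMat_mulVec enum t u v hinj B hB, h j]

end Eval

end Cfsg.Agent.Lie.Chev
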