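import Cfsg.Agent.Lib.Lie.Chev.TwistF4TwoSylow
import Cfsg.Agent.Lib.Lie.BNTits

/-! The derived subgroup of ²F₄(2) has index two and is simple; it contains every involution. -/

set_option autoImplicit false
set_option maxRecDepth 4000

namespace Cfsg.Agent.Lie.Chev.F4Two

open Cfsg.Lie Matrix

/-- ²F₄(2). -/
abbrev G₂ : Type := ↥(twistedF4 K₂ 1)

theorem genSub_le_G : genSub ≤ twistedF4 K₂ 1 := fun g hg => by
  have h : g ∈ (Y₀).G₁ := (Y₀).eq_fix ▸ (genSub_le hg).1.2
  exact h

theorem nw_mem_G {L : List ℕ} (hL : L ∈ orbitsF4) : certFullF4.nw K₂ L ∈ twistedF4 K₂ 1 :=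
  F4.n_mem (m := 0) f₀ hf₀ L hL

/-- A generator as an element of the group. -/
noncomputable def gen (k : ℕ) (hk : k < 24) : G₂ := ⟨wd (W k), genSub_le_G (mem_genSub_of_gen hk)⟩

theorem chiBit_W1 : chiBit (W 1) = true := by decide +kernel

theorem W1_sq : eqv (W 1 ++ W 1) (W 4) = true := by decide +kernel

/-- The word of a commutator of two atoms. -/
def atom (i : ℕ) : List ℕ :=
  bif Nat.blt i 24 then W i else bif Nat.beq i 24 then nodeA.nW else nodeB.nW

/-- The word of a product of commutators. -/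
def commWords (l : List (ℕ × ℕ)) : List ℕ :=
  l.flatMap fun p => atom p.1 ++ atom p.2 ++ (atom p.1).reverse ++ (atom p.2).reverse

/-- The certificates for the derived subgroup. -/
def checkDerived : Bool :=
  (List.range 24).all fun k =>
    eqv (W k) (commWords (inDerived.getD k (false, [])).2 ++
      bif (inDerived.getD k (false, [])).1 then W 1 else [])

theorem checkDerived_ok : checkDerived = true := by decide +kernel

theorem wd_reverse (w : List ℕ) : wd w.reverse = (wd w)⁻¹ := by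
  induction w with
  | nil => rw [List.reverse_nil, wd_nil, inv_one]
  | cons r w ih =>
    have h1 : wd [r] * wd [r] = 1 := by
      simp only [wd, List.map_cons, List.map_nil, List.prod_cons, List.prod_nil, mul_one]
      rw [← certFullF4.xg_add, show (1 : K₂) + 1 = 0 from rfl]
      exact certFullF4.xg_zero r
    have h2 : wd (r :: w) = wd [r] * wd w := wd_append [r] w
    rw [List.reverse_cons, wd_append, ih, h2, _root_.mul_inv_rev]
    exact congrArg _ (eq_inv_of_mul_eq_one_left h1)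

theorem atom_mem (i : ℕ) : wd (atom i) ∈ twistedF4 K₂ 1 := by
  by_cases h : i < 24
  · rw [atom, show Nat.blt i 24 = true by rw [Nat.blt_eq]; exact h, cond_true]
    exact genSub_le_G (mem_genSub_of_gen h)
  rw [atom, show Nat.blt i 24 = false by rw [← Bool.not_eq_true, Nat.blt_eq]; exact h, cond_false]
  cases Nat.beq i 24 with
  | true =>
    rw [cond_true, (node_spec checkNode_ok.1).1.2]
    exact nw_mem_G (node_spec checkNode_ok.1).1.1
  | false =>
    rw [cond_false, (node_spec checkNode_ok.2).1.2]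
    exact nw_mem_G (node_spec checkNode_ok.2).1.1

theorem commWords_mem : ∀ l : List (ℕ × ℕ),
    ∃ g ∈ commutator G₂, (g : GL chevF4.Idx K₂) = wd (commWords l)
  | [] => ⟨1, one_mem _, by rw [commWords, List.flatMap_nil, wd_nil]; rfl⟩
  | p :: l => by
    obtain ⟨g, hg, e⟩ := commWords_mem l
    obtain ⟨a, ha⟩ : ∃ a : G₂, (a : GL chevF4.Idx K₂) = wd (atom p.1) := ⟨⟨_, atom_mem p.1⟩, rfl⟩
    obtain ⟨b, hb⟩ : ∃ b : G₂, (b : GL chevF4.Idx K₂) = wd (atom p.2) := ⟨⟨_, atom_mem p.2⟩, rfl⟩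
    refine ⟨a * b * a⁻¹ * b⁻¹ * g,
      mul_mem (Subgroup.commutator_mem_commutator (Subgroup.mem_top a) (Subgroup.mem_top b)) hg, ?_⟩
    rw [commWords, List.flatMap_cons, wd_append, wd_append, wd_append, wd_append, wd_reverse,
      wd_reverse, ← commWords, ← e, ← ha, ← hb]
    rfl

/-- The subgroup generated by the derived subgroup and one element. -/
noncomputable def bigSub : Subgroup G₂ := commutator G₂ ⊔ Subgroup.zpowers (gen 1 (by decide))

theorem gen_mem_bigSub {k : ℕ} (hk : k < 24) : gen k hk ∈ bigSub := by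
  have h := checkDerived_ok
  simp only [checkDerived, List.all_eq_true, List.mem_range] at h
  have e := wd_eq_of_eqv (h k hk)
  rw [wd_append] at e
  obtain ⟨g, hg, eg⟩ := commWords_mem (inDerived.getD k (false, [])).2
  rw [← eg] at e
  cases hb : (inDerived.getD k (false, [])).1 with
  | true =>
    rw [hb, cond_true] at e
    rw [show gen k hk = g * gen 1 (by decide) from Subtype.ext e]
    exact mul_mem (Subgroup.mem_sup_left hg) (Subgroup.mem_sup_right (Subgroup.mem_zpowers _))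
  | false =>
    rw [hb, cond_false, wd_nil, mul_one] at e
    rw [show gen k hk = g from Subtype.ext e]
    exact Subgroup.mem_sup_left hg

theorem genSub_mem_bigSub {g : G₂} (hg : (g : GL chevF4.Idx K₂) ∈ genSub) : g ∈ bigSub := by
  have hle : genSub ≤ bigSub.map (twistedF4 K₂ 1).subtype := by
    refine (Subgroup.closure_le _).2 ?_
    rintro x ⟨k, hk, rfl⟩
    exact ⟨gen k hk, gen_mem_bigSub hk, rfl⟩
  obtain ⟨x, hx, e⟩ := hle hg
  rwa [show g = x from Subtype.ext e.symm]

theorem bigSub_eq_top : bigSub = ⊤ := by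
  have hB : (Y₀).bnPair.B ≤ (bigSub : Subgroup ↥(Y₀).G₁) := fun b hb => by
    have h := (Twist.Datum.mem_bnB Y₀).1 hb
    rw [borel_fix_eq] at h
    exact genSub_mem_bigSub (g := b) h
  have hS : ∀ s ∈ (Y₀).bnPair.S, s ∈ (bigSub : Subgroup ↥(Y₀).G₁) := by
    rintro s ⟨J, hJ, es⟩
    obtain ⟨N, hN', rfl, hne⟩ : ∃ N : Node, checkNode N = true ∧ N.L = J ∧ 1 ≤ N.us.length := by
      have hJ' : J ∈ orbitsF4 := hJ
      simp only [orbitsF4, List.mem_cons, List.not_mem_nil, or_false] at hJ'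
      rcases hJ' with rfl | rfl
      · exact ⟨nodeB, checkNode_ok.2, rfl, by decide⟩
      · exact ⟨nodeA, checkNode_ok.1, rfl, by decide⟩
    obtain ⟨⟨hL, hn⟩, hU, -, hrel⟩ := node_spec hN'
    obtain ⟨a, ha, d, hd, er, -⟩ := hrel 1 le_rfl hne
    obtain ⟨n, hn'⟩ : ∃ n : G₂, (n : GL chevF4.Idx K₂) = wd N.nW := ⟨s, es.trans hn.symm⟩
    have hs : (s : G₂) = n := Subtype.ext ((es.trans hn.symm).trans hn'.symm)
    have hu : ∀ i ≤ N.us.length, ∃ x ∈ bigSub, (x : GL chevF4.Idx K₂) = wd (N.U i) := fun i hi =>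
      ⟨⟨_, genSub_le_G (hU i hi).1⟩, genSub_mem_bigSub (hU i hi).1, rfl⟩
    obtain ⟨x₁, h₁, e₁⟩ := hu 1 hne
    obtain ⟨xa, hxa, ea⟩ := hu a ha
    obtain ⟨xd, hxd, ed⟩ := hu d hd
    have heq : n * x₁ * n = xa * n * xd := Subtype.ext (by
      simp only [Subgroup.coe_mul, hn', e₁, ea, ed, er])
    have hc : n * x₁ * n⁻¹ * x₁⁻¹ ∈ bigSub := Subgroup.mem_sup_left
      (Subgroup.commutator_mem_commutator (Subgroup.mem_top n) (Subgroup.mem_top x₁))
    have hc2 : n * xd * n⁻¹ * xd⁻¹ ∈ bigSub := Subgroup.mem_sup_left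
      (Subgroup.commutator_mem_commutator (Subgroup.mem_top n) (Subgroup.mem_top xd))
    have key : n = (n * x₁ * n⁻¹ * x₁⁻¹ * x₁)⁻¹ * xa * (n * xd * n⁻¹ * xd⁻¹ * xd) :=
      calc n = (n * x₁ * n⁻¹)⁻¹ * (n * x₁ * n) * n⁻¹ := by group
        _ = _ := by rw [heq]; group
    show (s : G₂) ∈ bigSub
    rw [hs, key]
    exact mul_mem (mul_mem (inv_mem (mul_mem hc h₁)) hxa) (mul_mem hc2 hxd)
  refine top_le_iff.1 ?_
  show (⊤ : Subgroup ↥(Y₀).G₁) ≤ bigSub
  rw [← (Y₀).bnPair.sup_eq_top, ← (Y₀).bnPair.closure_sup]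
  exact sup_le hB (sup_le ((Subgroup.closure_le _).2 hS) (inf_le_left.trans hB))

/-- The parity homomorphism with values determined. -/
theorem exists_parity' : ∃ F : G₂ →* Multiplicative K₂, F.ker = commutator G₂ ∧
    F (gen 1 (by decide)) = Multiplicative.ofAdd 1 ∧
    ∀ g : G₂, (g : GL chevF4.Idx K₂) ∈ genSub →
      F g = Multiplicative.ofAdd (chi (g : GL chevF4.Idx K₂)) := by
  obtain ⟨F, hF⟩ := exists_parity
  have hx : F (gen 1 (by decide)) = Multiplicative.ofAdd 1 := by
    rw [hF _ (mem_genSub_of_gen (by decide))]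
    show Multiplicative.ofAdd (chi (wd (W 1))) = _
    rw [chi_wd (fun r hr => ((checkWord_spec (W_spec (by decide))).1 r hr).2), chiBit_W1, if_pos rfl]
  refine ⟨F, le_antisymm ?_ (Abelianization.commutator_subset_ker F), hx, hF⟩
  have hsq : gen 1 (by decide) * gen 1 (by decide) ∈ commutator G₂ := by
    have hmem : gen 1 (by decide) * gen 1 (by decide) ∈ bigSub := bigSub_eq_top ▸ Subgroup.mem_top _
    have h4 := checkDerived_ok
    simp only [checkDerived, List.all_eq_true, List.mem_range] at h4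
    have h4' := wd_eq_of_eqv (h4 4 (by decide))
    rw [wd_append] at h4'
    obtain ⟨g, hg, eg⟩ := commWords_mem (inDerived.getD 4 (false, [])).2
    rw [show (inDerived.getD 4 (false, [])).1 = false from rfl, cond_false, wd_nil, mul_one,
      ← eg] at h4'
    have e2 : wd (W 1 ++ W 1) = wd (W 4) := wd_eq_of_eqv W1_sq
    rw [wd_append, h4'] at e2
    rw [show gen 1 (by decide) * gen 1 (by decide) = g from Subtype.ext e2]
    exact hg
  intro g hg
  obtain ⟨c, hc, z, hz, rfl⟩ :=
    Subgroup.mem_sup_of_normal_left.1 (bigSub_eq_top ▸ Subgroup.mem_top g : g ∈ bigSub)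
  obtain ⟨n, rfl⟩ := Subgroup.mem_zpowers_iff.1 hz
  rw [MonoidHom.mem_ker, map_mul, MonoidHom.mem_ker.1 (Abelianization.commutator_subset_ker F hc),
    one_mul, map_zpow, hx, ← ofAdd_zsmul] at hg
  have hn : ((n : ℤ) : K₂) = 0 := by
    have : Multiplicative.toAdd (Multiplicative.ofAdd (n • (1 : K₂))) = 0 := by rw [hg]; rfl
    simpa using this
  obtain ⟨j, rfl⟩ : (2 : ℤ) ∣ n := by
    have := (CharP.intCast_eq_zero_iff K₂ 2 n).1 hn
    exact this
  refine mul_mem hc ?_
  rw [_root_.zpow_mul, show gen 1 (by decide) ^ (2 : ℤ) = gen 1 (by decide) * gen 1 (by decide) from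
    zpow_two _]
  exact zpow_mem hsq j

end Cfsg.Agent.Lie.Chev.F4Two
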