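import Cfsg.Agent.Lib.Lie.Chev.Centralizer
import Cfsg.Agent.Lib.Lie.Chev.CertsFull

/-! Finite checks on a root system used for conjugating involutions into the torus, and their
meaning. -/

set_option autoImplicit false

namespace Cfsg.Agent.Lie.Chev

open Cfsg.Lie

/-- Tables of parities and of strong orthogonality, with the seeds of the search. -/
structure InvData where
  par : BT ℕ
  orth : BT ℕ
  seeds : List ℕ

/-- Parity of an integer, as a Boolean. -/
def isOdd (z : ℤ) : Bool := Nat.beq (z.natAbs % 2) 1

theorem isOdd_iff {z : ℤ} : isOdd z = true ↔ z % 2 = 1 := by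
  rw [isOdd, Nat.beq_eq]
  omega

/-- Exclusive or of the parity rows. -/
def xorRows (tb : BT ℕ) : List ℕ → ℕ
  | [] => 0
  | a :: ps => Nat.xor (tb.get a) (xorRows tb ps)

/-- Each entry with the entries after it. -/
def picks : List ℕ → List (ℕ × List ℕ)
  | [] => []
  | a :: cs => (a, cs) :: picks cs

theorem exists_pick : ∀ {cs : List ℕ} {a : ℕ} {l : List ℕ}, List.Sublist (a :: l) cs →
    ∃ rest, (a, rest) ∈ picks cs ∧ List.Sublist l rest
  | [], a, l, h => by simp at h
  | b :: cs, a, l, h => by
    rcases List.sublist_cons_iff.1 h with h | ⟨r, e, h⟩
    · obtain ⟨rest, h1, h2⟩ := exists_pick h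
      exact ⟨rest, List.mem_cons_of_mem _ h1, h2⟩
    · injection e with e1 e2
      subst e1 e2
      exact ⟨cs, List.mem_cons_self, h⟩

namespace Tables

variable (T : Tables)

/-- Positive roots, largest first. -/
def posDown : List ℕ := (List.range' T.h T.h).reverse

/-- Sums of two roots on vectors. -/
def sumOK (a b u : ℕ) : Bool :=
  Nat.blt u T.n && (List.range T.l).all fun j => intBeq (T.vec u j) (T.vec a j + T.vec b j)

/-- Strong orthogonality. -/
def strong (r s : ℕ) : Bool :=
  !(Nat.beq s r) && !(Nat.beq s (T.neg r)) && intZero (T.pairing r s) && intZero (T.pairing s r) &&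
    (T.commTerms r s).isEmpty && (T.commTerms r (T.neg s)).isEmpty &&
    (T.commTerms (T.neg r) s).isEmpty && (T.commTerms (T.neg r) (T.neg s)).isEmpty

/-- Roots in the subsystem of two roots. -/
def cand (r s : ℕ) : List ℕ :=
  [r, T.neg r, s, T.neg s] ++
    [(r, s), (r, T.neg s), (T.neg r, s), (T.neg r, T.neg s)].filterMap fun q =>
      match T.chainRoot q.1 q.2 1 with
      | none => none
      | some u => bif T.sumOK q.1 q.2 u then some u else none

/-- Two roots of odd pairing whose sum is a root. -/
def oddGoodPair (a b : ℕ) : Bool :=
  isOdd (T.pairing a b) && match T.chainRoot a b 1 with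
    | none => false
    | some u => T.sumOK a b u

/-- Signs of pairings, and the norm. -/
def checkPairNeg : Bool :=
  T.allRoots fun r => intBeq (T.pairing r r) 2 &&
    T.allNodes fun i => intBeq (T.coroot (T.neg r) i) (- T.coroot r i)

/-- No root character is trivial. -/
def checkOddPair : Bool :=
  T.allRoots fun r => (List.range T.n).any fun s => isOdd (T.pairing s r)

/-- Two roots are strongly orthogonal or generate a good pair. -/
def checkOrthPairs : Bool :=
  T.posDown.all fun r => T.posDown.all fun s =>
    Nat.beq r s || T.strong r s ||
      (T.cand r s).any fun a => (T.cand r s).any fun b => T.oddGoodPair a b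

/-- The tables hold the parities and the strong orthogonality. -/
def checkRows (d : InvData) : Bool :=
  T.posDown.all fun r => Nat.beq (Nat.shiftRight (d.par.get r) T.n) 0 &&
    (T.allRoots fun u => (Nat.testBit (d.par.get r) u == isOdd (T.pairing r u))) &&
    T.posDown.all fun s => (Nat.testBit (d.orth.get r) s == T.strong r s)

/-- A word raising a root to one of the seeds. -/
def upWord (seeds : List ℕ) : ℕ → ℕ → List ℕ
  | 0, _ => []
  | fuel + 1, r => bif seeds.any (Nat.beq r) then [] else
      match (List.range T.l).find? fun p => match T.cartan p r with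
        | Int.negSucc _ => true
        | Int.ofNat _ => false with
      | none => []
      | some p => upWord seeds fuel (T.refl p r) ++ [p]

/-- Every positive root can be raised to a seed. -/
def checkSeeds (d : InvData) : Bool :=
  T.posDown.all fun r =>
    let M := T.upWord d.seeds T.n r
    (M.all fun p => Nat.blt p T.l) && d.seeds.any (Nat.beq (T.wlT M r))

/-- A further root in the span of mutually orthogonal roots. -/
def spanRoot (ps : List ℕ) : Bool :=
  T.posDown.any fun u => !(ps.any (Nat.beq u)) && (List.range T.l).all fun j =>
    intBeq (2 * T.vec u j) ((ps.map fun r => T.pairing r u * T.vec r j).sum)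

/-- Search through strongly orthogonal sets up to the first even one. -/
def frameSearch (d : InvData) : ℕ → List ℕ → ℕ → List ℕ → Bool
  | 0, _, _, _ => false
  | fuel + 1, ps, x, cs => bif Nat.beq x 0 then T.spanRoot ps else
      (picks cs).all fun q => frameSearch d fuel (q.1 :: ps) (Nat.xor (d.par.get q.1) x)
        (q.2.filter fun b => Nat.testBit (d.orth.get q.1) b)

/-- The search from every seed. -/
def checkFrames (d : InvData) : Bool :=
  d.seeds.all fun s => Nat.ble T.h s && Nat.blt s T.n &&
    T.frameSearch d (T.l + 2) [s] (d.par.get s)
      (T.posDown.filter fun b => Nat.testBit (d.orth.get s) b)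

/-- All the checks. -/
def checkInv (d : InvData) : Bool :=
  T.checkPairNeg && T.checkOddPair && T.checkOrthPairs && T.checkRows d && T.checkSeeds d &&
    T.checkFrames d

end Tables

namespace CertFull

variable {D : ChevalleyDatum} (c : CertFull D)
include c

theorem mem_posDown {r : ℕ} : r ∈ c.T.posDown ↔ c.Pos r := by
  have h := c.h_add_h
  simp only [Tables.posDown, List.mem_reverse, List.mem_range'_1, Cert.Pos]
  omega

omit c in
theorem intBeq_imp_eq {a b : ℤ} : intBeq a b = true → a = b := by
  cases a <;> cases b <;> simp [intBeq]

theorem allRoots_iff {f : ℕ → Bool} : c.T.allRoots f = true ↔ ∀ r < D.nroots, f r = true := by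
  simp only [Tables.allRoots, List.all_eq_true, List.mem_range]
  rw [c.nroots_eq]

theorem testBit_xorRows {tb : BT ℕ} {u : ℕ} : ∀ ps : List ℕ,
    (∀ r ∈ ps, Nat.testBit (tb.get r) u = isOdd (c.T.pairing r u)) →
    Nat.testBit (xorRows tb ps) u = isOdd (ps.map fun r => c.T.pairing r u).sum
  | [], _ => by simp [xorRows, isOdd]; rfl
  | a :: ps, h => by
    show Nat.testBit (tb.get a ^^^ xorRows tb ps) u = _
    rw [Nat.testBit_xor, h a (by simp),
      testBit_xorRows ps fun r hr => h r (List.mem_cons_of_mem _ hr), List.map_cons, List.sum_cons,
      ]
    generalize c.T.pairing a u = A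
    generalize (ps.map fun r => c.T.pairing r u).sum = B
    have key : ∀ z : ℤ, isOdd z = decide (z % 2 = 1) := fun z => by
      rw [Bool.eq_iff_iff, decide_eq_true_iff]; exact isOdd_iff
    rw [key, key, key]
    by_cases hA : A % 2 = 1 <;> by_cases hB : B % 2 = 1 <;>
      simp [hA, hB] <;> omega

/-- Soundness of the search. -/
theorem frameSearch_sound {d : InvData} (hrows : c.T.checkRows d = true) :
    ∀ (fuel : ℕ) (ps : List ℕ) (cs : List ℕ),
      c.T.frameSearch d fuel ps (xorRows d.par ps) cs = true → ∀ l : List ℕ, List.Sublist l cs →
      (∀ r ∈ ps ++ l, c.Pos r) → l.Pairwise (fun a b => c.T.strong a b = true) →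
      (∀ u < D.nroots, ((ps ++ l).map fun r => c.T.pairing r u).sum % 2 = 0) →
      ∃ qs, (∀ r ∈ qs, r ∈ ps ++ l) ∧ c.T.spanRoot qs = true := by
  simp only [Tables.checkRows, List.all_eq_true, Bool.and_eq_true, beq_iff_eq, c.allRoots_iff,
    Nat.beq_eq] at hrows
  intro fuel
  induction fuel with
  | zero => intro ps cs h; simp [Tables.frameSearch] at h
  | succ fuel ih =>
    intro ps cs h l hl hpos hpw heven
    rw [Tables.frameSearch] at h
    cases hx : Nat.beq (xorRows d.par ps) 0
    · rw [hx, cond_false, List.all_eq_true] at h
      rcases l with - | ⟨a, l⟩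
      · exfalso
        have hne : xorRows d.par ps ≠ 0 := by
          intro e; rw [e] at hx; simp at hx
        refine hne (Nat.eq_of_testBit_eq fun u => ?_)
        rw [Nat.zero_testBit]
        rw [List.append_nil] at hpos heven
        by_cases hu : u < D.nroots
        · rw [c.testBit_xorRows ps fun r hr => (hrows r (c.mem_posDown.2 (hpos r hr))).1.2 u hu]
          have := heven u hu
          rw [Bool.eq_false_iff]
          intro h'
          rw [isOdd_iff] at h'
          omega
        · have hbig : ∀ qs : List ℕ, (∀ r ∈ qs, c.Pos r) →
              Nat.testBit (xorRows d.par qs) u = false := by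
            intro qs
            induction qs with
            | nil => simp [xorRows]
            | cons r qs ihq =>
              intro hq
              show Nat.testBit (d.par.get r ^^^ xorRows d.par qs) u = _
              rw [Nat.testBit_xor, ihq fun r hr => hq r (List.mem_cons_of_mem _ hr)]
              have h0 := (hrows r (c.mem_posDown.2 (hq r (by simp)))).1.1
              have h1 : Nat.testBit (d.par.get r >>> c.T.n) (u - c.T.n) = false := by
                rw [show d.par.get r >>> c.T.n = 0 from h0]; simp
              rw [Nat.testBit_shiftRight] at h1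
              have := c.nroots_eq
              rw [show c.T.n + (u - c.T.n) = u by omega] at h1
              simp [h1]
          exact hbig ps hpos
      · obtain ⟨rest, h1, h2⟩ := exists_pick hl
        have h3 := h (a, rest) h1
        have ha : a ∈ ps ++ a :: l := by simp
        obtain ⟨qs, hq1, hq2⟩ := ih (a :: ps) _ h3 l (by
            have hfil : l.filter (fun b => Nat.testBit (d.orth.get a) b) = l := by
              refine List.filter_eq_self.2 fun b hb => ?_
              rw [(hrows a (c.mem_posDown.2 (hpos a ha))).2 b
                (c.mem_posDown.2 (hpos b (by simp [hb])))]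
              exact (List.pairwise_cons.1 hpw).1 b hb
            rw [← hfil]
            exact h2.filter _)
          (fun r hr => hpos r (by
            simp only [List.cons_append, List.mem_cons, List.mem_append] at hr ⊢; tauto))
          (List.pairwise_cons.1 hpw).2 (fun u hu => by
            have := heven u hu
            simp only [List.map_append, List.map_cons, List.sum_append, List.sum_cons,
              List.cons_append] at this ⊢
            omega)
        exact ⟨qs, fun r hr => by
          have := hq1 r hr
          simp only [List.cons_append, List.mem_cons, List.mem_append] at this ⊢; tauto, hq2⟩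
    · rw [hx, cond_true] at h
      exact ⟨ps, fun r hr => List.mem_append_left _ hr, h⟩

end CertFull

end Cfsg.Agent.Lie.Chev
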