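import Cfsg.Agent.Lib.Lie.Chev.InvolutionMoves
import Cfsg.Agent.Lib.Lie.Chev.InvolutionCheck
import Mathlib.NumberTheory.LegendreSymbol.QuadraticChar.Basic

/-! An involution in the monomial group whose negated roots are pairwise strongly orthogonal:
parities of the pairings of those with a non-square coefficient. -/

set_option autoImplicit false

namespace Cfsg.Agent.Lie.Chev

open Cfsg.Lie Matrix
open scoped MatrixGroups

/-- The quadratic character on units. -/
noncomputable def sgnU (F : Type*) [Field F] [Fintype F] : Fˣ →* ℤˣ :=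
  letI := Classical.decEq F
  (quadraticChar F).toUnitHom

theorem sgnU_eq_neg_one_iff {F : Type*} [Field F] [Fintype F] {x : Fˣ} :
    sgnU F x = -1 ↔ ¬ IsSquare (x : F) := by
  classical
  rw [← quadraticChar_neg_one_iff_not_isSquare, Units.ext_iff]
  simp [sgnU]

namespace CertFull

variable {D : ChevalleyDatum} (c : CertFull D) {F : Type*} [Field F]
include c

/-- Two roots are strongly orthogonal. -/
def Orth (r s : ℕ) : Prop :=
  s ≠ r ∧ s ≠ D.neg r ∧ c.T.pairing r s = 0 ∧ c.T.pairing s r = 0 ∧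
    c.T.commTerms r s = [] ∧ c.T.commTerms r (D.neg s) = [] ∧
    c.T.commTerms (D.neg r) s = [] ∧ c.T.commTerms (D.neg r) (D.neg s) = []

theorem orth_of_strong {r s : ℕ} (hr : r < D.nroots) (hs : s < D.nroots)
    (h : c.T.strong r s = true) : c.Orth r s := by
  simp only [Tables.strong, Bool.and_eq_true, Bool.not_eq_true', List.isEmpty_iff, intZero_iff] at h
  rw [← c.neg_eq hr, ← c.neg_eq hs] at h
  obtain ⟨⟨⟨⟨⟨⟨⟨h1, h2⟩, h3⟩, h4⟩, h5⟩, h6⟩, h7⟩, h8⟩ := h
  refine ⟨fun e => ?_, fun e => ?_, h3, h4, h5, h6, h7, h8⟩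
  · rw [e] at h1; simp at h1
  · rw [e] at h2; simp at h2

variable {r s : ℕ} (hr : r < D.nroots) (hs : s < D.nroots) (h : c.Orth r s)
include hr hs h

theorem xg_commute_strong (a b : F) :
    Commute (c.xg r a) (c.xg s b) ∧ Commute (c.xg r a) (c.xg (D.neg s) b) ∧
      Commute (c.xg (D.neg r) a) (c.xg s b) ∧
      Commute (c.xg (D.neg r) a) (c.xg (D.neg s) b) := by
  obtain ⟨h1, h2, -, -, h5, h6, h7, h8⟩ := h
  have hnr := c.neg_lt hr
  have hns := c.neg_lt hs
  have n1 : D.neg s ≠ r := fun e => h2 (by rw [← e, c.neg_neg hs])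
  have n2 : D.neg s ≠ D.neg r := fun e => h1 (by rw [← c.neg_neg hs, e, c.neg_neg hr])
  have key : ∀ {x y : ℕ}, x < D.nroots → y < D.nroots → y ≠ x → y ≠ D.neg x →
      c.T.commTerms x y = [] → Commute (c.xg x a) (c.xg y b) := by
    intro x y hx hy e1 e2 e3
    have := c.xg_comm hx hy e1 e2 a b
    rw [e3] at this
    simp at this
    exact this.symm
  exact ⟨key hr hs h1 h2 h5, key hr hns n1 n2 h6,
    key hnr hs h2 (by rw [c.neg_neg hr]; exact h1) h7,
    key hnr hns n2 (by rw [c.neg_neg hr]; exact n1) h8⟩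

theorem ng_commute_strong (a b : F) : Commute (c.ng r a) (c.ng s b) := by
  have key : ∀ x, Commute (c.xg r x) (c.ng s b) ∧ Commute (c.xg (D.neg r) x) (c.ng s b) := by
    intro x
    have h' := fun y => c.xg_commute_strong hr hs h x y
    refine ⟨?_, ?_⟩ <;> simp only [Cert.ng]
    · exact ((h' b).1.mul_right (h' _).2.1).mul_right (h' b).1
    · exact ((h' b).2.2.1.mul_right (h' _).2.2.2).mul_right (h' b).2.2.1
  show Commute (c.xg r a * c.xg (D.neg r) (-a⁻¹) * c.xg r a) (c.ng s b)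
  exact ((key a).1.mul_left (key _).2).mul_left (key a).1

theorem ng_commute_xg (a v : F) : Commute (c.ng s a) (c.xg r v) := by
  have h' := fun y => c.xg_commute_strong hr hs h v y
  simp only [Cert.ng]
  exact (((h' a).1.mul_right (h' _).2.1).mul_right (h' a).1).symm

omit hr hs h
variable (hneg : c.T.checkPairNeg = true)
include hneg

omit hneg in
theorem pairing_neg_right (r : ℕ) {u : ℕ} (hu : u < D.nroots) :
    c.T.pairing r (D.neg u) = - c.T.pairing r u := by
  rw [c.pairing_eq_sum, c.pairing_eq_sum, ← Finset.sum_neg_distrib]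
  refine Finset.sum_congr rfl fun i hi => ?_
  rw [c.cartan_neg (Finset.mem_range.1 hi) hu, mul_neg]

theorem pairing_self_two {r : ℕ} (hr : r < D.nroots) : c.T.pairing r r = 2 := by
  simp only [Tables.checkPairNeg, c.allRoots_iff, Bool.and_eq_true] at hneg
  exact intBeq_imp_eq (hneg r hr).1

theorem pairing_neg_left {r : ℕ} (hr : r < D.nroots) (u : ℕ) :
    c.T.pairing (D.neg r) u = - c.T.pairing r u := by
  simp only [Tables.checkPairNeg, c.allRoots_iff, Bool.and_eq_true, Tables.allNodes,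
    List.all_eq_true, List.mem_range] at hneg
  rw [c.pairing_eq_sum, c.pairing_eq_sum, ← Finset.sum_neg_distrib]
  refine Finset.sum_congr rfl fun i hi => ?_
  rw [c.neg_eq hr, intBeq_imp_eq ((hneg r hr).2 i (c.rank_eq ▸ Finset.mem_range.1 hi)), neg_mul]

/-- A word negating `r` negates the pairing with `r`. -/
theorem pairing_wl_neg {L : List ℕ} (hL : ∀ p ∈ L, p < D.rank) {r u : ℕ} (hr : r < D.nroots)
    (hu : u < D.nroots) (hw : c.wl L r = D.neg r) :
    c.T.pairing r (c.wl L u) = - c.T.pairing r u := by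
  have e := c.pairing_wl hL hr hu
  rw [hw, c.pairing_neg_left hneg hr] at e
  omega

theorem refl_neg {R : List ℕ} {r : ℕ} (hR : c.IsRefl R r) (hr : r < D.nroots) :
    c.wl R r = D.neg r :=
  c.eq_of_vec (c.wl_lt hR.1 hr) (c.neg_lt hr) fun j hj => by
    rw [hR.2 r hr j hj, c.pairing_self_two hneg hr, c.vec_neg hr hj]; ring

omit hneg in
theorem refl_fix {R : List ℕ} {r u : ℕ} (hR : c.IsRefl R r) (hu : u < D.nroots)
    (h : c.T.pairing r u = 0) : c.wl R u = u :=
  c.eq_of_vec (c.wl_lt hR.1 hu) hu fun j hj => by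
    rw [hR.2 u hu j hj, h]; ring

theorem refl_refl {R : List ℕ} {r u : ℕ} (hR : c.IsRefl R r) (hr : r < D.nroots)
    (hu : u < D.nroots) : c.wl R (c.wl R u) = u :=
  c.eq_of_vec (c.wl_lt hR.1 (c.wl_lt hR.1 hu)) hu fun j hj => by
    rw [hR.2 _ (c.wl_lt hR.1 hu) j hj, hR.2 u hu j hj,
      c.pairing_wl_neg hneg hR.1 hr hu (c.refl_neg hneg hR hr)]
    ring

theorem refl_comm {L R : List ℕ} {r u : ℕ} (hL : ∀ p ∈ L, p < D.rank) (hR : c.IsRefl R r)
    (hr : r < D.nroots) (hu : u < D.nroots) (hw : c.wl L r = D.neg r) :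
    c.wl R (c.wl L u) = c.wl L (c.wl R u) := by
  refine c.eq_of_vec (c.wl_lt hR.1 (c.wl_lt hL hu)) (c.wl_lt hL (c.wl_lt hR.1 hu)) fun j hj => ?_
  rw [hR.2 _ (c.wl_lt hL hu) j hj, c.pairing_wl_neg hneg hL hr hu hw,
    c.wl_vec hL (c.wl_lt hR.1 hu) hj, Finset.sum_congr rfl fun i hi => by
      rw [hR.2 u hu i (Finset.mem_range.1 hi), sub_mul, mul_assoc],
    Finset.sum_sub_distrib, ← Finset.mul_sum, ← c.wl_vec hL hu hj, ← c.wl_vec hL hr hj, hw,
    c.vec_neg hr hj]
  ring

omit hneg in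
theorem refl_comm' {R S : List ℕ} {r s u : ℕ} (hR : c.IsRefl R r) (hS : c.IsRefl S s)
    (hr : r < D.nroots) (hs : s < D.nroots) (hu : u < D.nroots) (h : c.Orth r s) :
    c.wl R (c.wl S u) = c.wl S (c.wl R u) := by
  have fs : c.wl R s = s := c.refl_fix hR hs h.2.2.1
  have fr : c.wl S r = r := c.refl_fix hS hr h.2.2.2.1
  refine c.eq_of_vec (c.wl_lt hR.1 (c.wl_lt hS.1 hu)) (c.wl_lt hS.1 (c.wl_lt hR.1 hu))
    fun j hj => ?_
  have p1 : c.T.pairing r (c.wl S u) = c.T.pairing r u := by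
    have := c.pairing_wl hS.1 hr hu
    rwa [fr] at this
  have p2 : c.T.pairing s (c.wl R u) = c.T.pairing s u := by
    have := c.pairing_wl hR.1 hs hu
    rwa [fs] at this
  rw [hR.2 _ (c.wl_lt hS.1 hu) j hj, hS.2 _ (c.wl_lt hR.1 hu) j hj, hR.2 u hu j hj, hS.2 u hu j hj,
    p1, p2]
  ring

omit hneg in
theorem phi_wSL {r : ℕ} {φ : SL(2, F) →* GL D.Idx F} (hu : ∀ t, φ (upSL t) = c.xg r t)
    (hl : ∀ t, φ (loSL t) = c.xg (D.neg r) t) : φ wSL = c.ng r (1 : F) := by
  rw [← c.phi_ng hu hl]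
  congr 1
  refine ext_two ?_ ?_ ?_ ?_ <;> simp only [mul_val, upSL_val, loSL_val, wSL_val] <;>
    simp [Matrix.mul_apply, Fin.sum_univ_two]

omit hneg in
theorem ng_one_xg {r : ℕ} (hr : r < D.nroots) (v : F) :
    c.ng r (1 : F) * c.xg r v = c.xg (D.neg r) (-v) * c.ng r (1 : F) := by
  obtain ⟨φ, -, hu, hl⟩ := c.exists_rankOneHom (F := F) hr
  rw [← c.phi_wSL hu hl, ← hu, ← hl, ← map_mul, ← map_mul]
  congr 1
  refine ext_two ?_ ?_ ?_ ?_ <;> simp only [mul_val, upSL_val, loSL_val, wSL_val] <;>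
    simp [Matrix.mul_apply, Fin.sum_univ_two]

omit hneg in
theorem ng_one_sq {r : ℕ} (hr : r < D.nroots) :
    c.ng r (1 : F) * c.ng r 1 = c.hg r (-1 : F) := by
  obtain ⟨φ, -, hu, hl⟩ := c.exists_rankOneHom (F := F) hr
  rw [Cert.hg, ← c.phi_ng hu hl, ← c.phi_ng hu hl, ← map_mul, ← map_mul]
  congr 1
  refine ext_two ?_ ?_ ?_ ?_ <;> simp only [mul_val, upSL_val, loSL_val] <;>
    simp [Matrix.mul_apply, Fin.sum_univ_two]

omit hneg in
theorem torus_conj_ng {r : ℕ} (hr : r < D.nroots) (z : ℕ → Fˣ) :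
    c.ng r (1 : F) * c.torus z * (c.ng r (1 : F))⁻¹ =
      (c.hg r ((c.tchar z r : Fˣ) : F))⁻¹ * c.torus z := by
  have e : c.torus z * c.ng r (1 : F) * (c.torus z)⁻¹ = c.ng r ((c.tchar z r : Fˣ) : F) := by
    show MulAut.conj (c.torus z) (c.ng r 1) = _
    simp only [Cert.ng, map_mul, MulAut.conj_apply, c.torus_conj_xg z hr,
      c.torus_conj_xg z (c.neg_lt hr), c.tchar_neg z hr, mul_one, inv_one, mul_neg,
      Units.val_inv_eq_inv_val]
  have e2 : c.ng r ((c.tchar z r : Fˣ) : F) = c.hg r ((c.tchar z r : Fˣ) : F) * c.ng r 1 := by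
    rw [Cert.hg, show c.ng r (-1 : F) = (c.ng r 1)⁻¹ from (c.ng_inv r 1).symm, mul_assoc,
      inv_mul_cancel, mul_one]
  rw [e2] at e
  calc c.ng r (1 : F) * c.torus z * (c.ng r (1 : F))⁻¹
      = (c.hg r ((c.tchar z r : Fˣ) : F))⁻¹ *
          (c.hg r ((c.tchar z r : Fˣ) : F) * c.ng r 1) * c.torus z * (c.ng r 1)⁻¹ := by group
    _ = _ := by rw [← e]; group

/-- Word of a product of reflections. -/
theorem frame_parity [Fintype F] {t : GL D.Idx F} (ht2 : t * t = 1) {a : GL D.Idx F}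
    (ha : a ∈ D.diagonalSubgroup F) {L : List ℕ} (hL : ∀ p ∈ L, p < D.rank)
    (hte : t = a * c.nw F L) {ps : List ℕ} (hps : ∀ r ∈ ps, r < D.nroots)
    (hpw : ps.Pairwise c.Orth) (hw : ∀ r ∈ ps, c.wl L r = D.neg r)
    (hall : ∀ s < D.nroots, c.wl L s = D.neg s → s ∈ ps ∨ D.neg s ∈ ps)
    (hns : ∀ r ∈ ps, ∀ k : Fˣ, c.Coef t r k → ¬ IsSquare (k : F)) :
    ∀ u < D.nroots, (ps.map fun r => c.T.pairing r u).sum % 2 = 0 := by
  classical
  choose R hR hRv using fun r : {r // r < D.nroots} => c.exists_refl (F := F) r.2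
  let Rw : ℕ → List ℕ := fun r => if h : r < D.nroots then R ⟨r, h⟩ else []
  have hRw : ∀ r ∈ ps, c.IsRefl (Rw r) r := fun r hr => by
    simp only [Rw, dif_pos (hps r hr)]; exact hR ⟨r, hps r hr⟩
  have hRwv : ∀ r ∈ ps, ∀ v : F, v ≠ 0 → ∃ a ∈ D.diagonalSubgroup F,
      c.ng r v = a * c.nw F (Rw r) := fun r hr v hv => by
    simp only [Rw, dif_pos (hps r hr)]; exact hRv ⟨r, hps r hr⟩ v hv
  set P : List ℕ → List ℕ := fun l => l.flatMap Rw
  set M : List ℕ → GL D.Idx F := fun l => (l.map fun r => c.ng r (1 : F)).prod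
  set K : List ℕ → GL D.Idx F := fun l => (l.map fun r => c.ng r (-1 : F)).prod
  have hPlt : ∀ l, (∀ r ∈ l, r ∈ ps) → ∀ p ∈ P l, p < D.rank := fun l hl p hp => by
    simp only [P, List.mem_flatMap] at hp
    obtain ⟨r, hr, hp⟩ := hp
    exact (hRw r (hl r hr)).1 p hp
  -- the product of the reflections
  have main : ∀ l : List ℕ, (∀ r ∈ l, r ∈ ps) → l.Pairwise c.Orth →
      (∃ b ∈ D.diagonalSubgroup F, K l = b * c.nw F (P l)) ∧
      K l * M l = 1 ∧
      (∀ z : ℕ → Fˣ, M l * c.torus z * (M l)⁻¹ =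
        c.torus z * ((l.map fun r => (c.hg r ((c.tchar z r : Fˣ) : F))⁻¹)).prod) ∧
      M l * M l = ((l.map fun r => c.hg r (-1 : F))).prod ∧
      (∀ u < D.nroots, (∀ r ∈ l, c.T.pairing r u = 0) → c.wl (P l) u = u) ∧
      (∀ r ∈ l, c.wl (P l) r = D.neg r) ∧
      (∀ u < D.nroots, c.wl (P l) (c.wl (P l) u) = u) ∧
      (∀ u < D.nroots, c.wl (P l) (c.wl L u) = c.wl L (c.wl (P l) u)) := by
    intro l
    induction l with
    | nil => intro _ _; simp [M, K, P, one_mem]
    | cons r l ih =>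
      intro hl hpl
      obtain ⟨hrl, hpl'⟩ := List.pairwise_cons.1 hpl
      have hl' : ∀ x ∈ l, x ∈ ps := fun x hx => hl x (by simp [hx])
      obtain ⟨⟨b, hb, eK⟩, hKM, hconj, hsq, hfix, hnegl, hinv, hcomm⟩ := ih hl' hpl'
      have hrp : r ∈ ps := hl r (by simp)
      have hr : r < D.nroots := hps r hrp
      have hRr := hRw r hrp
      have hcK : ∀ v : F, Commute (c.ng r v) (K l) := fun v => by
        refine Commute.list_prod_right _ _ fun x hx => ?_
        obtain ⟨y, hy, rfl⟩ := List.mem_map.1 hx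
        exact c.ng_commute_strong hr (hps y (hl' y hy)) (hrl y hy) v (-1)
      have hcM : ∀ v : F, Commute (c.ng r v) (M l) := fun v => by
        refine Commute.list_prod_right _ _ fun x hx => ?_
        obtain ⟨y, hy, rfl⟩ := List.mem_map.1 hx
        exact c.ng_commute_strong hr (hps y (hl' y hy)) (hrl y hy) v 1
      have hPr : ∀ x, c.wl (P (r :: l)) x = c.wl (Rw r) (c.wl (P l) x) := fun x => by
        simp only [P, List.flatMap_cons]; rw [c.wl_append]
      have hPl := hPlt l hl'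
      have hcomR : ∀ u < D.nroots, c.wl (Rw r) (c.wl (P l) u) = c.wl (P l) (c.wl (Rw r) u) := by
        clear hfix hnegl hinv hcomm hconj hsq hKM eK hcK hcM hPr
        clear hpl' ih
        induction l with
        | nil => intro u _; simp [P]
        | cons y l ih2 =>
          intro u hu
          have hy : y ∈ ps := hl' y (by simp)
          have hl'' : ∀ x ∈ l, x ∈ ps := fun x hx => hl' x (by simp [hx])
          have hPy : ∀ x, c.wl (P (y :: l)) x = c.wl (Rw y) (c.wl (P l) x) := fun x => by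
            simp only [P, List.flatMap_cons]; rw [c.wl_append]
          rw [hPy, hPy, c.refl_comm' hRr (hRw y hy) hr (hps y hy) (c.wl_lt (hPlt l hl'') hu)
            (hrl y (by simp)),
            ih2 (fun x hx => hl x (by
                simp only [List.mem_cons] at hx ⊢
                tauto))
              (List.pairwise_cons.2 ⟨fun x hx => hrl x (by simp [hx]),
                (List.pairwise_cons.1 (List.pairwise_cons.1 hpl).2).2⟩)
              (fun x hx => hrl x (by simp [hx])) hl'' (hPlt l hl'') u hu]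
      refine ⟨?_, ?_, fun z => ?_, ?_, fun u hu h0 => ?_, fun x hx => ?_, fun u hu => ?_,
        fun u hu => ?_⟩
      · obtain ⟨a1, ha1, e1⟩ := hRwv r hrp (-1) (neg_ne_zero.2 one_ne_zero)
        obtain ⟨d, hd, e2⟩ := c.mono_mul (F := F) ha1 hb (M := P l) hRr.1
        refine ⟨d, hd, ?_⟩
        show c.ng r (-1 : F) * K l = _
        rw [e1, eK, e2]
        rfl
      · show c.ng r (-1 : F) * K l * (c.ng r 1 * M l) = 1
        rw [(hcK (-1)).eq, mul_assoc, ← mul_assoc (c.ng r (-1)) (c.ng r 1),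
          show c.ng r (-1 : F) = (c.ng r 1)⁻¹ from (c.ng_inv r 1).symm, inv_mul_cancel, one_mul, hKM]
      · show c.ng r 1 * M l * c.torus z * (c.ng r 1 * M l)⁻¹ = _
        have hH : ∀ x ∈ l, Commute (c.ng r (1 : F)) (c.hg x ((c.tchar z x : Fˣ) : F))⁻¹ := by
          intro x hx
          refine Commute.inv_right ?_
          simp only [Cert.hg]
          exact (c.ng_commute_strong hr (hps x (hl' x hx)) (hrl x hx) _ _).mul_right
            (c.ng_commute_strong hr (hps x (hl' x hx)) (hrl x hx) _ _)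
        set Hl := (l.map fun r => (c.hg r ((c.tchar z r : Fˣ) : F))⁻¹).prod with hHl
        have hHc : Commute (c.ng r (1 : F)) Hl := by
          refine Commute.list_prod_right _ _ fun x hx => ?_
          obtain ⟨y, hy, rfl⟩ := List.mem_map.1 hx
          exact hH y hy
        have hHr : Commute (c.hg r ((c.tchar z r : Fˣ) : F))⁻¹ (c.torus z) := by
          have h1 := inv_mem (c.hg_mem (F := F) hr (c.tchar z r).ne_zero)
          exact c.H_commutative h1 (c.diagonalSubgroup_eq (F := F) ▸ ⟨z, rfl⟩)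
        calc c.ng r 1 * M l * c.torus z * (c.ng r 1 * M l)⁻¹
            = c.ng r 1 * (M l * c.torus z * (M l)⁻¹) * (c.ng r 1)⁻¹ := by group
          _ = (c.ng r 1 * c.torus z * (c.ng r 1)⁻¹) * (c.ng r 1 * Hl * (c.ng r 1)⁻¹) := by
              rw [hconj z, ← hHl]; group
          _ = c.torus z * (c.hg r ((c.tchar z r : Fˣ) : F))⁻¹ * Hl := by
              rw [c.torus_conj_ng hr, hHr.eq, hHc.eq, mul_inv_cancel_right]
          _ = _ := by rw [List.map_cons, List.prod_cons, mul_assoc, ← hHl]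
      · show c.ng r 1 * M l * (c.ng r 1 * M l) = _
        rw [List.map_cons, List.prod_cons, ← hsq, ← c.ng_one_sq hr,
          mul_assoc (c.ng r 1) (M l), ← mul_assoc (M l) (c.ng r 1), ← (hcM 1).eq]
        group
      · rw [hPr, hfix u hu fun y hy => h0 y (by simp [hy]), c.refl_fix hRr hu (h0 r (by simp))]
      · rw [hPr]
        rcases List.mem_cons.1 hx with rfl | hx'
        · rw [hfix x hr fun y hy => (hrl y hy).2.2.2.1, c.refl_neg hneg hRr hr]
        · have hxl := hps x (hl' x hx')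
          rw [hnegl x hx', c.wl_neg hRr.1 hxl, c.refl_fix hRr hxl (hrl x hx').2.2.1]
      · rw [hPr, hPr, ← hcomR _ (c.wl_lt hPl hu),
          c.refl_refl hneg hRr hr (c.wl_lt hPl (c.wl_lt hPl hu)), hinv u hu]
      · rw [hPr, hPr, hcomm u hu, c.refl_comm hneg hL hRr hr (c.wl_lt hPl hu) (hw r hrp)]
  obtain ⟨⟨b, hb, eK⟩, hKM, hconj, hsq, hfix, hnegP, hinv, hcomm⟩ := main ps (fun r hr => hr) hpw
  have hPs := hPlt ps fun r hr => hr
  -- the torus part
  obtain ⟨d, hd, ed⟩ := c.mono_mul (F := F) ha hb (M := P ps) hL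
  rw [← hte, ← eK] at ed
  have hLP : ∀ p ∈ L ++ P ps, p < D.rank := fun p hp =>
    (List.mem_append.1 hp).elim (hL p) (hPs p)
  have hLinv : ∀ u < D.nroots, c.wl L (c.wl L u) = u := fun u hu =>
    c.wl_of_sq ha hL (by rw [← hte]; exact ht2) hu
  have hid : ∀ u < D.nroots, c.wl (L ++ P ps) u = u := by
    by_contra hne
    push Not at hne
    obtain ⟨x, hx, hxneg⟩ := c.exists_negated (L ++ P ps) hLP (fun u hu => by
      rw [c.wl_append, c.wl_append, hcomm _ (c.wl_lt hPs hu), hLinv _ (c.wl_lt hPs (c.wl_lt hPs hu)),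
        hinv u hu]) hne
    have h0 : ∀ r ∈ ps, c.T.pairing r x = 0 := by
      intro r hr
      have hπr : c.wl (L ++ P ps) r = r := by
        rw [c.wl_append, hnegP r hr, c.wl_neg hL (hps r hr), hw r hr, c.neg_neg (hps r hr)]
      have e := c.pairing_wl hLP (hps r hr) hx
      rw [hπr, hxneg, c.pairing_neg_right r hx] at e
      omega
    rw [c.wl_append, hfix x hx h0] at hxneg
    rcases hall x hx hxneg with h | h
    · have := h0 x h
      rw [c.pairing_self_two hneg hx] at this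
      omega
    · have := h0 _ h
      rw [c.pairing_neg_left hneg hx, c.pairing_self_two hneg hx] at this
      omega
  have hzH : t * K ps ∈ D.diagonalSubgroup F := by
    rw [ed]
    exact c.mem_H_of_wl hd hLP fun q hq => by rw [hid _ (c.simple_lt hq)]; exact c.pos_simple hq
  rw [c.diagonalSubgroup_eq] at hzH
  obtain ⟨z, hz⟩ := hzH
  have hte' : t = c.torus z * M ps := by rw [hz, mul_assoc, hKM, mul_one]
  have hk : ∀ r ∈ ps, sgnU F (-(c.tchar z r)⁻¹) = -1 := by
    intro r hr
    rw [sgnU_eq_neg_one_iff]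
    refine hns r hr _ fun v => ?_
    obtain ⟨A, B, hAB⟩ := List.append_of_mem hr
    have hsplit := hpw
    rw [hAB, List.pairwise_append, List.pairwise_cons] at hsplit
    obtain ⟨-, ⟨hrB, -⟩, hAr⟩ := hsplit
    have hB : Commute (M B) (c.xg r v) := by
      refine Commute.list_prod_left _ _ fun x hx => ?_
      obtain ⟨y, hy, rfl⟩ := List.mem_map.1 hx
      have hy' : y ∈ ps := hAB ▸ by simp [hy]
      exact c.ng_commute_xg (hps r hr) (hps y hy') (hrB y hy) 1 v
    have hA : ∀ w : F, Commute (M A) (c.xg (D.neg r) w) := fun w => by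
      refine Commute.list_prod_left _ _ fun x hx => ?_
      obtain ⟨y, hy, rfl⟩ := List.mem_map.1 hx
      have hy' : y ∈ ps := hAB ▸ by simp [hy]
      have h := fun q => c.xg_commute_strong (hps y hy') (hps r hr) (hAr y hy r (by simp)) q w
      simp only [Cert.ng]
      exact ((h 1).2.1.mul_left (h _).2.2.2).mul_left (h 1).2.1
    have eM : M ps = M A * (c.ng r 1 * M B) := by
      simp [M, hAB]
    rw [hte', eM]
    calc c.torus z * (M A * (c.ng r 1 * M B)) * c.xg r v
        = c.torus z * M A * (c.ng r 1 * c.xg r v) * M B := by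
          rw [mul_assoc (c.torus z), mul_assoc (M A), mul_assoc (c.ng r 1), hB.eq]; group
      _ = c.torus z * (M A * c.xg (D.neg r) (-v)) * c.ng r 1 * M B := by
          rw [c.ng_one_xg (hps r hr)]; group
      _ = (c.torus z * c.xg (D.neg r) (-v) * (c.torus z)⁻¹) * (c.torus z * (M A * (c.ng r 1 * M B))) := by
          rw [(hA (-v)).eq]; group
      _ = _ := by
          rw [c.torus_conj_xg z (c.neg_lt (hps r hr)), c.tchar_neg z (hps r hr)]
          congr 2
          simp
  -- evaluate the square at a root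
  have e2 : c.torus z * (c.torus z * ((ps.map fun r => (c.hg r ((c.tchar z r : Fˣ) : F))⁻¹)).prod) *
      ((ps.map fun r => c.hg r (-1 : F))).prod = 1 := by
    rw [← hconj z, ← hsq, ← ht2, hte']
    group
  intro u hu
  have hdg : c.torus z * (c.torus z * ((ps.map fun r => (c.hg r ((c.tchar z r : Fˣ) : F))⁻¹)).prod) *
      ((ps.map fun r => c.hg r (-1 : F))).prod =
      dg D F (c.tchar z * (c.tchar z * (ps.map fun r => (c.pairChar r (c.tchar z r))⁻¹).prod) *
        (ps.map fun r => c.pairChar r (-1 : Fˣ)).prod) := by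
    simp only [map_mul, map_list_prod, List.map_map, Cert.torus_apply]
    congr 1
    · congr 2
      refine congrArg List.prod (List.map_congr_left fun r hr => ?_)
      rw [Function.comp_apply, map_inv, c.hg_eq (hps r hr)]
    · refine congrArg List.prod (List.map_congr_left fun r hr => ?_)
      rw [Function.comp_apply, show (-1 : F) = ((-1 : Fˣ) : F) by simp, c.hg_eq (hps r hr)]
  rw [hdg, show (1 : GL D.Idx F) = dg D F 1 from (map_one _).symm, dg_eq_iff] at e2
  have e3 := congrArg (sgnU F) (e2 u hu)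
  simp only [Pi.mul_apply, Pi.one_apply, map_one, map_mul] at e3
  rw [← mul_assoc, Int.units_mul_self, one_mul] at e3
  have e4 : ∀ l : List ℕ, (∀ r ∈ l, r ∈ ps) →
      sgnU F (((l.map fun r => (c.pairChar r (c.tchar z r))⁻¹).prod : ℕ → Fˣ) u) *
        sgnU F (((l.map fun r => c.pairChar r (-1 : Fˣ)).prod : ℕ → Fˣ) u) =
      (-1) ^ (l.map fun r => c.T.pairing r u).sum := by
    intro l
    induction l with
    | nil => intro _; simp
    | cons r l ih =>
      intro hl
      have := ih fun x hx => hl x (by simp [hx])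
      simp only [List.map_cons, List.prod_cons, Pi.mul_apply, Pi.inv_apply, map_mul, List.sum_cons]
      rw [_root_.zpow_add, ← this, mul_mul_mul_comm]
      congr 1
      show sgnU F (c.tchar z r ^ c.T.pairing r u)⁻¹ * sgnU F ((-1) ^ c.T.pairing r u) = _
      rw [← map_mul, ← _root_.inv_zpow, ← _root_.mul_zpow, map_zpow,
        show (c.tchar z r)⁻¹ * (-1 : Fˣ) = -(c.tchar z r)⁻¹ by simp, hk r (hl r (by simp))]
  rw [e4 ps fun r hr => hr] at e3
  by_contra hodd
  rw [Odd.neg_one_zpow (Int.odd_iff.2 (by omega))] at e3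
  exact absurd e3 (by decide)

end CertFull

end Cfsg.Agent.Lie.Chev
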