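import Cfsg.Agent.Lib.Lie.Chev.Bruhat
import Cfsg.Agent.Lib.Lie.Chev.Props
import Cfsg.Agent.Lib.Lie.Chev.FieldAut

/-!
Elements of a Chevalley group as members of the group, coordinates of the torus, and the rank one
identities in these coordinates.
-/

set_option autoImplicit false

namespace Cfsg.Agent.Lie.Chev

open Cfsg.Lie Matrix

namespace CertFull

variable {D : ChevalleyDatum} (c : CertFull D) {F : Type*} [Field F]
include c

theorem xg_mem_all (r : ℕ) (t : F) : c.xg r t ∈ D.group F := by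
  by_cases hr : r < D.nroots
  · exact c.xg_mem_group hr t
  · have e : c.xg r t = 1 := Units.ext (by simp [ChevalleyDatum.x, hr])
    rw [e]
    exact one_mem _

/-- A root element as a member of the group. -/
def mxG (r : ℕ) (t : F) : ↥(D.group F) := ⟨c.xg r t, c.xg_mem_all r t⟩

/-- The element `n_p` as a member of the group. -/
def nG (F : Type*) [Field F] (p : ℕ) : ↥(D.group F) :=
  ⟨c.np F p, mul_mem (mul_mem (c.xg_mem_all _ _) (c.xg_mem_all _ _)) (c.xg_mem_all _ _)⟩

theorem nw_mem_all (L : List ℕ) : c.nw F L ∈ D.group F := by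
  refine Subgroup.list_prod_mem _ fun g hg => ?_
  obtain ⟨p, -, rfl⟩ := List.mem_map.1 hg
  exact (c.nG F p).2

/-- A word as a member of the group. -/
def wG (F : Type*) [Field F] (L : List ℕ) : ↥(D.group F) := ⟨c.nw F L, c.nw_mem_all L⟩

theorem wG_cons (p : ℕ) (L : List ℕ) : c.wG F (p :: L) = c.nG F p * c.wG F L :=
  Subtype.ext (c.nw_cons p L)

theorem wG_nil : c.wG F [] = 1 := Subtype.ext (c.nw_nil)

theorem wG_append (A B : List ℕ) : c.wG F (A ++ B) = c.wG F A * c.wG F B :=
  Subtype.ext (c.nw_append A B)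

theorem KS_le_group (S : Set ℕ) (m : ℕ) : c.KS F S m ≤ D.group F := by
  refine (Subgroup.closure_le _).2 ?_
  rintro g ⟨r, t, -, -, rfl⟩
  exact c.xg_mem_all r t

omit c in
/-- Coordinates extended by `1`. -/
def padT (z : Fin D.rank → Fˣ) (i : ℕ) : Fˣ := if h : i < D.rank then z ⟨i, h⟩ else 1

omit c in
theorem pad_lt (z : Fin D.rank → Fˣ) {i : ℕ} (h : i < D.rank) : padT z i = z ⟨i, h⟩ := dif_pos h

theorem torus_congr_coords {z z' : ℕ → Fˣ} (h : ∀ i < D.rank, z i = z' i) :
    c.torus z = c.torus z' := by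
  rw [c.torus_eq_prod, c.torus_eq_prod]
  congr 1
  exact List.map_congr_left fun i hi => by rw [h i (List.mem_range.1 hi)]

/-- The torus in coordinates. -/
def theta : (Fin D.rank → Fˣ) →* ↥(D.group F) where
  toFun z := ⟨c.torus (padT z), c.B_le_group (c.H_le_B (c.torus_mem _))⟩
  map_one' := Subtype.ext (by
    show c.torus (padT 1) = 1
    rw [← map_one (c.torus (F := F))]
    exact c.torus_congr_coords fun i hi => by rw [pad_lt _ hi]; rfl)
  map_mul' z z' := Subtype.ext (by
    show c.torus (padT (z * z')) = c.torus (padT z) * c.torus (padT z')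
    rw [← map_mul]
    exact c.torus_congr_coords fun i hi => by rw [Pi.mul_apply, pad_lt _ hi, pad_lt _ hi, pad_lt _ hi]; rfl)

theorem exists_theta {g : ↥(D.group F)} (hg : (g : GL D.Idx F) ∈ D.diagonalSubgroup F) :
    ∃ z, c.theta z = g := by
  rw [c.diagonalSubgroup_eq] at hg
  obtain ⟨z, hz⟩ := hg
  exact ⟨fun i => z i, Subtype.ext ((c.torus_congr_coords fun i hi => pad_lt _ hi).trans hz)⟩

theorem theta_mem (z : Fin D.rank → Fˣ) :
    ((c.theta z : ↥(D.group F)) : GL D.Idx F) ∈ D.diagonalSubgroup F := c.torus_mem _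

theorem theta_injective [Fintype F]
    (hH : Nat.card (D.diagonalSubgroup F) = (Fintype.card F - 1) ^ D.rank) :
    Function.Injective (c.theta (F := F)) := by
  intro z z' h
  funext i
  have := c.torus_injective hH _ _ (congrArg Subtype.val h) i i.2
  rwa [pad_lt _ i.2, pad_lt _ i.2] at this

/-- The fundamental reflection on coordinates. -/
def sig (p : Fin D.rank) (z : Fin D.rank → Fˣ) : Fin D.rank → Fˣ :=
  Function.update z p (z p * ∏ i : Fin D.rank, z i ^ (-c.T.cartan i (D.simple p)))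

theorem cartan_two {p : ℕ} (hp : p < D.rank) : c.T.cartan p (D.simple p) = 2 := by
  rw [← c.cartan_eq hp (c.simple_lt hp)]
  exact c.cartan_simple_self hp

theorem sig_sig (p : Fin D.rank) (z : Fin D.rank → Fˣ) : c.sig p (c.sig p z) = z := by
  funext j
  rcases eq_or_ne j p with rfl | hj
  · have hprod : ∏ i : Fin D.rank, c.sig j z i ^ (-c.T.cartan i (D.simple j)) =
        (∏ i : Fin D.rank, z i ^ (-c.T.cartan i (D.simple j))) *
          (∏ i : Fin D.rank, z i ^ (-c.T.cartan i (D.simple j))) ^ (-2 : ℤ) := by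
      rw [← Finset.mul_prod_erase Finset.univ _ (Finset.mem_univ j)]
      conv_rhs => arg 1; rw [← Finset.mul_prod_erase Finset.univ _ (Finset.mem_univ j)]
      rw [Finset.prod_congr rfl fun i hi => show c.sig j z i ^ (-c.T.cartan i (D.simple j)) =
        z i ^ (-c.T.cartan i (D.simple j)) by rw [sig, Function.update_of_ne (Finset.mem_erase.1 hi).1]]
      rw [sig, Function.update_self, c.cartan_two j.2, mul_zpow]
      ac_rfl
    show Function.update _ j _ j = _
    rw [Function.update_self, hprod, sig, Function.update_self]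
    generalize ∏ i : Fin D.rank, z i ^ (-c.T.cartan i (D.simple j)) = P
    rw [show (-2 : ℤ) = -((2 : ℕ) : ℤ) from rfl, _root_.zpow_neg, zpow_natCast, pow_two]
    group
  · show Function.update _ p _ j = _
    rw [Function.update_of_ne hj, sig, Function.update_of_ne hj]

theorem sig_single (p : Fin D.rank) (a : Fˣ) :
    c.sig p (Pi.mulSingle p a) = Pi.mulSingle p a⁻¹ := by
  funext j
  rcases eq_or_ne j p with rfl | hj
  · rw [sig, Function.update_self, Pi.mulSingle_eq_same, Pi.mulSingle_eq_same,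
      Finset.prod_eq_single j (fun b _ hb => by rw [Pi.mulSingle_eq_of_ne hb, _root_.one_zpow])
        (fun h => absurd (Finset.mem_univ _) h), Pi.mulSingle_eq_same, c.cartan_two j.2]
    group
  · rw [sig, Function.update_of_ne hj, Pi.mulSingle_eq_of_ne hj, Pi.mulSingle_eq_of_ne hj]

theorem tchar_sig {p : ℕ} (hp : p < D.rank) (z : Fin D.rank → Fˣ) {u : ℕ} (hu : u < D.nroots) :
    c.tchar (padT z) (c.w p u) = c.tchar (padT (c.sig ⟨p, hp⟩ z)) u := by
  have hA : ∀ i : Fin D.rank, c.T.cartan i (c.w p u) =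
      c.T.cartan i u - c.T.cartan p u * c.T.cartan i (D.simple p) := fun i => by
    rw [← c.cartan_eq i.2 (c.w_lt hp hu), c.cartan_w hp hu i.2, c.cartan_eq i.2 hu,
      c.cartan_eq hp hu, c.cartan_eq i.2 (c.simple_lt hp)]
  have hpad : ∀ (y : Fin D.rank → Fˣ) (v : ℕ),
      c.tchar (padT y) v = ∏ i : Fin D.rank, y i ^ c.T.cartan i v := fun y v => by
    rw [Cert.tchar, Finset.prod_range]
    exact Finset.prod_congr rfl fun i _ => by rw [pad_lt _ i.2]
  rw [hpad, hpad]
  have e : ∀ i : Fin D.rank, c.sig ⟨p, hp⟩ z i ^ c.T.cartan i u = z i ^ c.T.cartan i u *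
      (if i = ⟨p, hp⟩ then
        (∏ i : Fin D.rank, z i ^ (-c.T.cartan i (D.simple p))) ^ c.T.cartan p u else 1) := by
    intro i
    rcases eq_or_ne i ⟨p, hp⟩ with rfl | hi
    · rw [sig, Function.update_self, if_pos rfl, mul_zpow]
    · rw [sig, Function.update_of_ne hi, if_neg hi, mul_one]
  rw [Finset.prod_congr rfl fun i _ => e i, Finset.prod_mul_distrib, Finset.prod_ite_eq',
    if_pos (Finset.mem_univ _), ← Finset.prod_zpow, ← Finset.prod_mul_distrib]
  refine Finset.prod_congr rfl fun i _ => ?_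
  rw [hA, ← _root_.zpow_mul, ← _root_.zpow_add]
  congr 1
  ring

theorem nG_mul_theta (p : Fin D.rank) (z : Fin D.rank → Fˣ) :
    c.nG F p * c.theta z = c.theta (c.sig p z) * c.nG F p := by
  refine Subtype.ext ?_
  show c.ng (D.simple p) 1 * dg D F (c.tchar (padT z)) =
    dg D F (c.tchar (padT (c.sig p z))) * c.ng (D.simple p) 1
  rw [c.ng_dg p.2]
  congr 1
  exact dg_ext D F fun u hu => c.tchar_sig p.2 z hu

theorem theta_mul_nG (p : Fin D.rank) (z : Fin D.rank → Fˣ) :
    c.theta z * c.nG F p = c.nG F p * c.theta (c.sig p z) := by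
  rw [c.nG_mul_theta, c.sig_sig]

/-- The coordinates moved through a word. -/
def sigL : List ℕ → (Fin D.rank → Fˣ) → Fin D.rank → Fˣ
  | [], z => z
  | p :: L, z => if h : p < D.rank then sigL L (c.sig ⟨p, h⟩ z) else z

theorem sigL_append {A : List ℕ} (hA : ∀ q ∈ A, q < D.rank) (B : List ℕ) (z : Fin D.rank → Fˣ) :
    c.sigL (A ++ B) z = c.sigL B (c.sigL A z) := by
  induction A generalizing z with
  | nil => rfl
  | cons p A ih =>
    have hp : p < D.rank := hA p (by simp)
    rw [List.cons_append, sigL, dif_pos hp, ih fun q hq => hA q (by simp [hq]), sigL, dif_pos hp]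

theorem theta_mul_wG {L : List ℕ} (hL : ∀ q ∈ L, q < D.rank) (z : Fin D.rank → Fˣ) :
    c.theta z * c.wG F L = c.wG F L * c.theta (c.sigL L z) := by
  induction L generalizing z with
  | nil => rw [c.wG_nil, sigL, mul_one, one_mul]
  | cons p L ih =>
    have hp : p < D.rank := hL p (by simp)
    rw [c.wG_cons, sigL, dif_pos hp, ← mul_assoc, c.theta_mul_nG ⟨p, hp⟩, mul_assoc,
      ih (fun q hq => hL q (by simp [hq])), mul_assoc]

theorem wG_mul_theta {L : List ℕ} (hL : ∀ q ∈ L, q < D.rank) (z : Fin D.rank → Fˣ) :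
    ∃ z', c.wG F L * c.theta z = c.theta z' * c.wG F L := by
  induction L with
  | nil => exact ⟨z, by rw [c.wG_nil, one_mul, mul_one]⟩
  | cons p L ih =>
    have hp : p < D.rank := hL p (by simp)
    obtain ⟨z', hz'⟩ := ih fun q hq => hL q (by simp [hq])
    exact ⟨c.sig ⟨p, hp⟩ z', by
      rw [c.wG_cons, mul_assoc, hz', ← mul_assoc, c.nG_mul_theta ⟨p, hp⟩, mul_assoc]⟩

theorem hg_simple (p : Fin D.rank) (a : Fˣ) :
    c.hg (D.simple p) (a : F) = ((c.theta (Pi.mulSingle p a) : ↥(D.group F)) : GL D.Idx F) := by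
  rw [c.hg_eq_torus (c.simple_lt p.2)]
  refine c.torus_congr_coords fun i hi => ?_
  rw [(c.linear_node p.2).2 i hi, pad_lt _ hi]
  rcases eq_or_ne i (p : ℕ) with rfl | hne
  · rw [if_pos rfl, zpow_one, Fin.eta, Pi.mulSingle_eq_same]
  · rw [if_neg (Ne.symm hne), zpow_zero, Pi.mulSingle_eq_of_ne fun e => hne (congrArg Fin.val e)]

theorem nG_mul_xG {p : ℕ} (hp : p < D.rank) {s : ℕ} (hs : s < D.nroots) (t : F) :
    c.nG F p * c.mxG s t = c.mxG (c.w p s) ((c.T.eta p s : F) * t) * c.nG F p :=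
  Subtype.ext (c.ng_conj hp hs t)

theorem theta_mul_xG (z : Fin D.rank → Fˣ) {s : ℕ} (hs : s < D.nroots) (t : F) :
    c.theta z * c.mxG s t = c.mxG s ((c.tchar (padT z) s : F) * t) * c.theta z :=
  Subtype.ext (c.dg_mul_xg (c.tchar_isRootCharacter _) hs t)

theorem mxG_zero (r : ℕ) : c.mxG r (0 : F) = 1 := Subtype.ext (c.xg_zero r)

theorem mxG_add (r : ℕ) (t u : F) : c.mxG r (t + u) = c.mxG r t * c.mxG r u :=
  Subtype.ext (c.xg_add r t u)

theorem nG_sq (p : Fin D.rank) :
    c.nG F p * c.nG F p = c.theta (Pi.mulSingle p (-1 : Fˣ)) := by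
  refine Subtype.ext ?_
  rw [← c.hg_simple, Units.val_neg, Units.val_one, Subgroup.coe_mul]
  have e := c.np_inv (F := F) p.2
  have h1 : c.hg (D.simple p) (-1 : F) * c.hg (D.simple p) (-1 : F) = 1 := by
    rw [← Units.val_one, ← Units.val_neg, c.hg_simple, ← Subgroup.coe_mul, ← map_mul,
      ← Pi.mulSingle_mul]
    simp
  have h2 : c.np F p * c.np F p = (c.hg (D.simple p) (-1 : F))⁻¹ := by
    rw [eq_inv_iff_mul_eq_one]
    have e3 : c.hg (D.simple p) (-1 : F) = (c.np F p)⁻¹ * (c.np F p)⁻¹ := by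
      conv_rhs => arg 1; rw [e]
      rw [mul_assoc, mul_inv_cancel, mul_one]
    rw [e3]
    group
  show c.np F p * c.np F p = _
  rw [h2, inv_eq_of_mul_eq_one_right h1]

/-- The rank one identity in coordinates. -/
theorem mxG_neg_eq (p : Fin D.rank) (b : Fˣ) :
    c.mxG (D.neg (D.simple p)) (b : F) = c.mxG (D.simple p) (b : F)⁻¹ *
      (c.theta (Pi.mulSingle p (-b⁻¹)) * c.nG F p) * c.mxG (D.simple p) (b : F)⁻¹ := by
  refine Subtype.ext ?_
  simp only [Subgroup.coe_mul]
  rw [← c.hg_simple, Units.val_neg, Units.val_inv_eq_inv_val]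
  show c.xg (D.neg (D.simple p)) (b : F) = c.xg (D.simple p) (b : F)⁻¹ *
    (c.hg (D.simple p) (-(b : F)⁻¹) * c.np F p) * c.xg (D.simple p) (b : F)⁻¹
  rw [← c.ng_eq_hg_mul_np, Cert.ng, show (-(-(b : F)⁻¹)⁻¹ : F) = b by field_simp]
  simp only [← mul_assoc, ← c.xg_add, add_neg_cancel, c.xg_zero, one_mul]
  simp only [mul_assoc, ← c.xg_add, neg_add_cancel, c.xg_zero, mul_one]

theorem nG_xG_nG (p : Fin D.rank) (t : F) :
    c.nG F p * c.mxG (D.simple p) t * c.nG F p =
      c.mxG (D.neg (D.simple p)) ((c.T.eta p (D.simple p) : F) * t) *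
        c.theta (Pi.mulSingle p (-1 : Fˣ)) := by
  rw [c.nG_mul_xG p.2 (c.simple_lt p.2), c.w_simple p.2, mul_assoc, c.nG_sq]

end CertFull

end Cfsg.Agent.Lie.Chev
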