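import Cfsg.Agent.Lib.Lie.Chev.F4PrimeGraph

/-! The prime graph of the groups of type F₄ over fields of characteristic two. -/

set_option autoImplicit false
set_option maxRecDepth 4000

namespace Cfsg.Agent.Lie.Chev.F4Graph

open Cfsg.Lie Polynomial

variable {F : Type*} [Field F] [Fintype F] {q n : ℕ}

theorem big_values (hn : 1 ≤ n) (hq : q = 2 ^ n) {e : ℕ} (he : e = 8 ∨ e = 12) :
    ¬ (2 : ℤ) ∣ (cyclotomic e ℤ).eval (q : ℤ) ∧
      (e = 12 → ¬ (3 : ℤ) ∣ (cyclotomic e ℤ).eval (q : ℤ)) := by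
  have h0 : ((q : ℤ) : ZMod 2) = 0 := by
    rw [Int.cast_natCast, hq, Nat.cast_pow, show ((2 : ℕ) : ZMod 2) = 0 from rfl,
      zero_pow (by omega)]
  refine ⟨fun h => ?_, fun h12 h => ?_⟩
  · have h' := (ZMod.intCast_zmod_eq_zero_iff_dvd _ 2).2 h
    rcases he with rfl | rfl
    · rw [CycToriInst.cyclotomic_eight, eval_add, eval_pow, eval_X, eval_one, Int.cast_add,
        Int.cast_pow, h0] at h'
      exact absurd h' (by decide)
    · rw [TwelveTori.eval_twelve, Int.cast_add, Int.cast_sub, Int.cast_pow, Int.cast_pow, h0] at h'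
      exact absurd h' (by decide)
  · subst h12
    have h' := (ZMod.intCast_zmod_eq_zero_iff_dvd _ 3).2 h
    rw [TwelveTori.eval_twelve] at h'
    push_cast at h'
    have key : ∀ x : ZMod 3, x ^ 4 - x ^ 2 + 1 ≠ 0 := by decide
    exact key _ h'

theorem eval_dvd_iff {r e : ℕ} [Fact r.Prime] (hre : ¬ r ∣ e) :
    (r : ℤ) ∣ (cyclotomic e ℤ).eval (q : ℤ) ↔ orderOf (q : ZMod r) = e := by
  haveI : NeZero (e : ZMod r) := ⟨fun h => hre ((ZMod.natCast_eq_zero_iff _ _).1 h)⟩
  rw [← ZMod.intCast_zmod_eq_zero_iff_dvd,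
    show (((cyclotomic e ℤ).eval (q : ℤ) : ℤ) : ZMod r) =
      (cyclotomic e (ZMod r)).eval (q : ZMod r) by
      rw [← map_cyclotomic e (Int.castRingHom (ZMod r)),
        show (q : ZMod r) = Int.castRingHom (ZMod r) (q : ℤ) by simp, eval_map_apply]
      rfl,
    ← IsRoot.def, isRoot_cyclotomic_iff]
  exact ⟨fun h => h.eq_orderOf.symm, fun h => h ▸ IsPrimitiveRoot.orderOf _⟩

/-- The centraliser of an element of order `r` when `q` has order eight or twelve modulo `r`. -/
theorem big_centralizer (hF : Fintype.card F = q) (hn : 1 ≤ n) (hq : q = 2 ^ n) {r : ℕ}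
    [Fact r.Prime] (hr2 : r ≠ 2)
    (he : orderOf (q : ZMod r) = 8 ∨ orderOf (q : ZMod r) = 12) :
    (∀ x : ↥(chevF4.group F), orderOf x = r → ∀ y : ↥(chevF4.group F), Commute y x →
      ∀ s : ℕ, s.Prime → orderOf y = s →
        s ≠ 2 ∧ orderOf (q : ZMod s) = orderOf (q : ZMod r)) ∧
    (∀ s : ℕ, s.Prime → s ≠ r → orderOf (q : ZMod s) = orderOf (q : ZMod r) → s ≠ 2 →
      ∃ x : ↥(chevF4.group F), orderOf x = r * s) := by
  classical
  have hrp : r.Prime := Fact.out
  obtain ⟨hrq, hq0⟩ := ne_zero_of_odd hF hq hrp hr2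
  have hr5 := five_le_of_order hr2 hq0 (by omega)
  have hr9 : 9 ≤ r := by
    have := Nat.le_of_dvd (by omega) (ZMod.orderOf_dvd_card_sub_one hq0)
    omega
  obtain ⟨e, hedef⟩ : ∃ e, e = orderOf (q : ZMod r) := ⟨_, rfl⟩
  rw [← hedef] at he ⊢
  have hre : ∀ s : ℕ, s.Prime → 5 ≤ s → ¬ s ∣ e := fun s hs hs5 h => by
    rcases he with rfl | rfl
    · have := Nat.le_of_dvd (by norm_num) (hs.dvd_of_dvd_pow (show s ∣ 2 ^ 3 from h)); omega
    · rcases hs.dvd_mul.1 (show s ∣ 4 * 3 from h) with h | h <;>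
        (have := Nat.le_of_dvd (by norm_num) h; omega)
  have hrd : (r : ℤ) ∣ (cyclotomic e ℤ).eval (q : ℤ) :=
    (eval_dvd_iff (hre r hrp hr5)).2 hedef.symm
  obtain ⟨hodd, hthree⟩ := big_values hn hq he
  have hW := not_dvd_weyl hrp hr5
  haveI : NeZero e := ⟨by omega⟩
  obtain ⟨H, hcyc, hcard, hself⟩ := CycToriInst.exists_torus (F := F) certFullF4 hF (n := e)
    (by rcases he with rfl | rfl <;> decide +kernel) (by omega) chainF4_ok chainF4_len
    chainF4_poly (by rcases he with rfl | rfl <;> simp)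
    (fun K _ _ => by simpa using torusOrderF4 K) (torusOrderF4 F) hrd (hre r hrp hr5)
    (by rw [rank_eq]; omega)
    (by rw [← CycToriInst.length_chainWords]; exact hW.2)
    (fun s hs hse h => by
      have h' := (dvd_pow_self (s : ℤ) two_ne_zero).trans h
      rcases he with rfl | rfl
      · obtain rfl := (Nat.prime_dvd_prime_iff_eq hs Nat.prime_two).1
          (hs.dvd_of_dvd_pow (show s ∣ 2 ^ 3 from hse))
        exact hodd h'
      · rcases hs.dvd_mul.1 (show s ∣ 2 ^ 2 * 3 from hse) with h2 | h2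
        · obtain rfl := (Nat.prime_dvd_prime_iff_eq hs Nat.prime_two).1 (hs.dvd_of_dvd_pow h2)
          exact hodd h'
        · obtain rfl := (Nat.prime_dvd_prime_iff_eq hs Nat.prime_three).1 h2
          exact hthree rfl h')
  haveI : Finite ↥(chevF4.group F) := Subtype.finite
  haveI := hcyc
  have hrH : r ∣ Nat.card ↥H := hcard ▸ Int.natCast_dvd.1 hrd
  obtain ⟨⟨x₀, hx₀H⟩, hx₀⟩ := exists_prime_orderOf_dvd_card' r hrH
  rw [Subgroup.orderOf_mk] at hx₀
  -- the centraliser of `x₀`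
  obtain ⟨p, hp⟩ := CharP.exists F
  obtain ⟨k, hpp, hk⟩ := FiniteField.card F p
  haveI : Fact p.Prime := ⟨hpp⟩
  letI : Fintype (FiniteField.Extension F p 24) := Fintype.ofFinite _
  haveI : CharP (FiniteField.Extension F p 24) p :=
    charP_of_injective_ringHom (algebraMap F (FiniteField.Extension F p 24)).injective p
  have habel : ∀ x : ↥(chevF4.group F), orderOf x = r → ∀ y₁ y₂ : ↥(chevF4.group F),
      Commute y₁ x → Commute y₂ x → Commute y₁ y₂ := fun x hx y₁ y₂ h₁ h₂ =>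
    commute_in_centralizer (algebraMap F (FiniteField.Extension F p 24)) hF
      (iterateFrobenius (FiniteField.Extension F p 24) p k)
      (fun t => by rw [iterateFrobenius_def, ← hk, hF])
      (by rw [← Nat.card_eq_fintype_card, FiniteField.natCard_extension, Nat.card_eq_fintype_card,
        hF])
      hr2 hq0 (hedef ▸ he) hx h₁ h₂
  have hCx₀ : ∀ y : ↥(chevF4.group F), Commute y x₀ → y ∈ H := fun y hy => by
    rw [← hself, Subgroup.mem_centralizer_iff]
    intro h hh
    have hc : Commute (⟨h, hh⟩ : ↥H) ⟨x₀, hx₀H⟩ := by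
      obtain ⟨g, hg⟩ := IsCyclic.exists_generator (α := ↥H)
      obtain ⟨i, hi⟩ := Subgroup.mem_zpowers_iff.1 (hg ⟨h, hh⟩)
      obtain ⟨j, hj⟩ := Subgroup.mem_zpowers_iff.1 (hg ⟨x₀, hx₀H⟩)
      rw [← hi, ← hj]
      exact (Commute.refl g).zpow_zpow i j
    exact habel x₀ hx₀ h y (congrArg Subtype.val hc.eq) hy
  -- every element of order `r` is conjugate into `⟨x₀⟩`
  have hconj : ∀ x : ↥(chevF4.group F), orderOf x = r →
      ∃ g : ↥(chevF4.group F), ∀ y, Commute y x → g * y * g⁻¹ ∈ H := by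
    intro x hx
    have hrG : r ∣ Nat.card ↥(chevF4.group F) := hx₀ ▸ orderOf_dvd_natCard x₀
    obtain ⟨P, hP⟩ := (IsPGroup.of_card (n := 1) (G := ↥(Subgroup.zpowers x₀))
      (by rw [Nat.card_zpowers, hx₀, pow_one])).exists_le_sylow
    obtain ⟨iso⟩ := SylowTorus.homocyclic_tabulated hF (chevF4, [2, 6, 8, 12]) (by simp) r hrq hW.1
      hrG P
    have hPH : (P : Subgroup ↥(chevF4.group F)) ≤ H := fun a ha => hCx₀ a (by
      have h := congrArg Subtype.val (iso.injective (show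
        iso (⟨a, ha⟩ * ⟨x₀, hP (Subgroup.mem_zpowers x₀)⟩) =
          iso (⟨x₀, hP (Subgroup.mem_zpowers x₀)⟩ * ⟨a, ha⟩) by rw [map_mul, map_mul, mul_comm]))
      exact h)
    obtain ⟨Q, hQ⟩ := (IsPGroup.of_card (n := 1) (G := ↥(Subgroup.zpowers x))
      (by rw [Nat.card_zpowers, hx, pow_one])).exists_le_sylow
    obtain ⟨g, hg⟩ := MulAction.exists_smul_eq ↥(chevF4.group F) Q P
    have hxH : g * x * g⁻¹ ∈ H := hPH (by
      rw [← hg, Sylow.coe_subgroup_smul]
      exact Subgroup.smul_mem_pointwise_smul _ (MulAut.conj g) _ (hQ (Subgroup.mem_zpowers x)))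
    refine ⟨g, fun y hy => hCx₀ _ ?_⟩
    -- the cyclic group has one subgroup of order `r`
    have hgx : orderOf (g * x * g⁻¹) = r := by
      rw [← MulAut.conj_apply, MulEquiv.orderOf_eq, hx]
    have hmem : x₀ ∈ Subgroup.zpowers (g * x * g⁻¹) := by
      letI : Fintype ↥H := Fintype.ofFinite _
      obtain ⟨w, hwdef⟩ : ∃ w : ↥H, w = ⟨g * x * g⁻¹, hxH⟩ := ⟨_, rfl⟩
      have hwo : orderOf w = r := by rw [hwdef, Subgroup.orderOf_mk, hgx]
      have hx₀' : (⟨x₀, hx₀H⟩ : ↥H) ∈ Finset.univ.filter fun a : ↥H => a ^ r = 1 := by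
        refine Finset.mem_filter.2 ⟨Finset.mem_univ _, ?_⟩
        rw [← hx₀, ← Subgroup.orderOf_mk (G := ↥(chevF4.group F)) x₀ hx₀H, pow_orderOf_eq_one]
      have hS : (Finset.range r).image (w ^ ·) = Finset.univ.filter fun a : ↥H => a ^ r = 1 := by
        refine Finset.eq_of_subset_of_card_le (fun a ha => ?_) ?_
        · obtain ⟨i, -, rfl⟩ := Finset.mem_image.1 ha
          refine Finset.mem_filter.2 ⟨Finset.mem_univ _, ?_⟩
          rw [← pow_mul, mul_comm, pow_mul, ← hwo, pow_orderOf_eq_one, one_pow]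
        · rw [Finset.card_image_of_injOn, Finset.card_range]
          · exact IsCyclic.card_pow_eq_one_le hrp.pos
          · intro i hi j hj h
            exact pow_injOn_Iio_orderOf (by simpa [hwo] using hi) (by simpa [hwo] using hj) h
      rw [← hS] at hx₀'
      obtain ⟨i, -, hi⟩ := Finset.mem_image.1 hx₀'
      exact ⟨i, by
        have h := congrArg Subtype.val hi
        rw [hwdef, Subgroup.coe_pow] at h
        simpa using h⟩
    obtain ⟨i, hi⟩ := Subgroup.mem_zpowers_iff.1 hmem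
    rw [← hi]
    exact Commute.zpow_right (hy.map (MulAut.conj g).toMonoidHom) i
  refine ⟨fun x hx y hy s hs hys => ?_, fun s hs hne hes hs2 => ?_⟩
  · obtain ⟨g, hg⟩ := hconj x hx
    have hmem := hg y hy
    have hsN : s ∣ Nat.card ↥H := by
      have h := orderOf_dvd_natCard (⟨_, hmem⟩ : ↥H)
      rwa [Subgroup.orderOf_mk, ← MulAut.conj_apply, MulEquiv.orderOf_eq, hys] at h
    rw [hcard, ← Int.natCast_dvd] at hsN
    have hs2 : s ≠ 2 := by rintro rfl; exact hodd hsN
    haveI : Fact s.Prime := ⟨hs⟩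
    refine ⟨hs2, (eval_dvd_iff ?_).1 hsN⟩
    intro hse
    rcases he with rfl | rfl
    · exact hs2 ((Nat.prime_dvd_prime_iff_eq hs Nat.prime_two).1
        (hs.dvd_of_dvd_pow (show s ∣ 2 ^ 3 from hse)))
    · rcases hs.dvd_mul.1 (show s ∣ 2 ^ 2 * 3 from hse) with h2 | h2
      · exact hs2 ((Nat.prime_dvd_prime_iff_eq hs Nat.prime_two).1 (hs.dvd_of_dvd_pow h2))
      · obtain rfl := (Nat.prime_dvd_prime_iff_eq hs Nat.prime_three).1 h2
        exact hthree rfl hsN
  · haveI : Fact s.Prime := ⟨hs⟩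
    obtain ⟨-, hqs0⟩ := ne_zero_of_odd hF hq hs hs2
    have hs5 := five_le_of_order hs2 hqs0 (by omega)
    have hsH : s ∣ Nat.card ↥H := hcard ▸ Int.natCast_dvd.1 ((eval_dvd_iff (hre s hs hs5)).2 hes)
    obtain ⟨⟨y, hyH⟩, hy⟩ := exists_prime_orderOf_dvd_card' s hsH
    rw [Subgroup.orderOf_mk] at hy
    have hc : Commute (x₀ : ↥(chevF4.group F)) y := by
      obtain ⟨g, hg⟩ := IsCyclic.exists_generator (α := ↥H)
      obtain ⟨i, hi⟩ := Subgroup.mem_zpowers_iff.1 (hg ⟨x₀, hx₀H⟩)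
      obtain ⟨j, hj⟩ := Subgroup.mem_zpowers_iff.1 (hg ⟨y, hyH⟩)
      have := ((Commute.refl g).zpow_zpow i j).map H.subtype
      rwa [hi, hj] at this
    refine ⟨x₀ * y, ?_⟩
    rw [hc.orderOf_mul_eq_mul_orderOf_of_coprime, hx₀, hy]
    rw [hx₀, hy]
    exact (Nat.coprime_primes hrp hs).2 hne.symm

theorem orderOf_le_two_iff {e : ℕ} (h : e ∈ [1, 2, 3, 4, 6, 8, 12]) (hbig : ¬ (e = 8 ∨ e = 12)) :
    e ∣ 2 ∨ e ∣ 4 ∨ e ∣ 6 := by
  simp only [List.mem_cons, List.not_mem_nil, or_false] at h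
  rcases h with rfl | rfl | rfl | rfl | rfl | rfl | rfl <;> first | decide | exact absurd (by decide) hbig

/-- Elements of orders `2 s` and `r s` from the commuting subsystems. -/
theorem exists_from_subsystems (hF : Fintype.card F = q) (hn : 1 ≤ n) (hq : q = 2 ^ n) {s : ℕ}
    (hs : s.Prime) (hs2 : s ≠ 2) (hsG : s ∣ Nat.card ↥(chevF4.group F))
    (hbig : ¬ (orderOf (q : ZMod s) = 8 ∨ orderOf (q : ZMod s) = 12)) :
    (∃ x : ↥(chevF4.group F), orderOf x = 2 * s) ∧
      ∀ r : ℕ, r.Prime → r ≠ 2 → r ≠ s → orderOf (q : ZMod r) ∈ [1, 2] →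
        ∃ x : ↥(chevF4.group F), orderOf x = r * s := by
  haveI : CharP F 2 := by
    obtain ⟨p, hp⟩ := CharP.exists F
    obtain ⟨k, hpp, hk⟩ := FiniteField.card F p
    have h : p ∣ 2 ^ n := by rw [← hq, ← hF, hk]; exact dvd_pow_self p k.ne_zero
    obtain rfl := (Nat.prime_dvd_prime_iff_eq hpp Nat.prime_two).1 (hpp.dvd_of_dvd_pow h)
    exact hp
  subst hF
  have hsq := (ne_zero_of_odd rfl hq hs hs2).1
  have hd := orderOf_le_two_iff (order_cases rfl hq hs hs2 hsG) hbig
  rw [← dvd_pow_sub_one_iff (F := F) rfl, ← dvd_pow_sub_one_iff (F := F) rfl,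
    ← dvd_pow_sub_one_iff (F := F) rfl] at hd
  obtain ⟨y, hy, hys⟩ := exists_order_three hs hs2 hsq hd
  obtain ⟨h47, m, hm, hmc⟩ := commute_subsystems (F := F)
  have hyG := certFullF4.rootLevi_le_group J₃ hy
  have key : ∀ (x : GL chevF4.Idx F) (hx : x ∈ chevF4.group F) (r : ℕ), r.Prime → r ≠ s →
      orderOf x = r → Commute x y → ∃ z : ↥(chevF4.group F), orderOf z = r * s := by
    intro x hx r hr hne hxr hc
    refine ⟨⟨x * y, mul_mem hx hyG⟩, ?_⟩
    rw [Subgroup.orderOf_mk, hc.orderOf_mul_eq_mul_orderOf_of_coprime, hxr, hys]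
    rw [hxr, hys]
    exact (Nat.coprime_primes hr hs).2 hne
  have h47lt : (47 : ℕ) < chevF4.nroots := by rw [roots_48]; norm_num
  refine ⟨key _ (certFullF4.xg_mem_group h47lt 1) 2 Nat.prime_two (Ne.symm hs2) ?_ (h47 y hy),
    fun r hr hr2 hne her => ?_⟩
  · refine orderOf_eq_prime ?_ fun h => one_ne_zero ((certFullF4.xg_eq_one_iff h47lt (1 : F)).1 h)
    rw [pow_two, ← certFullF4.xg_add, CharTwo.add_self_eq_zero, certFullF4.xg_zero]
  · have her' : orderOf ((Fintype.card F : ℕ) : ZMod r) ∣ 2 := by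
      simp only [List.mem_cons, List.not_mem_nil, or_false] at her
      rcases her with h | h <;> rw [h]
      norm_num
    obtain ⟨x, hx, hxr⟩ := exists_order_one hr hr2 (ne_zero_of_odd rfl hq hr hr2).1
      ((dvd_pow_sub_one_iff (F := F) rfl).2 her')
    refine key (m * x * m⁻¹) (mul_mem (mul_mem hm (certFullF4.rootLevi_le_group J₁ hx)) (inv_mem hm))
      r hr hne ?_ (hmc x hx y hy)
    rw [← MulAut.conj_apply, MulEquiv.orderOf_eq, hxr]

/-- Two odd primes, the order of `q` modulo the first being at most that modulo the second. -/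
theorem odd_pair (hF : Fintype.card F = q) (hn : 1 ≤ n) (hq : q = 2 ^ n) {r s : ℕ} (hr : r.Prime)
    (hs : s.Prime) (hr2 : r ≠ 2) (hs2 : s ≠ 2) (hrs : r ≠ s)
    (hrG : r ∣ Nat.card ↥(chevF4.group F)) (hsG : s ∣ Nat.card ↥(chevF4.group F))
    (hle : orderOf (q : ZMod r) ≤ orderOf (q : ZMod s)) :
    (¬ ∃ x : ↥(chevF4.group F), orderOf x = r * s) ↔
      orderOf (q : ZMod r) < orderOf (q : ZMod s) ∧
        (orderOf (q : ZMod s) ∈ ({8, 12} : Finset ℕ) ∨
          (orderOf (q : ZMod s) = 6 ∧ orderOf (q : ZMod r) ∈ ({3, 4} : Finset ℕ)) ∨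
          (orderOf (q : ZMod s) = 4 ∧ orderOf (q : ZMod r) = 3)) := by
  haveI : Fact r.Prime := ⟨hr⟩
  haveI : Fact s.Prime := ⟨hs⟩
  have hkm := order_cases hF hq hr hr2 hrG
  have hlm := order_cases hF hq hs hs2 hsG
  obtain ⟨p, hp⟩ := CharP.exists F
  obtain ⟨t, hpp, ht⟩ := FiniteField.card F p
  haveI : Fact p.Prime := ⟨hpp⟩
  letI : Fintype (FiniteField.Extension F p 24) := Fintype.ofFinite _
  haveI : CharP (FiniteField.Extension F p 24) p :=
    charP_of_injective_ringHom (algebraMap F (FiniteField.Extension F p 24)).injective p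
  have hφ : ∀ x : FiniteField.Extension F p 24,
      iterateFrobenius (FiniteField.Extension F p 24) p t x = x ^ q := fun x => by
    rw [iterateFrobenius_def, ← ht, hF]
  have hL : Fintype.card (FiniteField.Extension F p 24) = q ^ 24 := by
    rw [← Nat.card_eq_fintype_card, FiniteField.natCard_extension, Nat.card_eq_fintype_card, hF]
  obtain ⟨k, hk⟩ : ∃ k, k = orderOf (q : ZMod r) := ⟨_, rfl⟩
  obtain ⟨l, hl⟩ : ∃ l, l = orderOf (q : ZMod s) := ⟨_, rfl⟩
  rw [← hk, ← hl] at hle ⊢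
  rw [← hk] at hkm
  rw [← hl] at hlm
  simp only [Finset.mem_insert, Finset.mem_singleton]
  constructor
  · intro hno
    by_contra hcon
    refine hno ?_
    have hsmall : k = l ∨ (¬ (l = 8 ∨ l = 12) ∧ ¬ (l = 6 ∧ (k = 3 ∨ k = 4)) ∧
        ¬ (l = 4 ∧ k = 3)) := by omega
    by_cases hkl : k = l
    · by_cases hbig : l = 8 ∨ l = 12
      · exact (big_centralizer hF hn hq hr2 (by rw [← hk, hkl]; exact hbig)).2 s hs hrs.symm
          (by rw [← hl, ← hk, hkl]) hs2
      · by_cases hmid : l = 3 ∨ l = 4 ∨ l = 6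
        · exact exists_same_plane (algebraMap F (FiniteField.Extension F p 24)) hF
            (iterateFrobenius (FiniteField.Extension F p 24) p t) hφ hL hrs hr2 hs2 hq hrG
            (by rw [← hk, hkl]; exact hmid) (by rw [← hl, ← hk, hkl])
        · refine (exists_from_subsystems hF hn hq hs hs2 hsG (by rw [← hl]; exact hbig)).2 r hr hr2 hrs ?_
          rw [← hk]
          simp only [List.mem_cons, List.not_mem_nil, or_false] at hkm hlm ⊢
          omega
    · have hsmall' := hsmall.resolve_left hkl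
      refine (exists_from_subsystems hF hn hq hs hs2 hsG (by rw [← hl]; exact hsmall'.1)).2 r hr hr2
        hrs ?_
      rw [← hk]
      simp only [List.mem_cons, List.not_mem_nil, or_false] at hkm hlm ⊢
      omega
  · rintro ⟨hlt, hcase⟩ hx
    rcases hcase with hbig | hpair | hpair
    · obtain ⟨x, hx⟩ := hx
      have hxs : orderOf (x ^ r) = s := by
        rw [orderOf_pow_of_dvd hr.ne_zero (hx ▸ dvd_mul_right r s), hx,
          Nat.mul_div_cancel_left _ hr.pos]
      have hxr : orderOf (x ^ s) = r := by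
        rw [orderOf_pow_of_dvd hs.ne_zero (hx ▸ dvd_mul_left s r), hx, Nat.mul_div_cancel _ hs.pos]
      have h := ((big_centralizer hF hn hq hs2 (by rw [← hl]; exact hbig)).1 _ hxs _
        (Commute.pow_pow_self x s r) r hr hxr).2
      omega
    · exact no_pair_elements (algebraMap F (FiniteField.Extension F p 24)) hF
        (iterateFrobenius (FiniteField.Extension F p 24) p t) hφ hL hr2 hs2 hrs hq
        (i := k) (j := l) (by rcases hpair.2 with h | h <;> simp [hpair.1, h]) hk.symm hl.symm hx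
    · exact no_pair_elements (algebraMap F (FiniteField.Extension F p 24)) hF
        (iterateFrobenius (FiniteField.Extension F p 24) p t) hφ hL hr2 hs2 hrs hq
        (i := k) (j := l) (by simp [hpair.1, hpair.2]) hk.symm hl.symm hx

/-- The prime two and an odd prime. -/
theorem two_pair (hF : Fintype.card F = q) (hn : 1 ≤ n) (hq : q = 2 ^ n) {s : ℕ} (hs : s.Prime)
    (hs2 : s ≠ 2) (hsG : s ∣ Nat.card ↥(chevF4.group F)) :
    (¬ ∃ x : ↥(chevF4.group F), orderOf x = 2 * s) ↔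
      orderOf (q : ZMod s) ∈ ({8, 12} : Finset ℕ) := by
  haveI : Fact s.Prime := ⟨hs⟩
  simp only [Finset.mem_insert, Finset.mem_singleton]
  refine ⟨fun h => by_contra fun hbig =>
    h (exists_from_subsystems hF hn hq hs hs2 hsG hbig).1, fun hbig ⟨x, hx⟩ => ?_⟩
  have hxs : orderOf (x ^ 2) = s := by
    rw [orderOf_pow_of_dvd two_ne_zero (hx ▸ dvd_mul_right 2 s), hx,
      Nat.mul_div_cancel_left _ two_pos]
  have hx2 : orderOf (x ^ s) = 2 := by
    rw [orderOf_pow_of_dvd hs.ne_zero (hx ▸ dvd_mul_left s 2), hx, Nat.mul_div_cancel _ hs.pos]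
  exact ((big_centralizer hF hn hq hs2 hbig).1 _ hxs _ (Commute.pow_pow_self x s 2) 2
    Nat.prime_two hx2).1 rfl

end Cfsg.Agent.Lie.Chev.F4Graph
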