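import Cfsg.Agent.Lib.Lie.Chev.OrderF4
import Cfsg.Agent.Lib.Lie.Chev.Centralizer

/-! Small powers in the Weyl group of type F₄. -/

set_option autoImplicit false
set_option maxRecDepth 4000

namespace Cfsg.Agent.Lie.Chev.F4Sec

/-- The eighth or the sixth power of a permutation of the roots is trivial, or the sixth one sends
each root to its negative. -/
def powCheck (P : List ℕ) : Bool :=
  ((List.range 48).all fun s => Nat.beq ((fun i => P.getD i 0)^[8] s) s) ||
    ((List.range 48).all fun s => Nat.beq ((fun i => P.getD i 0)^[6] s) s) ||
      ((List.range 48).all fun s => Nat.beq ((fun i => P.getD i 0)^[6] s) (47 - s))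

/-- Powers in the Weyl group. -/
theorem weyl_pow_check :
    ((chainWords chainF4).all fun v => powCheck ((List.range 48).map (certFullF4.T.wlT v))) = true := by
  decide +kernel

end Cfsg.Agent.Lie.Chev.F4Sec
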