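import Cfsg.Agent.Lib.Lie.Chev.OrderF4
import Cfsg.Agent.Lib.Lie.Chev.F4WeylCheck
import Cfsg.Agent.Lib.Lie.Chev.TorusOrders
import Cfsg.Agent.Lib.Lie.Chev.WeylPowers
import Cfsg.Agent.Lib.Grp.SectionTwoPrimes

/-! Alternating sections of the groups of type F₄. -/

set_option autoImplicit false
set_option maxRecDepth 4000

namespace Cfsg.Agent.Lie.Chev.F4Sec

open Cfsg.Lie Matrix

theorem weyl_powers {v : List ℕ} (hv : v ∈ chainWords chainF4) :
    (∀ s < 48, (certFullF4.T.wlT v)^[8] s = s) ∨ (∀ s < 48, (certFullF4.T.wlT v)^[6] s = s) ∨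
      ∀ s < 48, (certFullF4.T.wlT v)^[6] s = 47 - s := by
  obtain ⟨hlt, -, -, -⟩ := certFullF4.chain_spec chainF4 chainF4_ok chainF4_len.le
  have hw : ∀ s < 48, certFullF4.T.wlT v s < 48 := fun s hs => by
    rw [certFullF4.wlT_eq]
    exact certFullF4.wl_lt (fun p hp => chainF4_len ▸ hlt v hv p hp) hs
  obtain ⟨P, hP⟩ : ∃ P, P = (List.range 48).map (certFullF4.T.wlT v) := ⟨_, rfl⟩
  have hit : ∀ k, ∀ s < 48, (fun i => P.getD i 0)^[k] s = (certFullF4.T.wlT v)^[k] s ∧
      (certFullF4.T.wlT v)^[k] s < 48 := by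
    intro k
    induction k with
    | zero => exact fun s hs => ⟨rfl, hs⟩
    | succ k ih =>
      intro s hs
      obtain ⟨h1, h2⟩ := ih s hs
      rw [Function.iterate_succ_apply', Function.iterate_succ_apply', h1]
      refine ⟨?_, hw _ h2⟩
      rw [hP, List.getD_eq_getElem _ _ (by simpa using h2)]
      simp
  have h := List.all_eq_true.1 weyl_pow_check v hv
  rw [← hP] at h
  simp only [powCheck, Bool.or_eq_true, List.all_eq_true, List.mem_range, Nat.beq_eq] at h
  rcases h with (h | h) | h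
  exacts [Or.inl fun s hs => (hit 8 s hs).1 ▸ h s hs,
    Or.inr (Or.inl fun s hs => (hit 6 s hs).1 ▸ h s hs),
    Or.inr (Or.inr fun s hs => (hit 6 s hs).1 ▸ h s hs)]

/-- The index of a maximal split torus over a field with `m t + 1` elements. -/
theorem index_mod (m t : ℕ) (hm : ¬ m ∣ 1152) :
    ¬ m ∣ (m * t + 1) ^ 24 * ((m * t + 1) + 1) * (∑ i ∈ Finset.range 6, (m * t + 1) ^ i) *
      (∑ i ∈ Finset.range 8, (m * t + 1) ^ i) * ∑ i ∈ Finset.range 12, (m * t + 1) ^ i := by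
  rw [← ZMod.natCast_eq_zero_iff] at hm ⊢
  push_cast at hm ⊢
  rw [ZMod.natCast_self, zero_mul, zero_add]
  intro h
  refine hm ?_
  rw [← h]
  norm_num

variable {L : Type*} [Field L]

theorem diagonal_le : chevF4.diagonalSubgroup L ≤ chevF4.group L := fun _ hg =>
  certFullF4.B_le_group (certFullF4.H_le_B hg)

theorem index_not_dvd [Fintype L] {m t : ℕ} (ht : Fintype.card L = m * t + 1) (hm : ¬ m ∣ 1152) :
    ¬ m ∣ ((chevF4.diagonalSubgroup L).subgroupOf (chevF4.group L)).index := by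
  intro hd
  have hmul := ((chevF4.diagonalSubgroup L).subgroupOf (chevF4.group L)).card_mul_index
  have hcard := certFullF4.card_group_formula (F := L) chainF4_ok chainF4_len chainF4_poly
    (g := 1) (torusOrderF4 (F := L))
  obtain ⟨A, hA⟩ : ∃ A, A = m * t := ⟨_, rfl⟩
  have hA0 : 0 < A := by
    have := Fintype.one_lt_card (α := L)
    omega
  rw [Nat.card_congr (Subgroup.subgroupOfEquivOfLe diagonal_le).toEquiv,
    ← one_mul (Nat.card (chevF4.diagonalSubgroup L)), torusOrderF4 (F := L)] at hmul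
  change (Fintype.card L - 1) ^ 4 * _ = _ at hmul
  rw [one_mul, show chevF4.nroots / 2 = 24 from rfl] at hcard
  simp only [List.map_cons, List.map_nil, List.prod_cons, List.prod_nil, mul_one] at hcard
  have e : ∀ k, (A + 1) ^ k - 1 = A * ∑ i ∈ Finset.range k, (A + 1) ^ i := fun k =>
    Nat.sub_eq_of_eq_add (by rw [mul_comm]; exact (geom_sum_mul_add A k).symm)
  rw [hcard, ht, ← hA, Nat.add_sub_cancel, e, e, e, e] at hmul
  rw [show ∑ i ∈ Finset.range 2, (A + 1) ^ i = A + 1 + 1 by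
    simp [Finset.sum_range_succ]; ring] at hmul
  refine index_mod m t hm ?_
  rw [← hA]
  obtain ⟨I, hI⟩ : ∃ I, I = ((chevF4.diagonalSubgroup L).subgroupOf (chevF4.group L)).index :=
    ⟨_, rfl⟩
  rw [← hI] at hmul hd
  obtain ⟨S6, hS6⟩ : ∃ S, S = ∑ i ∈ Finset.range 6, (A + 1) ^ i := ⟨_, rfl⟩
  obtain ⟨S8, hS8⟩ : ∃ S, S = ∑ i ∈ Finset.range 8, (A + 1) ^ i := ⟨_, rfl⟩
  obtain ⟨S12, hS12⟩ : ∃ S, S = ∑ i ∈ Finset.range 12, (A + 1) ^ i := ⟨_, rfl⟩
  rw [← hS6, ← hS8, ← hS12] at hmul ⊢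
  have hi : I = (A + 1) ^ 24 * (A + 1 + 1) * S6 * S8 * S12 :=
    Nat.eq_of_mul_eq_mul_left (pow_pos hA0 4) (by rw [hmul]; ring)
  exact hi ▸ hd

/-- The action of a power of an element normalising a subgroup of the torus. -/
theorem pow_cases (g : ↥(chevF4.group L)) (R : Subgroup ↥(chevF4.group L))
    (hR : R ≤ (chevF4.diagonalSubgroup L).subgroupOf (chevF4.group L))
    (hn : ∀ h ∈ R, g * h * g⁻¹ ∈ R) :
    ∃ p ∈ ([(8, 1), (6, 1), (6, -1)] : List (ℕ × ℤ)),
      ∀ h ∈ R, g ^ p.1 * h * (g ^ p.1)⁻¹ = h ^ p.2 := by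
  obtain ⟨hlt, hex, -, -⟩ := certFullF4.chain_spec chainF4 chainF4_ok chainF4_len.le
  obtain ⟨b, hb, a, ha, M, hM, u, hu, hg⟩ := certFullF4.bruhat_exists g.2
  obtain ⟨v, hv, hsv⟩ := hex M (fun p hp => chainF4_len.symm ▸ hM p hp)
  have hvl : ∀ p ∈ v, p < chevF4.rank := fun p hp => chainF4_len ▸ hlt v hv p hp
  have hit : ∀ k, ∀ s < 48, (certFullF4.wl M)^[k] s = (certFullF4.T.wlT v)^[k] s := fun k s hs => by
    rw [(certFullF4.wl_iterate_of_same hM hvl hsv k (show s < chevF4.nroots from hs)).1,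
      ← funext (certFullF4.wlT_eq v)]
  rw [← mul_assoc b] at hg
  set R' := R.map (chevF4.group L).subtype
  have hR' : R' ≤ chevF4.diagonalSubgroup L := by
    rintro _ ⟨x, hx, rfl⟩
    exact hR hx
  have hn' : ∀ h ∈ R', b * a * certFullF4.nw L M * u * h *
      (b * a * certFullF4.nw L M * u)⁻¹ ∈ R' := by
    rintro _ ⟨x, hx, rfl⟩
    rw [← hg]
    exact ⟨_, hn x hx, rfl⟩
  have hbB := mul_mem hb (certFullF4.H_le_B ha)
  rcases weyl_powers hv with h | h | h
  · refine ⟨(8, 1), by simp, fun x hx => Subtype.ext ?_⟩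
    simp only [Subgroup.coe_mul, Subgroup.coe_inv, SubmonoidClass.coe_pow, zpow_one]
    rw [hg]
    exact certFullF4.pow_conj_of_bruhat hM (fun s hs => (hit 8 s hs).trans (h s hs)) hbB hu hR' hn'
      _ ⟨x, hx, rfl⟩
  · refine ⟨(6, 1), by simp, fun x hx => Subtype.ext ?_⟩
    simp only [Subgroup.coe_mul, Subgroup.coe_inv, SubmonoidClass.coe_pow, zpow_one]
    rw [hg]
    exact certFullF4.pow_conj_of_bruhat hM (fun s hs => (hit 6 s hs).trans (h s hs)) hbB hu hR' hn'
      _ ⟨x, hx, rfl⟩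
  · refine ⟨(6, -1), by simp, fun x hx => Subtype.ext ?_⟩
    simp only [Subgroup.coe_mul, Subgroup.coe_inv, SubmonoidClass.coe_pow, _root_.zpow_neg, zpow_one]
    rw [hg]
    exact certFullF4.pow_conj_of_bruhat_neg hM (fun s hs => by
      rw [hit 6 s hs, h s hs, certFullF4.neg_eq (show s < chevF4.nroots from hs)]; rfl) hbB hu hR' hn'
      _ ⟨x, hx, rfl⟩

theorem pow_twentyfour (g : ↥(chevF4.group L)) (R : Subgroup ↥(chevF4.group L))
    (hR : R ≤ (chevF4.diagonalSubgroup L).subgroupOf (chevF4.group L))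
    (hn : ∀ h ∈ R, g * h * g⁻¹ ∈ R) : ∀ h ∈ R, g ^ 24 * h * (g ^ 24)⁻¹ = h := by
  intro h hh
  obtain ⟨p, hp, hpow⟩ := pow_cases g R hR hn
  have hn' : ∀ x ∈ R, g ^ p.1 * x * (g ^ p.1)⁻¹ ∈ R := fun x hx =>
    (hpow x hx).symm ▸ zpow_mem hx _
  have hit : ∀ i : ℕ, (g ^ p.1) ^ i * h * ((g ^ p.1) ^ i)⁻¹ = h ^ (p.2 ^ i) := by
    intro i
    induction i with
    | zero => simp
    | succ i ih =>
      calc (g ^ p.1) ^ (i + 1) * h * ((g ^ p.1) ^ (i + 1))⁻¹
          = g ^ p.1 * ((g ^ p.1) ^ i * h * ((g ^ p.1) ^ i)⁻¹) * (g ^ p.1)⁻¹ := by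
            rw [pow_succ']; group
        _ = _ := by rw [ih, hpow _ (zpow_mem hh _), ← _root_.zpow_mul, ← pow_succ]
  simp only [List.mem_cons, List.not_mem_nil, or_false] at hp
  rcases hp with rfl | rfl | rfl
  · simpa [← pow_mul] using hit 3
  · simpa [← pow_mul] using hit 4
  · simpa [← pow_mul] using hit 4

theorem alternating_section_le {F : Type*} [Field F] [Fintype F] (p : ℕ) [Fact p.Prime]
    [CharP F p] {H : Type*} [Group H] (j : H →* ↥(chevF4.group F)) (hj : Function.Injective j)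
    {r : ℕ} {π : H →* alternatingGroup (Fin r)} (hπ : Function.Surjective π) :
    r ≤ 10 + (if p = 11 then 1 else 0) := by
  classical
  obtain ⟨q, hq⟩ : ∃ q, q = Fintype.card F := ⟨_, rfl⟩
  obtain ⟨n₀, -, hn₀⟩ := FiniteField.card F p
  have hqp : q = p ^ (n₀ : ℕ) := hq.trans hn₀
  have key : ∀ d : ℕ, d ≠ 0 → ∃ (E : Type _) (_ : Field E) (_ : Fintype E)
      (j' : H →* ↥(chevF4.group E)), Function.Injective j' ∧ Fintype.card E = q ^ d := by
    intro d hd
    have : NeZero d := ⟨hd⟩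
    let _ : Fintype (FiniteField.Extension F p d) := Fintype.ofFinite _
    obtain ⟨ι, -⟩ : ∃ ι : F →+* FiniteField.Extension F p d, ι = algebraMap F _ := ⟨_, rfl⟩
    let emb : ↥(chevF4.group F) →* ↥(chevF4.group (FiniteField.Extension F p d)) :=
      ((Matrix.GeneralLinearGroup.map (n := chevF4.Idx) ι).comp
        (chevF4.group F).subtype).codRestrict _ fun g => certFullF4.map_group_le ι ⟨g, g.2, rfl⟩
    have hemb : Function.Injective emb := fun a b e => by
      have h := congrArg Subtype.val e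
      exact Subtype.ext (Units.ext (Matrix.ext fun i k =>
        ι.injective (Matrix.ext_iff.2 (congrArg Units.val h) i k)))
    exact ⟨_, inferInstance, inferInstance, emb.comp j, hemb.comp hj, by
      rw [← Nat.card_eq_fintype_card, FiniteField.natCard_extension, Nat.card_eq_fintype_card, hq]⟩
  by_cases h11 : p = 11
  · rw [if_pos h11]
    obtain ⟨E, _, _, j', hj', hE⟩ := key 3 (by norm_num)
    have hmod : q ^ 3 % 35 = 1 := by
      rw [hqp, h11, ← pow_mul, mul_comm, pow_mul, Nat.pow_mod]; norm_num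
    refine Nat.le_of_lt_succ (Grp.SectionAut.degree_lt_twelve
      (T := (chevF4.diagonalSubgroup E).subgroupOf (chevF4.group E))
      (fun a ha b hb => Subtype.ext (certFullF4.H_commutative ha hb))
      (index_not_dvd (t := q ^ 3 / 7) ?_ (by norm_num))
      (index_not_dvd (t := q ^ 3 / 5) ?_ (by norm_num)) pow_twentyfour pow_cases j' hj' hπ)
    all_goals omega
  · rw [if_neg h11]
    obtain ⟨E, _, _, j', hj', hE⟩ := key 10 (by norm_num)
    refine Nat.le_of_lt_succ (Grp.SectionAut.degree_lt_eleven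
      (T := (chevF4.diagonalSubgroup E).subgroupOf (chevF4.group E))
      (index_not_dvd (t := q ^ 10 / 11) ?_ (by norm_num)) pow_twentyfour j' hj' hπ)
    have h0 : q % 11 ≠ 0 := fun h => h11 ((Nat.prime_dvd_prime_iff_eq (by norm_num) Fact.out).1
      ((show Nat.Prime 11 by norm_num).dvd_of_dvd_pow (hqp ▸ Nat.dvd_of_mod_eq_zero h))).symm
    have hmod : q ^ 10 % 11 = 1 := by
      rw [Nat.pow_mod]
      have hlt : q % 11 < 11 := Nat.mod_lt _ (by norm_num)
      interval_cases q % 11 <;> first | contradiction | rfl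
    omega

end Cfsg.Agent.Lie.Chev.F4Sec
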