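import Cfsg.Agent.Lib.Lie.Chev.F4WeylMatDefs

/-! The integer facts about the words of the Weyl group of type F₄. -/

set_option autoImplicit false
set_option maxRecDepth 4000

namespace Cfsg.Agent.Lie.Chev.F4Graph

theorem gram_check : ((chainWords chainF4).all gramCheck) = true := by decide +kernel

theorem plane_check :
    ((chainWords chainF4).all fun v => planeCheck 1 v && planeCheck 0 v && planeCheck (-1) v) =
      true := by
  decide +kernel

theorem pair_check :
    ((chainWords chainF4).all fun v => pairCheck 1 0 v && pairCheck 1 (-1) v && pairCheck 0 (-1) v) =
      true := by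
  decide +kernel

theorem gram_det : det4 gram = 4 := by decide +kernel

end Cfsg.Agent.Lie.Chev.F4Graph
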