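import Cfsg.Agent.Lib.Lie.Chev.OrderF4
import Cfsg.Agent.Lib.Lie.Chev.Centralizer

/-! Integer data of the words of the Weyl group of type F₄: the invariant form, the values of
quadratic polynomials at the matrices of the words, and their minors. -/

set_option autoImplicit false

namespace Cfsg.Agent.Lie.Chev.F4Graph

/-- The invariant form, in the basis of the fundamental roots. -/
def gram (i j : ℕ) : ℤ :=
  ([[2, -1, 0, 0], [-1, 2, -2, 0], [0, -2, 4, -2], [0, 0, -2, 4]].getD i []).getD j 0

/-- The `j`-th coordinate of the image of the `i`-th fundamental root. -/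
def entry (v : List ℕ) (i j : ℕ) : ℤ :=
  certFullF4.T.vec (certFullF4.T.wlT v (certFullF4.T.simple i)) j

/-- The entries of `M ^ 2 + a M + 1`. -/
def quad (a : ℤ) (v : List ℕ) (i j : ℕ) : ℤ :=
  certFullF4.T.vec (certFullF4.T.wlT v (certFullF4.T.wlT v (certFullF4.T.simple i))) j +
    a * entry v i j + (bif Nat.beq i j then 1 else 0)

/-- A determinant of size four. -/
def det4 (f : ℕ → ℕ → ℤ) : ℤ :=
  let d : ℕ → ℕ → ℕ → ℤ := fun a b e =>
    f 1 a * (f 2 b * f 3 e - f 2 e * f 3 b) - f 1 b * (f 2 a * f 3 e - f 2 e * f 3 a) +
      f 1 e * (f 2 a * f 3 b - f 2 b * f 3 a)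
  f 0 0 * d 1 2 3 - f 0 1 * d 0 2 3 + f 0 2 * d 0 1 3 - f 0 3 * d 0 1 2

/-- The greatest common divisor of a list of integers. -/
def gcdAll : List ℤ → ℕ
  | [] => 0
  | x :: xs => Nat.gcd x.natAbs (gcdAll xs)

/-- A divisor of a power of six. -/
def smooth (g : ℕ) : Bool := Nat.beq (2 ^ 20 * 3 ^ 12 % g) 0

def gramCheck (v : List ℕ) : Bool :=
  (List.range 4).all fun i => (List.range 4).all fun j =>
    intBeq (((List.range 4).map fun a => entry v i a *
      ((List.range 4).map fun b => gram a b * entry v j b).sum).sum) (gram i j)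

/-- The entries of `M ^ 2 + a M + 1` have no common divisor prime to six, or they vanish and no
root spans an invariant line modulo such a prime. -/
def planeCheck (a : ℤ) (v : List ℕ) : Bool :=
  let P := (List.range 4).flatMap fun i => (List.range 4).map fun j => quad a v i j
  Bool.or (smooth (gcdAll P))
    ((P.all fun x => intBeq x 0) &&
      intBeq (((List.range 4).map fun i => entry v i i).sum) (-2 * a) &&
      (List.range 48).all fun s =>
        let t := certFullF4.T.wlT v s
        smooth (gcdAll ((List.range 4).flatMap fun i => (List.range 4).map fun j =>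
          certFullF4.T.vec s i * certFullF4.T.vec t j - certFullF4.T.vec s j * certFullF4.T.vec t i)))

/-- One of two quadratic values has a determinant prime to all primes above three. -/
def pairCheck (a b : ℤ) (v : List ℕ) : Bool :=
  Bool.or (smooth (det4 (quad a v)).natAbs) (smooth (det4 (quad b v)).natAbs)

end Cfsg.Agent.Lie.Chev.F4Graph
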