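import Cfsg.Agent.Lib.Lie.Chev.G2EvenInvolutions
import Cfsg.Agent.Lib.Lie.Chev.RadicalCentralizer

/-! Centralisers of the two classes of involutions of `G₂` in characteristic two. -/

set_option autoImplicit false
set_option maxRecDepth 20000

namespace Cfsg.Agent.Lie.Chev.G2Even

open Cfsg.Lie

variable {F : Type*} [Field F] [CharP F 2]

theorem u_conj_nine {u : GL chevG2.Idx F} (hu : u ∈ chevG2.posUnipotent F) (p : F) :
    ∃ E E' : F, u * X 9 p * u⁻¹ = nf 0 0 0 p E E' := by
  obtain ⟨a, b, c, d, e, f, rfl⟩ := exists_nf hu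
  refine ⟨p * b, p * c + p * a * b, ?_⟩
  rw [mul_inv_eq_iff_eq_mul, X9_eq, nf_mul, nf_mul]
  refine nf_congr ?_ ?_ ?_ ?_ ?_ ?_
  all_goals first
    | ring1
    | linear_combination (-(p * b)) * two (F := F)
    | linear_combination (-(p * a * b)) * two (F := F)
    | linear_combination (-(p * c)) * two (F := F)
    | linear_combination (-(p * c + p * a * b)) * two (F := F)

theorem B_conj_nine {b : GL chevG2.Idx F} (hb : b ∈ chevG2.borelSubgroup F) :
    ∃ p E E' : F, p ≠ 0 ∧ b * X 9 1 * b⁻¹ = nf 0 0 0 p E E' := by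
  obtain ⟨v, hv, a, ha, rfl⟩ := certFullG2.mem_borel_iff.1 hb
  rw [certFullG2.diagonalSubgroup_eq] at ha
  obtain ⟨z, rfl⟩ := ha
  obtain ⟨E, E', h⟩ := u_conj_nine hv (certFullG2.tchar z 9 : F)
  refine ⟨_, E, E', (certFullG2.tchar z 9).ne_zero, ?_⟩
  have e := certFullG2.torus_conj_xg z (show 9 < chevG2.nroots by decide) (1 : F)
  rw [mul_one] at e
  rw [← h, show v * certFullG2.torus z * X 9 1 * (v * certFullG2.torus z)⁻¹ =
    v * (certFullG2.torus z * X 9 1 * (certFullG2.torus z)⁻¹) * v⁻¹ by group]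
  rw [show certFullG2.torus z * X 9 1 * (certFullG2.torus z)⁻¹ = X 9 (certFullG2.tchar z 9 : F)
    from e]

/-- Products of long positive root elements. -/
def longU (F : Type*) [Field F] : Subgroup (GL chevG2.Idx F) :=
  Subgroup.closure {g | ∃ r ∈ [6, 10, 11], ∃ t : F, g = X r t}

theorem longU_form {g : GL chevG2.Idx F} (hg : g ∈ longU F) : ∃ a e f, g = nf a 0 0 0 e f := by
  induction hg using Subgroup.closure_induction with
  | mem g h =>
    obtain ⟨r, hr, t, rfl⟩ := h
    simp only [List.mem_cons, List.not_mem_nil, or_false] at hr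
    rcases hr with rfl | rfl | rfl
    · exact ⟨t, 0, 0, X6_eq t⟩
    · exact ⟨0, t, 0, X10_eq t⟩
    · exact ⟨0, 0, t, X11_eq t⟩
  | one => exact ⟨0, 0, 0, nf_zero.symm⟩
  | mul x y _ _ hx hy =>
    obtain ⟨a, e, f, rfl⟩ := hx
    obtain ⟨a', e', f', rfl⟩ := hy
    refine ⟨a + a', e + e', f + a' * e + f', ?_⟩
    rw [nf_mul]
    refine nf_congr ?_ ?_ ?_ ?_ ?_ ?_
    all_goals ring
  | inv x _ hx =>
    obtain ⟨a, e, f, rfl⟩ := hx
    refine ⟨a, e, f + a * e, inv_eq_of_mul_eq_one_right ?_⟩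
    rw [nf_mul, ← nf_zero]
    refine nf_congr ?_ ?_ ?_ ?_ ?_ ?_
    all_goals first
      | ring1
      | linear_combination a * two (F := F)
      | linear_combination e * two (F := F)
      | linear_combination (f + a * e) * two (F := F)

theorem short_wl {L : List ℕ} (hL : ∀ p ∈ L, p < 2) :
    certFullG2.wl L 9 ∈ [2, 3, 4, 7, 8, 9] ∧ certFullG2.wl L 10 ∈ [0, 1, 5, 6, 10, 11] ∧
      certFullG2.wl L 11 ∈ [0, 1, 5, 6, 10, 11] := by
  induction L with
  | nil => refine ⟨?_, ?_, ?_⟩ <;> decide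
  | cons p L ih =>
    obtain ⟨h1, h2, h3⟩ := ih fun q hq => hL q (by simp [hq])
    have hp := hL p (by simp)
    simp only [wl_eq, Tables.wlT] at h1 h2 h3 ⊢
    have key : ∀ p < 2, (∀ s ∈ [2, 3, 4, 7, 8, 9], tG2.refl p s ∈ [2, 3, 4, 7, 8, 9]) ∧
        ∀ s ∈ [0, 1, 5, 6, 10, 11], tG2.refl p s ∈ [0, 1, 5, 6, 10, 11] := by decide +kernel
    exact ⟨(key p hp).1 _ h1, (key p hp).2 _ h2, (key p hp).2 _ h3⟩

theorem no_nine_to_eleven {p E E' k : F} (hp : p ≠ 0) {r : ℕ} (hr : r ∈ [0, 1, 5, 6, 10, 11])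
    (h : X r k = nf 0 0 0 p E E') : False := by
  simp only [List.mem_cons, List.not_mem_nil, or_false] at hr
  by_cases h6 : 6 ≤ r
  · obtain rfl | rfl | rfl : r = 6 ∨ r = 10 ∨ r = 11 := by omega
    · rw [X6_eq] at h; exact hp (nf_inj h).2.2.2.1.symm
    · rw [X10_eq] at h; exact hp (nf_inj h).2.2.2.1.symm
    · rw [X11_eq] at h; exact hp (nf_inj h).2.2.2.1.symm
  · have hU : X r k ∈ chevG2.borelSubgroup F := h ▸ Subgroup.mem_sup_left (mem_U _ _ _ _ _ _)
    rw [certFullG2.eq_zero_of_mem (show r < 12 by omega) (fun hh => h6 hh.1) hU, X_zero,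
      ← nf_zero] at h
    exact hp (nf_inj h).2.2.2.1.symm

/-- The Weyl word of a Bruhat cell that keeps the short highest root element. -/
theorem wl_nine {a : GL chevG2.Idx F} (ha : a ∈ chevG2.diagonalSubgroup F) {L : List ℕ}
    (hL : ∀ p ∈ L, p < 2) {q r p E E' : F} (hp : p ≠ 0)
    (h : a * certFullG2.nw F L * nf 0 0 0 1 q r * (a * certFullG2.nw F L)⁻¹ = nf 0 0 0 p E E') :
    certFullG2.wl L 9 = 9 := by
  set n := a * certFullG2.nw F L with hn
  set y := nf 0 0 0 (1 : F) q r with hy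
  have hkeep : y ∈ certFullG2.KS F (certFullG2.keepSet L) certFullG2.T.h := by
    refine certFullG2.mem_keep hL (mem_U _ _ _ _ _ _) ?_
    rw [show certFullG2.nw F L * y * (certFullG2.nw F L)⁻¹ = a⁻¹ * (n * y * n⁻¹) * a⁻¹⁻¹ by
      rw [hn]; group, h]
    exact certFullG2.conj_B_U (certFullG2.H_le_B (inv_mem ha)) (mem_U _ _ _ _ _ _)
  obtain ⟨t, ht, e⟩ :=
    certFullG2.exists_oprod_KS (certFullG2.keepSet_closed hL) _ _ rfl le_rfl y hkeep
  have e' : y = nf (t 6) (t 7) (t 8) (t 9) (t 10) (t 11) := e.trans (nf_eq_oprod t).symm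
  obtain ⟨-, -, -, e9, e10, e11⟩ := nf_inj e'
  have pos9 : certFullG2.Pos (certFullG2.wl L 9) := by
    by_contra hneg
    exact one_ne_zero (e9.trans (ht 9 fun h => hneg h.2))
  obtain ⟨h9, h10, h11⟩ := short_wl hL
  obtain ⟨k9, hk9, c9⟩ := certFullG2.mono_mul_xg (F := F) ha hL (s := 9) (by decide)
  obtain ⟨k10, -, c10⟩ := certFullG2.mono_mul_xg (F := F) ha hL (s := 10) (by decide)
  obtain ⟨k11, -, c11⟩ := certFullG2.mono_mul_xg (F := F) ha hL (s := 11) (by decide)
  have himg : X (certFullG2.wl L 9) k9 * (X (certFullG2.wl L 10) (k10 * q) *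
      X (certFullG2.wl L 11) (k11 * r)) = nf 0 0 0 p E E' := by
    rw [← h, hy, show nf 0 0 0 (1 : F) q r = X 9 1 * (X 10 q * X 11 r) by simp [nf, X_zero],
      show n * (X 9 1 * (X 10 q * X 11 r)) * n⁻¹ = n * X 9 1 * n⁻¹ *
        ((n * X 10 q * n⁻¹) * (n * X 11 r * n⁻¹)) by group]
    simp only [X] at *
    rw [c9, c10, c11, mul_inv_cancel_right, mul_inv_cancel_right, mul_inv_cancel_right, mul_one]
  have hlong : X (certFullG2.wl L 10) (k10 * q) * X (certFullG2.wl L 11) (k11 * r) ∈ longU F := by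
    have one : ∀ (s : ℕ) (v w : F), s ∈ [0, 1, 5, 6, 10, 11] → (¬ certFullG2.Pos s → v = 0) →
        X s (w * v) ∈ longU F := by
      intro s v w hs hv
      by_cases h6 : 6 ≤ s
      · refine Subgroup.subset_closure ⟨s, ?_, _, rfl⟩
        simp only [List.mem_cons, List.not_mem_nil, or_false] at hs ⊢
        omega
      · rw [hv fun hh => h6 hh.1, mul_zero, X_zero]
        exact one_mem _
    refine mul_mem (one _ q k10 h10 fun hneg => ?_) (one _ r k11 h11 fun hneg => ?_)
    · exact e10.trans (ht 10 fun h => hneg h.2)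
    · exact e11.trans (ht 11 fun h => hneg h.2)
  obtain ⟨a', e0, f0, hl⟩ := longU_form (inv_mem hlong)
  have hfin : X (certFullG2.wl L 9) k9 = nf 0 0 0 p E E' * nf a' 0 0 0 e0 f0 := by
    rw [← himg, ← hl, mul_inv_cancel_right]
  rw [nf_mul] at hfin
  simp only [List.mem_cons, List.not_mem_nil, or_false] at h9
  have := pos9.1
  rcases h9 with h9 | h9 | h9 | h9 | h9 | h9 <;> rw [h9] at this hfin
  · exact absurd this (by decide)
  · exact absurd this (by decide)
  · exact absurd this (by decide)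
  · rw [X7_eq] at hfin
    exact absurd (by simpa using (nf_inj hfin).2.1) hk9
  · rw [X8_eq] at hfin
    exact absurd (by simpa using (nf_inj hfin).2.2.1) hk9
  · exact h9

/-- The two representatives are not conjugate. -/
theorem not_cj : ¬ Cj (X 11 (1 : F)) (X 9 (1 : F)) := by
  rintro ⟨g, hg, e⟩
  obtain ⟨b, hb, a, ha, L, hL, u, hu, rfl⟩ := certFullG2.bruhat_exists hg
  have hu' := certFullG2.KS_invSet_le_U hL hu
  have hcen : u * X 11 1 * u⁻¹ = X 11 1 := by
    obtain ⟨a', b', c', d', e', f', rfl⟩ := exists_nf hu'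
    rw [mul_inv_eq_iff_eq_mul, X11_eq, nf_mul, nf_mul]
    refine nf_congr ?_ ?_ ?_ ?_ ?_ ?_
    all_goals ring
  obtain ⟨k, hk, c11⟩ := certFullG2.mono_mul_xg (F := F) ha hL (s := 11) (by decide)
  obtain ⟨p, E, E', hp, hB⟩ := B_conj_nine (inv_mem hb)
  refine no_nine_to_eleven (p := p) (E := E) (E' := E') hp (short_wl hL).2.2 (k := k) ?_
  rw [← hB, ← e, inv_inv]
  simp only [X] at *
  rw [show b⁻¹ * (b * (a * certFullG2.nw F L) * u * certFullG2.xg 11 1 *
    (b * (a * certFullG2.nw F L) * u)⁻¹) * b = a * certFullG2.nw F L *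
      (u * certFullG2.xg 11 1 * u⁻¹) * (a * certFullG2.nw F L)⁻¹ by group, hcen, c11,
    mul_inv_cancel_right, mul_one]

theorem hg_one {p : ℕ} (hp : p < 2) : certFullG2.hg (chevG2.simple p) (1 : F) = 1 := by
  rw [show (1 : F) = ((1 : Fˣ) : F) from Units.val_one.symm,
    certFullG2.hg_eq (certFullG2.simple_lt hp) 1, ← map_one (dg chevG2 F)]
  exact dg_ext chevG2 F fun s _ => by simp [CertFull.pairChar]

/-- The centraliser of the short root involution. -/
theorem centralizer_nine : chevG2.group F ⊓ Subgroup.centralizer {X 9 (1 : F)} =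
    chevG2.rootSubgroup F 9 ⊔ chevG2.rootSubgroup F 10 ⊔ chevG2.rootSubgroup F 11 ⊔
      chevG2.rootSubgroup F 6 ⊔ chevG2.rootSubgroup F 5 := by
  set S := chevG2.rootSubgroup F 9 ⊔ chevG2.rootSubgroup F 10 ⊔ chevG2.rootSubgroup F 11 ⊔
      chevG2.rootSubgroup F 6 ⊔ chevG2.rootSubgroup F 5 with hS
  have memS : ∀ r ∈ [9, 10, 11, 6, 5], ∀ t : F, X r t ∈ S := by
    intro r hr t
    have h : X r t ∈ chevG2.rootSubgroup F r := certFullG2.mem_rootSubgroup_iff.2 ⟨t, rfl⟩
    simp only [List.mem_cons, List.not_mem_nil, or_false] at hr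
    rcases hr with rfl | rfl | rfl | rfl | rfl
    · exact Subgroup.mem_sup_left (Subgroup.mem_sup_left (Subgroup.mem_sup_left
        (Subgroup.mem_sup_left h)))
    · exact Subgroup.mem_sup_left (Subgroup.mem_sup_left (Subgroup.mem_sup_left
        (Subgroup.mem_sup_right h)))
    · exact Subgroup.mem_sup_left (Subgroup.mem_sup_left (Subgroup.mem_sup_right h))
    · exact Subgroup.mem_sup_left (Subgroup.mem_sup_right h)
    · exact Subgroup.mem_sup_right h
  have hle : S ≤ chevG2.group F ⊓ Subgroup.centralizer {X 9 (1 : F)} := by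
    have one : ∀ r < 12, r = 9 ∨ (r ≠ 9 ∧ r ≠ chevG2.neg 9 ∧
        certFullG2.T.commTerms 9 r = []) →
        chevG2.rootSubgroup F r ≤ chevG2.group F ⊓ Subgroup.centralizer {X 9 (1 : F)} := by
      intro r hr h x hx
      obtain ⟨t, rfl⟩ := certFullG2.mem_rootSubgroup_iff.1 hx
      refine ⟨certFullG2.xg_mem_group_all r t, ?_⟩
      show _ ∈ Subgroup.centralizer _
      rw [Subgroup.mem_centralizer_singleton_iff]
      rcases h with rfl | ⟨h1, h2, h3⟩
      · simp only [X]
        rw [← certFullG2.xg_add, ← certFullG2.xg_add, add_comm]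
      · exact ((commute_of_nil (by omega) hr h1 h2 h3 (1 : F) t).eq).symm
    refine sup_le (sup_le (sup_le (sup_le ?_ ?_) ?_) ?_) ?_ <;>
      refine one _ (by omega) ?_
    · exact Or.inl rfl
    all_goals exact Or.inr (by decide +kernel)
  refine le_antisymm ?_ hle
  intro g hgm
  obtain ⟨hgG, hgC⟩ := Subgroup.mem_inf.1 hgm
  rw [Subgroup.mem_centralizer_singleton_iff] at hgC
  -- the element lies in the parabolic subgroup of the long fundamental root
  have hgP : g ∈ chevG2.parabolicSubgroup F ({1} : Set ℕ) := by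
    obtain ⟨b, hb, a, ha, L, hL, u, hu, rfl⟩ := certFullG2.bruhat_exists hgG
    have hu' := certFullG2.KS_invSet_le_U hL hu
    obtain ⟨E, E', he⟩ := u_conj_nine hu' (1 : F)
    obtain ⟨p, E1, E1', hp, hB⟩ := B_conj_nine (inv_mem hb)
    have hfix : certFullG2.wl L 9 = 9 := wl_nine ha hL hp (by
      rw [← he, ← hB, inv_inv]
      calc a * certFullG2.nw F L * (u * X 9 1 * u⁻¹) * (a * certFullG2.nw F L)⁻¹ =
          b⁻¹ * ((b * (a * certFullG2.nw F L) * u) * X 9 1 *
            (b * (a * certFullG2.nw F L) * u)⁻¹) * b := by group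
        _ = _ := by rw [hgC]; group)
    have hB' : chevG2.borelSubgroup F ≤ chevG2.parabolicSubgroup F ({1} : Set ℕ) := le_sup_left
    refine mul_mem (mul_mem (hB' hb) (mul_mem (hB' (certFullG2.H_le_B ha)) ?_))
      (hB' (Subgroup.mem_sup_left hu'))
    refine certFullG2.nw_mem_of_fix (R := [9]) ?_ (le_trans certFullG2.H_le_B hB') ?_ hL
      (by simpa using hfix)
    · intro r hr
      rw [List.mem_singleton] at hr
      subst hr
      refine ⟨by decide, fun p hp => ?_⟩
      have : ∀ p < 2, 0 ≤ tG2.cartan p 9 := by decide +kernel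
      exact this p hp
    · intro p hp h
      have : p = 1 := by
        have key : ∀ p < 2, tG2.cartan p 9 = 0 → p = 1 := by decide +kernel
        exact key p hp (h 9 (by simp))
      subst this
      exact Subgroup.mem_sup_right (Subgroup.subset_closure ⟨1, rfl, hp, certFullG2.ng_val _ _⟩)
  set J : Set ℕ := {1} with hJ
  rw [← certFullG2.radical_sup_levi J] at hgP
  have hnorm : chevG2.leviSubgroup F J ≤
      Subgroup.normalizer (chevG2.unipotentRadical F J : Set (GL chevG2.Idx F)) :=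
    (le_sup_right.trans (certFullG2.radical_sup_levi J).le).trans
      (certFullG2.parabolic_le_normalizer J)
  rw [← SetLike.mem_coe, Subgroup.coe_mul_of_right_le_normalizer_left _ _ hnorm, Set.mem_mul]
    at hgP
  obtain ⟨v, hv, l, hl, rfl⟩ := hgP
  set M := Subgroup.closure {x : GL chevG2.Idx F | ∃ (r : ℕ) (t : F),
    chevG2.InRootSub J r ∧ (x : Matrix chevG2.Idx chevG2.Idx F) = chevG2.x F r t} with hM
  have hsub : ∀ r, chevG2.InRootSub J r → r ∈ [5, 6] := by
    intro r hr
    obtain ⟨hlt, h0⟩ := certFullG2.inRootSub_iff.1 hr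
    have key : ∀ r < 12, tG2.vec r 0 = 0 → r ∈ [5, 6] := by decide +kernel
    exact key r hlt (h0 0 (by decide) (by simp [hJ]))
  have hMS : M ≤ S := by
    refine (Subgroup.closure_le _).2 ?_
    rintro x ⟨r, t, hr, e⟩
    obtain rfl := certFullG2.eq_xg_iff.1 e
    have := hsub r hr
    refine memS r ?_ t
    simp only [List.mem_cons, List.not_mem_nil, or_false] at this ⊢
    omega
  have hHM : chevG2.diagonalSubgroup F ≤ Subgroup.normalizer (M : Set (GL chevG2.Idx F)) := by
    refine certFullG2.torus_le_normalizer ?_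
    rintro x ⟨r, t, hr, e⟩
    obtain rfl := certFullG2.eq_xg_iff.1 e
    exact ⟨r, hr.1, t, rfl, fun u => Subgroup.subset_closure ⟨r, u, hr, certFullG2.xg_val _ _⟩⟩
  have hl' : l ∈ ((chevG2.diagonalSubgroup F ⊔ M : Subgroup (GL chevG2.Idx F)) :
      Set (GL chevG2.Idx F)) := hl
  rw [Subgroup.coe_mul_of_left_le_normalizer_right _ _ hHM, Set.mem_mul] at hl'
  obtain ⟨h, hh, m, hm, rfl⟩ := hl'
  rw [SetLike.mem_coe, certFullG2.diagonalSubgroup_eq] at hh
  obtain ⟨z, rfl⟩ := hh
  have hz : certFullG2.torus z =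
      certFullG2.hg (chevG2.simple 0) (z 0 : F) * certFullG2.hg (chevG2.simple 1) (z 1 : F) := by
    rw [certFullG2.torus_eq_prod, show List.range chevG2.rank = [0, 1] by decide]
    simp
  have h1M : certFullG2.hg (chevG2.simple 1) (z 1 : F) ∈ M := by
    have hJ1 : chevG2.InRootSub J (chevG2.simple 1) :=
      certFullG2.inRootSub_simple (by simp [hJ]) (by decide)
    have hx : ∀ t : F, certFullG2.xg (chevG2.simple 1) t ∈ M := fun t =>
      Subgroup.subset_closure ⟨_, t, hJ1, certFullG2.xg_val _ _⟩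
    have hy : ∀ t : F, certFullG2.xg (chevG2.neg (chevG2.simple 1)) t ∈ M := fun t =>
      Subgroup.subset_closure ⟨_, t, certFullG2.inRootSub_neg hJ1, certFullG2.xg_val _ _⟩
    have hng : ∀ t : F, certFullG2.ng (chevG2.simple 1) t ∈ M := fun t =>
      mul_mem (mul_mem (hx _) (hy _)) (hx _)
    exact mul_mem (hng _) (hng _)
  set s := (z 0 : F)
  set m' := certFullG2.hg (chevG2.simple 1) (z 1 : F) * m with hm'
  have hmS : m' ∈ S := hMS (mul_mem h1M hm)
  have hmC : m' * X 9 1 = X 9 1 * m' := by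
    exact Subgroup.mem_centralizer_singleton_iff.1 (hle hmS).2
  have hexp : v * (certFullG2.torus z * m) = v * certFullG2.hg (chevG2.simple 0) s * m' := by
    rw [hz, hm']; group
  rw [hexp] at hgC ⊢
  refine mul_mem ?_ hmS
  set h0 := certFullG2.hg (chevG2.simple 0) s with hh0
  have hvh : v * h0 * X 9 1 = X 9 1 * (v * h0) := by
    calc v * h0 * X 9 1 = v * h0 * (m' * X 9 1) * m'⁻¹ := by rw [hmC]; group
      _ = X 9 1 * (v * h0) := by rw [← mul_assoc (v * h0), hgC]; group
  have hvU : v ∈ chevG2.posUnipotent F := certFullG2.U_J_le_U J hv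
  obtain ⟨E, E', he⟩ := u_conj_nine hvU s
  have hs : h0 * X 9 1 * h0⁻¹ = X 9 s := by
    have e := certFullG2.hg_mul_xg (certFullG2.simple_lt (show 0 < 2 by omega))
      (show 9 < chevG2.nroots by decide) (z 0) (1 : F)
    rw [certFullG2.pairing_simple (show 0 < 2 by omega),
      show certFullG2.T.cartan 0 9 = 1 by decide +kernel, zpow_one, mul_one] at e
    rw [hh0]
    simp only [X]
    rw [e, mul_inv_cancel_right]
  have h9 : nf 0 0 0 s E E' = nf 0 0 0 (1 : F) 0 0 := by
    rw [← he, ← hs, ← X9_eq, show v * (h0 * X 9 1 * h0⁻¹) * v⁻¹ =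
      v * h0 * X 9 1 * (v * h0)⁻¹ by group, hvh, mul_inv_cancel_right]
  obtain ⟨-, -, -, hs1, -, -⟩ := nf_inj h9
  have h01 : h0 = 1 := by rw [hh0, hs1]; exact hg_one (by omega)
  rw [h01, mul_one] at hvh ⊢
  obtain ⟨a, b, c, d, e, f, rfl⟩ := exists_nf hvU
  rw [X9_eq, nf_mul, nf_mul] at hvh
  obtain ⟨-, -, -, -, h10, h11⟩ := nf_inj hvh
  have hb0 : b = 0 := by linear_combination -h10 + (0 : F) * two (F := F)
  subst hb0
  have hc0 : c = 0 := by linear_combination -h11 + (0 : F) * two (F := F)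
  subst hc0
  exact mul_mem (memS 6 (by simp) _) (mul_mem (by rw [X_zero]; exact one_mem _)
    (mul_mem (by rw [X_zero]; exact one_mem _) (mul_mem (memS 9 (by simp) _)
      (mul_mem (memS 10 (by simp) _) (mul_mem (memS 11 (by simp) _) (one_mem _))))))

/-- The centraliser of the long root involution. -/
theorem centralizer_eleven : chevG2.group F ⊓ Subgroup.centralizer {X 11 (1 : F)} =
    chevG2.posUnipotent F ⊔ chevG2.rootSubgroup F 4 := by
  simp only [X]
  rw [certFullG2.centralizer_root' (r := 11) (i := 1) (by decide +kernel) (l := [4])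
    (by decide +kernel)]
  congr 1
  unfold ChevalleyDatum.rootSubgroup
  congr 1
  ext g
  simp

end Cfsg.Agent.Lie.Chev.G2Even
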