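import Cfsg.Agent.Lib.Lie.Chev.G2EvenNormalForm
import Cfsg.Agent.Lib.Lie.Chev.Centralizer
import Cfsg.Agent.Lib.Lie.Chev.Parabolic

/-! Involutions of `G₂` in characteristic two and their centralisers. -/

set_option autoImplicit false
set_option maxRecDepth 20000

namespace Cfsg.Agent.Lie.Chev.G2Even

open Cfsg.Lie

variable {F : Type*} [Field F] [CharP F 2]

/-- Conjugate in the group. -/
def Cj (g h : GL chevG2.Idx F) : Prop := ∃ x ∈ chevG2.group F, x * g * x⁻¹ = h

theorem Cj.trans {g h k : GL chevG2.Idx F} (h1 : Cj g h) (h2 : Cj h k) : Cj g k := by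
  obtain ⟨x, hx, rfl⟩ := h1
  obtain ⟨y, hy, rfl⟩ := h2
  exact ⟨y * x, mul_mem hy hx, by group⟩

theorem Cj.symm {g h : GL chevG2.Idx F} (h1 : Cj g h) : Cj h g := by
  obtain ⟨x, hx, rfl⟩ := h1
  exact ⟨x⁻¹, inv_mem hx, by group⟩

theorem X_inv (r : ℕ) (t : F) : (X r t)⁻¹ = X r t := by
  rw [X, certFullG2.xg_inv, CharTwo.neg_eq]

theorem cj_X (r : ℕ) (s : F) (g : GL chevG2.Idx F) : Cj g (X r s * g * X r s) :=
  ⟨X r s, X_mem r s, by rw [X_inv]⟩

/-- Simplify a normal form computation. -/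
theorem nf_congr {a b c d e f a' b' c' d' e' f' : F} (ha : a = a') (hb : b = b') (hc : c = c')
    (hd : d = d') (he : e = e') (hf : f = f') : nf a b c d e f = nf a' b' c' d' e' f' := by
  subst ha hb hc hd he hf; rfl

theorem two : (2 : F) = 0 := CharTwo.two_eq_zero

theorem conj6 (s a b c d e f : F) : X 6 s * nf a b c d e f * X 6 s =
    nf a b (c + s * b) (d + s * b ^ 2) (e + s * b ^ 3) (f + s * e + s * b ^ 2 * c) := by
  rw [X6_eq, nf_mul, nf_mul]
  refine nf_congr ?_ ?_ ?_ ?_ ?_ ?_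
  · linear_combination s * two (F := F)
  all_goals ring

theorem conj7 (s c d e f a : F) : X 7 s * nf a 0 c d e f * X 7 s =
    nf a 0 (c + a * s) (d + a * s ^ 2) (e + a * s ^ 3 + s * (d + a * s ^ 2) + s ^ 2 * (c + a * s))
      (f + a * s ^ 2 * c + s * (c + a * s) ^ 2) := by
  rw [X7_eq, nf_mul, nf_mul]
  refine nf_congr ?_ ?_ ?_ ?_ ?_ ?_
  · ring
  · linear_combination s * two (F := F)
  all_goals ring

theorem conj8 (s a d e f : F) : X 8 s * nf a 0 0 d e f * X 8 s =
    nf a 0 0 d e (f + d * s) := by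
  rw [X8_eq, nf_mul, nf_mul]
  refine nf_congr ?_ ?_ ?_ ?_ ?_ ?_
  all_goals first
    | ring1
    | linear_combination s * two (F := F)

theorem conj9 (s b e f : F) : X 9 s * nf 0 b 0 0 e f * X 9 s = nf 0 b 0 0 (e + b * s) f := by
  rw [X9_eq, nf_mul, nf_mul]
  refine nf_congr ?_ ?_ ?_ ?_ ?_ ?_
  all_goals first
    | ring1
    | linear_combination s * two (F := F)

theorem conj10 (s a d f : F) : X 10 s * nf a 0 0 d 0 f * X 10 s = nf a 0 0 d 0 (f + a * s) := by
  rw [X10_eq, nf_mul, nf_mul]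
  refine nf_congr ?_ ?_ ?_ ?_ ?_ ?_
  all_goals first
    | ring1
    | linear_combination s * two (F := F)

/-- The conditions for squaring to one. -/
theorem square_eq_one {a b c d e f : F} (h : nf a b c d e f * nf a b c d e f = 1) :
    a * b = 0 ∧ (b = 0 → a * e + d * c = 0) ∧ (a = 0 → b * d + b ^ 2 * c = 0) := by
  rw [nf_mul, ← nf_zero] at h
  obtain ⟨-, -, h8, -, h10, h11⟩ := nf_inj h
  refine ⟨?_, ?_, ?_⟩
  · linear_combination h8 - c * two (F := F)
  · rintro rfl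
    linear_combination h11 - f * two (F := F)
  · rintro rfl
    linear_combination h10 - e * two (F := F)

theorem conj4_nine (s d : F) : X 4 s * X 9 d * X 4 s = nf (s ^ 2 * d) 0 0 d 0 (s * d ^ 2) := by
  have h := sw49 s d (1 : GL chevG2.Idx F)
  simp only [mul_one] at h
  rw [mul_assoc, h, merge, CharTwo.add_self_eq_zero, X_zero, one_mul, X6_eq, X9_eq, X11_eq, nf_mul,
    nf_mul]
  refine nf_congr ?_ ?_ ?_ ?_ ?_ ?_
  all_goals first
    | ring1
    | linear_combination (0 : F) * two (F := F)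

/-- A monomial element moves root elements by its Weyl word. -/
theorem exists_move {L : List ℕ} (hL : ∀ p ∈ L, p < 2) :
    ∃ n ∈ chevG2.group F, ∀ r < 12, ∃ k : F, k ≠ 0 ∧ ∀ t : F,
      n * X r t * n⁻¹ = X (certFullG2.wl L r) (k * t) := by
  refine ⟨1 * certFullG2.nw F L, ?_, fun r hr => ?_⟩
  · exact mul_mem (one_mem _) (certFullG2.N_le_group (certFullG2.nw_mem_N hL))
  · obtain ⟨k, hk, e⟩ := certFullG2.mono_mul_xg (F := F) (one_mem _) hL (s := r) hr
    exact ⟨k, hk, fun t => by rw [X, e, mul_inv_cancel_right, X]⟩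

theorem wl_eq (L : List ℕ) (r : ℕ) : certFullG2.wl L r = tG2.wlT L r :=
  (certFullG2.wlT_eq L r).symm

variable [Fintype F]

theorem exists_sq (x : F) : ∃ r : F, r ^ 2 = x := by
  obtain ⟨r, hr⟩ := FiniteField.isSquare_of_char_two (ringChar.eq F 2) x
  exact ⟨r, by rw [hr, pow_two]⟩

theorem cj_nine {d : F} (hd : d ≠ 0) : Cj (X 9 d) (X 9 (1 : F)) := by
  refine ⟨certFullG2.hg (chevG2.simple 0) d⁻¹, certFullG2.B_le_group
    (certFullG2.H_le_B (certFullG2.hg_mem (certFullG2.simple_lt (show 0 < 2 by omega))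
      (inv_ne_zero hd))), ?_⟩
  have e := certFullG2.hg_mul_xg (certFullG2.simple_lt (show 0 < 2 by omega)) (show 9 < 12 by omega)
    (Units.mk0 d⁻¹ (inv_ne_zero hd)) d
  rw [certFullG2.pairing_simple (show 0 < 2 by omega),
    show certFullG2.T.cartan 0 9 = 1 by decide +kernel, zpow_one, Units.val_mk0] at e
  rw [X, e, mul_inv_cancel_right, inv_mul_cancel₀ hd]
  rfl

theorem cj_eleven {d : F} (hd : d ≠ 0) : Cj (X 11 d) (X 11 (1 : F)) := by
  refine ⟨certFullG2.hg (chevG2.simple 1) d⁻¹, certFullG2.B_le_group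
    (certFullG2.H_le_B (certFullG2.hg_mem (certFullG2.simple_lt (show 1 < 2 by omega))
      (inv_ne_zero hd))), ?_⟩
  have e := certFullG2.hg_mul_xg (certFullG2.simple_lt (show 1 < 2 by omega)) (show 11 < 12 by omega)
    (Units.mk0 d⁻¹ (inv_ne_zero hd)) d
  rw [certFullG2.pairing_simple (show 1 < 2 by omega),
    show certFullG2.T.cartan 1 11 = 1 by decide +kernel, zpow_one, Units.val_mk0] at e
  rw [X, e, mul_inv_cancel_right, inv_mul_cancel₀ hd]
  rfl

/-- Being conjugate to one of the two representatives. -/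
def Good (g : GL chevG2.Idx F) : Prop := Cj g (X 11 (1 : F)) ∨ Cj g (X 9 (1 : F))

theorem good_of_cj {g h : GL chevG2.Idx F} (h1 : Cj g h) (h2 : Good h) : Good g :=
  h2.elim (fun h => Or.inl (h1.trans h)) fun h => Or.inr (h1.trans h)

theorem good_root {r : ℕ} (hr : r ∈ [6, 7, 9, 10, 11]) {t : F} (ht : t ≠ 0) :
    Good (X r t) := by
  have key : ∀ (L : List ℕ) (r s : ℕ), (∀ p ∈ L, p < 2) → r < 12 → tG2.wlT L r = s →
      ∀ {t : F}, t ≠ 0 → ∃ u : F, u ≠ 0 ∧ Cj (X r t) (X s u) := by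
    intro L r s hL hr hs t ht
    obtain ⟨n, hn, h⟩ := exists_move (F := F) hL
    obtain ⟨k, hk, e⟩ := h r hr
    exact ⟨k * t, mul_ne_zero hk ht, n, hn, by rw [e, wl_eq, hs]⟩
  simp only [List.mem_cons, List.not_mem_nil, or_false] at hr
  rcases hr with rfl | rfl | rfl | rfl | rfl
  · obtain ⟨u, hu, h⟩ := key [1, 0] 6 11 (by decide) (by omega) (by decide +kernel) ht
    exact Or.inl (h.trans (cj_eleven hu))
  · obtain ⟨u, hu, h⟩ := key [0, 1] 7 9 (by decide) (by omega) (by decide +kernel) ht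
    exact Or.inr (h.trans (cj_nine hu))
  · exact Or.inr (cj_nine ht)
  · obtain ⟨u, hu, h⟩ := key [1] 10 11 (by decide) (by omega) (by decide +kernel) ht
    exact Or.inl (h.trans (cj_eleven hu))
  · exact Or.inl (cj_eleven ht)

/-- An orthogonal pair of a long and a short root is short. -/
theorem good_six_nine {a d : F} (hd : d ≠ 0) : Good (nf a 0 0 d 0 0) := by
  by_cases ha : a = 0
  · subst ha
    rw [← X9_eq]
    exact good_root (by simp) hd
  obtain ⟨s, hs⟩ := exists_sq (a / d)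
  have e : s ^ 2 * d = a := by rw [hs, div_mul_cancel₀ _ hd]
  have h1 : Cj (X 9 d) (nf a 0 0 d 0 (s * d ^ 2)) := by
    have := cj_X 4 s (X 9 d)
    rwa [conj4_nine, e] at this
  have h2 : Cj (nf a 0 0 d 0 (s * d ^ 2)) (nf a 0 0 d 0 (0 : F)) := by
    have := cj_X 10 (s * d ^ 2 / a) (nf a 0 0 d 0 (s * d ^ 2))
    rwa [conj10, mul_div_cancel₀ _ ha, CharTwo.add_self_eq_zero] at this
  exact good_of_cj (h1.trans h2).symm (good_root (by simp) hd)

/-- Leading coordinate at the long fundamental root. -/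
theorem good_six {a c d e f : F} (ha : a ≠ 0) (h : nf a 0 c d e f * nf a 0 c d e f = 1) :
    Good (nf a 0 c d e f) := by
  obtain ⟨c', d', e', f', h1, hc⟩ : ∃ c' d' e' f', Cj (nf a 0 c d e f) (nf a 0 c' d' e' f') ∧
      c' = 0 := by
    have h1 := cj_X 7 (c / a) (nf a 0 c d e f)
    rw [conj7] at h1
    exact ⟨_, _, _, _, h1, by rw [mul_div_cancel₀ _ ha, CharTwo.add_self_eq_zero]⟩
  subst hc
  refine good_of_cj h1 ?_
  have hsq : nf a 0 0 d' e' f' * nf a 0 0 d' e' f' = 1 := by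
    obtain ⟨x, -, hx⟩ := h1
    rw [← hx, show x * nf a 0 c d e f * x⁻¹ * (x * nf a 0 c d e f * x⁻¹) =
      x * (nf a 0 c d e f * nf a 0 c d e f) * x⁻¹ by group, h]
    group
  have he : e' = 0 := by
    have := (square_eq_one hsq).2.1 rfl
    simpa [ha] using this
  subst he
  have h2 : Cj (nf a 0 0 d' 0 f') (nf a 0 0 d' 0 (0 : F)) := by
    have := cj_X 10 (f' / a) (nf a 0 0 d' 0 f')
    rwa [conj10, mul_div_cancel₀ _ ha, CharTwo.add_self_eq_zero] at this
  refine good_of_cj h2 ?_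
  by_cases hd : d' = 0
  · subst hd
    rw [← X6_eq]
    exact good_root (by simp) ha
  · exact good_six_nine hd

theorem good_seven {b c d e f : F} (hb : b ≠ 0) (h : nf 0 b c d e f * nf 0 b c d e f = 1) :
    Good (nf 0 b c d e f) := by
  obtain ⟨c', d', e', f', h1, hc⟩ : ∃ c' d' e' f', Cj (nf 0 b c d e f) (nf 0 b c' d' e' f') ∧
      c' = 0 := by
    have h1 := cj_X 6 (c / b) (nf 0 b c d e f)
    rw [conj6] at h1
    exact ⟨_, _, _, _, h1, by rw [div_mul_cancel₀ _ hb, CharTwo.add_self_eq_zero]⟩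
  subst hc
  refine good_of_cj h1 ?_
  have hsq : nf 0 b 0 d' e' f' * nf 0 b 0 d' e' f' = 1 := by
    obtain ⟨x, -, hx⟩ := h1
    rw [← hx, show x * nf 0 b c d e f * x⁻¹ * (x * nf 0 b c d e f * x⁻¹) =
      x * (nf 0 b c d e f * nf 0 b c d e f) * x⁻¹ by group, h]
    group
  have hd : d' = 0 := by
    have := (square_eq_one hsq).2.2 rfl
    simpa [hb] using this
  subst hd
  have h2 : Cj (nf 0 b 0 0 e' f') (nf 0 b 0 0 0 f') := by
    have := cj_X 9 (e' / b) (nf 0 b 0 0 e' f')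
    rwa [conj9, mul_div_cancel₀ _ hb, CharTwo.add_self_eq_zero] at this
  refine good_of_cj h2 ?_
  by_cases hf : f' = 0
  · subst hf
    rw [← X7_eq]
    exact good_root (by simp) hb
  obtain ⟨n, hn, hmove⟩ := exists_move (F := F) (L := [0, 1]) (by decide)
  obtain ⟨k, hk, e7⟩ := hmove 7 (by omega)
  obtain ⟨l, -, e11⟩ := hmove 11 (by omega)
  rw [wl_eq, show tG2.wlT [0, 1] 7 = 9 by decide +kernel] at e7
  rw [wl_eq, show tG2.wlT [0, 1] 11 = 6 by decide +kernel] at e11
  have h3 : Cj (nf 0 b 0 0 0 f') (nf (l * f') 0 0 (k * b) 0 0) := by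
    refine ⟨n, hn, ?_⟩
    rw [show nf 0 b 0 0 0 f' = X 7 b * X 11 f' by simp [nf, X_zero],
      show n * (X 7 b * X 11 f') * n⁻¹ = n * X 7 b * n⁻¹ * (n * X 11 f' * n⁻¹) by group, e7, e11,
      show nf (l * f') 0 0 (k * b) 0 0 = X 6 (l * f') * X 9 (k * b) by simp [nf, X_zero]]
    exact (commute_of_nil (by omega) (by omega) (by omega) (by decide +kernel) (by decide +kernel)
      (l * f') (k * b)).eq.symm
  exact good_of_cj h3 (good_six_nine (mul_ne_zero hk hb))

theorem good_of_mem_U {g : GL chevG2.Idx F} (hg : g ∈ chevG2.posUnipotent F) (h1 : g ≠ 1)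
    (h2 : g * g = 1) : Good g := by
  obtain ⟨a, b, c, d, e, f, rfl⟩ := exists_nf hg
  have hab := (square_eq_one h2).1
  by_cases ha : a ≠ 0
  · obtain rfl : b = 0 := by simpa [ha] using hab
    exact good_six ha h2
  push Not at ha
  subst ha
  by_cases hb : b ≠ 0
  · exact good_seven hb h2
  push Not at hb
  subst hb
  by_cases hc : c ≠ 0
  · obtain ⟨n, hn, hmove⟩ := exists_move (F := F) (L := [1]) (by decide)
    obtain ⟨k8, hk8, e8⟩ := hmove 8 (by omega)
    obtain ⟨k9, -, e9⟩ := hmove 9 (by omega)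
    obtain ⟨k10, -, e10⟩ := hmove 10 (by omega)
    obtain ⟨k11, -, e11⟩ := hmove 11 (by omega)
    rw [wl_eq, show tG2.wlT [1] 8 = 7 by decide +kernel] at e8
    rw [wl_eq, show tG2.wlT [1] 9 = 9 by decide +kernel] at e9
    rw [wl_eq, show tG2.wlT [1] 10 = 11 by decide +kernel] at e10
    rw [wl_eq, show tG2.wlT [1] 11 = 10 by decide +kernel] at e11
    have h3 : n * nf 0 0 c d e f * n⁻¹ = nf 0 (k8 * c) 0 (k9 * d) (k11 * f) (k10 * e) := by
      rw [show nf 0 0 c d e f = X 8 c * (X 9 d * (X 10 e * X 11 f)) by simp [nf, X_zero],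
        show n * (X 8 c * (X 9 d * (X 10 e * X 11 f))) * n⁻¹ = n * X 8 c * n⁻¹ *
          (n * X 9 d * n⁻¹ * ((n * X 10 e * n⁻¹) * (n * X 11 f * n⁻¹))) by group, e8, e9, e10, e11,
        (commute_of_nil (by omega) (by omega) (by omega) (by decide +kernel) (by decide +kernel)
          (k11 * f) (k10 * e)).eq.symm]
      simp [nf, X_zero]
    refine good_of_cj ⟨n, hn, h3⟩ (good_seven (mul_ne_zero hk8 hc) ?_)
    rw [← h3, show n * nf 0 0 c d e f * n⁻¹ * (n * nf 0 0 c d e f * n⁻¹) =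
      n * (nf 0 0 c d e f * nf 0 0 c d e f) * n⁻¹ by group, h2]
    group
  push Not at hc
  subst hc
  by_cases hd : d ≠ 0
  · obtain ⟨e', f', h3, he⟩ : ∃ e' f', Cj (nf 0 0 0 d e f) (nf 0 0 0 d e' f') ∧ e' = 0 := by
      have h3 := cj_X 7 (e / d) (nf 0 0 0 d e f)
      rw [conj7] at h3
      simp only [zero_mul, add_zero, mul_zero, zero_add, zero_pow two_ne_zero] at h3
      exact ⟨_, _, h3, by rw [div_mul_cancel₀ _ hd, CharTwo.add_self_eq_zero]⟩
    subst he
    have h4 : Cj (nf 0 0 0 d 0 f') (nf 0 0 0 d 0 (0 : F)) := by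
      have := cj_X 8 (f' / d) (nf 0 0 0 d 0 f')
      rwa [conj8, mul_div_cancel₀ _ hd, CharTwo.add_self_eq_zero] at this
    refine good_of_cj (h3.trans h4) ?_
    rw [← X9_eq]
    exact good_root (by simp) hd
  push Not at hd
  subst hd
  by_cases he : e ≠ 0
  · have h3 : Cj (nf 0 0 0 0 e f) (nf 0 0 0 0 e (0 : F)) := by
      have := cj_X 6 (f / e) (nf 0 0 0 0 e f)
      rw [conj6] at this
      simpa [he, CharTwo.add_self_eq_zero] using this
    refine good_of_cj h3 ?_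
    rw [← X10_eq]
    exact good_root (by simp) he
  push Not at he
  subst he
  rw [← X11_eq]
  refine good_root (by simp) fun hf => h1 ?_
  rw [hf, nf_zero]

theorem good_of_involution {g : GL chevG2.Idx F} (hg : g ∈ chevG2.group F) (ho : orderOf g = 2) :
    Good g := by
  have hR : IsPGroup 2 ↥(Subgroup.zpowers g) :=
    IsPGroup.of_card (n := 1) (by rw [Nat.card_zpowers, ho, pow_one])
  obtain ⟨x, hx, h⟩ := certFullG2.exists_conj_into_U (p := 2) (by
    rw [Subgroup.zpowers_le]; exact hg) hR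
  have h2 : g * g = 1 := by rw [← pow_two, ← ho, pow_orderOf_eq_one]
  refine good_of_cj ⟨x⁻¹, inv_mem hx, by rw [inv_inv]⟩
    (good_of_mem_U (h g (Subgroup.mem_zpowers g)) (fun e => ?_) ?_)
  · have hg1 : g = 1 := by
      calc g = x * (x⁻¹ * g * x) * x⁻¹ := by group
        _ = 1 := by rw [e]; group
    rw [hg1, orderOf_one] at ho
    omega
  · rw [show x⁻¹ * g * x * (x⁻¹ * g * x) = x⁻¹ * (g * g) * x by group, h2]
    group

omit [Fintype F] in
theorem orderOf_X {r : ℕ} (hr : r < 12) : orderOf (X r (1 : F)) = 2 := by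
  refine orderOf_eq_prime ?_ ?_
  · rw [pow_two, ← X_add, CharTwo.add_self_eq_zero, X_zero]
  · exact fun h => one_ne_zero ((X_eq_one_iff hr 1).1 h)

end Cfsg.Agent.Lie.Chev.G2Even
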