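import Cfsg.Agent.Lib.Lie.Chev.BorelTits
import Cfsg.Agent.Lib.Lie.Chev.CertsFull

/-! The unipotent subgroup of `G₂` in characteristic two in coordinates. -/

set_option autoImplicit false
set_option maxRecDepth 20000

namespace Cfsg.Agent.Lie.Chev.G2Even

open Cfsg.Lie

variable {F : Type*} [Field F]

/-- Root elements of `G₂`. -/
def X (r : ℕ) (t : F) : GL chevG2.Idx F := certFullG2.xg r t

theorem X_zero (r : ℕ) : X r (0 : F) = 1 := certFullG2.xg_zero r

theorem X_add (r : ℕ) (a b : F) : X r (a + b) = X r a * X r b := certFullG2.xg_add r a b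

theorem merge (r : ℕ) (a b : F) (Z : GL chevG2.Idx F) : X r a * (X r b * Z) = X r (a + b) * Z := by
  rw [X_add, mul_assoc]

theorem X_eq_one_iff {r : ℕ} (hr : r < 12) (t : F) : X r t = 1 ↔ t = 0 :=
  certFullG2.xg_eq_one_iff hr t

theorem pos {r : ℕ} (h1 : 6 ≤ r) (h2 : r < 12) : certFullG2.Pos r := ⟨h1, h2⟩

theorem X_mem (r : ℕ) (t : F) : X r t ∈ chevG2.group F := certFullG2.xg_mem_group_all r t

/-- The product in increasing order. -/
def nf (a b c d e f : F) : GL chevG2.Idx F :=
  X 6 a * (X 7 b * (X 8 c * (X 9 d * (X 10 e * (X 11 f * 1)))))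

theorem mem_U (a b c d e f : F) : nf a b c d e f ∈ chevG2.posUnipotent F :=
  mul_mem (certFullG2.xg_mem_U (pos le_rfl (by omega)) _)
    (mul_mem (certFullG2.xg_mem_U (pos (by omega) (by omega)) _)
      (mul_mem (certFullG2.xg_mem_U (pos (by omega) (by omega)) _)
        (mul_mem (certFullG2.xg_mem_U (pos (by omega) (by omega)) _)
          (mul_mem (certFullG2.xg_mem_U (pos (by omega) (by omega)) _)
            (mul_mem (certFullG2.xg_mem_U (pos (by omega) (by omega)) _) (one_mem _))))))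

theorem nf_eq_oprod (t : ℕ → F) :
    nf (t 6) (t 7) (t 8) (t 9) (t 10) (t 11) = certFullG2.oprod 6 t := by
  rw [certFullG2.oprod_succ (show 6 < 12 by omega), certFullG2.oprod_succ (show 7 < 12 by omega),
    certFullG2.oprod_succ (show 8 < 12 by omega), certFullG2.oprod_succ (show 9 < 12 by omega),
    certFullG2.oprod_succ (show 10 < 12 by omega), certFullG2.oprod_succ (show 11 < 12 by omega),
    certFullG2.oprod_of_ge (show chevG2.nroots ≤ 12 from le_refl 12)]
  rfl

theorem exists_nf {g : GL chevG2.Idx F} (hg : g ∈ chevG2.posUnipotent F) :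
    ∃ a b c d e f : F, g = nf a b c d e f := by
  rw [certFullG2.posUnipotent_eq] at hg
  obtain ⟨t, rfl⟩ := certFullG2.exists_oprod _ _ rfl le_rfl g hg
  exact ⟨_, _, _, _, _, _, (nf_eq_oprod t).symm⟩

/-- The coordinates as a function of the position. -/
def coord (a b c d e f : F) (r : ℕ) : F :=
  if r = 6 then a else if r = 7 then b else if r = 8 then c else if r = 9 then d
  else if r = 10 then e else if r = 11 then f else 0

theorem nf_inj {a b c d e f a' b' c' d' e' f' : F}
    (h : nf a b c d e f = nf a' b' c' d' e' f') :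
    a = a' ∧ b = b' ∧ c = c' ∧ d = d' ∧ e = e' ∧ f = f' := by
  have e1 : certFullG2.oprod 6 (coord a b c d e f) = certFullG2.oprod 6 (coord a' b' c' d' e' f') := by
    rw [← nf_eq_oprod, ← nf_eq_oprod]
    exact h
  have key := fun r (h1 : 6 ≤ r) (h2 : r < 12) =>
    certFullG2.oprod_inj _ 6 rfl (le_refl 6) _ _ e1 r h1 h2
  exact ⟨key 6 le_rfl (by omega), key 7 (by omega) (by omega), key 8 (by omega) (by omega),
    key 9 (by omega) (by omega), key 10 (by omega) (by omega), key 11 (by omega) (by omega)⟩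

theorem nf_zero : nf (0 : F) 0 0 0 0 0 = 1 := by simp [nf, X_zero]

theorem X6_eq (t : F) : X 6 t = nf t 0 0 0 0 0 := by simp [nf, X_zero]
theorem X7_eq (t : F) : X 7 t = nf 0 t 0 0 0 0 := by simp [nf, X_zero]
theorem X8_eq (t : F) : X 8 t = nf 0 0 t 0 0 0 := by simp [nf, X_zero]
theorem X9_eq (t : F) : X 9 t = nf 0 0 0 t 0 0 := by simp [nf, X_zero]
theorem X10_eq (t : F) : X 10 t = nf 0 0 0 0 t 0 := by simp [nf, X_zero]
theorem X11_eq (t : F) : X 11 t = nf 0 0 0 0 0 t := by simp [nf, X_zero]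

theorem commute_of_nil {r s : ℕ} (hr : r < 12) (hs : s < 12) (h1 : s ≠ r)
    (h2 : s ≠ chevG2.neg r) (h : certFullG2.T.commTerms r s = []) (t u : F) :
    Commute (X r t) (X s u) :=
  certFullG2.xg_commute hr hs h1 h2 h t u

theorem swap_of_nil {r s : ℕ} (hr : r < 12) (hs : s < 12) (h1 : s ≠ r) (h2 : s ≠ chevG2.neg r)
    (h : certFullG2.T.commTerms r s = []) (t u : F) (Z : GL chevG2.Idx F) :
    X s u * (X r t * Z) = X r t * (X s u * Z) := by
  rw [← mul_assoc, ← (commute_of_nil hr hs h1 h2 h t u).eq, mul_assoc]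

section

variable [CharP F 2]

theorem comm_even {r s : ℕ} (hr : r < 12) (hs : s < 12) (h1 : s ≠ r) (h2 : s ≠ chevG2.neg r)
    (t u : F) (Z : GL chevG2.Idx F) :
    X s u * (X r t * Z) = X r t * (X s u * (((certFullG2.T.commTerms r s).map fun x =>
      X x.1 ((x.2.1 : F) * t ^ x.2.2.1 * u ^ x.2.2.2)).prod * Z)) := by
  have e := certFullG2.xg_comm hr hs h1 h2 t u
  simp only [CharTwo.neg_eq] at e
  simp only [← mul_assoc]
  rw [show X s u * X r t = _ from e]
  rfl

theorem three : (3 : F) = 1 := by linear_combination (CharTwo.two_eq_zero (R := F))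

theorem sw67 (t u : F) (Z : GL chevG2.Idx F) : X 7 u * (X 6 t * Z) =
    X 6 t * (X 7 u * (X 8 (t * u) * (X 9 (t * u ^ 2) * (X 10 (t * u ^ 3) * Z)))) := by
  rw [comm_even (by omega) (by omega) (by omega) (by decide +kernel) t u Z,
    show certFullG2.T.commTerms 6 7 = [(8, 1, 1, 1), (9, 1, 1, 2), (10, -1, 1, 3), (11, -2, 2, 3)]
      by decide +kernel]
  simp [CharTwo.two_eq_zero, CharTwo.neg_eq, X_zero, mul_assoc]

theorem sw610 (t u : F) (Z : GL chevG2.Idx F) : X 10 u * (X 6 t * Z) =
    X 6 t * (X 10 u * (X 11 (t * u) * Z)) := by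
  rw [comm_even (by omega) (by omega) (by omega) (by decide +kernel) t u Z,
    show certFullG2.T.commTerms 6 10 = [(11, 1, 1, 1)] by decide +kernel]
  simp

theorem sw78 (t u : F) (Z : GL chevG2.Idx F) : X 8 u * (X 7 t * Z) =
    X 7 t * (X 8 u * (X 10 (t ^ 2 * u) * (X 11 (t * u ^ 2) * Z))) := by
  rw [comm_even (by omega) (by omega) (by omega) (by decide +kernel) t u Z,
    show certFullG2.T.commTerms 7 8 = [(9, -2, 1, 1), (10, -3, 2, 1), (11, 3, 1, 2)]
      by decide +kernel]
  simp [CharTwo.two_eq_zero, CharTwo.neg_eq, three, X_zero, mul_assoc]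

theorem sw79 (t u : F) (Z : GL chevG2.Idx F) : X 9 u * (X 7 t * Z) =
    X 7 t * (X 9 u * (X 10 (t * u) * Z)) := by
  rw [comm_even (by omega) (by omega) (by omega) (by decide +kernel) t u Z,
    show certFullG2.T.commTerms 7 9 = [(10, 3, 1, 1)] by decide +kernel]
  simp [three]

theorem sw89 (t u : F) (Z : GL chevG2.Idx F) : X 9 u * (X 8 t * Z) =
    X 8 t * (X 9 u * (X 11 (t * u) * Z)) := by
  rw [comm_even (by omega) (by omega) (by omega) (by decide +kernel) t u Z,
    show certFullG2.T.commTerms 8 9 = [(11, 3, 1, 1)] by decide +kernel]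
  simp [three]

theorem sw49 (t u : F) (Z : GL chevG2.Idx F) : X 9 u * (X 4 t * Z) =
    X 4 t * (X 9 u * (X 6 (t ^ 2 * u) * (X 11 (t * u ^ 2) * Z))) := by
  rw [comm_even (by omega) (by omega) (by omega) (by decide +kernel) t u Z,
    show certFullG2.T.commTerms 4 9 = [(8, -2, 1, 1), (6, 3, 2, 1), (11, -3, 1, 2)]
      by decide +kernel]
  simp [CharTwo.two_eq_zero, CharTwo.neg_eq, three, X_zero, mul_assoc]

theorem sw68 (t u : F) (Z : GL chevG2.Idx F) : X 8 u * (X 6 t * Z) = X 6 t * (X 8 u * Z) :=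
  swap_of_nil (by omega) (by omega) (by omega) (by decide +kernel) (by decide +kernel) t u Z
theorem sw69 (t u : F) (Z : GL chevG2.Idx F) : X 9 u * (X 6 t * Z) = X 6 t * (X 9 u * Z) :=
  swap_of_nil (by omega) (by omega) (by omega) (by decide +kernel) (by decide +kernel) t u Z
theorem sw611 (t u : F) (Z : GL chevG2.Idx F) : X 11 u * (X 6 t * Z) = X 6 t * (X 11 u * Z) :=
  swap_of_nil (by omega) (by omega) (by omega) (by decide +kernel) (by decide +kernel) t u Z
theorem sw710 (t u : F) (Z : GL chevG2.Idx F) : X 10 u * (X 7 t * Z) = X 7 t * (X 10 u * Z) :=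
  swap_of_nil (by omega) (by omega) (by omega) (by decide +kernel) (by decide +kernel) t u Z
theorem sw711 (t u : F) (Z : GL chevG2.Idx F) : X 11 u * (X 7 t * Z) = X 7 t * (X 11 u * Z) :=
  swap_of_nil (by omega) (by omega) (by omega) (by decide +kernel) (by decide +kernel) t u Z
theorem sw810 (t u : F) (Z : GL chevG2.Idx F) : X 10 u * (X 8 t * Z) = X 8 t * (X 10 u * Z) :=
  swap_of_nil (by omega) (by omega) (by omega) (by decide +kernel) (by decide +kernel) t u Z
theorem sw811 (t u : F) (Z : GL chevG2.Idx F) : X 11 u * (X 8 t * Z) = X 8 t * (X 11 u * Z) :=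
  swap_of_nil (by omega) (by omega) (by omega) (by decide +kernel) (by decide +kernel) t u Z
theorem sw910 (t u : F) (Z : GL chevG2.Idx F) : X 10 u * (X 9 t * Z) = X 9 t * (X 10 u * Z) :=
  swap_of_nil (by omega) (by omega) (by omega) (by decide +kernel) (by decide +kernel) t u Z
theorem sw911 (t u : F) (Z : GL chevG2.Idx F) : X 11 u * (X 9 t * Z) = X 9 t * (X 11 u * Z) :=
  swap_of_nil (by omega) (by omega) (by omega) (by decide +kernel) (by decide +kernel) t u Z
theorem sw1011 (t u : F) (Z : GL chevG2.Idx F) : X 11 u * (X 10 t * Z) = X 10 t * (X 11 u * Z) :=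
  swap_of_nil (by omega) (by omega) (by omega) (by decide +kernel) (by decide +kernel) t u Z
theorem sw46 (t u : F) (Z : GL chevG2.Idx F) : X 6 u * (X 4 t * Z) = X 4 t * (X 6 u * Z) :=
  swap_of_nil (by omega) (by omega) (by omega) (by decide +kernel) (by decide +kernel) t u Z

set_option maxHeartbeats 800000 in
/-- The law of `U`. -/
theorem nf_mul (a b c d e f a' b' c' d' e' f' : F) :
    nf a b c d e f * nf a' b' c' d' e' f' =
      nf (a + a') (b + b') (c + a' * b + c') (d + a' * b ^ 2 + d')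
        (e + a' * b ^ 3 + b' * (d + a' * b ^ 2) + b' ^ 2 * (c + a' * b) + e')
        (f + a' * e + a' * b ^ 2 * c + b' * (c + a' * b) ^ 2 + (d + a' * b ^ 2) * c' + f') := by
  simp only [nf, mul_assoc, one_mul]
  simp only [sw67, sw68, sw69, sw610, sw611, sw78, sw79, sw710, sw711, sw89, sw810, sw811, sw910,
    sw911, sw1011, merge]
  refine congrArg₂ (· * ·) (congrArg (X 6) ?_) (congrArg₂ (· * ·) (congrArg (X 7) ?_)
    (congrArg₂ (· * ·) (congrArg (X 8) ?_) (congrArg₂ (· * ·) (congrArg (X 9) ?_)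
      (congrArg₂ (· * ·) (congrArg (X 10) ?_)
        (congrArg₂ (· * ·) (congrArg (X 11) ?_) rfl)))))
  all_goals first
    | ring1
    | linear_combination (-(b' * a' * b * c) : F) * (CharTwo.two_eq_zero (R := F))
    | linear_combination (b' * a' * b * c) * (CharTwo.two_eq_zero (R := F))

end

end Cfsg.Agent.Lie.Chev.G2Even
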