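import Cfsg.Agent.Lib.Lie.Chev.G2MinDegreeCusp

/-! The characters of the long-root radical of G₂(q) in characteristic three. -/

set_option autoImplicit false
set_option linter.unusedSectionVars false
set_option maxRecDepth 20000

namespace Cfsg.Agent.Lie.Chev.G2Deg

open Module Cfsg.Agent.Grp.EigenSplit

variable {F : Type*} [Field F] [Fintype F] {V : Type*} [AddCommGroup V] [Module ℂ V]
  [FiniteDimensional ℂ V] (ρ : Gam F →* End ℂ V)

theorem rel_CD3 (h3 : (3 : F) = 0) (c d : F) : Commute (R 9 d) (R 8 c) := by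
  have h := rel_DC c d
  rw [h3, zero_mul, zero_mul, neg_zero, R_zero, mul_one] at h
  exact h

theorem rel_DX3 (h3 : (3 : F) = 0) (t d : F) : Commute (R 9 d) (R 7 t) := by
  have h := rel_DX t d
  rw [h3, zero_mul, zero_mul, neg_zero, R_zero, mul_one] at h
  exact h

theorem rel_CX3 (h3 : (3 : F) = 0) (t c : F) :
    R 8 c * R 7 t = R 7 t * R 8 c * R 9 (2 * t * c) := by
  have h := rel_CX t c
  rw [h3] at h
  simpa [R_zero] using h

theorem stable_C3 (h3 : (3 : F) = 0) {ζ η δ : F} (t : F) :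
    Stable (ρ (R 8 t)) (Eig ρ [(9, δ), (11, ζ), (10, η)]) := by
  refine stable_tail ρ (fun p hp t x => ?_) t
  simp only [List.mem_cons, List.not_mem_nil, or_false] at hp
  rcases hp with rfl | rfl | rfl
  · exact ⟨1, by rw [mul_one]; exact (rel_CD3 h3 t x).eq, fun v _ => by rw [map_one]; rfl⟩
  · exact tail_cm ρ cm_more.2.2.1 t x _
  · exact tail_cm ρ cm_more.2.2.2.1 t x _

theorem three_dvd_sum (f : F → ℕ) (h3 : (3 : F) = 0) {s : F} (hs : s ≠ 0)
    (h : ∀ x, f x = f (x + s)) : 3 ∣ ∑ x, f x := by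
  classical
  haveI : Fact (Nat.Prime 3) := ⟨Nat.prime_three⟩
  set H := AddSubgroup.zmultiples s
  have hcard : Fintype.card H = 3 := by
    rw [← Nat.card_eq_fintype_card, Nat.card_zmultiples]
    refine addOrderOf_eq_prime ?_ hs
    rw [nsmul_eq_mul, show ((3 : ℕ) : F) = 0 by exact_mod_cast h3, zero_mul]
  have hconst : ∀ x : F, ∀ y ∈ H, f (x + y) = f x := by
    intro x y hy
    obtain ⟨m, rfl⟩ := AddSubgroup.mem_zmultiples_iff.1 hy
    clear hy
    induction m using Int.induction_on with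
    | zero => simp
    | succ i ih => rw [add_zsmul, one_zsmul, ← add_assoc, ← h, ih]
    | pred i ih =>
      rw [← ih, h (x + (-(i : ℤ) - 1) • s), sub_zsmul, one_zsmul]
      congr 1
      abel
  let e : (F ⧸ H) × H → F := fun p => p.1.out + (p.2 : F)
  have he : Function.Injective e := by
    rintro ⟨c, y⟩ ⟨c', y'⟩ heq
    have hc : c = c' := by
      rw [← QuotientAddGroup.out_eq' c, ← QuotientAddGroup.out_eq' c', QuotientAddGroup.eq]
      have : -c.out + c'.out = (y : F) - (y' : F) := by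
        have heq' : c.out + (y : F) = c'.out + (y' : F) := heq
        linear_combination -heq'
      rw [this]
      exact sub_mem y.2 y'.2
    subst hc
    exact Prod.ext rfl (Subtype.ext (add_left_cancel (heq : c.out + (y : F) = c.out + (y' : F))))
  have hbij : Function.Bijective e := by
    refine (Nat.bijective_iff_injective_and_card e).2 ⟨he, ?_⟩
    rw [Nat.card_prod, ← AddSubgroup.card_eq_card_quotient_mul_card_addSubgroup]
  rw [← hbij.sum_comp f, Fintype.sum_prod_type]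
  refine Finset.dvd_sum fun c _ => ?_
  rw [Finset.sum_congr rfl fun y _ => show f (e (c, y)) = f c.out from hconst _ _ y.2,
    Finset.sum_const, Finset.card_univ, hcard, smul_eq_mul]
  exact dvd_mul_right 3 _

theorem two_ne (h3 : (3 : F) = 0) : (2 : F) ≠ 0 := fun e => by
  have : (1 : F) = 0 := by linear_combination h3 - e
  exact one_ne_zero this

theorem q_dvd3 (h3 : (3 : F) = 0) : 3 ∣ Fintype.card F := by
  have h := three_dvd_sum (fun _ => 1) h3 (one_ne_zero (α := F)) fun _ => rfl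
  simpa using h

theorem cube_surj (h3 : (3 : F) = 0) (x : F) : ∃ t, t ^ 3 = x := by
  refine (Finite.injective_iff_surjective (f := fun t : F => t ^ 3)).1 (fun a b e => ?_) x
  have h : (a - b) ^ 3 = 0 := by linear_combination (e : a ^ 3 = b ^ 3) - a * b * (a - b) * h3
  exact sub_eq_zero.1 ((pow_eq_zero_iff (by norm_num)).1 h)

/-- The multiplicity of the short characters. -/
noncomputable def bb : ℕ := finrank ℂ (Eig ρ [(11, (1 : F)), (10, 0), (8, 0), (9, 1)])

theorem X_shift_C (h3 : (3 : F) = 0) {γ δ : F} (t : F) {L : List (Fin 12 × F)}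
    (hL : ∀ p ∈ L, cm p.1 7 = true) :
    ∀ v ∈ Eig ρ ((8, γ) :: (9, δ) :: L),
      ρ (R 7 t) v ∈ Eig ρ ((8, γ + 2 * t * δ) :: (9, δ) :: L) := fun v hv => by
  simp only [mem_Eig, List.forall_mem_cons] at hv ⊢
  obtain ⟨hc, hd, hl⟩ := hv
  refine ⟨fun x => ?_, fun x => ?_, fun p hp x => ?_⟩
  · rw [← rho_apply, rel_CX3 h3, rho_apply, rho_apply, hd, map_smul, map_smul, hc, map_smul,
      smul_merge]
    congr 2
    ring
  · rw [← rho_apply, (rel_DX3 h3 t x).eq, rho_apply, hd, map_smul]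
  · rw [← rho_apply, (comm_of_cm (hL p hp) x t).eq, rho_apply, hl p hp, map_smul]

theorem shift_C (h3 : (3 : F) = 0) {δ : F} (hδ : δ ≠ 0) (γ : F) {L : List (Fin 12 × F)}
    (hL : ∀ p ∈ L, cm p.1 7 = true) :
    finrank ℂ (Eig ρ ((8, γ) :: (9, δ) :: L)) = finrank ℂ (Eig ρ ((8, 0) :: (9, δ) :: L)) := by
  have h2 := two_ne h3
  refine dim_eq_of_maps ρ (g := R 7 (-γ / (2 * δ))) (g' := R 7 (γ / (2 * δ))) (fun v hv => ?_)
    fun v hv => ?_
  · have h := X_shift_C ρ h3 (-γ / (2 * δ)) hL v hv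
    rwa [show γ + 2 * (-γ / (2 * δ)) * δ = 0 by field_simp; ring] at h
  · have h := X_shift_C ρ h3 (γ / (2 * δ)) hL v hv
    rwa [show 0 + 2 * (γ / (2 * δ)) * δ = γ by field_simp; ring] at h

theorem split_ZE (γ δ ζ : F) (hζ : ζ ≠ 0) (η : F) :
    finrank ℂ (Eig ρ [(11, ζ), (8, γ), (9, δ)]) =
      Fintype.card F * finrank ℂ (Eig ρ [(11, ζ), (10, η), (8, γ), (9, δ)]) := by
  rw [← split ρ 10 (L := [(11, ζ), (8, γ), (9, δ)]) fun t => stable_cm ρ (by simp; decide +kernel) t,
    Finset.sum_congr rfl fun η' _ => (Eig_congr ρ (L' := [(11, ζ), (10, η'), (8, γ), (9, δ)])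
      (by simp) (by simp)).trans (piece_const ρ hζ η' η (by simp; decide +kernel)),
    Finset.sum_const, Finset.card_univ, smul_eq_mul]

theorem short_piece (h3 : (3 : F) = 0) {ζ γ δ : F} (hζ : ζ ≠ 0) (hne : ¬ (γ = 0 ∧ δ = 0))
    (η : F) : finrank ℂ (Eig ρ [(11, ζ), (10, η), (8, γ), (9, δ)]) = bb ρ := by
  have key : ∀ {ζ δ : F}, ζ ≠ 0 → δ ≠ 0 → ∀ γ,
      finrank ℂ (Eig ρ [(11, ζ), (8, γ), (9, δ)]) = Fintype.card F * bb ρ := by
    intro ζ δ hζ hδ γ
    rw [Eig_congr ρ (L' := [(8, γ), (9, δ), (11, ζ)]) (by simp) (by simp),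
      shift_C ρ h3 hδ γ (by simp; decide +kernel),
      dim_tor ρ (Units.mk0 δ hδ) (Units.mk0 ζ hζ)
        (L' := [((8 : Fin 12), (0 : F)), (9, 1), (11, 1)]) (by
          obtain ⟨-, -, -, -, h8, h9, -, h11⟩ := wt_values (Units.mk0 δ hδ) (Units.mk0 ζ hζ)
          simp [h8, h9, h11, hδ, hζ]),
      Eig_congr ρ (L := [((8 : Fin 12), (0 : F)), (9, 1), (11, 1)])
        (L' := [(11, 1), (8, 0), (9, 1)]) (by simp) (by simp),
      split_ZE ρ 0 1 1 one_ne_zero 0]
    rfl
  refine Nat.eq_of_mul_eq_mul_left Fintype.card_pos ((split_ZE ρ γ δ ζ hζ η).symm.trans ?_)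
  by_cases hδ : δ = 0
  · subst hδ
    have hγ : γ ≠ 0 := fun e => hne ⟨e, rfl⟩
    rw [← key hζ hγ 0]
    refine dim_rel ρ (nA F) (fun p' hp' => ?_) fun p hp => ?_
    · simp only [List.mem_cons, List.not_mem_nil, or_false] at hp'
      rcases hp' with rfl | rfl | rfl
      · exact ⟨(11, ζ), by simp, 1, by simp, by simp,
          fun x => by simpa using nA_rel (r := 11) (s := 11) (k := 1) (by simp) x⟩
      · exact ⟨(9, 0), by simp, -1, by simp, by simp [div_neg],
          fun x => by simpa using nA_rel (r := 9) (s := 8) (k := -1) (by simp) x⟩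
      · exact ⟨(8, γ), by simp, 1, by simp, by simp,
          fun x => by simpa using nA_rel (r := 8) (s := 9) (k := 1) (by simp) x⟩
    · simp only [List.mem_cons, List.not_mem_nil, or_false] at hp
      rcases hp with rfl | rfl | rfl
      · exact ⟨(11, ζ), by simp, 1, by simp, by simp,
          fun x => by simpa using nA_rel (r := 11) (s := 11) (k := 1) (by simp) x⟩
      · exact ⟨(9, γ), by simp, 1, by simp, by simp,
          fun x => by simpa using nA_rel (r := 8) (s := 9) (k := 1) (by simp) x⟩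
      · exact ⟨(8, 0), by simp, -1, by simp, by simp [div_neg],
          fun x => by simpa using nA_rel (r := 9) (s := 8) (k := -1) (by simp) x⟩
  · exact key hζ hδ γ

theorem N_short (h3 : (3 : F) = 0) {ζ : F} (hζ : ζ ≠ 0) (η : F) :
    N ρ = finrank ℂ (Eig ρ [(11, ζ), (10, η), (8, 0), (9, 0)]) +
      (Fintype.card F ^ 2 - 1) * bb ρ := by
  have hall : ∀ γ δ : F, finrank ℂ (Eig ρ [(8, γ), (9, δ), (11, ζ), (10, η)]) =
      finrank ℂ (Eig ρ [(11, ζ), (10, η), (8, γ), (9, δ)]) := fun γ δ =>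
    Eig_congr ρ (by simp) (by simp)
  rw [← piece_ZE ρ hζ η, ← split ρ 9 (stable_D ρ),
    sum_zero_split _ (Fintype.card F * bb ρ) fun δ hδ => ?_,
    ← split ρ 8 (stable_C3 ρ h3), sum_zero_split _ (bb ρ) fun γ hγ =>
      (hall γ 0).trans (short_piece ρ h3 hζ (fun e => hγ e.1) η), hall 0 0]
  · obtain ⟨n, hn⟩ : ∃ n, Fintype.card F = n + 1 :=
      ⟨Fintype.card F - 1, by have := Fintype.card_pos (α := F); omega⟩
    rw [hn, Nat.add_sub_cancel, show (n + 1) ^ 2 - 1 = n + n * (n + 1) by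
      rw [show (n + 1) ^ 2 = n + n * (n + 1) + 1 by ring, Nat.add_sub_cancel]]
    ring
  · rw [← split ρ 8 (stable_C3 ρ h3), Finset.sum_congr rfl fun γ _ =>
      (hall γ δ).trans (short_piece ρ h3 hζ (fun e => hδ e.2) η),
      Finset.sum_const, Finset.card_univ, smul_eq_mul]

theorem X_shift_B (h3 : (3 : F) = 0) {β γ η : F} (t : F) :
    ∀ v ∈ Eig ρ [(6, β), (8, γ), (9, 0), (11, 0), (10, η)],
      ρ (R 7 t) v ∈ Eig ρ [(6, β + t * γ - t ^ 3 * η), (8, γ), (9, 0), (11, 0), (10, η)] :=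
    fun v hv => by
  obtain ⟨-, -, -, -, -, -, -, c117, c107, -⟩ := cm_more
  simp only [mem_Eig, List.forall_mem_cons, List.not_mem_nil, false_implies, implies_true,
    and_true] at hv ⊢
  obtain ⟨hb, hc, hd, hz, he⟩ := hv
  refine ⟨fun x => ?_, fun x => ?_, fun x => ?_, fun x => ?_, fun x => ?_⟩
  · rw [← rho_apply, rel_BX]
    simp only [rho_apply, hb, hc, hd, he, hz, map_smul, smul_merge, zero_mul,
      AddChar.map_zero_eq_one, one_smul]
    congr 2
    ring
  · rw [← rho_apply, rel_CX3 h3]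
    simp only [rho_apply, hc, hd, map_smul, zero_mul, AddChar.map_zero_eq_one, one_smul]
  · rw [← rho_apply, (rel_DX3 h3 t x).eq, rho_apply, hd, map_smul]
  · rw [← rho_apply, (comm_of_cm c117 x t).eq, rho_apply, hz, map_smul]
  · rw [← rho_apply, (comm_of_cm c107 x t).eq, rho_apply, he, map_smul]

theorem N_mod (h3 : (3 : F) = 0) (hq : 5 ≤ Fintype.card F) : 3 ∣ N ρ := by
  obtain ⟨η, hη⟩ : ∃ η : F, η ≠ 0 := ⟨1, one_ne_zero⟩
  rw [← dim_Z0E ρ hη, ← split ρ 9 (stable_D ρ)]
  refine Finset.dvd_sum fun δ _ => ?_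
  rw [← split ρ 8 (stable_C3 ρ h3)]
  by_cases hδ : δ = 0
  · subst hδ
    refine Finset.dvd_sum fun γ _ => ?_
    rw [← split ρ 6 (stable_B ρ)]
    obtain ⟨t, ht⟩ : ∃ t : F, t * γ - t ^ 3 * η ≠ 0 := by
      obtain ⟨u, hu, -⟩ := exists_scalar hq
      by_cases h : γ = η
      · refine ⟨(u : F), fun e => ?_⟩
        rw [h] at e
        rcases mul_eq_zero.1 (show ((u : F) * (1 - (u : F) ^ 2)) * η = 0 by linear_combination e)
          with e' | e'
        · rcases mul_eq_zero.1 e' with e'' | e''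
          · exact u.ne_zero e''
          · exact hu (sub_eq_zero.1 e'').symm
        · exact hη e'
      · exact ⟨1, by rwa [one_mul, one_pow, one_mul, sub_ne_zero]⟩
    refine three_dvd_sum _ h3 ht fun β => ?_
    refine dim_eq_of_maps ρ (g := R 7 t) (g' := R 7 (-t)) (fun v hv => ?_) fun v hv => ?_
    · have h := X_shift_B ρ h3 t v hv
      rwa [show β + t * γ - t ^ 3 * η = β + (t * γ - t ^ 3 * η) by ring] at h
    · have h := X_shift_B ρ h3 (-t) v hv
      rwa [show β + (t * γ - t ^ 3 * η) + -t * γ - (-t) ^ 3 * η = β by ring] at h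
  · rw [Finset.sum_congr rfl fun γ _ => shift_C ρ h3 hδ γ (by simp; decide +kernel),
      Finset.sum_const, Finset.card_univ, smul_eq_mul]
    exact dvd_mul_of_dvd_left (q_dvd3 h3) _

theorem bb_pos (h3 : (3 : F) = 0) (hq : 5 ≤ Fintype.card F) (hinj : Function.Injective ρ) :
    0 < bb ρ := by
  refine Nat.pos_of_ne_zero fun h0 => ?_
  have hC : ∀ ζ η : F, ζ ≠ 0 → ∀ v ∈ Eig ρ [(11, ζ), (10, η)],
      v ∈ Eig ρ [(11, ζ), (10, η), (8, 0), (9, 0)] := fun ζ η hζ v hv => by
    have h := N_short ρ h3 hζ η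
    rw [h0, mul_zero, add_zero] at h
    rwa [Submodule.eq_of_le_of_finrank_eq (Eig_mono ρ (by simp))
      (h.symm.trans (piece_ZE ρ hζ η).symm)]
  have hX : ∀ ζ η : F, ζ ≠ 0 → η ≠ 0 → ∀ v ∈ Eig ρ [(11, ζ), (10, η)],
      ∀ t, ρ (R 7 t) v = v := fun ζ η hζ hη v hv t => by
    have hw : ρ (nB F) v ∈ Eig ρ [(11, η), (10, -ζ)] :=
      maps_rel ρ (nB F) (fun p hp => by
        simp only [List.mem_cons, List.not_mem_nil, or_false] at hp
        rcases hp with rfl | rfl
        · exact ⟨(10, η), by simp, 1, by simp, by simp,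
            fun x => by simpa using nB_rel (r := 10) (s := 11) (k := 1) (by simp) x⟩
        · exact ⟨(11, ζ), by simp, -1, by simp, by simp [div_neg],
            fun x => by simpa using nB_rel (r := 11) (s := 10) (k := -1) (by simp) x⟩) v hv
    have h8 := Eig.fixed ρ (hC η (-ζ) hη _ hw) 8 (by simp) t
    refine rho_injective ρ (nB F) ?_
    rw [← rho_apply, nB_rel (r := 7) (s := 8) (k := 1) (by simp), rho_apply, Int.cast_one,
      one_mul, h8]
  have hz : N ρ = 0 := by
    rw [← piece_ZE ρ (one_ne_zero (α := F)) 0, Submodule.finrank_eq_zero, Submodule.eq_bot_iff]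
    intro u hu
    by_contra hu0
    have key : ∀ η : F, η ≠ 0 → ∀ t : F,
        ρ (R 7 t) u = psi F (2 * η ^ 2 * t ^ 3) • u := by
      intro η hη t
      have hu' := B_shift ρ (L := ([] : List (Fin 12 × F))) (-η) (by simp) u hu
      rw [one_mul, zero_sub, neg_neg] at hu'
      set u' := ρ (R 6 (-η)) u with hu'def
      have e : R 7 t * R 6 η = R 6 η * R 7 t *
          (R 8 (t * η) * (R 9 (t ^ 2 * η) * (R 10 (-(t ^ 3 * η)) * R 11 (-(t ^ 3 * η ^ 2)))))⁻¹ := by
        rw [eq_mul_inv_iff_mul_eq, rel_BX]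
      have hu'' := hC 1 η one_ne_zero u' hu'
      have hT : ρ (R 8 (t * η) * (R 9 (t ^ 2 * η) * (R 10 (-(t ^ 3 * η)) *
          R 11 (-(t ^ 3 * η ^ 2)))))⁻¹ u' = psi F (2 * η ^ 2 * t ^ 3) • u' := by
        simp only [mul_inv_rev, R_inv, neg_neg, rho_apply, map_smul,
          Eig.app ρ hu'' 11 1 (by simp), Eig.app ρ hu'' 10 η (by simp),
          Eig.fixed ρ hu'' 8 (by simp), Eig.fixed ρ hu'' 9 (by simp), smul_merge]
        congr 2
        ring
      have hb : u = ρ (R 6 η) u' := by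
        rw [hu'def, ← rho_apply, ← R_add, add_neg_cancel, R_zero, map_one]; rfl
      rw [hb, ← rho_apply, e, rho_apply, hT, map_smul, rho_apply, hX 1 η one_ne_zero hη u' hu']
    obtain ⟨e, he, -⟩ := exists_scalar hq
    refine he (mul_left_cancel₀ (two_ne h3) ((eq_of_psi fun x => ?_).trans (mul_one _).symm))
    obtain ⟨t, rfl⟩ := cube_surj h3 x
    refine smul_left_injective ℂ hu0 ?_
    show psi F _ • u = psi F _ • u
    rw [← key e e.ne_zero t, key 1 one_ne_zero t]
    congr 2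
    ring
  have := N_pos ρ hinj
  omega

theorem piece_Z0 (h3 : (3 : F) = 0) {δ η : F} (hδ : δ ≠ 0) (hη : η ≠ 0) :
    finrank ℂ (Eig ρ [(10, η), (8, 0), (9, δ), (11, 0)]) = bb ρ := by
  have h : finrank ℂ (Eig ρ [(9, δ), (11, 0), (10, η)]) = Fintype.card F * bb ρ := by
    rw [dim_rel ρ (nB F) (L' := [((9 : Fin 12), δ), (10, 0), (11, η)]) (fun p' hp' => ?_)
      fun p hp => ?_]
    · rw [Eig_congr ρ (L' := [(9, δ), (11, η), (10, 0)]) (by simp) (by simp),
        ← split ρ 8 (stable_C3 ρ h3), Finset.sum_congr rfl fun γ _ =>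
          (Eig_congr ρ (L' := [(11, η), (10, 0), (8, γ), (9, δ)]) (by simp) (by simp)).trans
            (short_piece ρ h3 hη (fun e => hδ e.2) 0), Finset.sum_const, Finset.card_univ,
        smul_eq_mul]
    · simp only [List.mem_cons, List.not_mem_nil, or_false] at hp'
      rcases hp' with rfl | rfl | rfl
      · exact ⟨(9, δ), by simp, 1, by simp, by simp,
          fun x => by simpa using nB_rel (r := 9) (s := 9) (k := 1) (by simp) x⟩
      · exact ⟨(11, 0), by simp, -1, by simp, by simp [div_neg],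
          fun x => by simpa using nB_rel (r := 11) (s := 10) (k := -1) (by simp) x⟩
      · exact ⟨(10, η), by simp, 1, by simp, by simp,
          fun x => by simpa using nB_rel (r := 10) (s := 11) (k := 1) (by simp) x⟩
    · simp only [List.mem_cons, List.not_mem_nil, or_false] at hp
      rcases hp with rfl | rfl | rfl
      · exact ⟨(9, δ), by simp, 1, by simp, by simp,
          fun x => by simpa using nB_rel (r := 9) (s := 9) (k := 1) (by simp) x⟩
      · exact ⟨(10, 0), by simp, -1, by simp, by simp [div_neg],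
          fun x => by simpa using nB_rel (r := 11) (s := 10) (k := -1) (by simp) x⟩
      · exact ⟨(11, η), by simp, 1, by simp, by simp,
          fun x => by simpa using nB_rel (r := 10) (s := 11) (k := 1) (by simp) x⟩
  rw [← split ρ 8 (stable_C3 ρ h3), Finset.sum_congr rfl fun γ _ =>
    shift_C ρ h3 hδ γ (by simp; decide +kernel), Finset.sum_const, Finset.card_univ,
    smul_eq_mul] at h
  rw [Eig_congr ρ (L' := [(8, 0), (9, δ), (11, 0), (10, η)]) (by simp) (by simp)]
  exact Nat.eq_of_mul_eq_mul_left Fintype.card_pos h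

theorem stable_E3 {δ : F} (t : F) :
    Stable (ρ (R 10 t)) (Eig ρ [((8 : Fin 12), (0 : F)), (9, δ), (11, 0)]) :=
  stable_cm ρ (by simp; decide +kernel) t

theorem dim_D0 (h3 : (3 : F) = 0) {δ : F} (hδ : δ ≠ 0) :
    finrank ℂ (Eig ρ [((8 : Fin 12), (0 : F)), (9, δ), (11, 0)]) =
      finrank ℂ (Eig ρ [((10 : Fin 12), (0 : F)), (8, 0), (9, δ), (11, 0)]) +
        (Fintype.card F - 1) * bb ρ := by
  rw [← split ρ 10 (stable_E3 ρ), sum_zero_split _ _ fun η hη => piece_Z0 ρ h3 hδ hη]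

theorem Y_shift3 (h3 : (3 : F) = 0) {β η δ : F} (u : F) :
    ∀ v ∈ Eig ρ [(10, η), (6, β), (8, 0), (9, δ), (11, 0)],
      ρ (R 4 u) v ∈ Eig ρ [(10, η - (u * δ + u ^ 3 * β)), (6, β), (8, 0), (9, δ), (11, 0)] :=
    fun v hv => by
  obtain ⟨-, -, -, -, -, -, -, -, -, c114, c64⟩ := cm_more
  simp only [mem_Eig, List.forall_mem_cons, List.not_mem_nil, false_implies, implies_true,
    and_true] at hv ⊢
  obtain ⟨he, hb, hc, hd, hz⟩ := hv
  refine ⟨fun x => ?_, fun x => ?_, fun x => ?_, fun x => ?_, fun x => ?_⟩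
  · rw [← rho_apply, rel_EY]
    simp only [rho_apply, hb, hc, hd, he, hz, map_smul, smul_merge, zero_mul,
      AddChar.map_zero_eq_one, one_smul]
    congr 2
    ring
  · rw [← rho_apply, (comm_of_cm c64 x u).eq, rho_apply, hb, map_smul]
  · rw [← rho_apply, rel_CY]
    simp only [rho_apply, hb, hc, map_smul, smul_merge, h3, zero_mul, mul_zero,
      AddChar.map_zero_eq_one, one_smul]
  · rw [← rho_apply, rel_DY]
    simp only [rho_apply, hb, hc, hd, hz, map_smul, h3, zero_mul, mul_zero,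
      AddChar.map_zero_eq_one, one_smul]
  · rw [← rho_apply, (comm_of_cm c114 x u).eq, rho_apply, hz, map_smul]

theorem D0_mod (h3 : (3 : F) = 0) (hq : 5 ≤ Fintype.card F) {δ : F} (hδ : δ ≠ 0) :
    3 ∣ finrank ℂ (Eig ρ [((8 : Fin 12), (0 : F)), (9, δ), (11, 0)]) := by
  rw [← split ρ 6 (L := [((8 : Fin 12), (0 : F)), (9, δ), (11, 0)])
    fun t => stable_cm ρ (by simp; decide +kernel) t]
  refine Finset.dvd_sum fun β _ => ?_
  have hst : ∀ t, Stable (ρ (R 10 t))
      (Eig ρ [(6, β), ((8 : Fin 12), (0 : F)), (9, δ), (11, 0)]) := fun t => by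
    refine stable_tail ρ (fun p hp t x => ?_) t
    simp only [List.mem_cons, List.not_mem_nil, or_false] at hp
    rcases hp with rfl | rfl | rfl | rfl
    · exact ⟨_, rel_BE x t, fun v hv => Eig.fixed ρ hv 11 (by simp) _⟩
    · exact tail_cm ρ (show cm (8 : Fin 12) 10 = true by decide +kernel) t x _
    · exact tail_cm ρ (show cm (9 : Fin 12) 10 = true by decide +kernel) t x _
    · exact tail_cm ρ opp_cm.2.2.2.2.2 t x _
  rw [← split ρ 10 hst]
  obtain ⟨u, hu⟩ : ∃ u : F, u * δ + u ^ 3 * β ≠ 0 := by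
    obtain ⟨e, he, -⟩ := exists_scalar hq
    by_cases h : δ + β = 0
    · refine ⟨(e : F), fun h' => ?_⟩
      rcases mul_eq_zero.1 (show ((e : F) * (1 - (e : F) ^ 2)) * δ = 0 by
          linear_combination h' - (e : F) ^ 3 * h) with e' | e'
      · rcases mul_eq_zero.1 e' with e'' | e''
        · exact e.ne_zero e''
        · exact he (sub_eq_zero.1 e'').symm
      · exact hδ e'
    · exact ⟨1, by rwa [one_mul, one_pow, one_mul]⟩
  refine three_dvd_sum _ h3 (neg_ne_zero.2 hu) fun η => ?_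
  refine dim_eq_of_maps ρ (g := R 4 u) (g' := R 4 (-u)) (fun v hv => ?_) fun v hv => ?_
  · have h := Y_shift3 ρ h3 u v hv
    rwa [show η - (u * δ + u ^ 3 * β) = η + -(u * δ + u ^ 3 * β) by ring] at h
  · have h := Y_shift3 ρ h3 (-u) v hv
    rwa [show η + -(u * δ + u ^ 3 * β) - (-u * δ + (-u) ^ 3 * β) = η by ring] at h

theorem short_line (h3 : (3 : F) = 0) (hq : 5 ≤ Fintype.card F) {δ : F} (hδ : δ ≠ 0)
    (h1 : finrank ℂ (Eig ρ [((10 : Fin 12), (0 : F)), (8, 0), (9, δ), (11, 0)]) = 1) (η : F) :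
    1 ≤ finrank ℂ (Eig ρ [(10, η), (6, 0), (8, 0), (9, δ), (11, 0)]) := by
  obtain ⟨s, hs, -⟩ := exists_scalar hq
  rw [Eig_congr ρ (L' := [(8, 0), (9, δ), (11, 0), (10, 0)]) (by simp) (by simp),
    ← split ρ 6 (stable_B ρ)] at h1
  have hB := (concentrate (fun β => finrank ℂ (Eig ρ [(6, β), (8, 0), (9, δ), (11, 0), (10, 0)]))
    (c := ((s : F) ^ 2)⁻¹) (fun e => hs (inv_eq_one.1 e)) h1 fun β => by
      refine dim_tor ρ 1 s ?_
      obtain ⟨-, -, w6, -, w8, w9, w10, w11⟩ := wt_values (1 : Fˣ) s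
      simp [w6, w8, w9, w10, w11, div_eq_mul_inv]).1
  rw [← hB]
  refine finrank_le_of_maps (rho_injective ρ (R 4 (-η / δ))) fun v hv => ?_
  have h := Y_shift3 ρ h3 (β := 0) (η := 0) (δ := δ) (-η / δ) v (Eig_mono ρ (by simp) hv)
  rwa [mul_zero, add_zero, div_mul_cancel₀ _ hδ, zero_sub, neg_neg] at h

theorem long_short (h3 : (3 : F) = 0) (hq : 5 ≤ Fintype.card F) {γ : F} (hγ : γ ≠ 0)
    (h1 : finrank ℂ (Eig ρ [((10 : Fin 12), (0 : F)), (8, 0), (9, γ), (11, 0)]) = 1) :
    Fintype.card F ≤ finrank ℂ (Eig ρ [(8, γ), (9, 0), (11, 0), (10, 0)]) := by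
  have hneg : finrank ℂ (Eig ρ [((10 : Fin 12), (0 : F)), (8, 0), (9, -γ), (11, 0)]) = 1 := by
    rw [← h1]
    refine (dim_tor ρ (-1) 1 ?_).symm
    obtain ⟨-, -, -, -, w8, w9, w10, w11⟩ := wt_values (-1 : Fˣ) (1 : Fˣ)
    simp [w8, w9, w10, w11, div_neg]
  rw [← split ρ 6 (stable_B ρ)]
  calc Fintype.card F = ∑ _β : F, 1 := by simp
    _ ≤ _ := Finset.sum_le_sum fun β _ => ?_
  refine le_trans (short_line ρ h3 hq (neg_ne_zero.2 hγ) hneg (-β)) ?_
  refine finrank_le_of_maps (rho_injective ρ (nA F)) (maps_rel ρ (nA F) fun p hp => ?_)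
  simp only [List.mem_cons, List.not_mem_nil, or_false] at hp
  rcases hp with rfl | rfl | rfl | rfl | rfl
  · exact ⟨(10, -β), by simp, -1, by simp, by simp [div_neg],
      fun x => by simpa using nA_rel (r := 10) (s := 6) (k := -1) (by simp) x⟩
  · exact ⟨(9, -γ), by simp, -1, by simp, by simp [div_neg],
      fun x => by simpa using nA_rel (r := 9) (s := 8) (k := -1) (by simp) x⟩
  · exact ⟨(8, 0), by simp, 1, by simp, by simp,
      fun x => by simpa using nA_rel (r := 8) (s := 9) (k := 1) (by simp) x⟩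
  · exact ⟨(11, 0), by simp, 1, by simp, by simp,
      fun x => by simpa using nA_rel (r := 11) (s := 11) (k := 1) (by simp) x⟩
  · exact ⟨(6, 0), by simp, 1, by simp, by simp,
      fun x => by simpa using nA_rel (r := 6) (s := 10) (k := 1) (by simp) x⟩

theorem dim_C0 (h3 : (3 : F) = 0) {γ : F} :
    finrank ℂ (Eig ρ [(8, γ), (9, 0), (11, 0)]) =
      finrank ℂ (Eig ρ [((8 : Fin 12), (0 : F)), (9, γ), (11, 0)]) := by
  refine dim_rel ρ (nA F) (fun p' hp' => ?_) fun p hp => ?_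
  · simp only [List.mem_cons, List.not_mem_nil, or_false] at hp'
    rcases hp' with rfl | rfl | rfl
    · exact ⟨(9, 0), by simp, -1, by simp, by simp [div_neg],
        fun x => by simpa using nA_rel (r := 9) (s := 8) (k := -1) (by simp) x⟩
    · exact ⟨(8, γ), by simp, 1, by simp, by simp,
        fun x => by simpa using nA_rel (r := 8) (s := 9) (k := 1) (by simp) x⟩
    · exact ⟨(11, 0), by simp, 1, by simp, by simp,
        fun x => by simpa using nA_rel (r := 11) (s := 11) (k := 1) (by simp) x⟩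
  · simp only [List.mem_cons, List.not_mem_nil, or_false] at hp
    rcases hp with rfl | rfl | rfl
    · exact ⟨(9, γ), by simp, 1, by simp, by simp,
        fun x => by simpa using nA_rel (r := 8) (s := 9) (k := 1) (by simp) x⟩
    · exact ⟨(8, 0), by simp, -1, by simp, by simp [div_neg],
        fun x => by simpa using nA_rel (r := 9) (s := 8) (k := -1) (by simp) x⟩
    · exact ⟨(11, 0), by simp, 1, by simp, by simp,
        fun x => by simpa using nA_rel (r := 11) (s := 11) (k := 1) (by simp) x⟩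

theorem pure_long (h3 : (3 : F) = 0) (hq : 5 ≤ Fintype.card F) (hb : bb ρ = 1)
    (hN : N ρ = Fintype.card F ^ 2)
    (ha : ∀ δ : F, δ ≠ 0 →
      finrank ℂ (Eig ρ [((10 : Fin 12), (0 : F)), (8, 0), (9, δ), (11, 0)]) = 1)
    {β : F} (hβ : β ≠ 0) : 1 ≤ finrank ℂ (Eig ρ [(6, β), (8, 0), (9, 0), (11, 0), (10, 0)]) := by
  have hη : -β ≠ 0 := neg_ne_zero.2 hβ
  have hzero : ∀ γ, γ ≠ 0 → finrank ℂ (Eig ρ [(8, γ), (9, 0), (11, 0), (10, -β)]) = 0 := by
    intro γ hγ
    have h := split ρ 10 (L := [((8 : Fin 12), γ), (9, 0), (11, 0)])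
      fun t => stable_cm ρ (by simp; decide +kernel) t
    classical
    rw [← Finset.add_sum_erase _ _ (Finset.mem_univ (0 : F)), dim_C0 ρ h3, dim_D0 ρ h3 hγ,
      ha γ hγ, hb, mul_one] at h
    have hle := long_short ρ h3 hq hγ (ha γ hγ)
    rw [Eig_congr ρ (L' := [(10, 0), (8, γ), (9, 0), (11, 0)]) (by simp) (by simp)] at hle
    have hsum : ∑ η ∈ Finset.univ.erase (0 : F),
        finrank ℂ (Eig ρ [(10, η), (8, γ), (9, 0), (11, 0)]) = 0 := by omega
    rw [Eig_congr ρ (L' := [(10, -β), (8, γ), (9, 0), (11, 0)]) (by simp) (by simp)]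
    exact (Finset.sum_eq_zero_iff.1 hsum) _ (Finset.mem_erase.2 ⟨hη, Finset.mem_univ _⟩)
  have h := dim_Z0E ρ hη
  rw [hN, ← split ρ 9 (stable_D ρ), sum_zero_split _ (Fintype.card F) fun δ hδ => ?_,
    ← split ρ 8 (stable_C3 ρ h3), sum_zero_split _ 0 hzero, mul_zero, add_zero,
    ← split ρ 6 (stable_B ρ), Finset.sum_congr rfl fun b _ => (show
      finrank ℂ (Eig ρ [(6, b), (8, 0), (9, 0), (11, 0), (10, -β)]) =
        finrank ℂ (Eig ρ [(6, 0), (8, 0), (9, 0), (11, 0), (10, -β)]) from ?_),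
    Finset.sum_const, Finset.card_univ, smul_eq_mul] at h
  · have h1 : finrank ℂ (Eig ρ [((6 : Fin 12), (0 : F)), (8, 0), (9, 0), (11, 0), (10, -β)]) ≠ 0 := by
      intro e
      rw [e, mul_zero, zero_add, sq] at h
      have := Nat.mul_right_cancel (by omega) h
      omega
    refine le_trans (Nat.one_le_iff_ne_zero.2 h1)
      (finrank_le_of_maps (rho_injective ρ (nA F)) (maps_rel ρ (nA F) fun p hp => ?_))
    simp only [List.mem_cons, List.not_mem_nil, or_false] at hp
    rcases hp with rfl | rfl | rfl | rfl | rfl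
    · exact ⟨(10, -β), by simp, -1, by simp, by simp [div_neg],
        fun x => by simpa using nA_rel (r := 10) (s := 6) (k := -1) (by simp) x⟩
    · exact ⟨(9, 0), by simp, -1, by simp, by simp [div_neg],
        fun x => by simpa using nA_rel (r := 9) (s := 8) (k := -1) (by simp) x⟩
    · exact ⟨(8, 0), by simp, 1, by simp, by simp,
        fun x => by simpa using nA_rel (r := 8) (s := 9) (k := 1) (by simp) x⟩
    · exact ⟨(11, 0), by simp, 1, by simp, by simp,
        fun x => by simpa using nA_rel (r := 11) (s := 11) (k := 1) (by simp) x⟩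
    · exact ⟨(6, 0), by simp, 1, by simp, by simp,
        fun x => by simpa using nA_rel (r := 6) (s := 10) (k := 1) (by simp) x⟩
  · obtain ⟨t, ht⟩ := cube_surj h3 (b / -β)
    refine dim_eq_of_maps ρ (g := R 7 t) (g' := R 7 (-t)) (fun v hv => ?_) fun v hv => ?_
    · have h := X_shift_B ρ h3 t v hv
      rwa [ht, mul_zero, add_zero, div_mul_cancel₀ _ hη, sub_self] at h
    · have h := X_shift_B ρ h3 (-t) v hv
      rwa [mul_zero, add_zero, show (-t) ^ 3 = -(b / -β) by rw [← ht]; ring, neg_mul,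
        div_mul_cancel₀ _ hη, zero_sub, neg_neg] at h
  · rw [← split ρ 8 (stable_C3 ρ h3), Finset.sum_congr rfl fun γ _ =>
      (shift_C ρ h3 hδ γ (by simp; decide +kernel)).trans ((Eig_congr ρ
        (L' := [(10, -β), (8, 0), (9, δ), (11, 0)]) (by simp) (by simp)).trans
          (piece_Z0 ρ h3 hδ hη)), Finset.sum_const, Finset.card_univ, smul_eq_mul, hb, mul_one]

theorem degree_three (h3 : (3 : F) = 0) (hq : 9 ≤ Fintype.card F) (hinj : Function.Injective ρ) :
    Fintype.card F ^ 4 + Fintype.card F ^ 2 ≤ finrank ℂ V + Fintype.card F + 1 := by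
  have hq5 : 5 ≤ Fintype.card F := by omega
  have hk := degree_eq ρ
  have hq3 := q_dvd3 h3
  have hN := N_short ρ h3 (one_ne_zero (α := F)) 0
  have hNm := N_mod ρ h3 hq5
  have hb0 := bb_pos ρ h3 hq5 hinj
  obtain ⟨n, hn⟩ : ∃ n, Fintype.card F = n + 9 := ⟨Fintype.card F - 9, by omega⟩
  have hsq : (n + 9) ^ 2 - 1 = n ^ 2 + 18 * n + 80 := by
    rw [show (n + 9) ^ 2 = n ^ 2 + 18 * n + 80 + 1 by ring, Nat.add_sub_cancel]
  rw [hn] at hk hN ⊢ hq3
  rw [hsq] at hk hN
  rcases Nat.lt_or_ge (N ρ) ((n + 9) ^ 2 + 3) with hsmall | hbig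
  swap
  · nlinarith [Nat.mul_le_mul_left (n ^ 2 + 18 * n + 80) hbig]
  have hb : bb ρ = 1 := by
    rcases Nat.lt_or_ge (bb ρ) 2 with h | h
    · omega
    · nlinarith [Nat.mul_le_mul_left (n ^ 2 + 18 * n + 80) h]
  rw [hb, mul_one] at hN
  have hNeq : N ρ = (n + 9) ^ 2 := by
    obtain ⟨m, hm⟩ := hq3
    obtain ⟨l, hl⟩ := hNm
    have e : n ^ 2 + 18 * n + 80 + 1 = (n + 9) ^ 2 := by ring
    have e2 : (n + 9) ^ 2 = 3 * (3 * m * m) := by rw [hm]; ring
    omega
  -- the fixed space of the long root and of E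
  have hstD : ∀ t, Stable (ρ (R 9 t)) (Eig ρ [((11 : Fin 12), (0 : F)), (10, 0)]) := stable_D ρ
  have hCeq : ∀ {δ : F}, δ ≠ 0 → finrank ℂ (Eig ρ [(9, δ), (11, 0), (10, 0)]) =
      Fintype.card F * finrank ℂ (Eig ρ [((10 : Fin 12), (0 : F)), (8, 0), (9, δ), (11, 0)]) := by
    intro δ hδ
    rw [← split ρ 8 (stable_C3 ρ h3), Finset.sum_congr rfl fun γ _ =>
      (shift_C ρ h3 hδ γ (by simp; decide +kernel)).trans
        (Eig_congr ρ (L' := [(10, 0), (8, 0), (9, δ), (11, 0)]) (by simp) (by simp)),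
      Finset.sum_const, Finset.card_univ, smul_eq_mul]
  rw [hNeq] at hk
  have hge : ∀ δ : F, δ ≠ 0 →
      finrank ℂ (Eig ρ [((10 : Fin 12), (0 : F)), (8, 0), (9, δ), (11, 0)]) % 3 = 1 := by
    intro δ hδ
    have h := D0_mod ρ h3 hq5 hδ
    rw [dim_D0 ρ h3 hδ, hb, mul_one, hn] at h
    omega
  set a := fun δ : F => finrank ℂ (Eig ρ [((10 : Fin 12), (0 : F)), (8, 0), (9, δ), (11, 0)]) with ha
  have htor : ∀ δ : F, δ ≠ 0 → a δ = a 1 := fun δ hδ => by
    refine dim_tor ρ (Units.mk0 δ hδ) 1 ?_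
    obtain ⟨-, -, -, -, w8, w9, w10, w11⟩ := wt_values (Units.mk0 δ hδ) (1 : Fˣ)
    simp [w8, w9, w10, w11, hδ]
  rw [← split ρ 9 hstD, sum_zero_split _ (Fintype.card F * a 1) fun δ hδ =>
    (hCeq hδ).trans (by rw [← htor δ hδ])] at hk
  rw [hn] at hk
  by_cases ha1 : a 1 = 1
  · have hall : ∀ δ : F, δ ≠ 0 → a δ = 1 := fun δ hδ => (htor δ hδ).trans ha1
    have h0 : (n + 8) * (n + 9) + (n + 8) ≤
        finrank ℂ (Eig ρ [((9 : Fin 12), (0 : F)), (11, 0), (10, 0)]) := by
      classical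
      rw [← split ρ 8 (stable_C3 ρ h3), ← Finset.add_sum_erase _ _ (Finset.mem_univ (0 : F))]
      have hc : Finset.card (Finset.univ.erase (0 : F)) = n + 8 := by
        rw [Finset.card_erase_of_mem (Finset.mem_univ _), Finset.card_univ, hn]; omega
      have h1 : (n + 8) * (n + 9) ≤ ∑ γ ∈ Finset.univ.erase (0 : F),
          finrank ℂ (Eig ρ [(8, γ), (9, 0), (11, 0), (10, 0)]) := by
        rw [← hc, ← smul_eq_mul, ← Finset.sum_const]
        exact Finset.sum_le_sum fun γ hγ => hn ▸ long_short ρ h3 hq5 (Finset.ne_of_mem_erase hγ)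
          (hall γ (Finset.ne_of_mem_erase hγ))
      have h2 : n + 8 ≤ finrank ℂ (Eig ρ [((8 : Fin 12), (0 : F)), (9, 0), (11, 0), (10, 0)]) := by
        rw [← split ρ 6 (stable_B ρ), ← hc, ← mul_one (Finset.card _), ← smul_eq_mul,
          ← Finset.sum_const]
        refine le_trans (Finset.sum_le_sum fun β hβ => ?_)
          (Finset.sum_le_sum_of_subset (Finset.erase_subset _ _))
        exact pure_long ρ h3 hq5 hb (by rw [hNeq, hn]) hall (Finset.ne_of_mem_erase hβ)
      omega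
    rw [ha1, show n + 9 - 1 = n + 8 by omega] at hk
    nlinarith
  · have h4 : 4 ≤ a 1 := by
      have := hge 1 one_ne_zero
      simp only [ha] at ha1 ⊢
      omega
    rw [show n + 9 - 1 = n + 8 by omega] at hk
    nlinarith [Nat.mul_le_mul_left ((n + 8) * (n + 9)) h4]

end Cfsg.Agent.Lie.Chev.G2Deg
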