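import Cfsg.Agent.Lib.Lie.Chev.G2MinDegreeCount
import Cfsg.Agent.Lib.Lie.Chev.G2MinDegreeThree
import Cfsg.Agent.Lib.Char.Integral

/-! The smallest degree of a non-trivial complex representation of G₂(q). -/

set_option autoImplicit false
set_option linter.unusedSectionVars false
set_option maxRecDepth 20000

namespace Cfsg.Agent.Lie.Chev.G2Deg

open Module

set_option maxHeartbeats 1000000 in
theorem arith_three (f k : ℕ) (hf : 2 ≤ f) (hlo : (3 ^ f) ^ 4 + (3 ^ f) ^ 2 ≤ k + 3 ^ f + 1)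
    (hd : k ∣ (3 ^ f) ^ 6 * (((3 ^ f) ^ 2 - 1) * ((3 ^ f) ^ 6 - 1))) :
    (3 ^ f) ^ 4 + (3 ^ f) ^ 2 + 1 ≤ k := by
  by_contra hk
  obtain ⟨j, hj1, hkj⟩ : ∃ j, 1 ≤ j ∧ k + j = (3 ^ f) ^ 4 + (3 ^ f) ^ 2 + 1 :=
    ⟨(3 ^ f) ^ 4 + (3 ^ f) ^ 2 + 1 - k, by omega, by omega⟩
  have hjq : j ≤ 3 ^ f + 2 := by omega
  have hq9 : 9 ≤ 3 ^ f := le_trans (by norm_num) (Nat.pow_le_pow_right (by norm_num) hf)
  have hq3 : 3 ∣ 3 ^ f := dvd_pow_self 3 (by omega)
  set q := 3 ^ f with hqdef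
  have hp6 : q ^ 6 = 3 ^ (f * 6) := by rw [hqdef, ← pow_mul]
  have hp2 : q ^ 2 = 3 ^ (f * 2) := by rw [hqdef, ← pow_mul]
  have hk0 : 0 < k := by nlinarith
  -- the part of the degree prime to three
  obtain ⟨v, k', hk3, rfl⟩ := Nat.exists_eq_pow_mul_and_not_dvd hk0.ne' 3 (by norm_num)
  have hcop : Nat.Coprime k' (q ^ 6) := by
    rw [hp6]
    exact Nat.Coprime.pow_right _ ((Nat.prime_three.coprime_iff_not_dvd.2 hk3).symm)
  have h6 : q ^ 6 - 1 = (q ^ 2 - 1) * (q ^ 4 + q ^ 2 + 1) := by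
    obtain ⟨m, hm⟩ : ∃ m, q ^ 2 = m + 1 := ⟨q ^ 2 - 1, by
      have := Nat.one_le_pow 2 q (by omega); omega⟩
    rw [hm, Nat.add_sub_cancel, show q ^ 6 = m * (q ^ 4 + (m + 1) + 1) + 1 by
      rw [show q ^ 6 = (q ^ 2) ^ 3 by ring, show q ^ 4 = (q ^ 2) ^ 2 by ring, hm]; ring,
      Nat.add_sub_cancel]
  have hk' : k' ∣ (q ^ 2 - 1) * ((q ^ 2 - 1) * (q ^ 4 + q ^ 2 + 1)) := by
    refine hcop.dvd_of_dvd_mul_left ?_
    rw [← h6]
    exact (Dvd.intro_left _ rfl).trans hd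
  by_cases hj0 : j = 1
  · subst hj0
    have hg : q ^ 2 + 1 ∣ k' := by
      refine (show Nat.Coprime (q ^ 2 + 1) (3 ^ v) from ?_).dvd_of_dvd_mul_left ?_
      · refine Nat.Coprime.pow_right _ ((Nat.prime_three.coprime_iff_not_dvd.2 fun h => ?_).symm)
        have : 3 ∣ q ^ 2 := dvd_pow hq3 (by norm_num)
        omega
      · rw [show 3 ^ v * k' = q ^ 2 * (q ^ 2 + 1) by nlinarith]
        exact dvd_mul_left _ _
    have h1 : ((q ^ 2 + 1 : ℕ) : ℤ) ∣
        (((q ^ 2 - 1) * ((q ^ 2 - 1) * (q ^ 4 + q ^ 2 + 1)) : ℕ) : ℤ) :=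
      Int.natCast_dvd_natCast.2 (hg.trans hk')
    push_cast [Nat.cast_sub (Nat.one_le_pow 2 q (by omega))] at h1
    set Q : ℤ := (q : ℤ)
    have h4 : (Q ^ 2 + 1) ∣ 4 := by
      have e : (Q ^ 2 - 1) * ((Q ^ 2 - 1) * (Q ^ 4 + Q ^ 2 + 1)) -
          (Q ^ 2 + 1) * ((Q ^ 2 + 1) * (Q ^ 4 + Q ^ 2 + 1) - 4 * (Q ^ 4 + Q ^ 2 + 1) + 4 * Q ^ 2) = 4 := by
        ring
      exact e ▸ dvd_sub h1 (dvd_mul_right _ _)
    have := Int.le_of_dvd (by norm_num) h4
    have hQ : (9 : ℤ) ≤ Q := by simp only [Q]; exact_mod_cast hq9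
    nlinarith
  -- the power of three
  have hP : 3 ^ v ∣ j - 1 ∧ 3 ^ v ≤ q := by
    have hv : 3 ^ v ∣ j - 1 := by
      rcases Nat.lt_or_ge (f * 2) v with h | h
      · exfalso
        have h2 : q ^ 2 ∣ 3 ^ v * k' := by
          rw [hp2]; exact dvd_mul_of_dvd_left (pow_dvd_pow 3 h.le) _
        have h4 : q ^ 2 ∣ q ^ 4 + q ^ 2 := dvd_add (pow_dvd_pow q (by norm_num)) dvd_rfl
        have h5 := Nat.dvd_sub h4 h2
        have hlt : j - 1 < q ^ 2 := by nlinarith [Nat.sub_le j 1]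
        rw [show q ^ 4 + q ^ 2 - 3 ^ v * k' = j - 1 by omega] at h5
        have := Nat.eq_zero_of_dvd_of_lt h5 hlt
        omega
      · have h4 : 3 ^ v ∣ q ^ 4 + q ^ 2 := by
          have h2 : 3 ^ v ∣ q ^ 2 := hp2 ▸ pow_dvd_pow 3 h
          exact dvd_add (h2.trans (pow_dvd_pow q (by norm_num))) h2
        have h5 := Nat.dvd_sub h4 (dvd_mul_right (3 ^ v) k')
        rwa [show q ^ 4 + q ^ 2 - 3 ^ v * k' = j - 1 by omega] at h5
    refine ⟨hv, ?_⟩
    rcases Nat.lt_or_ge f v with h | h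
    · exfalso
      have h1 : 3 ^ (f + 1) ≤ 3 ^ v := Nat.pow_le_pow_right (by norm_num) h
      have h2 := Nat.le_of_dvd (by omega) hv
      rw [pow_succ, ← hqdef] at h1
      omega
    · exact Nat.pow_le_pow_right (by norm_num) h
  obtain ⟨hPd, hPle⟩ := hP
  have hd' : ((3 ^ v * k' : ℕ) : ℤ) ∣
      ((3 ^ v * ((q ^ 2 - 1) * ((q ^ 2 - 1) * (q ^ 4 + q ^ 2 + 1))) : ℕ) : ℤ) :=
    Int.natCast_dvd_natCast.2 (Nat.mul_dvd_mul_left _ hk')
  push_cast [Nat.cast_sub (Nat.one_le_pow 2 q (by omega))] at hd'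
  have hkZ : (3 : ℤ) ^ v * k' = (q : ℤ) ^ 4 + (q : ℤ) ^ 2 + 1 - j := by
    have := congrArg (fun n : ℕ => (n : ℤ)) hkj
    push_cast at this
    linarith
  rw [hkZ] at hd'
  set Q : ℤ := (q : ℤ)
  set M : ℤ := Q ^ 4 + Q ^ 2 + 1 with hM
  set P : ℤ := (3 : ℤ) ^ v
  have hQ : (9 : ℤ) ≤ Q := by simp only [Q]; exact_mod_cast hq9
  by_cases hj3 : j = 3
  · subst hj3
    have hv0 : v = 0 := by
      rcases Nat.eq_zero_or_pos v with h | h
      · exact h
      · exfalso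
        have := Nat.le_of_dvd (by norm_num) hPd
        have : 3 ≤ 3 ^ v := Nat.le_self_pow (by omega) 3
        omega
    have hP1 : P = 1 := by simp [P, hv0]
    rw [hP1, one_mul, show M - ((3 : ℕ) : ℤ) = (Q ^ 2 - 1) * (Q ^ 2 + 2) by
      rw [hM]; push_cast; ring] at hd'
    have h1 : Q ^ 2 + 2 ∣ (Q ^ 2 - 1) * M :=
      Int.dvd_of_mul_dvd_mul_left (by nlinarith) hd'
    have h9 : Q ^ 2 + 2 ∣ 9 := by
      have e : (Q ^ 2 + 2) * (Q ^ 4 - 2 * Q ^ 2 + 4) - (Q ^ 2 - 1) * M = 9 := by rw [hM]; ring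
      exact e ▸ dvd_sub (dvd_mul_right _ _) h1
    have := Int.le_of_dvd (by norm_num) h9
    nlinarith
  · have hdiv : M - j ∣ P * (((j : ℤ) - 3) * ((j : ℤ) - 3) * j) := by
      have h1 := dvd_mul_of_dvd_left hd' ((Q ^ 2 + 2) * (Q ^ 2 + 2))
      have e : P * ((Q ^ 2 - 1) * ((Q ^ 2 - 1) * M)) * ((Q ^ 2 + 2) * (Q ^ 2 + 2)) -
          (M - j) * (P * ((M - 3) * (M - 3) + (M + j - 6) * j)) =
          P * (((j : ℤ) - 3) * ((j : ℤ) - 3) * j) := by
        rw [hM]; ring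
      exact e ▸ dvd_sub h1 (dvd_mul_right _ _)
    have hP0 : 0 < P := by positivity
    have hj0' : (0 : ℤ) < j := by exact_mod_cast hj1
    have hj3' : ((j : ℤ) - 3) ≠ 0 := sub_ne_zero.2 (by exact_mod_cast hj3)
    have hle := Int.le_of_dvd (mul_pos hP0 (mul_pos (mul_self_pos.2 hj3') hj0')) hdiv
    have hPQ : P ≤ Q := by simp only [P, Q]; exact_mod_cast hPle
    have hjQ : (j : ℤ) ≤ Q + 2 := by simp only [Q]; exact_mod_cast hjq
    rcases Nat.lt_or_ge j (q + 2) with hlt | hge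
    · have hjQ1 : (j : ℤ) ≤ Q + 1 := by simp only [Q]; exact_mod_cast Nat.le_of_lt_succ hlt
      have h1 : ((j : ℤ) - 3) * ((j : ℤ) - 3) ≤ (Q - 2) * (Q - 2) := by
        have h2 : (2 : ℤ) ≤ j := by
          have : 2 ≤ j := by omega
          exact_mod_cast this
        nlinarith
      have h2 : P * (((j : ℤ) - 3) * ((j : ℤ) - 3) * j) ≤ Q * ((Q - 2) * (Q - 2) * (Q + 1)) :=
        mul_le_mul hPQ (mul_le_mul h1 hjQ1 hj0'.le (mul_self_nonneg _))
          (mul_nonneg (mul_self_nonneg _) hj0'.le) (by linarith)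
      rw [hM] at hle
      have h5 := mul_le_mul_of_nonneg_right hQ (sq_nonneg Q)
      nlinarith only [hle, h2, hjQ1, hQ, h5, mul_le_mul_of_nonneg_right hQ (show (0 : ℤ) ≤ Q by linarith)]
    · obtain rfl : j = q + 2 := le_antisymm hjq hge
      have hv0 : v = 0 := by
        rcases Nat.eq_zero_or_pos v with h | h
        · exact h
        · exfalso
          have := (dvd_pow_self 3 (show v ≠ 0 by omega)).trans hPd
          omega
      have hP1 : P = 1 := by simp [P, hv0]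
      rw [hM, hP1, one_mul] at hle
      push_cast at hle
      have h81 : 81 ≤ Q ^ 2 := by nlinarith
      have hQ3 : 0 < Q ^ 3 := pow_pos (by linarith) 3
      nlinarith only [hle, hQ, h81, hQ3, mul_le_mul_of_nonneg_right hQ hQ3.le]

variable {F : Type*} [Field F] [Fintype F]

/-- The bounds. -/
theorem min_degree (k : ℕ) (ρ : Representation ℂ (Gam F) (Fin k → ℂ)) (hirr : ρ.IsIrreducible)
    (hk : 2 ≤ k) :
    (Fintype.card F % 3 = 1 → 4 < Fintype.card F → Fintype.card F ^ 3 + 1 ≤ k) ∧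
    (Fintype.card F % 3 = 2 → 2 < Fintype.card F → Fintype.card F ^ 3 - 1 ≤ k) ∧
    (Fintype.card F % 3 = 0 → 3 < Fintype.card F →
      Fintype.card F ^ 4 + Fintype.card F ^ 2 + 1 ≤ k) := by
  classical
  haveI := hirr
  have hinj : 3 ≤ Fintype.card F → Function.Injective ρ := by
    intro hq
    haveI := (simple_group (F := F) hq).1
    rcases Subgroup.Normal.eq_bot_or_eq_top (inferInstance : (MonoidHom.ker ρ).Normal) with h | h
    · exact (MonoidHom.ker_eq_bot_iff ρ).1 h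
    · exfalso
      have htriv : ∀ g v, ρ g v = v := fun g v => by
        have : g ∈ MonoidHom.ker ρ := h ▸ Subgroup.mem_top g
        rw [MonoidHom.mem_ker.1 this]
        rfl
      let e0 : Fin k → ℂ := Pi.single (⟨0, by omega⟩ : Fin k) 1
      let W : Subrepresentation ρ := ⟨ℂ ∙ e0, fun g v hv => by rw [htriv]; exact hv⟩
      rcases eq_bot_or_eq_top W with h | h
      · have h' := congrArg Subrepresentation.toSubmodule h
        have : (Pi.single (⟨0, by omega⟩ : Fin k) (1 : ℂ) : Fin k → ℂ) = 0 :=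
          Submodule.span_singleton_eq_bot.1 h'
        simpa using congrFun this ⟨0, by omega⟩
      · have h' := congrArg Subrepresentation.toSubmodule h
        have hfr : Module.finrank ℂ (ℂ ∙ e0) = k := by
          rw [show (ℂ ∙ e0) = ⊤ from h']; simp
        rw [finrank_span_singleton (show e0 ≠ 0 by simp [e0])] at hfr
        omega
  have h3 : Fintype.card F % 3 ≠ 0 → (3 : F) ≠ 0 := fun h e => by
    have := q_dvd3 e
    omega
  have hdim : finrank ℂ (Fin k → ℂ) = k := finrank_fin_fun ℂ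
  refine ⟨fun hm hq => ?_, fun hm hq => ?_, fun hm hq => ?_⟩
  · have hq7 : 7 ≤ Fintype.card F := by
      rcases Nat.lt_or_ge (Fintype.card F) 7 with h | h
      · exfalso; omega
      · exact h
    have h3' := h3 (by omega)
    rcases degree_ge ρ h3' (by omega) (hinj (by omega)) with h | ⟨hm1, h⟩
    · rwa [hdim] at h
    rw [hdim] at h
    rcases Nat.lt_or_ge (finrank ℂ (QV ρ)) 2 with hr | hr
    · exfalso
      rcases Nat.eq_zero_or_pos (finrank ℂ (QV ρ)) with h0 | h0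
      · exact no_cuspidal ρ h3' hq7 (by omega) hm1 (Submodule.finrank_eq_zero.1 h0)
      · have h1 : finrank ℂ (QV ρ) = 1 := by omega
        obtain ⟨q₀⟩ := exists_QVec h1 (by omega)
        exact degree_fixed_vector hirr (by rw [hdim]; exact hk) hq7 q₀ (by rw [hdim]; omega)
    · omega
  · have h3' := h3 (by omega)
    rcases degree_ge ρ h3' (by omega) (hinj (by omega)) with h | ⟨-, h⟩ <;> rw [hdim] at h <;> omega
  · have h3' : (3 : F) = 0 := by
      obtain ⟨p, hp⟩ := CharP.exists F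
      obtain ⟨n, hpp, hn⟩ := FiniteField.card F p
      have hdv : (3 : ℕ) ∣ p ^ (n : ℕ) := hn ▸ Nat.dvd_of_mod_eq_zero hm
      have := (Nat.prime_dvd_prime_iff_eq Nat.prime_three hpp).1 (Nat.prime_three.dvd_of_dvd_pow hdv)
      subst this
      exact_mod_cast CharP.cast_eq_zero F 3
    obtain ⟨p, hp⟩ := CharP.exists F
    obtain ⟨n, hpp, hn⟩ := FiniteField.card F p
    have hp3 : p = 3 := ((Nat.prime_dvd_prime_iff_eq hpp Nat.prime_three).1
      ((CharP.cast_eq_zero_iff F p 3).1 (by exact_mod_cast h3')))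
    subst hp3
    have hn2 : 2 ≤ (n : ℕ) := by
      rcases Nat.lt_or_ge (n : ℕ) 2 with h | h
      · exfalso
        have : (n : ℕ) = 1 := by have := n.pos; omega
        rw [hn, this] at hq
        omega
      · exact h
    have hq9 : 9 ≤ Fintype.card F := by
      rw [hn]; exact le_trans (by norm_num) (Nat.pow_le_pow_right (by norm_num) hn2)
    have hlo := degree_three ρ h3' hq9 (hinj (by omega))
    have hd := Cfsg.Agent.Char.degree_dvd_card ρ
    rw [hdim] at hlo hd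
    rw [card_G2, hn] at hd
    rw [hn] at hlo ⊢
    exact arith_three _ k hn2 hlo hd

end Cfsg.Agent.Lie.Chev.G2Deg
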