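import Cfsg.Agent.Lib.Lie.Chev.G2MinDegreeLines

/-! Averages over root groups and an invariant form, for representations of G₂(q). -/

set_option autoImplicit false
set_option linter.unusedSectionVars false
set_option maxRecDepth 20000

namespace Cfsg.Agent.Lie.Chev.G2Deg

open Module
open scoped ComplexConjugate

variable {F : Type*} [Field F] [Fintype F] {V : Type*} [AddCommGroup V] [Module ℂ V]
  (ρ : Gam F →* End ℂ V)

noncomputable instance : Fintype (Gam F) := by
  classical
  exact Fintype.ofFinite _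

/-- The subgroup generated by some root subgroups. -/
noncomputable def rad (S : List (Fin 12)) : Subgroup (Gam F) :=
  Subgroup.closure {g | ∃ r ∈ S, ∃ t, g = R r t}

theorem R_mem_rad {S : List (Fin 12)} {r : Fin 12} (h : r ∈ S) (t : F) : R r t ∈ rad S :=
  Subgroup.subset_closure ⟨r, h, t, rfl⟩

theorem rad_fixes {S : List (Fin 12)} {v : V} (h : ∀ r ∈ S, ∀ t : F, ρ (R r t) v = v)
    {g : Gam F} (hg : g ∈ rad S) : ρ g v = v := by
  induction hg using Subgroup.closure_induction with
  | mem x hx => obtain ⟨r, hr, t, rfl⟩ := hx; exact h r hr t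
  | one => rw [map_one]; rfl
  | mul x y _ _ hx hy => rw [rho_apply, hy, hx]
  | inv x _ hx => exact rho_injective ρ x (by rw [← rho_apply, mul_inv_cancel, map_one, hx]; rfl)

theorem rad_normalised {S : List (Fin 12)} {g : Gam F}
    (h : ∀ r ∈ S, ∀ t : F, g * R r t * g⁻¹ ∈ rad S) :
    ∀ x ∈ rad (F := F) S, g * x * g⁻¹ ∈ rad S := by
  intro x hx
  induction hx using Subgroup.closure_induction with
  | mem x hx => obtain ⟨r, hr, t, rfl⟩ := hx; exact h r hr t
  | one => simp [one_mem]
  | mul x y _ _ hx hy =>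
    have := mul_mem hx hy
    rwa [show g * x * g⁻¹ * (g * y * g⁻¹) = g * (x * y) * g⁻¹ by group] at this
  | inv x _ hx =>
    have := inv_mem hx
    rwa [show (g * x * g⁻¹)⁻¹ = g * x⁻¹ * g⁻¹ by group] at this

open Classical in
/-- The average over a subgroup. -/
noncomputable def avg (H : Subgroup (Gam F)) : End ℂ V :=
  (Fintype.card H : ℂ)⁻¹ • ∑ h : H, ρ (h : Gam F)

open Classical in
theorem avg_apply' (H : Subgroup (Gam F)) (v : V) :
    avg ρ H v = (Fintype.card H : ℂ)⁻¹ • ∑ h : H, ρ (h : Gam F) v := by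
  simp [avg, LinearMap.sum_apply]

theorem avg_left (H : Subgroup (Gam F)) {h : Gam F} (hh : h ∈ H) (v : V) :
    ρ h (avg ρ H v) = avg ρ H v := by
  classical
  rw [avg_apply', map_smul, map_sum]
  congr 1
  refine Fintype.sum_equiv (Equiv.mulLeft (⟨h, hh⟩ : H)) _ _ fun x => ?_
  rw [← rho_apply]
  rfl

theorem avg_right (H : Subgroup (Gam F)) {h : Gam F} (hh : h ∈ H) (v : V) :
    avg ρ H (ρ h v) = avg ρ H v := by
  classical
  rw [avg_apply', avg_apply']
  congr 1
  refine Fintype.sum_equiv (Equiv.mulRight (⟨h, hh⟩ : H)) _ _ fun x => ?_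
  rw [← rho_apply]
  rfl

theorem avg_fix (H : Subgroup (Gam F)) {v : V} (hv : ∀ h ∈ H, ρ h v = v) : avg ρ H v = v := by
  classical
  rw [avg_apply', Finset.sum_congr rfl fun (h : H) _ => hv h h.2, Finset.sum_const,
    Finset.card_univ, ← Nat.cast_smul_eq_nsmul ℂ, smul_smul,
    inv_mul_cancel₀ (Nat.cast_ne_zero.2 Fintype.card_ne_zero), one_smul]

theorem avg_conj (H : Subgroup (Gam F)) {g : Gam F} (hg : ∀ x ∈ H, g * x * g⁻¹ ∈ H) (v : V) :
    ρ g (avg ρ H v) = avg ρ H (ρ g v) := by
  classical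
  rw [avg_apply', avg_apply', map_smul, map_sum]
  congr 1
  have hinj : Function.Injective fun x : H => (⟨g * x * g⁻¹, hg x x.2⟩ : H) := fun x y e =>
    Subtype.ext (mul_left_cancel (mul_right_cancel (congrArg Subtype.val e)))
  refine Fintype.sum_bijective _ (Finite.injective_iff_bijective.1 hinj) _ _ fun x => ?_
  rw [← rho_apply, ← rho_apply]
  congr 2
  group

theorem avg_comp {H' H : Subgroup (Gam F)} (h : H' ≤ H) (v : V) :
    avg ρ H (avg ρ H' v) = avg ρ H v := by
  classical
  rw [avg_apply' ρ H', map_smul, map_sum,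
    Finset.sum_congr rfl fun (x : H') _ => avg_right ρ H (h x.2) v, Finset.sum_const,
    Finset.card_univ, ← Nat.cast_smul_eq_nsmul ℂ, smul_smul,
    inv_mul_cancel₀ (Nat.cast_ne_zero.2 Fintype.card_ne_zero), one_smul]

variable [FiniteDimensional ℂ V]

/-- An invariant positive form. -/
noncomputable def frm (x y : V) : ℂ :=
  ∑ g : Gam F, ∑ i, conj ((Module.finBasis ℂ V).repr (ρ g x) i) *
    (Module.finBasis ℂ V).repr (ρ g y) i

theorem frm_add (x y z : V) : frm ρ x (y + z) = frm ρ x y + frm ρ x z := by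
  simp [frm, mul_add, Finset.sum_add_distrib]

theorem frm_smul (x y : V) (a : ℂ) : frm ρ x (a • y) = a * frm ρ x y := by
  simp only [frm, Finset.mul_sum, map_smul, Finsupp.smul_apply, smul_eq_mul]
  exact Finset.sum_congr rfl fun g _ => Finset.sum_congr rfl fun i _ => by ring

theorem frm_conj (x y : V) : conj (frm ρ x y) = frm ρ y x := by
  simp only [frm, map_sum, map_mul, Complex.conj_conj]
  exact Finset.sum_congr rfl fun g _ => Finset.sum_congr rfl fun i _ => mul_comm _ _

theorem frm_sub (x y z : V) : frm ρ x (y - z) = frm ρ x y - frm ρ x z := by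
  rw [sub_eq_add_neg, ← neg_one_smul ℂ z, frm_add, frm_smul]
  ring

theorem frm_zero (x : V) : frm ρ x 0 = 0 := by simp [frm]

theorem frm_sum {ι : Type*} (s : Finset ι) (x : V) (f : ι → V) :
    frm ρ x (∑ i ∈ s, f i) = ∑ i ∈ s, frm ρ x (f i) :=
  map_sum ({ toFun := frm ρ x, map_zero' := frm_zero ρ x, map_add' := frm_add ρ x } : V →+ ℂ) f s

theorem frm_inv (g : Gam F) (x y : V) : frm ρ (ρ g x) (ρ g y) = frm ρ x y := by
  simp only [frm, ← rho_apply]
  exact Fintype.sum_equiv (Equiv.mulRight g) _ _ fun h => rfl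

theorem frm_adjoint (g : Gam F) (x y : V) : frm ρ x (ρ g y) = frm ρ (ρ g⁻¹ x) y := by
  conv_lhs => rw [show x = ρ g (ρ g⁻¹ x) by rw [← rho_apply, mul_inv_cancel, map_one]; rfl]
  rw [frm_inv]

theorem frm_avg_fixed (H : Subgroup (Gam F)) {x : V} (hx : ∀ h ∈ H, ρ h x = x) (y : V) :
    frm ρ x (avg ρ H y) = frm ρ x y := by
  classical
  rw [avg_apply', frm_smul, frm_sum,
    Finset.sum_congr rfl fun (h : H) _ => show frm ρ x (ρ (h : Gam F) y) = frm ρ x y by
      rw [frm_adjoint, hx _ (inv_mem h.2)],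
    Finset.sum_const, Finset.card_univ, nsmul_eq_mul, ← mul_assoc,
    inv_mul_cancel₀ (Nat.cast_ne_zero.2 Fintype.card_ne_zero), one_mul]

theorem frm_self {x : V} (h : frm ρ x x = 0) : x = 0 := by
  have h' : ∑ g : Gam F, ∑ i, Complex.normSq ((Module.finBasis ℂ V).repr (ρ g x) i) = 0 := by
    rw [frm] at h
    simp only [← Complex.normSq_eq_conj_mul_self] at h
    exact_mod_cast h
  rw [Finset.sum_eq_zero_iff_of_nonneg
    fun g _ => Finset.sum_nonneg fun i _ => Complex.normSq_nonneg _] at h'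
  have h1 := h' 1 (Finset.mem_univ _)
  rw [Finset.sum_eq_zero_iff_of_nonneg fun i _ => Complex.normSq_nonneg _] at h1
  refine (Module.finBasis ℂ V).repr.map_eq_zero_iff.1 (Finsupp.ext fun i => ?_)
  simpa using h1 i (Finset.mem_univ _)

end Cfsg.Agent.Lie.Chev.G2Deg
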