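import Cfsg.Agent.Lib.Lie.Chev.G2MinDegreeRels
import Cfsg.Agent.Lib.Grp.EigenSplit

/-! Eigenspaces of root subgroups of G₂(q) in a complex representation. -/

set_option autoImplicit false
set_option linter.unusedSectionVars false

namespace Cfsg.Agent.Lie.Chev.G2Deg

open Module Cfsg.Agent.Grp.EigenSplit

variable {F : Type*} [Field F] [Fintype F]

/-- A non-degenerate character of the field. -/
noncomputable def psi (F : Type*) [Field F] [Fintype F] : AddChar F ℂ :=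
  AddChar.FiniteField.primitiveChar_to_Complex F

/-- The characters of the field. -/
noncomputable def chF (η : F) : AddChar F ℂ := AddChar.mulShift (psi F) η

theorem chF_apply (η x : F) : chF η x = psi F (η * x) := AddChar.mulShift_apply ..

theorem chF_injective : Function.Injective (chF (F := F)) :=
  AddChar.to_mulShift_inj_of_isPrimitive
    (AddChar.FiniteField.primitiveChar_to_Complex_isPrimitive F)

theorem eq_of_psi {a b : F} (h : ∀ x, psi F (a * x) = psi F (b * x)) : a = b :=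
  chF_injective (DFunLike.ext _ _ fun x => by rw [chF_apply, chF_apply, h])

theorem eq_zero_of_psi {a : F} (h : ∀ x, psi F (a * x) = 1) : a = 0 :=
  eq_of_psi fun x => by rw [h, zero_mul, AddChar.map_zero_eq_one]

theorem psi_mul (a b : F) : psi F a * psi F b = psi F (a + b) :=
  (AddChar.map_add_eq_mul _ a b).symm

variable {V : Type*} [AddCommGroup V] [Module ℂ V] (ρ : Gam F →* End ℂ V)

/-- The vectors on which the listed root subgroups act by the listed characters. -/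
def Eig (L : List (Fin 12 × F)) : Submodule ℂ V where
  carrier := {v | ∀ p ∈ L, ∀ t, ρ (R p.1 t) v = psi F (p.2 * t) • v}
  zero_mem' := fun p _ t => by simp
  add_mem' := fun {a b} ha hb p hp t => by rw [map_add, ha p hp t, hb p hp t, smul_add]
  smul_mem' := fun c v hv p hp t => by rw [map_smul, hv p hp t, smul_comm]

theorem mem_Eig {L : List (Fin 12 × F)} {v : V} :
    v ∈ Eig ρ L ↔ ∀ p ∈ L, ∀ t, ρ (R p.1 t) v = psi F (p.2 * t) • v := Iff.rfl

theorem Eig.app {L : List (Fin 12 × F)} {v : V} (hv : v ∈ Eig ρ L) (r : Fin 12) (χ : F)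
    (h : (r, χ) ∈ L) (t : F) : ρ (R r t) v = psi F (χ * t) • v := hv (r, χ) h t

theorem Eig.fixed {L : List (Fin 12 × F)} {v : V} (hv : v ∈ Eig ρ L) (r : Fin 12)
    (h : (r, (0 : F)) ∈ L) (t : F) : ρ (R r t) v = v := by
  rw [hv _ h, zero_mul, AddChar.map_zero_eq_one, one_smul]

theorem Eig_mono {L L' : List (Fin 12 × F)} (h : ∀ p ∈ L', p ∈ L) : Eig ρ L ≤ Eig ρ L' :=
  fun _ hv p hp => hv p (h p hp)

theorem Eig_congr {L L' : List (Fin 12 × F)} (h : ∀ p ∈ L', p ∈ L) (h' : ∀ p ∈ L, p ∈ L') :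
    finrank ℂ (Eig ρ L) = finrank ℂ (Eig ρ L') := by
  rw [le_antisymm (Eig_mono ρ h) (Eig_mono ρ h')]

theorem inf_eig_eq_Eig (r : Fin 12) (χ : F) (L : List (Fin 12 × F)) :
    Eig ρ L ⊓ eig (fun t => ρ (R r t)) (chF χ) = Eig ρ ((r, χ) :: L) := by
  ext v
  simp only [Submodule.mem_inf, mem_eig, mem_Eig, List.forall_mem_cons, chF_apply]
  exact And.comm

theorem isAct (r : Fin 12) : IsAct (fun t : F => ρ (R r t)) :=
  ⟨by rw [R_zero, map_one], fun x y => by rw [R_add, map_mul]⟩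

theorem rho_apply (g h : Gam F) (v : V) : ρ (g * h) v = ρ g (ρ h v) := by
  rw [map_mul, End.mul_apply]

theorem rho_injective (g : Gam F) : Function.Injective (ρ g) := fun v w e => by
  have := congrArg (ρ g⁻¹) e
  rwa [← rho_apply, ← rho_apply, inv_mul_cancel, map_one] at this

/-- Stability under a root subgroup commuting with all the listed ones. -/
theorem stable_cm {L : List (Fin 12 × F)} {r : Fin 12} (h : ∀ p ∈ L, cm p.1 r = true) (t : F) :
    Stable (ρ (R r t)) (Eig ρ L) := fun v hv p hp x => by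
  rw [← rho_apply, (comm_of_cm (h p hp) x t).eq, rho_apply, hv p hp, map_smul]

/-- Stability when the commutators act trivially. -/
theorem stable_tail {L : List (Fin 12 × F)} {r : Fin 12}
    (h : ∀ p ∈ L, ∀ t x, ∃ w, R p.1 x * R r t = R r t * R p.1 x * w ∧
      ∀ v ∈ Eig ρ L, ρ w v = v) (t : F) : Stable (ρ (R r t)) (Eig ρ L) := fun v hv p hp x => by
  obtain ⟨w, e, hw⟩ := h p hp t x
  rw [← rho_apply, e, rho_apply, rho_apply, hw v hv, hv p hp, map_smul]

theorem tail_cm {r s : Fin 12} (h : cm s r = true) (t x : F) (W : Submodule ℂ V) :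
    ∃ w, R s x * R r t = R r t * R s x * w ∧ ∀ v ∈ W, ρ w v = v :=
  ⟨1, by rw [mul_one, (comm_of_cm h x t).eq], fun v _ => by rw [map_one]; rfl⟩

/-- Moving along an element carrying root subgroups to root subgroups. -/
theorem maps_rel (g : Gam F) {L L' : List (Fin 12 × F)}
    (h : ∀ p' ∈ L', ∃ p ∈ L, ∃ k : F, k ≠ 0 ∧ p'.2 = p.2 / k ∧
      ∀ x, g * R p.1 x = R p'.1 (k * x) * g) :
    ∀ v ∈ Eig ρ L, ρ g v ∈ Eig ρ L' := fun v hv p' hp' t => by
  obtain ⟨p, hp, k, hk, e, hg⟩ := h p' hp'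
  have h1 := hg (t / k)
  rw [mul_div_cancel₀ t hk] at h1
  rw [← rho_apply, ← h1, rho_apply, hv p hp, map_smul, e]
  congr 2
  field_simp

variable [FiniteDimensional ℂ V]

theorem split (r : Fin 12) {L : List (Fin 12 × F)}
    (h : ∀ t, Stable (ρ (R r t)) (Eig ρ L)) :
    ∑ χ, finrank ℂ (Eig ρ ((r, χ) :: L)) = finrank ℂ (Eig ρ L) := by
  have := sum_finrank (isAct ρ r) chF chF_injective rfl h
  rw [← this]
  exact Finset.sum_congr rfl fun χ _ => by rw [inf_eig_eq_Eig]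

theorem dim_rel (g : Gam F) {L L' : List (Fin 12 × F)}
    (h : ∀ p' ∈ L', ∃ p ∈ L, ∃ k : F, k ≠ 0 ∧ p'.2 = p.2 / k ∧
      ∀ x, g * R p.1 x = R p'.1 (k * x) * g)
    (h' : ∀ p ∈ L, ∃ p' ∈ L', ∃ k : F, k ≠ 0 ∧ p'.2 = p.2 / k ∧
      ∀ x, g * R p.1 x = R p'.1 (k * x) * g) :
    finrank ℂ (Eig ρ L) = finrank ℂ (Eig ρ L') := by
  refine le_antisymm (finrank_le_of_maps (rho_injective ρ g) (maps_rel ρ g h))
    (finrank_le_of_maps (rho_injective ρ g⁻¹) (maps_rel ρ g⁻¹ fun p hp => ?_))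
  obtain ⟨p', hp', k, hk, e, hg⟩ := h' p hp
  refine ⟨p', hp', k⁻¹, inv_ne_zero hk, by rw [e]; field_simp, fun x => ?_⟩
  have h1 := hg (k⁻¹ * x)
  rw [mul_inv_cancel_left₀ hk] at h1
  rw [inv_mul_eq_iff_eq_mul, ← mul_assoc, h1, mul_assoc, mul_inv_cancel, mul_one]

/-- Two spaces carried into each other by injective maps. -/
theorem dim_eq_of_maps {g g' : Gam F} {L L' : List (Fin 12 × F)}
    (h : ∀ v ∈ Eig ρ L, ρ g v ∈ Eig ρ L') (h' : ∀ v ∈ Eig ρ L', ρ g' v ∈ Eig ρ L) :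
    finrank ℂ (Eig ρ L) = finrank ℂ (Eig ρ L') :=
  le_antisymm (finrank_le_of_maps (rho_injective ρ g) h)
    (finrank_le_of_maps (rho_injective ρ g') h')

theorem dim_tor (s t : Fˣ) {L L' : List (Fin 12 × F)}
    (h : L' = L.map fun p => (p.1, p.2 / (wt p.1 s t : F))) :
    finrank ℂ (Eig ρ L) = finrank ℂ (Eig ρ L') := by
  subst h
  refine dim_rel ρ (tor s t) (fun p' hp' => ?_) fun p hp => ?_
  · obtain ⟨p, hp, rfl⟩ := List.mem_map.1 hp'
    exact ⟨p, hp, _, Units.ne_zero _, rfl, fun x => tor_rel _ _ _ x⟩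
  · exact ⟨_, List.mem_map.2 ⟨p, hp, rfl⟩, _, Units.ne_zero _, rfl, fun x => tor_rel _ _ _ x⟩

omit [FiniteDimensional ℂ V] in
theorem tor_maps (s t : Fˣ) {L L' : List (Fin 12 × F)}
    (h : L' = L.map fun p => (p.1, p.2 / (wt p.1 s t : F))) :
    ∀ v ∈ Eig ρ L, ρ (tor s t) v ∈ Eig ρ L' := by
  subst h
  refine maps_rel ρ (tor s t) fun p' hp' => ?_
  obtain ⟨p, hp, rfl⟩ := List.mem_map.1 hp'
  exact ⟨p, hp, _, Units.ne_zero _, rfl, fun x => tor_rel _ _ _ x⟩

omit [FiniteDimensional ℂ V] in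
theorem smul_merge (a b : F) (v : V) : psi F a • psi F b • v = psi F (a + b) • v := by
  rw [smul_smul, psi_mul]

/-- The shift of the characters of E by B on the eigenspaces of Z. -/
theorem B_shift {ζ η : F} (b : F) {L : List (Fin 12 × F)}
    (hL : ∀ p ∈ L, cm p.1 6 = true) :
    ∀ v ∈ Eig ρ ((11, ζ) :: (10, η) :: L),
      ρ (R 6 b) v ∈ Eig ρ ((11, ζ) :: (10, η - ζ * b) :: L) := fun v hv => by
  have hc : cm (11 : Fin 12) 6 = true := by decide +kernel
  simp only [mem_Eig, List.forall_mem_cons] at hv ⊢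
  obtain ⟨hz, he, hl⟩ := hv
  refine ⟨fun x => ?_, fun x => ?_, fun p hp x => ?_⟩
  · rw [← rho_apply, (comm_of_cm hc x b).eq, rho_apply, hz, map_smul]
  · rw [← rho_apply, rel_EB, rho_apply, rho_apply, hz, map_smul, map_smul, he, map_smul,
      smul_merge]
    congr 2
    ring
  · rw [← rho_apply, (comm_of_cm (hL p hp) x b).eq, rho_apply, hl p hp, map_smul]

/-- The common dimension of the eigenspaces of Z and E. -/
noncomputable def N : ℕ := finrank ℂ (Eig ρ [(11, (1 : F)), (10, 0)])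

theorem piece_const {ζ : F} (hζ : ζ ≠ 0) (η η' : F) {L : List (Fin 12 × F)}
    (hL : ∀ p ∈ L, cm p.1 6 = true) :
    finrank ℂ (Eig ρ ((11, ζ) :: (10, η) :: L)) =
      finrank ℂ (Eig ρ ((11, ζ) :: (10, η') :: L)) := by
  refine dim_eq_of_maps ρ (g := R 6 (ζ⁻¹ * (η - η'))) (g' := R 6 (ζ⁻¹ * (η' - η)))
    (fun v hv => ?_) fun v hv => ?_
  · have h := B_shift ρ (ζ⁻¹ * (η - η')) hL v hv
    rwa [mul_inv_cancel_left₀ hζ, sub_sub_cancel] at h
  · have h := B_shift ρ (ζ⁻¹ * (η' - η)) hL v hv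
    rwa [mul_inv_cancel_left₀ hζ, sub_sub_cancel] at h

theorem dim_Z_scale {ζ : F} (hζ : ζ ≠ 0) :
    finrank ℂ (Eig ρ [(11, ζ), (10, 0)]) = N ρ := by
  refine (dim_tor ρ 1 (Units.mk0 ζ hζ) ?_)
  obtain ⟨-, -, -, -, -, -, h10, h11⟩ := wt_values (1 : Fˣ) (Units.mk0 ζ hζ)
  simp [h10, h11, hζ]

theorem piece_ZE {ζ : F} (hζ : ζ ≠ 0) (η : F) :
    finrank ℂ (Eig ρ [(11, ζ), (10, η)]) = N ρ :=
  (piece_const ρ hζ η 0 (L := []) (by simp)).trans (dim_Z_scale ρ hζ)

theorem dim_Z {ζ : F} (hζ : ζ ≠ 0) :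
    finrank ℂ (Eig ρ [(11, ζ)]) = Fintype.card F * N ρ := by
  rw [← split ρ 10 (L := [(11, ζ)]) fun t => stable_cm ρ (by simp; decide +kernel) t,
    Finset.sum_congr rfl fun η _ => (Eig_congr ρ (L' := [(11, ζ), (10, η)]) (by simp) (by simp)).trans
      (piece_ZE ρ hζ η), Finset.sum_const, Finset.card_univ, smul_eq_mul]

theorem dim_E {η : F} (hη : η ≠ 0) :
    finrank ℂ (Eig ρ [(10, η)]) = Fintype.card F * N ρ := by
  rw [dim_rel ρ (nB F) (L := [(10, η)]) (L' := [(11, η)]), dim_Z ρ hη] <;>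
  · simp only [List.forall_mem_singleton]
    exact ⟨_, List.mem_singleton_self _, 1, one_ne_zero, (div_one η).symm,
      fun x => by simpa using nB_rel (r := 10) (s := 11) (k := 1) (by simp) x⟩

omit [FiniteDimensional ℂ V] in
theorem sum_zero_split (f : F → ℕ) (a : ℕ) (h : ∀ i, i ≠ 0 → f i = a) :
    ∑ i, f i = f 0 + (Fintype.card F - 1) * a := by
  classical
  rw [← Finset.add_sum_erase _ _ (Finset.mem_univ (0 : F)),
    Finset.sum_congr rfl fun i hi => h i (Finset.ne_of_mem_erase hi)]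
  simp [Finset.card_erase_of_mem]

/-- The part fixed by Z. -/
theorem dim_Z0E {η : F} (hη : η ≠ 0) :
    finrank ℂ (Eig ρ [(11, 0), (10, η)]) = N ρ := by
  have h := split ρ 11 (L := [(10, η)]) fun t => stable_cm ρ (by simp; decide +kernel) t
  rw [sum_zero_split _ (N ρ) fun ζ hζ => piece_ZE ρ hζ η, dim_E ρ hη] at h
  obtain ⟨n, hn⟩ : ∃ n, Fintype.card F = n + 1 :=
    ⟨Fintype.card F - 1, by have := Fintype.card_pos (α := F); omega⟩
  rw [hn, Nat.add_sub_cancel, add_one_mul] at h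
  omega

/-- The degree in terms of the multiplicity. -/
theorem degree_eq : finrank ℂ V =
    (Fintype.card F ^ 2 - 1) * N ρ + finrank ℂ (Eig ρ [((11 : Fin 12), (0 : F)), (10, 0)]) := by
  have e1 : (⊤ : Submodule ℂ V) = Eig ρ ([] : List (Fin 12 × F)) := by ext; simp [mem_Eig]
  have h := split ρ 11 (L := ([] : List (Fin 12 × F))) fun t => stable_cm ρ (by simp) t
  rw [← e1, finrank_top, sum_zero_split _ _ fun ζ hζ => dim_Z ρ hζ,
    ← split ρ 10 (L := [((11 : Fin 12), (0 : F))]) fun t => stable_cm ρ (by simp; decide +kernel) t,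
    sum_zero_split _ (N ρ) fun η hη => (Eig_congr ρ (L' := [(11, 0), (10, η)]) (by simp)
      (by simp)).trans (dim_Z0E ρ hη),
    Eig_congr ρ (L := [((10 : Fin 12), (0 : F)), (11, 0)]) (L' := [(11, 0), (10, 0)]) (by simp)
      (by simp)] at h
  obtain ⟨n, hn⟩ : ∃ n, Fintype.card F = n + 1 :=
    ⟨Fintype.card F - 1, by have := Fintype.card_pos (α := F); omega⟩
  rw [← h, hn, Nat.add_sub_cancel, show (n + 1) ^ 2 - 1 = n * (n + 1) + n by
    rw [show (n + 1) ^ 2 = n * (n + 1) + n + 1 by ring, Nat.add_sub_cancel]]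
  ring

theorem N_pos (hinj : Function.Injective ρ) : 0 < N ρ := by
  refine Nat.pos_of_ne_zero fun h0 => ?_
  have h := split ρ 11 (L := ([] : List (Fin 12 × F))) fun t => stable_cm ρ (by simp) t
  rw [sum_zero_split _ 0 fun ζ hζ => by rw [dim_Z ρ hζ, h0, mul_zero], mul_zero, add_zero] at h
  refine one_ne_zero ((R_eq_one_iff (11 : Fin 12) (1 : F)).1 (hinj ((LinearMap.ext fun v => ?_).trans
    (map_one ρ).symm)))
  have hv : v ∈ Eig ρ [((11 : Fin 12), (0 : F))] := by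
    rw [Submodule.eq_of_le_of_finrank_eq (Eig_mono ρ (by simp)) h]
    simp [mem_Eig]
  rw [Eig.fixed ρ hv 11 (by simp)]
  rfl

end Cfsg.Agent.Lie.Chev.G2Deg
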