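import Cfsg.Agent.Lib.Grp.ExponentClosed
import Cfsg.Agent.Lib.Lie.Chev.CertsFull
import Cfsg.Agent.Lib.Lie.Chev.Bruhat
import Cfsg.Agent.Lib.Lie.Chev.Centralizer

/-! Exponents of groups generated by elements of prime order and of the unipotent group of `G₂`. -/

set_option autoImplicit false
set_option maxRecDepth 4000

namespace Cfsg.Agent.Lie.Chev

open Cfsg.Lie

namespace G2Exponent

/-- Class less than `p` and generators of order `p` give exponent `p`. -/
theorem pow_eq_one_of_class {G : Type*} [Group G] [Finite G] {p : ℕ} [Fact p.Prime]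
    (hG : IsPGroup p G) {S : Set G} (hS : Subgroup.closure S = ⊤) (hp : ∀ s ∈ S, s ^ p = 1)
    (hcl : (⊤ : Subgroup G).lowerCentralSeries (p - 1) = ⊥) (u : G) : u ^ p = 1 := by
  have hR := Cfsg.Agent.Grp.isRegularPGroup_of_class_lt hG hcl
  have h : ⊤ ≤ Cfsg.Agent.Transfer.Regular.omegaSub hR 1 := by
    rw [← hS, Subgroup.closure_le]
    intro s hs
    show s ^ p ^ 1 = 1
    rw [pow_one, hp s hs]
  have := h (Subgroup.mem_top u)
  change u ^ p ^ 1 = 1 at this
  rwa [pow_one] at this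

/-- Commutators of generators in a normal subgroup put all `p`-th powers there. -/
theorem pow_mem_of_comm {G : Type*} [Group G] {p : ℕ} {S : Set G} (hS : Subgroup.closure S = ⊤)
    {N : Subgroup G} [N.Normal] (hp : ∀ s ∈ S, s ^ p ∈ N)
    (hc : ∀ s ∈ S, ∀ t ∈ S, s * t * s⁻¹ * t⁻¹ ∈ N) (u : G) : u ^ p ∈ N := by
  set π := QuotientGroup.mk' N
  have hgen : Subgroup.closure (π '' S) = ⊤ := by
    rw [← MonoidHom.map_closure, hS, Subgroup.map_top_of_surjective _ (QuotientGroup.mk'_surjective N)]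
  have hcomm : ∀ a b : G ⧸ N, a * b = b * a := by
    have h1 : ⊤ ≤ Subgroup.centralizer (π '' S) := by
      rw [← hgen, Subgroup.closure_le]
      rintro _ ⟨s, hs, rfl⟩
      rw [SetLike.mem_coe, Subgroup.mem_centralizer_iff]
      rintro _ ⟨t, ht, rfl⟩
      have h := (QuotientGroup.eq_one_iff _).2 (hc t ht s hs)
      rw [← QuotientGroup.mk'_apply, map_mul, map_mul, map_mul, map_inv, map_inv,
        mul_inv_eq_one, mul_inv_eq_iff_eq_mul] at h
      exact h
    intro a b
    have h2 : ⊤ ≤ Subgroup.centralizer ({a} : Set (G ⧸ N)) := by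
      rw [← hgen, Subgroup.closure_le]
      intro t ht
      rw [SetLike.mem_coe, Subgroup.mem_centralizer_singleton_iff]
      exact Subgroup.mem_centralizer_iff.1 (h1 (Subgroup.mem_top a)) t ht
    exact (Subgroup.mem_centralizer_singleton_iff.1 (h2 (Subgroup.mem_top b))).symm
  let O : Subgroup G :=
    { carrier := {x | x ^ p ∈ N}
      one_mem' := by simp [one_mem]
      mul_mem' := fun {x y} hx hy => by
        show (x * y) ^ p ∈ N
        rw [← QuotientGroup.eq_one_iff, ← QuotientGroup.mk'_apply, map_pow, map_mul,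
          Commute.mul_pow (hcomm (π x) (π y)), ← map_pow, ← map_pow]
        have ex := (QuotientGroup.eq_one_iff (x ^ p)).2 hx
        have ey := (QuotientGroup.eq_one_iff (y ^ p)).2 hy
        rw [QuotientGroup.mk'_apply, QuotientGroup.mk'_apply, ex, ey, one_mul]
      inv_mem' := fun {x} hx => by
        show x⁻¹ ^ p ∈ N
        rw [inv_pow]
        exact inv_mem hx }
  have hO : ⊤ ≤ O := hS ▸ (Subgroup.closure_le _).2 hp
  exact hO (Subgroup.mem_top u)

/-- The same inside an ambient group. -/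
theorem pow_mem_of_comm' {G : Type*} [Group G] {p : ℕ} {S : Set G} {N : Subgroup G}
    (hnorm : Subgroup.closure S ≤ Subgroup.normalizer (N : Set G))
    (hp : ∀ s ∈ S, s ^ p ∈ N) (hc : ∀ s ∈ S, ∀ t ∈ S, s * t * s⁻¹ * t⁻¹ ∈ N)
    {u : G} (hu : u ∈ Subgroup.closure S) : u ^ p ∈ N := by
  set H := Subgroup.closure S with hH
  haveI : (N.subgroupOf H).Normal := ⟨fun n hn h => by
    rw [Subgroup.mem_subgroupOf] at hn ⊢
    exact (Subgroup.mem_normalizer_iff.1 (hnorm h.2) n).1 hn⟩
  have hS : Subgroup.closure ((↑) ⁻¹' S : Set ↥H) = ⊤ := Subgroup.closure_closure_coe_preimage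
  exact pow_mem_of_comm hS (N := N.subgroupOf H) (fun s hs => hp _ hs)
    (fun s hs t ht => hc _ hs _ ht) ⟨u, hu⟩

end G2Exponent

namespace G2Tor

variable {F : Type*} [Field F]

theorem pos_iff {r : ℕ} : certFullG2.Pos r ↔ 6 ≤ r ∧ r < 12 := by
  show certFullG2.T.h ≤ r ∧ r < chevG2.nroots ↔ _
  rw [show certFullG2.T.h = 6 from by decide +kernel, show chevG2.nroots = 12 from by decide +kernel]

theorem h_eq : certFullG2.T.h = 6 := by decide +kernel

theorem comm_facts : ∀ r ∈ List.range' 6 6, ∀ s ∈ List.range' 6 6, s ≠ r →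
    (∀ x ∈ certFullG2.T.commTerms r s, 8 ≤ x.1 ∧ x.1 < 12 ∧ (8 ≤ s → 9 ≤ x.1)) ∧
      (9 ≤ r → 9 ≤ s → certFullG2.T.commTerms r s = []) := by decide +kernel

theorem xg_pow {p : ℕ} [CharP F p] {r : ℕ} (hr : r < chevG2.nroots) (t : F) :
    certFullG2.xg r t ^ p = 1 := by
  have h : ∀ n : ℕ, certFullG2.xg r t ^ n = certFullG2.xg r ((n : F) * t) := by
    intro n
    induction n with
    | zero => rw [pow_zero, Nat.cast_zero, zero_mul, certFullG2.xg_zero]
    | succ n ih => rw [pow_succ, ih, ← certFullG2.xg_add, Nat.cast_succ, add_mul, one_mul]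
  rw [h, CharP.cast_eq_zero, zero_mul, certFullG2.xg_zero]

/-- The commutator of two generators. -/
theorem comm_mem {r s : ℕ} (hr : certFullG2.Pos r) (hs : certFullG2.Pos s) (t u : F) {m : ℕ}
    (hm : ∀ x ∈ certFullG2.T.commTerms r s, m ≤ x.1) :
    certFullG2.xg s u * certFullG2.xg r t * (certFullG2.xg s u)⁻¹ * (certFullG2.xg r t)⁻¹ ∈
      certFullG2.K F m := by
  by_cases hne : s = r
  · subst hne
    rw [← certFullG2.xg_add, add_comm, certFullG2.xg_add, mul_inv_cancel_right, mul_inv_cancel]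
    exact one_mem _
  have hneg : s ≠ chevG2.neg r := fun e => ((certFullG2.not_pos_iff hr.2).2 (e ▸ hs)) hr
  rw [certFullG2.xg_comm hr.2 hs.2 hne hneg t u]
  set k := ((certFullG2.T.commTerms r s).map fun x =>
        certFullG2.xg x.1 ((x.2.1 : F) * (-t) ^ x.2.2.1 * u ^ x.2.2.2)).prod
  have hk : k ∈ certFullG2.K F m := by
    refine Subgroup.list_prod_mem _ fun g hg => ?_
    obtain ⟨x, hx, rfl⟩ := List.mem_map.1 hg
    exact certFullG2.xg_mem_K (certFullG2.commTerms_gt hr hs hx).1 (hm x hx) _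
  have h1 : certFullG2.xg r t * certFullG2.xg s u ∈ certFullG2.K F certFullG2.T.h :=
    mul_mem (certFullG2.xg_mem_K hr hr.1 t) (certFullG2.xg_mem_K hs hs.1 u)
  have h2 := (Subgroup.mem_normalizer_iff.1 (certFullG2.K_le_normalizer m certFullG2.T.h h1) k).1 hk
  simpa [mul_assoc] using h2

theorem K_normal (m : ℕ) : Subgroup.closure {g : GL chevG2.Idx F |
      ∃ r t, certFullG2.Pos r ∧ 6 ≤ r ∧ g = certFullG2.xg r t} ≤
    Subgroup.normalizer (certFullG2.K F m : Set (GL chevG2.Idx F)) :=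
  certFullG2.K_le_normalizer m 6

theorem K_step {p : ℕ} [CharP F p] {m m' : ℕ}
    (hcomm : ∀ r, certFullG2.Pos r → m ≤ r → ∀ s, certFullG2.Pos s → m ≤ s → s ≠ r →
      ∀ x ∈ certFullG2.T.commTerms r s, m' ≤ x.1)
    {u : GL chevG2.Idx F} (hu : u ∈ certFullG2.K F m) : u ^ p ∈ certFullG2.K F m' := by
  refine G2Exponent.pow_mem_of_comm' (certFullG2.K_le_normalizer m' m) ?_ ?_ hu
  · rintro _ ⟨r, t, hr, -, rfl⟩
    rw [xg_pow hr.2]
    exact one_mem _
  · rintro _ ⟨s, u, hs, hms, rfl⟩ _ ⟨r, t, hr, hmr, rfl⟩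
    by_cases hne : s = r
    · subst hne
      rw [← certFullG2.xg_add, add_comm, certFullG2.xg_add, mul_inv_cancel_right, mul_inv_cancel]
      exact one_mem _
    exact comm_mem hr hs t u (hcomm r hr hmr s hs hms hne)

theorem K_nine {p : ℕ} [CharP F p] {u : GL chevG2.Idx F} (hu : u ∈ certFullG2.K F 9) :
    u ^ p = 1 := by
  have h := K_step (p := p) (m := 9) (m' := 12) (fun r hr h9 s hs h9' hne x hx => ?_) hu
  · rwa [certFullG2.K_eq_bot (le_of_eq (by decide +kernel)), Subgroup.mem_bot] at h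
  · rw [pos_iff] at hr hs
    rw [(comm_facts r (List.mem_range'_1.2 (by omega)) s (List.mem_range'_1.2 (by omega)) hne).2
      h9 h9'] at hx
    simp at hx

theorem comm_bound {r s : ℕ} (hr : certFullG2.Pos r) (hs : certFullG2.Pos s) (hne : s ≠ r)
    {x : ℕ × ℤ × ℕ × ℕ} (hx : x ∈ certFullG2.T.commTerms r s) :
    8 ≤ x.1 ∧ (8 ≤ s → 9 ≤ x.1) := by
  rw [pos_iff] at hr hs
  have h := (comm_facts r (List.mem_range'_1.2 (by omega)) s (List.mem_range'_1.2 (by omega)) hne).1
    x hx
  exact ⟨h.1, h.2.2⟩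

/-- Unipotent elements of `G₂` in characteristic two have order dividing eight. -/
theorem U_pow_eight [CharP F 2] {u : GL chevG2.Idx F} (hu : u ∈ chevG2.posUnipotent F) :
    u ^ 8 = 1 := by
  rw [certFullG2.posUnipotent_eq] at hu
  have h1 := K_step (p := 2) (m' := 8) (fun r hr _ s hs _ hne x hx =>
    (comm_bound hr hs hne hx).1) hu
  have h2 := K_step (p := 2) (m' := 9) (fun r hr _ s hs h8 hne x hx =>
    (comm_bound hr hs hne hx).2 h8) h1
  have h3 := K_nine (p := 2) h2
  rw [← pow_mul, ← pow_mul] at h3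
  exact h3

/-- The descent of the lower central series. -/
theorem lcs_le {n : ℕ} (hn : 1 ≤ n) :
    (⊤ : Subgroup ↥(chevG2.posUnipotent F)).lowerCentralSeries n ≤
      (certFullG2.K F (7 + n)).subgroupOf (chevG2.posUnipotent F) := by
  have hU : ∀ g ∈ chevG2.posUnipotent F, ∀ m, g ∈ Subgroup.normalizer
      (certFullG2.K F m : Set (GL chevG2.Idx F)) := fun g hg m => by
    rw [certFullG2.posUnipotent_eq] at hg
    exact certFullG2.K_le_normalizer m _ hg
  haveI : ∀ m, ((certFullG2.K F m).subgroupOf (chevG2.posUnipotent F)).Normal := fun m =>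
    ⟨fun k hk g => by
      rw [Subgroup.mem_subgroupOf] at hk ⊢
      exact (Subgroup.mem_normalizer_iff.1 (hU g g.2 m) k).1 hk⟩
  have step : ∀ (m m' : ℕ), (∀ r, certFullG2.Pos r → ∀ s, certFullG2.Pos s → m ≤ s → s ≠ r →
      ∀ x ∈ certFullG2.T.commTerms r s, m' ≤ x.1) →
      ⁅(certFullG2.K F m).subgroupOf (chevG2.posUnipotent F),
        (⊤ : Subgroup ↥(chevG2.posUnipotent F))⁆ ≤
        (certFullG2.K F m').subgroupOf (chevG2.posUnipotent F) := by
    intro m m' hm
    rw [Subgroup.commutator_le]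
    rintro ⟨k, hkU⟩ hk ⟨g, hg⟩ -
    rw [Subgroup.mem_subgroupOf] at hk ⊢
    show k * g * k⁻¹ * g⁻¹ ∈ certFullG2.K F m'
    replace hk : k ∈ certFullG2.K F m := hk
    clear hkU
    rw [certFullG2.posUnipotent_eq] at hg
    -- commutators of generators
    have hgen : ∀ s, certFullG2.Pos s → m ≤ s → ∀ u : F, ∀ r, certFullG2.Pos r → ∀ t : F,
        certFullG2.xg s u * certFullG2.xg r t * (certFullG2.xg s u)⁻¹ *
          (certFullG2.xg r t)⁻¹ ∈ certFullG2.K F m' := by
      intro s hs hms u r hr t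
      by_cases hne : s = r
      · subst hne
        rw [← certFullG2.xg_add, add_comm, certFullG2.xg_add, mul_inv_cancel_right, mul_inv_cancel]
        exact one_mem _
      exact comm_mem hr hs t u (hm r hr s hs hms hne)
    have hn' : ∀ {a b : GL chevG2.Idx F}, a ∈ certFullG2.K F certFullG2.T.h →
        b ∈ certFullG2.K F m' → a * b * a⁻¹ ∈ certFullG2.K F m' := fun {a b} ha hb =>
      (Subgroup.mem_normalizer_iff.1 (certFullG2.K_le_normalizer m' _ ha) b).1 hb
    have hK : ∀ {a : GL chevG2.Idx F}, a ∈ certFullG2.K F m → a ∈ certFullG2.K F certFullG2.T.h :=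
      fun {a} ha => by
        refine (Subgroup.closure_le _).2 ?_ ha
        rintro _ ⟨r, t, hr, -, rfl⟩
        exact certFullG2.xg_mem_K hr hr.1 t
    induction hk using Subgroup.closure_induction with
    | mem k hk =>
      obtain ⟨s, u, hs, hms, rfl⟩ := hk
      induction hg using Subgroup.closure_induction with
      | mem g hg =>
        obtain ⟨r, t, hr, -, rfl⟩ := hg
        exact hgen s hs hms u r hr t
      | one => simp [one_mem]
      | mul a b ha _ iha ihb =>
        have e : certFullG2.xg s u * (a * b) * (certFullG2.xg s u)⁻¹ * (a * b)⁻¹ =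
            (certFullG2.xg s u * a * (certFullG2.xg s u)⁻¹ * a⁻¹) *
              (a * (certFullG2.xg s u * b * (certFullG2.xg s u)⁻¹ * b⁻¹) * a⁻¹) := by group
        rw [e]; exact mul_mem iha (hn' ha ihb)
      | inv a ha iha =>
        have e : certFullG2.xg s u * a⁻¹ * (certFullG2.xg s u)⁻¹ * a⁻¹⁻¹ =
            a⁻¹ * (certFullG2.xg s u * a * (certFullG2.xg s u)⁻¹ * a⁻¹)⁻¹ * a⁻¹⁻¹ := by group
        rw [e]; exact hn' (inv_mem ha) (inv_mem iha)
    | one => simp [one_mem]
    | mul a b ha hb iha ihb =>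
      have e : a * b * g * (a * b)⁻¹ * g⁻¹ =
          a * (b * g * b⁻¹ * g⁻¹) * a⁻¹ * (a * g * a⁻¹ * g⁻¹) := by group
      rw [e]
      exact mul_mem (hn' (hK ha) ihb) iha
    | inv a ha iha =>
      have e : a⁻¹ * g * a⁻¹⁻¹ * g⁻¹ = a⁻¹ * (a * g * a⁻¹ * g⁻¹)⁻¹ * a⁻¹⁻¹ := by group
      rw [e]
      exact hn' (inv_mem (hK ha)) (inv_mem iha)
  obtain ⟨k, rfl⟩ : ∃ k, n = k + 1 := ⟨n - 1, by omega⟩
  clear hn
  induction k with
  | zero =>
    rw [Subgroup.lowerCentralSeries_succ, Subgroup.lowerCentralSeries_zero]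
    refine le_trans (le_of_eq ?_)
      (step 6 8 fun r hr s hs _ hne x hx => (comm_bound hr hs hne hx).1)
    rw [← h_eq, ← certFullG2.posUnipotent_eq, Subgroup.subgroupOf_self]
  | succ k ih =>
    rw [Subgroup.lowerCentralSeries_succ]
    refine le_trans (Subgroup.commutator_mono ih le_rfl)
      (step _ (7 + (k + 1 + 1)) fun r hr s hs hms hne x hx => ?_)
    rcases Nat.eq_zero_or_pos k with rfl | hk
    · exact (comm_bound hr hs hne hx).2 hms
    · have := (certFullG2.commTerms_gt hr hs hx).2.2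
      omega

/-- Unipotent elements of `G₂` in characteristic at least seven have order dividing `p`. -/
theorem U_pow_prime [Fintype F] {p : ℕ} [Fact p.Prime] [CharP F p] (hp : 7 ≤ p)
    {u : GL chevG2.Idx F} (hu : u ∈ chevG2.posUnipotent F) : u ^ p = 1 := by
  have hcl : (⊤ : Subgroup ↥(chevG2.posUnipotent F)).lowerCentralSeries (p - 1) = ⊥ := by
    refine eq_bot_iff.2 ((lcs_le (by omega)).trans ?_)
    rw [certFullG2.K_eq_bot (by rw [show chevG2.nroots = 12 from by decide +kernel]; omega),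
      Subgroup.bot_subgroupOf]
  have := G2Exponent.pow_eq_one_of_class certFullG2.isPGroup_U
    (S := (fun x : ↥(chevG2.posUnipotent F) => (x : GL chevG2.Idx F)) ⁻¹'
      {g | ∃ r t, certFullG2.Pos r ∧ certFullG2.T.h ≤ r ∧ g = certFullG2.xg r t})
    (by
      have e := certFullG2.posUnipotent_eq (F := F)
      refine Subgroup.map_injective (chevG2.posUnipotent F).subtype_injective ?_
      rw [MonoidHom.map_closure, ← MonoidHom.range_eq_map, Subgroup.range_subtype]
      conv_rhs => rw [e]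
      refine congrArg Subgroup.closure (Set.Subset.antisymm ?_ ?_)
      · rintro _ ⟨x, hx, rfl⟩; exact hx
      · rintro g ⟨r, t, hr, hm, rfl⟩
        exact ⟨⟨_, certFullG2.xg_mem_U hr t⟩, ⟨r, t, hr, hm, rfl⟩, rfl⟩)
    (fun s ⟨r, t, hr, _, e⟩ => Subtype.ext (by
      rw [Subgroup.coe_pow]; simp only at e; rw [e]; rw [xg_pow hr.2]; rfl)) hcl ⟨u, hu⟩
  exact congrArg Subtype.val this

/-- Unipotent elements of `G₂` in odd characteristic have order dividing `p ^ 2`. -/
theorem U_pow_sq [Fintype F] {p : ℕ} [Fact p.Prime] [CharP F p] (hp : p ≠ 2)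
    {u : GL chevG2.Idx F} (hu : u ∈ chevG2.posUnipotent F) : u ^ p ^ 2 = 1 := by
  have hp3 : 3 ≤ p := by
    have := (Fact.out : p.Prime).two_le
    omega
  set U := chevG2.posUnipotent F
  haveI : ((certFullG2.K F 9).subgroupOf U).Normal := ⟨fun k hk g => by
    rw [Subgroup.mem_subgroupOf] at hk ⊢
    have hg : (g : GL chevG2.Idx F) ∈ certFullG2.K F certFullG2.T.h := by
      rw [← certFullG2.posUnipotent_eq]; exact g.2
    exact (Subgroup.mem_normalizer_iff.1 (certFullG2.K_le_normalizer 9 _ hg) k).1 hk⟩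
  set π := QuotientGroup.mk' ((certFullG2.K F 9).subgroupOf U)
  have hcl : (⊤ : Subgroup (↥U ⧸ (certFullG2.K F 9).subgroupOf U)).lowerCentralSeries (p - 1) = ⊥ := by
    have h2 : (⊤ : Subgroup ↥U).lowerCentralSeries (p - 1) ≤ π.ker := by
      rw [QuotientGroup.ker_mk']
      refine (lcs_le (by omega)).trans (Subgroup.comap_mono ?_)
      exact certFullG2.K_le (by omega)
    rw [← Subgroup.map_top_of_surjective π (QuotientGroup.mk'_surjective _),
      ← Subgroup.map_lowerCentralSeries, Subgroup.map_eq_bot_iff]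
    exact h2
  have h1 : (⟨u, hu⟩ : ↥U) ^ p ∈ (certFullG2.K F 9).subgroupOf U := by
    rw [← QuotientGroup.eq_one_iff, ← QuotientGroup.mk'_apply, map_pow]
    refine G2Exponent.pow_eq_one_of_class (certFullG2.isPGroup_U.to_quotient _)
      (S := π '' ((fun x : ↥U => (x : GL chevG2.Idx F)) ⁻¹' {g | ∃ r t, certFullG2.Pos r ∧ certFullG2.T.h ≤ r ∧
        g = certFullG2.xg r t})) ?_ ?_ hcl _
    · rw [← MonoidHom.map_closure, ← Subgroup.map_top_of_surjective π
        (QuotientGroup.mk'_surjective _)]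
      congr 1
      have e := certFullG2.posUnipotent_eq (F := F)
      refine Subgroup.map_injective U.subtype_injective ?_
      rw [MonoidHom.map_closure, ← MonoidHom.range_eq_map, Subgroup.range_subtype]
      conv_rhs => rw [show U = chevG2.posUnipotent F from rfl, e]
      refine congrArg Subgroup.closure (Set.Subset.antisymm ?_ ?_)
      · rintro _ ⟨x, hx, rfl⟩; exact hx
      · rintro g ⟨r, t, hr, hm, rfl⟩
        exact ⟨⟨_, certFullG2.xg_mem_U hr t⟩, ⟨r, t, hr, hm, rfl⟩, rfl⟩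
    · rintro _ ⟨x, ⟨r, t, hr, -, e⟩, rfl⟩
      rw [← map_pow, show x ^ p = 1 from Subtype.ext (by
        rw [Subgroup.coe_pow]; simp only at e; rw [e]; rw [xg_pow hr.2]; rfl), map_one]
  have h3 := K_nine (p := p) (Subgroup.mem_subgroupOf.1 h1)
  rw [Subgroup.coe_pow, ← pow_mul, ← pow_two] at h3
  exact h3

end G2Tor

end Cfsg.Agent.Lie.Chev
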