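import Cfsg.Agent.Lib.Lie.Chev.G2MinDegreeHecke
import Cfsg.Agent.Lib.Lie.Chev.G2UnipotentExponent
import Cfsg.Agent.Lib.Char.Complete

/-! No representation of degree q³ with a fixed vector of the long-root radical. -/

set_option autoImplicit false
set_option linter.unusedSectionVars false
set_option maxRecDepth 20000

namespace Cfsg.Agent.Lie.Chev.G2Deg

open Module
open Cfsg.Lie (chevG2)
open scoped ComplexConjugate

variable {F : Type*} [Field F] [Fintype F] {V : Type*} [AddCommGroup V] [Module ℂ V]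
  [FiniteDimensional ℂ V] {ρ : Gam F →* End ℂ V} (q₀ : QVec ρ)

/-- The element of the group attached to a word in the two nodes. -/
noncomputable def nwG (F : Type*) [Field F] : List ℕ → Gam F
  | [] => 1
  | p :: L => (if p = 0 then nA F else nB F) * nwG F L

theorem nwG_val : ∀ L : List ℕ, (∀ p ∈ L, p < 2) →
    ((nwG F L : Gam F) : GL chevG2.Idx F) = certFullG2.nw F L
  | [], _ => rfl
  | p :: L, h => by
    have hp : p = 0 ∨ p = 1 := by have := h p List.mem_cons_self; omega
    rw [nwG, Subgroup.coe_mul, nwG_val L fun x hx => h x (List.mem_cons_of_mem _ hx)]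
    rcases hp with rfl | rfl <;> simp [nA, nB, Cert.nw]

/-- Each step by the long node raises the length. -/
def okW : List ℕ → Bool
  | [] => true
  | p :: L => (p == 0 || rootsU.any fun r => certFullG2.T.wlT L r == 6) && okW L

theorem words_ok : ∀ L ∈ G2Tor.words, okW L = true ∧
    ((List.range' 6 6).filter fun r => certFullG2.T.wlT L r < 6).length ≤ 2 * L.count 1 + 1 := by
  decide +kernel

theorem invN_eq (L : List ℕ) (hL : ∀ p ∈ L, p < 2) : certFullG2.invN L =
    ((List.range' 6 6).filter fun r => certFullG2.T.wlT L r < 6).length := by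
  classical
  rw [← List.toFinset_card_of_nodup ((List.nodup_range' (step := 1) (by omega)).filter _),
    CertFull.invN, ← Nat.card_eq_finsetCard]
  refine Nat.card_congr (Equiv.setCongr ?_)
  ext r
  simp only [Set.mem_setOf_eq, Finset.mem_coe, List.mem_toFinset, List.mem_filter,
    List.mem_range'_1, decide_eq_true_eq, certFullG2.wlT_eq]
  constructor
  · rintro ⟨h1, h2⟩
    have h1' := G2Tor.pos_iff.1 h1
    refine ⟨by omega, ?_⟩
    by_contra h
    refine h2 (G2Tor.pos_iff.2 ⟨by omega, ?_⟩)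
    exact certFullG2.wl_lt hL h1.2
  · rintro ⟨h1, h2⟩
    exact ⟨G2Tor.pos_iff.2 (by omega), fun h => absurd (G2Tor.pos_iff.1 h).1 (by omega)⟩

theorem mc_nB_bound (hfix : ¬ ∀ g : Gam F, ρ g q₀.v = q₀.v) :
    Complex.normSq (mc q₀ (nB F)) * (Fintype.card F : ℝ) ^ 2 ≤ 1 := by
  rcases mc_nB_cases q₀ with h | h | h
  · rw [h]; simp
  · exact absurd (fixed_all q₀ h) hfix
  · have e := congrArg Complex.normSq h
    rw [Complex.normSq_mul, Complex.normSq_natCast, Complex.normSq_neg, Complex.normSq_one] at e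
    rw [sq, mul_comm, e]

theorem mc_word_bound (hfix : ¬ ∀ g : Gam F, ρ g q₀.v = q₀.v) :
    ∀ L : List ℕ, (∀ p ∈ L, p < 2) → okW L = true →
      Complex.normSq (mc q₀ (nwG F L)) * (Fintype.card F : ℝ) ^ (2 * L.count 1) ≤ 1
  | [], _, _ => by
    simp [nwG, mc, cf_v]
  | p :: L, hL, hok => by
    have hL' : ∀ x ∈ L, x < 2 := fun x hx => hL x (List.mem_cons_of_mem _ hx)
    simp only [okW, Bool.and_eq_true, Bool.or_eq_true, beq_iff_eq, List.any_eq_true] at hok
    have ih := mc_word_bound hfix L hL' hok.2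
    have hp : p = 0 ∨ p = 1 := by have := hL p List.mem_cons_self; omega
    rcases hp with rfl | rfl
    · rw [nwG, if_pos rfl, mc, rho_apply, cf_nA]
      simpa [mc] using ih
    · obtain ⟨r, hr, hr6⟩ := hok.1.resolve_left (by omega)
      have hfix6 : ∀ t : F, ρ (R 6 t) (ρ (nwG F L) q₀.v) = ρ (nwG F L) q₀.v := fun t => by
        have hw : (certFullG2.wsign L r : F) ≠ 0 := certFullG2.wsign_ne_zero (F := F) L r
        have hrel : nwG F L * R r ((certFullG2.wsign L r : F)⁻¹ * t) = R 6 t * nwG F L := by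
          refine Subtype.ext ?_
          rw [Subgroup.coe_mul, Subgroup.coe_mul, nwG_val L hL', R_val, R_val,
            certFullG2.nw_mul_xg hL' (show (r : ℕ) < chevG2.nroots from r.2),
            ← certFullG2.wlT_eq, hr6, mul_inv_cancel_left₀ hw]
          rfl
        rw [← rho_apply, ← hrel, rho_apply, U_fix q₀ (R_mem_rad hr _)]
      rw [nwG, if_neg one_ne_zero, mc, rho_apply, cf_nB q₀ hfix6, Complex.normSq_mul,
        List.count_cons_self, mul_add, pow_add, mul_one]
      have h2 := mc_nB_bound q₀ hfix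
      have := mul_le_mul ih h2 (mul_nonneg (Complex.normSq_nonneg _) (sq_nonneg _)) zero_le_one
      rw [mul_one] at this
      refine le_trans (le_of_eq ?_) this
      unfold mc; ring

theorem diag_cases {a : GL chevG2.Idx F} (ha : a ∈ chevG2.diagonalSubgroup F) :
    ∃ s t : Fˣ, (tor s t : GL chevG2.Idx F) = a := by
  rw [certFullG2.diagonalSubgroup_eq] at ha
  obtain ⟨z, rfl⟩ := ha
  refine ⟨z 0, z 1, ?_⟩
  show certFullG2.torus (fun i => if i = 0 then z 0 else z 1) = certFullG2.torus z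
  rw [Cert.torus_apply, Cert.torus_apply]
  refine dg_ext _ _ fun u _ => ?_
  simp [Cert.tchar, show chevG2.rank = 2 from rfl, Finset.prod_range_succ]

theorem mem_radU {u : GL chevG2.Idx F} (hu : u ∈ chevG2.posUnipotent F) :
    ∃ g ∈ rad (F := F) rootsU, (g : GL chevG2.Idx F) = u := by
  have hmap : (rad (F := F) rootsU).map (chevG2.group F).subtype = chevG2.posUnipotent F := by
    rw [certFullG2.posUnipotent_eq, rad, MonoidHom.map_closure, Cert.K, G2Tor.h_eq]
    congr 1
    ext g
    simp only [Set.mem_image, Set.mem_setOf_eq]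
    constructor
    · rintro ⟨_, ⟨r, hr, t, rfl⟩, rfl⟩
      have h6 : 6 ≤ (r : ℕ) := by
        simp only [rootsU, List.mem_cons, List.not_mem_nil, or_false] at hr
        rcases hr with rfl | rfl | rfl | rfl | rfl | rfl <;> decide
      exact ⟨r, t, G2Tor.pos_iff.2 ⟨h6, r.2⟩, h6, rfl⟩
    · rintro ⟨r, t, hr, h6, rfl⟩
      have h12 := (G2Tor.pos_iff.1 hr).2
      refine ⟨R ⟨r, h12⟩ t, ⟨⟨r, h12⟩, ?_, t, rfl⟩, rfl⟩
      interval_cases r <;> simp [rootsU]
  rw [← hmap] at hu
  obtain ⟨g, hg, rfl⟩ := hu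
  exact ⟨g, hg, rfl⟩

theorem cell_form {g : GL chevG2.Idx F} (hg : g ∈ chevG2.group F) :
    ∃ i : Fin G2Tor.words.length, ∃ b ∈ chevG2.borelSubgroup F,
      ∃ u ∈ certFullG2.KS F (certFullG2.invSet G2Tor.words[i]) certFullG2.T.h,
        g = b * certFullG2.nw F G2Tor.words[i] * u := by
  obtain ⟨b, hb, a, ha, L, hL, u, hu, e⟩ := certFullG2.bruhat_exists hg
  obtain ⟨-, hex, -, -⟩ := certFullG2.chain_spec chainG2 chainG2_ok (le_of_eq chainG2_len)
  obtain ⟨v, hv, hs⟩ := hex L (fun p hp => by rw [chainG2_len]; exact hL p hp)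
  rw [G2Tor.chain_eq] at hv
  obtain ⟨i, hi, rfl⟩ := List.getElem_of_mem hv
  set M := G2Tor.words[i]
  have hM : ∀ p ∈ M, p < chevG2.rank := G2Tor.words_lt M (List.getElem_mem hi)
  have hrev : ∀ p ∈ M.reverse, p < chevG2.rank := fun p hp => hM p (List.mem_reverse.1 hp)
  have hk : certFullG2.nw F L * (certFullG2.nw F M)⁻¹ ∈ chevG2.diagonalSubgroup F := by
    obtain ⟨a', ha', N, hN, hn⟩ := certFullG2.mem_monomial_iff.1
      (mul_mem (certFullG2.nw_mem_N (F := F) hL) (inv_mem (certFullG2.nw_mem_N hM)))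
    rw [hn]
    refine certFullG2.mem_H_of_wl ha' hN fun q hq => ?_
    have hα := certFullG2.simple_lt hq
    have hy := certFullG2.wl_lt hrev hα
    have h := congrArg (· * certFullG2.nw F M) hn
    simp only [mul_assoc, inv_mul_cancel, mul_one, ← certFullG2.nw_append] at h
    have h' := certFullG2.wl_eq_of_eq (one_mem _) ha' hL
      (fun p hp => (List.mem_append.1 hp).elim (hN p) (hM p)) (by rw [one_mul]; exact h) hy
    rw [certFullG2.wl_eq_of_same hL hM hs hy, certFullG2.wl_append,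
      certFullG2.wl_reverse hM hα] at h'
    rw [← h']
    exact certFullG2.pos_simple hq
  have hinv : certFullG2.invSet L = certFullG2.invSet M := Set.ext fun r =>
    and_congr_right fun hr => by rw [certFullG2.wl_eq_of_same hL hM hs hr.2]
  refine ⟨⟨i, hi⟩, b * (a * (certFullG2.nw F L * (certFullG2.nw F M)⁻¹)),
    mul_mem hb (certFullG2.H_le_B (mul_mem ha hk)), u, ?_, ?_⟩
  · show u ∈ certFullG2.KS F (certFullG2.invSet M) certFullG2.T.h
    rwa [← hinv]
  · show g = b * (a * (certFullG2.nw F L * (certFullG2.nw F M)⁻¹)) * certFullG2.nw F M * u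
    rw [e]; group

theorem mc_sum_le (hfix : ¬ ∀ g : Gam F, ρ g q₀.v = q₀.v) :
    ∑ g : Gam F, Complex.normSq (mc q₀ g) ≤
      12 * (Fintype.card F : ℝ) * Nat.card (chevG2.borelSubgroup F) := by
  classical
  set E := G2Tor.words
  have hE : ∀ i : Fin E.length, ∀ p ∈ E[i], p < 2 := fun i => G2Tor.words_lt _ (List.getElem_mem i.2)
  let T := fun i : Fin E.length =>
    chevG2.borelSubgroup F × certFullG2.KS F (certFullG2.invSet E[i]) certFullG2.T.h
  haveI : ∀ i, Fintype (T i) := fun i => Fintype.ofFinite _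
  let φ : (Σ i, T i) → Gam F := fun x =>
    ⟨x.2.1.1 * certFullG2.nw F E[x.1] * x.2.2.1,
      mul_mem (mul_mem (certFullG2.B_le_group x.2.1.2)
        (certFullG2.N_le_group (certFullG2.nw_mem_N (hE x.1))))
        (certFullG2.B_le_group (Subgroup.mem_sup_left
          (certFullG2.KS_invSet_le_U (hE x.1) x.2.2.2)))⟩
  have hsurj : Function.Surjective φ := fun g => by
    obtain ⟨i, b, hb, u, hu, e⟩ := cell_form g.2
    exact ⟨⟨i, ⟨b, hb⟩, ⟨u, hu⟩⟩, Subtype.ext e.symm⟩
  have hval : ∀ x : Σ i, T i,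
      Complex.normSq (mc q₀ (φ x)) = Complex.normSq (mc q₀ (nwG F E[x.1])) := by
    rintro ⟨i, ⟨b, hb⟩, ⟨u, hu⟩⟩
    obtain ⟨u0, hu0, a, ha, rfl⟩ := certFullG2.mem_borel_iff.1 hb
    obtain ⟨s, t, rfl⟩ := diag_cases ha
    obtain ⟨g0, hg0, rfl⟩ := mem_radU hu0
    obtain ⟨g1, hg1, rfl⟩ := mem_radU (certFullG2.KS_invSet_le_U (hE i) hu)
    have e : φ ⟨i, ⟨_, hb⟩, ⟨_, hu⟩⟩ = g0 * (tor s t * (nwG F E[i] * g1)) := Subtype.ext (by
      simp only [φ, Subgroup.coe_mul, nwG_val _ (hE i), mul_assoc])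
    rw [e, mc, mc, rho_apply, rho_apply, rho_apply, cf_U q₀ hg0, U_fix q₀ hg1, cf_tor,
      Complex.normSq_mul, chi_norm, one_mul]
  calc ∑ g : Gam F, Complex.normSq (mc q₀ g)
      ≤ ∑ x : Σ i, T i, Complex.normSq (mc q₀ (φ x)) := by
        rw [← Finset.image_univ_of_surjective hsurj]
        exact Finset.sum_image_le_of_nonneg fun _ _ => Complex.normSq_nonneg _
    _ = ∑ i, (Nat.card (T i) : ℝ) * Complex.normSq (mc q₀ (nwG F E[i])) := by
        rw [Fintype.sum_sigma]
        refine Finset.sum_congr rfl fun i _ => ?_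
        refine (Finset.sum_congr rfl fun y _ => hval ⟨i, y⟩).trans ?_
        show ∑ _y : T i, Complex.normSq (mc q₀ (nwG F E[i])) = _
        rw [Finset.sum_const, Finset.card_univ, nsmul_eq_mul, Nat.card_eq_fintype_card]
    _ ≤ ∑ _i : Fin E.length, (Fintype.card F : ℝ) * Nat.card (chevG2.borelSubgroup F) := by
        refine Finset.sum_le_sum fun i _ => ?_
        obtain ⟨hok, hlen⟩ := words_ok E[i] (List.getElem_mem i.2)
        have hw := mc_word_bound q₀ hfix E[i] (hE i) hok
        have hq : (1 : ℝ) ≤ Fintype.card F := by exact_mod_cast Fintype.card_pos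
        simp only [T, Nat.card_prod, certFullG2.card_KS (certFullG2.invSet_closed (hE i)),
          certFullG2.invSet_card, invN_eq _ (hE i), Nat.cast_mul, Nat.cast_pow]
        have hp := pow_le_pow_right₀ hq hlen
        rw [pow_succ] at hp
        have hn := Complex.normSq_nonneg (mc q₀ (nwG F E[i]))
        have h1 := mul_le_mul_of_nonneg_right hp hn
        have h2 : (Fintype.card F : ℝ) ^ (2 * E[i].count 1) * (Fintype.card F : ℝ) *
            Complex.normSq (mc q₀ (nwG F E[i])) ≤ (Fintype.card F : ℝ) := by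
          have := mul_le_mul_of_nonneg_left hw (le_trans zero_le_one hq)
          linarith
        have h3 := mul_le_mul_of_nonneg_left (h1.trans h2)
          (Nat.cast_nonneg (α := ℝ) (Nat.card (chevG2.borelSubgroup F)))
        linarith
    _ = _ := by
        rw [Finset.sum_const, Finset.card_univ, Fintype.card_fin, nsmul_eq_mul,
          show E.length = 12 from rfl, mul_assoc]
        norm_num

/-- The degree is large. -/
theorem degree_fixed_vector (hirr : Representation.IsIrreducible (k := ℂ) ρ)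
    (hk : 2 ≤ finrank ℂ V) (hq : 7 ≤ Fintype.card F) (q₁ : QVec ρ) :
    finrank ℂ V ≠ Fintype.card F ^ 3 := by
  classical
  intro hkq
  haveI := hirr
  have hfix : ¬ ∀ g : Gam F, ρ g q₁.v = q₁.v := by
    intro hall
    let W : Subrepresentation ρ := ⟨ℂ ∙ q₁.v, fun g w hw => by
      obtain ⟨a, rfl⟩ := Submodule.mem_span_singleton.1 hw
      rw [map_smul, hall]
      exact Submodule.smul_mem _ _ (Submodule.mem_span_singleton_self _)⟩
    rcases eq_bot_or_eq_top W with h | h
    · exact q₁.ne (Submodule.span_singleton_eq_bot.1 (congrArg Subrepresentation.toSubmodule h))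
    · have h' : (ℂ ∙ q₁.v) = ⊤ := congrArg Subrepresentation.toSubmodule h
      have e := finrank_span_singleton (K := ℂ) q₁.ne
      rw [h', finrank_top] at e
      omega
  set A : End ℂ V := ∑ g : Gam F, ρ g * avg ρ (rad rootsU) * ρ g⁻¹
  obtain ⟨lam, hlam⟩ := Cfsg.Agent.Char.schur_scalar (ρ : Representation ℂ (Gam F) V) A (by
    intro g
    refine LinearMap.ext fun x => ?_
    simp only [A, LinearMap.comp_apply, LinearMap.sum_apply, map_sum, End.mul_apply]
    refine (Fintype.sum_equiv (Equiv.mulLeft g) _ _ fun h => ?_).symm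
    simp only [Equiv.coe_mulLeft, mul_inv_rev, map_mul, End.mul_apply]
    rw [← rho_apply ρ g⁻¹ g, inv_mul_cancel, rho_one_apply])
  have hl : lam = ∑ g : Gam F, (Complex.normSq (mc q₁ g) : ℂ) := by
    have h := congrArg (fun T : End ℂ V => cf q₁ (T q₁.v)) hlam
    simp only [A, LinearMap.sum_apply, End.mul_apply, cf_sum, LinearMap.smul_apply,
      LinearMap.id_apply, cf_smul, cf_v, mul_one, cf_spec q₁, map_smul] at h
    rw [← h]
    refine Finset.sum_congr rfl fun g _ => ?_
    rw [Complex.normSq_eq_conj_mul_self, ← mc_inv]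
    rfl
  have htr : LinearMap.trace ℂ V (avg ρ (rad rootsU)) = 1 := by
    have hp : LinearMap.IsProj (ℂ ∙ q₁.v) (avg ρ (rad (F := F) rootsU)) :=
      ⟨fun x => by rw [cf_spec q₁]; exact Submodule.smul_mem _ _ (Submodule.mem_span_singleton_self _),
        fun x hx => by
          obtain ⟨a, rfl⟩ := Submodule.mem_span_singleton.1 hx
          rw [map_smul, avg_fix ρ _ fun g hg => U_fix q₁ hg]⟩
    rw [hp.trace, finrank_span_singleton q₁.ne, Nat.cast_one]
  have h := congrArg (LinearMap.trace ℂ V) hlam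
  simp only [A, map_sum, map_smul, smul_eq_mul] at h
  rw [Finset.sum_congr rfl fun g _ => show
      LinearMap.trace ℂ V (ρ g * avg ρ (rad rootsU) * ρ g⁻¹) = 1 by
        rw [LinearMap.trace_mul_comm, ← mul_assoc, ← map_mul, inv_mul_cancel, map_one, one_mul,
          htr],
    Finset.sum_const, Finset.card_univ, LinearMap.trace_id, nsmul_eq_mul, mul_one, hl,
    ← Complex.ofReal_sum] at h
  have h' : (Fintype.card (Gam F) : ℝ) =
      (∑ g : Gam F, Complex.normSq (mc q₁ g)) * finrank ℂ V := by exact_mod_cast h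
  have hle := mc_sum_le q₁ hfix
  have hB : Nat.card (chevG2.borelSubgroup F) =
      Fintype.card F ^ 6 * (Fintype.card F - 1) ^ 2 := by
    rw [certFullG2.card_borel, show chevG2.nroots / 2 = 6 from rfl, cardHG2]
    simp [Fin.prod_univ_two, sq]
  have hG := card_G2 (F := F)
  rw [Nat.card_eq_fintype_card] at hG
  have h1 : 1 ≤ Fintype.card F := by omega
  rw [hkq, hG] at h'
  rw [hB] at hle
  push_cast [Nat.cast_sub h1, Nat.cast_sub (Nat.one_le_pow 2 _ h1),
    Nat.cast_sub (Nat.one_le_pow 6 _ h1)] at h' hle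
  set Q : ℝ := (Fintype.card F : ℝ)
  have hQ : 7 ≤ Q := by simp only [Q]; exact_mod_cast hq
  have hQ6 : (0 : ℝ) < Q ^ 6 := by positivity
  have hQ3 : (0 : ℝ) ≤ Q ^ 3 := by positivity
  have h2 := mul_le_mul_of_nonneg_right hle hQ3
  rw [← h'] at h2
  have h3 : (Q ^ 2 - 1) * (Q ^ 6 - 1) ≤ 12 * Q ^ 4 * (Q - 1) ^ 2 :=
    le_of_mul_le_mul_left (by linarith) hQ6
  have h4 : (Q - 1) * (Q - 1) * (Q ^ 6 - 1) ≤ (Q ^ 2 - 1) * (Q ^ 6 - 1) := by
    refine mul_le_mul_of_nonneg_right (by nlinarith) ?_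
    nlinarith [pow_le_pow_left₀ (by norm_num : (0 : ℝ) ≤ 7) hQ 6]
  have h5 : Q ^ 6 - 1 ≤ 12 * Q ^ 4 :=
    le_of_mul_le_mul_left (a := (Q - 1) * (Q - 1)) (by linarith) (by nlinarith)
  nlinarith [pow_le_pow_left₀ (by norm_num : (0 : ℝ) ≤ 7) hQ 4]

end Cfsg.Agent.Lie.Chev.G2Deg
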