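import Cfsg.Agent.Lib.Lie.Chev.G2MinDegreeLines

/-! No cuspidal representation of degree q³ - 1 when q is 1 modulo 3. -/

set_option autoImplicit false
set_option linter.unusedSectionVars false
set_option maxRecDepth 20000

namespace Cfsg.Agent.Lie.Chev.G2Deg

open Module Cfsg.Agent.Grp.EigenSplit
open Cfsg.Lie (chevG2)

variable {F : Type*} [Field F] [Fintype F] {V : Type*} [AddCommGroup V] [Module ℂ V]
  (ρ : Gam F →* End ℂ V)

theorem opp_terms :
    certFullG2.T.commTerms 11 5 = [(10, -1, 1, 1)] ∧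
    certFullG2.T.commTerms 6 0 = [(1, -1, 1, 1)] ∧
    certFullG2.T.commTerms 0 10 = [(5, -1, 1, 1)] ∧
    certFullG2.T.commTerms 11 1 = [(6, 1, 1, 1)] := by
  refine ⟨?_, ?_, ?_, ?_⟩ <;> decide +kernel

theorem opp_cm : cm (0 : Fin 12) 5 = true ∧ cm (10 : Fin 12) 5 = true ∧ cm (6 : Fin 12) 1 = true ∧
    cm (10 : Fin 12) 11 = true ∧ cm (6 : Fin 12) 11 = true ∧ cm (11 : Fin 12) 10 = true := by
  decide +kernel

theorem rel_BE (b e : F) : R 6 b * R 10 e = R 10 e * R 6 b * R 11 (b * e) := by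
  rw [rel_EB, mul_assoc, ← R_add, neg_add_cancel, R_zero, mul_one]

theorem rel_5Z (z x : F) : R 5 x * R 11 z = R 11 z * R 5 x * R 10 (z * x) := by
  refine Subtype.ext ((comm_list (r := 11) (s := 5) (by decide) (by decide +kernel)
    opp_terms.1 z x).trans ?_)
  simp [R_val]

theorem rel_0B (b y : F) : R 0 y * R 6 b = R 6 b * R 0 y * R 1 (b * y) := by
  refine Subtype.ext ((comm_list (r := 6) (s := 0) (by decide) (by decide +kernel)
    opp_terms.2.1 b y).trans ?_)
  simp [R_val]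

theorem rel_E0 (y a : F) : R 10 a * R 0 y = R 0 y * R 10 a * R 5 (y * a) := by
  refine Subtype.ext ((comm_list (r := 0) (s := 10) (by decide) (by decide +kernel)
    opp_terms.2.2.1 y a).trans ?_)
  simp [R_val]

theorem rel_Z1 (z u : F) : R 11 z * R 1 u = R 1 u * R 11 z * R 6 (z * u) := by
  have h : R 1 u * R 11 z = R 11 z * R 1 u * R 6 (-(z * u)) := by
    refine Subtype.ext ((comm_list (r := 11) (s := 1) (by decide) (by decide +kernel)
      opp_terms.2.2.2 z u).trans ?_)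
    simp [R_val]
  rw [h, mul_assoc, ← R_add, neg_add_cancel, R_zero, mul_one]

/-- The projection to the fixed vectors of B and Z. -/
noncomputable def pr : End ℂ V :=
  Grp.EigenSplit.proj (fun t : F => ρ (R 6 t)) (chF 0) * Grp.EigenSplit.proj (fun t : F => ρ (R 11 t)) (chF 0)

/-- The fixed vectors of B and Z. -/
noncomputable def UV : Submodule ℂ V := Eig ρ [((6 : Fin 12), (0 : F)), (11, 0)]

theorem avg_apply (r : Fin 12) (v : V) :
    Grp.EigenSplit.proj (fun t : F => ρ (R r t)) (chF 0) v = (Fintype.card F : ℂ)⁻¹ • ∑ t : F, ρ (R r t) v := by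
  rw [Grp.EigenSplit.proj_apply]
  simp [chF_apply]

theorem avg_fixed (r : Fin 12) (v : V) (t : F) :
    ρ (R r t) (Grp.EigenSplit.proj (fun t : F => ρ (R r t)) (chF 0) v) =
      Grp.EigenSplit.proj (fun t : F => ρ (R r t)) (chF 0) v := by
  rw [apply_proj (isAct ρ r), chF_apply, zero_mul, AddChar.map_zero_eq_one, one_smul]

theorem avg_absorb (r : Fin 12) (a : F) (v : V) :
    Grp.EigenSplit.proj (fun t : F => ρ (R r t)) (chF 0) (ρ (R r a) v) =
      Grp.EigenSplit.proj (fun t : F => ρ (R r t)) (chF 0) v := by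
  rw [avg_apply, avg_apply]
  congr 1
  refine Fintype.sum_equiv (Equiv.addRight a) _ _ fun t => ?_
  rw [← rho_apply, ← R_add]
  rfl

theorem avg_comm {r s : Fin 12} (h : cm r s = true) (a : F) (v : V) :
    ρ (R s a) (Grp.EigenSplit.proj (fun t : F => ρ (R r t)) (chF 0) v) =
      Grp.EigenSplit.proj (fun t : F => ρ (R r t)) (chF 0) (ρ (R s a) v) := by
  rw [avg_apply, avg_apply, map_smul, map_sum]
  congr 1
  exact Finset.sum_congr rfl fun t _ => by rw [← rho_apply, ← rho_apply, (comm_of_cm h t a).eq]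

theorem pr_apply (v : V) : pr ρ v =
    Grp.EigenSplit.proj (fun t : F => ρ (R 6 t)) (chF 0) (Grp.EigenSplit.proj (fun t : F => ρ (R 11 t)) (chF 0) v) := rfl

theorem pr_swap (v : V) : pr ρ v =
    Grp.EigenSplit.proj (fun t : F => ρ (R 11 t)) (chF 0) (Grp.EigenSplit.proj (fun t : F => ρ (R 6 t)) (chF 0) v) := by
  rw [pr_apply, avg_apply ρ 6, avg_apply ρ 11 (Grp.EigenSplit.proj _ _ v), avg_apply ρ 6 v]
  simp only [map_smul, map_sum]
  rw [avg_apply ρ 11 v]
  simp only [map_smul, map_sum, smul_smul, ← Finset.smul_sum]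
  congr 1
  rw [Finset.sum_comm]
  exact Finset.sum_congr rfl fun t _ => Finset.sum_congr rfl fun s _ => by
    rw [← rho_apply, ← rho_apply, (comm_of_cm opp_cm.2.2.2.2.1 s t).eq]

theorem pr_mem (v : V) : pr ρ v ∈ UV ρ := by
  simp only [UV, mem_Eig, List.forall_mem_cons, List.not_mem_nil, false_implies, implies_true,
    and_true, zero_mul, AddChar.map_zero_eq_one, one_smul]
  exact ⟨fun t => avg_fixed ρ 6 _ t, fun t => by rw [pr_swap]; exact avg_fixed ρ 11 _ t⟩

theorem pr_id {v : V} (hv : v ∈ UV ρ) : pr ρ v = v := by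
  have h : ∀ r : Fin 12, (r, (0 : F)) ∈ [((6 : Fin 12), (0 : F)), (11, 0)] →
      Grp.EigenSplit.proj (fun t : F => ρ (R r t)) (chF 0) v = v := fun r hr => by
    rw [avg_apply, Finset.sum_congr rfl fun t _ => Eig.fixed ρ hv r hr t, Finset.sum_const,
      Finset.card_univ, ← Nat.cast_smul_eq_nsmul ℂ, smul_smul,
      inv_mul_cancel₀ (Nat.cast_ne_zero.2 Fintype.card_ne_zero), one_smul]
  rw [pr_apply, h 11 (by simp), h 6 (by simp)]

theorem pr_B (a : F) (v : V) : pr ρ (ρ (R 6 a) v) = pr ρ v := by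
  rw [pr_apply, pr_apply, ← avg_comm ρ (r := 11) (s := 6) (by decide +kernel), avg_absorb]

theorem pr_Z (a : F) (v : V) : pr ρ (ρ (R 11 a) v) = pr ρ v := by
  rw [pr_apply, pr_apply, avg_absorb]

theorem pr_E (e : F) (v : V) : ρ (R 10 e) (pr ρ v) = pr ρ (ρ (R 10 e) v) := by
  rw [pr_apply, pr_apply, ← avg_comm ρ (r := 11) (s := 10) opp_cm.2.2.2.2.2]
  set y := Grp.EigenSplit.proj (fun t : F => ρ (R 11 t)) (chF 0) v
  rw [avg_apply, avg_apply, map_smul, map_sum]
  congr 1
  refine Finset.sum_congr rfl fun b _ => ?_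
  rw [← rho_apply, ← rho_apply, rel_BE b e, rho_apply _ (R 10 e * R 6 b), avg_fixed]

theorem pr_1 (u : F) (v : V) : ρ (R 1 u) (pr ρ v) = pr ρ (ρ (R 1 u) v) := by
  rw [pr_swap, pr_swap, ← avg_comm ρ (r := 6) (s := 1) opp_cm.2.2.1]
  have hy : ∀ b, ρ (R 6 b) (Grp.EigenSplit.proj (fun t : F => ρ (R 6 t)) (chF 0) v) =
      Grp.EigenSplit.proj (fun t : F => ρ (R 6 t)) (chF 0) v := fun b => avg_fixed ρ 6 v b
  set y := Grp.EigenSplit.proj (fun t : F => ρ (R 6 t)) (chF 0) v
  rw [avg_apply, avg_apply, map_smul, map_sum]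
  congr 1
  refine Finset.sum_congr rfl fun z _ => ?_
  rw [← rho_apply, ← rho_apply, rel_Z1 z u, rho_apply _ (R 1 u * R 11 z), hy]

theorem stable_E {η' : F} (L : List (Fin 12 × F)) (hL : L = [(6, η'), (11, 0)]) (t : F) :
    Stable (ρ (R 10 t)) (Eig ρ L) := by
  subst hL
  refine stable_tail ρ (fun p hp t x => ?_) t
  simp only [List.mem_cons, List.not_mem_nil, or_false] at hp
  rcases hp with rfl | rfl
  · exact ⟨_, rel_BE x t, fun v hv => Eig.fixed ρ hv 11 (by simp) _⟩
  · exact tail_cm ρ opp_cm.2.2.2.2.2 t x _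

variable [FiniteDimensional ℂ V]

theorem U_pieces (h3 : (3 : F) ≠ 0) (hq : 5 ≤ Fintype.card F) (hm : mult ρ = 1)
    (hQ : QV ρ = ⊥) (η : F) :
    Eig ρ [(10, η), (6, 0), (11, 0)] ≤ Eig ρ [(6, 0), (8, 0), (9, 0), (10, η), (11, 0)] ∧
      (η = 0 → Eig ρ [(10, η), (6, 0), (11, 0)] = ⊥) := by
  by_cases hη : η = 0
  · subst hη
    have hz : Eig ρ [((10 : Fin 12), (0 : F)), (6, 0), (11, 0)] = ⊥ := by
      rw [← Submodule.finrank_eq_zero, ← split ρ 9 fun t => stable_cm ρ (by simp; decide +kernel) t]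
      refine Finset.sum_eq_zero fun δ _ => ?_
      have hst : ∀ t, Stable (ρ (R 8 t))
          (Eig ρ [((9 : Fin 12), δ), (10, 0), (6, 0), (11, 0)]) := fun t => by
        refine stable_tail ρ (fun p hp t x => ?_) t
        simp only [List.mem_cons, List.not_mem_nil, or_false] at hp
        rcases hp with rfl | rfl | rfl | rfl
        · exact ⟨_, rel_DC t x, fun v hv => Eig.fixed ρ hv 11 (by simp) _⟩
        · exact tail_cm ρ cm_more.2.2.2.1 t x _
        · exact tail_cm ρ (show cm (6 : Fin 12) 8 = true by decide +kernel) t x _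
        · exact tail_cm ρ cm_more.2.2.1 t x _
      rw [← split ρ 8 hst]
      refine Finset.sum_eq_zero fun γ _ => ?_
      rw [Eig_congr ρ (L' := [(6, 0), (8, γ), (9, δ), (11, 0), (10, 0)]) (by simp) (by simp)]
      by_cases h : γ = 0 ∧ δ = 0
      · obtain ⟨rfl, rfl⟩ := h
        rw [Eig_congr ρ (L' := [(6, 0), (8, 0), (9, 0), (10, 0), (11, 0)]) (by simp) (by simp),
          show Eig ρ [((6 : Fin 12), (0 : F)), (8, 0), (9, 0), (10, 0), (11, 0)] = ⊥ from hQ,
          finrank_bot]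
      · rw [vanish ρ h3 hq hm h, finrank_bot]
    exact ⟨hz ▸ bot_le, fun _ => hz⟩
  · refine ⟨?_, fun e => absurd e hη⟩
    have hle : Eig ρ [((9 : Fin 12), (0 : F)), (10, η), (6, 0), (11, 0)] ≤
        Eig ρ [(10, η), (6, 0), (11, 0)] := Eig_mono ρ (by simp)
    have h := split ρ 9 (L := [((10 : Fin 12), η), (6, 0), (11, 0)])
      fun t => stable_cm ρ (by simp; decide +kernel) t
    rw [sum_zero_split _ 0 fun δ hδ => ?_, mul_zero, add_zero] at h
    · rw [← Submodule.eq_of_le_of_finrank_eq hle h]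
      exact le_trans (Eig_mono ρ (by simp)) (le_of_eq (pure_dim ρ h3 hq hm hη).2)
    · rw [Submodule.finrank_eq_zero, Submodule.eq_bot_iff]
      intro v hv
      by_contra h0
      have h1 := X_shift ρ (η := η) (δ := δ) (δ / (3 * η)) v (Eig_mono ρ (by simp) hv)
      rw [show δ - 3 * η * (δ / (3 * η)) = 0 by field_simp; ring,
        (pure_dim ρ h3 hq hm hη).2] at h1
      have h2 := X_pure ρ (-(δ / (3 * η))) _ h1
      rw [← rho_apply, ← R_add, neg_add_cancel, R_zero, map_one, End.one_apply] at h2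
      have h6 : (0 : F) = -(η * (-(δ / (3 * η))) ^ 3) :=
        char_unique ρ (r := 6) hv h2 h0 (by simp) (by simp)
      simp [hη, hδ, h3] at h6

theorem weyl_E : ([(6, 11, 1), (11, 6, 1), (1, 10, 1)].all fun p : Fin 12 × Fin 12 × ℤ =>
    certFullG2.T.wlT [0, 1, 0] p.1 == (p.2.1 : ℕ) && certFullG2.wsign [0, 1, 0] p.1 == p.2.2) =
      true := by
  decide +kernel

/-- The Weyl element of E. -/
noncomputable def nE (F : Type*) [Field F] : Gam F :=
  ⟨certFullG2.nw F [0, 1, 0], certFullG2.N_le_group (certFullG2.nw_mem_N (by decide))⟩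

omit [FiniteDimensional ℂ V] in
theorem nE_rel {r s : Fin 12} (h : (r, s, (1 : ℤ)) ∈
    [((6 : Fin 12), (11 : Fin 12), (1 : ℤ)), (11, 6, 1), (1, 10, 1)]) (x : F) :
    nE F * R r x = R s (1 * x) * nE F := by
  have h2 := List.all_eq_true.1 weyl_E _ h
  simp only [Bool.and_eq_true, beq_iff_eq] at h2
  refine Subtype.ext ?_
  show certFullG2.nw F [0, 1, 0] * certFullG2.xg r x =
    certFullG2.xg s _ * certFullG2.nw F [0, 1, 0]
  rw [certFullG2.nw_mul_xg (by decide) (show (r : ℕ) < chevG2.nroots from r.2),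
    ← certFullG2.wlT_eq, h2.1, h2.2, Int.cast_one]

theorem fixed_E_zero (h3 : (3 : F) ≠ 0) (hq : 5 ≤ Fintype.card F) (hm : mult ρ = 1)
    (hQ : QV ρ = ⊥) {v : V} (hv : v ∈ UV ρ) (he : ∀ e, ρ (R 10 e) v = v) : v = 0 := by
  have h : v ∈ Eig ρ [((10 : Fin 12), (0 : F)), (6, 0), (11, 0)] := fun p hp t => by
    rcases List.mem_cons.1 hp with rfl | hp
    · rw [he, zero_mul, AddChar.map_zero_eq_one, one_smul]
    · exact hv p hp t
  rwa [(U_pieces ρ h3 hq hm hQ 0).2 rfl, Submodule.mem_bot] at h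

theorem fixed_1_zero (h3 : (3 : F) ≠ 0) (hq : 5 ≤ Fintype.card F) (hm : mult ρ = 1)
    (hQ : QV ρ = ⊥) {v : V} (hv : v ∈ UV ρ) (he : ∀ u, ρ (R 1 u) v = v) : v = 0 := by
  have hw : v ∈ Eig ρ [((6 : Fin 12), (0 : F)), (11, 0), (1, 0)] := fun p hp t => by
    simp only [List.mem_cons, List.not_mem_nil, or_false] at hp
    rcases hp with rfl | rfl | rfl
    · exact hv _ (by simp) t
    · exact hv _ (by simp) t
    · rw [he, zero_mul, AddChar.map_zero_eq_one, one_smul]
  have h := maps_rel ρ (nE F) (L' := [((10 : Fin 12), (0 : F)), (6, 0), (11, 0)])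
    (fun p hp => by
      simp only [List.mem_cons, List.not_mem_nil, or_false] at hp
      rcases hp with rfl | rfl | rfl
      · exact ⟨(1, 0), by simp, 1, one_ne_zero, by simp, nE_rel (by simp)⟩
      · exact ⟨(11, 0), by simp, 1, one_ne_zero, by simp, nE_rel (by simp)⟩
      · exact ⟨(6, 0), by simp, 1, one_ne_zero, by simp, nE_rel (by simp)⟩) v hw
  rw [(U_pieces ρ h3 hq hm hQ 0).2 rfl, Submodule.mem_bot] at h
  exact rho_injective ρ (nE F) (by rw [h, map_zero])

/-- The translation attached to a point outside a line. -/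
noncomputable def opp (p : F × F) : Gam F := R 5 p.1 * R 0 p.2

omit [FiniteDimensional ℂ V] in
theorem opp_add (p p' : F × F) : opp (p + p') = opp p * opp p' := by
  rw [opp, opp, opp, Prod.fst_add, Prod.snd_add, R_add, R_add]
  simp only [mul_assoc]
  congr 1
  rw [← mul_assoc, ← mul_assoc, (comm_of_cm opp_cm.1 p.2 p'.1).eq]

theorem translate_kills (h3 : (3 : F) ≠ 0) (hq : 5 ≤ Fintype.card F) (hm : mult ρ = 1)
    (hQ : QV ρ = ⊥) {p : F × F} (hp : p ≠ 0) {s : V} (hs : s ∈ UV ρ) :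
    pr ρ (ρ (opp p) s) = 0 := by
  obtain ⟨x, y⟩ := p
  by_cases hy : y = 0
  · subst hy
    have hx : x ≠ 0 := fun e => hp (by rw [e]; rfl)
    refine fixed_E_zero ρ h3 hq hm hQ (pr_mem ρ _) fun e => ?_
    rw [pr_E, opp, R_zero, mul_one, ← rho_apply]
    have h : R 10 e * R 5 x = R 11 (-(e / x)) * (R 5 x * R 11 (e / x)) := by
      rw [rel_5Z, ← mul_assoc, ← mul_assoc, ← R_add, neg_add_cancel, R_zero, one_mul,
        div_mul_cancel₀ e hx, (comm_of_cm opp_cm.2.1 e x).eq]
    rw [h, rho_apply, rho_apply, pr_Z, Eig.fixed ρ hs 11 (by simp)]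
  · set a := -(x / y)
    have hgen : ρ (R 10 a) (pr ρ (ρ (opp (x, y)) s)) = pr ρ (ρ (R 0 y) (ρ (R 10 a) s)) := by
      rw [pr_E, ← rho_apply, ← rho_apply]
      congr 2
      rw [opp, ← mul_assoc, (comm_of_cm opp_cm.2.1 a x).eq, mul_assoc, rel_E0, ← mul_assoc]
      simp only [mul_assoc]
      rw [(comm_of_cm opp_cm.2.1 a (y * a)).eq,
        ← mul_assoc (R 0 y), (comm_of_cm opp_cm.1 y (y * a)).eq, mul_assoc, ← mul_assoc (R 5 x),
        ← R_add, show x + y * a = 0 by simp only [a]; field_simp; ring, R_zero, one_mul]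
    have hs' : ρ (R 10 a) s ∈ UV ρ := stable_E ρ _ rfl a s hs
    set s' := ρ (R 10 a) s
    have hz : pr ρ (ρ (R 0 y) s') = 0 := by
      refine fixed_1_zero ρ h3 hq hm hQ (pr_mem ρ _) fun u => ?_
      rw [pr_1, ← rho_apply]
      have h : R 1 u * R 0 y = R 6 (-(u / y)) * (R 0 y * R 6 (u / y)) := by
        rw [rel_0B, ← mul_assoc, ← mul_assoc, ← R_add, neg_add_cancel, R_zero, one_mul,
          div_mul_cancel₀ u hy,
          (comm_of_cm (show cm (1 : Fin 12) 0 = true by decide +kernel) u y).eq]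
      rw [h, rho_apply, rho_apply, pr_B, Eig.fixed ρ hs' 6 (by simp)]
    exact rho_injective ρ (R 10 a) (by rw [hgen, hz, map_zero])

theorem nonzero_mem {L : List (Fin 12 × F)} (h : finrank ℂ (Eig ρ L) = 1) :
    ∃ v ∈ Eig ρ L, v ≠ 0 :=
  Submodule.exists_mem_ne_zero_of_ne_bot fun e => by rw [e, finrank_bot] at h; exact zero_ne_one h

theorem wt_fixed (w : Fˣ) (hw : w ^ 3 = 1) :
    ∀ r ∈ [(0 : Fin 12), 5, 6, 10, 11], wt r w 1 = 1 := by
  have h : ∀ r ∈ [(0 : Fin 12), 5, 6, 10, 11], (3 : ℤ) ∣ certFullG2.T.cartan 0 r := by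
    decide +kernel
  intro r hr
  obtain ⟨m, hm⟩ := h r hr
  rw [wt, one_zpow, mul_one, hm, zpow_mul, zpow_ofNat, hw, one_zpow]

theorem no_cuspidal (h3 : (3 : F) ≠ 0) (hq : 7 ≤ Fintype.card F) (hq3 : 3 ∣ Fintype.card F - 1)
    (hm : mult ρ = 1) (hQ : QV ρ = ⊥) : False := by
  classical
  have hq5 : 5 ≤ Fintype.card F := by omega
  obtain ⟨w, hw⟩ := exists_prime_orderOf_dvd_card' (G := Fˣ) 3 (by
    rwa [Nat.card_eq_fintype_card, Fintype.card_units])
  have hw3 : w ^ 3 = 1 := hw ▸ pow_orderOf_eq_one w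
  have hw1 : (w : F) ≠ 1 := fun e => by
    rw [Units.val_eq_one.1 e, orderOf_one] at hw; norm_num at hw
  have hwF : (w : F) ^ 3 = 1 := by rw [← Units.val_pow_eq_pow_val, hw3, Units.val_one]
  set g := tor w 1
  have hcm : ∀ r ∈ [(0 : Fin 12), 5, 6, 10, 11], ∀ x : F, g * R r x = R r x * g := fun r hr x => by
    rw [tor_rel, wt_fixed w hw3 r hr, Units.val_one, one_mul]
  -- the eigenvalue on the pure lines
  obtain ⟨v1, hv1, hv10⟩ := nonzero_mem ρ (pure_dim ρ h3 hq5 hm one_ne_zero).1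
  have hg1 : ρ g v1 ∈ Eig ρ [((6 : Fin 12), (0 : F)), (8, 0), (9, 0), (10, 1), (11, 0)] := by
    refine tor_maps ρ w 1 ?_ v1 hv1
    simp [wt_fixed w hw3 10 (by simp)]
  obtain ⟨c, hc⟩ := (finrank_eq_one_iff_of_nonzero' (⟨v1, hv1⟩ : Eig ρ _)
    (fun e => hv10 (congrArg Subtype.val e))).1 (pure_dim ρ h3 hq5 hm one_ne_zero).1 ⟨_, hg1⟩
  have hc' : ρ g v1 = c • v1 := (congrArg Subtype.val hc).symm
  have hpure : ∀ η : F, η ≠ 0 →
      ∀ v ∈ Eig ρ [((6 : Fin 12), (0 : F)), (8, 0), (9, 0), (10, η), (11, 0)], ρ g v = c • v := by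
    intro η hη v hv
    set t := Units.mk0 η hη
    have hback : ρ (tor 1 t⁻¹) v ∈
        Eig ρ [((6 : Fin 12), (0 : F)), (8, 0), (9, 0), (10, 1), (11, 0)] := by
      refine tor_maps ρ 1 t⁻¹ ?_ v hv
      obtain ⟨-, -, -, -, -, -, h10, -⟩ := wt_values (1 : Fˣ) t⁻¹
      simp [h10, t, hη]
    obtain ⟨d, hd⟩ := (finrank_eq_one_iff_of_nonzero' (⟨v1, hv1⟩ : Eig ρ _)
      (fun e => hv10 (congrArg Subtype.val e))).1 (pure_dim ρ h3 hq5 hm one_ne_zero).1 ⟨_, hback⟩
    have hd' : ρ (tor 1 t⁻¹) v = d • v1 := (congrArg Subtype.val hd).symm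
    refine rho_injective ρ (tor 1 t⁻¹) ?_
    rw [← rho_apply, (tor_comm _ _ _ _).eq, rho_apply, map_smul, hd', map_smul, hc', smul_comm]
  -- the eigenspace
  set T : End ℂ V := ρ g - c • 1
  have hT : ∀ v, T v = ρ g v - c • v := fun v => rfl
  have hU : UV ρ ≤ LinearMap.ker T := by
    have hst : ∀ t, Stable (ρ (R 10 t)) (LinearMap.ker T ⊓ UV ρ) := fun t v hv => by
      refine ⟨?_, stable_E ρ _ rfl t v hv.2⟩
      have h1 : T v = 0 := hv.1
      show T (ρ (R 10 t) v) = 0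
      rw [hT, ← rho_apply, hcm 10 (by simp), rho_apply, ← map_smul, ← map_sub, ← hT, h1, map_zero]
    have e1 := sum_finrank (isAct ρ 10) chF chF_injective rfl hst
    have e2 := split ρ 10 (L := [((6 : Fin 12), (0 : F)), (11, 0)]) (stable_E ρ _ rfl)
    have heq : ∀ η : F, LinearMap.ker T ⊓ UV ρ ⊓ eig (fun t => ρ (R 10 t)) (chF η) =
        Eig ρ [(10, η), (6, 0), (11, 0)] := fun η => by
      rw [inf_assoc, UV, inf_eig_eq_Eig, inf_eq_right]
      intro v hv
      show T v = 0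
      by_cases hη : η = 0
      · rw [(U_pieces ρ h3 hq5 hm hQ η).2 hη, Submodule.mem_bot] at hv
        rw [hv, map_zero]
      · rw [hT, hpure η hη v ((U_pieces ρ h3 hq5 hm hQ η).1 hv), sub_self]
    rw [Finset.sum_congr rfl fun η _ => by rw [heq η], e2] at e1
    exact inf_eq_right.1 (Submodule.eq_of_le_of_finrank_eq inf_le_right e1.symm)
  -- translates of the fixed space
  let Φ : (F × F → UV ρ) →ₗ[ℂ] LinearMap.ker T :=
    ∑ p : F × F, (LinearMap.codRestrict (LinearMap.ker T) ((ρ (opp p)).comp (UV ρ).subtype)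
      fun s => by
        show T (ρ (opp p) (s : V)) = 0
        have h1 : T (s : V) = 0 := hU s.2
        rw [hT, ← rho_apply, opp, ← mul_assoc, hcm 5 (by simp), mul_assoc, hcm 0 (by simp),
          ← mul_assoc, rho_apply, ← map_smul, ← map_sub, ← hT, h1, map_zero]).comp
      (LinearMap.proj p)
  have hΦ : Function.Injective Φ := by
    refine (injective_iff_map_eq_zero _).2 fun s hs => funext fun q => Subtype.ext ?_
    have h := congrArg (fun z : LinearMap.ker T => pr ρ (ρ (opp (-q)) (z : V))) hs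
    simp only [Φ, LinearMap.sum_apply, LinearMap.comp_apply, LinearMap.proj_apply,
      AddSubmonoidClass.coe_finsetSum, LinearMap.codRestrict_apply, map_sum,
      Submodule.subtype_apply, ZeroMemClass.coe_zero, map_zero, Pi.zero_apply] at h ⊢
    rw [Finset.sum_eq_single q] at h
    · rw [← rho_apply, ← opp_add, neg_add_cancel, opp, Prod.fst_zero, Prod.snd_zero, R_zero,
        R_zero, mul_one, map_one, End.one_apply, pr_id ρ (s q).2] at h
      exact h
    · intro p _ hp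
      rw [← rho_apply, ← opp_add, translate_kills ρ h3 hq5 hm hQ
        (fun e => hp (neg_add_eq_zero.1 e).symm) (s p).2]
    · simp
  have hkdim : Fintype.card F ^ 2 * (Fintype.card F - 1) ≤ finrank ℂ (LinearMap.ker T) := by
    have h1 := LinearMap.finrank_le_finrank_of_injective hΦ
    rw [Module.finrank_pi_fintype, Finset.sum_const, Finset.card_univ, Fintype.card_prod,
      smul_eq_mul, ← sq] at h1
    refine le_trans (Nat.mul_le_mul_left _ ?_) h1
    rw [UV, ← split ρ 10 (stable_E ρ _ rfl), sum_zero_split _ 1 fun η hη => ?_, mul_one]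
    · exact Nat.le_add_left _ _
    · refine le_antisymm (((pure_dim ρ h3 hq5 hm hη).1).symm ▸
        Submodule.finrank_mono (U_pieces ρ h3 hq5 hm hQ η).1) ?_
      rw [← (pure_dim ρ h3 hq5 hm hη).1]
      exact Submodule.finrank_mono (Eig_mono ρ (by simp))
  -- the other eigenspaces
  obtain ⟨d, hd⟩ : ∃ d : F, d ≠ 0 ∧ d ≠ 1 ∧ d ≠ w ∧ d ≠ (w : F) ^ 2 := by
    obtain ⟨d, -, hd⟩ := Finset.exists_mem_notMem_of_card_lt_card
      (s := ({0, 1, (w : F), (w : F) ^ 2} : Finset F)) (t := Finset.univ)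
      (lt_of_le_of_lt Finset.card_le_four (by simp; omega))
    simp only [Finset.mem_insert, Finset.mem_singleton, not_or] at hd
    exact ⟨d, hd⟩
  obtain ⟨hd0, hd1, hdw, hdw2⟩ := hd
  let δ : Bool → F := fun b => if b then d else 1
  have hδ : ∀ b b', δ b / (w : F) ≠ δ b' := by
    have w0 : (w : F) ≠ 0 := w.ne_zero
    intro b b' e
    rw [div_eq_iff w0] at e
    cases b <;> cases b' <;> simp [δ] at e
    · exact hw1 e.symm
    · refine hdw2 (mul_right_cancel₀ w0 ?_)
      rw [← e, ← pow_succ, hwF]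
    · exact hdw e
    · exact hw1 (mul_left_cancel₀ hd0 (by rw [mul_one]; exact e.symm))
  have hδi : Function.Injective δ := by
    intro b b' e
    cases b <;> cases b' <;> simp [δ] at e ⊢
    · exact hd1 e.symm
    · exact hd1 e
  have hone : ∀ i : {p : F × F // p ≠ 0} × Bool,
      finrank ℂ (Eig ρ [((11 : Fin 12), i.1.1.1), (10, i.1.1.2), (9, δ i.2)]) = 1 := by
    rintro ⟨⟨⟨z, e⟩, hp⟩, b⟩
    show finrank ℂ (Eig ρ [((11 : Fin 12), z), (10, e), (9, δ b)]) = 1
    by_cases hz : z = 0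
    · subst hz
      rw [line_dim ρ h3 (fun e0 => hp (by simp [Prod.ext_iff, e0])) (δ b), hm]
    · rw [piece_D ρ h3 hz e (δ b), hm]
  choose v hv hv0 using fun i => nonzero_mem ρ (hone i)
  let Pi3 : F → F → F → End ℂ V := fun z e x =>
    Grp.EigenSplit.proj (fun t : F => ρ (R 11 t)) (chF z) * (Grp.EigenSplit.proj (fun t : F => ρ (R 10 t)) (chF e) *
      Grp.EigenSplit.proj (fun t : F => ρ (R 9 t)) (chF x))
  have hP : ∀ (z e x z' e' x' : F) (u : V), u ∈ Eig ρ [((11 : Fin 12), z'), (10, e'), (9, x')] →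
      Pi3 z e x u = if z = z' ∧ e = e' ∧ x = x' then u else 0 := by
    intro z e x z' e' x' u hu
    have k : ∀ (r : Fin 12) (a b : F), (r, b) ∈ [((11 : Fin 12), z'), (10, e'), (9, x')] →
        Grp.EigenSplit.proj (fun t : F => ρ (R r t)) (chF a) u = if a = b then u else 0 := fun r a b hb => by
      rw [proj_of_mem _ (chF b) (fun t => by rw [chF_apply]; exact hu (r, b) hb t)]
      exact if_congr chF_injective.eq_iff rfl rfl
    show Grp.EigenSplit.proj _ _ (Grp.EigenSplit.proj _ _ (Grp.EigenSplit.proj _ _ u)) = _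
    rw [k 9 x x' (by simp)]
    by_cases hx : x = x'
    · rw [if_pos hx, k 10 e e' (by simp)]
      by_cases he : e = e'
      · rw [if_pos he, k 11 z z' (by simp)]
        simp [hx, he]
      · simp [he]
    · simp [hx]
  let Ψ : ({p : F × F // p ≠ 0} × Bool → ℂ) →ₗ[ℂ] LinearMap.range T :=
    ∑ i, ((LinearMap.proj i : ({p : F × F // p ≠ 0} × Bool → ℂ) →ₗ[ℂ] ℂ).smulRight
      (⟨T (v i), LinearMap.mem_range_self T _⟩ : LinearMap.range T))
  have hΨ : Function.Injective Ψ := by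
    refine (injective_iff_map_eq_zero _).2 fun a ha => funext fun j => ?_
    have h := congrArg (fun u : LinearMap.range T =>
      Pi3 j.1.1.1 j.1.1.2 (δ j.2) (u : V)) ha
    simp only [Ψ, LinearMap.sum_apply, LinearMap.smulRight_apply, LinearMap.proj_apply,
      AddSubmonoidClass.coe_finsetSum, SetLike.val_smul, map_sum, map_smul,
      ZeroMemClass.coe_zero, map_zero, Pi.zero_apply] at h ⊢
    have key : ∀ i, Pi3 j.1.1.1 j.1.1.2 (δ j.2) (T (v i)) =
        if i = j then -(c • v i) else 0 := by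
      intro i
      have h1 : ρ g (v i) ∈
          Eig ρ [((11 : Fin 12), i.1.1.1), (10, i.1.1.2), (9, δ i.2 / (w : F))] := by
        refine tor_maps ρ w 1 ?_ _ (hv i)
        obtain ⟨-, -, -, -, -, h9, -, -⟩ := wt_values w (1 : Fˣ)
        simp [wt_fixed w hw3 10 (by simp), wt_fixed w hw3 11 (by simp), h9]
      rw [hT, map_sub, map_smul, hP _ _ _ _ _ _ _ h1, hP _ _ _ _ _ _ _ (hv i),
        if_neg fun h => hδ i.2 j.2 h.2.2.symm, zero_sub]
      by_cases hij : i = j
      · subst hij; simp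
      · rw [if_neg hij, if_neg, smul_zero, neg_zero]
        rintro ⟨e1, e2, e3⟩
        exact hij (Prod.ext (Subtype.ext (Prod.ext e1.symm e2.symm)) (hδi e3.symm))
    simp only [key, smul_ite, smul_zero, Finset.sum_ite_eq', Finset.mem_univ, if_true] at h
    rw [smul_neg, neg_eq_zero, smul_smul, smul_eq_zero] at h
    rcases h with h | h
    · refine (mul_eq_zero.1 h).resolve_right fun hc0 => hv10 ?_
      exact rho_injective ρ g (by rw [hc', hc0, zero_smul, map_zero])
    · exact absurd h (hv0 j)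
  have hrdim : 2 * (Fintype.card F ^ 2 - 1) ≤ finrank ℂ (LinearMap.range T) := by
    have h1 := LinearMap.finrank_le_finrank_of_injective hΨ
    rwa [Module.finrank_fintype_fun_eq_card, Fintype.card_prod, Fintype.card_bool,
      Fintype.card_subtype_compl, Fintype.card_subtype_eq, Fintype.card_prod, mul_comm,
      ← sq] at h1
  have hk := degree_one ρ h3 hq5 hm
  rw [hQ, finrank_bot, add_zero, ← LinearMap.finrank_range_add_finrank_ker T] at hk
  obtain ⟨n, hn⟩ : ∃ n, Fintype.card F = n + 7 := ⟨Fintype.card F - 7, by omega⟩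
  rw [hn] at hk hkdim hrdim
  rw [show (n + 7) ^ 2 - 1 = n ^ 2 + 14 * n + 48 by
    rw [show (n + 7) ^ 2 = n ^ 2 + 14 * n + 48 + 1 by ring, Nat.add_sub_cancel]] at hrdim
  rw [show n + 7 - 1 = n + 6 by omega] at hkdim
  nlinarith

end Cfsg.Agent.Lie.Chev.G2Deg
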