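import Cfsg.Agent.Lib.Lie.Chev.G2Singer
import Cfsg.Agent.Lib.Lie.Chev.CycTori
import Cfsg.Agent.Lib.Lie.Chev.TorusOrders

/-! The torus of `G₂` in the coordinates given by the values at two short roots, and the action
of the twelve elements of the Weyl group on it. -/

set_option autoImplicit false
set_option maxRecDepth 4000

namespace Cfsg.Agent.Lie.Chev.G2Tor

open Cfsg.Lie G2Singer

/-- An integral matrix of size two, by rows. -/
abbrev M2 := (ℤ × ℤ) × (ℤ × ℤ)

/-- The product of two matrices. -/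
def mm2 (A B : M2) : M2 :=
  ((A.1.1 * B.1.1 + A.1.2 * B.2.1, A.1.1 * B.1.2 + A.1.2 * B.2.2),
    (A.2.1 * B.1.1 + A.2.2 * B.2.1, A.2.1 * B.1.2 + A.2.2 * B.2.2))

/-- The identity matrix. -/
def id2 : M2 := ((1, 0), (0, 1))

/-- The value of an exponent pair. -/
def ev2 {G : Type*} [CommGroup G] (x : ℤ × ℤ) (P : G × G) : G := P.1 ^ x.1 * P.2 ^ x.2

/-- The action of a matrix. -/
def act {G : Type*} [CommGroup G] (A : M2) : G × G →* G × G where
  toFun P := (ev2 A.1 P, ev2 A.2 P)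
  map_one' := by simp [ev2]
  map_mul' P Q := by
    simp only [ev2, Prod.fst_mul, Prod.snd_mul, mul_zpow, Prod.mk_mul_mk]
    exact Prod.ext (mul_mul_mul_comm _ _ _ _) (mul_mul_mul_comm _ _ _ _)

theorem ev2_act {G : Type*} [CommGroup G] (x : ℤ × ℤ) (A : M2) (P : G × G) :
    ev2 x (act A P) = ev2 (x.1 * A.1.1 + x.2 * A.2.1, x.1 * A.1.2 + x.2 * A.2.2) P := by
  simp only [ev2, act, MonoidHom.coe_mk, OneHom.coe_mk, mul_zpow, ← zpow_mul, zpow_add]
  rw [mul_comm x.1, mul_comm x.1, mul_comm x.2, mul_comm x.2]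
  exact mul_mul_mul_comm _ _ _ _

theorem act_comp {G : Type*} [CommGroup G] (A B : M2) (P : G × G) :
    act A (act B P) = act (mm2 A B) P :=
  Prod.ext (ev2_act A.1 B P) (ev2_act A.2 B P)

theorem act_id {G : Type*} [CommGroup G] (P : G × G) : act id2 P = P := by
  refine Prod.ext ?_ ?_ <;> simp [act, id2, ev2]

theorem id2_mul (A : M2) : mm2 id2 A = A := by simp [mm2, id2]

theorem mul_id2 (A : M2) : mm2 A id2 = A := by simp [mm2, id2]

theorem ev2_sub {G : Type*} [CommGroup G] (x y : ℤ × ℤ) (P : G × G) :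
    ev2 (x - y) P = ev2 x P / ev2 y P := by
  simp only [ev2, Prod.fst_sub, Prod.snd_sub, zpow_sub, div_eq_mul_inv, mul_inv_rev]
  rw [mul_comm (P.2 ^ y.2)⁻¹]
  exact mul_mul_mul_comm _ _ _ _

/-- The exponents of a root in the two coordinates. -/
def ex (s : ℕ) : ℤ × ℤ :=
  (certFullG2.T.cartan 1 s, certFullG2.T.cartan 0 s + certFullG2.T.cartan 1 s)

/-- Words for the twelve elements of the Weyl group. -/
def words : List (List ℕ) :=
  [[], [0], [1], [1, 0], [0, 1], [0, 1, 0], [1, 0, 1], [1, 0, 1, 0], [0, 1, 0, 1],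
    [0, 1, 0, 1, 0], [1, 0, 1, 0, 1], [1, 0, 1, 0, 1, 0]]

/-- The matrix of a word. -/
def mat (L : List ℕ) : M2 :=
  (ex (certFullG2.T.wlT L.reverse 8), ex (certFullG2.T.wlT L.reverse 9))

/-- The twelve matrices. -/
def W12 : List M2 := words.map mat

theorem words_lt : ∀ L ∈ words, ∀ p ∈ L, p < chevG2.rank := by decide +kernel

theorem W12_mul : ∀ A ∈ W12, ∀ B ∈ W12, mm2 A B ∈ W12 := by decide +kernel

theorem W12_inv : ∀ A ∈ W12, ∃ B ∈ W12, mm2 A B = id2 ∧ mm2 B A = id2 := by decide +kernel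

theorem W12_nodup : W12.Nodup := by decide +kernel

theorem id2_mem : id2 ∈ W12 := by decide +kernel

theorem W12_length : W12.length = 12 := by decide +kernel

theorem chain_eq : chainWords chainG2 = words := by decide +kernel

theorem ex_values : ex 8 = (1, 0) ∧ ex 9 = (0, 1) := by decide +kernel

theorem ex_wl : ∀ L ∈ words, ∀ s < 12,
    ((ex (certFullG2.T.wlT L s)).1 * (mat L).1.1 + (ex (certFullG2.T.wlT L s)).2 * (mat L).2.1,
      (ex (certFullG2.T.wlT L s)).1 * (mat L).1.2 + (ex (certFullG2.T.wlT L s)).2 * (mat L).2.2) =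
      ex s := by decide +kernel

theorem nroots_eq : chevG2.nroots = 12 := by decide +kernel

variable {F : Type*} [Field F]

theorem zab_one : zab (1 : Fˣ) 1 = 1 := funext fun i => by simp [zab]

theorem zab_mul (a b a' b' : Fˣ) : zab (a * a') (b * b') = zab a b * zab a' b' := by
  funext i
  simp only [zab, Pi.mul_apply, mul_zpow]
  exact mul_mul_mul_comm _ _ _ _

/-- The torus in the two coordinates. -/
noncomputable def tau : Fˣ × Fˣ →* GL chevG2.Idx F where
  toFun P := certFullG2.torus (zab P.1 P.2)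
  map_one' := by rw [Prod.fst_one, Prod.snd_one, zab_one, map_one]
  map_mul' P Q := by rw [Prod.fst_mul, Prod.snd_mul, zab_mul, map_mul]

theorem tau_apply (P : Fˣ × Fˣ) : tau P = certFullG2.torus (zab P.1 P.2) := rfl

theorem tau_mem_H (P : Fˣ × Fˣ) : tau P ∈ chevG2.diagonalSubgroup F := certFullG2.torus_mem _

theorem tau_mem_group (P : Fˣ × Fˣ) : tau P ∈ chevG2.group F :=
  certFullG2.B_le_group (certFullG2.H_le_B (tau_mem_H P))

theorem tau_injective [Fintype F] : Function.Injective (tau (F := F)) := fun P Q h => by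
  obtain ⟨h1, h2⟩ := torus_zab_inj h
  exact Prod.ext h1 h2

theorem tchar_zab' (P : Fˣ × Fˣ) (s : ℕ) :
    certFullG2.tchar (zab P.1 P.2) s = ev2 (ex s) P := by
  obtain ⟨hr, -⟩ := torus_values
  rw [Cert.tchar, hr, Finset.prod_range_succ, Finset.prod_range_succ, Finset.prod_range_zero,
    one_mul, (zab_values _ _).1, (zab_values _ _).2, mul_zpow, ev2, ex, zpow_add]
  rw [mul_left_comm]

theorem exists_tau {g : GL chevG2.Idx F} (hg : g ∈ chevG2.diagonalSubgroup F) :
    ∃ P, tau P = g := by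
  rw [certFullG2.diagonalSubgroup_eq] at hg
  obtain ⟨z, rfl⟩ := hg
  refine ⟨(z 1 / z 0, z 0), ?_⟩
  rw [tau_apply, certFullG2.torus_eq_prod z, certFullG2.torus_eq_prod]
  congr 1
  refine List.map_congr_left fun i hi => ?_
  rw [torus_values.1, List.mem_range] at hi
  interval_cases i
  · rw [(zab_values _ _).1]
  · rw [(zab_values _ _).2, div_mul_cancel]

theorem tau_map {K : Type*} [Field K] (σ : F →+* K) (P : Fˣ × Fˣ) [Finite F] [Finite K] :
    Matrix.GeneralLinearGroup.map σ (tau P) =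
      tau (Units.map (σ : F →* K) P.1, Units.map (σ : F →* K) P.2) := by
  rw [tau_apply, tau_apply, ← slHom_dia, ← slHom_dia, ← slHom_map]
  congr 1
  refine Subtype.ext (Matrix.ext fun r s => ?_)
  show σ ((dia P.1 P.2 : Matrix (Fin 3) (Fin 3) F) r s) = _
  fin_cases r <;> fin_cases s <;> simp [dia, map_div₀, map_inv₀]

theorem tau_map_pow [Finite F] (φ : F →+* F) {q : ℕ} (hφ : ∀ t, φ t = t ^ q) (P : Fˣ × Fˣ) :
    Matrix.GeneralLinearGroup.map φ (tau P) = tau (P ^ q) := by
  rw [tau_map]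
  congr 1
  refine Prod.ext ?_ ?_ <;> exact Units.ext (by simp [hφ])

/-- The Weyl group acts by the matrices. -/
theorem nw_tau {L : List ℕ} (hL : L ∈ words) (P : Fˣ × Fˣ) :
    certFullG2.nw F L * tau P * (certFullG2.nw F L)⁻¹ = tau (act (mat L) P) := by
  rw [tau_apply, tau_apply]
  refine certFullG2.nw_conj_torus (words_lt L hL) fun s hs => ?_
  rw [tchar_zab', tchar_zab', ev2_act, ← certFullG2.wlT_eq]
  rw [nroots_eq] at hs
  rw [ex_wl L hL s hs]

/-- Every Weyl word acts as one of the twelve matrices. -/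
theorem exists_word {L : List ℕ} (hL : ∀ p ∈ L, p < chevG2.rank) :
    ∃ M ∈ words, (∀ s < chevG2.nroots, certFullG2.wl L s = certFullG2.wl M s) ∧ ∀ P : Fˣ × Fˣ,
      certFullG2.nw F L * tau P * (certFullG2.nw F L)⁻¹ = tau (act (mat M) P) := by
  obtain ⟨-, hex, -, -⟩ := certFullG2.chain_spec chainG2 chainG2_ok chainG2_len.le
  obtain ⟨M, hM, hs⟩ := hex L (by rw [chainG2_len]; exact hL)
  rw [chain_eq] at hM
  refine ⟨M, hM, fun s hs' => certFullG2.wl_eq_of_same hL (words_lt M hM) hs hs', fun P => ?_⟩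
  rw [tau_apply, tau_apply]
  refine certFullG2.nw_conj_torus hL fun s hs' => ?_
  rw [certFullG2.wl_eq_of_same hL (words_lt M hM) hs hs', tchar_zab', tchar_zab', ev2_act,
    ← certFullG2.wlT_eq]
  rw [nroots_eq] at hs'
  rw [ex_wl M hM s hs']

/-- Conjugate torus elements are in one orbit of the twelve matrices. -/
theorem exists_act_of_conj {P Q : Fˣ × Fˣ} [Fintype F] {g : GL chevG2.Idx F}
    (hg : g ∈ chevG2.group F) (h : g * tau P * g⁻¹ = tau Q) : ∃ A ∈ W12, act A P = Q := by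
  obtain ⟨L, hL, e⟩ := certFullG2.exists_nw_of_conj hg h
  obtain ⟨M, hM, -, hA⟩ := exists_word (F := F) hL
  exact ⟨mat M, List.mem_map_of_mem hM, tau_injective ((hA P).symm.trans e)⟩

end Cfsg.Agent.Lie.Chev.G2Tor
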