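import Cfsg.Agent.Lib.Lie.Chev.G2MinDegreeAvg
import Cfsg.Agent.Lib.Lie.Chev.Bruhat
import Cfsg.Agent.Lib.Lie.Chev.G2TorusAction

/-! A fixed vector of the long-root radical of G₂(q): the projections of its translates. -/

set_option autoImplicit false
set_option linter.unusedSectionVars false
set_option maxRecDepth 20000

namespace Cfsg.Agent.Lie.Chev.G2Deg

open Module Cfsg.Agent.Grp.EigenSplit
open Cfsg.Lie (chevG2)
open scoped ComplexConjugate

/-- The roots of the radical. -/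
abbrev rootsQ : List (Fin 12) := [6, 8, 9, 10, 11]

/-- The positive roots. -/
abbrev rootsU : List (Fin 12) := [6, 7, 8, 9, 10, 11]

/-- The roots of the other radical. -/
abbrev rootsP : List (Fin 12) := [7, 8, 9, 10, 11]

variable {F : Type*} [Field F] [Fintype F]

theorem conj_of_comm {r s : Fin 12} (h : cm s r = true) (a t : F) :
    R s a * R r t * (R s a)⁻¹ = R r t := by
  rw [(comm_of_cm h a t).eq, mul_inv_cancel_right]

theorem conj6_rad (b : F) : ∀ x ∈ rad (F := F) rootsP, R 6 b * x * (R 6 b)⁻¹ ∈ rad rootsP := by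
  refine rad_normalised fun r hr t => ?_
  have hE : ∀ t : F, R 6 b * R 10 t * (R 6 b)⁻¹ ∈ rad rootsP := fun t => by
    have h : R 6 b * R 10 t * (R 6 b)⁻¹ = R 10 t * R 11 (b * t) := by
      rw [mul_inv_eq_iff_eq_mul, mul_assoc, (comm_of_cm (show cm (11 : Fin 12) 6 = true by
        decide +kernel) (b * t) b).eq, ← mul_assoc, rel_EB, mul_assoc (R 6 b * R 10 t), ← R_add,
        neg_add_cancel, R_zero, mul_one]
    rw [h]
    exact mul_mem (R_mem_rad (by simp) _) (R_mem_rad (by simp) _)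
  have h8 : cm (6 : Fin 12) 8 = true := by decide +kernel
  have h9 : cm (6 : Fin 12) 9 = true := by decide +kernel
  have h11 : cm (6 : Fin 12) 11 = true := by decide +kernel
  have hC : ∀ t : F, R 6 b * R 8 t * (R 6 b)⁻¹ ∈ rad rootsP := fun t => by
    rw [conj_of_comm h8]; exact R_mem_rad (by simp) _
  have hD : ∀ t : F, R 6 b * R 9 t * (R 6 b)⁻¹ ∈ rad rootsP := fun t => by
    rw [conj_of_comm h9]; exact R_mem_rad (by simp) _
  have hZ : ∀ t : F, R 6 b * R 11 t * (R 6 b)⁻¹ ∈ rad rootsP := fun t => by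
    rw [conj_of_comm h11]; exact R_mem_rad (by simp) _
  simp only [rootsP, List.mem_cons, List.not_mem_nil, or_false] at hr
  rcases hr with rfl | rfl | rfl | rfl | rfl
  · set c1 := R 8 (t * b)
    set c2 := R 9 (t ^ 2 * b)
    set c3 := R 10 (-(t ^ 3 * b))
    set c4 := R 11 (-(t ^ 3 * b ^ 2))
    rw [rel_BX, show R 7 t * R 6 b * (c1 * (c2 * (c3 * c4))) * (R 6 b)⁻¹ =
      R 7 t * ((R 6 b * c1 * (R 6 b)⁻¹) * ((R 6 b * c2 * (R 6 b)⁻¹) * ((R 6 b * c3 * (R 6 b)⁻¹) *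
        (R 6 b * c4 * (R 6 b)⁻¹)))) by group]
    exact mul_mem (R_mem_rad (by simp) _) (mul_mem (hC _) (mul_mem (hD _) (mul_mem (hE _) (hZ _))))
  · exact hC t
  · exact hD t
  · exact hE t
  · exact hZ t

theorem nA_word : nA F = R 7 1 * R 4 (-1) * R 7 1 := by
  refine Subtype.ext ?_
  simp [nA, R_val, Cert.nw, Cert.np, Cert.ng, show chevG2.simple 0 = 7 from rfl,
    show chevG2.neg 7 = 4 from rfl]

theorem nB_word : nB F = R 6 1 * R 5 (-1) * R 6 1 := by
  refine Subtype.ext ?_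
  simp [nB, R_val, Cert.nw, Cert.np, Cert.ng, show chevG2.simple 1 = 6 from rfl,
    show chevG2.neg 6 = 5 from rfl]

theorem coroot_b : certFullG2.T.coroot 6 0 = 0 ∧ certFullG2.T.coroot 6 1 = 1 := by decide +kernel

theorem n_word (t : Fˣ) :
    R 6 (t : F) * R 5 (-(t : F)⁻¹) * R 6 (t : F) = tor (1 : Fˣ) t * nB F := by
  refine Subtype.ext ?_
  show certFullG2.xg 6 (t : F) * certFullG2.xg 5 (-(t : F)⁻¹) * certFullG2.xg 6 (t : F) =
    certFullG2.torus (fun i => if i = 0 then 1 else t) * certFullG2.nw F [1]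
  have e : certFullG2.torus (fun i => if i = 0 then (1 : Fˣ) else t) = certFullG2.hg 6 (t : F) := by
    rw [certFullG2.hg_eq_torus (show 6 < chevG2.nroots by decide), Cert.torus_apply,
      Cert.torus_apply]
    refine dg_ext _ _ fun u _ => ?_
    simp [Cert.tchar, show chevG2.rank = 2 from rfl, Finset.prod_range_succ, coroot_b.1, coroot_b.2]
  rw [e]
  simp only [Cert.hg, Cert.nw, List.map_cons, List.map_nil, List.prod_cons, List.prod_nil, mul_one,
    Cert.np, show chevG2.simple 1 = 6 from rfl]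
  rw [mul_assoc (certFullG2.ng 6 (t : F)), ← certFullG2.ng_inv, inv_mul_cancel, mul_one, Cert.ng,
    show chevG2.neg 6 = 5 from rfl]

theorem tor_weyl : ((List.range 12).all fun u =>
    certFullG2.T.cartan 0 (certFullG2.T.wlT [1] u) ==
      certFullG2.T.cartan 0 u + 3 * certFullG2.T.cartan 1 u &&
    certFullG2.T.cartan 1 (certFullG2.T.wlT [1] u) == -certFullG2.T.cartan 1 u &&
    certFullG2.T.cartan 0 (certFullG2.T.wlT [0] u) == -certFullG2.T.cartan 0 u &&
    certFullG2.T.cartan 1 (certFullG2.T.wlT [0] u) ==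
      certFullG2.T.cartan 1 u + certFullG2.T.cartan 0 u) = true := by
  decide +kernel

theorem n_torus (p : ℕ) (hp : p < 2) (s t s' t' : Fˣ)
    (h : ∀ u < 12, s ^ certFullG2.T.cartan 0 (certFullG2.T.wlT [p] u) *
        t ^ certFullG2.T.cartan 1 (certFullG2.T.wlT [p] u) =
      s' ^ certFullG2.T.cartan 0 u * t' ^ certFullG2.T.cartan 1 u) :
    certFullG2.nw F [p] * certFullG2.torus (fun i => if i = 0 then s else t) =
      certFullG2.torus (fun i => if i = 0 then s' else t') * certFullG2.nw F [p] := by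
  simp only [Cert.nw, List.map_cons, List.map_nil, List.prod_cons, List.prod_nil, mul_one,
    Cert.np, Cert.torus_apply]
  rw [certFullG2.ng_dg (show p < chevG2.rank from hp)]
  congr 1
  refine dg_ext _ _ fun u hu => ?_
  have e : certFullG2.w p u = certFullG2.T.wlT [p] u := by rw [certFullG2.wlT_eq]; rfl
  simpa [Cert.tchar, show chevG2.rank = 2 from rfl, Finset.prod_range_succ, e] using h u hu

theorem nB_tor (s t : Fˣ) : nB F * tor s t = tor s (s ^ 3 * t⁻¹) * nB F := by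
  refine Subtype.ext (n_torus 1 (by omega) s t s (s ^ 3 * t⁻¹) fun u hu => ?_)
  have h := List.all_eq_true.1 tor_weyl u (List.mem_range.2 hu)
  simp only [Bool.and_eq_true, beq_iff_eq] at h
  rw [h.1.1.1, h.1.1.2, mul_zpow, inv_zpow, zpow_add, zpow_neg, mul_assoc, ← zpow_natCast s 3,
    ← zpow_mul]
  norm_num

theorem nA_tor (s t : Fˣ) : nA F * tor s t = tor (t * s⁻¹) t * nA F := by
  refine Subtype.ext (n_torus 0 (by omega) s t (t * s⁻¹) t fun u hu => ?_)
  have h := List.all_eq_true.1 tor_weyl u (List.mem_range.2 hu)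
  simp only [Bool.and_eq_true, beq_iff_eq] at h
  rw [h.1.2, h.2, mul_zpow, inv_zpow, zpow_add, zpow_neg]
  ac_rfl

theorem rho_one_apply {V : Type*} [AddCommGroup V] [Module ℂ V] (ρ : Gam F →* End ℂ V) (x : V) :
    ρ (1 : Gam F) x = x := by rw [map_one]; rfl

variable {V : Type*} [AddCommGroup V] [Module ℂ V] [FiniteDimensional ℂ V]
  (ρ : Gam F →* End ℂ V)

theorem mem_QV_iff {x : V} : x ∈ QV ρ ↔ ∀ r ∈ rootsQ, ∀ t : F, ρ (R r t) x = x := by
  simp [QV, mem_Eig, rootsQ]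

theorem X_stable_QV (t : F) : Stable (ρ (R 7 t)) (QV ρ) := by
  refine stable_tail ρ (fun p hp t x => ?_) t
  simp only [List.mem_cons, List.not_mem_nil, or_false] at hp
  rcases hp with rfl | rfl | rfl | rfl | rfl
  · refine ⟨_, rel_BX t x, fun v hv => ?_⟩
    simp only [rho_apply, Eig.fixed ρ hv 8 (by simp), Eig.fixed ρ hv 9 (by simp),
      Eig.fixed ρ hv 10 (by simp), Eig.fixed ρ hv 11 (by simp)]
  · refine ⟨_, rel_CX t x, fun v hv => ?_⟩
    simp only [rho_apply, Eig.fixed ρ hv 9 (by simp), Eig.fixed ρ hv 10 (by simp),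
      Eig.fixed ρ hv 11 (by simp)]
  · exact ⟨_, rel_DX t x, fun v hv => Eig.fixed ρ hv 10 (by simp) _⟩
  · exact tail_cm ρ cm_more.2.2.2.2.2.2.2.2.1 t x _
  · exact tail_cm ρ cm_more.2.2.2.2.2.2.2.1 t x _

theorem Y_stable_QV (t : F) : Stable (ρ (R 4 t)) (QV ρ) := by
  refine stable_tail ρ (fun p hp t x => ?_) t
  simp only [List.mem_cons, List.not_mem_nil, or_false] at hp
  rcases hp with rfl | rfl | rfl | rfl | rfl
  · exact tail_cm ρ cm_more.2.2.2.2.2.2.2.2.2.2 t x _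
  · exact ⟨_, rel_CY t x, fun v hv => Eig.fixed ρ hv 6 (by simp) _⟩
  · refine ⟨_, rel_DY t x, fun v hv => ?_⟩
    simp only [rho_apply, Eig.fixed ρ hv 8 (by simp), Eig.fixed ρ hv 6 (by simp),
      Eig.fixed ρ hv 11 (by simp)]
  · refine ⟨_, rel_EY t x, fun v hv => ?_⟩
    simp only [rho_apply, Eig.fixed ρ hv 8 (by simp), Eig.fixed ρ hv 6 (by simp),
      Eig.fixed ρ hv 9 (by simp), Eig.fixed ρ hv 11 (by simp)]
  · exact tail_cm ρ cm_more.2.2.2.2.2.2.2.2.2.1 t x _

theorem tor_stable_QV (s t : Fˣ) : Stable (ρ (tor s t)) (QV ρ) := fun v hv =>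
  tor_maps ρ s t (by simp) v hv

/-- A spanning vector of the fixed space of the radical. -/
structure QVec where
  /-- The vector. -/
  v : V
  mem : v ∈ QV ρ
  ne : v ≠ 0
  span : ∀ x ∈ QV ρ, ∃ a : ℂ, x = a • v
  big : 5 ≤ Fintype.card F

variable {ρ}

theorem exists_QVec (h : finrank ℂ (QV ρ) = 1) (hq : 5 ≤ Fintype.card F) : Nonempty (QVec ρ) := by
  obtain ⟨⟨v, hv⟩, hv0, hs⟩ := finrank_eq_one_iff'.1 h
  refine ⟨⟨v, hv, fun e => hv0 (Subtype.ext e), fun x hx => ?_, hq⟩⟩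
  obtain ⟨a, ha⟩ := hs ⟨x, hx⟩
  exact ⟨a, (congrArg Subtype.val ha).symm⟩

variable (q₀ : QVec ρ)

theorem smul_v_inj {a b : ℂ} (h : a • q₀.v = b • q₀.v) : a = b := smul_left_injective ℂ q₀.ne h

theorem root_trivial {r : Fin 12} (hst : ∀ t, Stable (ρ (R r t)) (QV ρ))
    (hw : ∃ u : Fˣ, (wt r u 1 : F) ≠ 1) (t : F) : ρ (R r t) q₀.v = q₀.v := by
  choose χ hχ using fun t => q₀.span _ (hst t _ q₀.mem)
  obtain ⟨u, hu⟩ := hw
  obtain ⟨κ, hκ⟩ := q₀.span _ (tor_stable_QV ρ u 1 _ q₀.mem)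
  set k := (wt r u 1 : F)
  have hadd : ∀ a b, χ (a + b) = χ a * χ b := fun a b => smul_v_inj q₀ (by
    rw [← hχ, R_add, rho_apply, hχ, map_smul, hχ, smul_smul, mul_comm])
  have h0 : χ 0 = 1 := smul_v_inj q₀ (by rw [← hχ, R_zero, rho_one_apply, one_smul])
  have hne : ∀ a, χ a ≠ 0 := fun a e => by
    have := hadd a (-a)
    rw [add_neg_cancel, h0, e, zero_mul] at this
    exact one_ne_zero this
  have hκ0 : κ ≠ 0 := fun e => q₀.ne (rho_injective ρ (tor u 1) (by
    rw [hκ, e, zero_smul, map_zero]))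
  have hs : ∀ a, χ (k * a) = χ a := fun a => by
    have e := congrArg (fun g => ρ g q₀.v) (tor_rel r u 1 a)
    simp only [rho_apply, hχ, map_smul, hκ, smul_smul] at e
    exact mul_left_cancel₀ hκ0 ((smul_v_inj q₀ e).symm.trans (mul_comm _ _))
  have e := hadd t ((k - 1)⁻¹ * t)
  rw [show t + (k - 1)⁻¹ * t = k * ((k - 1)⁻¹ * t) by
    field_simp [sub_ne_zero.2 hu]; ring, hs] at e
  rw [hχ, (mul_eq_right₀ (hne _)).1 e.symm, one_smul]

theorem X_fix (t : F) : ρ (R 7 t) q₀.v = q₀.v := by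
  obtain ⟨u, hu, -⟩ := exists_scalar q₀.big
  exact root_trivial q₀ (X_stable_QV ρ) ⟨u, by rw [(wt_values u 1).2.2.2.1]; simpa using hu⟩ t

theorem Y_fix (t : F) : ρ (R 4 t) q₀.v = q₀.v := by
  obtain ⟨u, hu, -⟩ := exists_scalar q₀.big
  exact root_trivial q₀ (Y_stable_QV ρ) ⟨u, by rw [(wt_values u 1).1]; simpa using hu⟩ t

theorem U_fix {g : Gam F} (hg : g ∈ rad rootsU) : ρ g q₀.v = q₀.v := by
  refine rad_fixes ρ (fun r hr t => ?_) hg
  by_cases h : r = 7
  · subst h; exact X_fix q₀ t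
  · refine (mem_QV_iff ρ).1 q₀.mem r ?_ t
    simp only [rootsU, rootsQ, List.mem_cons, List.not_mem_nil, or_false] at hr ⊢
    tauto

theorem nA_fix : ρ (nA F) q₀.v = q₀.v := by
  rw [nA_word, rho_apply, rho_apply, X_fix, Y_fix, X_fix]

theorem avgU_mem (x : V) : avg ρ (rad rootsU) x ∈ QV ρ :=
  (mem_QV_iff ρ).2 fun r hr t => avg_left ρ _ (R_mem_rad (by
    simp only [rootsU, rootsQ, List.mem_cons, List.not_mem_nil, or_false] at hr ⊢
    tauto) t) x

/-- The coefficient of the projection to the vector. -/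
noncomputable def cf (x : V) : ℂ := (q₀.span _ (avgU_mem x)).choose

theorem cf_spec (x : V) : avg ρ (rad rootsU) x = cf q₀ x • q₀.v :=
  (q₀.span _ (avgU_mem x)).choose_spec

theorem cf_eq {x : V} {a : ℂ} (h : avg ρ (rad rootsU) x = a • q₀.v) : cf q₀ x = a :=
  smul_v_inj q₀ (by rw [← cf_spec, h])

theorem cf_smul (a : ℂ) (x : V) : cf q₀ (a • x) = a * cf q₀ x :=
  cf_eq q₀ (by rw [map_smul, cf_spec, smul_smul])

theorem cf_sum {ι : Type*} (s : Finset ι) (f : ι → V) :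
    cf q₀ (∑ i ∈ s, f i) = ∑ i ∈ s, cf q₀ (f i) :=
  cf_eq q₀ (by rw [map_sum, Finset.sum_smul, Finset.sum_congr rfl fun i _ => cf_spec q₀ (f i)])

theorem cf_v : cf q₀ q₀.v = 1 :=
  cf_eq q₀ (by rw [avg_fix ρ _ fun h hh => U_fix q₀ hh, one_smul])

theorem cf_U {u : Gam F} (hu : u ∈ rad rootsU) (x : V) : cf q₀ (ρ u x) = cf q₀ x :=
  cf_eq q₀ (by rw [avg_right ρ _ hu, cf_spec])

theorem frm_v (x : V) : frm ρ q₀.v x = cf q₀ x * frm ρ q₀.v q₀.v := by
  rw [← frm_avg_fixed ρ (rad rootsU) (fun h hh => U_fix q₀ hh) x, cf_spec q₀ x, frm_smul]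

theorem frm_v_ne : frm ρ q₀.v q₀.v ≠ 0 := fun e => q₀.ne (frm_self ρ e)

/-- The matrix coefficient of the vector. -/
noncomputable def mc (g : Gam F) : ℂ := cf q₀ (ρ g q₀.v)

theorem mc_inv (g : Gam F) : mc q₀ g⁻¹ = conj (mc q₀ g) := by
  have hr : conj (frm ρ q₀.v q₀.v) = frm ρ q₀.v q₀.v := frm_conj ρ _ _
  refine mul_right_cancel₀ (frm_v_ne q₀) ?_
  rw [mc, mc, ← frm_v, frm_adjoint, inv_inv]
  conv_rhs => rw [← hr, ← map_mul, ← frm_v, frm_conj]

/-- The character of the torus on the vector. -/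
noncomputable def chi (s t : Fˣ) : ℂ := (q₀.span _ (tor_stable_QV ρ s t _ q₀.mem)).choose

theorem chi_spec (s t : Fˣ) : ρ (tor s t) q₀.v = chi q₀ s t • q₀.v :=
  (q₀.span _ (tor_stable_QV ρ s t _ q₀.mem)).choose_spec

theorem chi_ne (s t : Fˣ) : chi q₀ s t ≠ 0 := fun e => q₀.ne (rho_injective ρ (tor s t) (by
  rw [chi_spec q₀, e, zero_smul, map_zero]))

theorem chi_mul (s t s' t' : Fˣ) : chi q₀ (s * s') (t * t') = chi q₀ s t * chi q₀ s' t' :=
  smul_v_inj q₀ (by
    rw [← chi_spec, ← tor_mul, rho_apply, chi_spec, map_smul, chi_spec, smul_smul, mul_comm])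

theorem chi_norm (s t : Fˣ) : Complex.normSq (chi q₀ s t) = 1 := by
  have h := frm_inv ρ (tor s t) q₀.v q₀.v
  rw [chi_spec, frm_smul, ← frm_conj ρ q₀.v, frm_smul, map_mul, frm_conj, ← mul_assoc,
    Complex.mul_conj] at h
  exact_mod_cast (mul_eq_right₀ (frm_v_ne q₀)).1 h

theorem tor_rad (S : List (Fin 12)) (s t : Fˣ) :
    ∀ x ∈ rad (F := F) S, tor s t * x * (tor s t)⁻¹ ∈ rad S :=
  rad_normalised fun r hr x => by
    rw [tor_rel, mul_inv_cancel_right]; exact R_mem_rad hr _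

theorem cf_tor (s t : Fˣ) (x : V) : cf q₀ (ρ (tor s t) x) = chi q₀ s t * cf q₀ x :=
  cf_eq q₀ (by
    rw [← avg_conj ρ _ (tor_rad _ s t), cf_spec q₀ x, map_smul, chi_spec q₀, smul_smul, mul_comm])

theorem nA_rad : ∀ x ∈ rad (F := F) rootsQ, nA F * x * (nA F)⁻¹ ∈ rad rootsQ := by
  refine rad_normalised fun r hr x => ?_
  simp only [rootsQ, List.mem_cons, List.not_mem_nil, or_false] at hr
  rcases hr with rfl | rfl | rfl | rfl | rfl
  · rw [nA_rel (r := 6) (s := 10) (k := 1) (by simp), mul_inv_cancel_right]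
    exact R_mem_rad (by simp) _
  · rw [nA_rel (r := 8) (s := 9) (k := 1) (by simp), mul_inv_cancel_right]
    exact R_mem_rad (by simp) _
  · rw [nA_rel (r := 9) (s := 8) (k := -1) (by simp), mul_inv_cancel_right]
    exact R_mem_rad (by simp) _
  · rw [nA_rel (r := 10) (s := 6) (k := -1) (by simp), mul_inv_cancel_right]
    exact R_mem_rad (by simp) _
  · rw [nA_rel (r := 11) (s := 11) (k := 1) (by simp), mul_inv_cancel_right]
    exact R_mem_rad (by simp) _

theorem nB_rad : ∀ x ∈ rad (F := F) rootsP, nB F * x * (nB F)⁻¹ ∈ rad rootsP := by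
  refine rad_normalised fun r hr x => ?_
  simp only [rootsP, List.mem_cons, List.not_mem_nil, or_false] at hr
  rcases hr with rfl | rfl | rfl | rfl | rfl
  · rw [nB_rel (r := 7) (s := 8) (k := 1) (by simp), mul_inv_cancel_right]
    exact R_mem_rad (by simp) _
  · rw [nB_rel (r := 8) (s := 7) (k := -1) (by simp), mul_inv_cancel_right]
    exact R_mem_rad (by simp) _
  · rw [nB_rel (r := 9) (s := 9) (k := 1) (by simp), mul_inv_cancel_right]
    exact R_mem_rad (by simp) _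
  · rw [nB_rel (r := 10) (s := 11) (k := 1) (by simp), mul_inv_cancel_right]
    exact R_mem_rad (by simp) _
  · rw [nB_rel (r := 11) (s := 10) (k := -1) (by simp), mul_inv_cancel_right]
    exact R_mem_rad (by simp) _

theorem rad_mono {S T : List (Fin 12)} (h : ∀ r ∈ S, r ∈ T) : rad (F := F) S ≤ rad T :=
  (Subgroup.closure_le _).2 fun _ ⟨r, hr, t, e⟩ => e ▸ R_mem_rad (h r hr) t

theorem Q_le_U : rad (F := F) rootsQ ≤ rad rootsU :=
  rad_mono fun r hr => by simp only [rootsQ, rootsU, List.mem_cons] at hr ⊢; tauto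

theorem P_le_U : rad (F := F) rootsP ≤ rad rootsU :=
  rad_mono fun r hr => by simp only [rootsP, rootsU, List.mem_cons] at hr ⊢; tauto

theorem cf_nA (x : V) : cf q₀ (ρ (nA F) x) = cf q₀ x := by
  obtain ⟨a, ha⟩ := q₀.span (avg ρ (rad rootsQ) x)
    ((mem_QV_iff ρ).2 fun r hr t => avg_left ρ _ (R_mem_rad hr t) x)
  have e : avg ρ (rad rootsQ) (ρ (nA F) x) = a • q₀.v := by
    rw [← avg_conj ρ _ nA_rad, ha, map_smul, nA_fix]
  have h : ∀ y, avg ρ (rad rootsQ) y = a • q₀.v → cf q₀ y = a := fun y hy => cf_eq q₀ (by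
    rw [← avg_comp ρ Q_le_U, hy, map_smul, avg_fix ρ _ fun g hg => U_fix q₀ hg])
  rw [h _ e, h x ha]

theorem cf_nB {x : V} (hx : ∀ t : F, ρ (R 6 t) x = x) :
    cf q₀ (ρ (nB F) x) = cf q₀ x * mc q₀ (nB F) := by
  set y := avg ρ (rad rootsP) x with hy
  have h6 : ∀ t : F, ρ (R 6 t) y = y := fun t => by
    rw [hy, avg_conj ρ _ (conj6_rad t), hx]
  have hU : ∀ g ∈ rad (F := F) rootsU, ρ g y = y := fun g hg => rad_fixes ρ (fun r hr t => by
    by_cases h : r = 6
    · subst h; exact h6 t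
    · refine avg_left ρ _ (R_mem_rad ?_ t) x
      simp only [rootsU, rootsP, List.mem_cons, List.not_mem_nil, or_false] at hr ⊢
      tauto) hg
  have e : y = cf q₀ x • q₀.v := by rw [← cf_spec, ← avg_comp ρ P_le_U, ← hy, avg_fix ρ _ hU]
  refine cf_eq q₀ ?_
  rw [← avg_comp ρ P_le_U, ← avg_conj ρ _ nB_rad, ← hy, e, map_smul, map_smul, cf_spec q₀, smul_smul]
  rfl

theorem mc_inv_nB : ρ (nB F)⁻¹ q₀.v = chi q₀ 1 (-1) • ρ (nB F) q₀.v := by
  have h : (nB F)⁻¹ = tor 1 (-1) * nB F := by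
    rw [← n_word]
    rw [nB_word, mul_inv_rev, mul_inv_rev, R_inv, R_inv, mul_assoc]
    simp
  have hc : nB F * tor 1 (-1) = tor 1 (-1) * nB F := by
    rw [nB_tor]; simp
  rw [h, ← hc, rho_apply, chi_spec, map_smul]

theorem chi_eq_one (ha : mc q₀ (nB F) ≠ 0) (t : Fˣ) : chi q₀ 1 t = 1 := by
  have hB : ∀ s t, chi q₀ s t = chi q₀ s (s ^ 3 * t⁻¹) := fun s t => by
    have h := congrArg (fun g => cf q₀ (ρ g q₀.v)) (nB_tor s t)
    simp only [rho_apply, chi_spec q₀, map_smul, cf_smul, cf_tor] at h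
    exact mul_right_cancel₀ ha h
  have hA : ∀ s t, chi q₀ s t = chi q₀ (t * s⁻¹) t := fun s t => by
    have h := congrArg (fun g => cf q₀ (ρ g q₀.v)) (nA_tor s t)
    simp only [rho_apply, chi_spec q₀, map_smul, cf_smul, cf_tor, nA_fix, cf_v, mul_one] at h
    exact h
  have hone : chi q₀ 1 1 = 1 := smul_v_inj q₀ (by
    rw [← chi_spec, tor_one, rho_one_apply, one_smul])
  have hs1 : ∀ t, chi q₀ t 1 = 1 := fun t => by
    have h := hA 1 t
    rw [inv_one, mul_one, show chi q₀ t t = chi q₀ t 1 * chi q₀ 1 t by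
      rw [← chi_mul, mul_one, one_mul]] at h
    exact (mul_eq_right₀ (chi_ne q₀ 1 t)).1 h.symm
  have h2 : ∀ t, chi q₀ 1 t * chi q₀ 1 t = 1 := fun t => by
    have h := hB 1 t
    rw [one_pow, one_mul] at h
    nth_rw 2 [h]
    rw [← chi_mul, one_mul, mul_inv_cancel, hone]
  have h3 := hB t 1
  rw [inv_one, mul_one, hs1, show chi q₀ t (t ^ 3) = chi q₀ t 1 * (chi q₀ 1 t *
      (chi q₀ 1 t * chi q₀ 1 t)) by
    rw [← chi_mul, ← chi_mul, ← chi_mul, one_mul, one_mul, mul_one, one_mul, pow_three],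
    hs1, h2, one_mul, mul_one] at h3
  exact h3.symm

theorem conj5 (x : F) : R 5 x = nB F * R 6 (-x) * (nB F)⁻¹ := by
  rw [nB_rel (r := 6) (s := 5) (k := -1) (by simp), mul_inv_cancel_right]
  simp

/-- The quadratic relation. -/
theorem mc_nB_cases : mc q₀ (nB F) = 0 ∨ mc q₀ (nB F) = 1 ∨
    (Fintype.card F : ℂ) * mc q₀ (nB F) = -1 := by
  classical
  by_cases ha : mc q₀ (nB F) = 0
  · exact Or.inl ha
  right
  set a := mc q₀ (nB F) with hadef
  set w := ρ (nB F) q₀.v with hw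
  have hinv : ρ (nB F)⁻¹ q₀.v = w := by rw [mc_inv_nB, chi_eq_one q₀ ha, one_smul]
  have hwP : ∀ g ∈ rad (F := F) rootsP, ρ g w = w := by
    intro g hg
    have e : avg ρ (rad rootsP) w = w := by
      rw [hw, ← avg_conj ρ _ nB_rad, avg_fix ρ _ fun g hg => U_fix q₀ (P_le_U hg)]
    rw [← e, avg_left ρ _ hg]
  set y := ∑ b : F, ρ (R 6 b) w with hy
  have hyU : ∀ g ∈ rad (F := F) rootsU, ρ g y = y := fun g hg => rad_fixes ρ (fun r hr t => by
    rw [hy, map_sum]
    by_cases h : r = 6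
    · subst h
      refine Fintype.sum_equiv (Equiv.addLeft t) _ _ fun b => ?_
      rw [← rho_apply, ← R_add]; rfl
    · refine Finset.sum_congr rfl fun b _ => ?_
      have hr' : r ∈ rootsP := by
        simp only [rootsU, rootsP, List.mem_cons, List.not_mem_nil, or_false] at hr ⊢
        tauto
      have hm := conj6_rad (-b) _ (R_mem_rad hr' t)
      rw [← rho_apply, show R r t * R 6 b = R 6 b * (R 6 (-b) * R r t * (R 6 (-b))⁻¹) by
        rw [R_inv, neg_neg, ← mul_assoc, ← mul_assoc, ← R_add, add_neg_cancel, R_zero, one_mul],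
        rho_apply, hwP _ hm]) hg
  have hyv : y = ((Fintype.card F : ℂ) * a) • q₀.v := by
    rw [← avg_fix ρ _ hyU, cf_spec q₀]
    congr 1
    rw [hy, cf_sum, Finset.sum_congr rfl fun b _ => cf_U q₀ (R_mem_rad (by simp) b) w,
      Finset.sum_const, Finset.card_univ, nsmul_eq_mul]
    rfl
  have hsum : cf q₀ (∑ x : F, ρ (R 5 x) q₀.v) = (Fintype.card F : ℂ) * a * a := by
    rw [show ∑ x : F, ρ (R 5 x) q₀.v = ρ (nB F) y by
      rw [hy, map_sum]
      refine Fintype.sum_equiv (Equiv.neg F) _ _ fun x => ?_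
      rw [conj5, rho_apply, rho_apply, hinv]
      rfl, hyv, map_smul, cf_smul]
    rfl
  have hterm : ∀ x : F, x ≠ 0 → cf q₀ (ρ (R 5 x) q₀.v) = a := by
    intro x hx
    set t := Units.mk0 (-x⁻¹) (neg_ne_zero.2 (inv_ne_zero hx))
    have e : R 5 x = R 6 (-(t : F)) * (tor 1 t * nB F) * R 6 (-(t : F)) := by
      rw [← n_word]
      have : -(t : F)⁻¹ = x := by simp [t]
      rw [this]
      simp only [mul_assoc]
      rw [← R_add, add_neg_cancel, R_zero, mul_one, ← mul_assoc, ← R_add, neg_add_cancel, R_zero,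
        one_mul]
    rw [e, rho_apply, rho_apply, U_fix q₀ (R_mem_rad (by simp) _), cf_U q₀ (R_mem_rad (by simp) _),
      rho_apply, cf_tor, chi_eq_one q₀ ha, one_mul]
    rfl
  rw [cf_sum, ← Finset.add_sum_erase _ _ (Finset.mem_univ (0 : F)), R_zero, rho_one_apply, cf_v,
    Finset.sum_congr rfl fun x hx => hterm x (Finset.ne_of_mem_erase hx), Finset.sum_const,
    Finset.card_erase_of_mem (Finset.mem_univ _), Finset.card_univ, nsmul_eq_mul,
    Nat.cast_sub Fintype.card_pos, Nat.cast_one] at hsum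
  have hfac : ((Fintype.card F : ℂ) * a + 1) * (a - 1) = 0 := by linear_combination -hsum
  rcases mul_eq_zero.1 hfac with h | h
  · exact Or.inr (by linear_combination h)
  · exact Or.inl (by linear_combination h)

theorem nB_fix (h : mc q₀ (nB F) = 1) : ρ (nB F) q₀.v = q₀.v := by
  set w := ρ (nB F) q₀.v
  have h1 : frm ρ q₀.v w = frm ρ q₀.v q₀.v := by
    rw [frm_v q₀ w, show cf q₀ w = 1 from h, one_mul]
  have h2 : frm ρ w w = frm ρ q₀.v q₀.v := frm_inv ρ _ _ _
  have h3 : frm ρ w q₀.v = frm ρ q₀.v q₀.v := by rw [← frm_conj, h1, frm_conj]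
  refine sub_eq_zero.1 (frm_self ρ ?_)
  rw [frm_sub, ← frm_conj ρ w, ← frm_conj ρ q₀.v, frm_sub, frm_sub, h1, h2, h3]
  simp

theorem root_orbit : ∀ r < 12, ∃ L ∈ G2Tor.words, certFullG2.T.wlT L 6 = r ∨
    certFullG2.T.wlT L 7 = r := by
  decide +kernel

theorem fixed_all (h : mc q₀ (nB F) = 1) (g : Gam F) : ρ g q₀.v = q₀.v := by
  have hn : ∀ L : List ℕ, (∀ p ∈ L, p < 2) → ∃ n : Gam F,
      (n : GL chevG2.Idx F) = certFullG2.nw F L ∧ ρ n q₀.v = q₀.v := by
    intro L hL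
    induction L with
    | nil => exact ⟨1, rfl, rho_one_apply ρ _⟩
    | cons p L ih =>
      obtain ⟨n, hn, hf⟩ := ih fun x hx => hL x (List.mem_cons_of_mem _ hx)
      have hp : p = 0 ∨ p = 1 := by have := hL p List.mem_cons_self; omega
      rcases hp with rfl | rfl
      · refine ⟨nA F * n, ?_, by rw [rho_apply, hf, nA_fix]⟩
        rw [Subgroup.coe_mul, hn]; simp [nA, Cert.nw]
      · refine ⟨nB F * n, ?_, by rw [rho_apply, hf, nB_fix q₀ h]⟩
        rw [Subgroup.coe_mul, hn]; simp [nB, Cert.nw]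
  have hroot : ∀ (r : Fin 12) (t : F), ρ (R r t) q₀.v = q₀.v := by
    intro r t
    obtain ⟨L, hL, hLr⟩ := root_orbit r r.2
    have hL2 : ∀ p ∈ L, p < 2 := G2Tor.words_lt L hL
    obtain ⟨n, hn', hf⟩ := hn L hL2
    obtain ⟨s, hs, hsr⟩ : ∃ s : Fin 12, s ∈ rootsU ∧ certFullG2.T.wlT L s = r := by
      rcases hLr with e | e
      exacts [⟨6, by simp, e⟩, ⟨7, by simp, e⟩]
    have hrel : ∀ x, n * R s x = R r ((certFullG2.wsign L s : F) * x) * n := fun x => by
      refine Subtype.ext ?_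
      rw [Subgroup.coe_mul, Subgroup.coe_mul, hn', R_val, R_val,
        certFullG2.nw_mul_xg hL2 (show (s : ℕ) < chevG2.nroots from s.2), ← certFullG2.wlT_eq, hsr]
    have e := congrArg (fun g => ρ g q₀.v) (hrel ((certFullG2.wsign L s : F)⁻¹ * t))
    simp only [rho_apply, hf, U_fix q₀ (R_mem_rad hs _),
      mul_inv_cancel_left₀ (certFullG2.wsign_ne_zero (F := F) L s)] at e
    exact e.symm
  obtain ⟨g, hg⟩ := g
  have hg' := hg
  rw [certFullG2.group_eq] at hg'
  suffices H : ∀ hg : g ∈ chevG2.group F, ρ ⟨g, hg⟩ q₀.v = q₀.v from H hg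
  clear hg
  induction hg' using Subgroup.closure_induction with
  | mem x hx =>
    obtain ⟨r, hr, t, rfl⟩ := hx
    exact fun _ => hroot ⟨r, hr⟩ t
  | one => exact fun _ => rho_one_apply ρ _
  | mul x y hx hy ihx ihy =>
    intro hxy
    have h1 : x ∈ chevG2.group F := by rw [certFullG2.group_eq]; exact hx
    have h2 : y ∈ chevG2.group F := by rw [certFullG2.group_eq]; exact hy
    rw [show (⟨x * y, hxy⟩ : Gam F) = ⟨x, h1⟩ * ⟨y, h2⟩ from rfl, rho_apply, ihy, ihx]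
  | inv x hx ih =>
    intro hxi
    have h1 : x ∈ chevG2.group F := by rw [certFullG2.group_eq]; exact hx
    refine rho_injective ρ ⟨x, h1⟩ ?_
    rw [← rho_apply, show (⟨x, h1⟩ : Gam F) * ⟨x⁻¹, hxi⟩ = 1 from Subtype.ext (mul_inv_cancel x),
      rho_one_apply, ih]

end Cfsg.Agent.Lie.Chev.G2Deg
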