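import Cfsg.Agent.Lib.Lie.Chev.G2MinDegreeBase

/-! The characters of the long-root radical of G₂(q) when three is invertible. -/

set_option autoImplicit false
set_option linter.unusedSectionVars false

namespace Cfsg.Agent.Lie.Chev.G2Deg

open Module Cfsg.Agent.Grp.EigenSplit

variable {F : Type*} [Field F] [Fintype F] {V : Type*} [AddCommGroup V] [Module ℂ V]
  (ρ : Gam F →* End ℂ V)

theorem cm_more : cm (11 : Fin 12) 9 = true ∧ cm (10 : Fin 12) 9 = true ∧ cm (11 : Fin 12) 8 = true ∧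
    cm (10 : Fin 12) 8 = true ∧ cm (11 : Fin 12) 6 = true ∧ cm (9 : Fin 12) 6 = true ∧
    cm (8 : Fin 12) 6 = true ∧ cm (11 : Fin 12) 7 = true ∧ cm (10 : Fin 12) 7 = true ∧
    cm (11 : Fin 12) 4 = true ∧ cm (6 : Fin 12) 4 = true := by
  decide +kernel

theorem C_shift {ζ η δ : F} (c : F) :
    ∀ v ∈ Eig ρ [(11, ζ), (10, η), (9, δ)],
      ρ (R 8 c) v ∈ Eig ρ [(11, ζ), (10, η), (9, δ - 3 * ζ * c)] := fun v hv => by
  obtain ⟨-, -, c118, c108, -⟩ := cm_more
  simp only [mem_Eig, List.forall_mem_cons, List.forall_mem_singleton, List.not_mem_nil,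
    false_implies, implies_true,
    and_true] at hv ⊢
  obtain ⟨hz, he, hd⟩ := hv
  refine ⟨fun x => ?_, fun x => ?_, fun x => ?_⟩
  · rw [← rho_apply, (comm_of_cm c118 x c).eq, rho_apply, hz, map_smul]
  · rw [← rho_apply, (comm_of_cm c108 x c).eq, rho_apply, he, map_smul]
  · rw [← rho_apply, rel_DC, rho_apply, rho_apply, hz, map_smul, map_smul, hd, map_smul,
      smul_merge]
    congr 2
    ring

theorem X_shift {η δ : F} (t : F) :
    ∀ v ∈ Eig ρ [(11, 0), (10, η), (9, δ)],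
      ρ (R 7 t) v ∈ Eig ρ [(11, 0), (10, η), (9, δ - 3 * η * t)] := fun v hv => by
  obtain ⟨-, -, -, -, -, -, -, c117, c107, -⟩ := cm_more
  simp only [mem_Eig, List.forall_mem_cons, List.forall_mem_singleton, List.not_mem_nil,
    false_implies, implies_true,
    and_true] at hv ⊢
  obtain ⟨hz, he, hd⟩ := hv
  refine ⟨fun x => ?_, fun x => ?_, fun x => ?_⟩
  · rw [← rho_apply, (comm_of_cm c117 x t).eq, rho_apply, hz, map_smul]
  · rw [← rho_apply, (comm_of_cm c107 x t).eq, rho_apply, he, map_smul]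
  · rw [← rho_apply, rel_DX, rho_apply, rho_apply, he, map_smul, map_smul, hd, map_smul,
      smul_merge]
    congr 2
    ring

theorem stable_D {ζ η : F} (t : F) : Stable (ρ (R 9 t)) (Eig ρ [(11, ζ), (10, η)]) :=
  stable_cm ρ (by simp; decide +kernel) t

theorem stable_C {η δ : F} (t : F) : Stable (ρ (R 8 t)) (Eig ρ [(9, δ), (11, 0), (10, η)]) := by
  refine stable_tail ρ (fun p hp t x => ?_) t
  simp only [List.mem_cons, List.not_mem_nil, or_false] at hp
  rcases hp with rfl | rfl | rfl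
  · exact ⟨_, rel_DC t x, fun v hv => Eig.fixed ρ hv 11 (by simp) _⟩
  · exact tail_cm ρ cm_more.2.2.1 t x _
  · exact tail_cm ρ cm_more.2.2.2.1 t x _

theorem stable_B {η δ γ : F} (t : F) :
    Stable (ρ (R 6 t)) (Eig ρ [(8, γ), (9, δ), (11, 0), (10, η)]) := by
  refine stable_tail ρ (fun p hp t x => ?_) t
  simp only [List.mem_cons, List.not_mem_nil, or_false] at hp
  rcases hp with rfl | rfl | rfl | rfl
  · exact tail_cm ρ cm_more.2.2.2.2.2.2.1 t x _
  · exact tail_cm ρ cm_more.2.2.2.2.2.1 t x _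
  · exact tail_cm ρ cm_more.2.2.2.2.1 t x _
  · exact ⟨_, rel_EB t x, fun v hv => Eig.fixed ρ hv 11 (by simp) _⟩

theorem char_unique {L L' : List (Fin 12 × F)} {v : V} (hv : v ∈ Eig ρ L) (hv' : v ∈ Eig ρ L')
    (h0 : v ≠ 0) {r : Fin 12} {a b : F} (ha : (r, a) ∈ L) (hb : (r, b) ∈ L') : a = b :=
  eq_of_psi fun x => smul_left_injective ℂ h0
    ((Eig.app ρ hv r a ha x).symm.trans (Eig.app ρ hv' r b hb x))

/-- The orbit of the characters which are non-trivial on E only. -/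
theorem X_pure {η : F} (s : F) :
    ∀ v ∈ Eig ρ [(6, 0), (8, 0), (9, 0), (10, η), (11, 0)],
      ρ (R 7 s) v ∈ Eig ρ [(6, -(η * s ^ 3)), (8, -(3 * η * s ^ 2)), (9, -(3 * η * s)), (10, η),
        (11, 0)] := fun v hv => by
  obtain ⟨-, -, -, -, -, -, -, c117, c107, -⟩ := cm_more
  simp only [mem_Eig, List.forall_mem_cons, List.forall_mem_singleton, List.not_mem_nil,
    false_implies, implies_true,
    and_true] at hv ⊢
  obtain ⟨hb, hc, hd, he, hz⟩ := hv
  refine ⟨fun x => ?_, fun x => ?_, fun x => ?_, fun x => ?_, fun x => ?_⟩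
  · rw [← rho_apply, rel_BX]
    simp only [rho_apply, hb, hc, hd, he, hz, map_smul, smul_merge, zero_mul,
      AddChar.map_zero_eq_one, one_smul]
    congr 2
    ring
  · rw [← rho_apply, rel_CX]
    simp only [rho_apply, hb, hc, hd, he, hz, map_smul, smul_merge, zero_mul,
      AddChar.map_zero_eq_one, one_smul]
    congr 2
    ring
  · rw [← rho_apply, rel_DX]
    simp only [rho_apply, hb, hc, hd, he, hz, map_smul, smul_merge, zero_mul,
      AddChar.map_zero_eq_one, one_smul]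
    congr 2
    ring
  · rw [← rho_apply, (comm_of_cm c107 x s).eq, rho_apply, he, map_smul]
  · rw [← rho_apply, (comm_of_cm c117 x s).eq, rho_apply, hz, map_smul]

theorem Y_move {β γ δ : F} (u : F) :
    ∀ v ∈ Eig ρ [(6, β), (8, γ), (9, δ), (11, 0), (10, 0)],
      ρ (R 4 u) v ∈ Eig ρ [(6, β), (8, γ + 3 * u * β), (9, δ + 2 * u * γ + 3 * u ^ 2 * β),
        (10, -(u * δ) - u ^ 2 * γ - u ^ 3 * β), (11, 0)] := fun v hv => by
  obtain ⟨-, -, -, -, -, -, -, -, -, c114, c64⟩ := cm_more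
  simp only [mem_Eig, List.forall_mem_cons, List.forall_mem_singleton, List.not_mem_nil,
    false_implies, implies_true,
    and_true] at hv ⊢
  obtain ⟨hb, hc, hd, hz, he⟩ := hv
  refine ⟨fun x => ?_, fun x => ?_, fun x => ?_, fun x => ?_, fun x => ?_⟩
  · rw [← rho_apply, (comm_of_cm c64 x u).eq, rho_apply, hb, map_smul]
  · rw [← rho_apply, rel_CY]
    simp only [rho_apply, hb, hc, hd, he, hz, map_smul, smul_merge, zero_mul,
      AddChar.map_zero_eq_one, one_smul]
    congr 2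
    ring
  · rw [← rho_apply, rel_DY]
    simp only [rho_apply, hb, hc, hd, he, hz, map_smul, smul_merge, zero_mul,
      AddChar.map_zero_eq_one, one_smul]
    congr 2
    ring
  · rw [← rho_apply, rel_EY]
    simp only [rho_apply, hb, hc, hd, he, hz, map_smul, smul_merge, zero_mul,
      AddChar.map_zero_eq_one, one_smul]
    congr 2
    ring
  · rw [← rho_apply, (comm_of_cm c114 x u).eq, rho_apply, hz, map_smul]

theorem concentrate (f : F → ℕ) {c : F} (hc1 : c ≠ 1) (h1 : ∑ χ, f χ = 1)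
    (hinv : ∀ χ, f χ = f (χ * c)) : f 0 = 1 ∧ ∀ χ, χ ≠ 0 → f χ = 0 := by
  classical
  have key : ∀ χ, χ ≠ 0 → f χ = 0 := fun χ hχ => by
    by_contra hne
    have hne' : χ ≠ χ * c := fun e => hc1 (mul_left_cancel₀ hχ (by rw [mul_one]; exact e.symm))
    have := Finset.sum_le_sum_of_subset (f := f) (Finset.subset_univ ({χ, χ * c} : Finset F))
    rw [Finset.sum_pair hne', ← hinv, h1] at this
    omega
  refine ⟨?_, key⟩
  rwa [sum_zero_split f 0 key, mul_zero, add_zero] at h1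

theorem exists_scalar (hq : 5 ≤ Fintype.card F) :
    ∃ u : Fˣ, (u : F) ^ 2 ≠ 1 ∧ (u : F) ^ 3 ≠ 1 := by
  obtain ⟨g, hg⟩ := IsCyclic.exists_generator (α := Fˣ)
  have ho : orderOf g = Fintype.card F - 1 := by
    classical
    rw [orderOf_eq_card_of_forall_mem_zpowers hg, Nat.card_eq_fintype_card, Fintype.card_units]
  refine ⟨g, fun e => ?_, fun e => ?_⟩ <;>
  · have h := orderOf_dvd_of_pow_eq_one (Units.ext (by rw [Units.val_pow_eq_pow_val, e,
      Units.val_one]) : g ^ _ = 1)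
    have := Nat.le_of_dvd (by norm_num) h
    omega

variable [FiniteDimensional ℂ V]

/-- The multiplicity. -/
noncomputable def mult : ℕ := finrank ℂ (Eig ρ [(11, (1 : F)), (10, 0), (9, 0)])

theorem N_eq_mult (h3 : (3 : F) ≠ 0) : N ρ = Fintype.card F * mult ρ := by
  rw [N, ← split ρ 9 (stable_D ρ), Finset.sum_congr rfl fun δ _ => (Eig_congr ρ
      (L' := [(11, 1), (10, 0), (9, δ)]) (by simp) (by simp)).trans
      (show finrank ℂ (Eig ρ [((11 : Fin 12), (1 : F)), (10, 0), (9, δ)]) = mult ρ from ?_),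
    Finset.sum_const, Finset.card_univ, smul_eq_mul]
  refine dim_eq_of_maps ρ (g := R 8 (δ / 3)) (g' := R 8 (-δ / 3)) (fun v hv => ?_) fun v hv => ?_
  · have h := C_shift ρ (δ / 3) v hv
    rwa [show δ - 3 * 1 * (δ / 3) = 0 by field_simp; ring] at h
  · have h := C_shift ρ (-δ / 3) v hv
    rwa [show 0 - 3 * 1 * (-δ / 3) = δ by field_simp; ring] at h

theorem mult_pos (h3 : (3 : F) ≠ 0) (hinj : Function.Injective ρ) : 0 < mult ρ := by
  have := N_pos ρ hinj
  rw [N_eq_mult ρ h3] at this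
  exact Nat.pos_of_ne_zero fun e => by rw [e] at this; simp at this

theorem piece_D (h3 : (3 : F) ≠ 0) {ζ : F} (hζ : ζ ≠ 0) (η δ : F) :
    finrank ℂ (Eig ρ [(11, ζ), (10, η), (9, δ)]) = mult ρ := by
  have h : ∀ δ', finrank ℂ (Eig ρ [(11, ζ), (10, η), (9, δ')]) =
      finrank ℂ (Eig ρ [(11, ζ), (10, η), (9, δ)]) := fun δ' => by
    refine dim_eq_of_maps ρ (g := R 8 ((δ' - δ) / (3 * ζ))) (g' := R 8 ((δ - δ') / (3 * ζ)))
      (fun v hv => ?_) fun v hv => ?_
    · have h := C_shift ρ ((δ' - δ) / (3 * ζ)) v hv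
      rwa [show δ' - 3 * ζ * ((δ' - δ) / (3 * ζ)) = δ by field_simp; ring] at h
    · have h := C_shift ρ ((δ - δ') / (3 * ζ)) v hv
      rwa [show δ - 3 * ζ * ((δ - δ') / (3 * ζ)) = δ' by field_simp; ring] at h
  have e := piece_ZE ρ hζ η
  rw [N_eq_mult ρ h3, ← split ρ 9 (stable_D ρ), Finset.sum_congr rfl fun δ' _ => (Eig_congr ρ
      (L' := [(11, ζ), (10, η), (9, δ')]) (by simp) (by simp)).trans (h δ'),
    Finset.sum_const, Finset.card_univ, smul_eq_mul] at e
  exact Nat.eq_of_mul_eq_mul_left Fintype.card_pos e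

theorem line_dim (h3 : (3 : F) ≠ 0) {η : F} (hη : η ≠ 0) (δ : F) :
    finrank ℂ (Eig ρ [(11, 0), (10, η), (9, δ)]) = mult ρ := by
  have h : ∀ δ', finrank ℂ (Eig ρ [(11, 0), (10, η), (9, δ')]) =
      finrank ℂ (Eig ρ [(11, 0), (10, η), (9, δ)]) := fun δ' => by
    refine dim_eq_of_maps ρ (g := R 7 ((δ' - δ) / (3 * η))) (g' := R 7 ((δ - δ') / (3 * η)))
      (fun v hv => ?_) fun v hv => ?_
    · have h := X_shift ρ ((δ' - δ) / (3 * η)) v hv
      rwa [show δ' - 3 * η * ((δ' - δ) / (3 * η)) = δ by field_simp; ring] at h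
    · have h := X_shift ρ ((δ - δ') / (3 * η)) v hv
      rwa [show δ - 3 * η * ((δ - δ') / (3 * η)) = δ' by field_simp; ring] at h
  have e := dim_Z0E ρ hη
  rw [N_eq_mult ρ h3, ← split ρ 9 (stable_D ρ), Finset.sum_congr rfl fun δ' _ => (Eig_congr ρ
      (L' := [(11, 0), (10, η), (9, δ')]) (by simp) (by simp)).trans (h δ'),
    Finset.sum_const, Finset.card_univ, smul_eq_mul] at e
  exact Nat.eq_of_mul_eq_mul_left Fintype.card_pos e

/-- With multiplicity one a line is fixed by B and C. -/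
theorem pure_dim (h3 : (3 : F) ≠ 0) (hq : 5 ≤ Fintype.card F) (hm : mult ρ = 1) {η : F}
    (hη : η ≠ 0) :
    finrank ℂ (Eig ρ [(6, 0), (8, 0), (9, 0), (10, η), (11, 0)]) = 1 ∧
      Eig ρ [(11, 0), (10, η), (9, 0)] = Eig ρ [(6, 0), (8, 0), (9, 0), (10, η), (11, 0)] := by
  obtain ⟨u, hu2, hu3⟩ := exists_scalar hq
  have u0 : (u : F) ≠ 0 := u.ne_zero
  obtain ⟨-, -, w6, -, w8, w9, w10, w11⟩ := wt_values u (u ^ 3)
  have e10 : (u : F) ^ 3 / ((u ^ 3 : Fˣ) : F) = 1 := by
    rw [Units.val_pow_eq_pow_val, div_self (pow_ne_zero 3 u0)]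
  have hL := line_dim ρ h3 hη 0
  rw [hm, Eig_congr ρ (L' := [(9, 0), (11, 0), (10, η)]) (by simp) (by simp),
    ← split ρ 8 (stable_C ρ)] at hL
  have hC := concentrate (fun γ => finrank ℂ (Eig ρ [(8, γ), (9, 0), (11, 0), (10, η)]))
    (c := ((u : F) ^ 2)⁻¹) (fun e => hu2 (inv_eq_one.1 e)) hL fun γ => by
      refine dim_tor ρ u (u ^ 3) ?_
      simp only [List.map_cons, List.map_nil, w8, w9, w10, w11, e10, div_one, zero_div]
      simp only [Units.val_pow_eq_pow_val, List.cons.injEq, Prod.mk.injEq, true_and, and_true]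
      field_simp
  have hC1 := hC.1
  rw [← split ρ 6 (stable_B ρ)] at hC1
  have hB := concentrate (fun β => finrank ℂ (Eig ρ [(6, β), (8, 0), (9, 0), (11, 0), (10, η)]))
    (c := ((u : F) ^ 3)⁻¹) (fun e => hu3 (inv_eq_one.1 e)) hC1 fun β => by
      refine dim_tor ρ u (u ^ 3) ?_
      simp only [List.map_cons, List.map_nil, w6, w8, w9, w10, w11, e10, div_one, zero_div]
      simp only [Units.val_pow_eq_pow_val, List.cons.injEq, Prod.mk.injEq, true_and, and_true]
      field_simp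
  have h1 : finrank ℂ (Eig ρ [(6, 0), (8, 0), (9, 0), (10, η), (11, 0)]) = 1 :=
    (Eig_congr ρ (by simp) (by simp)).trans hB.1
  refine ⟨h1, (Submodule.eq_of_le_of_finrank_eq (Eig_mono ρ (by simp)) ?_).symm⟩
  rw [h1, line_dim ρ h3 hη 0, hm]

theorem exists_three (hq : 5 ≤ Fintype.card F) :
    ∃ a b c : F, a ≠ 0 ∧ b ≠ 0 ∧ c ≠ 0 ∧ a ≠ b ∧ a ≠ c ∧ b ≠ c := by
  classical
  obtain ⟨a, -, ha⟩ := Finset.exists_mem_notMem_of_card_lt_card (s := ({0} : Finset F))
    (t := Finset.univ) (by simp; omega)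
  obtain ⟨b, -, hb⟩ := Finset.exists_mem_notMem_of_card_lt_card (s := ({0, a} : Finset F))
    (t := Finset.univ) (lt_of_le_of_lt Finset.card_le_two (by simp; omega))
  obtain ⟨c, -, hc⟩ := Finset.exists_mem_notMem_of_card_lt_card (s := ({0, a, b} : Finset F))
    (t := Finset.univ) (lt_of_le_of_lt Finset.card_le_three (by simp; omega))
  simp only [Finset.mem_insert, Finset.mem_singleton, not_or] at ha hb hc
  exact ⟨a, b, c, ha, hb.1, hc.1, Ne.symm hb.2, Ne.symm hc.2.1, Ne.symm hc.2.2⟩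

/-- Only cubes of linear forms occur. -/
theorem vanish (h3 : (3 : F) ≠ 0) (hq : 5 ≤ Fintype.card F) (hm : mult ρ = 1) {β γ δ : F}
    (h : ¬ (γ = 0 ∧ δ = 0)) : Eig ρ [(6, β), (8, γ), (9, δ), (11, 0), (10, 0)] = ⊥ := by
  refine (Submodule.eq_bot_iff _).2 fun v hv => ?_
  by_contra h0
  by_cases hall : ∀ u : F, u * δ + u ^ 2 * γ + u ^ 3 * β = 0
  · obtain ⟨a, b, c, ha, hb, hc, hab, hac, hbc⟩ := exists_three hq
    have k : ∀ u : F, u ≠ 0 → δ + u * γ + u ^ 2 * β = 0 := fun u hu =>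
      mul_left_cancel₀ hu (by rw [mul_zero, ← hall u]; ring)
    have k1 : γ + (a + b) * β = 0 := mul_left_cancel₀ (sub_ne_zero.2 hab) (by
      linear_combination k a ha - k b hb)
    have k2 : γ + (a + c) * β = 0 := mul_left_cancel₀ (sub_ne_zero.2 hac) (by
      linear_combination k a ha - k c hc)
    have hβ : β = 0 := mul_left_cancel₀ (sub_ne_zero.2 hbc) (by linear_combination k1 - k2)
    have hγ : γ = 0 := by rw [hβ, mul_zero, add_zero] at k1; exact k1
    refine h ⟨hγ, ?_⟩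
    have := k a ha
    rwa [hβ, hγ, mul_zero, mul_zero, add_zero, add_zero] at this
  push Not at hall
  obtain ⟨u, hu⟩ := hall
  set η := -(u * δ) - u ^ 2 * γ - u ^ 3 * β with hη_def
  have hη : η ≠ 0 := fun e => hu (by linear_combination hη_def - e)
  have hw := Y_move ρ u v hv
  set w := ρ (R 4 u) v with hw_def
  have hw0 : w ≠ 0 := fun e => h0 (rho_injective ρ (R 4 u) (by rw [map_zero]; exact e))
  set s := -((δ + 2 * u * γ + 3 * u ^ 2 * β) / (3 * η)) with hs_def
  have hs : δ + 2 * u * γ + 3 * u ^ 2 * β = -(3 * η * s) := by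
    rw [hs_def]; field_simp; try ring
  have h1 := X_shift ρ (η := η) (δ := δ + 2 * u * γ + 3 * u ^ 2 * β) (-s) w
    (Eig_mono ρ (by simp [hη_def]) hw)
  rw [show δ + 2 * u * γ + 3 * u ^ 2 * β - 3 * η * -s = 0 by rw [hs]; ring,
    (pure_dim ρ h3 hq hm hη).2] at h1
  have h2 := X_pure ρ s _ h1
  rw [← rho_apply, ← R_add, add_neg_cancel, R_zero, map_one, End.one_apply] at h2
  have e6 : β = -(η * s ^ 3) := char_unique ρ (r := 6) hw h2 hw0 (by simp) (by simp)
  have e8 : γ + 3 * u * β = -(3 * η * s ^ 2) :=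
    char_unique ρ (r := 8) hw h2 hw0 (by simp) (by simp)
  have key : η * (1 - u * s) ^ 3 = 0 := by
    linear_combination (hη_def : η = _) - u * hs + u ^ 2 * e8 - u ^ 3 * e6
  have hus : u * s = 1 := by
    rcases mul_eq_zero.1 key with h' | h'
    · exact absurd h' hη
    · linear_combination -(pow_eq_zero_iff (by norm_num)).1 h'
  refine h ⟨?_, ?_⟩
  · linear_combination e8 - 3 * u * e6 + 3 * η * s ^ 2 * hus
  · linear_combination hs - 2 * u * e8 + 3 * u ^ 2 * e6 - 3 * η * s * (u * s - 1) * hus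

/-- The fixed space of the radical. -/
noncomputable def QV : Submodule ℂ V :=
  Eig ρ [((6 : Fin 12), (0 : F)), (8, 0), (9, 0), (10, 0), (11, 0)]

theorem beta_dim (h3 : (3 : F) ≠ 0) (hq : 5 ≤ Fintype.card F) (hm : mult ρ = 1) {β : F}
    (hβ : β ≠ 0) : finrank ℂ (Eig ρ [(6, β), (8, 0), (9, 0), (11, 0), (10, 0)]) = 1 := by
  rw [← (pure_dim ρ h3 hq hm (neg_ne_zero.2 hβ)).1]
  refine (dim_rel ρ (nA F) (fun p' hp' => ?_) fun p hp => ?_).symm
  · simp only [List.mem_cons, List.not_mem_nil, or_false] at hp'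
    rcases hp' with rfl | rfl | rfl | rfl | rfl
    · exact ⟨(10, -β), by simp, -1, by simp, by simp,
        fun x => by simpa using nA_rel (r := 10) (s := 6) (k := -1) (by simp) x⟩
    · exact ⟨(9, 0), by simp, -1, by simp, by simp,
        fun x => by simpa using nA_rel (r := 9) (s := 8) (k := -1) (by simp) x⟩
    · exact ⟨(8, 0), by simp, 1, by simp, by simp,
        fun x => by simpa using nA_rel (r := 8) (s := 9) (k := 1) (by simp) x⟩
    · exact ⟨(11, 0), by simp, 1, by simp, by simp,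
        fun x => by simpa using nA_rel (r := 11) (s := 11) (k := 1) (by simp) x⟩
    · exact ⟨(6, 0), by simp, 1, by simp, by simp,
        fun x => by simpa using nA_rel (r := 6) (s := 10) (k := 1) (by simp) x⟩
  · simp only [List.mem_cons, List.not_mem_nil, or_false] at hp
    rcases hp with rfl | rfl | rfl | rfl | rfl
    · exact ⟨(10, 0), by simp, 1, by simp, by simp,
        fun x => by simpa using nA_rel (r := 6) (s := 10) (k := 1) (by simp) x⟩
    · exact ⟨(9, 0), by simp, 1, by simp, by simp,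
        fun x => by simpa using nA_rel (r := 8) (s := 9) (k := 1) (by simp) x⟩
    · exact ⟨(8, 0), by simp, -1, by simp, by simp,
        fun x => by simpa using nA_rel (r := 9) (s := 8) (k := -1) (by simp) x⟩
    · exact ⟨(6, β), by simp, -1, by simp, by simp,
        fun x => by simpa using nA_rel (r := 10) (s := 6) (k := -1) (by simp) x⟩
    · exact ⟨(11, 0), by simp, 1, by simp, by simp,
        fun x => by simpa using nA_rel (r := 11) (s := 11) (k := 1) (by simp) x⟩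

/-- The degree for multiplicity one. -/
theorem degree_one (h3 : (3 : F) ≠ 0) (hq : 5 ≤ Fintype.card F) (hm : mult ρ = 1) :
    finrank ℂ V + 1 = Fintype.card F ^ 3 + finrank ℂ (QV ρ) := by
  have h := degree_eq ρ
  rw [N_eq_mult ρ h3, hm, mul_one,
    ← split ρ 9 (L := [((11 : Fin 12), (0 : F)), (10, 0)]) (stable_D ρ),
    sum_zero_split _ 0 fun δ hδ => ?_, mul_zero, add_zero,
    ← split ρ 8 (stable_C ρ), sum_zero_split _ 0 fun γ hγ => ?_, mul_zero, add_zero,
    ← split ρ 6 (stable_B ρ), sum_zero_split _ 1 fun β hβ => beta_dim ρ h3 hq hm hβ, mul_one,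
    Eig_congr ρ (L := [((6 : Fin 12), (0 : F)), (8, 0), (9, 0), (11, 0), (10, 0)])
      (L' := [(6, 0), (8, 0), (9, 0), (10, 0), (11, 0)]) (by simp) (by simp)] at h
  · rw [h, QV]
    obtain ⟨n, hn⟩ : ∃ n, Fintype.card F = n + 1 := ⟨Fintype.card F - 1, by omega⟩
    rw [hn, Nat.add_sub_cancel, show (n + 1) ^ 2 - 1 = n * (n + 2) by
      rw [show (n + 1) ^ 2 = n * (n + 2) + 1 by ring, Nat.add_sub_cancel]]
    ring
  · rw [← split ρ 6 (stable_B ρ)]
    refine Finset.sum_eq_zero fun β _ => ?_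
    rw [vanish ρ h3 hq hm fun h => hγ h.1, finrank_bot]
  · rw [← split ρ 8 (stable_C ρ)]
    refine Finset.sum_eq_zero fun γ _ => ?_
    rw [← split ρ 6 (stable_B ρ)]
    refine Finset.sum_eq_zero fun β _ => ?_
    rw [vanish ρ h3 hq hm fun h => hδ h.2, finrank_bot]

theorem degree_ge (h3 : (3 : F) ≠ 0) (hq : 5 ≤ Fintype.card F) (hinj : Function.Injective ρ) :
    Fintype.card F ^ 3 + 1 ≤ finrank ℂ V ∨
      mult ρ = 1 ∧ finrank ℂ V + 1 = Fintype.card F ^ 3 + finrank ℂ (QV ρ) := by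
  rcases Nat.lt_or_ge (mult ρ) 2 with hm | hm
  · have hm1 : mult ρ = 1 := by have := mult_pos ρ h3 hinj; omega
    exact Or.inr ⟨hm1, degree_one ρ h3 hq hm1⟩
  · left
    rw [degree_eq ρ, N_eq_mult ρ h3]
    obtain ⟨n, hn⟩ : ∃ n, Fintype.card F = n + 5 := ⟨Fintype.card F - 5, by omega⟩
    rw [hn, show (n + 5) ^ 2 - 1 = n ^ 2 + 10 * n + 24 by
      rw [show (n + 5) ^ 2 = n ^ 2 + 10 * n + 24 + 1 by ring, Nat.add_sub_cancel]]
    have h2 : (n ^ 2 + 10 * n + 24) * ((n + 5) * 2) ≤ (n ^ 2 + 10 * n + 24) * ((n + 5) * mult ρ) :=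
      Nat.mul_le_mul_left _ (Nat.mul_le_mul_left _ hm)
    nlinarith

end Cfsg.Agent.Lie.Chev.G2Deg
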