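import Cfsg.Agent.Lib.Lie.Chev.TwistAut
import Cfsg.Agent.Lib.Lie.Chev.SimpleCerts
import Cfsg.Agent.Lib.Lie.Chev.OrderG2

/-! Root elements, torus and Weyl elements of G₂(q) as elements of the group. -/

set_option autoImplicit false
set_option maxRecDepth 20000

namespace Cfsg.Agent.Lie.Chev.G2Deg

open Cfsg.Lie

variable {F : Type*} [Field F]

/-- The group. -/
abbrev Gam (F : Type*) [Field F] := ↥(chevG2.group F)

theorem nroots_eq : chevG2.nroots = 12 := rfl

/-- Root elements, numbered as in the datum. -/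
noncomputable def R (r : Fin 12) (t : F) : Gam F :=
  ⟨certFullG2.xg r t, certFullG2.xg_mem_group (show (r : ℕ) < chevG2.nroots from r.2) t⟩

theorem R_val (r : Fin 12) (t : F) : ((R r t : Gam F) : GL chevG2.Idx F) = certFullG2.xg r t := rfl

theorem R_zero (r : Fin 12) : R r (0 : F) = 1 := Subtype.ext (certFullG2.xg_zero _)

theorem R_add (r : Fin 12) (t u : F) : R r (t + u) = R r t * R r u :=
  Subtype.ext (certFullG2.xg_add _ t u)

theorem R_inv (r : Fin 12) (t : F) : (R r t)⁻¹ = R r (-t) := by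
  rw [inv_eq_iff_mul_eq_one, ← R_add, add_neg_cancel, R_zero]

theorem R_eq_one_iff (r : Fin 12) (t : F) : R r t = 1 ↔ t = 0 :=
  Subtype.ext_iff.trans (certFullG2.xg_eq_one_iff (show (r : ℕ) < chevG2.nroots from r.2) t)

theorem comm_list {r s : Fin 12} (h1 : (s : ℕ) ≠ r) (h2 : (s : ℕ) ≠ chevG2.neg r)
    {L : List (ℕ × ℤ × ℕ × ℕ)} (h : certFullG2.T.commTerms r s = L) (t u : F) :
    certFullG2.xg s u * certFullG2.xg r t = certFullG2.xg r t * certFullG2.xg s u *
      (L.map fun x => certFullG2.xg x.1 ((x.2.1 : F) * (-t) ^ x.2.2.1 * u ^ x.2.2.2)).prod := by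
  rw [certFullG2.xg_comm (show (r : ℕ) < chevG2.nroots from r.2)
    (show (s : ℕ) < chevG2.nroots from s.2) h1 h2 t u, h]

/-- Whether two root subgroups commute in every characteristic. -/
def cm (r s : Fin 12) : Bool :=
  r == s || ((s : ℕ) != chevG2.neg r && (certFullG2.T.commTerms r s).isEmpty)

theorem comm_of_cm {r s : Fin 12} (h : cm r s = true) (t u : F) : Commute (R r t) (R s u) := by
  by_cases he : r = s
  · subst he
    rw [Commute, SemiconjBy, ← R_add, ← R_add, add_comm]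
  simp only [cm, beq_eq_false_iff_ne.2 he, Bool.false_or, Bool.and_eq_true, bne_iff_ne,
    List.isEmpty_iff] at h
  refine Subtype.ext ?_
  simp only [Subgroup.coe_mul, R_val]
  rw [comm_list (fun e => he (Fin.ext e.symm)) h.1 h.2 t u]
  simp

theorem cm_list : ∀ p ∈ [((6 : Fin 12), (8 : Fin 12)), (6, 9), (6, 11), (8, 10), (8, 11), (9, 10),
    (9, 11), (10, 11), (7, 10), (7, 11), (4, 6), (4, 11)],
    cm p.1 p.2 = true ∧ cm p.2 p.1 = true := by decide +kernel

theorem terms_list :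
    certFullG2.T.commTerms 6 10 = [(11, 1, 1, 1)] ∧
    certFullG2.T.commTerms 8 9 = [(11, 3, 1, 1)] ∧
    certFullG2.T.commTerms 7 9 = [(10, 3, 1, 1)] ∧
    certFullG2.T.commTerms 7 8 = [(9, -2, 1, 1), (10, -3, 2, 1), (11, 3, 1, 2)] ∧
    certFullG2.T.commTerms 7 6 = [(8, -1, 1, 1), (9, 1, 2, 1), (10, 1, 3, 1), (11, 1, 3, 2)] ∧
    certFullG2.T.commTerms 4 10 = [(9, 1, 1, 1), (8, -1, 2, 1), (6, 1, 3, 1), (11, -1, 3, 2)] ∧
    certFullG2.T.commTerms 4 9 = [(8, -2, 1, 1), (6, 3, 2, 1), (11, -3, 1, 2)] ∧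
    certFullG2.T.commTerms 4 8 = [(6, -3, 1, 1)] := by
  refine ⟨?_, ?_, ?_, ?_, ?_, ?_, ?_, ?_⟩ <;> decide +kernel

theorem rel_EB (b e : F) : R 10 e * R 6 b = R 6 b * R 10 e * R 11 (-(b * e)) := by
  refine Subtype.ext ((comm_list (r := 6) (s := 10) (by decide) (by decide +kernel)
    terms_list.1 b e).trans ?_)
  simp [R_val]

theorem rel_DC (c d : F) : R 9 d * R 8 c = R 8 c * R 9 d * R 11 (-(3 * c * d)) := by
  refine Subtype.ext ((comm_list (r := 8) (s := 9) (by decide) (by decide +kernel)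
    terms_list.2.1 c d).trans ?_)
  simp [R_val, mul_assoc]

theorem rel_DX (t d : F) : R 9 d * R 7 t = R 7 t * R 9 d * R 10 (-(3 * t * d)) := by
  refine Subtype.ext ((comm_list (r := 7) (s := 9) (by decide) (by decide +kernel)
    terms_list.2.2.1 t d).trans ?_)
  simp [R_val, mul_assoc]

theorem rel_CX (t c : F) : R 8 c * R 7 t =
    R 7 t * R 8 c * (R 9 (2 * t * c) * (R 10 (-(3 * t ^ 2 * c)) * R 11 (-(3 * t * c ^ 2)))) := by
  refine Subtype.ext ((comm_list (r := 7) (s := 8) (by decide) (by decide +kernel)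
    terms_list.2.2.2.1 t c).trans ?_)
  simp [R_val, mul_assoc]

theorem rel_BX (t b : F) : R 6 b * R 7 t = R 7 t * R 6 b *
    (R 8 (t * b) * (R 9 (t ^ 2 * b) * (R 10 (-(t ^ 3 * b)) * R 11 (-(t ^ 3 * b ^ 2))))) := by
  refine Subtype.ext ((comm_list (r := 7) (s := 6) (by decide) (by decide +kernel)
    terms_list.2.2.2.2.1 t b).trans ?_)
  simp [R_val, Odd.neg_pow (show Odd 3 by decide), mul_assoc]

theorem rel_EY (u e : F) : R 10 e * R 4 u = R 4 u * R 10 e *
    (R 9 (-(u * e)) * (R 8 (-(u ^ 2 * e)) * (R 6 (-(u ^ 3 * e)) * R 11 (u ^ 3 * e ^ 2)))) := by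
  refine Subtype.ext ((comm_list (r := 4) (s := 10) (by decide) (by decide +kernel)
    terms_list.2.2.2.2.2.1 u e).trans ?_)
  simp [R_val, Odd.neg_pow (show Odd 3 by decide), mul_assoc]

theorem rel_DY (u d : F) : R 9 d * R 4 u = R 4 u * R 9 d *
    (R 8 (2 * u * d) * (R 6 (3 * u ^ 2 * d) * R 11 (3 * u * d ^ 2))) := by
  refine Subtype.ext ((comm_list (r := 4) (s := 9) (by decide) (by decide +kernel)
    terms_list.2.2.2.2.2.2.1 u d).trans ?_)
  simp [R_val, mul_assoc]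

theorem rel_CY (u c : F) : R 8 c * R 4 u = R 4 u * R 8 c * R 6 (3 * u * c) := by
  refine Subtype.ext ((comm_list (r := 4) (s := 8) (by decide) (by decide +kernel)
    terms_list.2.2.2.2.2.2.2 u c).trans ?_)
  simp [R_val, mul_assoc]

/-- The torus. -/
noncomputable def tor (s t : Fˣ) : Gam F :=
  ⟨certFullG2.torus (fun i => if i = 0 then s else t),
    certFullG2.B_le_group (certFullG2.H_le_B (certFullG2.torus_mem _))⟩

theorem tor_mul (s t s' t' : Fˣ) : tor s t * tor s' t' = tor (s * s') (t * t') := by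
  refine Subtype.ext ?_
  show certFullG2.torus _ * certFullG2.torus _ = certFullG2.torus _
  rw [← map_mul]
  congr 1
  funext i
  simp only [Pi.mul_apply]
  split_ifs <;> rfl

theorem tor_one : tor (1 : Fˣ) 1 = 1 := by
  refine Subtype.ext ?_
  show certFullG2.torus _ = 1
  rw [← map_one (certFullG2.torus (F := F))]
  congr 1
  funext i
  simp

theorem tor_comm (s t s' t' : Fˣ) : Commute (tor s t) (tor s' t') := by
  rw [Commute, SemiconjBy, tor_mul, tor_mul, mul_comm s, mul_comm t]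

/-- The value of a root on the torus. -/
noncomputable def wt (r : Fin 12) (s t : Fˣ) : Fˣ :=
  s ^ certFullG2.T.cartan 0 r * t ^ certFullG2.T.cartan 1 r

theorem tor_rel (r : Fin 12) (s t : Fˣ) (x : F) :
    tor s t * R r x = R r ((wt r s t : F) * x) * tor s t := by
  refine Subtype.ext ?_
  rw [Subgroup.coe_mul, Subgroup.coe_mul, ← mul_inv_eq_iff_eq_mul]
  show certFullG2.torus _ * certFullG2.xg r x * (certFullG2.torus _)⁻¹ = _
  have h := certFullG2.torus_conj_xg (fun i => if i = 0 then s else t)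
    (show (r : ℕ) < chevG2.nroots from r.2) x
  rw [h, R_val]
  simp [Cert.tchar, wt, show chevG2.rank = 2 from rfl, Finset.prod_range_succ]

theorem cartan_values :
    [4, 5, 6, 7, 8, 9, 10, 11].map (fun r => (certFullG2.T.cartan 0 r, certFullG2.T.cartan 1 r)) =
      [(-2, 1), (3, -2), (-3, 2), (2, -1), (-1, 1), (1, 0), (3, -1), (0, 1)] := by decide +kernel

theorem wt_values (s t : Fˣ) :
    (wt 4 s t : F) = (t : F) / (s : F) ^ 2 ∧ (wt 5 s t : F) = (s : F) ^ 3 / (t : F) ^ 2 ∧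
    (wt 6 s t : F) = (t : F) ^ 2 / (s : F) ^ 3 ∧ (wt 7 s t : F) = (s : F) ^ 2 / (t : F) ∧
    (wt 8 s t : F) = (t : F) / (s : F) ∧ (wt 9 s t : F) = s ∧
    (wt 10 s t : F) = (s : F) ^ 3 / (t : F) ∧ (wt 11 s t : F) = t := by
  have h := cartan_values
  simp only [List.map_cons, List.map_nil, List.cons.injEq, Prod.mk.injEq, and_true] at h
  obtain ⟨⟨a4, b4⟩, ⟨a5, b5⟩, ⟨a6, b6⟩, ⟨a7, b7⟩, ⟨a8, b8⟩, ⟨a9, b9⟩, ⟨a10, b10⟩, ⟨a11, b11⟩⟩ := h
  have e : ∀ (r : Fin 12) {x y : ℤ}, certFullG2.T.cartan 0 (r : ℕ) = x →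
      certFullG2.T.cartan 1 (r : ℕ) = y → (wt r s t : F) = (s : F) ^ x * (t : F) ^ y := by
    intro r x y h0 h1
    simp [wt, h0, h1, Units.val_zpow_eq_zpow_val]
  refine ⟨?_, ?_, ?_, ?_, ?_, ?_, ?_, ?_⟩
  · rw [e 4 a4 b4]; simp [div_eq_mul_inv, mul_comm]
  · rw [e 5 a5 b5]; simp [div_eq_mul_inv]
  · rw [e 6 a6 b6]; simp [div_eq_mul_inv, mul_comm]
  · rw [e 7 a7 b7]; simp [div_eq_mul_inv]
  · rw [e 8 a8 b8]; simp [div_eq_mul_inv, mul_comm]
  · rw [e 9 a9 b9]; simp
  · rw [e 10 a10 b10]; simp [div_eq_mul_inv]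
  · rw [e 11 a11 b11]; simp

/-- The two Weyl elements. -/
noncomputable def nA (F : Type*) [Field F] : Gam F :=
  ⟨certFullG2.nw F [0], certFullG2.N_le_group (certFullG2.nw_mem_N (by decide))⟩

/-- The second of them. -/
noncomputable def nB (F : Type*) [Field F] : Gam F :=
  ⟨certFullG2.nw F [1], certFullG2.N_le_group (certFullG2.nw_mem_N (by decide))⟩

theorem weyl_values :
    ([(6, 10, 1), (10, 6, -1), (8, 9, 1), (9, 8, -1), (11, 11, 1), (7, 4, -1), (4, 7, -1)].all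
      fun p : Fin 12 × Fin 12 × ℤ =>
        certFullG2.T.wlT [0] p.1 == (p.2.1 : ℕ) && certFullG2.wsign [0] p.1 == p.2.2) = true ∧
    ([(10, 11, 1), (11, 10, -1), (9, 9, 1), (8, 7, -1), (7, 8, 1), (6, 5, -1), (5, 6, -1)].all
      fun p : Fin 12 × Fin 12 × ℤ =>
        certFullG2.T.wlT [1] p.1 == (p.2.1 : ℕ) && certFullG2.wsign [1] p.1 == p.2.2) = true := by
  decide +kernel

theorem nA_rel {r s : Fin 12} {k : ℤ}
    (h : (r, s, k) ∈ [((6 : Fin 12), (10 : Fin 12), (1 : ℤ)), (10, 6, -1), (8, 9, 1), (9, 8, -1),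
      (11, 11, 1), (7, 4, -1), (4, 7, -1)]) (x : F) :
    nA F * R r x = R s ((k : F) * x) * nA F := by
  have h2 := List.all_eq_true.1 weyl_values.1 _ h
  simp only [Bool.and_eq_true, beq_iff_eq] at h2
  refine Subtype.ext ?_
  show certFullG2.nw F [0] * certFullG2.xg r x = certFullG2.xg s _ * certFullG2.nw F [0]
  rw [certFullG2.nw_mul_xg (by decide) (show (r : ℕ) < chevG2.nroots from r.2),
    ← certFullG2.wlT_eq, h2.1, h2.2]

theorem nB_rel {r s : Fin 12} {k : ℤ}
    (h : (r, s, k) ∈ [((10 : Fin 12), (11 : Fin 12), (1 : ℤ)), (11, 10, -1), (9, 9, 1), (8, 7, -1),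
      (7, 8, 1), (6, 5, -1), (5, 6, -1)]) (x : F) :
    nB F * R r x = R s ((k : F) * x) * nB F := by
  have h2 := List.all_eq_true.1 weyl_values.2 _ h
  simp only [Bool.and_eq_true, beq_iff_eq] at h2
  refine Subtype.ext ?_
  show certFullG2.nw F [1] * certFullG2.xg r x = certFullG2.xg s _ * certFullG2.nw F [1]
  rw [certFullG2.nw_mul_xg (by decide) (show (r : ℕ) < chevG2.nroots from r.2),
    ← certFullG2.wlT_eq, h2.1, h2.2]

variable [Fintype F]

theorem simple_group (hq : 3 ≤ Fintype.card F) :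
    IsSimpleGroup (Gam F) ∧ ¬ IsMulCommutative (Gam F) := by
  refine certFullG2.simple connG2 (perfect_of_mem (by simp) fun _ => ?_)
  classical
  obtain ⟨a, -, ha⟩ := Finset.exists_mem_notMem_of_card_lt_card
    (s := ({0, 1} : Finset F)) (t := Finset.univ) (lt_of_le_of_lt Finset.card_le_two (by
      rw [Finset.card_univ]; omega))
  simp only [Finset.mem_insert, Finset.mem_singleton, not_or] at ha
  exact ⟨a, ha.1, ha.2⟩

theorem card_G2 : Nat.card (Gam F) =
    Fintype.card F ^ 6 * ((Fintype.card F ^ 2 - 1) * (Fintype.card F ^ 6 - 1)) := by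
  have hH : 1 * Nat.card (chevG2.diagonalSubgroup F) =
      (Fintype.card F - 1) ^ chevG2.rank := by
    rw [one_mul, cardHG2, show chevG2.rank = 2 from rfl]
    simp [Fin.prod_univ_two, sq]
  have h := certFullG2.card_group_formula (F := F) chainG2_ok chainG2_len chainG2_poly hH
  simpa [show chevG2.nroots / 2 = 6 from rfl] using h

end Cfsg.Agent.Lie.Chev.G2Deg
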