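import Cfsg.Agent.Lib.Lie.Chev.OrderG2
import Cfsg.Agent.Lib.Lie.Chev.TorusOrders
import Cfsg.Agent.Lib.Lie.Chev.G2TorusAction
import Cfsg.Agent.Lib.Lie.Chev.WeylPowers
import Cfsg.Agent.Lib.Grp.SectionAlternating

/-! Alternating sections of the groups of type G₂. -/

set_option autoImplicit false
set_option maxRecDepth 4000

namespace Cfsg.Agent.Lie.Chev.G2Sec

open Cfsg.Lie Matrix

/-- The sixth powers in the Weyl group are trivial. -/
theorem weyl_iterate_check :
    ((chainWords chainG2).all fun v => (List.range 12).all fun s =>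
      Nat.beq ((certFullG2.T.wlT v)^[6] s) s) = true := by
  decide +kernel

theorem two_sq_roots {L : Type*} [Field L] (P : Lˣ × Lˣ) (hP : P ^ 2 = 1) :
    (P.1 = 1 ∨ P.1 = -1) ∧ (P.2 = 1 ∨ P.2 = -1) := by
  have key : ∀ u : Lˣ, u ^ 2 = 1 → u = 1 ∨ u = -1 := fun u hu => by
    rcases sq_eq_one_iff.1 (show (u : L) ^ 2 = 1 by rw [← Units.val_pow_eq_pow_val, hu]; rfl)
      with h | h
    · exact Or.inl (Units.ext h)
    · exact Or.inr (Units.ext (by rw [h]; rfl))
  exact ⟨key _ (congrArg Prod.fst hP), key _ (congrArg Prod.snd hP)⟩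

/-- The index of a maximal split torus over a field with `m t + 1` elements. -/
theorem index_mod (m t : ℕ) (hm : ¬ m ∣ 12) :
    ¬ m ∣ (m * t + 1) ^ 6 * ((m * t + 1) ^ 5 + (m * t + 1) ^ 4 + (m * t + 1) ^ 3 +
      (m * t + 1) ^ 2 + (m * t + 1) + 1) * ((m * t + 1) + 1) := by
  rw [← ZMod.natCast_eq_zero_iff] at hm ⊢
  push_cast at hm ⊢
  rw [ZMod.natCast_self, zero_mul, zero_add]
  intro h
  refine hm ?_
  rw [← h]
  norm_num

variable {L : Type*} [Field L] [Fintype L]

omit [Fintype L] in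
theorem diagonal_le : chevG2.diagonalSubgroup L ≤ chevG2.group L := fun _ hg =>
  certFullG2.B_le_group (certFullG2.H_le_B hg)

theorem torus_sq_roots :
    Nat.card {a : (chevG2.diagonalSubgroup L).subgroupOf (chevG2.group L) // a ^ 2 = 1} ≤ 4 := by
  classical
  choose P hP using fun a : {a : (chevG2.diagonalSubgroup L).subgroupOf (chevG2.group L) //
      a ^ 2 = 1} => G2Tor.exists_tau (F := L) (g := ((a.1 : ↥(chevG2.group L)) : GL chevG2.Idx L)) a.1.2
  have hP2 : ∀ a, P a ^ 2 = 1 := fun a => G2Tor.tau_injective (by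
    rw [map_pow, hP, map_one]
    exact congrArg (fun v : (chevG2.diagonalSubgroup L).subgroupOf (chevG2.group L) =>
      ((v : ↥(chevG2.group L)) : GL chevG2.Idx L)) a.2)
  refine (Nat.card_le_card_of_injective (fun a => (decide ((P a).1 = 1), decide ((P a).2 = 1)))
    ?_).trans (by simp)
  intro a b e
  simp only [Prod.mk.injEq, decide_eq_decide] at e
  obtain ⟨ha1, ha2⟩ := two_sq_roots _ (hP2 a)
  obtain ⟨hb1, hb2⟩ := two_sq_roots _ (hP2 b)
  have h : P a = P b := by
    refine Prod.ext ?_ ?_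
    · rcases ha1 with h | h <;> rcases hb1 with h' | h' <;> simp_all
    · rcases ha2 with h | h <;> rcases hb2 with h' | h' <;> simp_all
  exact Subtype.ext (Subtype.ext (Subtype.ext (by rw [← hP a, ← hP b, h])))

omit [Fintype L] in
theorem pow_six (g : ↥(chevG2.group L)) (R : Subgroup ↥(chevG2.group L))
    (hR : R ≤ (chevG2.diagonalSubgroup L).subgroupOf (chevG2.group L))
    (hn : ∀ h ∈ R, g * h * g⁻¹ ∈ R) : ∀ h ∈ R, g ^ 6 * h * (g ^ 6)⁻¹ = h := by
  intro h hh
  refine Subtype.ext ?_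
  simp only [Subgroup.coe_mul, Subgroup.coe_inv, SubmonoidClass.coe_pow]
  refine certFullG2.pow_conj_group chainG2_ok chainG2_len (e := 6) (fun v hv s hs => ?_) g.2
    (R := R.map (chevG2.group L).subtype) ?_ ?_ _ ⟨h, hh, rfl⟩
  · have hc := weyl_iterate_check
    simp only [List.all_eq_true, List.mem_range, Nat.beq_eq] at hc
    exact hc v hv s hs
  · rintro _ ⟨a, ha, rfl⟩
    exact hR ha
  · rintro _ ⟨a, ha, rfl⟩
    exact ⟨_, hn a ha, by simp⟩

theorem index_not_dvd {m t : ℕ} (ht : Fintype.card L = m * t + 1) (hm : ¬ m ∣ 12) :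
    ¬ m ∣ ((chevG2.diagonalSubgroup L).subgroupOf (chevG2.group L)).index := by
  intro hd
  have hmul := ((chevG2.diagonalSubgroup L).subgroupOf (chevG2.group L)).card_mul_index
  have hcard := certFullG2.card_group_formula (F := L) chainG2_ok chainG2_len chainG2_poly
    (g := 1) (torusOrderG2 L)
  obtain ⟨A, hA⟩ : ∃ A, A = m * t := ⟨_, rfl⟩
  have hA0 : 0 < A := by
    have := Fintype.one_lt_card (α := L)
    omega
  rw [Nat.card_congr (Subgroup.subgroupOfEquivOfLe diagonal_le).toEquiv,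
    ← one_mul (Nat.card (chevG2.diagonalSubgroup L)), torusOrderG2 L] at hmul
  change (Fintype.card L - 1) ^ 2 * _ = _ at hmul
  rw [one_mul, show chevG2.nroots / 2 = 6 from rfl] at hcard
  simp only [List.map_cons, List.map_nil, List.prod_cons, List.prod_nil, mul_one] at hcard
  rw [hcard, ht, ← hA, Nat.add_sub_cancel,
    show (A + 1) ^ 2 - 1 = A * (A + 1 + 1) from Nat.sub_eq_of_eq_add (by ring),
    show (A + 1) ^ 6 - 1 = A * ((A + 1) ^ 5 + (A + 1) ^ 4 + (A + 1) ^ 3 + (A + 1) ^ 2 +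
      (A + 1) + 1) from Nat.sub_eq_of_eq_add (by ring)] at hmul
  refine index_mod m t hm ?_
  rw [← hA]
  have hi : ((chevG2.diagonalSubgroup L).subgroupOf (chevG2.group L)).index =
      (A + 1) ^ 6 * ((A + 1) ^ 5 + (A + 1) ^ 4 + (A + 1) ^ 3 + (A + 1) ^ 2 + (A + 1) + 1) *
        (A + 1 + 1) := Nat.eq_of_mul_eq_mul_left (pow_pos hA0 2) (by rw [hmul]; ring)
  exact hi ▸ hd

theorem alternating_section_le {F : Type*} [Field F] [Fintype F] (p : ℕ) [Fact p.Prime]
    [CharP F p] {H : Type*} [Group H] (j : H →* ↥(chevG2.group F)) (hj : Function.Injective j)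
    {r : ℕ} {π : H →* alternatingGroup (Fin r)} (hπ : Function.Surjective π) :
    r ≤ 6 + (if p = 5 then 1 else 0) := by
  classical
  let _ : Fintype (FiniteField.Extension F p 4) := Fintype.ofFinite _
  obtain ⟨q, hq⟩ : ∃ q, q = Fintype.card F := ⟨_, rfl⟩
  obtain ⟨n₀, -, hn₀⟩ := FiniteField.card F p
  have hqp : q = p ^ (n₀ : ℕ) := hq.trans hn₀
  have hL : Fintype.card (FiniteField.Extension F p 4) = q ^ 4 := by
    rw [← Nat.card_eq_fintype_card, FiniteField.natCard_extension, Nat.card_eq_fintype_card, hq]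
  obtain ⟨ι, -⟩ : ∃ ι : F →+* FiniteField.Extension F p 4, ι = algebraMap F _ := ⟨_, rfl⟩
  let emb : ↥(chevG2.group F) →* ↥(chevG2.group (FiniteField.Extension F p 4)) :=
    ((Matrix.GeneralLinearGroup.map (n := chevG2.Idx) ι).comp
      (chevG2.group F).subtype).codRestrict _ fun g => certFullG2.map_group_le ι ⟨g, g.2, rfl⟩
  have hemb : Function.Injective emb := fun a b e => by
    have h := congrArg Subtype.val e
    exact Subtype.ext (Units.ext (Matrix.ext fun i k =>
      ι.injective (Matrix.ext_iff.2 (congrArg Units.val h) i k)))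
  by_cases h5 : p = 5
  · rw [if_pos h5]
    refine Grp.SectionAut.no_alt_eight
      (T := (chevG2.diagonalSubgroup _).subgroupOf (chevG2.group _))
      (fun a ha b hb => Subtype.ext (certFullG2.H_commutative ha hb)) torus_sq_roots
      (index_not_dvd (t := q ^ 4 / 8) ?_ (by norm_num)) (emb.comp j) (hemb.comp hj) hπ
    have hmod : q ^ 4 % 8 = 1 := by
      rw [hqp, h5, ← pow_mul, mul_comm, pow_mul, Nat.pow_mod]; norm_num
    omega
  · rw [if_neg h5]
    refine Nat.le_of_lt_succ (Grp.SectionAut.degree_lt_five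
      (T := (chevG2.diagonalSubgroup _).subgroupOf (chevG2.group _))
      (index_not_dvd (t := q ^ 4 / 5) ?_ (by norm_num)) pow_six (emb.comp j) (hemb.comp hj) hπ)
    have hq5 : ¬ 5 ∣ q := fun hd => h5 ((Nat.prime_dvd_prime_iff_eq Nat.prime_five Fact.out).1
      (Nat.prime_five.dvd_of_dvd_pow (hqp ▸ hd))).symm
    have hmod : q ^ 4 % 5 = 1 := by
      rw [Nat.pow_mod]
      have h0 : q % 5 ≠ 0 := fun h => hq5 (Nat.dvd_of_mod_eq_zero h)
      rcases (show q % 5 = 1 ∨ q % 5 = 2 ∨ q % 5 = 3 ∨ q % 5 = 4 by omega) with h | h | h | h <;>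
        rw [h]
    omega

end Cfsg.Agent.Lie.Chev.G2Sec
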