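import Cfsg.Agent.Lib.Lie.SteinbergSL
import Cfsg.Agent.Lib.Lie.Chev.FieldAut
import Cfsg.Agent.Lib.Lie.Chev.OrderG2
import Cfsg.Agent.Lib.Lie.Chev.CertsFull

/-! The long roots of type `G₂` give a homomorphism of `SL₃`; the image of a Singer cycle is a
self-centralising cyclic subgroup of order `q² + q + 1`. -/

set_option autoImplicit false
set_option maxRecDepth 4000

namespace Cfsg.Agent.Lie.Chev

open Cfsg.Lie
open scoped MatrixGroups

namespace CertFull

variable {D : ChevalleyDatum} (c : CertFull D) {F : Type*} [Field F]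

include c

theorem torus_conj_oprod_all (z : ℕ → Fˣ) (m : ℕ) (t : ℕ → F) :
    c.torus z * c.oprod m t * (c.torus z)⁻¹ =
      c.oprod m (fun r => (c.tchar z r : F) * t r) := by
  rw [← MulAut.conj_apply, Cert.oprod, map_list_prod, List.map_map, Cert.oprod]
  congr 1
  refine List.map_congr_left fun r hr => ?_
  rw [List.mem_range'_1] at hr
  exact c.torus_conj_xg z (by omega) _

/-- The centraliser of a regular torus element is the torus. -/
theorem mem_H_of_commute_regular {z : ℕ → Fˣ} (hne : ∀ s < D.nroots, c.tchar z s ≠ 1)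
    (hinj : ∀ r < D.nroots, ∀ s < D.nroots, c.tchar z r = c.tchar z s → r = s)
    {g : GL D.Idx F} (hg : g ∈ D.group F) (hcomm : Commute g (c.torus z)) :
    g ∈ D.diagonalSubgroup F := by
  set h := c.torus z with hdef
  have h1 : h ∈ D.diagonalSubgroup F := c.torus_mem z
  -- no unipotent element is fixed
  have hU : ∀ u ∈ D.posUnipotent F, h * u * h⁻¹ = u → u = 1 := by
    intro u hu hfix
    rw [c.posUnipotent_eq] at hu
    obtain ⟨t, rfl⟩ := c.exists_oprod _ c.T.h rfl le_rfl u hu
    rw [hdef, c.torus_conj_oprod_all] at hfix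
    refine List.prod_eq_one fun x hx => ?_
    obtain ⟨r, hr, rfl⟩ := List.mem_map.1 hx
    rw [List.mem_range'_1] at hr
    have e := c.oprod_inj _ c.T.h rfl le_rfl _ _ hfix r hr.1 (by omega)
    have ht : t r = 0 := by
      by_contra ht
      exact hne r (by omega) (Units.ext (mul_eq_right₀ ht |>.1 e))
    rw [ht, c.xg_zero]
  obtain ⟨b, hb, a, ha, L, hL, u, hu, rfl⟩ := c.bruhat_exists hg
  set n := a * c.nw F L with hndef
  have hn : n ∈ D.monomialSubgroup F := mul_mem (Subgroup.mem_sup_left ha) (c.nw_mem_N hL)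
  obtain ⟨v, hv, d, hd, rfl⟩ := c.mem_borel_iff.1 hb
  set m := d * n * h * n⁻¹ * d⁻¹ with hmdef
  have hm : m ∈ D.diagonalSubgroup F := by
    have := c.N_conj_H (mul_mem (Subgroup.mem_sup_left hd) hn) h1
    simpa [m, mul_assoc] using this
  have hv' : h * v * h⁻¹ ∈ D.posUnipotent F :=
    (Subgroup.mem_normalizer_iff.1 (c.H_le_normalizer_U h1) v).1 hv
  have hu' : h⁻¹ * u * h ∈ c.KS F (c.invSet L) c.T.h := by
    have h' := c.torus_le_normalizer (S := {g | ∃ r t, r ∈ c.invSet L ∧ c.T.h ≤ r ∧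
      g = c.xg r (t : F)}) (fun g ⟨r, t, hr, hle, e⟩ =>
        ⟨r, hr.1.2, t, e, fun s => c.xg_mem_KS hr hle s⟩) (inv_mem h1)
    have := (Subgroup.mem_normalizer_iff.1 h' u).1 hu
    rwa [inv_inv] at this
  have e' : (h * v * h⁻¹ * (h * d)) * n * u = (v * (m * d)) * n * (h⁻¹ * u * h) :=
    calc (h * v * h⁻¹ * (h * d)) * n * u = h * (v * d * n * u) := by group
      _ = v * d * n * u * h := hcomm.eq.symm
      _ = _ := by rw [hmdef]; group
  obtain ⟨h3, h6⟩ := c.bruhat_unique_factors ha hL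
    (mul_mem (Subgroup.mem_sup_left hv') (c.H_le_B (mul_mem h1 hd)))
    (mul_mem (Subgroup.mem_sup_left hv) (c.H_le_B (mul_mem hm hd))) hu hu' e'
  have hu1 : u = 1 := hU u (c.KS_invSet_le_U hL hu) (by
    conv_lhs => rw [h6]
    group)
  have h4 : v⁻¹ * (h * v * h⁻¹) = (m * d) * (h * d)⁻¹ :=
    calc v⁻¹ * (h * v * h⁻¹) = v⁻¹ * (h * v * h⁻¹ * (h * d)) * (h * d)⁻¹ := by group
      _ = _ := by rw [h3]; group
  have h5 := c.U_inf_H.le (Subgroup.mem_inf.2 ⟨mul_mem (inv_mem hv) hv',
    (h4 ▸ mul_mem (mul_mem hm hd) (inv_mem (mul_mem h1 hd)))⟩)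
  rw [Subgroup.mem_bot] at h5
  have hv1 : v = 1 := hU v hv (inv_mul_eq_one.1 h5).symm
  rw [h4, mul_inv_eq_one, mul_left_inj] at h5
  have hnh : n * h = h * n :=
    calc n * h = d⁻¹ * m * d * n := by rw [hmdef]; group
      _ = d⁻¹ * (h * d) * n := by rw [h5]; group
      _ = _ := by rw [c.H_commutative h1 hd]; group
  have hfix : ∀ s < D.nroots, c.wl L s = s := fun s hs => by
    obtain ⟨k, hk, hk'⟩ := c.mono_mul_xg ha hL hs
    refine hinj _ (c.wl_lt hL hs) _ hs (Units.ext (mul_right_cancel₀ hk ?_))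
    refine c.xg_inj (c.wl_lt hL hs) ?_
    have e : ∀ t : F, c.xg (c.wl L s) (k * t) = n * c.xg s t * n⁻¹ := fun t => by
      rw [hndef, hk', mul_inv_cancel_right]
    rw [← c.torus_conj_xg z (c.wl_lt hL hs), ← mul_one k, e, mul_one, mul_comm _ k, e,
      ← mul_one ((c.tchar z s : Fˣ) : F), ← c.torus_conj_xg z hs]
    calc h * (n * c.xg s 1 * n⁻¹) * h⁻¹ = (h * n) * c.xg s 1 * (h * n)⁻¹ := by group
      _ = _ := by rw [← hnh, hdef]; group
  rw [hv1, hu1, one_mul, mul_one]
  refine mul_mem hd (c.mem_H_of_wl ha hL fun q hq => ?_)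
  rw [hfix _ (c.simple_lt hq)]
  exact c.pos_simple hq

end CertFull

namespace G2Singer

/-- The long root attached to a position of `SL₃`. -/
def ix (i j : Fin 3) : ℕ := ([[12, 6, 11], [5, 12, 10], [0, 1, 12]].getD i []).getD j 12

theorem ix_lt : ∀ i j : Fin 3, i ≠ j → ix i j < chevG2.nroots := by decide +kernel

theorem ix_commute : ∀ i j k l : Fin 3, i ≠ j → k ≠ l → j ≠ k → i ≠ l → ix k l = ix i j ∨
    (ix k l ≠ chevG2.neg (ix i j) ∧ certFullG2.T.commTerms (ix i j) (ix k l) = []) := by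
  decide +kernel

theorem ix_sum : ∀ i j k : Fin 3, i ≠ j → j ≠ k → i ≠ k → ix j k ≠ ix i j ∧
    ix j k ≠ chevG2.neg (ix i j) ∧
      certFullG2.T.commTerms (ix i j) (ix j k) = [(ix i k, 1, 1, 1)] := by
  decide +kernel

theorem torus_values :
    chevG2.rank = 2 ∧ chevG2.nroots = 12 ∧ ix 0 1 = 6 ∧ ix 1 2 = 10 ∧
    chevG2.neg 6 = ix 1 0 ∧ chevG2.neg 10 = ix 2 1 ∧
    certFullG2.T.coroot 6 0 = 0 ∧ certFullG2.T.coroot 6 1 = 1 ∧
    certFullG2.T.coroot 10 0 = 1 ∧ certFullG2.T.coroot 10 1 = 1 := by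
  decide +kernel

/-- The two coefficients of the exponent of a Singer element at a root. -/
def co (s : ℕ) : ℤ × ℤ :=
  (certFullG2.T.cartan 0 s + 2 * certFullG2.T.cartan 1 s,
    certFullG2.T.cartan 0 s + certFullG2.T.cartan 1 s)

theorem co_values : (∀ s < 12, co s ≠ 0 ∧ |(co s).1| ≤ 2 ∧ |(co s).2| ≤ 2 ∧
      ¬ (13 : ℤ) ∣ (co s).1 + (co s).2 * 3 ∧ ¬ (21 : ℤ) ∣ (co s).1 + (co s).2 * 4) ∧
    ∀ r < 12, ∀ s < 12, r ≠ s → co r ≠ co s ∧
      ¬ (13 : ℤ) ∣ (co r).1 + (co r).2 * 3 - ((co s).1 + (co s).2 * 3) ∧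
      ¬ (21 : ℤ) ∣ (co r).1 + (co r).2 * 4 - ((co s).1 + (co s).2 * 4) := by
  decide +kernel

theorem exists_slHom (F : Type*) [Field F] [Finite F] :
    ∃ ψ : SL(3, F) →* GL chevG2.Idx F,
      (∀ (i j : Fin 3) (h : i ≠ j) (t : F),
        ψ (Matrix.SpecialLinearGroup.transvection h t) = certFullG2.xg (ix i j) t) ∧
      ∀ A, ψ A ∈ chevG2.group F := by
  classical
  have hlt := ix_lt
  have hc0 := ix_commute
  have hc1 := ix_sum
  set S : Set (SL(3, F) × GL chevG2.Idx F) := {p | ∃ (i j : Fin 3) (h : i ≠ j) (t : F),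
    p = (Matrix.SpecialLinearGroup.transvection h t, certFullG2.xg (ix i j) t)} with hS
  set Γ := Subgroup.closure S with hΓ
  let X : Fin 3 → Fin 3 → F → ↥Γ := fun i j t => if h : i ≠ j then
    ⟨_, Subgroup.subset_closure (show (Matrix.SpecialLinearGroup.transvection h t,
      certFullG2.xg (ix i j) t) ∈ S from ⟨i, j, h, t, rfl⟩)⟩ else 1
  have hX : ∀ {i j : Fin 3} (h : i ≠ j) t, ((X i j t : ↥Γ) : SL(3, F) × GL chevG2.Idx F) =
      (Matrix.SpecialLinearGroup.transvection h t, certFullG2.xg (ix i j) t) := fun h t => by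
    simp only [X, dif_pos h]
  have hcG : ∀ i j k l : Fin 3, i ≠ j → k ≠ l → j ≠ k → i ≠ l → ∀ t u : F,
      Commute (certFullG2.xg (ix i j) t) (certFullG2.xg (ix k l) u) := by
    intro i j k l hij hkl hjk hil t u
    rcases hc0 i j k l hij hkl hjk hil with e | ⟨h2, h3⟩
    · rw [e]
      exact (certFullG2.xg_add _ t u).symm.trans ((congrArg _ (add_comm t u)).trans
        (certFullG2.xg_add _ u t))
    by_cases e : ix k l = ix i j
    · rw [e]
      exact (certFullG2.xg_add _ t u).symm.trans ((congrArg _ (add_comm t u)).trans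
        (certFullG2.xg_add _ u t))
    have h := certFullG2.xg_comm (hlt i j hij) (hlt k l hkl) e h2 t u
    rw [h3, List.map_nil, List.prod_nil, mul_one] at h
    exact h.symm
  have htv : ∀ {i j : Fin 3} (h : i ≠ j) (t : F),
      (Matrix.SpecialLinearGroup.transvection h t : Matrix (Fin 3) (Fin 3) F) =
        Matrix.transvection i j t := fun h t => rfl
  let P : Lie.SLSteinberg.SLPre F 3 ↥Γ :=
    { X := X
      add := fun i j h t u => by
        refine Subtype.ext ?_
        rw [Subgroup.coe_mul, hX h, hX h, hX h, Prod.mk_mul_mk, ← certFullG2.xg_add]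
        refine Prod.ext (Subtype.ext ?_) rfl
        rw [Matrix.SpecialLinearGroup.coe_mul, htv, htv, htv,
          Matrix.transvection_mul_transvection_same _ _ h]
      comm₀ := fun i j k l hij hkl hjk hil t u => by
        refine Subtype.ext ?_
        rw [Subgroup.coe_mul, Subgroup.coe_mul, hX hij, hX hkl, Prod.mk_mul_mk, Prod.mk_mul_mk,
          (hcG i j k l hij hkl hjk hil t u).eq]
        refine Prod.ext (Subtype.ext ?_) rfl
        rw [Matrix.SpecialLinearGroup.coe_mul, Matrix.SpecialLinearGroup.coe_mul, htv, htv]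
        exact (Lie.SLSteinberg.transvection_rels hij hkl hil t u).1 hjk
      comm₁ := fun i j k hij hjk hik t u => by
        refine Subtype.ext ?_
        rw [Subgroup.coe_mul, Subgroup.coe_mul, Subgroup.coe_mul, hX hij, hX hjk, hX hik,
          Prod.mk_mul_mk, Prod.mk_mul_mk, Prod.mk_mul_mk]
        refine Prod.ext (Subtype.ext ?_) ?_
        · simp only [Matrix.SpecialLinearGroup.coe_mul, htv]
          exact (Lie.SLSteinberg.transvection_rels hij hjk hik t u).2 rfl
        · obtain ⟨h1, h2, h3⟩ := hc1 i j k hij hjk hik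
          have h := certFullG2.xg_comm (hlt i j hij) (hlt j k hjk) h1 h2 t u
          rw [h3] at h
          simp only [List.map_cons, List.map_nil, List.prod_cons, List.prod_nil, mul_one,
            Int.cast_one, one_mul, pow_one, neg_mul, ← certFullG2.xg_inv] at h
          have ha := hcG i k j k hik hjk hjk.symm hik (t * u) u
          have hb := hcG i k i j hik hij hik.symm hij (t * u) t
          show certFullG2.xg (ix i j) t * certFullG2.xg (ix j k) u =
            certFullG2.xg (ix i k) (t * u) * certFullG2.xg (ix j k) u * certFullG2.xg (ix i j) t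
          rw [mul_assoc, (ha.mul_right hb).eq, h, inv_mul_cancel_right] }
  let A : Lie.SLSteinberg.SLSt F 3 ↥Γ :=
    { toSLPre := P
      θ := (MonoidHom.fst _ _).comp Γ.subtype
      θX := fun i j h t => by
        show ((((X i j t : ↥Γ) : SL(3, F) × GL chevG2.Idx F)).1 : Matrix (Fin 3) (Fin 3) F) = _
        rw [hX h]
        exact htv h t
      rel := P.rel_of_three le_rfl }
  have hgen : Subgroup.closure {g | ∃ i j, i ≠ j ∧ ∃ u, g = A.X i j u} = ⊤ := by
    rw [eq_top_iff, ← Subgroup.closure_closure_coe_preimage (k := S)]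
    refine Subgroup.closure_mono ?_
    rintro g ⟨i, j, h, t, e⟩
    exact ⟨i, j, h, t, Subtype.ext (e.trans (hX h t).symm)⟩
  let E := MulEquiv.ofBijective A.θ (Lie.SLSteinberg.bijective (by norm_num) A hgen)
  refine ⟨((MonoidHom.snd _ _).comp Γ.subtype).comp E.symm.toMonoidHom, fun i j h t => ?_,
    fun M => ?_⟩
  · have e : E.symm (Matrix.SpecialLinearGroup.transvection h t) = X i j t := by
      rw [MulEquiv.symm_apply_eq]
      refine Eq.symm ?_
      show ((X i j t : ↥Γ) : SL(3, F) × GL chevG2.Idx F).1 = _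
      rw [hX h]
    show ((E.symm (Matrix.SpecialLinearGroup.transvection h t) : ↥Γ) :
      SL(3, F) × GL chevG2.Idx F).2 = _
    rw [e, hX h]
  · have hle : Γ ≤ (chevG2.group F).comap (MonoidHom.snd _ _) := by
      refine (Subgroup.closure_le _).2 ?_
      rintro p ⟨i, j, h, t, rfl⟩
      exact certFullG2.xg_mem_group (hlt i j h) t
    exact hle (E.symm M).2

/-- The embedding of `SL₃` by the long roots. -/
noncomputable def slHom (F : Type*) [Field F] [Finite F] : SL(3, F) →* GL chevG2.Idx F :=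
  (exists_slHom F).choose

theorem slHom_transvection {F : Type*} [Field F] [Finite F] {i j : Fin 3} (h : i ≠ j) (t : F) :
    slHom F (Matrix.SpecialLinearGroup.transvection h t) = certFullG2.xg (ix i j) t :=
  (exists_slHom F).choose_spec.1 i j h t

theorem slHom_mem {F : Type*} [Field F] [Finite F] (A : SL(3, F)) :
    slHom F A ∈ chevG2.group F := (exists_slHom F).choose_spec.2 A

theorem slHom_map {F K : Type*} [Field F] [Finite F] [Field K] [Finite K] (ι : F →+* K)
    (A : SL(3, F)) : slHom K (Matrix.SpecialLinearGroup.map ι A) =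
      Matrix.GeneralLinearGroup.map ι (slHom F A) := by
  classical
  have h : (slHom K).comp (Matrix.SpecialLinearGroup.map ι) =
      (Matrix.GeneralLinearGroup.map (n := chevG2.Idx) ι).comp (slHom F) := by
    refine MonoidHom.eq_of_eqOn_dense Cfsg.Agent.Classical.SL_closure_transvections ?_
    rintro _ ⟨⟨i, j, hij, t⟩, rfl⟩
    have e : Matrix.TransvectionStruct.toSpecialLinearGroup ⟨i, j, hij, t⟩ =
        Matrix.SpecialLinearGroup.transvection hij t := Subtype.ext rfl
    have e2 : Matrix.SpecialLinearGroup.map ι (Matrix.SpecialLinearGroup.transvection hij t) =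
        Matrix.SpecialLinearGroup.transvection hij (ι t) := by
      refine Subtype.ext (Matrix.ext fun a b => ?_)
      simp [Matrix.SpecialLinearGroup.transvection_coe, Matrix.one_apply, Matrix.single_apply,
        apply_ite ι]
    simp only [MonoidHom.comp_apply, e, e2, slHom_transvection, certFullG2.xg_mapHom]
  exact DFunLike.congr_fun h A

/-- Diagonal elements of `SL₃`. -/
def dia {F : Type*} [Field F] (a b : Fˣ) : SL(3, F) :=
  ⟨Matrix.diagonal ![(a : F), (b : F) / a, (b : F)⁻¹], by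
    rw [Matrix.det_diagonal, Fin.prod_univ_three]
    simp [mul_div_cancel₀]⟩

/-- The exponents of the image of a diagonal element. -/
def zab {F : Type*} [Field F] (a b : Fˣ) : ℕ → Fˣ :=
  fun i => a ^ certFullG2.T.coroot 6 i * b ^ certFullG2.T.coroot 10 i

theorem slHom_dia {F : Type*} [Field F] [Finite F] (a b : Fˣ) :
    slHom F (dia a b) = certFullG2.torus (zab a b) := by
  have w1 : ∀ (t : Fˣ), slHom F (dia t 1) = certFullG2.hg 6 (t : F) := fun t => by
    set T := fun {i j : Fin 3} (h : i ≠ j) (x : F) => Matrix.SpecialLinearGroup.transvection h x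
    have e : dia t 1 = T (show (0 : Fin 3) ≠ 1 by decide) (t : F) *
        T (show (1 : Fin 3) ≠ 0 by decide) (-(t : F)⁻¹) *
        T (show (0 : Fin 3) ≠ 1 by decide) (t : F) *
        (T (show (0 : Fin 3) ≠ 1 by decide) (-1) * T (show (1 : Fin 3) ≠ 0 by decide) (-(-1 : F)⁻¹) *
          T (show (0 : Fin 3) ≠ 1 by decide) (-1)) := by
      refine Subtype.ext (Matrix.ext fun r s => ?_)
      fin_cases r <;> fin_cases s <;>
        simp [T, dia, Matrix.SpecialLinearGroup.transvection_coe, Matrix.mul_apply,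
          Fin.sum_univ_three, Matrix.one_apply, Matrix.single_apply]
    rw [e]
    simp only [T, map_mul, slHom_transvection, Cert.hg, Cert.ng, torus_values.2.2.1,
      torus_values.2.2.2.2.1]
  have w2 : ∀ (t : Fˣ), slHom F (dia 1 t) = certFullG2.hg 10 (t : F) := fun t => by
    set T := fun {i j : Fin 3} (h : i ≠ j) (x : F) => Matrix.SpecialLinearGroup.transvection h x
    have e : dia 1 t = T (show (1 : Fin 3) ≠ 2 by decide) (t : F) *
        T (show (2 : Fin 3) ≠ 1 by decide) (-(t : F)⁻¹) *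
        T (show (1 : Fin 3) ≠ 2 by decide) (t : F) *
        (T (show (1 : Fin 3) ≠ 2 by decide) (-1) * T (show (2 : Fin 3) ≠ 1 by decide) (-(-1 : F)⁻¹) *
          T (show (1 : Fin 3) ≠ 2 by decide) (-1)) := by
      refine Subtype.ext (Matrix.ext fun r s => ?_)
      fin_cases r <;> fin_cases s <;>
        simp [T, dia, Matrix.SpecialLinearGroup.transvection_coe, Matrix.mul_apply,
          Fin.sum_univ_three, Matrix.one_apply, Matrix.single_apply]
    rw [e]
    simp only [T, map_mul, slHom_transvection, Cert.hg, Cert.ng, torus_values.2.2.2.1,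
      torus_values.2.2.2.2.2.1]
  have e : dia a b = dia a 1 * dia 1 b := by
    refine Subtype.ext ?_
    show Matrix.diagonal _ = Matrix.diagonal _ * Matrix.diagonal _
    rw [Matrix.diagonal_mul_diagonal]
    congr 1
    funext i
    fin_cases i <;> simp [div_eq_mul_inv, mul_comm]
  obtain ⟨-, hn, -, -, -, -, -, -, -, -⟩ := torus_values
  rw [e, map_mul, w1, w2, certFullG2.hg_eq_torus (by rw [hn]; omega),
    certFullG2.hg_eq_torus (by rw [hn]; omega), ← map_mul]
  rfl

theorem zab_pow {F : Type*} [Field F] (a b : Fˣ) (k : ℕ) : zab a b ^ k = zab (a ^ k) (b ^ k) := by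
  funext i
  rw [Pi.pow_apply]
  simp only [zab]
  rw [mul_pow, ← zpow_natCast (a ^ _), ← zpow_natCast (b ^ _), ← zpow_mul, ← zpow_mul,
    ← zpow_natCast a, ← zpow_natCast b, ← zpow_mul, ← zpow_mul, mul_comm (k : ℤ),
    mul_comm (k : ℤ)]

theorem zab_values {F : Type*} [Field F] (a b : Fˣ) : zab a b 0 = b ∧ zab a b 1 = a * b := by
  obtain ⟨-, -, -, -, -, -, h60, h61, h100, h101⟩ := torus_values
  simp [zab, h60, h61, h100, h101]

theorem torus_zab_inj {F : Type*} [Field F] [Fintype F] {a b a' b' : Fˣ}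
    (h : certFullG2.torus (zab a b) = certFullG2.torus (zab a' b')) : a = a' ∧ b = b' := by
  obtain ⟨hr, -⟩ := torus_values
  have hH : Nat.card (chevG2.diagonalSubgroup F) = (Fintype.card F - 1) ^ chevG2.rank := by
    rw [cardHG2, hr]
    simp [Fin.prod_univ_two]
    ring
  have h0 := certFullG2.torus_injective hH _ _ h 0 (by rw [hr]; omega)
  have h1 := certFullG2.torus_injective hH _ _ h 1 (by rw [hr]; omega)
  rw [(zab_values a b).1, (zab_values a' b').1] at h0
  rw [(zab_values a b).2, (zab_values a' b').2, h0] at h1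
  exact ⟨mul_right_cancel h1, h0⟩

theorem tchar_zab {F : Type*} [Field F] (a : Fˣ) (q : ℕ) (s : ℕ) :
    certFullG2.tchar (zab a (a ^ (q + 1))) s = a ^ ((co s).1 + (co s).2 * q) := by
  obtain ⟨hr, -⟩ := torus_values
  rw [Cert.tchar, hr, Finset.prod_range_succ, Finset.prod_range_succ, Finset.prod_range_zero,
    one_mul, (zab_values _ _).1, (zab_values _ _).2, ← zpow_natCast a (q + 1), ← zpow_mul,
    ← zpow_one_add, ← zpow_mul, ← zpow_add]
  congr 1
  simp only [co]
  push_cast
  ring

set_option maxHeartbeats 1000000 in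
/-- The Singer torus of `G₂(q)`, from a cubic extension. -/
theorem exists_singer_of_cubic {F K : Type*} [Field F] [Fintype F] [Field K] [Fintype K]
    (ι : F →+* K) (q : ℕ) (hF : Fintype.card F = q) (hcardK : Fintype.card K = q ^ 3)
    (hq : 3 ≤ q) :
    ∃ H : Subgroup ↥(chevG2.group F), IsCyclic ↥H ∧ Nat.card ↥H = q ^ 2 + q + 1 ∧
      Subgroup.centralizer (H : Set ↥(chevG2.group F)) = H := by
  classical
  letI : Algebra F K := ι.toAlgebra
  set φ : K →+* K := (FiniteField.frobeniusAlgHom F K).toRingHom with hφdef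
  have hφ : ∀ t, φ t = t ^ q := fun t => by rw [← hF]; rfl
  have hφι : ∀ t, φ (ι t) = ι t := fun t => by rw [hφ, ← map_pow, ← hF, FiniteField.pow_card]
  have hφ3 : ∀ t, φ (φ (φ t)) = t := fun t => by
    rw [hφ, hφ, hφ, ← pow_mul, ← pow_mul, show q * (q * q) = q ^ 3 by ring, ← hcardK,
      FiniteField.pow_card]
  have hrange : ∀ t : K, φ t = t → ∃ s, ι s = t := by
    intro t ht
    by_contra hno
    push Not at hno
    set P : Polynomial K := Polynomial.X ^ q - Polynomial.X
    have hdeg : P.natDegree = q := FiniteField.X_pow_card_sub_X_natDegree_eq K (by omega)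
    have hP : P ≠ 0 := FiniteField.X_pow_card_sub_X_ne_zero K (by omega)
    have hroot : ∀ x : K, φ x = x → x ∈ P.roots := fun x hx => by
      rw [Polynomial.mem_roots hP]
      simp [P, ← hφ, hx]
    have h := Polynomial.card_le_degree_of_subset_roots (p := P)
      (Z := insert t (Finset.univ.image ι)) (fun x hx => by
        rw [Finset.mem_val, Finset.mem_insert, Finset.mem_image] at hx
        rcases hx with rfl | ⟨s, -, rfl⟩
        · exact hroot _ ht
        · exact hroot _ (hφι s))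
    rw [Finset.card_insert_of_notMem (by simpa using hno),
      Finset.card_image_of_injective _ ι.injective, Finset.card_univ, hF, hdeg] at h
    omega
  -- a conjugating matrix
  obtain ⟨x, hx⟩ : ∃ x : K, φ x ≠ x := by
    by_contra hall
    push Not at hall
    have h : Fintype.card K ≤ Fintype.card F := Fintype.card_le_of_surjective ι fun t =>
      hrange t (hall t)
    rw [hcardK, hF] at h
    have : 9 ≤ q * q := Nat.mul_le_mul hq hq
    nlinarith
  set x' := φ x with hx'
  set x'' := φ x' with hx''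
  have hxx : φ x'' = x := hφ3 x
  have hne1 : x' - x ≠ 0 := sub_ne_zero.2 hx
  have hne2 : x'' - x ≠ 0 := sub_ne_zero.2 fun e => hx (by
    have h := congrArg φ e
    rw [hxx] at h
    exact h.symm)
  have hne3 : x'' - x' ≠ 0 := sub_ne_zero.2 fun e => hx (φ.injective e)
  set δ := (x' - x) * (x'' - x) * (x'' - x') with hδ
  have hδ0 : δ ≠ 0 := mul_ne_zero (mul_ne_zero hne1 hne2) hne3
  have hφδ : φ δ = δ := by
    simp only [hδ, map_mul, map_sub, ← hx', ← hx'', hxx]
    ring
  set M : SL(3, K) := ⟨!![δ⁻¹, δ⁻¹, δ⁻¹; x, x', x''; x ^ 2, x' ^ 2, x'' ^ 2], by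
    rw [Matrix.det_fin_three]
    calc _ = δ⁻¹ * δ := by rw [hδ]; simp; ring
      _ = 1 := inv_mul_cancel₀ hδ0⟩ with hM
  set Q : SL(3, K) := ⟨!![0, 0, 1; 1, 0, 0; 0, 1, 0], by rw [Matrix.det_fin_three]; simp⟩ with hQ
  have hMval : (M : Matrix (Fin 3) (Fin 3) K) =
      !![δ⁻¹, δ⁻¹, δ⁻¹; x, x', x''; x ^ 2, x' ^ 2, x'' ^ 2] := rfl
  have hQval : (Q : Matrix (Fin 3) (Fin 3) K) = !![0, 0, 1; 1, 0, 0; 0, 1, 0] := rfl
  have hdval : ∀ a b : Kˣ, (dia a b : Matrix (Fin 3) (Fin 3) K) =
      Matrix.diagonal ![(a : K), (b : K) / a, (b : K)⁻¹] := fun a b => rfl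
  clear_value M Q
  have hMφ : Matrix.SpecialLinearGroup.map φ M = M * Q := by
    refine Subtype.ext (Matrix.ext fun r s => ?_)
    fin_cases r <;> fin_cases s <;>
      simp [hMval, hQval, Matrix.mul_apply, Fin.sum_univ_three, map_inv₀, hφδ, ← hx', ← hx'', hxx]
  have hQD : ∀ a b : Kˣ, Q * dia a b * Q⁻¹ = dia b⁻¹ (a / b) := fun a b => by
    rw [mul_inv_eq_iff_eq_mul]
    refine Subtype.ext (Matrix.ext fun r s => ?_)
    fin_cases r <;> fin_cases s <;>
      simp [hdval, hQval, Matrix.mul_apply, Fin.sum_univ_three, div_eq_mul_inv, mul_comm,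
        Units.val_inv_eq_inv_val]
  have hdmap : ∀ a b : Kˣ, Matrix.SpecialLinearGroup.map φ (dia a b) =
      dia (Units.map (φ : K →* K) a) (Units.map (φ : K →* K) b) := fun a b => by
    refine Subtype.ext (Matrix.ext fun r s => ?_)
    fin_cases r <;> fin_cases s <;> simp [hdval, map_div₀, map_inv₀]
  set B : Kˣ → Kˣ → SL(3, K) := fun a b => M * dia a b * M⁻¹ with hB
  have hBφ : ∀ a b : Kˣ, Matrix.SpecialLinearGroup.map φ (B a b) =
      B (Units.map (φ : K →* K) b)⁻¹ (Units.map (φ : K →* K) a / Units.map (φ : K →* K) b) :=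
    fun a b => by
    simp only [hB, map_mul, map_inv, hMφ, hdmap, ← hQD]
    group
  -- the generator
  obtain ⟨g₀, hg₀⟩ := IsCyclic.exists_ofOrder_eq_natCard (α := Kˣ)
  rw [Nat.card_units, Nat.card_eq_fintype_card, hcardK] at hg₀
  set N := q ^ 2 + q + 1 with hN
  have hfac : q ^ 3 - 1 = (q - 1) * N := by
    obtain ⟨k, rfl⟩ : ∃ k, q = k + 1 := ⟨q - 1, by omega⟩
    rw [Nat.sub_eq_iff_eq_add (Nat.one_le_pow _ _ (by omega)), hN, Nat.add_sub_cancel]
    ring
  set w := g₀ ^ (q - 1) with hw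
  have hwN : orderOf w = N := by
    rw [hw, orderOf_pow_of_dvd (by omega) (by rw [hg₀, hfac]; exact dvd_mul_right _ _), hg₀, hfac,
      Nat.mul_div_cancel_left _ (by omega)]
  have hφu : ∀ a : Kˣ, Units.map (φ : K →* K) a = a ^ q := fun a => Units.ext (by simp [hφ])
  set v := w ^ (q + 1) with hv
  have hwpow : w ^ N = 1 := hwN ▸ pow_orderOf_eq_one w
  have hfix0 : Matrix.SpecialLinearGroup.map φ (B w v) = B w v := by
    have e1 : (v ^ q)⁻¹ = w := by
      rw [inv_eq_iff_mul_eq_one, hv, ← pow_mul, ← pow_succ, ← hwpow, hN]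
      congr 1
      ring
    rw [hBφ, hφu, hφu, e1, div_eq_mul_inv, e1, hv, ← pow_succ]
  have hent : ∀ r s, φ ((B w v : Matrix (Fin 3) (Fin 3) K) r s) =
      (B w v : Matrix (Fin 3) (Fin 3) K) r s := fun r s => by
    have := congrArg (fun A : SL(3, K) => (A : Matrix (Fin 3) (Fin 3) K) r s) hfix0
    simpa using this
  choose A hA using fun r s => hrange _ (hent r s)
  have hdetA : Matrix.det (Matrix.of A) = 1 := ι.injective (by
    rw [map_one, RingHom.map_det, ← (B w v).2]
    congr 1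
    exact Matrix.ext fun r s => hA r s)
  set A₀ : SL(3, F) := ⟨Matrix.of A, hdetA⟩ with hA₀
  have hA₀map : Matrix.SpecialLinearGroup.map ι A₀ = B w v :=
    Subtype.ext (Matrix.ext fun r s => hA r s)
  set h : ↥(chevG2.group F) := ⟨slHom F A₀, slHom_mem A₀⟩ with hh
  set gK := slHom K M with hgK
  set T₀ := certFullG2.torus (zab w v) with hT₀
  have hgKmem : gK ∈ chevG2.group K := slHom_mem M
  set mapι := Matrix.GeneralLinearGroup.map (n := chevG2.Idx) ι with hmapι
  have hmapinj : Function.Injective mapι := fun a b e => Units.ext (Matrix.ext fun r s =>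
    ι.injective (congrArg (fun u : GL chevG2.Idx K => (u : Matrix chevG2.Idx chevG2.Idx K) r s) e))
  have hmh : mapι h = gK * T₀ * gK⁻¹ := by
    show mapι (slHom F A₀) = _
    rw [hmapι, ← slHom_map, hA₀map, hB, map_mul, map_mul, map_inv, slHom_dia]
  have hpow : ∀ k : ℕ, mapι ((h ^ k : ↥(chevG2.group F)) : GL chevG2.Idx F) =
      gK * certFullG2.torus (zab (w ^ k) (v ^ k)) * gK⁻¹ := fun k => by
    rw [Subgroup.coe_pow, map_pow, hmh, conj_pow, hT₀, ← map_pow, zab_pow]
  have hzab1 : certFullG2.torus (zab (1 : Kˣ) 1) = 1 := by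
    rw [show zab (1 : Kˣ) 1 = 1 from funext fun i => by simp [zab], map_one]
  have hord : orderOf h = N := by
    rw [← hwN]
    refine orderOf_eq_orderOf_iff.2 fun k => ?_
    constructor
    · intro e
      have e2 := hpow k
      rw [e, Subgroup.coe_one, map_one] at e2
      have e3 : certFullG2.torus (zab (w ^ k) (v ^ k)) = certFullG2.torus (zab 1 1) := by
        rw [hzab1]
        calc certFullG2.torus (zab (w ^ k) (v ^ k))
            = gK⁻¹ * (gK * certFullG2.torus (zab (w ^ k) (v ^ k)) * gK⁻¹) * gK := by group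
          _ = 1 := by rw [← e2]; group
      exact (torus_zab_inj e3).1
    · intro e
      refine Subtype.ext (hmapinj ?_)
      rw [hpow, e, hv, ← pow_mul, mul_comm, pow_mul, e, one_pow, hzab1, mul_one, mul_inv_cancel,
        Subgroup.coe_one, map_one]
  have hco : ∀ e : ℤ, w ^ e = 1 → (N : ℤ) ∣ e := fun e he => by
    rw [← hwN]; exact orderOf_dvd_iff_zpow_eq_one.2 he
  obtain ⟨-, hnr, -⟩ := torus_values
  have hkey : ∀ s < chevG2.nroots, ∀ r, (r = none ∨ ∃ r' < chevG2.nroots, r = some r' ∧ r' ≠ s) →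
      certFullG2.tchar (zab w v) s ≠ (r.map (certFullG2.tchar (zab w v))).getD 1 := by
    intro s hs r hr e
    rw [hnr] at hs hr
    rw [hv, tchar_zab] at e
    -- the difference of two exponents
    obtain ⟨d, hd, h13, h21, hb1, hb2, hdvd⟩ : ∃ d : ℤ × ℤ, d ≠ 0 ∧ ¬ (13 : ℤ) ∣ d.1 + d.2 * 3 ∧
        ¬ (21 : ℤ) ∣ d.1 + d.2 * 4 ∧ |d.1| ≤ 4 ∧ |d.2| ≤ 4 ∧ (N : ℤ) ∣ d.1 + d.2 * q := by
      obtain ⟨c1, c2, c3, c4, c5⟩ := co_values.1 s hs
      rcases hr with rfl | ⟨r', hr', rfl, hne⟩
      · exact ⟨co s, c1, c4, c5, c2.trans (by norm_num), c3.trans (by norm_num),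
          hco _ (by simpa using e)⟩
      · obtain ⟨-, a2, a3, -, -⟩ := co_values.1 r' hr'
        obtain ⟨b1, b2, b3⟩ := co_values.2 s hs r' hr' (Ne.symm hne)
        refine ⟨co s - co r', sub_ne_zero.2 b1, ?_, ?_, (abs_sub _ _).trans (by linarith),
          (abs_sub _ _).trans (by linarith), ?_⟩
        · simpa [sub_mul, add_sub_add_comm] using b2
        · simpa [sub_mul, add_sub_add_comm] using b3
        · simp only [Option.map_some, Option.getD_some] at e
          rw [tchar_zab] at e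
          refine hco _ ?_
          rw [show (co s - co r').1 + (co s - co r').2 * (q : ℤ) =
            ((co s).1 + (co s).2 * q) - ((co r').1 + (co r').2 * q) by simp; ring, zpow_sub, e,
            mul_inv_cancel]
    rcases eq_or_ne q 3 with hq3 | hq3
    · subst hq3; exact h13 (by simpa [hN] using hdvd)
    rcases eq_or_ne q 4 with hq4 | hq4
    · subst hq4; exact h21 (by simpa [hN] using hdvd)
    have hq5 : (5 : ℤ) ≤ q := by omega
    rw [abs_le] at hb1 hb2
    have hlt : |d.1 + d.2 * (q : ℤ)| < (N : ℤ) := by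
      rw [abs_lt, hN]
      push_cast
      constructor <;> nlinarith
    have hz := Int.eq_zero_of_abs_lt_dvd hdvd hlt
    have hd2 : d.2 = 0 := by
      rcases lt_trichotomy d.2 0 with h' | h' | h'
      · nlinarith
      · exact h'
      · nlinarith
    refine hd (Prod.ext ?_ hd2)
    rw [hd2] at hz
    simpa using hz
  refine ⟨Subgroup.zpowers h, Subgroup.isCyclic_zpowers h, by rw [Nat.card_zpowers, hord], ?_⟩
  refine le_antisymm (fun y hy => ?_) fun y hy => Subgroup.mem_centralizer_iff.2 fun a ha => ?_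
  swap
  · obtain ⟨i, rfl⟩ := Subgroup.mem_zpowers_iff.1 hy
    obtain ⟨j, rfl⟩ := Subgroup.mem_zpowers_iff.1 ha
    rw [← zpow_add, ← zpow_add, add_comm]
  have hcomm := Subgroup.mem_centralizer_iff.1 hy h (Subgroup.mem_zpowers h)
  have hyK : mapι (y : GL chevG2.Idx F) ∈ chevG2.group K := by
    have hle : chevG2.group F ≤ (chevG2.group K).comap mapι := by
      rw [certFullG2.group_eq, Subgroup.closure_le]
      rintro g ⟨r, hr, t, rfl⟩
      show mapι (certFullG2.xg r t) ∈ chevG2.group K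
      rw [hmapι, certFullG2.xg_mapHom]
      exact certFullG2.xg_mem_group hr _
    exact hle y.2
  obtain ⟨Y, hY⟩ : ∃ Y, Y = gK⁻¹ * mapι (y : GL chevG2.Idx F) * gK := ⟨_, rfl⟩
  have hYH : Y ∈ chevG2.diagonalSubgroup K := by
    refine certFullG2.mem_H_of_commute_regular (z := zab w v)
      (fun s hs e => hkey s hs none (Or.inl rfl) (by simpa using e))
      (fun r hr s hs e => by
        by_contra hne
        exact hkey r hr (some s) (Or.inr ⟨s, hs, rfl, Ne.symm hne⟩) (by simpa using e))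
      (g := Y) (hY ▸ mul_mem (mul_mem (inv_mem hgKmem) hyK) hgKmem) ?_
    show Y * T₀ = T₀ * Y
    have e := congrArg (fun a : ↥(chevG2.group F) => mapι (a : GL chevG2.Idx F)) hcomm
    simp only [Subgroup.coe_mul, map_mul, hmh] at e
    calc Y * T₀ = gK⁻¹ * (mapι (y : GL chevG2.Idx F) * (gK * T₀ * gK⁻¹)) * gK := by
          rw [hY]; group
      _ = gK⁻¹ * ((gK * T₀ * gK⁻¹) * mapι (y : GL chevG2.Idx F)) * gK := by rw [e]
      _ = _ := by rw [hY]; group
  rw [certFullG2.diagonalSubgroup_eq] at hYH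
  obtain ⟨z, hz⟩ := hYH
  set a := z 1 / z 0 with ha
  set b := z 0 with hb
  have hYt : Y = certFullG2.torus (zab a b) := by
    refine hz.symm.trans ?_
    rw [certFullG2.torus_eq_prod z, certFullG2.torus_eq_prod (zab a b)]
    congr 1
    refine List.map_congr_left fun i hi => ?_
    rw [torus_values.1, List.mem_range] at hi
    interval_cases i
    · rw [(zab_values a b).1]
    · rw [(zab_values a b).2, ha, div_mul_cancel]
  have hyB : mapι (y : GL chevG2.Idx F) = slHom K (B a b) := by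
    calc mapι (y : GL chevG2.Idx F) = gK * Y * gK⁻¹ := by rw [hY]; group
      _ = slHom K (B a b) := by
        rw [hYt, hgK]
        simp only [hB, map_mul, map_inv, slHom_dia]
  have hfixB : slHom K (B (Units.map (φ : K →* K) b)⁻¹
      (Units.map (φ : K →* K) a / Units.map (φ : K →* K) b)) = slHom K (B a b) := by
    rw [← hBφ, slHom_map, ← hyB]
    refine Units.ext (Matrix.ext fun r s => ?_)
    exact hφι ((((y : GL chevG2.Idx F)) : Matrix chevG2.Idx chevG2.Idx F) r s)
  simp only [hB, map_mul, map_inv, slHom_dia] at hfixB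
  obtain ⟨e1, e2⟩ := torus_zab_inj (mul_left_cancel (mul_right_cancel hfixB))
  rw [hφu] at e1
  rw [hφu, hφu, div_eq_mul_inv, e1] at e2
  have haN : a ^ N = 1 := by
    rw [← e2, mul_pow, ← pow_mul] at e1
    have e3 : (a ^ (q * q) * a ^ q) * a = 1 := by
      conv_lhs => arg 2; rw [← e1]
      exact mul_inv_cancel _
    rw [← pow_add, ← pow_succ] at e3
    rw [hN, sq]
    exact e3
  obtain ⟨k, -, hk⟩ : ∃ k < N, w ^ k = a := by
    have hprim : IsPrimitiveRoot ((w : Kˣ) : K) N :=
      IsPrimitiveRoot.coe_units_iff.2 (hwN ▸ IsPrimitiveRoot.orderOf w)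
    haveI : NeZero N := ⟨by omega⟩
    obtain ⟨k, hk1, hk2⟩ := hprim.eq_pow_of_pow_eq_one (show ((a : K)) ^ N = 1 by
      rw [← Units.val_pow_eq_pow_val, haN, Units.val_one])
    exact ⟨k, hk1, Units.ext (by rw [Units.val_pow_eq_pow_val, hk2])⟩
  have hbk : v ^ k = b := by
    rw [← e2, hv, pow_right_comm, hk, pow_succ]
  refine Subgroup.mem_zpowers_iff.2 ⟨(k : ℤ), ?_⟩
  rw [zpow_natCast]
  refine Subtype.ext (hmapinj ?_)
  rw [hpow, hk, hbk, ← hYt, hY]
  group

/-- The Singer torus of `G₂(q)`. -/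
theorem exists_singer {F : Type*} [Field F] [Fintype F] (q : ℕ) (hF : Fintype.card F = q)
    (hq : 3 ≤ q) :
    ∃ H : Subgroup ↥(chevG2.group F), IsCyclic ↥H ∧ Nat.card ↥H = q ^ 2 + q + 1 ∧
      Subgroup.centralizer (H : Set ↥(chevG2.group F)) = H := by
  obtain ⟨p, hp⟩ := CharP.exists F
  haveI : Fact p.Prime := ⟨CharP.char_is_prime F p⟩
  letI : Fintype (FiniteField.Extension F p 3) := Fintype.ofFinite _
  refine exists_singer_of_cubic (algebraMap F (FiniteField.Extension F p 3)) q hF ?_ hq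
  rw [← Nat.card_eq_fintype_card, FiniteField.natCard_extension, Nat.card_eq_fintype_card, hF]

end G2Singer

end Cfsg.Agent.Lie.Chev
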