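import Cfsg.Agent.Lib.Lie.Chev.G2TorusCentralizer

/-! The orders of the elements of `G₂(q)`. -/

set_option autoImplicit false
set_option maxRecDepth 4000

namespace Cfsg.Agent.Lie.Chev.G2Tor

open Cfsg.Lie G2Singer

section

variable {F L : Type*} [Field F] [Field L] [Fintype F] [Fintype L] {q : ℕ}

/-- A fixed pair of commuting elements gives an element of the product order. -/
theorem exists_pair (ι : F →+* L) (hF : Fintype.card F = q) (φ : L →+* L)
    (hφ : ∀ t, φ t = t ^ q) {g k : GL chevG2.Idx L} (hg : g ∈ chevG2.group L)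
    (hk : k = Matrix.GeneralLinearGroup.map φ g * g⁻¹) {P : Lˣ × Lˣ} {u : GL chevG2.Idx L}
    (hu : u ∈ chevG2.group L) (hcomm : Commute u (tau P))
    (hP : k * tau P * k⁻¹ = tau (P ^ q))
    (hσu : Matrix.GeneralLinearGroup.map φ u = k * u * k⁻¹)
    (hcop : (orderOf P).Coprime (orderOf u)) :
    ∃ x : ↥(chevG2.group F), orderOf x = orderOf P * orderOf u := by
  set σ := Matrix.GeneralLinearGroup.map (n := chevG2.Idx) φ
  have hfix : σ (g⁻¹ * (tau P * u) * g) = g⁻¹ * (tau P * u) * g := by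
    rw [map_mul, map_mul, map_inv, map_mul, tau_map_pow φ hφ, ← hP, hσu, hk]
    group
  have hH : Nat.card (chevG2.diagonalSubgroup L) = (Fintype.card L - 1) ^ chevG2.rank := by
    simpa using torusOrderG2 L
  have hmem : g⁻¹ * (tau P * u) * g ∈ chevG2.group L :=
    mul_mem (mul_mem (inv_mem hg) (mul_mem (tau_mem_group P) hu)) hg
  have h1 := certFullG2.fixed_mem hH hmem hfix
  rw [← certFullG2.group_mapHom (CertFull.range_eq_fixed ι hF hφ)] at h1
  obtain ⟨y, hy, e⟩ := h1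
  refine ⟨⟨y, hy⟩, ?_⟩
  have hinj : Function.Injective (Matrix.GeneralLinearGroup.map (n := chevG2.Idx) ι) :=
    fun a b e => Units.ext (Matrix.ext fun i j => ι.injective
      (congrArg (fun v : GL chevG2.Idx L => (v : Matrix chevG2.Idx chevG2.Idx L) i j) e))
  rw [Subgroup.orderOf_mk, ← orderOf_injective _ hinj y, e,
    show g⁻¹ * (tau P * u) * g = (MulAut.conj g⁻¹).toMonoidHom (tau P * u) by simp,
    orderOf_injective (MulAut.conj g⁻¹).toMonoidHom (MulAut.conj g⁻¹).injective]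
  have hord : orderOf (tau P) = orderOf P := orderOf_injective (tau (F := L)) tau_injective P
  rw [Commute.orderOf_mul_eq_mul_orderOf_of_coprime hcomm.symm (by rw [hord]; exact hcop), hord]

theorem exists_unit_of_dvd {n : ℕ} (hn : n ∣ Fintype.card L - 1) : ∃ b : Lˣ, orderOf b = n := by
  have hL1 : 0 < Fintype.card L - 1 := by
    have := Fintype.one_lt_card (α := L)
    omega
  obtain ⟨g₀, hg₀⟩ := IsCyclic.exists_ofOrder_eq_natCard (α := Lˣ)
  rw [Nat.card_units, Nat.card_eq_fintype_card] at hg₀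
  refine ⟨g₀ ^ ((Fintype.card L - 1) / n), ?_⟩
  rw [orderOf_pow_of_dvd, hg₀, Nat.div_div_self hn (by omega)]
  · exact (Nat.div_pos (Nat.le_of_dvd hL1 hn) (Nat.pos_of_dvd_of_pos hn hL1)).ne'
  · rw [hg₀]; exact Nat.div_dvd_of_dvd hn

theorem orderOf_pair {b : Lˣ} (f : Lˣ →* Lˣ × Lˣ) (hf : Function.Injective f) :
    orderOf (f b) = orderOf b := orderOf_injective f hf b

theorem dvd_sub_six {q : ℕ} (hq : 2 ≤ q) : q - 1 ∣ q ^ 6 - 1 ∧ q + 1 ∣ q ^ 6 - 1 ∧
    q ^ 2 - 1 ∣ q ^ 6 - 1 ∧ q ^ 2 + q + 1 ∣ q ^ 6 - 1 ∧ q ^ 2 - q + 1 ∣ q ^ 6 - 1 := by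
  have hz : ((q ^ 6 - 1 : ℕ) : ℤ) = (q : ℤ) ^ 6 - 1 := by
    rw [Nat.cast_sub (Nat.one_le_pow _ _ (by omega))]; push_cast; rfl
  have hqq : q ≤ q ^ 2 := by rw [pow_two]; exact Nat.le_mul_self q
  refine ⟨by simpa using Nat.pow_sub_one_dvd_pow_sub_one q (show 1 ∣ 6 by norm_num), ?_,
    Nat.pow_sub_one_dvd_pow_sub_one q (by norm_num), ?_, ?_⟩
  · refine Int.natCast_dvd_natCast.1 ⟨((q : ℤ) - 1) * (q ^ 4 + q ^ 2 + 1), ?_⟩
    rw [hz]; push_cast; ring
  · refine Int.natCast_dvd_natCast.1 ⟨((q : ℤ) - 1) * (q ^ 3 + 1), ?_⟩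
    rw [hz]; push_cast; ring
  · refine Int.natCast_dvd_natCast.1 ⟨((q : ℤ) + 1) * (q ^ 3 - 1), ?_⟩
    rw [hz, Nat.cast_add, Nat.cast_sub hqq]; push_cast; ring

/-- The torus orders are element orders. -/
theorem exists_torus_order (ι : F →+* L) (hF : Fintype.card F = q) (φ : L →+* L)
    (hφ : ∀ t, φ t = t ^ q) (hL : Fintype.card L = q ^ 6) (hq : 3 ≤ q) :
    (∃ x : ↥(chevG2.group F), orderOf x = q ^ 2 - 1) ∧
    (∃ x : ↥(chevG2.group F), orderOf x = q ^ 2 + q + 1) ∧
    ∃ x : ↥(chevG2.group F), orderOf x = q ^ 2 - q + 1 := by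
  obtain ⟨-, -, d2, d3, d6⟩ := dvd_sub_six (show 2 ≤ q by omega)
  rw [← hL] at d2 d3 d6
  have htw := twists_all ι hF hφ hL hq
  have key : ∀ (A : M2), A ∈ W12 → ∀ (n : ℕ), n ∣ Fintype.card L - 1 → ∀ (f : Lˣ →* Lˣ × Lˣ),
      Function.Injective f → (∀ b : Lˣ, b ^ n = 1 → act A (f b) = f b ^ q) →
      ∃ x : ↥(chevG2.group F), orderOf x = n := by
    intro A hA n hn f hf hrel
    obtain ⟨b, hb⟩ := exists_unit_of_dvd hn
    obtain ⟨x, hx⟩ := exists_toral ι hF hφ (htw A hA) (hrel b (hb ▸ pow_orderOf_eq_one b))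
    exact ⟨x, by rw [hx.orderOf_eq, orderOf_pair f hf, hb]⟩
  refine ⟨key ((1, 0), (1, -1)) (by decide +kernel) _ d2
      ((powMonoidHom (q + 1)).prod (MonoidHom.id Lˣ)) (fun a b e => congrArg Prod.snd e) ?_,
    key ((-1, 1), (-1, 0)) (by decide +kernel) _ d3
      ((MonoidHom.id Lˣ).prod (powMonoidHom (q + 1))) (fun a b e => congrArg Prod.fst e) ?_,
    key ((0, 1), (-1, 1)) (by decide +kernel) _ d6
      ((MonoidHom.id Lˣ).prod (powMonoidHom q)) (fun a b e => congrArg Prod.fst e) ?_⟩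
  · intro b hb
    have e : b ^ q ^ 2 = b := by
      calc b ^ q ^ 2 = b ^ (q ^ 2 - 1 + 1) := by
            rw [Nat.sub_add_cancel (Nat.one_le_pow 2 q (by omega))]
        _ = b := by rw [pow_succ, hb, one_mul]
    refine Prod.ext ?_ ?_
    · simp only [act, ev2, MonoidHom.coe_mk, OneHom.coe_mk, MonoidHom.prod_apply, powMonoidHom_apply,
        MonoidHom.id_apply, zpow_one, zpow_zero, mul_one, Prod.pow_fst]
      rw [pow_succ, mul_pow, ← pow_mul, ← pow_two, e, mul_comm]
    · simp [act, ev2, pow_succ]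
  · intro b hb
    refine Prod.ext ?_ ?_
    · simp [act, ev2, pow_succ]
    · show b ^ (-1 : ℤ) * _ ^ (0 : ℤ) = _
      rw [zpow_zero, mul_one, zpow_neg_one, inv_eq_iff_mul_eq_one, Prod.pow_snd,
        MonoidHom.prod_apply, powMonoidHom_apply, ← pow_mul, ← pow_succ',
        show (q + 1) * q + 1 = q ^ 2 + q + 1 by ring, hb]
  · intro b hb
    refine Prod.ext ?_ ?_
    · simp [act, ev2]
    · show b ^ (-1 : ℤ) * (b ^ q) ^ (1 : ℤ) = _
      rw [zpow_one, zpow_neg_one, inv_mul_eq_iff_eq_mul, Prod.pow_snd, MonoidHom.prod_apply,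
        powMonoidHom_apply, ← pow_mul, ← pow_succ', ← pow_two]
      have hqq : q ≤ q ^ 2 := by rw [pow_two]; exact Nat.le_mul_self q
      calc b ^ q = b ^ q * b ^ (q ^ 2 - q + 1) := by rw [hb, mul_one]
        _ = _ := by rw [← pow_add]; congr 1; omega

theorem xg_orderOf {p : ℕ} [hp : Fact p.Prime] [CharP L p] {r : ℕ} (hr : r < chevG2.nroots)
    {t : L} (ht : t ≠ 0) : orderOf (certFullG2.xg r t) = p := by
  refine orderOf_eq_prime (xg_pow hr t) fun h => ht ?_
  rw [← certFullG2.xg_zero (r := r)] at h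
  exact certFullG2.xg_inj hr h

/-- The orders `p (q ± 1)` are element orders. -/
theorem exists_mixed_order {p : ℕ} [hp : Fact p.Prime] [CharP L p] (ι : F →+* L)
    (hF : Fintype.card F = q) (φ : L →+* L) (hφ : ∀ t, φ t = t ^ q) (hL : Fintype.card L = q ^ 6)
    (hq : 3 ≤ q) (hpq : p ∣ q) :
    (∃ x : ↥(chevG2.group F), orderOf x = p * (q + 1)) ∧
      ∃ x : ↥(chevG2.group F), orderOf x = p * (q - 1) := by
  obtain ⟨d1, d1', d2, -, -⟩ := dvd_sub_six (show 2 ≤ q by omega)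
  rw [← hL] at d1 d1' d2
  have h10 : (10 : ℕ) < chevG2.nroots := by rw [nroots_eq]; omega
  have h8 : (8 : ℕ) < chevG2.nroots := by rw [nroots_eq]; omega
  have hpp : p.Prime := Fact.out
  set f : Lˣ →* Lˣ × Lˣ := (powMonoidHom 2).prod (MonoidHom.id Lˣ)
  have hf : Function.Injective f := fun a b e => congrArg Prod.snd e
  have hcomm : ∀ b : Lˣ, Commute (certFullG2.xg 10 (1 : L)) (tau (f b)) := fun b => by
    have e := certFullG2.torus_conj_xg (zab (f b).1 (f b).2) h10 (1 : L)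
    rw [tchar_zab', ← tau_apply, show ex 10 = (-1, 2) by decide +kernel] at e
    have h1 : ev2 ((-1 : ℤ), (2 : ℤ)) (f b) = 1 := by
      simp [ev2, f]
    rw [h1, Units.val_one, one_mul, mul_inv_eq_iff_eq_mul] at e
    exact e.symm
  have hσ : Matrix.GeneralLinearGroup.map φ (certFullG2.xg 10 (1 : L)) = certFullG2.xg 10 (1 : L) := by
    rw [certFullG2.xg_mapHom, map_one]
  refine ⟨?_, ?_⟩
  · obtain ⟨α₀, hα₀⟩ := exists_unit_of_dvd d2
    have hα : φ (φ (α₀ : L)) = α₀ := by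
      rw [hφ, hφ, ← pow_mul, ← pow_two, ← Units.val_pow_eq_pow_val]
      congr 1
      calc α₀ ^ q ^ 2 = α₀ ^ (q ^ 2 - 1 + 1) := by
            rw [Nat.sub_add_cancel (Nat.one_le_pow 2 q (by omega))]
        _ = α₀ := by rw [pow_succ, ← hα₀, pow_orderOf_eq_one, one_mul]
    have hne : φ (α₀ : L) ≠ α₀ := fun h => by
      rw [hφ, ← Units.val_pow_eq_pow_val] at h
      have h3 : α₀ ^ (q - 1) = 1 := by
        refine mul_right_cancel (b := α₀) ?_
        rw [← pow_succ, Nat.sub_add_cancel (by omega), Units.ext h, one_mul]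
      have h4 := Nat.le_of_dvd (by omega) (hα₀ ▸ orderOf_dvd_of_pow_eq_one h3)
      have h5 : q < q ^ 2 := lt_self_pow₀ (by omega) (by norm_num)
      omega
    obtain ⟨g, x, hg, -, hk⟩ := certFullG2.exists_root_twist h8 φ hα hne
    obtain ⟨b, hb⟩ := exists_unit_of_dvd d1'
    have hb1 : b ^ (q + 1) = 1 := hb ▸ pow_orderOf_eq_one b
    have hu10 : certFullG2.xg 10 (1 : L) ∈
        chevG2.rootSubgroup L 10 ⊔ chevG2.rootSubgroup L (chevG2.neg 10) :=
      Subgroup.mem_sup_left (Subgroup.subset_closure ⟨1, certFullG2.xg_val _ _⟩)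
    have hng : certFullG2.ng 8 (x : L) ∈
        chevG2.rootSubgroup L 8 ⊔ chevG2.rootSubgroup L (chevG2.neg 8) :=
      mul_mem (mul_mem (Subgroup.mem_sup_left (Subgroup.subset_closure ⟨_, certFullG2.xg_val _ _⟩))
        (Subgroup.mem_sup_right (Subgroup.subset_closure ⟨_, certFullG2.xg_val _ _⟩)))
        (Subgroup.mem_sup_left (Subgroup.subset_closure ⟨_, certFullG2.xg_val _ _⟩))
    have hrel : act ((-1, 0), (-1, 1)) (f b) = f b ^ q := by
      have e : b⁻¹ = b ^ q := by rw [inv_eq_iff_mul_eq_one, ← pow_succ', hb1]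
      refine Prod.ext ?_ ?_
      · simp [act, ev2, f]
        rw [← inv_pow, e, ← pow_mul, ← pow_mul, mul_comm]
      · simp [act, ev2, f, pow_two, ← e]
    obtain ⟨z, hz⟩ := exists_pair ι hF φ hφ (rootSup_le_group 8 h8 hg) rfl
      (certFullG2.xg_mem_group h10 1) (hcomm b) (by rw [hk, refl_short, hrel])
      (by rw [hk, hσ, pair_commute hng hu10, mul_inv_cancel_right])
      (by
        rw [orderOf_pair f hf, hb, xg_orderOf h10 one_ne_zero]
        exact ((Fact.out : p.Prime).coprime_iff_not_dvd.2 fun h => by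
          have h3 := Nat.dvd_sub h hpq
          rw [Nat.add_sub_cancel_left] at h3
          exact hpp.ne_one (Nat.eq_one_of_dvd_one h3)).symm)
    exact ⟨z, by rw [hz, orderOf_pair f hf, hb, xg_orderOf h10 one_ne_zero, mul_comm]⟩
  · obtain ⟨b, hb⟩ := exists_unit_of_dvd d1
    have hb1 : b ^ q = b := by
      calc b ^ q = b ^ (q - 1 + 1) := by rw [Nat.sub_add_cancel (by omega)]
        _ = b := by rw [pow_succ, ← hb, pow_orderOf_eq_one, one_mul]
    obtain ⟨z, hz⟩ := exists_pair ι hF φ hφ (one_mem _) rfl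
      (certFullG2.xg_mem_group h10 1) (hcomm b)
      (by
        rw [map_one, inv_one, mul_one, one_mul, inv_one, mul_one]
        congr 1
        rw [← map_pow, hb1])
      (by rw [map_one, inv_one, mul_one, one_mul, inv_one, mul_one, hσ])
      (by
        rw [orderOf_pair f hf, hb, xg_orderOf h10 one_ne_zero]
        exact ((Fact.out : p.Prime).coprime_iff_not_dvd.2 fun h => by
          have h3 := Nat.dvd_sub hpq h
          rw [Nat.sub_sub_self (by omega)] at h3
          exact hpp.ne_one (Nat.eq_one_of_dvd_one h3)).symm)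
    exact ⟨z, by rw [hz, orderOf_pair f hf, hb, xg_orderOf h10 one_ne_zero, mul_comm]⟩

theorem ng_eight_char2 [CharP L 2] {s : ℕ} (hs : s < chevG2.nroots) (t : L) :
    certFullG2.ng 8 (1 : L) * certFullG2.xg s t * (certFullG2.ng 8 (1 : L))⁻¹ =
      certFullG2.xg (certFullG2.wl [1] (certFullG2.w 0 (certFullG2.wl [1] s))) t := by
  have hL1 : ∀ p ∈ [1], p < chevG2.rank := by decide +kernel
  have h0 : (0 : ℕ) < chevG2.rank := by decide +kernel
  have e8 : certFullG2.wl [1] (chevG2.simple 0) = 8 := by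
    rw [← certFullG2.wlT_eq]; decide +kernel
  have hone : ∀ x : L, x * x = 1 → x = 1 := fun x hx => by
    rcases mul_self_eq_one_iff.1 hx with h | h
    · exact h
    · rw [h, CharTwo.neg_eq]
  have hxg : ∀ r < chevG2.nroots, ∀ u : L,
      certFullG2.xg (certFullG2.wl [1] r) u =
        certFullG2.nw L [1] * certFullG2.xg r u * (certFullG2.nw L [1])⁻¹ := fun r hr u => by
    rw [certFullG2.xg_wl hL1 hr, hone _ (certFullG2.wsign_sq [1] r), one_mul]
  have hα := certFullG2.simple_lt h0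
  have hng : certFullG2.ng 8 (1 : L) = certFullG2.nw L [1] * certFullG2.ng (chevG2.simple 0) 1 *
      (certFullG2.nw L [1])⁻¹ := by
    rw [← e8, Cert.ng, Cert.ng, ← certFullG2.wl_neg hL1 hα, hxg _ hα,
      hxg _ (certFullG2.neg_lt hα)]
    group
  have hs' := certFullG2.wl_lt hL1 hs
  have hback : certFullG2.wl [1] (certFullG2.wl [1] s) = s := by
    have := certFullG2.wl_reverse hL1 hs
    simpa using this
  conv_lhs => rw [← hback, hxg _ hs', hng]
  calc certFullG2.nw L [1] * certFullG2.ng (chevG2.simple 0) 1 * (certFullG2.nw L [1])⁻¹ *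
        (certFullG2.nw L [1] * certFullG2.xg (certFullG2.wl [1] s) t * (certFullG2.nw L [1])⁻¹) *
        (certFullG2.nw L [1] * certFullG2.ng (chevG2.simple 0) 1 * (certFullG2.nw L [1])⁻¹)⁻¹
      = certFullG2.nw L [1] * (certFullG2.ng (chevG2.simple 0) 1 *
          certFullG2.xg (certFullG2.wl [1] s) t * (certFullG2.ng (chevG2.simple 0) 1)⁻¹) *
          (certFullG2.nw L [1])⁻¹ := by group
    _ = _ := by
      rw [certFullG2.ng_conj h0 hs', hone _ (certFullG2.eta_F_sq 0 (certFullG2.wl [1] s)), one_mul,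
        mul_inv_cancel_right, ← hxg _ (certFullG2.w_lt h0 hs')]

theorem twelve_facts : certFullG2.T.commTerms 11 5 = [(10, -1, 1, 1)] ∧
    certFullG2.T.commTerms 10 11 = [] ∧ certFullG2.T.commTerms 10 5 = [] ∧
    chevG2.neg 10 ≠ 11 ∧ chevG2.neg 10 ≠ 5 ∧ chevG2.neg 11 ≠ 5 ∧
    certFullG2.T.wlT [1] (certFullG2.T.refl 0 (certFullG2.T.wlT [1] 11)) = 5 ∧
    certFullG2.T.wlT [1] (certFullG2.T.refl 0 (certFullG2.T.wlT [1] 5)) = 11 ∧
    certFullG2.T.wlT [1] (certFullG2.T.refl 0 (certFullG2.T.wlT [1] 10)) = 10 ∧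
    ex 11 = (1, 1) ∧ ex 5 = (-2, 1) ∧ ex 10 = (-1, 2) := by decide +kernel

/-- Twelve is an element order in characteristic two. -/
theorem exists_order_twelve [CharP L 2] (ι : F →+* L) (hF : Fintype.card F = q) (φ : L →+* L)
    (hφ : ∀ t, φ t = t ^ q) (hL : Fintype.card L = q ^ 6) (hq : 4 ≤ q) (hq3 : q % 3 ≠ 0) :
    ∃ x : ↥(chevG2.group F), orderOf x = 12 := by
  obtain ⟨c115, c1011, c105, n1, n2, n3, w11, w5, w10, e11, e5, e10⟩ := twelve_facts
  have h11 : (11 : ℕ) < chevG2.nroots := by rw [nroots_eq]; omega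
  have h5 : (5 : ℕ) < chevG2.nroots := by rw [nroots_eq]; omega
  have h10 : (10 : ℕ) < chevG2.nroots := by rw [nroots_eq]; omega
  have h8 : (8 : ℕ) < chevG2.nroots := by rw [nroots_eq]; omega
  have h3 : (3 : ℕ) ∣ q ^ 2 - 1 := by
    have : q % 3 = 1 ∨ q % 3 = 2 := by omega
    have h' : q ^ 2 % 3 = 1 := by rcases this with h | h <;> simp [Nat.pow_mod, h]
    omega
  obtain ⟨-, -, d2, -, -⟩ := dvd_sub_six (show 2 ≤ q by omega)
  rw [← hL] at d2
  obtain ⟨ω, hω⟩ := exists_unit_of_dvd (L := L) (h3.trans d2)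
  have hω3 : ω ^ 3 = 1 := hω ▸ pow_orderOf_eq_one ω
  set f : Lˣ →* Lˣ × Lˣ := (MonoidHom.id Lˣ).prod (powMonoidHom 2)
  have hf : Function.Injective f := fun a b e => congrArg Prod.fst e
  have hz3 : ∀ e : ℤ, e % 3 = 0 → ω ^ e = 1 := fun e he => by
    obtain ⟨d, rfl⟩ := Int.dvd_of_emod_eq_zero he
    rw [zpow_mul, show (3 : ℤ) = ((3 : ℕ) : ℤ) from rfl, zpow_natCast, hω3, one_zpow]
  have hfix : ∀ r, r < chevG2.nroots → ((ex r).1 + (ex r).2 * 2) % 3 = 0 → ∀ t : L,
      Commute (certFullG2.xg r t) (tau (f ω)) := by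
    intro r hr hr' t
    have e := certFullG2.torus_conj_xg (zab (f ω).1 (f ω).2) hr t
    rw [tchar_zab', ← tau_apply] at e
    have h1 : ev2 (ex r) (f ω) = 1 := by
      show ω ^ (ex r).1 * (ω ^ 2) ^ (ex r).2 = 1
      rw [← zpow_natCast ω 2, ← zpow_mul, ← zpow_add, mul_comm]
      exact hz3 _ hr'
    rw [h1, Units.val_one, one_mul, mul_inv_eq_iff_eq_mul] at e
    exact e.symm
  obtain ⟨c, hc⟩ : ∃ c : L, ∀ t u : L, certFullG2.xg 5 u * certFullG2.xg 11 t =
      certFullG2.xg 11 t * certFullG2.xg 5 u * certFullG2.xg 10 (t * u) ∧ c = 1 :=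
    ⟨1, fun t u => ⟨by
      rw [certFullG2.xg_comm h11 h5 (by norm_num) n3.symm t u, c115]
      simp [CharTwo.neg_eq], rfl⟩⟩
  have hcomm10 : ∀ r, r = 11 ∨ r = 5 → ∀ t w : L,
      certFullG2.xg r t * certFullG2.xg 10 w = certFullG2.xg 10 w * certFullG2.xg r t := by
    rintro r (rfl | rfl) t w
    · rw [certFullG2.xg_comm h10 h11 (by norm_num) n1.symm w t, c1011]; simp
    · rw [certFullG2.xg_comm h10 h5 (by norm_num) n2.symm w t, c105]; simp
  -- the unipotent element
  have hu4 : ∀ β : L, orderOf (certFullG2.xg 11 1 * certFullG2.xg 5 1 * certFullG2.xg 10 β) = 4 := by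
    intro β
    set a := certFullG2.xg 11 (1 : L)
    set b := certFullG2.xg 5 (1 : L)
    set d := certFullG2.xg 10 β
    have hda : Commute d (a * b) :=
      Commute.mul_right (hcomm10 11 (Or.inl rfl) _ _).symm (hcomm10 5 (Or.inr rfl) _ _).symm
    have hba : b * a = a * b * certFullG2.xg 10 (1 : L) := by
      rw [(hc 1 1).1, mul_one]
    have hb10 : certFullG2.xg 10 (1 : L) * b = b * certFullG2.xg 10 1 :=
      (hcomm10 5 (Or.inr rfl) _ _).symm
    have hsq : ∀ {r : ℕ}, r < chevG2.nroots → ∀ t : L,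
        certFullG2.xg r t * certFullG2.xg r t = 1 := fun hr t => by
      rw [← pow_two]; exact xg_pow hr t
    have h2 : (a * b * d) ^ 2 = certFullG2.xg 10 1 := by
      rw [hda.symm.mul_pow, pow_two d, hsq h10, mul_one, pow_two]
      calc a * b * (a * b) = a * (b * a) * b := by group
        _ = a * a * b * (certFullG2.xg 10 1 * b) := by rw [hba]; group
        _ = a * a * (b * b) * certFullG2.xg 10 1 := by rw [hb10]; group
        _ = _ := by rw [hsq h11, hsq h5, one_mul, one_mul]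
    have h4 : (a * b * d) ^ 4 = 1 := by
      rw [show 4 = 2 * 2 from rfl, pow_mul, h2, xg_pow h10]
    exact orderOf_eq_prime_pow (p := 2) (n := 1)
      (by rw [pow_one, h2]; exact fun h => one_ne_zero (certFullG2.xg_inj h10
        (h.trans (certFullG2.xg_zero (r := 10)).symm)))
      (by norm_num; exact h4)
  have hmem : ∀ β : L, certFullG2.xg 11 1 * certFullG2.xg 5 1 * certFullG2.xg 10 β ∈
      chevG2.group L := fun β => mul_mem (mul_mem (certFullG2.xg_mem_group h11 _)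
      (certFullG2.xg_mem_group h5 _)) (certFullG2.xg_mem_group h10 _)
  have hcu : ∀ β : L, Commute (certFullG2.xg 11 1 * certFullG2.xg 5 1 * certFullG2.xg 10 β)
      (tau (f ω)) := fun β =>
    ((hfix 11 h11 (by rw [e11]; rfl) 1).mul_left (hfix 5 h5 (by rw [e5]; rfl) 1)).mul_left
      (hfix 10 h10 (by rw [e10]; rfl) β)
  have hcop : (orderOf (f ω)).Coprime 4 := by rw [orderOf_pair f hf, hω]; norm_num
  rcases (show q % 3 = 1 ∨ q % 3 = 2 by omega) with h | h
  · have hq' : ω ^ q = ω := by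
      rw [← Nat.div_add_mod q 3, h, pow_succ, pow_mul, hω3, one_pow, one_mul]
    obtain ⟨z, hz⟩ := exists_pair ι hF φ hφ (one_mem _) rfl (hmem 0) (hcu 0)
      (by
        rw [map_one, inv_one, mul_one, one_mul, inv_one, mul_one]
        congr 1
        rw [← map_pow, hq'])
      (by
        rw [map_one, inv_one, mul_one, one_mul, inv_one, mul_one, map_mul, map_mul,
          certFullG2.xg_mapHom, certFullG2.xg_mapHom, certFullG2.xg_mapHom, map_one, map_zero])
      (by rw [hu4]; exact hcop)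
    exact ⟨z, by rw [hz, hu4, orderOf_pair f hf, hω]⟩
  · obtain ⟨α₀, hα₀⟩ := exists_unit_of_dvd d2
    have hα : φ (φ (α₀ : L)) = α₀ := by
      rw [hφ, hφ, ← pow_mul, ← pow_two, ← Units.val_pow_eq_pow_val]
      congr 1
      calc α₀ ^ q ^ 2 = α₀ ^ (q ^ 2 - 1 + 1) := by
            rw [Nat.sub_add_cancel (Nat.one_le_pow 2 q (by omega))]
        _ = α₀ := by rw [pow_succ, ← hα₀, pow_orderOf_eq_one, one_mul]
    have hne : φ (α₀ : L) ≠ α₀ := fun h => by
      rw [hφ, ← Units.val_pow_eq_pow_val] at h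
      have h3 : α₀ ^ (q - 1) = 1 := by
        refine mul_right_cancel (b := α₀) ?_
        rw [← pow_succ, Nat.sub_add_cancel (by omega), Units.ext h, one_mul]
      have h4 := Nat.le_of_dvd (by omega) (hα₀ ▸ orderOf_dvd_of_pow_eq_one h3)
      have h5 : q < q ^ 2 := lt_self_pow₀ (by omega) (by norm_num)
      omega
    obtain ⟨β, hβ⟩ : ∃ β : L, φ β = β + 1 ∧ φ (φ β) = β ∧ φ β ≠ β := by
      have hδ : φ (α₀ : L) - α₀ ≠ 0 := sub_ne_zero.2 hne
      have hφδ : φ (φ (α₀ : L) - α₀) = φ (α₀ : L) - α₀ := by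
        rw [map_sub, hα, CharTwo.sub_eq_add, CharTwo.sub_eq_add, add_comm]
      have e1 : φ ((α₀ : L) / (φ (α₀ : L) - α₀)) = (α₀ : L) / (φ (α₀ : L) - α₀) + 1 := by
        rw [map_div₀, hφδ, div_add_one hδ]
        congr 1
        ring
      refine ⟨_, e1, by rw [e1, map_add, e1, map_one, add_assoc, CharTwo.add_self_eq_zero, add_zero],
        fun e => ?_⟩
      rw [e1] at e
      exact one_ne_zero (add_eq_left.1 e)
    obtain ⟨g, x, hg, hx, hk⟩ := certFullG2.exists_root_twist h8 φ hβ.2.1 hβ.2.2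
    have hx1 : (x : L) = 1 := by rw [hx, hβ.1, add_sub_cancel_left, inv_one, CharTwo.neg_eq]
    have hq' : ω ^ q = ω ^ 2 := by
      rw [← Nat.div_add_mod q 3, h, pow_add, pow_mul, hω3, one_pow, one_mul]
    have hrel : act ((-1, 0), (-1, 1)) (f ω) = f ω ^ q := by
      rw [← map_pow, hq']
      refine Prod.ext ?_ ?_
      · show ω ^ (-1 : ℤ) * (ω ^ 2) ^ (0 : ℤ) = ω ^ 2
        rw [zpow_zero, mul_one, zpow_neg_one, inv_eq_iff_mul_eq_one, ← pow_succ', hω3]
      · show ω ^ (-1 : ℤ) * (ω ^ 2) ^ (1 : ℤ) = (ω ^ 2) ^ 2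
        rw [zpow_one, zpow_neg_one, inv_mul_eq_iff_eq_mul, ← pow_mul, ← pow_succ',
          show 2 * 2 + 1 = 3 + 2 by norm_num, pow_add, hω3, one_mul]
    have hnw : ∀ s, s < chevG2.nroots → ∀ s', certFullG2.T.wlT [1] (certFullG2.T.refl 0
        (certFullG2.T.wlT [1] s)) = s' → ∀ t : L,
        certFullG2.ng 8 (1 : L) * certFullG2.xg s t * (certFullG2.ng 8 (1 : L))⁻¹ =
          certFullG2.xg s' t := fun s hs s' e t => by
      rw [ng_eight_char2 hs, ← certFullG2.wlT_eq, ← certFullG2.wlT_eq]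
      exact congrArg (fun r => certFullG2.xg r t) e
    obtain ⟨z, hz⟩ := exists_pair ι hF φ hφ (rootSup_le_group 8 h8 hg) rfl (hmem β) (hcu β)
      (by rw [hk, refl_short, hrel])
      (by
        rw [hk, hx1, map_mul, map_mul, certFullG2.xg_mapHom, certFullG2.xg_mapHom,
          certFullG2.xg_mapHom, map_one, hβ.1]
        set n := certFullG2.ng 8 (1 : L)
        calc certFullG2.xg 11 1 * certFullG2.xg 5 1 * certFullG2.xg 10 (β + 1)
            = certFullG2.xg 11 1 * certFullG2.xg 5 1 * certFullG2.xg 10 1 * certFullG2.xg 10 β := by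
              rw [add_comm, certFullG2.xg_add]; group
          _ = certFullG2.xg 5 1 * certFullG2.xg 11 1 * certFullG2.xg 10 β := by
              rw [(hc 1 1).1, mul_one]
          _ = (n * certFullG2.xg 11 1 * n⁻¹) * (n * certFullG2.xg 5 1 * n⁻¹) *
              (n * certFullG2.xg 10 β * n⁻¹) := by
              rw [hnw 11 h11 5 w11, hnw 5 h5 11 w5, hnw 10 h10 10 w10]
          _ = _ := by group)
      (by rw [hu4]; exact hcop)
    exact ⟨z, by rw [hz, hu4, orderOf_pair f hf, hω]⟩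

end

/-- A certificate that a product of two root elements has large order. -/
def checkPow (p n : ℕ) : Bool :=
  (List.range 14).any fun i => (List.range 14).any fun j =>
    !decide ((((Cfsg.Agent.Lie.Chev.applyAll ((List.replicate n
        [certFullG2.T.xCol 7 0 0 0 1, certFullG2.T.xCol 6 0 0 0 1]).flatten) (unitVec j)).map
          fun t => if t.row = i then t.coef else 0).sum - (if i = j then 1 else 0)) % (p : ℤ) = 0)

theorem pow_checks : checkPow 2 4 = true ∧ checkPow 3 3 = true ∧ checkPow 5 5 = true := by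
  decide +kernel

theorem enum_surj : ∀ i < 14, ∃ a : chevG2.Idx, enum chevG2 a = i := by
  intro i hi
  have hr : chevG2.rank = 2 := torus_values.1
  by_cases h : i < 2
  · exact ⟨Sum.inl ⟨i, by omega⟩, rfl⟩
  · refine ⟨Sum.inr ⟨i - 2, by rw [nroots_eq]; omega⟩, ?_⟩
    show chevG2.rank + (i - 2) = i
    omega

theorem pow_ne_one_of_check {F : Type*} [Field F] {p n : ℕ} [CharP F p]
    (h : checkPow p n = true) :
    (certFullG2.xg 7 (1 : F) * certFullG2.xg 6 1) ^ n ≠ 1 := by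
  intro he
  simp only [checkPow, List.any_eq_true, List.mem_range, Bool.not_eq_true',
    decide_eq_false_iff_not] at h
  obtain ⟨i, hi, j, hj, hne⟩ := h
  obtain ⟨a, ha⟩ := enum_surj i hi
  obtain ⟨b, hb⟩ := enum_surj j hj
  set cols := (List.replicate n
        [certFullG2.T.xCol 7 0 0 0 1, certFullG2.T.xCol 6 0 0 0 1]).flatten with hcols
  have hprod : ((cols.map (evMat (enum chevG2) (1 : F) 1 1)).prod) =
      (((certFullG2.xg 7 (1 : F) * certFullG2.xg 6 1) ^ n : GL chevG2.Idx F) :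
        Matrix chevG2.Idx chevG2.Idx F) := by
    rw [hcols, List.map_flatten, List.prod_flatten, List.map_map, List.map_replicate,
      List.prod_replicate, Units.val_pow_eq_pow_val]
    congr 1
    simp only [Function.comp_apply, List.map_cons, List.map_nil, List.prod_cons, List.prod_nil,
      mul_one, Units.val_mul, certFullG2.xg_val]
    rw [certFullG2.x_eq_evMat _ _ _ _ _ _ _ _ (by rw [nroots_eq]; omega),
      certFullG2.x_eq_evMat _ _ _ _ _ _ _ _ (by rw [nroots_eq]; omega)]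
    simp
  have h1 := prod_evMat_mulVec (enum chevG2) (1 : F) 1 1 (enum_injective chevG2) cols
    (fun col hcol => by
      rw [hcols, List.mem_flatten] at hcol
      obtain ⟨l, hl, hcol⟩ := hcol
      rw [List.eq_of_mem_replicate hl] at hcol
      simp only [List.mem_cons, List.not_mem_nil, or_false] at hcol
      rcases hcol with rfl | rfl <;> exact certFullG2.xCol_out _ _ _ _ _) (unitVec j)
  rw [hprod, he, Units.val_one, Matrix.one_mulVec] at h1
  have h2 := congrFun h1 a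
  rw [← hb, ev_unitVec (enum chevG2) _ _ _ (enum_injective chevG2) b] at h2
  rw [hb] at h2
  refine hne ?_
  rw [← Int.dvd_iff_emod_eq_zero, ← CharP.intCast_eq_zero_iff F p, Int.cast_sub, sub_eq_zero]
  have hev : ∀ M : List Term, ev (enum chevG2) (1 : F) 1 1 M a =
      (((M.map fun t => if t.row = i then t.coef else 0).sum : ℤ) : F) := by
    intro M
    induction M with
    | nil => simp [ev_nil]
    | cons t M ih =>
      rw [ev_cons, Pi.add_apply, ih, List.map_cons, List.sum_cons, Int.cast_add, ha]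
      congr 1
      by_cases e : i = t.row
      · simp [e, Term.val]
      · simp [e, Ne.symm e]
  rw [hev] at h2
  rw [← h2, Pi.single_apply]
  by_cases e : a = b
  · subst e
    have hij : i = j := ha.symm.trans hb
    simp [hij]
  · have hij : i ≠ j := fun hij => e (enum_injective chevG2 (ha.trans (hij.trans hb.symm)))
    simp [e, hij]

section

variable {F : Type*} [Field F] [Fintype F] {p : ℕ} [hp : Fact p.Prime] [CharP F p]

/-- The order `p ^ 2` for small primes, and `8`. -/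
theorem exists_unipotent_order : (p = 2 → ∃ x : ↥(chevG2.group F), orderOf x = 8) ∧
    (p = 3 ∨ p = 5 → ∃ x : ↥(chevG2.group F), orderOf x = p ^ 2) := by
  have h7 : certFullG2.Pos 7 := pos_iff.2 (by omega)
  have h6 : certFullG2.Pos 6 := pos_iff.2 (by omega)
  set u := certFullG2.xg 7 (1 : F) * certFullG2.xg 6 1
  have hU : u ∈ chevG2.posUnipotent F := mul_mem (certFullG2.xg_mem_U h7 1) (certFullG2.xg_mem_U h6 1)
  have hG : u ∈ chevG2.group F := certFullG2.B_le_group (Subgroup.mem_sup_left hU)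
  obtain ⟨c2, c3, c5⟩ := pow_checks
  refine ⟨fun h2 => ?_, fun h35 => ?_⟩
  · subst h2
    refine ⟨⟨u, hG⟩, ?_⟩
    rw [Subgroup.orderOf_mk, show 8 = 2 ^ (2 + 1) from rfl]
    exact orderOf_eq_prime_pow (pow_ne_one_of_check (p := 2) c2) (U_pow_eight hU)
  · refine ⟨⟨u, hG⟩, ?_⟩
    rw [Subgroup.orderOf_mk, show p ^ 2 = p ^ (1 + 1) from rfl]
    refine orderOf_eq_prime_pow ?_ (U_pow_sq (by omega) hU)
    rw [pow_one]
    rcases h35 with rfl | rfl
    · exact pow_ne_one_of_check (p := 3) c3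
    · exact pow_ne_one_of_check (p := 5) c5

/-- An element of `p`-power order is conjugate into the positive unipotent group. -/
theorem exists_conj_mem_U {x : ↥(chevG2.group F)} {k : ℕ} (hx : x ^ p ^ k = 1) :
    ∃ g : ↥(chevG2.group F), ((g * x * g⁻¹ : ↥(chevG2.group F)) : GL chevG2.Idx F) ∈
      chevG2.posUnipotent F := by
  classical
  have hUG : chevG2.posUnipotent F ≤ chevG2.group F := fun u hu =>
    certFullG2.B_le_group (Subgroup.mem_sup_left hu)
  obtain ⟨R, hR⟩ := ((certFullG2.isPGroup_U (F := F) (ℓ := p)).comap_of_injective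
    (chevG2.group F).subtype (chevG2.group F).subtype_injective).exists_le_sylow
  have hH : Nat.card (chevG2.diagonalSubgroup F) = (Fintype.card F - 1) ^ 2 := by
    have := torusOrderG2 F
    simpa [torus_values.1] using this
  have hpp : p.Prime := Fact.out
  obtain ⟨n, -, hn⟩ := FiniteField.card F p
  have hcard := certFullG2.card_group (F := F) chainG2_ok chainG2_len
  rw [chain_eq, hH] at hcard
  have hnot : ¬ p ∣ (Fintype.card F - 1) ^ 2 *
      (words.map fun v => Fintype.card F ^ certFullG2.invN v).sum := by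
    have hQ : ((Fintype.card F : ℕ) : ZMod p) = 0 := by
      rw [hn, Nat.cast_pow, ZMod.natCast_self, zero_pow n.ne_zero]
    rw [← ZMod.natCast_eq_zero_iff, Nat.cast_mul, Nat.cast_pow, Nat.cast_sub Fintype.card_pos, hQ,
      Nat.cast_one, zero_sub, neg_one_sq, one_mul, Nat.cast_list_sum, List.map_map]
    obtain ⟨-, -, -, hpoly⟩ := certFullG2.chain_spec chainG2 chainG2_ok chainG2_len.le
    have h0 := congrArg (fun z : ℤ => (z : ZMod p)) (hpoly 0)
    rw [chain_eq] at h0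
    have hz : ∀ v : List ℕ, ((Nat.cast : ℕ → ZMod p) ∘ fun v => Fintype.card F ^
        certFullG2.invN v) v = (((0 : ℤ) ^ certFullG2.invN v : ℤ) : ZMod p) := fun v => by
      simp [Function.comp, hQ]
    rw [List.map_congr_left fun v _ => hz v]
    rw [show (words.map fun v => (((0 : ℤ) ^ certFullG2.invN v : ℤ) : ZMod p)).sum =
      (((words.map fun v => (0 : ℤ) ^ certFullG2.invN v).sum : ℤ) : ZMod p) from by
        rw [Int.cast_list_sum, List.map_map]; rfl, h0]
    simp [chainG2, repsG2L1, repsG2L2]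
  have hRU : (R : Subgroup ↥(chevG2.group F)) =
      (chevG2.posUnipotent F).comap (chevG2.group F).subtype := by
    refine (Subgroup.eq_of_le_of_card_ge hR (le_of_eq ?_)).symm
    rw [R.card_eq_multiplicity, show Nat.card ((chevG2.posUnipotent F).comap
        (chevG2.group F).subtype) = Nat.card (chevG2.posUnipotent F) from
        Nat.card_congr (Subgroup.subgroupOfEquivOfLe hUG).toEquiv, certFullG2.card_posUnipotent,
      hcard, mul_assoc, Nat.factorization_mul
        (pow_ne_zero _ (Fintype.card_pos).ne') (fun h => hnot (by rw [h]; exact dvd_zero p)),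
      Finsupp.add_apply, Nat.factorization_eq_zero_of_not_dvd hnot, add_zero, hn, ← pow_mul,
      hpp.factorization_pow, Finsupp.single_eq_same]
  obtain ⟨R', hR'⟩ := (show IsPGroup p (Subgroup.zpowers x) from by
    rintro ⟨y, hy⟩
    obtain ⟨d, rfl⟩ := Subgroup.mem_zpowers_iff.1 hy
    refine ⟨k, Subtype.ext ?_⟩
    rw [Subgroup.coe_pow, Subgroup.coe_one, Subtype.coe_mk, ← zpow_natCast, ← zpow_mul, mul_comm,
      zpow_mul, zpow_natCast, hx, one_zpow]).exists_le_sylow
  obtain ⟨g, hg⟩ := MulAction.exists_smul_eq ↥(chevG2.group F) R' R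
  refine ⟨g, ?_⟩
  have h1 : g * x * g⁻¹ ∈ (R : Subgroup ↥(chevG2.group F)) := by
    rw [← hg, Sylow.coe_subgroup_smul]
    exact Subgroup.smul_mem_pointwise_smul _ (MulAut.conj g) _ (hR' (Subgroup.mem_zpowers _))
  rw [hRU] at h1
  exact h1

variable {L : Type*} [Field L] [Fintype L] {q : ℕ}

/-- The orders of commuting semisimple and unipotent parts. -/
theorem mixed_bound [CharP L p] (ι : F →+* L) (hF : Fintype.card F = q) (φ : L →+* L)
    (hφ : ∀ t, φ t = t ^ q) (hL : Fintype.card L = q ^ 6) (hq : 3 ≤ q) (hqp : p ∣ q)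
    {y v : ↥(chevG2.group F)} (hyv : Commute y v) (hy : (orderOf y).Coprime p) (hy1 : y ≠ 1)
    {k : ℕ} (hk : v ^ p ^ k = 1) (hv1 : v ≠ 1) :
    (orderOf y ∣ q - 1 ∨ orderOf y ∣ q + 1) ∧
      (v ^ p = 1 ∨ (p = 2 ∧ orderOf y = 3 ∧ v ^ 4 = 1)) := by
  classical
  obtain ⟨A, hA, P, hAP, hT⟩ := exists_param_of_semisimple (p := p) ι hF hφ hL hq hy
  have hord := hT.orderOf_eq
  obtain ⟨h, hh, hhy⟩ := hT
  set mι := Matrix.GeneralLinearGroup.map (n := chevG2.Idx) ι
  have hinj : Function.Injective mι := fun a b e => Units.ext (Matrix.ext fun i j => ι.injective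
      (congrArg (fun w : GL chevG2.Idx L => (w : Matrix chevG2.Idx chevG2.Idx L) i j) e))
  obtain ⟨v₁, hv₁⟩ : ∃ v₁, v₁ = h * mι (v : GL chevG2.Idx F) * h⁻¹ := ⟨_, rfl⟩
  have hv₁G : v₁ ∈ chevG2.group L :=
    hv₁ ▸ mul_mem (mul_mem hh (certFullG2.mapHom_mem_group ι v.2)) (inv_mem hh)
  have hv₁c : Commute v₁ (tau P) := by
    have e := congrArg (fun w : ↥(chevG2.group F) => mι (w : GL chevG2.Idx F)) hyv.eq
    simp only [Subgroup.coe_mul, map_mul] at e
    rw [hv₁, ← hhy]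
    show _ * _ = _ * _
    calc h * mι (v : GL chevG2.Idx F) * h⁻¹ * (h * mι (y : GL chevG2.Idx F) * h⁻¹)
        = h * (mι (v : GL chevG2.Idx F) * mι (y : GL chevG2.Idx F)) * h⁻¹ := by group
      _ = h * (mι (y : GL chevG2.Idx F) * mι (v : GL chevG2.Idx F)) * h⁻¹ := by rw [e]
      _ = _ := by group
  have hpow : ∀ n : ℕ, v₁ ^ n = 1 ↔ v ^ n = 1 := fun n => by
    rw [hv₁, conj_pow, mul_inv_eq_one, mul_eq_left, ← map_pow, ← map_one mι, hinj.eq_iff,
      ← Subgroup.coe_pow, OneMemClass.coe_eq_one]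
  have hv₁1 : v₁ ≠ 1 := fun e => hv1 (by simpa using (hpow 1).1 (by rw [pow_one, e]))
  -- some root is trivial on the parameter
  obtain ⟨s, hs, hval⟩ : ∃ s < 12, ev2 (ex s) P = 1 := by
    by_contra hreg
    push Not at hreg
    exact hv₁1 (eq_one_of_regular (p := p) hreg hv₁G hv₁c ((hpow _).2 hk))
  obtain ⟨hmove, e6, e8, -, -, hfamA, hfamB⟩ := family_facts
  obtain ⟨U, hU, hUs⟩ := hmove s hs
  have hUW : mat U ∈ W12 := List.mem_map_of_mem hU
  obtain ⟨V, hV, hUV, hVU⟩ := W12_inv (mat U) hUW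
  obtain ⟨P', hP'⟩ : ∃ P', P' = act (mat U) P := ⟨_, rfl⟩
  obtain ⟨A', hA'⟩ : ∃ A', A' = mm2 (mat U) (mm2 A V) := ⟨_, rfl⟩
  have hA'W : A' ∈ W12 := hA' ▸ W12_mul _ hUW _ (W12_mul _ hA _ hV)
  have hAP' : act A' P' = P' ^ q := by
    rw [hA', hP', ← act_comp, ← act_comp, act_comp V, hVU, act_id, hAP, map_pow]
  have hord' : orderOf P' = orderOf y := by
    rw [hord, hP']
    refine orderOf_injective (act (mat U)) (fun R S e => ?_) P
    have e' := congrArg (act V) e
    rwa [act_comp, act_comp, hVU, act_id, act_id] at e'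
  have hval' : ev2 (ex (certFullG2.T.wlT U s)) P' = 1 := by
    rw [hP', ev2_act, ex_wl U hU s hs, hval]
  obtain ⟨v₂, hv₂⟩ : ∃ v₂, v₂ = certFullG2.nw L U * v₁ * (certFullG2.nw L U)⁻¹ := ⟨_, rfl⟩
  have hnG : certFullG2.nw L U ∈ chevG2.group L :=
    certFullG2.N_le_group (certFullG2.nw_mem_N (words_lt U hU))
  have hv₂G : v₂ ∈ chevG2.group L := hv₂ ▸ mul_mem (mul_mem hnG hv₁G) (inv_mem hnG)
  have hv₂c : Commute v₂ (tau P') := by
    rw [hv₂, hP', ← nw_tau hU]
    show _ * _ = _ * _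
    calc certFullG2.nw L U * v₁ * (certFullG2.nw L U)⁻¹ *
          (certFullG2.nw L U * tau P * (certFullG2.nw L U)⁻¹)
        = certFullG2.nw L U * (v₁ * tau P) * (certFullG2.nw L U)⁻¹ := by group
      _ = certFullG2.nw L U * (tau P * v₁) * (certFullG2.nw L U)⁻¹ := by rw [hv₁c.eq]
      _ = _ := by group
  have hpow₂ : ∀ n : ℕ, v₂ ^ n = 1 ↔ v ^ n = 1 := fun n => by
    rw [hv₂, conj_pow, mul_inv_eq_one, mul_eq_left, hpow]
  have hP'1 : P' ≠ 1 := fun e => hy1 (by
    rw [e, orderOf_one] at hord'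
    exact orderOf_eq_one_iff.1 hord'.symm)
  have hchar2 : ∀ x : Lˣ, x ^ 2 = 1 → x ≠ 1 → p ≠ 2 := fun x hx hne h2 => by
    subst h2
    refine hne (Units.ext ?_)
    have e : (x : L) * x = 1 := by rw [← Units.val_mul, ← pow_two, hx, Units.val_one]
    rcases mul_self_eq_one_iff.1 e with h | h
    · simpa using h
    · rw [h, CharTwo.neg_eq, Units.val_one]
  have hfinish : ∀ {i j : ℤ} {m lim : ℕ} {a : Lˣ}, checkCase i j m lim = true →
      P' = (a ^ i, a ^ j) → a ^ m = 1 →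
      (∀ e : ℤ, e.natAbs ≤ lim → e % (m : ℤ) ≠ 0 → a ^ e ≠ 1) →
      ∃ g : GL chevG2.Idx L, g * v₂ * g⁻¹ ∈
        certFullG2.KS L {r | r ∈ posOne i j m} certFullG2.T.h := by
    intro i j m lim a hc hPe hm hne
    exact exists_conj_mem_KS (p := p) hc hm hne hv₂G (by rw [← hPe]; exact hv₂c) ((hpow₂ _).2 hk)
  have hback : ∀ (g : GL chevG2.Idx L) (n : ℕ), (g * v₂ * g⁻¹) ^ n = 1 → v ^ n = 1 := fun g n e => by
    rw [conj_pow, mul_inv_eq_one, mul_eq_left, hpow₂] at e
    exact e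
  obtain ⟨hA0, hB0, hA2, hB2, hA3, hN3, hA4, hB4, hA5, hB5⟩ := case_checks
  have hz : ∀ (x : Lˣ) (e : ℤ), x ^ e = 1 → x ^ e.natAbs = 1 := fun x e he => by
    rwa [pow_natAbs_eq_one]
  rcases hUs with hU6 | hU8
  · -- the long family
    rw [hU6, e6] at hval'
    have hb : P'.2 = P'.1 ^ 2 := by
      have : P'.1 ^ (2 : ℤ) * P'.2 ^ (-1 : ℤ) = 1 := hval'
      rw [zpow_neg_one, mul_inv_eq_one] at this
      rw [← this]
      exact zpow_natCast _ 2
    obtain ⟨a, ha⟩ : ∃ a, a = P'.1 := ⟨_, rfl⟩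
    rw [← ha] at hb
    have hPa : P' = (a ^ (1 : ℤ), a ^ (2 : ℤ)) := Prod.ext (by rw [zpow_one, ha])
      (by rw [hb]; exact (zpow_natCast a 2).symm)
    have ha1 : a ≠ 1 := fun e => hP'1 (by rw [hPa, e, one_zpow, one_zpow]; rfl)
    have horda : orderOf y = orderOf a := by
      rw [← hord', show P' = ((MonoidHom.id Lˣ).prod (powMonoidHom 2)) a from
        Prod.ext ha.symm hb, orderOf_pair]
      exact fun x z e => congrArg Prod.fst e
    have hev : ∀ x : ℤ × ℤ, ev2 x P' = a ^ (x.1 + 2 * x.2) := fun x => by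
      rw [hPa, ev2, zpow_one, ← zpow_mul, ← zpow_add]
    have hk1 : a ^ q = a ^ (A'.1.1 + 2 * A'.1.2) := by
      rw [← hev, ha, ← Prod.pow_fst, ← hAP']; rfl
    have hk2 : a ^ (2 * q) = a ^ (A'.2.1 + 2 * A'.2.2) := by
      rw [← hev, pow_mul, ← hb, ← Prod.pow_snd, ← hAP']; rfl
    have hdiv : orderOf y ∣ q - 1 ∨ orderOf y ∣ q + 1 := by
      rw [horda]
      rcases hfamA A' hA'W with (h1 | h1) | h3
      · left
        rw [h1, zpow_one] at hk1
        refine orderOf_dvd_of_pow_eq_one (mul_right_cancel (b := a) ?_)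
        rw [← pow_succ, Nat.sub_add_cancel (by omega), hk1, one_mul]
      · right
        rw [h1, zpow_neg_one] at hk1
        exact orderOf_dvd_of_pow_eq_one (by rw [pow_succ, hk1, inv_mul_cancel])
      · have e : a ^ ((A'.2.1 + 2 * A'.2.2) - 2 * (A'.1.1 + 2 * A'.1.2)) = 1 := by
          rw [zpow_sub, ← hk2, mul_comm 2 (A'.1.1 + 2 * A'.1.2), zpow_mul, ← hk1,
            mul_inv_eq_one, mul_comm, pow_mul]
          exact (zpow_natCast _ 2).symm
        have h3' := hz _ _ e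
        rw [h3] at h3'
        have hd : orderOf a = 3 :=
          ((Nat.dvd_prime Nat.prime_three).1 (orderOf_dvd_of_pow_eq_one h3')).resolve_left
            fun h => ha1 (orderOf_eq_one_iff.1 h)
        have hq3 : q % 3 ≠ 0 := by
          intro h0
          have hp3 : ¬ p ∣ 3 := by
            have hcop := hy
            rw [horda, hd] at hcop
            exact (hp.out.coprime_iff_not_dvd).1 hcop.symm
          obtain ⟨n, -, hn⟩ := FiniteField.card F p
          have : 3 ∣ p := Nat.prime_three.dvd_of_dvd_pow (hn ▸ hF ▸ Nat.dvd_of_mod_eq_zero h0)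
          exact hp3 (((Nat.prime_dvd_prime_iff_eq Nat.prime_three hp.out).1 this) ▸ dvd_rfl)
        rw [hd]
        omega
    refine ⟨hdiv, ?_⟩
    by_cases h2 : a ^ 2 = 1
    · have hp2 := hchar2 a h2 ha1
      obtain ⟨g, hg⟩ := hfinish hA2 hPa h2 (fun e he hne h => ha1 (by
        have h' := hz _ _ h
        have : orderOf a ∣ Nat.gcd 2 e.natAbs :=
          Nat.dvd_gcd (orderOf_dvd_of_pow_eq_one h2) (orderOf_dvd_of_pow_eq_one h')
        have hg : Nat.gcd 2 e.natAbs = 1 := by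
          have : e.natAbs % 2 = 1 := by omega
          rw [Nat.gcd_rec, this, Nat.gcd_one_left]
        rw [hg, Nat.dvd_one, orderOf_eq_one_iff] at this
        exact this))
      exact Or.inl (hback g p (KS_pow_of_ab hB2 hg))
    by_cases h3 : a ^ 3 = 1
    · have hd : orderOf a = 3 :=
        ((Nat.dvd_prime Nat.prime_three).1 (orderOf_dvd_of_pow_eq_one h3)).resolve_left
          fun h => ha1 (orderOf_eq_one_iff.1 h)
      obtain ⟨g, hg⟩ := hfinish hA3 hPa h3 (fun e he hne h => by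
        have h' := hd ▸ orderOf_dvd_of_pow_eq_one (hz _ _ h)
        omega)
      obtain ⟨n2, nodd⟩ := KS_nilTwo (p := p) hN3 hg
      by_cases hp2 : p = 2
      · exact Or.inr ⟨hp2, horda.trans hd, hback g 4 (n2 hp2)⟩
      · exact Or.inl (hback g p (nodd hp2))
    obtain ⟨g, hg⟩ := hfinish hA0 hPa (pow_zero a) (fun e he hne h => by
      have h' := hz _ _ h
      rw [Nat.cast_zero, Int.emod_zero] at hne
      rcases (show e.natAbs = 1 ∨ e.natAbs = 2 ∨ e.natAbs = 3 by omega) with e' | e' | e' <;>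
        rw [e'] at h'
      · exact ha1 (by rwa [pow_one] at h')
      · exact h2 h'
      · exact h3 h')
    exact Or.inl (hback g p (KS_pow_of_ab hB0 hg))
  · -- the short family
    rw [hU8, e8] at hval'
    have ha : P'.1 = 1 := by
      have : P'.1 ^ (1 : ℤ) * P'.2 ^ (0 : ℤ) = 1 := hval'
      rwa [zpow_one, zpow_zero, mul_one] at this
    obtain ⟨b, hb⟩ : ∃ b, b = P'.2 := ⟨_, rfl⟩
    have hPb : P' = (b ^ (0 : ℤ), b ^ (1 : ℤ)) := Prod.ext (by rw [zpow_zero, ha])
      (by rw [zpow_one, hb])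
    have hb1 : b ≠ 1 := fun e => hP'1 (by rw [hPb, e, one_zpow, one_zpow]; rfl)
    have hordb : orderOf y = orderOf b := by
      rw [← hord', show P' = ((1 : Lˣ →* Lˣ).prod (MonoidHom.id Lˣ)) b from
        Prod.ext (by simp [ha]) hb.symm, orderOf_pair]
      exact fun x z e => congrArg Prod.snd e
    have hev : ∀ x : ℤ × ℤ, ev2 x P' = b ^ x.2 := fun x => by
      rw [hPb, ev2, zpow_zero, one_zpow, one_mul, zpow_one]
    have hk1 : b ^ A'.1.2 = 1 := by
      have e := congrArg Prod.fst hAP'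
      rw [Prod.pow_fst, ha, one_pow] at e
      rw [← hev]; exact e
    have hk2 : b ^ q = b ^ A'.2.2 := by
      rw [← hev, hb, ← Prod.pow_snd, ← hAP']; rfl
    have hdiv : orderOf y ∣ q - 1 ∨ orderOf y ∣ q + 1 := by
      rw [hordb]
      rcases hfamB A' hA'W with ⟨-, h1 | h1⟩ | h1 | h1
      · left
        rw [h1, zpow_one] at hk2
        refine orderOf_dvd_of_pow_eq_one (mul_right_cancel (b := b) ?_)
        rw [← pow_succ, Nat.sub_add_cancel (by omega), hk2, one_mul]
      · right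
        rw [h1, zpow_neg_one] at hk2
        exact orderOf_dvd_of_pow_eq_one (by rw [pow_succ, hk2, inv_mul_cancel])
      · rw [h1, zpow_one] at hk1; exact absurd hk1 hb1
      · rw [h1, zpow_neg_one, inv_eq_one] at hk1; exact absurd hk1 hb1
    refine ⟨hdiv, Or.inl ?_⟩
    by_cases h2 : b ^ 2 = 1
    · have hd : orderOf b = 2 :=
        ((Nat.dvd_prime Nat.prime_two).1 (orderOf_dvd_of_pow_eq_one h2)).resolve_left
          fun h => hb1 (orderOf_eq_one_iff.1 h)
      obtain ⟨g, hg⟩ := hfinish hA5 hPb h2 (fun e he hne h => by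
        have h' := hd ▸ orderOf_dvd_of_pow_eq_one (hz _ _ h)
        omega)
      exact hback g p (KS_pow_of_ab hB5 hg)
    obtain ⟨g, hg⟩ := hfinish hA4 hPb (pow_zero b) (fun e he hne h => by
      have h' := hz _ _ h
      rw [Nat.cast_zero, Int.emod_zero] at hne
      rcases (show e.natAbs = 1 ∨ e.natAbs = 2 by omega) with e' | e' <;> rw [e'] at h'
      · exact hb1 (by rwa [pow_one] at h')
      · exact h2 h')
    exact hback g p (KS_pow_of_ab hB4 hg)

/-- Every element order divides one of the listed ones. -/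
theorem orderOf_dvd_list [CharP L p] (ι : F →+* L) (hF : Fintype.card F = q) (φ : L →+* L)
    (hφ : ∀ t, φ t = t ^ q) (hL : Fintype.card L = q ^ 6) (hq : 3 ≤ q) (hqp : p ∣ q)
    (g : ↥(chevG2.group F)) :
    orderOf g ∣ p * (q + 1) ∨ orderOf g ∣ p * (q - 1) ∨ orderOf g ∣ q ^ 2 - 1 ∨
      orderOf g ∣ q ^ 2 + q + 1 ∨ orderOf g ∣ q ^ 2 - q + 1 ∨
      (orderOf g ∣ if p = 2 then 8 else if p = 3 ∨ p = 5 then p ^ 2 else p) ∨
      (p = 2 ∧ orderOf g ∣ 12) := by
  classical
  haveI : Finite ↥(chevG2.group F) := Subtype.finite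
  have hpp : p.Prime := Fact.out
  have hn0 : orderOf g ≠ 0 := (orderOf_pos g).ne'
  obtain ⟨k, hk⟩ : ∃ k, k = (orderOf g).factorization p := ⟨_, rfl⟩
  obtain ⟨m, hm⟩ : ∃ m, m = orderOf g / p ^ k := ⟨_, rfl⟩
  have hnm : orderOf g = p ^ k * m := by
    rw [hm, hk]; exact (Nat.ordProj_mul_ordCompl_eq_self _ _).symm
  have hmp : m.Coprime p := by
    rw [hm, hk]
    exact (Nat.coprime_ordCompl hpp hn0).symm
  have hpk : 0 < p ^ k := pow_pos hpp.pos k
  have hy : orderOf (g ^ p ^ k) = m := by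
    rw [orderOf_pow_of_dvd hpk.ne' ⟨m, hnm⟩, hm]
  have hm0 : 0 < m := by
    rcases Nat.eq_zero_or_pos m with rfl | h
    · rw [mul_zero] at hnm; exact absurd hnm hn0
    · exact h
  have hv : orderOf (g ^ m) = p ^ k := by
    rw [orderOf_pow_of_dvd hm0.ne' ⟨p ^ k, by rw [hnm, mul_comm]⟩, hnm, Nat.mul_div_cancel _ hm0]
  by_cases hk0 : k = 0
  · subst hk0
    rw [pow_zero, one_mul] at hnm
    obtain ⟨A, hA, P, hAP, hT⟩ := exists_param_of_semisimple (p := p) ι hF hφ hL hq
      (show (orderOf g).Coprime p by rw [hnm]; exact hmp)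
    rw [hT.orderOf_eq]
    have h1 := orderOf_dvd_of_pow_eq_one (pow_texp (by omega) hA hAP)
    rcases kind_facts A hA with ⟨hkk, -⟩ | ⟨hkk, -⟩ | ⟨hkk, -⟩ | ⟨hkk, -⟩ | ⟨hkk, -⟩ <;>
      simp only [hkk, texp] at h1
    · exact Or.inr (Or.inl (h1.trans (dvd_mul_left _ _)))
    · exact Or.inl (h1.trans (dvd_mul_left _ _))
    · exact Or.inr (Or.inr (Or.inl h1))
    · exact Or.inr (Or.inr (Or.inr (Or.inl h1)))
    · exact Or.inr (Or.inr (Or.inr (Or.inr (Or.inl h1))))
  by_cases hm1 : m = 1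
  · subst hm1
    rw [mul_one] at hnm
    rw [pow_one] at hv
    obtain ⟨c, hc⟩ := exists_conj_mem_U (p := p) (x := g) (k := k)
      (by rw [← hnm]; exact pow_orderOf_eq_one g)
    refine Or.inr (Or.inr (Or.inr (Or.inr (Or.inr (Or.inl ?_)))))
    have key : ∀ n : ℕ, ((c * g * c⁻¹ : ↥(chevG2.group F)) : GL chevG2.Idx F) ^ n = 1 →
        orderOf g ∣ n := fun n e => by
      rw [← Subgroup.coe_pow, OneMemClass.coe_eq_one, conj_pow, mul_inv_eq_one, mul_eq_left] at e
      exact orderOf_dvd_of_pow_eq_one e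
    split_ifs with h2 h35
    · subst h2
      exact key 8 (U_pow_eight hc)
    · exact key _ (U_pow_sq h2 hc)
    · refine key p (U_pow_prime ?_ hc)
      have h2' := hpp.two_le
      by_contra hlt
      rcases (show p = 2 ∨ p = 3 ∨ p = 4 ∨ p = 5 ∨ p = 6 by omega) with rfl | rfl | rfl | rfl | rfl
      · exact h2 rfl
      · exact h35 (Or.inl rfl)
      · exact absurd hpp (by norm_num)
      · exact h35 (Or.inr rfl)
      · exact absurd hpp (by norm_num)
  have hy1 : g ^ p ^ k ≠ 1 := fun h => hm1 (by rw [← hy, h, orderOf_one])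
  have hv1 : g ^ m ≠ 1 := fun h => hk0 (by
    have := hv
    rw [h, orderOf_one] at this
    exact ((pow_eq_one_iff.1 this.symm).resolve_left hpp.ne_one))
  obtain ⟨hdiv, hexp⟩ := mixed_bound (p := p) ι hF φ hφ hL hq hqp
    ((Commute.refl g).pow_pow (p ^ k) m) (hy.symm ▸ hmp) hy1
    (k := k) (by rw [← hv]; exact pow_orderOf_eq_one _) hv1
  rw [hy] at hdiv hexp
  rcases hexp with he | ⟨h2, hm3, he⟩
  · have hkp : p ^ k ∣ p := hv ▸ orderOf_dvd_of_pow_eq_one he
    rcases hdiv with h | h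
    · exact Or.inr (Or.inl (hnm ▸ mul_dvd_mul hkp h))
    · exact Or.inl (hnm ▸ mul_dvd_mul hkp h)
  · refine Or.inr (Or.inr (Or.inr (Or.inr (Or.inr (Or.inr ⟨h2, ?_⟩)))))
    have h4 : p ^ k ∣ 4 := hv ▸ orderOf_dvd_of_pow_eq_one he
    rw [hnm, hm3]
    exact mul_dvd_mul h4 dvd_rfl

end

end Cfsg.Agent.Lie.Chev.G2Tor

namespace Cfsg.Agent.Lie.Chev.G2Tor

open Cfsg.Lie

/-- The orders of the elements of `G₂(q)`: the listed ones occur and the others divide them. -/
theorem orders {F : Type*} [Field F] [Fintype F] {p : ℕ} [hp : Fact p.Prime] [CharP F p] {q : ℕ}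
    (hF : Fintype.card F = q) (hq : 4 ≤ q) :
    (∀ g : ↥(chevG2.group F), orderOf g ∣ p * (q + 1) ∨ orderOf g ∣ p * (q - 1) ∨
      orderOf g ∣ q ^ 2 - 1 ∨ orderOf g ∣ q ^ 2 + q + 1 ∨ orderOf g ∣ q ^ 2 - q + 1 ∨
      (orderOf g ∣ if p = 2 then 8 else if p = 3 ∨ p = 5 then p ^ 2 else p) ∨
      (p = 2 ∧ orderOf g ∣ 12)) ∧
    (∀ n : ℕ, n = p * (q + 1) ∨ n = p * (q - 1) ∨ n = q ^ 2 - 1 ∨ n = q ^ 2 + q + 1 ∨
      n = q ^ 2 - q + 1 ∨ (p = 2 ∧ (n = 8 ∨ n = 12)) ∨ ((p = 3 ∨ p = 5) ∧ n = p ^ 2) →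
      n ∈ Set.range (orderOf : ↥(chevG2.group F) → ℕ)) := by
  obtain ⟨n₀, -, hn₀⟩ := FiniteField.card F p
  have hqp : p ∣ q := hF ▸ hn₀ ▸ dvd_pow_self p n₀.ne_zero
  letI : Fintype (FiniteField.Extension F p 6) := Fintype.ofFinite _
  set ι := algebraMap F (FiniteField.Extension F p 6)
  haveI : CharP (FiniteField.Extension F p 6) p :=
    charP_of_injective_algebraMap (R := F) ι.injective p
  have hL : Fintype.card (FiniteField.Extension F p 6) = q ^ 6 := by
    rw [← Nat.card_eq_fintype_card, FiniteField.natCard_extension, Nat.card_eq_fintype_card, hF]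
  set φ := (FiniteField.frobeniusAlgHom F (FiniteField.Extension F p 6)).toRingHom
  have hφ : ∀ t, φ t = t ^ q := fun t => by rw [← hF]; rfl
  refine ⟨fun g => orderOf_dvd_list ι hF φ hφ hL (by omega) hqp g, fun n hn => ?_⟩
  obtain ⟨⟨x2, h2⟩, ⟨x3, h3⟩, ⟨x6, h6⟩⟩ := exists_torus_order ι hF φ hφ hL (by omega)
  obtain ⟨⟨y1, e1⟩, ⟨y2, e2⟩⟩ := exists_mixed_order (p := p) ι hF φ hφ hL (by omega) hqp
  rcases hn with rfl | rfl | rfl | rfl | rfl | ⟨hp2, hn⟩ | ⟨h35, rfl⟩
  · exact ⟨y1, e1⟩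
  · exact ⟨y2, e2⟩
  · exact ⟨x2, h2⟩
  · exact ⟨x3, h3⟩
  · exact ⟨x6, h6⟩
  · subst hp2
    rcases hn with rfl | rfl
    · exact (exists_unipotent_order (p := 2)).1 rfl
    · refine exists_order_twelve ι hF φ hφ hL hq fun h => ?_
      have h3 : 3 ∣ q := Nat.dvd_of_mod_eq_zero h
      rw [← hF, hn₀] at h3
      exact absurd (Nat.prime_three.dvd_of_dvd_pow h3) (by norm_num)
  · exact (exists_unipotent_order (p := p)).2 h35

end Cfsg.Agent.Lie.Chev.G2Tor
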