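import Cfsg.Agent.Lib.Lie.Chev.G2TorusCover
import Cfsg.Agent.Lib.Lie.Chev.G2UnipotentExponent
import Cfsg.Agent.Lib.Lie.Chev.InvolutionCentralizer

/-! Elements of prime power order `p ^ k` commuting with a nontrivial semisimple element of
`G₂(q)`. -/

set_option autoImplicit false
set_option maxRecDepth 4000

namespace Cfsg.Agent.Lie.Chev.G2Tor

open Cfsg.Lie G2Singer

/-- The exponent of a root on a one-parameter family. -/
def es (i j : ℤ) (s : ℕ) : ℤ := (ex s).1 * i + (ex s).2 * j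

/-- The change of the exponent under a word. -/
def dif (i j : ℤ) (L : List ℕ) (s : ℕ) : ℤ := es i j (certFullG2.T.wlT L s) - es i j s

/-- The word fixes the family. -/
def keeps (i j : ℤ) (m : ℕ) (L : List ℕ) : Bool :=
  (List.range 12).all fun s => decide (dif i j L s % (m : ℤ) = 0)

/-- The positive roots that are trivial on the family. -/
def posOne (i j : ℤ) (m : ℕ) : List ℕ :=
  (List.range' 6 6).filter fun r => decide (es i j r % (m : ℤ) = 0)

/-- The word keeps the positive trivial roots positive. -/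
def noInv (i j : ℤ) (m : ℕ) (L : List ℕ) : Bool :=
  (posOne i j m).all fun r => decide (6 ≤ certFullG2.T.wlT L r)

/-- The stabiliser data of a family. -/
def checkCase (i j : ℤ) (m lim : ℕ) : Bool :=
  ((List.range 12).all fun s => decide (es i j s % (m : ℤ) = 0) || decide ((es i j s).natAbs ≤ lim)) &&
  (words.all fun L => keeps i j m L || (List.range 12).any fun s =>
    decide ((dif i j L s).natAbs ≤ lim) && !decide (dif i j L s % (m : ℤ) = 0)) &&
  decide (((words.filter (keeps i j m)).filter (noInv i j m)).length = 1)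

/-- The trivial positive roots commute pairwise. -/
def checkAb (i j : ℤ) (m : ℕ) : Bool :=
  (posOne i j m).all fun r => (posOne i j m).all fun s =>
    decide (s = r) || (certFullG2.T.commTerms r s).isEmpty

/-- Commutators of trivial positive roots are central among them. -/
def checkNilTwo (i j : ℤ) (m : ℕ) : Bool :=
  (posOne i j m).all fun r => (posOne i j m).all fun s => decide (s = r) ||
    (certFullG2.T.commTerms r s).all fun x => decide (x.1 ∈ posOne i j m) &&
      (posOne i j m).all fun r' => decide (x.1 = r') || (decide (x.1 ≠ chevG2.neg r') &&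
        (certFullG2.T.commTerms r' x.1).isEmpty)

theorem case_checks :
    checkCase 1 2 0 3 = true ∧ checkAb 1 2 0 = true ∧
    checkCase 1 2 2 3 = true ∧ checkAb 1 2 2 = true ∧
    checkCase 1 2 3 3 = true ∧ checkNilTwo 1 2 3 = true ∧
    checkCase 0 1 0 2 = true ∧ checkAb 0 1 0 = true ∧
    checkCase 0 1 2 2 = true ∧ checkAb 0 1 2 = true := by decide +kernel

theorem family_facts : (∀ s < 12, ∃ U ∈ words, certFullG2.T.wlT U s = 6 ∨ certFullG2.T.wlT U s = 8) ∧
    ex 6 = (2, -1) ∧ ex 8 = (1, 0) ∧ ex 11 = (1, 1) ∧ ex 9 = (0, 1) ∧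
    (∀ A ∈ W12, (A.1.1 + 2 * A.1.2 = 1 ∨ A.1.1 + 2 * A.1.2 = -1) ∨
      ((A.2.1 + 2 * A.2.2) - 2 * (A.1.1 + 2 * A.1.2)).natAbs = 3) ∧
    (∀ A ∈ W12, (A.1.2 = 0 ∧ (A.2.2 = 1 ∨ A.2.2 = -1)) ∨ A.1.2 = 1 ∨ A.1.2 = -1) := by
  decide +kernel

theorem stab_facts : ∀ B ∈ W12, B = id2 ∨ B = ((-1, 0), (0, -1)) ∨
    ∃ r ∈ List.range 12, ∃ c₁ ∈ [(0 : ℤ), 1, -1, 2, -2], ∃ c₂ ∈ [(0 : ℤ), 1, -1, 2, -2],
      ex r = (c₁ * (B.1.1 - 1) + c₂ * B.2.1, c₁ * B.1.2 + c₂ * (B.2.2 - 1)) := by decide +kernel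

variable {L : Type*} [Field L]

theorem regular_stab {P : Lˣ × Lˣ} (hreg : ∀ s < 12, ev2 (ex s) P ≠ 1) {B : M2} (hB : B ∈ W12)
    (h : act B P = P) : B = id2 := by
  rcases stab_facts B hB with e | e | ⟨r, hr, c₁, -, c₂, -, e⟩
  · exact e
  · subst e
    obtain ⟨-, -, e8, e11, e9, -, -⟩ := family_facts
    have h1 := congrArg Prod.fst h
    have h2 := congrArg Prod.snd h
    simp only [act, ev2, MonoidHom.coe_mk, OneHom.coe_mk, zpow_neg_one, zpow_zero, mul_one,
      one_mul] at h1 h2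
    have ha := hreg 8 (by norm_num)
    have hb := hreg 9 (by norm_num)
    rw [e8] at ha
    rw [e9] at hb
    simp only [ev2, zpow_one, zpow_zero, mul_one, one_mul, ne_eq] at ha hb
    have hsq : ∀ x : Lˣ, x⁻¹ = x → x ≠ 1 → x = -1 := fun x hx hne => by
      have e2 : (x : L) * x = 1 := by
        rw [← Units.val_mul]
        conv_lhs => arg 1; arg 1; rw [← hx]
        rw [inv_mul_cancel, Units.val_one]
      rcases mul_self_eq_one_iff.1 e2 with h' | h'
      · exact absurd (Units.ext h') hne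
      · exact Units.ext (by rw [h', Units.val_neg, Units.val_one])
    refine absurd ?_ (hreg 11 (by norm_num))
    rw [e11, ev2, zpow_one, zpow_one, hsq _ h1 ha, hsq _ h2 hb]
    simp
  · refine absurd ?_ (hreg r (List.mem_range.1 hr))
    have k1 : ev2 (B.1 - ((1, 0) : ℤ × ℤ)) P = 1 := by
      rw [ev2_sub, div_eq_one]
      exact (congrArg Prod.fst h).trans (by simp [ev2])
    have k2 : ev2 (B.2 - ((0, 1) : ℤ × ℤ)) P = 1 := by
      rw [ev2_sub, div_eq_one]
      exact (congrArg Prod.snd h).trans (by simp [ev2])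
    have h3 := ev2_act (c₁, c₂) (B.1 - ((1, 0) : ℤ × ℤ), B.2 - ((0, 1) : ℤ × ℤ)) P
    simp only [Prod.fst_sub, Prod.snd_sub, sub_zero] at h3
    rw [e, ← h3, show act (B.1 - ((1, 0) : ℤ × ℤ), B.2 - ((0, 1) : ℤ × ℤ)) P = 1 from
      Prod.ext k1 k2]
    simp [ev2]

section Sylow

variable [Fintype L] {p : ℕ} [Fact p.Prime] [CharP L p]

theorem pow_eq_one_of_pPow_mem_H {v : GL chevG2.Idx L} (hv : v ∈ chevG2.diagonalSubgroup L)
    {k : ℕ} (hk : v ^ p ^ k = 1) : v = 1 := by
  obtain ⟨P, rfl⟩ := exists_tau hv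
  rw [← map_pow] at hk
  have hP : P ^ p ^ k = 1 := tau_injective (hk.trans (map_one _).symm)
  have key : ∀ x : Lˣ, x ^ p ^ k = 1 → x = 1 := fun x hx => by
    have h1 : orderOf x ∣ p ^ k := orderOf_dvd_of_pow_eq_one hx
    have h2 : orderOf x ∣ Fintype.card L - 1 := by
      rw [← Nat.card_eq_fintype_card, ← Nat.card_units]
      exact orderOf_dvd_natCard _
    obtain ⟨n, -, hn⟩ := FiniteField.card L p
    have hp : p.Prime := Fact.out
    have hcop : (p ^ k).Coprime (Fintype.card L - 1) := by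
      refine Nat.Coprime.pow_left _ (hp.coprime_iff_not_dvd.2 fun h => ?_)
      have h3 : p ∣ Fintype.card L := hn ▸ dvd_pow_self p n.ne_zero
      have h4 := Nat.dvd_sub h3 h
      rw [Nat.sub_sub_self Fintype.card_pos] at h4
      exact hp.ne_one (Nat.eq_one_of_dvd_one h4)
    have := Nat.dvd_gcd h1 h2
    rw [hcop.gcd_eq_one, Nat.dvd_one, orderOf_eq_one_iff] at this
    exact this
  rw [show P = 1 from Prod.ext (key _ (congrArg Prod.fst hP)) (key _ (congrArg Prod.snd hP)),
    map_one]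

theorem eq_one_of_regular {P : Lˣ × Lˣ} (hreg : ∀ s < 12, ev2 (ex s) P ≠ 1)
    {v : GL chevG2.Idx L} (hv : v ∈ chevG2.group L) (hc : Commute v (tau P)) {k : ℕ}
    (hk : v ^ p ^ k = 1) : v = 1 := by
  refine pow_eq_one_of_pPow_mem_H ?_ hk
  refine certFullG2.mem_H_of_commute_of_pos (z := zab P.1 P.2) (fun s hs => ?_) ?_ hv hc
  · rw [tchar_zab']
    rw [nroots_eq] at hs
    exact hreg s hs
  · intro L' hL' hkeep q hq
    obtain ⟨M', hM', hwl', hact'⟩ := exists_word (F := L) hL'
    have hBP : act (mat M') P = P := by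
      refine tau_injective ((hact' P).symm.trans ?_)
      rw [tau_apply]
      exact certFullG2.nw_conj_torus hL' hkeep
    have hid := regular_stab hreg (List.mem_map_of_mem hM') hBP
    have hs := certFullG2.simple_lt hq
    rw [nroots_eq] at hs
    have h1 := six_facts.2 M' hM' hid _ hs
    rw [certFullG2.wlT_eq] at h1
    rw [hwl' _ (certFullG2.simple_lt hq), h1]
    exact certFullG2.pos_simple hq

/-- The Sylow subgroup of the centraliser of a family member. -/
theorem exists_conj_mem_KS {i j : ℤ} {m lim : ℕ} (hcheck : checkCase i j m lim = true) {a : Lˣ}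
    (hm : a ^ m = 1) (hne : ∀ e : ℤ, e.natAbs ≤ lim → e % (m : ℤ) ≠ 0 → a ^ e ≠ 1)
    {v : GL chevG2.Idx L} (hv : v ∈ chevG2.group L) (hc : Commute v (tau (a ^ i, a ^ j)))
    {k : ℕ} (hk : v ^ p ^ k = 1) :
    ∃ g : GL chevG2.Idx L, g * v * g⁻¹ ∈
      certFullG2.KS L {r | r ∈ posOne i j m} certFullG2.T.h := by
  classical
  simp only [checkCase, Bool.and_eq_true, List.all_eq_true, List.mem_range, Bool.or_eq_true,
    List.any_eq_true, decide_eq_true_eq, Bool.not_eq_true', decide_eq_false_iff_not] at hcheck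
  obtain ⟨⟨hval, hkeep⟩, hone⟩ := hcheck
  obtain ⟨z, hz⟩ : ∃ z, z = zab (a ^ i) (a ^ j) := ⟨_, rfl⟩
  have hev : ∀ x : ℤ × ℤ, ev2 x (a ^ i, a ^ j) = a ^ (x.1 * i + x.2 * j) := fun x => by
    rw [ev2, zpow_add, zpow_mul', zpow_mul']
  have hmod : ∀ e : ℤ, e % (m : ℤ) = 0 → a ^ e = 1 := fun e he => by
    obtain ⟨d, rfl⟩ := Int.dvd_of_emod_eq_zero he
    rw [zpow_mul, zpow_natCast, hm, one_zpow]
  have hiff : ∀ e : ℤ, (e % (m : ℤ) = 0 ∨ e.natAbs ≤ lim) → (a ^ e = 1 ↔ e % (m : ℤ) = 0) :=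
    fun e he => ⟨fun h => by_contra fun h' => hne e (he.resolve_left h') h' h, hmod e⟩
  have htz : ∀ s, certFullG2.tchar z s = a ^ es i j s := fun s => by
    rw [hz, tchar_zab' (a ^ i, a ^ j), hev]; rfl
  have hkeepIff : ∀ M ∈ words, certFullG2.KeepsChar z M ↔ keeps i j m M = true := by
    intro M hM
    simp only [keeps, List.all_eq_true, List.mem_range, decide_eq_true_eq]
    refine ⟨fun h => ?_, fun h s hs => ?_⟩
    · rcases hkeep M hM with h' | ⟨s, hs, hle, hnz⟩
      · simpa [keeps] using h'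
      · have h1 := h s (by rw [nroots_eq]; exact hs)
        rw [htz, htz, ← certFullG2.wlT_eq, ← div_eq_one, div_eq_mul_inv, ← zpow_neg, ← zpow_add,
          ← sub_eq_add_neg] at h1
        exact absurd h1 (hne _ hle hnz)
    · rw [nroots_eq] at hs
      rw [htz, htz, ← certFullG2.wlT_eq, ← div_eq_one, div_eq_mul_inv, ← zpow_neg, ← zpow_add,
        ← sub_eq_add_neg]
      exact hmod _ (h s hs)
  set E := words.filter (keeps i j m)
  have hElt : ∀ v ∈ E, ∀ q ∈ v, q < chevG2.rank := fun v hv => words_lt v (List.mem_filter.1 hv).1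
  obtain ⟨-, hex, hpw, -⟩ := certFullG2.chain_spec chainG2 chainG2_ok chainG2_len.le
  rw [chain_eq] at hex hpw
  have hex' : ∀ M : List ℕ, (∀ q ∈ M, q < chevG2.rank) → certFullG2.KeepsChar z M →
      ∃ v ∈ E, certFullG2.Same M v := by
    intro M hM hkM
    obtain ⟨v, hvw, hs⟩ := hex M (by rw [chainG2_len]; exact hM)
    refine ⟨v, List.mem_filter.2 ⟨hvw, (hkeepIff v hvw).1 fun s hs' => ?_⟩, hs⟩
    rw [← certFullG2.wl_eq_of_same hM (words_lt v hvw) hs hs']
    exact hkM s hs'
  have hcard := certFullG2.card_centralizer_torus z hElt hex' (hpw.sublist (List.filter_sublist ..))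
    (fun v hv => (hkeepIff v (List.mem_filter.1 hv).1).2 (List.mem_filter.1 hv).2)
  obtain ⟨S, hS⟩ : ∃ S : Set ℕ, S = {r | r ∈ posOne i j m} := ⟨_, rfl⟩
  have hSeq : ({r | certFullG2.Pos r} ∩ {r | certFullG2.tchar z r = 1} : Set ℕ) = S := by
    rw [hS]
    ext r
    simp only [Set.mem_inter_iff, Set.mem_ofPred_eq, posOne, List.mem_filter, List.mem_range'_1,
      decide_eq_true_eq, pos_iff, htz]
    constructor
    · rintro ⟨⟨h1, h2⟩, h3⟩
      exact ⟨⟨h1, by omega⟩, (hiff _ (hval r h2)).1 h3⟩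
    · rintro ⟨⟨h1, h2⟩, h3⟩
      exact ⟨⟨h1, by omega⟩, hmod _ h3⟩
  have hSc : certFullG2.IsClosed S :=
    hSeq ▸ certFullG2.closed_inter_ker z certFullG2.pos_closedSet
  rw [hSeq] at hcard
  -- the second factor is prime to p
  set Q := Fintype.card L
  have hp : p.Prime := Fact.out
  have hQ : ((Q : ℕ) : ZMod p) = 0 := by
    obtain ⟨n, -, hn⟩ := FiniteField.card L p
    rw [show Q = _ from hn, Nat.cast_pow, ZMod.natCast_self, zero_pow n.ne_zero]
  have hempty : ∀ M ∈ words, (noInv i j m M = true ↔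
      (certFullG2.invSet M ∩ {r | certFullG2.tchar z r = 1} : Set ℕ) = ∅) := by
    intro M hM
    simp only [noInv, List.all_eq_true, decide_eq_true_eq]
    constructor
    · intro h
      refine Set.eq_empty_iff_forall_notMem.2 fun r ⟨⟨hr, hn⟩, h1⟩ => hn ?_
      rw [pos_iff, ← certFullG2.wlT_eq]
      refine ⟨h r ?_, ?_⟩
      · exact (show r ∈ S from hSeq ▸ ⟨hr, h1⟩) |> fun h' => by rw [hS] at h'; exact h'
      · rw [certFullG2.wlT_eq, ← nroots_eq]
        exact certFullG2.wl_lt (words_lt M hM) hr.2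
    · intro h r hr
      have hrS : r ∈ S := by rw [hS]; exact hr
      rw [← hSeq] at hrS
      by_contra hlt
      refine Set.eq_empty_iff_forall_notMem.1 h r ⟨⟨hrS.1, ?_⟩, hrS.2⟩
      rw [pos_iff, ← certFullG2.wlT_eq]
      exact fun h' => hlt h'.1
  have hsum : ¬ p ∣ Nat.card (chevG2.diagonalSubgroup L) *
      (E.map fun v => Q ^ Nat.card (certFullG2.invSet v ∩ {r | certFullG2.tchar z r = 1} : Set ℕ)).sum := by
    rw [← ZMod.natCast_eq_zero_iff, Nat.cast_mul, Nat.cast_list_sum, List.map_map]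
    have hH : Nat.card (chevG2.diagonalSubgroup L) = (Q - 1) ^ 2 := by
      have := torusOrderG2 L
      simpa [torus_values.1] using this
    rw [hH, Nat.cast_pow, Nat.cast_sub Fintype.card_pos, hQ, Nat.cast_one, zero_sub, neg_one_sq,
      one_mul]
    have e : ∀ v ∈ E, ((Q ^ Nat.card (certFullG2.invSet v ∩ {r | certFullG2.tchar z r = 1} :
        Set ℕ) : ℕ) : ZMod p) = if noInv i j m v = true then 1 else 0 := by
      intro v hv
      haveI : Finite (certFullG2.invSet v ∩ {r | certFullG2.tchar z r = 1} : Set ℕ) :=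
        ((Set.finite_lt_nat chevG2.nroots).subset fun r hr => hr.1.1.2).to_subtype
      rw [Nat.cast_pow, hQ]
      split_ifs with h
      · rw [(hempty v (List.mem_filter.1 hv).1).1 h]; simp
      · refine zero_pow (Nat.card_pos_iff.2 ⟨?_, inferInstance⟩).ne'
        rw [Set.nonempty_coe_sort, Set.nonempty_iff_ne_empty]
        exact fun he => h ((hempty v (List.mem_filter.1 hv).1).2 he)
    rw [Function.comp_def, List.map_congr_left e]
    rw [show (E.map fun v => if noInv i j m v = true then (1 : ZMod p) else 0).sum =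
        ((E.filter (noInv i j m)).length : ZMod p) from by
      induction E with
      | nil => simp
      | cons v E ih =>
        rw [List.map_cons, List.sum_cons, ih]
        by_cases h : noInv i j m v = true <;> simp [h, add_comm], hone, Nat.cast_one]
    exact one_ne_zero
  -- Sylow
  set τ : GL chevG2.Idx L := tau (a ^ i, a ^ j)
  have hτ : certFullG2.torus z = τ := by rw [hz]; rfl
  obtain ⟨C, hC⟩ : ∃ C : Subgroup (GL chevG2.Idx L),
      C = chevG2.group L ⊓ Subgroup.centralizer {τ} := ⟨_, rfl⟩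
  have hmemC : ∀ g, g ∈ C ↔ g ∈ chevG2.group L ∧ τ * g = g * τ := fun g => by
    rw [hC, Subgroup.mem_inf, Subgroup.mem_centralizer_singleton_iff, eq_comm]
  have hCcard : Nat.card C = Q ^ Nat.card S * (Nat.card (chevG2.diagonalSubgroup L) *
      (E.map fun v => Q ^ Nat.card (certFullG2.invSet v ∩ {r | certFullG2.tchar z r = 1} :
        Set ℕ)).sum) := by
    rw [← mul_assoc, ← hcard, hτ]
    exact Nat.card_congr
      { toFun := fun g => ⟨⟨g.1, ((hmemC _).1 g.2).1⟩, ((hmemC _).1 g.2).2⟩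
        invFun := fun g => ⟨g.1.1, (hmemC _).2 ⟨g.1.2, g.2⟩⟩
        left_inv := fun g => rfl
        right_inv := fun g => rfl }
  have hK : certFullG2.KS L S certFullG2.T.h ≤ C := by
    refine (Subgroup.closure_le _).2 ?_
    rintro g ⟨r, t, hr, -, rfl⟩
    rw [SetLike.mem_coe, hmemC]
    refine ⟨certFullG2.xg_mem_group (hSc.1 r hr).2 t, ?_⟩
    have e := certFullG2.torus_conj_xg z (hSc.1 r hr).2 t
    rw [show certFullG2.tchar z r = 1 from ((hSeq.symm ▸ hr :
      r ∈ ({r | certFullG2.Pos r} ∩ {r | certFullG2.tchar z r = 1} : Set ℕ))).2,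
      Units.val_one, one_mul, mul_inv_eq_iff_eq_mul, hτ] at e
    exact e
  haveI : Finite C := Subtype.finite
  have hKU : IsPGroup p (certFullG2.KS L S certFullG2.T.h) :=
    certFullG2.isPGroup_U.to_le (certFullG2.KS_le_U hSc _)
  obtain ⟨R, hR⟩ := (hKU.comap_of_injective C.subtype C.subtype_injective).exists_le_sylow
  have hRK : (R : Subgroup C) = (certFullG2.KS L S certFullG2.T.h).comap C.subtype := by
    refine (Subgroup.eq_of_le_of_card_ge hR (le_of_eq ?_)).symm
    rw [R.card_eq_multiplicity, show Nat.card ((certFullG2.KS L S certFullG2.T.h).comap C.subtype) =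
      Nat.card (certFullG2.KS L S certFullG2.T.h) from
        Nat.card_congr (Subgroup.subgroupOfEquivOfLe hK).toEquiv, certFullG2.card_KS hSc, hCcard]
    obtain ⟨n, -, hn⟩ := FiniteField.card L p
    rw [show Q = p ^ (n : ℕ) from hn, ← pow_mul] at *
    rw [Nat.factorization_mul (pow_ne_zero _ hp.ne_zero) (fun h => hsum (by rw [h]; exact dvd_zero p)),
      Finsupp.add_apply, Nat.factorization_eq_zero_of_not_dvd hsum, add_zero,
      hp.factorization_pow, Finsupp.single_eq_same, hn, ← pow_mul]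
  have hvC : v ∈ C := (hmemC v).2 ⟨hv, hc.eq.symm⟩
  obtain ⟨R', hR'⟩ := (show IsPGroup p (Subgroup.zpowers (⟨v, hvC⟩ : C)) from by
    rintro ⟨x, hx⟩
    obtain ⟨d, rfl⟩ := Subgroup.mem_zpowers_iff.1 hx
    refine ⟨k, Subtype.ext ?_⟩
    have h1 : (⟨v, hvC⟩ : C) ^ p ^ k = 1 := Subtype.ext (by rw [Subgroup.coe_pow]; exact hk)
    rw [Subgroup.coe_pow, Subgroup.coe_one, Subtype.coe_mk, ← zpow_natCast, ← zpow_mul, mul_comm,
      zpow_mul, zpow_natCast, h1, one_zpow]).exists_le_sylow
  obtain ⟨g, hg⟩ := MulAction.exists_smul_eq C R' R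
  refine ⟨(g : GL chevG2.Idx L), ?_⟩
  rw [← hS]
  have h1 : g * ⟨v, hvC⟩ * g⁻¹ ∈ (R : Subgroup C) := by
    rw [← hg, Sylow.coe_subgroup_smul]
    exact Subgroup.smul_mem_pointwise_smul _ (MulAut.conj g) _ (hR' (Subgroup.mem_zpowers _))
  rw [hRK] at h1
  exact h1

end Sylow

theorem posOne_sub {i j : ℤ} {m r : ℕ} (h : r ∈ posOne i j m) : certFullG2.Pos r := by
  simp only [posOne, List.mem_filter, List.mem_range'_1] at h
  exact pos_iff.2 ⟨h.1.1, by omega⟩

/-- Commutators of two root elements of the list. -/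
theorem list_comm {i j : ℤ} {m r s : ℕ} (hr : r ∈ posOne i j m) (hs : s ∈ posOne i j m)
    (hne : s ≠ r) (t u : L) : certFullG2.xg s u * certFullG2.xg r t *
      (certFullG2.xg s u)⁻¹ * (certFullG2.xg r t)⁻¹ =
    certFullG2.xg r t * certFullG2.xg s u *
      ((certFullG2.T.commTerms r s).map fun x =>
        certFullG2.xg x.1 ((x.2.1 : L) * (-t) ^ x.2.2.1 * u ^ x.2.2.2)).prod *
      (certFullG2.xg s u)⁻¹ * (certFullG2.xg r t)⁻¹ := by
  have hr' := posOne_sub hr
  have hs' := posOne_sub hs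
  rw [certFullG2.xg_comm hr'.2 hs'.2 hne
    (fun e => ((certFullG2.not_pos_iff hr'.2).2 (e ▸ hs')) hr') t u]

theorem KS_pow_of_ab {p : ℕ} [CharP L p] {i j : ℤ} {m : ℕ} (h : checkAb i j m = true)
    {u : GL chevG2.Idx L}
    (hu : u ∈ certFullG2.KS L {r | r ∈ posOne i j m} certFullG2.T.h) : u ^ p = 1 := by
  have h1 := G2Exponent.pow_mem_of_comm' (p := p) (N := (⊥ : Subgroup (GL chevG2.Idx L)))
    (S := {g | ∃ r t, r ∈ ({r | r ∈ posOne i j m} : Set ℕ) ∧ certFullG2.T.h ≤ r ∧
      g = certFullG2.xg r t}) ?_ ?_ ?_ hu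
  · exact Subgroup.mem_bot.1 h1
  · rw [Subgroup.normalizer_eq_top]; exact le_top
  · rintro _ ⟨r, t, hr, -, rfl⟩
    rw [xg_pow (posOne_sub hr).2]
    exact one_mem _
  · rintro _ ⟨s, u', hs, -, rfl⟩ _ ⟨r, t, hr, -, rfl⟩
    rw [Subgroup.mem_bot]
    by_cases hne : s = r
    · subst hne
      rw [← certFullG2.xg_add, add_comm, certFullG2.xg_add, mul_inv_cancel_right, mul_inv_cancel]
    simp only [checkAb, List.all_eq_true, Bool.or_eq_true, decide_eq_true_eq] at h
    rw [list_comm hr hs hne, List.isEmpty_iff.1 ((h r hr s hs).resolve_left hne)]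
    simp

theorem KS_nilTwo [Fintype L] {p : ℕ} [Fact p.Prime] [CharP L p] {i j : ℤ} {m : ℕ}
    (h : checkNilTwo i j m = true) {u : GL chevG2.Idx L}
    (hu : u ∈ certFullG2.KS L {r | r ∈ posOne i j m} certFullG2.T.h) :
    (p = 2 → u ^ 4 = 1) ∧ (p ≠ 2 → u ^ p = 1) := by
  classical
  simp only [checkNilTwo, List.all_eq_true, Bool.or_eq_true, Bool.and_eq_true,
    decide_eq_true_eq] at h
  obtain ⟨S, hS⟩ : ∃ S : Set (GL chevG2.Idx L), S = {g | ∃ r t,
      r ∈ ({r | r ∈ posOne i j m} : Set ℕ) ∧ certFullG2.T.h ≤ r ∧ g = certFullG2.xg r t} := ⟨_, rfl⟩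
  have hu' : u ∈ Subgroup.closure S := hS ▸ hu
  obtain ⟨Z, hZ⟩ : ∃ Z : Set (GL chevG2.Idx L), Z = {g | ∃ r ∈ posOne i j m, ∃ s ∈ posOne i j m,
      s ≠ r ∧ ∃ x ∈ certFullG2.T.commTerms r s, ∃ w, g = certFullG2.xg x.1 w} := ⟨_, rfl⟩
  have hZpos : ∀ r ∈ posOne i j m, ∀ s ∈ posOne i j m, s ≠ r →
      ∀ x ∈ certFullG2.T.commTerms r s, certFullG2.Pos x.1 := fun r hr s hs _ x hx =>
    (certFullG2.commTerms_gt (posOne_sub hr) (posOne_sub hs) hx).1
  have hcent : ∀ g ∈ S, ∀ z ∈ Z, g * z = z * g := by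
    rw [hS, hZ]
    rintro _ ⟨r', t, hr', -, rfl⟩ _ ⟨r, hr, s, hs, hne, x, hx, w, rfl⟩
    rcases (((h r hr s hs).resolve_left hne) x hx).2 r' hr' with e | ⟨hneg, he⟩
    · rw [e, ← certFullG2.xg_add, ← certFullG2.xg_add, add_comm]
    by_cases e : x.1 = r'
    · rw [e, ← certFullG2.xg_add, ← certFullG2.xg_add, add_comm]
    rw [certFullG2.xg_comm (posOne_sub hr').2 (hZpos r hr s hs hne x hx).2 e hneg t w,
      List.isEmpty_iff.1 he]
    simp
  have hnorm : Subgroup.closure S ≤ Subgroup.centralizer (Subgroup.closure Z : Set (GL chevG2.Idx L)) := by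
    rw [Subgroup.centralizer_closure, Subgroup.closure_le]
    intro g hg
    rw [SetLike.mem_coe, Subgroup.mem_centralizer_iff]
    exact fun z hz => (hcent g hg z hz).symm
  have hcomm : ∀ s ∈ S, ∀ t ∈ S, s * t * s⁻¹ * t⁻¹ ∈ Subgroup.closure Z := by
    rw [hS]
    rintro _ ⟨s, u', hs, hms, rfl⟩ _ ⟨r, t, hr, hmr, rfl⟩
    by_cases hne : s = r
    · subst hne
      rw [← certFullG2.xg_add, add_comm, certFullG2.xg_add, mul_inv_cancel_right, mul_inv_cancel]
      exact one_mem _
    rw [list_comm hr hs hne]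
    set k := ((certFullG2.T.commTerms r s).map fun x =>
        certFullG2.xg x.1 ((x.2.1 : L) * (-t) ^ x.2.2.1 * u' ^ x.2.2.2)).prod
    have hk : k ∈ Subgroup.closure Z := by
      refine Subgroup.list_prod_mem _ fun g hg => ?_
      obtain ⟨x, hx, rfl⟩ := List.mem_map.1 hg
      exact Subgroup.subset_closure (hZ ▸ ⟨r, hr, s, hs, hne, x, hx, _, rfl⟩)
    have e : ∀ {r' : ℕ} (t' : L), r' ∈ posOne i j m → certFullG2.T.h ≤ r' →
        certFullG2.xg r' t' ∈ Subgroup.closure S := fun {r'} t' h1 h2 =>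
      Subgroup.subset_closure (hS ▸ ⟨r', t', h1, h2, rfl⟩)
    have hcomm' := Subgroup.mem_centralizer_iff.1 (hnorm (mul_mem (e t hr hmr) (e u' hs hms))) k hk
    rw [← hcomm', ← mul_assoc, mul_inv_cancel_right, mul_inv_cancel_right]
    exact hk
  have hzp : ∀ z ∈ Subgroup.closure Z, z ^ p = 1 := by
    intro z hz
    refine Subgroup.mem_bot.1 (G2Exponent.pow_mem_of_comm' (p := p) (S := Z)
      (N := (⊥ : Subgroup (GL chevG2.Idx L))) (by rw [Subgroup.normalizer_eq_top]; exact le_top)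
      ?_ ?_ hz)
    · rw [hZ]
      rintro _ ⟨r, hr, s, hs, hne, x, hx, w, rfl⟩
      rw [xg_pow (hZpos r hr s hs hne x hx).2]
      exact one_mem _
    · intro a ha b hb
      rw [Subgroup.mem_bot]
      have haS : a ∈ Subgroup.centralizer (S : Set (GL chevG2.Idx L)) :=
        Subgroup.mem_centralizer_iff.2 fun g hg => hcent g hg a ha
      have hbS : b ∈ Subgroup.closure S := by
        rw [hZ] at hb
        obtain ⟨r, hr, s, hs, hne, x, hx, w, rfl⟩ := hb
        refine Subgroup.subset_closure (hS ▸ ⟨x.1, w, ?_, (hZpos r hr s hs hne x hx).1, rfl⟩)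
        exact (((h r hr s hs).resolve_left hne) x hx).1
      rw [← Subgroup.centralizer_closure] at haS
      rw [← Subgroup.mem_centralizer_iff.1 haS b hbS, mul_inv_cancel_right, mul_inv_cancel]
  refine ⟨fun hp2 => ?_, fun hp2 => ?_⟩
  · subst hp2
    have h1 := G2Exponent.pow_mem_of_comm' (p := 2) (S := S) (N := Subgroup.closure Z)
      (hnorm.trans (Subgroup.centralizer_le_normalizer _)) (fun s hs => ?_) hcomm hu'
    · have := hzp _ h1
      rw [← pow_mul] at this
      exact this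
    · rw [hS] at hs
      obtain ⟨r, t, hr, -, rfl⟩ := hs
      rw [xg_pow (posOne_sub hr).2]
      exact one_mem _
  · have hp3 : 3 ≤ p := by
      have := (Fact.out : p.Prime).two_le
      omega
    set H := Subgroup.closure S with hH
    have hHU : H ≤ chevG2.posUnipotent L := by
      rw [hH, Subgroup.closure_le, hS]
      rintro _ ⟨r, t, hr, -, rfl⟩
      exact certFullG2.xg_mem_U (posOne_sub hr) t
    haveI : Finite H := Subtype.finite
    have hgen : Subgroup.closure ((fun x : ↥H => (x : GL chevG2.Idx L)) ⁻¹' S) = ⊤ :=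
      Subgroup.closure_closure_coe_preimage
    have hcl : (⊤ : Subgroup H).lowerCentralSeries (p - 1) = ⊥ := by
      refine eq_bot_iff.2 ((Subgroup.lowerCentralSeries_antitone _ (show 2 ≤ p - 1 by omega)).trans ?_)
      rw [Subgroup.lowerCentralSeries_succ, Subgroup.lowerCentralSeries_succ,
        Subgroup.lowerCentralSeries_zero]
      have h2 : ⁅(⊤ : Subgroup H), (⊤ : Subgroup H)⁆ ≤ Subgroup.center H := by
        haveI : ((Subgroup.closure Z).subgroupOf H).Normal := ⟨fun n hn g => by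
          rw [Subgroup.mem_subgroupOf] at hn ⊢
          exact (Subgroup.mem_normalizer_iff.1 (Subgroup.centralizer_le_normalizer _ (hnorm g.2)) n).1 hn⟩
        have hle : (Subgroup.closure Z).subgroupOf H ≤ Subgroup.center H := fun z hz =>
          Subgroup.mem_center_iff.2 fun g => Subtype.ext
            (Subgroup.mem_centralizer_iff.1 (hnorm g.2) _ (Subgroup.mem_subgroupOf.1 hz)).symm
        refine le_trans ?_ hle
        rw [← commutator_def]
        refine (Subgroup.Normal.quotient_commutative_iff_commutator_le).1 ?_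
        refine ⟨⟨fun a b => ?_⟩⟩
        set π := QuotientGroup.mk' ((Subgroup.closure Z).subgroupOf H)
        have hgen' : Subgroup.closure (π '' ((fun x : ↥H => (x : GL chevG2.Idx L)) ⁻¹' S)) = ⊤ := by
          rw [← MonoidHom.map_closure, hgen,
            Subgroup.map_top_of_surjective _ (QuotientGroup.mk'_surjective _)]
        have h1 : ⊤ ≤ Subgroup.centralizer
            (π '' ((fun x : ↥H => (x : GL chevG2.Idx L)) ⁻¹' S)) := by
          rw [← hgen', Subgroup.closure_le]
          rintro _ ⟨s, hs, rfl⟩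
          rw [SetLike.mem_coe, Subgroup.mem_centralizer_iff]
          rintro _ ⟨t, ht, rfl⟩
          have h' := (QuotientGroup.eq_one_iff (N := (Subgroup.closure Z).subgroupOf H)
            (t * s * t⁻¹ * s⁻¹)).2 (hcomm _ ht _ hs)
          rw [← QuotientGroup.mk'_apply, map_mul, map_mul, map_mul, map_inv, map_inv,
            mul_inv_eq_one, mul_inv_eq_iff_eq_mul] at h'
          exact h'
        have h3 : ⊤ ≤ Subgroup.centralizer ({a} : Set _) := by
          rw [← hgen', Subgroup.closure_le]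
          intro t ht
          rw [SetLike.mem_coe, Subgroup.mem_centralizer_singleton_iff]
          exact Subgroup.mem_centralizer_iff.1 (h1 (Subgroup.mem_top a)) t ht
        exact (Subgroup.mem_centralizer_singleton_iff.1 (h3 (Subgroup.mem_top b))).symm
      rw [Subgroup.commutator_le]
      intro x hx g hg
      rw [Subgroup.mem_bot, commutatorElement_def, ← Subgroup.mem_center_iff.1 (h2 hx) g,
        mul_inv_cancel_right, mul_inv_cancel]
    have h3 := G2Exponent.pow_eq_one_of_class (G := H) (certFullG2.isPGroup_U.to_le hHU) hgen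
      (fun s hs => Subtype.ext (by
        have hs' : (s : GL chevG2.Idx L) ∈ S := hs
        rw [hS] at hs'
        obtain ⟨r, t, hr, -, e⟩ := hs'
        rw [Subgroup.coe_pow, e, xg_pow (posOne_sub hr).2]; rfl)) hcl ⟨u, hu'⟩
    exact congrArg Subtype.val h3

end Cfsg.Agent.Lie.Chev.G2Tor
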