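import Cfsg.Agent.Lib.Lie.Chev.ModularExist
import Cfsg.Agent.Lib.Lie.BrauerCount
import Mathlib.GroupTheory.FiniteAbelian.Duality
import Mathlib.FieldTheory.IsAlgClosed.AlgebraicClosure

/-!
Steinberg's count: a Chevalley group with simply connected torus has `q ^ l` classes of elements of
order prime to the characteristic.
-/

set_option autoImplicit false

namespace Cfsg.Agent.Lie.Chev

open Cfsg.Lie
open Cfsg.Agent.Char.CycMod (Irr Intw zero_or_bijective)

universe u

/-- The number of characters of the unit group of a finite field in characteristic `p`. -/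
theorem card_units_hom {F : Type u} [Field F] [Fintype F] {k : Type} [Field k] [IsAlgClosed k]
    (p : ℕ) [hp : Fact p.Prime] [CharP F p] [CharP k p] :
    Nat.card (Fˣ →* kˣ) = Fintype.card F - 1 := by
  classical
  haveI : NeZero ((Monoid.exponent Fˣ : ℕ) : k) := ⟨by
    rw [IsCyclic.exponent_eq_card, Nat.card_units, Nat.card_eq_fintype_card,
      Nat.cast_sub Fintype.card_pos]
    obtain ⟨n, -, hn⟩ := FiniteField.card F p
    have h0 : ((Fintype.card F : ℕ) : k) = 0 := by
      rw [hn, Nat.cast_pow, CharP.cast_eq_zero]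
      exact zero_pow n.ne_zero
    rw [h0]
    simp⟩
  rw [CommGroup.card_monoidHom_of_hasEnoughRootsOfUnity, Nat.card_units, Nat.card_eq_fintype_card]

namespace CertFull

variable {D : ChevalleyDatum} (c : CertFull D) {F : Type u} [Field F] [Fintype F]
include c

/-- **Steinberg's count of semisimple classes.** -/
theorem card_semisimple_classes {p : ℕ} [hp : Fact p.Prime] [CharP F p]
    (hH : Nat.card (D.diagonalSubgroup F) = (Fintype.card F - 1) ^ D.rank) :
    Nat.card {x : ConjClasses ↥(D.group F) // ∃ g : ↥(D.group F),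
      ConjClasses.mk g = x ∧ (orderOf g).Coprime p} = Fintype.card F ^ D.rank := by
  classical
  obtain ⟨k, _, _, _⟩ : ∃ (k : Type) (_ : Field k) (_ : IsAlgClosed k), CharP k p :=
    ⟨AlgebraicClosure (ZMod p), inferInstance, inferInstance,
      charP_of_injective_algebraMap (algebraMap (ZMod p) _).injective p⟩
  haveI : Fintype ↥(D.group F) := Fintype.ofFinite _
  have hhom : Nat.card (Fˣ →* kˣ) = Fintype.card F - 1 := card_units_hom p
  haveI : Finite (Fˣ →* kˣ) := Nat.finite_of_card_ne_zero (by
    have := Fintype.one_lt_card (α := F)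
    omega)
  haveI : Fintype (Fˣ →* kˣ) := Fintype.ofFinite _
  obtain ⟨e⟩ : Nonempty (Fin (Fintype.card (Fin D.rank → Option (Fˣ →* kˣ))) ≃
      (Fin D.rank → Option (Fˣ →* kˣ))) := ⟨(Fintype.equivFin _).symm⟩
  choose S iA iM iF σ x hirr hw using fun i => c.exists_irr_of_label (k := k) (p := p) hH (e i)
  have hlabel : ∀ π π' : Fin D.rank → Option (Fˣ →* kˣ),
      labelChar π = labelChar π' → labelMu (k := k) π = labelMu π' → π = π' := by
    intro π π' h1 h2
    funext i
    have e1 := node_labelChar (k := k) π i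
    rw [h1, node_labelChar] at e1
    have e2 := congrFun h2 i
    rcases hπ : π i with _ | a <;> rcases hπ' : π' i with _ | b <;>
      simp [labelMu, hπ, hπ'] at e1 e2 ⊢
    exact e1.symm
  have hhom' : ∀ i j, i ≠ j → ∀ f : S i →ₗ[k] S j, Intw (σ i) (σ j) f → f = 0 := by
    intro i j hij f hf
    refine (zero_or_bijective (σ i) (σ j) (hirr i) (hirr j) hf).resolve_right fun hb => hij ?_
    have hw' : c.IsWeight (σ j) (labelChar (e i)) (labelMu (e i)) (f (x i)) := by
      obtain ⟨h0, hU, hχ, hT⟩ := hw i
      refine ⟨fun h => h0 (hb.1 (h.trans (map_zero f).symm)), fun r t hr => ?_, fun z => ?_,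
        fun q => ?_⟩
      · rw [← hf, hU r t hr]
      · rw [← hf, hχ z, map_smul]
      · have h1 := hT q
        rw [c.Tp_apply] at h1
        rw [c.Tp_apply]
        simp only [← hf _ _]
        rw [← map_sum, h1, map_smul]
    obtain ⟨h1, h2⟩ := c.weight_unique (σ j) (p := p) (hirr j) hw' (hw j)
    exact e.injective (hlabel _ _ h1 h2)
  have hall : ∀ (V : Type u) [AddCommGroup V] [Module k V] [FiniteDimensional k V]
      (ρ : ↥(D.group F) →* Module.End k V), Irr ρ →
        ∃ i, ∀ g, LinearMap.trace k V (ρ g) = LinearMap.trace k (S i) (σ i g) := by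
    intro V _ _ _ ρ hρ
    haveI := hρ.1
    obtain ⟨χ, μ, v, hv⟩ := c.exists_weight ρ (p := p)
    obtain ⟨π, hπ⟩ : ∃ π : Fin D.rank → Option (Fˣ →* kˣ),
        π = fun i => if μ i = 0 then some (node χ i) else none := ⟨_, rfl⟩
    have hnode : ∀ i, (π i).getD 1 = node χ i := by
      intro i
      rw [hπ]
      dsimp only
      rcases IsWeight.mu_cases c ρ (p := p) hv i with h | ⟨h1, h2⟩
      · rw [if_pos h]; rfl
      · rw [if_neg (by rw [h2]; exact neg_ne_zero.2 one_ne_zero), h1]; rfl
    have hχ : labelChar π = χ := by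
      refine MonoidHom.ext fun z => ?_
      rw [← Finset.univ_prod_mulSingle z, map_prod, map_prod]
      refine Finset.prod_congr rfl fun i _ => ?_
      rw [← node_apply, ← node_apply, node_labelChar, hnode]
    have hμ : labelMu π = μ := by
      funext i
      rw [hπ, labelMu]
      rcases IsWeight.mu_cases c ρ (p := p) hv i with h | ⟨h1, h2⟩
      · simp [h]
      · simp [h2]
    obtain ⟨i, hi⟩ := e.surjective π
    refine ⟨i, fun g => ?_⟩
    have hwi := hw i
    rw [hi, hχ, hμ] at hwi
    obtain ⟨E, hE⟩ := c.exists_iso_of_weight ρ (σ i) (p := p) hρ (hirr i) hv hwi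
    have hconj : σ i g = E.conj (ρ g) := LinearMap.ext fun a => by
      rw [LinearEquiv.conj_apply_apply, hE, E.apply_symm_apply]
    rw [hconj, LinearMap.trace_conj']
  have hcount := Cfsg.Agent.Lie.BrauerCount.card_pClass_eq (p := p) σ hirr hhom' hall
  rw [hcount, Fintype.card_fin, Fintype.card_fun, Fintype.card_fin, Fintype.card_option,
    ← Nat.card_eq_fintype_card, hhom, Nat.sub_add_cancel Fintype.card_pos]

end CertFull

end Cfsg.Agent.Lie.Chev
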