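import Cfsg.Agent.Lib.Lie.Chev.G2TorusTwist
import Cfsg.Agent.Lib.Lie.Chev.SemisimpleCount
import Cfsg.Agent.Lib.Lie.Chev.StTorus

/-! Every semisimple element of `G₂(q)` is conjugate, over the sextic extension, into the split
torus, by comparing Frobenius-fixed orbits with Steinberg's count of semisimple classes. -/

set_option autoImplicit false
set_option maxRecDepth 4000

namespace Cfsg.Agent.Lie.Chev.G2Tor

open Cfsg.Lie G2Singer

/-- An element of the group over the small field that is conjugate to a torus element over the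
large one. -/
def Toral {F L : Type*} [Field F] [Field L] (ι : F →+* L) (x : ↥(chevG2.group F))
    (P : Lˣ × Lˣ) : Prop :=
  ∃ h ∈ chevG2.group L,
    h * Matrix.GeneralLinearGroup.map ι (x : GL chevG2.Idx F) * h⁻¹ = tau P

/-- The sum of two matrices. -/
def add2 (A B : M2) : M2 := (A.1 + B.1, A.2 + B.2)

theorem act_add {G : Type*} [CommGroup G] (A B : M2) (P : G × G) :
    act (add2 A B) P = act A P * act B P := by
  have h : ∀ (x y : ℤ × ℤ), ev2 (x + y) P = ev2 x P * ev2 y P := fun x y => by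
    simp only [ev2, Prod.fst_add, Prod.snd_add, zpow_add]
    exact mul_mul_mul_comm _ _ _ _
  exact Prod.ext (h _ _) (h _ _)

theorem act_zero {G : Type*} [CommGroup G] (P : G × G) : act ((0, 0), (0, 0)) P = 1 := by
  simp [act, ev2]

/-- The kind of an element of the Weyl group: its order, with `0` for minus one. -/
def kind (A : M2) : ℕ :=
  if A = id2 then 1 else if A = ((-1, 0), (0, -1)) then 0 else
    if mm2 A A = id2 then 2 else if mm2 A (mm2 A A) = id2 then 3 else 6

theorem kind_facts : ∀ A ∈ W12,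
    (kind A = 1 ∧ A = id2) ∨ (kind A = 0 ∧ A = ((-1, 0), (0, -1))) ∨
    (kind A = 2 ∧ mm2 A A = id2) ∨
    (kind A = 3 ∧ add2 (add2 (mm2 A A) A) id2 = ((0, 0), (0, 0))) ∨
    (kind A = 6 ∧ add2 (mm2 A A) id2 = A) := by decide +kernel

/-- The exponent of the torus twisted by an element of the given kind. -/
def texp (q k : ℕ) : ℕ :=
  if k = 1 then q - 1 else if k = 0 then q + 1 else if k = 2 then q ^ 2 - 1 else
    if k = 3 then q ^ 2 + q + 1 else q ^ 2 - q + 1

/-- The order of the torus twisted by an element of the given kind. -/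
def tcard (q k : ℕ) : ℕ :=
  if k = 1 then (q - 1) ^ 2 else if k = 0 then (q + 1) ^ 2 else texp q k

theorem pow_texp {G : Type*} [CommGroup G] {q : ℕ} (hq : 1 ≤ q) {A : M2} (hA : A ∈ W12)
    {P : G × G} (hP : act A P = P ^ q) : P ^ texp q (kind A) = 1 := by
  have h2 : act (mm2 A A) P = P ^ q ^ 2 := by
    rw [← act_comp, hP, map_pow, hP, ← pow_mul, pow_two]
  rcases kind_facts A hA with ⟨hk, h⟩ | ⟨hk, h⟩ | ⟨hk, h⟩ | ⟨hk, h⟩ | ⟨hk, h⟩ <;>
    simp only [hk, texp]
  · simp only [if_true]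
    rw [h, act_id] at hP
    refine mul_right_cancel (b := P) ?_
    rw [← pow_succ, Nat.sub_add_cancel hq, ← hP, one_mul]
  · simp only [zero_ne_one, if_false, if_true]
    rw [pow_succ, ← hP, h]
    refine Prod.ext ?_ ?_ <;> simp [act, ev2]
  · simp only [show (2 : ℕ) ≠ 1 by norm_num, show (2 : ℕ) ≠ 0 by norm_num, if_false, if_true]
    rw [h, act_id] at h2
    refine mul_right_cancel (b := P) ?_
    rw [← pow_succ, Nat.sub_add_cancel (Nat.one_le_pow _ _ hq), ← h2, one_mul]
  · simp only [show (3 : ℕ) ≠ 1 by norm_num, show (3 : ℕ) ≠ 0 by norm_num,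
      show (3 : ℕ) ≠ 2 by norm_num, if_false, if_true]
    have e := act_zero (G := G) P
    rw [← h, act_add, act_add, act_id, h2, hP, ← pow_add, ← pow_succ] at e
    exact e
  · simp only [show (6 : ℕ) ≠ 1 by norm_num, show (6 : ℕ) ≠ 0 by norm_num,
      show (6 : ℕ) ≠ 2 by norm_num, show (6 : ℕ) ≠ 3 by norm_num, if_false]
    have e : act A P = P ^ (q ^ 2 + 1) := by
      conv_lhs => rw [← h]
      rw [act_add, act_id, h2, ← pow_succ]
    rw [hP] at e
    refine mul_right_cancel (b := P ^ q) ?_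
    have hq2 : q ≤ q ^ 2 := by rw [pow_two]; exact Nat.le_mul_self q
    rw [← pow_add, one_mul, show q ^ 2 - q + 1 + q = q ^ 2 + 1 by omega, ← e]

/-- The six representatives of the classes. -/
def reps : List M2 :=
  [id2, ((-1, 0), (-1, 1)), ((1, 0), (1, -1)), ((-1, 0), (0, -1)), ((-1, 1), (-1, 0)),
    ((0, 1), (-1, 1))]

theorem reps_mem : ∀ B ∈ reps, B ∈ W12 := by decide +kernel

theorem class_cover : ∀ A ∈ W12, ∃ B ∈ reps, kind B = kind A ∧
    ∃ U ∈ W12, mm2 U B = mm2 A U := by decide +kernel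

theorem six_class : ∀ A ∈ W12, mm2 A A ≠ id2 → mm2 A (mm2 A A) ≠ id2 →
    ∃ U ∈ W12, mm2 U A = mm2 ((0, 1), (-1, 1)) U := by decide +kernel

theorem sum_tcard (q : ℕ) (hq : 1 ≤ q) :
    (W12.map fun A => tcard q (kind A)).sum = 12 * q ^ 2 := by
  have e : W12.map kind = [1, 2, 2, 6, 6, 2, 2, 3, 3, 2, 2, 0] := by decide +kernel
  rw [show (W12.map fun A => tcard q (kind A)) = (W12.map kind).map (tcard q) by
    rw [List.map_map]; rfl, e]
  obtain ⟨k, rfl⟩ : ∃ k, q = k + 1 := ⟨q - 1, by omega⟩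
  simp only [List.map_cons, List.map_nil, List.sum_cons, List.sum_nil, tcard, texp]
  norm_num
  have e1 : (k + 1) ^ 2 - 1 = k ^ 2 + 2 * k := by
    rw [show (k + 1) ^ 2 = k ^ 2 + 2 * k + 1 by ring]; rfl
  have e2 : (k + 1) ^ 2 - (k + 1) = k ^ 2 + k := by
    rw [show (k + 1) ^ 2 = k ^ 2 + k + (k + 1) by ring]; simp
  rw [e1, e2]
  ring

section

variable {F L : Type*} [Field F] [Field L] [Fintype F] [Fintype L] {ι : F →+* L} {q : ℕ}
  {φ : L →+* L}

theorem twists_all (ι : F →+* L) (hF : Fintype.card F = q) (hφ : ∀ t, φ t = t ^ q)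
    (hL : Fintype.card L = q ^ 6) (hq : 3 ≤ q) : ∀ A ∈ W12, Twists φ A := by
  obtain ⟨g₀, hg₀⟩ := IsCyclic.exists_ofOrder_eq_natCard (α := Lˣ)
  rw [Nat.card_units, Nat.card_eq_fintype_card, hL] at hg₀
  have hel : ∀ d, d ∣ 6 → 1 < d → ∃ x : L, x ^ q ^ d = x ∧ φ x ≠ x := by
    intro d hd h1
    have hdvd : q ^ d - 1 ∣ q ^ 6 - 1 := Nat.pow_sub_one_dvd_pow_sub_one q hd
    have h2 : 1 < q ^ d := Nat.one_lt_pow (by omega) (by omega)
    have h6 : 1 < q ^ 6 := Nat.one_lt_pow (by omega) (by omega)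
    obtain ⟨u, hu⟩ : ∃ u : Lˣ, orderOf u = q ^ d - 1 := by
      refine ⟨g₀ ^ ((q ^ 6 - 1) / (q ^ d - 1)), ?_⟩
      rw [orderOf_pow_of_dvd, hg₀, Nat.div_div_self hdvd (by omega)]
      · exact (Nat.div_pos (Nat.le_of_dvd (by omega) hdvd) (by omega)).ne'
      · rw [hg₀]; exact Nat.div_dvd_of_dvd hdvd
    refine ⟨(u : L), ?_, fun h => ?_⟩
    · rw [← Units.val_pow_eq_pow_val]
      congr 1
      calc u ^ q ^ d = u ^ (q ^ d - 1 + 1) := by rw [Nat.sub_add_cancel (by omega)]
        _ = u := by rw [pow_succ, ← hu, pow_orderOf_eq_one, one_mul]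
    · rw [hφ, ← Units.val_pow_eq_pow_val] at h
      have h' : u ^ q = u := Units.ext h
      have h3 : u ^ (q - 1) = 1 := by
        refine mul_right_cancel (b := u) ?_
        rw [← pow_succ, Nat.sub_add_cancel (by omega), h', one_mul]
      have h4 := Nat.le_of_dvd (by omega) (hu ▸ orderOf_dvd_of_pow_eq_one h3)
      have h5 : q < q ^ d := lt_self_pow₀ (by omega) h1
      omega
  obtain ⟨α, hα, hαne⟩ := hel 2 (by norm_num) (by norm_num)
  obtain ⟨x, hx, hxne⟩ := hel 3 (by norm_num) (by norm_num)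
  obtain ⟨r1, r2, r3⟩ := twists_reflections φ (α := α)
    (by rw [hφ, hφ, ← pow_mul, ← pow_two, hα]) hαne
  have r4 := twists_rotation φ (x := x)
    (by rw [hφ, hφ, hφ, ← pow_mul, ← pow_mul, ← mul_assoc, ← pow_three', hx]) hxne
  obtain ⟨A₆, hA₆, h2, h3, hT⟩ := twists_six ι hF φ hφ hL hq
  have r6 : Twists φ ((0, 1), (-1, 1)) := by
    obtain ⟨U, hU, e⟩ := six_class A₆ hA₆ h2 h3
    exact twists_conj φ hU hT e
  have hrep : ∀ B ∈ reps, Twists φ B := by
    intro B hB
    simp only [reps, List.mem_cons, List.not_mem_nil, or_false] at hB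
    rcases hB with rfl | rfl | rfl | rfl | rfl | rfl
    exacts [twists_id φ, r1, r2, r3, r4, r6]
  intro A hA
  obtain ⟨B, hB, -, U, hU, e⟩ := class_cover A hA
  exact twists_conj φ hU (hrep B hB) e

/-- A twisted parameter is realised in the small group. -/
theorem exists_toral (ι : F →+* L) (hF : Fintype.card F = q) (hφ : ∀ t, φ t = t ^ q)
    {A : M2} (hA : Twists φ A) {P : Lˣ × Lˣ} (hP : act A P = P ^ q) :
    ∃ x : ↥(chevG2.group F), Toral ι x P := by
  obtain ⟨g, hg, hk⟩ := hA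
  set σ := Matrix.GeneralLinearGroup.map (n := chevG2.Idx) φ
  have hfix : σ (g⁻¹ * tau P * g) = g⁻¹ * tau P * g := by
    rw [map_mul, map_mul, map_inv, tau_map_pow φ hφ, ← hP, ← hk P]
    group
  have hH : Nat.card (chevG2.diagonalSubgroup L) = (Fintype.card L - 1) ^ chevG2.rank := by
    simpa using torusOrderG2 L
  have h1 := certFullG2.fixed_mem hH
    (mul_mem (mul_mem (inv_mem hg) (tau_mem_group P)) hg) hfix
  rw [← certFullG2.group_mapHom (CertFull.range_eq_fixed ι hF hφ)] at h1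
  obtain ⟨y, hy, e⟩ := h1
  refine ⟨⟨y, hy⟩, g, hg, ?_⟩
  show g * Matrix.GeneralLinearGroup.map ι y * g⁻¹ = _
  rw [e]
  group

/-- A toral element has the order of its parameter. -/
theorem Toral.orderOf_eq {x : ↥(chevG2.group F)} {P : Lˣ × Lˣ} (h : Toral ι x P) :
    orderOf x = orderOf P := by
  obtain ⟨g, -, e⟩ := h
  have hinj : Function.Injective (Matrix.GeneralLinearGroup.map (n := chevG2.Idx) ι) :=
    fun a b e => Units.ext (Matrix.ext fun i j => ι.injective
      (congrArg (fun v : GL chevG2.Idx L => (v : Matrix chevG2.Idx chevG2.Idx L) i j) e))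
  rw [← orderOf_injective (tau (F := L)) tau_injective P, ← e,
    show g * Matrix.GeneralLinearGroup.map ι (x : GL chevG2.Idx F) * g⁻¹ =
      (MulAut.conj g) (Matrix.GeneralLinearGroup.map ι (x : GL chevG2.Idx F)) from rfl]
  exact ((orderOf_injective (MulAut.conj g).toMonoidHom (MulAut.conj g).injective _).trans
    ((orderOf_injective _ hinj _).trans (orderOf_injective (chevG2.group F).subtype
      (chevG2.group F).subtype_injective x))).symm

theorem card_roots {n : ℕ} (h : n ∣ Fintype.card L - 1) :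
    Nat.card {x : Lˣ // x ^ n = 1} = n := by
  have e := IsCyclic.card_powMonoidHom_ker (G := Lˣ) n
  rw [Nat.card_units, Nat.card_eq_fintype_card (α := L), Nat.gcd_eq_right h] at e
  exact e

theorem card_twisted_ge (hL : Fintype.card L = q ^ 6) (hq : 2 ≤ q) {A : M2} (hA : A ∈ W12) :
    tcard q (kind A) ≤ Nat.card {P : Lˣ × Lˣ // act A P = P ^ q} := by
  classical
  have h1 : q ^ 1 - 1 ∣ q ^ 6 - 1 := Nat.pow_sub_one_dvd_pow_sub_one q (by norm_num)
  have h2 : q ^ 2 - 1 ∣ q ^ 6 - 1 := Nat.pow_sub_one_dvd_pow_sub_one q (by norm_num)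
  have hz : ((q ^ 6 - 1 : ℕ) : ℤ) = (q : ℤ) ^ 6 - 1 := by
    rw [Nat.cast_sub (Nat.one_le_pow _ _ (by omega))]; push_cast; rfl
  have hp1 : q + 1 ∣ q ^ 6 - 1 := by
    refine Int.natCast_dvd_natCast.1 ⟨((q : ℤ) - 1) * (q ^ 4 + q ^ 2 + 1), ?_⟩
    rw [hz]; push_cast; ring
  have hp3 : q ^ 2 + q + 1 ∣ q ^ 6 - 1 := by
    refine Int.natCast_dvd_natCast.1 ⟨((q : ℤ) - 1) * (q ^ 3 + 1), ?_⟩
    rw [hz]; push_cast; ring
  have hqq : q ≤ q ^ 2 := by rw [pow_two]; exact Nat.le_mul_self q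
  have hp6 : q ^ 2 - q + 1 ∣ q ^ 6 - 1 := by
    refine Int.natCast_dvd_natCast.1 ⟨((q : ℤ) + 1) * (q ^ 3 - 1), ?_⟩
    rw [hz, Nat.cast_add, Nat.cast_sub hqq]; push_cast; ring
  have hbase : ∀ B ∈ reps, tcard q (kind B) ≤ Nat.card {P : Lˣ × Lˣ // act B P = P ^ q} := by
    have hf : ∀ B : M2, Finite {P : Lˣ × Lˣ // act B P = P ^ q} := fun B => inferInstance
    have hcancel : ∀ (x : Lˣ) {n m : ℕ}, x ^ n = 1 → n ∣ m → x ^ m = 1 := fun x n m hx hd => by
      obtain ⟨k, rfl⟩ := hd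
      rw [pow_mul, hx, one_pow]
    intro B hB
    simp only [reps, List.mem_cons, List.not_mem_nil, or_false] at hB
    rcases hB with rfl | rfl | rfl | rfl | rfl | rfl
    · rw [show kind id2 = 1 from rfl, tcard, if_pos rfl, pow_two]
      have hn : q - 1 ∣ Fintype.card L - 1 := by rw [hL]; simpa using h1
      rw [← card_roots (L := L) hn, ← Nat.card_prod]
      refine Nat.card_le_card_of_injective (fun x => ⟨(x.1.1, x.2.1), ?_⟩) ?_
      · rw [act_id]
        have e : ∀ y : Lˣ, y ^ (q - 1) = 1 → y ^ q = y := fun y hy => by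
          rw [← Nat.sub_add_cancel (show 1 ≤ q by omega), pow_succ, hy, one_mul]
        exact Prod.ext (e _ x.1.2).symm (e _ x.2.2).symm
      · intro x y e
        simp only [Subtype.mk.injEq, Prod.mk.injEq] at e
        exact Prod.ext (Subtype.ext e.1) (Subtype.ext e.2)
    · rw [show kind (((-1, 0), (-1, 1)) : M2) = 2 from rfl, tcard, if_neg (by norm_num),
        if_neg (by norm_num), texp, if_neg (by norm_num), if_neg (by norm_num), if_pos rfl]
      rw [← card_roots (L := L) (show q ^ 2 - 1 ∣ Fintype.card L - 1 by rw [hL]; exact h2)]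
      refine Nat.card_le_card_of_injective
        (fun x => ⟨(x.1 * (x.1 ^ q)⁻¹, x.1), ?_⟩) ?_
      · have e : x.1 ^ q ^ 2 = x.1 :=
          calc x.1 ^ q ^ 2 = x.1 ^ (q ^ 2 - 1 + 1) := by
                rw [Nat.sub_add_cancel (Nat.one_le_pow 2 q (by omega))]
            _ = x.1 := by rw [pow_succ, x.2, one_mul]
        refine Prod.ext ?_ ?_
        · simp [act, ev2, mul_pow, ← pow_mul, ← pow_two, e, mul_comm]
        · simp [act, ev2]
      · intro x y e
        simp only [Subtype.mk.injEq, Prod.mk.injEq] at e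
        exact Subtype.ext e.2
    · rw [show kind (((1, 0), (1, -1)) : M2) = 2 from rfl, tcard, if_neg (by norm_num),
        if_neg (by norm_num), texp, if_neg (by norm_num), if_neg (by norm_num), if_pos rfl]
      rw [← card_roots (L := L) (show q ^ 2 - 1 ∣ Fintype.card L - 1 by rw [hL]; exact h2)]
      refine Nat.card_le_card_of_injective (fun x => ⟨(x.1 ^ (q + 1), x.1), ?_⟩) ?_
      · have e : x.1 ^ q ^ 2 = x.1 :=
          calc x.1 ^ q ^ 2 = x.1 ^ (q ^ 2 - 1 + 1) := by
                rw [Nat.sub_add_cancel (Nat.one_le_pow 2 q (by omega))]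
            _ = x.1 := by rw [pow_succ, x.2, one_mul]
        refine Prod.ext ?_ ?_
        · simp only [act, ev2, MonoidHom.coe_mk, OneHom.coe_mk, zpow_one, zpow_zero, mul_one,
            Prod.pow_fst]
          rw [pow_succ, mul_pow, ← pow_mul, ← pow_two, e, mul_comm]
        · simp [act, ev2, pow_succ]
      · intro x y e
        simp only [Subtype.mk.injEq, Prod.mk.injEq] at e
        exact Subtype.ext e.2
    · rw [show kind (((-1, 0), (0, -1)) : M2) = 0 from rfl, tcard, if_neg (by norm_num),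
        if_pos rfl, pow_two]
      rw [← card_roots (L := L) (show q + 1 ∣ Fintype.card L - 1 by rw [hL]; exact hp1),
        ← Nat.card_prod]
      refine Nat.card_le_card_of_injective (fun x => ⟨(x.1.1, x.2.1), ?_⟩) ?_
      · have e : ∀ y : Lˣ, y ^ (q + 1) = 1 → y⁻¹ = y ^ q := fun y hy => by
          rw [inv_eq_iff_mul_eq_one, ← pow_succ', hy]
        refine Prod.ext ?_ ?_
        · simpa [act, ev2] using e _ x.1.2
        · simpa [act, ev2] using e _ x.2.2
      · intro x y e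
        simp only [Subtype.mk.injEq, Prod.mk.injEq] at e
        exact Prod.ext (Subtype.ext e.1) (Subtype.ext e.2)
    · rw [show kind (((-1, 1), (-1, 0)) : M2) = 3 from rfl, tcard, if_neg (by norm_num),
        if_neg (by norm_num), texp, if_neg (by norm_num), if_neg (by norm_num),
        if_neg (by norm_num), if_pos rfl]
      rw [← card_roots (L := L)
        (show q ^ 2 + q + 1 ∣ Fintype.card L - 1 by rw [hL]; exact hp3)]
      refine Nat.card_le_card_of_injective (fun x => ⟨(x.1, x.1 ^ (q + 1)), ?_⟩) ?_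
      · refine Prod.ext ?_ ?_
        · simp [act, ev2, pow_succ]
        · show x.1 ^ (-1 : ℤ) * _ ^ (0 : ℤ) = _
          rw [zpow_zero, mul_one, zpow_neg_one, inv_eq_iff_mul_eq_one, Prod.pow_snd, ← pow_mul,
            ← pow_succ', show (q + 1) * q + 1 = q ^ 2 + q + 1 by ring, x.2]
      · intro x y e
        simp only [Subtype.mk.injEq, Prod.mk.injEq] at e
        exact Subtype.ext e.1
    · rw [show kind (((0, 1), (-1, 1)) : M2) = 6 from rfl, tcard, if_neg (by norm_num),
        if_neg (by norm_num), texp, if_neg (by norm_num), if_neg (by norm_num),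
        if_neg (by norm_num), if_neg (by norm_num)]
      rw [← card_roots (L := L)
        (show q ^ 2 - q + 1 ∣ Fintype.card L - 1 by rw [hL]; exact hp6)]
      refine Nat.card_le_card_of_injective (fun x => ⟨(x.1, x.1 ^ q), ?_⟩) ?_
      · refine Prod.ext ?_ ?_
        · simp [act, ev2]
        · show x.1 ^ (-1 : ℤ) * (x.1 ^ q) ^ (1 : ℤ) = _
          rw [zpow_one, zpow_neg_one, inv_mul_eq_iff_eq_mul, Prod.pow_snd, ← pow_mul,
            ← pow_succ', ← pow_two]
          calc x.1 ^ q = x.1 ^ q * x.1 ^ (q ^ 2 - q + 1) := by rw [x.2, mul_one]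
            _ = _ := by rw [← pow_add]; congr 1; omega
      · intro x y e
        simp only [Subtype.mk.injEq, Prod.mk.injEq] at e
        exact Subtype.ext e.1
  obtain ⟨B, hB, hk, U, hU, e⟩ := class_cover A hA
  obtain ⟨V, -, hUV, hVU⟩ := W12_inv U hU
  rw [← hk]
  refine (hbase B hB).trans (Nat.card_le_card_of_injective (fun P => ⟨act U P.1, ?_⟩) ?_)
  · rw [act_comp, ← e, ← act_comp, P.2, map_pow]
  · intro P Q h
    have h' := congrArg (fun R => act V R.1) h
    simp only [act_comp, hVU, act_id] at h'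
    exact Subtype.ext h'

/-- **Semisimple elements are toral.** -/
theorem exists_param_of_semisimple {p : ℕ} [Fact p.Prime] [CharP F p] (ι : F →+* L)
    (hF : Fintype.card F = q) (hφ : ∀ t, φ t = t ^ q) (hL : Fintype.card L = q ^ 6) (hq : 3 ≤ q)
    {y : ↥(chevG2.group F)} (hy : (orderOf y).Coprime p) :
    ∃ A ∈ W12, ∃ P : Lˣ × Lˣ, act A P = P ^ q ∧ Toral ι y P := by
  classical
  set X := {P : Lˣ × Lˣ // ∃ A ∈ W12, act A P = P ^ q}
  have htw := twists_all ι hF hφ hL hq
  have hx : ∀ P : X, ∃ x : ↥(chevG2.group F), Toral ι x P.1 := fun P => by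
    obtain ⟨A, hA, e⟩ := P.2
    exact exists_toral ι hF hφ (htw A hA) e
  choose xs hxs using hx
  let s : Setoid X := ⟨fun P Q => ∃ U ∈ W12, act U P.1 = Q.1, ⟨fun P => ⟨id2, id2_mem, act_id _⟩,
    fun {P Q} ⟨U, hU, e⟩ => by
      obtain ⟨V, hV, -, hVU⟩ := W12_inv U hU
      exact ⟨V, hV, by rw [← e, act_comp, hVU, act_id]⟩,
    fun {P Q R} ⟨U, hU, e⟩ ⟨V, hV, e'⟩ =>
      ⟨mm2 V U, W12_mul V hV U hU, by rw [← act_comp, e, e']⟩⟩⟩
  set K := Quotient s
  -- at most twelve pairs over each orbit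
  have hU : ∀ P : X, ∃ U ∈ W12, act U (Quotient.out (Quotient.mk s P)).1 = P.1 := fun P =>
    Quotient.exact (Quotient.out_eq (Quotient.mk s P))
  choose us hus hact using hU
  have hinv : ∀ U : M2, ∃ V : M2, U ∈ W12 → V ∈ W12 ∧ mm2 U V = id2 ∧ mm2 V U = id2 := fun U => by
    by_cases h : U ∈ W12
    · obtain ⟨V, hV⟩ := W12_inv U h; exact ⟨V, fun _ => hV⟩
    · exact ⟨U, fun h' => absurd h' h⟩
  choose iv hiv using hinv
  let k₀ : K → M2 := fun K₀ => (Quotient.out K₀).2.choose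
  have hk₀ : ∀ K₀, k₀ K₀ ∈ W12 ∧ act (k₀ K₀) (Quotient.out K₀).1 = (Quotient.out K₀).1 ^ q :=
    fun K₀ => (Quotient.out K₀).2.choose_spec
  let Tset := Σ A : {A : M2 // A ∈ W12}, {P : Lˣ × Lˣ // act A.1 P = P ^ q}
  let toX : Tset → X := fun t => ⟨t.2.1, t.1.1, t.1.2, t.2.2⟩
  let Mf : Tset → M2 := fun t =>
    let u := us (toX t)
    mm2 u (mm2 (iv (k₀ (Quotient.mk s (toX t)))) (mm2 (iv u) (mm2 t.1.1 u)))
  have hMmem : ∀ t, Mf t ∈ W12 := fun t =>
    W12_mul _ (hus _) _ (W12_mul _ (hiv _ (hk₀ _).1).1 _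
      (W12_mul _ (hiv _ (hus _)).1 _ (W12_mul _ t.1.2 _ (hus _))))
  have hMact : ∀ t : Tset,
      act (Mf t) (Quotient.out (Quotient.mk s (toX t))).1 = t.2.1 := by
    intro t
    obtain ⟨P₀, hP₀⟩ : ∃ P₀, P₀ = (Quotient.out (Quotient.mk s (toX t))).1 := ⟨_, rfl⟩
    have hu : act (us (toX t)) P₀ = t.2.1 := hP₀ ▸ hact (toX t)
    have hk : act (k₀ (Quotient.mk s (toX t))) P₀ = P₀ ^ q := hP₀ ▸ (hk₀ _).2
    simp only [Mf, ← act_comp, ← hP₀, hu, t.2.2, map_pow]
    rw [← hu, act_comp (iv (us (toX t))), (hiv _ (hus _)).2.2, act_id, ← map_pow, ← map_pow, ← hk,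
      act_comp (iv (k₀ _)), (hiv _ (hk₀ _).1).2.2, act_id]
  have hcard : Nat.card Tset ≤ Nat.card K * 12 := by
    rw [show 12 = Nat.card {A : M2 // A ∈ W12} by
      rw [← Nat.card_congr (W12_nodup.getEquiv W12), Nat.card_fin, W12_length]]
    rw [← Nat.card_prod]
    haveI : Finite {A : M2 // A ∈ W12} := (List.finite_toSet W12).to_subtype
    refine Nat.card_le_card_of_injective
      (fun t => (Quotient.mk s (toX t), ⟨Mf t, hMmem t⟩)) ?_
    rintro t t' e
    simp only [Prod.mk.injEq, Subtype.mk.injEq] at e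
    have hP : t.2.1 = t'.2.1 := by rw [← hMact t, ← hMact t', e.1, e.2]
    have hX : toX t = toX t' := Subtype.ext hP
    have hA : t.1.1 = t'.1.1 := by
      have e2 := e.2
      simp only [Mf, hX] at e2
      have hu := hiv _ (hus (toX t'))
      have hk := hiv _ (hk₀ (Quotient.mk s (toX t'))).1
      have e3 := congrArg (fun M => mm2 (mm2 (us (toX t'))
        (mm2 (k₀ (Quotient.mk s (toX t'))) (mm2 (iv (us (toX t'))) M))) (iv (us (toX t')))) e2
      simp only [← mm2_assoc] at e3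
      simp only [mm2_assoc, hu.2.1, hk.2.1, id2_mul, mul_id2] at e3
      simpa [← mm2_assoc (iv (us (toX t'))), hu.2.2, id2_mul, ← mm2_assoc (us (toX t')) (iv _),
        hu.2.1, ← mm2_assoc (k₀ _), hk.2.1] using e3
    obtain ⟨⟨A, hA'⟩, ⟨P, hP'⟩⟩ := t
    obtain ⟨⟨A', hA''⟩, ⟨P', hP''⟩⟩ := t'
    simp only at hA hP
    subst hA hP
    rfl
  have hTsum : 12 * q ^ 2 ≤ Nat.card Tset := by
    have : Fintype {A : M2 // A ∈ W12} := Fintype.subtype W12.toFinset (fun x => by simp)
    rw [Nat.card_sigma, ← sum_tcard q (by omega)]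
    refine le_trans (le_of_eq ?_)
      (Finset.sum_le_sum fun A _ => card_twisted_ge (L := L) hL (by omega) A.2)
    rw [← List.sum_toFinset _ W12_nodup, Finset.sum_subtype W12.toFinset (fun x => List.mem_toFinset)]
  -- classes
  let C := {x : ConjClasses ↥(chevG2.group F) //
    ∃ g : ↥(chevG2.group F), ConjClasses.mk g = x ∧ (orderOf g).Coprime p}
  have hC : Nat.card C = q ^ 2 := by
    have hH : Nat.card (chevG2.diagonalSubgroup F) = (Fintype.card F - 1) ^ chevG2.rank := by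
      simpa using torusOrderG2 F
    rw [show Nat.card C = _ from certFullG2.card_semisimple_classes hH, hF, torus_values.1]
  have hp : p.Prime := Fact.out
  have hqp : p ∣ q := by
    obtain ⟨n, -, hn⟩ := FiniteField.card F p
    exact hF ▸ hn ▸ dvd_pow_self p n.ne_zero
  have hcop : ∀ P : X, (orderOf (xs P)).Coprime p := fun P => by
    rw [(hxs P).orderOf_eq]
    have h1 : orderOf P.1 ∣ q ^ 6 - 1 := by
      rw [← hL, ← Nat.card_eq_fintype_card, ← Nat.card_units]
      refine orderOf_dvd_of_pow_eq_one (Prod.ext ?_ ?_)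
      · rw [Prod.pow_fst, pow_card_eq_one', Prod.fst_one]
      · rw [Prod.pow_snd, pow_card_eq_one', Prod.snd_one]
    refine Nat.Coprime.coprime_dvd_left h1 ((hp.coprime_iff_not_dvd.2 fun h => ?_).symm)
    have h2 : p ∣ q ^ 6 := dvd_pow hqp (by norm_num)
    have h3 := Nat.dvd_sub h2 h
    rw [Nat.sub_sub_self (Nat.one_le_pow _ _ (by omega))] at h3
    exact hp.ne_one (Nat.eq_one_of_dvd_one h3)
  let f : K → C := fun K₀ => ⟨ConjClasses.mk (xs (Quotient.out K₀)), _, rfl, hcop _⟩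
  have hf : Function.Injective f := by
    intro K₁ K₂ e
    obtain ⟨a, ha⟩ := isConj_iff.1 (ConjClasses.mk_eq_mk_iff_isConj.1 (congrArg Subtype.val e))
    obtain ⟨h1, hh1, e1⟩ := hxs (Quotient.out K₁)
    obtain ⟨h2, hh2, e2⟩ := hxs (Quotient.out K₂)
    set mι := Matrix.GeneralLinearGroup.map (n := chevG2.Idx) ι
    have hg : h2 * mι (a : GL chevG2.Idx F) * h1⁻¹ ∈ chevG2.group L :=
      mul_mem (mul_mem hh2 (certFullG2.mapHom_mem_group ι a.2)) (inv_mem hh1)
    obtain ⟨U, hU, eU⟩ := exists_act_of_conj hg (P := (Quotient.out K₁).1)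
      (Q := (Quotient.out K₂).1) (by
        rw [← e1, ← e2, ← ha]
        simp only [Subgroup.coe_mul, Subgroup.coe_inv, map_mul, map_inv]
        group)
    rw [← Quotient.out_eq K₁, ← Quotient.out_eq K₂]
    exact Quotient.sound ⟨U, hU, eU⟩
  have hK : Nat.card C ≤ Nat.card K := by
    rw [hC]
    have := hTsum.trans hcard
    omega
  obtain ⟨K₀, hK₀⟩ := (Function.Injective.bijective_of_nat_card_le hf hK).2
    ⟨ConjClasses.mk y, y, rfl, hy⟩
  obtain ⟨a, ha⟩ := isConj_iff.1 (ConjClasses.mk_eq_mk_iff_isConj.1 (congrArg Subtype.val hK₀))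
  obtain ⟨A, hA, e⟩ := (Quotient.out K₀).2
  refine ⟨A, hA, _, e, ?_⟩
  obtain ⟨h, hh, e1⟩ := hxs (Quotient.out K₀)
  set mι := Matrix.GeneralLinearGroup.map (n := chevG2.Idx) ι
  refine ⟨h * (mι (a : GL chevG2.Idx F))⁻¹,
    mul_mem hh (inv_mem (certFullG2.mapHom_mem_group ι a.2)), ?_⟩
  rw [← e1, ← ha]
  simp only [Subgroup.coe_mul, Subgroup.coe_inv, map_mul, map_inv, mι]
  group

end

end Cfsg.Agent.Lie.Chev.G2Tor
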