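import Cfsg.Agent.Lib.Lie.Chev.CycTori

/-! An element of prime order inside a twisted torus, and the twisting word. -/

set_option autoImplicit false
set_option maxRecDepth 4000

namespace Cfsg.Agent.Lie.Chev

open Cfsg.Lie Matrix

namespace CertFull

variable {D : ChevalleyDatum} (c : CertFull D) {F L : Type*} [Field F] [Field L]

/-- The torus element is mapped to its `q`-th power by the word. -/
def Twisted (q : ℕ) (W : List ℕ) (z : ℕ → Lˣ) : Prop :=
  ∀ s < D.nroots, c.tchar z (c.wl W s) ^ q = c.tchar z s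

include c

theorem twisted_of_nw {q : ℕ} {W : List ℕ} (hW : ∀ p ∈ W, p < D.rank) {z : ℕ → Lˣ}
    (h : c.nw L W * c.torus z * (c.nw L W)⁻¹ = c.torus (z ^ q)) : c.Twisted q W z := fun s hs => by
  rw [← c.tchar_pow]
  exact c.tchar_of_nw_conj hW h hs

theorem nw_of_twisted {q : ℕ} {W : List ℕ} (hW : ∀ p ∈ W, p < D.rank) {z : ℕ → Lˣ}
    (h : c.Twisted q W z) : c.nw L W * c.torus z * (c.nw L W)⁻¹ = c.torus (z ^ q) :=
  c.nw_conj_torus hW fun s hs => by rw [c.tchar_pow]; exact h s hs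

/-- Equal matrices, equal actions on the roots. -/
theorem wl_eq_of_wmat {V W : List ℕ} (hV : ∀ p ∈ V, p < D.rank) (hW : ∀ p ∈ W, p < D.rank)
    (h : c.wmat V = c.wmat W) {s : ℕ} (hs : s < D.nroots) : c.wl V s = c.wl W s := by
  have hWr : ∀ p ∈ W.reverse, p < D.rank := fun p hp => hW p (List.mem_reverse.1 hp)
  have hVW : ∀ p ∈ W.reverse ++ V, p < D.rank := fun p hp =>
    (List.mem_append.1 hp).elim (hWr p) (hV p)
  have h1 : c.wmat (W.reverse ++ V) = 1 := by
    rw [c.wmat_append hWr hV, h]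
    exact mul_eq_one_comm.1 (c.wmat_reverse hW)
  have h2 := c.wl_eq_self_of_wmat hVW h1 hs
  rw [c.wl_append] at h2
  have h3 := congrArg (c.wl W) h2
  have h4 : c.wl W (c.wl W.reverse (c.wl V s)) = c.wl V s := by
    exact c.wl_reverse hW (c.wl_lt hV hs)
  rwa [h4] at h3

/-- Conjugation by a word. -/
theorem exists_conj {q : ℕ} {u W V : List ℕ} (hu : ∀ p ∈ u, p < D.rank)
    (hW : ∀ p ∈ W, p < D.rank) (hV : ∀ p ∈ V, p < D.rank)
    (hWV : c.wmat (u ++ W ++ u.reverse) = c.wmat V) {z : ℕ → Lˣ} (h : c.Twisted q W z) :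
    ∃ z' : ℕ → Lˣ, c.nw L u * c.torus z * (c.nw L u)⁻¹ = c.torus z' ∧ c.Twisted q V z' := by
  have hmem := c.N_conj_H (c.nw_mem_N (F := L) hu) (c.torus_mem z)
  rw [c.diagonalSubgroup_eq] at hmem
  obtain ⟨z', hz'⟩ := hmem
  refine ⟨z', hz'.symm, fun s hs => ?_⟩
  have hur : ∀ p ∈ u.reverse, p < D.rank := fun p hp => hu p (List.mem_reverse.1 hp)
  have hall : ∀ p ∈ u ++ W ++ u.reverse, p < D.rank := fun p hp => by
    rcases List.mem_append.1 hp with hp | hp
    · exact (List.mem_append.1 hp).elim (hu p) (hW p)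
    · exact hur p hp
  rw [← c.wl_eq_of_wmat hall hV hWV hs, c.wl_append, c.wl_append]
  have hs' := c.wl_lt hur hs
  rw [c.tchar_of_nw_conj hu hz'.symm (c.wl_lt hW hs'), h _ hs',
    ← c.tchar_of_nw_conj hu hz'.symm hs', c.wl_reverse hu hs]

set_option maxHeartbeats 1000000 in
/-- An element of order `r` conjugated into the torus. -/
theorem exists_start [Fintype F] [Fintype L] (ι : F →+* L) {q : ℕ} (hF : Fintype.card F = q)
    (φ : L →+* L) (hφ : ∀ t, φ t = t ^ q) {n : ℕ} (hn : 1 < n) (hL : Fintype.card L = q ^ n)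
    {Ls : List (List Rep)} {ds : List ℕ} (hc : c.T.checkLevels Ls = true)
    (hlen : Ls.length = D.rank) (hpoly : checkPoly D.rank Ls ds = true) (hds : n ∈ ds)
    {e : ℕ} (hHF : e * Nat.card (D.diagonalSubgroup F) = (Fintype.card F - 1) ^ D.rank)
    {r : ℕ} [Fact r.Prime] (hr1 : r ∣ q ^ n - 1) (hre : ¬ r ∣ e)
    (hrW : ¬ r ∣ (chainWords Ls).length) :
    ∃ g ∈ D.group L, ∃ y ∈ D.group F, ∃ z : ℕ → Lˣ, ∃ W : List ℕ, (∀ p ∈ W, p < D.rank) ∧
      g * Matrix.GeneralLinearGroup.map ι y * g⁻¹ = c.torus z ∧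
      (∀ s < D.nroots, c.tchar z s ^ r = 1) ∧ (∃ s < D.nroots, c.tchar z s ≠ 1) ∧
      c.Twisted q W z := by
  classical
  have hrp : r.Prime := Fact.out
  have hq : 1 < q := hF ▸ Fintype.one_lt_card
  have hq1 : ((q : ZMod r)) ^ n = 1 := by
    have h := (ZMod.natCast_eq_zero_iff _ _).2 hr1
    rw [Nat.cast_sub (Nat.one_le_pow n q (by omega)), Nat.cast_pow, Nat.cast_one, sub_eq_zero] at h
    exact h
  obtain ⟨mι, hmι⟩ : ∃ m : GL D.Idx F →* GL D.Idx L,
      m = Matrix.GeneralLinearGroup.map ι := ⟨_, rfl⟩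
  obtain ⟨σ, hσ⟩ : ∃ m : GL D.Idx L →* GL D.Idx L,
      m = Matrix.GeneralLinearGroup.map φ := ⟨_, rfl⟩
  have hσι : ∀ y, σ (mι y) = mι y := fun y => by
    rw [hσ, hmι]
    exact Units.ext (Matrix.ext fun i j => by
      show φ (ι _) = ι _
      rw [hφ, ← map_pow, ← hF, FiniteField.pow_card])
  have hinj : Function.Injective mι := fun x y h => by
    rw [hmι] at h
    exact Units.ext (Matrix.ext fun i j =>
      ι.injective (congrArg (fun v : GL D.Idx L => (v : Matrix D.Idx D.Idx L) i j) h))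
  -- an element of order r
  obtain ⟨x, hx⟩ : ∃ x : ↥(D.group F), orderOf x = r := by
    haveI : Finite ↥(D.group F) := Subtype.finite
    refine exists_prime_orderOf_dvd_card' r ?_
    have h := c.card_group_formula (F := F) hc hlen hpoly hHF
    have h1 : r ∣ e * Nat.card (D.group F) := by
      rw [h, hF]
      exact dvd_mul_of_dvd_right
        (hr1.trans (List.dvd_prod (List.mem_map.2 ⟨n, hds, rfl⟩))) _
    exact (hrp.dvd_mul.1 h1).resolve_left hre
  -- conjugate it into the torus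
  obtain ⟨g, hg, z, hgz⟩ : ∃ g ∈ D.group L, ∃ z : ℕ → Lˣ,
      g * mι (x : GL D.Idx F) * g⁻¹ = c.torus z := by
    have hle : D.diagonalSubgroup L ≤ D.group L := fun a ha => c.B_le_group (c.H_le_B ha)
    obtain ⟨HH, hHH⟩ : ∃ HH, HH = (D.diagonalSubgroup L).subgroupOf (D.group L) := ⟨_, rfl⟩
    obtain ⟨S⟩ := Sylow.nonempty (p := r) (G := ↥HH)
    obtain ⟨R, hR⟩ := (S.isPGroup'.map HH.subtype).exists_le_sylow
    have hcardH : Nat.card HH = Nat.card (D.diagonalSubgroup L) :=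
      hHH ▸ Nat.card_congr (Subgroup.subgroupOfEquivOfLe hle).toEquiv
    have hG : ∃ k, Nat.card ↥(D.group L) = Nat.card HH * k ∧ ¬ r ∣ k := by
      refine ⟨Fintype.card L ^ (D.nroots / 2) *
        ((chainWords Ls).map fun v => Fintype.card L ^ c.invN v).sum, ?_, fun h => hrW ?_⟩
      · rw [c.card_group (F := L) hc hlen, hcardH]; ring
      · rw [← ZMod.natCast_eq_zero_iff] at h ⊢
        have h1 : ((Fintype.card L : ℕ) : ZMod r) = 1 := by rw [hL, Nat.cast_pow, hq1]
        rw [Nat.cast_mul, Nat.cast_pow, h1, one_pow, one_mul, Nat.cast_list_sum, List.map_map] at h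
        rw [← h]
        simp [Function.comp_def, h1]
    obtain ⟨k, hk, hrk⟩ := hG
    have hRH : (R : Subgroup ↥(D.group L)) ≤ HH := by
      have hcard : Nat.card (R : Subgroup ↥(D.group L)) ≤
          Nat.card ((S : Subgroup ↥HH).map HH.subtype) := by
        have hk0 : k ≠ 0 := fun e => hrk (e ▸ dvd_zero r)
        rw [Subgroup.card_map_of_injective HH.subtype_injective, R.card_eq_multiplicity,
          S.card_eq_multiplicity, hk, Nat.factorization_mul (Nat.card_pos).ne' hk0,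
          Finsupp.add_apply, Nat.factorization_eq_zero_of_not_dvd hrk, add_zero]
      rw [← Subgroup.eq_of_le_of_card_ge hR hcard]
      exact Subgroup.map_subtype_le _
    obtain ⟨X, hX⟩ : ∃ X : ↥(D.group L), (X : GL D.Idx L) = mι (x : GL D.Idx F) :=
      ⟨⟨_, hmι ▸ c.mapHom_mem_group ι x.2⟩, rfl⟩
    have hXp : X ^ r = 1 := Subtype.ext (by
      rw [Subgroup.coe_pow, hX, ← map_pow, ← Subgroup.coe_pow, ← hx, pow_orderOf_eq_one,
        Subgroup.coe_one, map_one]
      rfl)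
    obtain ⟨P, hP⟩ := (show IsPGroup r (Subgroup.zpowers X) from fun a => ⟨1, by
      obtain ⟨m, hm⟩ := Subgroup.mem_zpowers_iff.1 a.2
      refine Subtype.ext ?_
      rw [Subgroup.coe_pow, ← hm, pow_one, ← zpow_natCast, ← _root_.zpow_mul, mul_comm,
        _root_.zpow_mul, zpow_natCast, hXp, _root_.one_zpow]
      rfl⟩).exists_le_sylow
    obtain ⟨a, ha⟩ := MulAction.exists_smul_eq ↥(D.group L) P R
    have hmem : a * X * a⁻¹ ∈ HH := hRH (by
      rw [← ha, Sylow.coe_subgroup_smul]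
      exact Subgroup.smul_mem_pointwise_smul _ (MulAut.conj a) _ (hP (Subgroup.mem_zpowers X)))
    rw [hHH, Subgroup.mem_subgroupOf, c.diagonalSubgroup_eq] at hmem
    obtain ⟨z, hz⟩ := hmem
    exact ⟨a, a.2, z, by rw [hz, ← hX]; rfl⟩
  have hpow : ∀ y : ℕ → Lˣ, σ (c.torus y) = c.torus (y ^ q) := fun y => by
    rw [hσ, c.torus_map]
    congr 1
    funext i
    exact Units.ext (by simp [hφ])
  obtain ⟨k, hk⟩ : ∃ k, k = σ g * g⁻¹ := ⟨_, rfl⟩
  have hkmem : k ∈ D.group L := hk ▸ mul_mem (hσ ▸ c.group_map φ hg) (inv_mem hg)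
  have hkt : k * c.torus z * k⁻¹ = c.torus (z ^ q) := by
    rw [← hpow, ← hgz, map_mul, map_mul, map_inv, hσι, hk]
    group
  obtain ⟨W, hW, hconj⟩ := c.exists_nw_of_conj hkmem hkt
  refine ⟨g, hg, _, x.2, z, W, hW, hmι ▸ hgz, fun s hs => ?_, ?_, c.twisted_of_nw hW hconj⟩
  · have h1 : c.torus (z ^ r) = 1 := by
      rw [map_pow, ← hgz, conj_pow, ← map_pow, ← Subgroup.coe_pow, ← hx, pow_orderOf_eq_one,
        Subgroup.coe_one, map_one, mul_one, mul_inv_cancel]
    have h2 := (dg_eq_iff D L).1 (h1.trans (map_one (dg D L)).symm) s hs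
    change c.tchar (z ^ r) s = 1 at h2
    rwa [c.tchar_pow] at h2
  · by_contra hall
    push Not at hall
    have h1 : c.torus z = 1 := by
      rw [Cert.torus_apply, ← map_one (dg D L), dg_eq_iff]
      exact hall
    rw [← hgz, mul_inv_eq_one, mul_eq_left] at h1
    rw [show x = 1 from Subtype.ext (hinj (h1.trans (map_one mι).symm)), orderOf_one] at hx
    exact hrp.ne_one hx.symm

/-- The exponents of an element of prime order: an eigenvector of the word, fixed by whatever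
fixes the element. -/
theorem exists_eigen [Fintype L] {q r : ℕ} [Fact r.Prime] (hr : r ∣ Fintype.card L - 1)
    {W : List ℕ} (hW : ∀ p ∈ W, p < D.rank) {z : ℕ → Lˣ}
    (hzr : ∀ s < D.nroots, c.tchar z s ^ r = 1) (hne : ∃ s < D.nroots, c.tchar z s ≠ 1)
    (hrel : c.Twisted q W z) :
    ∃ eb : Fin D.rank → ZMod r, eb ≠ 0 ∧
      ((c.wmat W.reverse).map (Int.castRingHom (ZMod r))) *ᵥ eb = (q : ZMod r) • eb ∧
      ∀ M : List ℕ, (∀ p ∈ M, p < D.rank) →
        (∀ i : Fin D.rank, c.tchar z (c.wl M (D.simple i)) = c.chi z i) →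
        ((c.wmat M).map (Int.castRingHom (ZMod r))) *ᵥ eb = eb := by
  classical
  have hrp : r.Prime := Fact.out
  obtain ⟨ζ, hζ⟩ : ∃ ζ : Lˣ, orderOf ζ = r := by
    refine exists_prime_orderOf_dvd_card' r ?_
    rw [Nat.card_units, Nat.card_eq_fintype_card]
    exact hr
  have hexp : ∀ i : Fin D.rank, ∃ e : ℤ, ζ ^ e = c.chi z i := fun i => by
    have hprim : IsPrimitiveRoot ((ζ : Lˣ) : L) r :=
      IsPrimitiveRoot.coe_units_iff.2 (hζ ▸ IsPrimitiveRoot.orderOf ζ)
    haveI : NeZero r := ⟨hrp.ne_zero⟩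
    obtain ⟨e, -, he⟩ := hprim.eq_pow_of_pow_eq_one (show ((c.chi z i : Lˣ) : L) ^ r = 1 by
      rw [← Units.val_pow_eq_pow_val, chi, hzr _ (c.simple_lt i.2), Units.val_one])
    exact ⟨e, by rw [zpow_natCast]; exact Units.ext (by rw [Units.val_pow_eq_pow_val, he])⟩
  choose e he using hexp
  obtain ⟨eb, heb⟩ : ∃ eb : Fin D.rank → ZMod r, eb = fun i => (e i : ZMod r) := ⟨_, rfl⟩
  have hzeq : ∀ a b : ℤ, ζ ^ a = ζ ^ b ↔ (a : ZMod r) = (b : ZMod r) := fun a b => by
    rw [ZMod.intCast_eq_intCast_iff_dvd_sub, ← hζ, orderOf_dvd_iff_zpow_eq_one, _root_.zpow_sub,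
      mul_inv_eq_one, eq_comm]
  have hchi : c.chi z = fun i => ζ ^ e i := funext fun i => (he i).symm
  have hact : ∀ (M : List ℕ), (∀ p ∈ M, p < D.rank) → ∀ (m : ℕ),
      ((∀ i : Fin D.rank, c.tchar z (c.wl M (D.simple i)) = c.chi z i ^ m) ↔
      ((c.wmat M).map (Int.castRingHom (ZMod r))) *ᵥ eb = (m : ZMod r) • eb) := by
    intro M hM m
    have h0 : ∀ i : Fin D.rank,
        c.tchar z (c.wl M (D.simple i)) = ζ ^ ((c.wmat M *ᵥ e) i) := fun i => by
      have h := congrFun (c.tchar_wl_simple z hM) i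
      rw [hchi, CycMatrix.mpow_zpow, Matrix.vecMul_transpose] at h
      exact h
    have h1 : ((c.wmat M).map (Int.castRingHom (ZMod r))) *ᵥ eb =
        fun i => (((c.wmat M *ᵥ e) i : ℤ) : ZMod r) := by
      funext i
      simp [heb, Matrix.mulVec, dotProduct]
    have h2 : ∀ i : Fin D.rank, c.tchar z (c.wl M (D.simple i)) = c.chi z i ^ m ↔
        ((((c.wmat M *ᵥ e) i : ℤ)) : ZMod r) = ((m : ZMod r) • eb) i := fun i => by
      rw [h0 i, hchi, ← zpow_natCast, ← _root_.zpow_mul, hzeq, heb, Pi.smul_apply, smul_eq_mul,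
        Int.cast_mul, Int.cast_natCast, mul_comm]
    rw [h1, funext_iff]
    exact forall_congr' h2
  have hL' : ∀ p ∈ W.reverse, p < D.rank := fun p hp => hW p (List.mem_reverse.1 hp)
  refine ⟨eb, fun h0 => ?_, (hact _ hL' q).1 fun i => ?_, fun M hM hfix => ?_⟩
  · have h1 : c.chi z = c.chi (1 : ℕ → Lˣ) := by
      funext i
      rw [show c.chi (1 : ℕ → Lˣ) i = 1 by rw [c.chi_one]; rfl, ← he i, ← zpow_zero ζ, hzeq,
        Int.cast_zero]
      have := congrFun h0 i
      rwa [heb] at this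
    obtain ⟨s, hs, hs1⟩ := hne
    refine hs1 ?_
    rw [c.tchar_eq_chi z hs, h1, ← c.tchar_eq_chi 1 hs]
    simp [Cert.tchar]
  · have h := hrel _ (c.wl_lt hL' (c.simple_lt i.2))
    rw [c.wl_reverse hW (c.simple_lt i.2)] at h
    exact h.symm
  · have := (hact M hM 1).1 (fun i => by rw [pow_one]; exact hfix i)
    rwa [Nat.cast_one, one_smul] at this

end CertFull

end Cfsg.Agent.Lie.Chev
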