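import Cfsg.Agent.Lib.Lie.Chev.G2TorusAction
import Cfsg.Agent.Lib.Lie.Chev.StTorusStart
import Cfsg.Agent.Lib.Lie.Chev.SLTwo
import Cfsg.Agent.Lib.Lie.Chev.Subfield
import Cfsg.Agent.Lib.Recog.Zsigmondy

/-! For each element of the Weyl group of `G₂` an element of the group over the sextic extension
whose Frobenius quotient acts on the torus as that element. -/

set_option autoImplicit false
set_option maxRecDepth 4000

namespace Cfsg.Agent.Lie.Chev

open Cfsg.Lie
open scoped MatrixGroups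

namespace CertFull

variable {D : ChevalleyDatum} (c : CertFull D) {F : Type*} [Field F]
include c

/-- A monomial root element acts on the torus as a reflection. -/
theorem ng_conj_torus {r : ℕ} (hr : r < D.nroots) (x : Fˣ) (z : ℕ → Fˣ) :
    c.ng r (x : F) * c.torus z * (c.ng r (x : F))⁻¹ =
      c.torus (z * fun i => ((c.tchar z r)⁻¹) ^ c.T.coroot r i) := by
  have key : ∀ (w : ℕ → Fˣ), c.torus w * c.ng r (x : F) * (c.torus w)⁻¹ =
      c.torus (fun i => (c.tchar w r) ^ c.T.coroot r i) * c.ng r (x : F) := by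
    intro w
    set e := c.tchar w r
    have h1 : c.torus w * c.ng r (x : F) * (c.torus w)⁻¹ = c.ng r ((e * x : Fˣ) : F) := by
      calc c.torus w * c.ng r (x : F) * (c.torus w)⁻¹
          = (c.torus w * c.xg r (x : F) * (c.torus w)⁻¹) *
            (c.torus w * c.xg (D.neg r) (-(x : F)⁻¹) * (c.torus w)⁻¹) *
            (c.torus w * c.xg r (x : F) * (c.torus w)⁻¹) := by rw [Cert.ng]; group
        _ = _ := by
          rw [c.torus_conj_xg w hr, c.torus_conj_xg w (c.neg_lt hr), c.tchar_neg w hr, Cert.ng]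
          simp [e, mul_comm]
    have h2 : ∀ t : Fˣ, c.ng r (t : F) =
        c.torus (fun i => t ^ c.T.coroot r i) * c.ng r 1 := fun t => by
      rw [← c.hg_eq_torus hr t, Cert.hg, mul_assoc, ← c.ng_inv r 1, inv_mul_cancel, mul_one]
    rw [h1, h2, h2 x, ← mul_assoc, ← map_mul]
    congr 2
    funext i
    exact mul_zpow _ _ _
  have h := key z⁻¹
  rw [map_inv, inv_inv, show c.tchar z⁻¹ r = (c.tchar z r)⁻¹ by
    simp [Cert.tchar, Finset.prod_inv_distrib]] at h
  calc c.ng r (x : F) * c.torus z * (c.ng r (x : F))⁻¹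
      = c.torus z * ((c.torus z)⁻¹ * c.ng r (x : F) * c.torus z) * (c.ng r (x : F))⁻¹ := by group
    _ = _ := by rw [h, map_mul]; group

/-- A conjugating element for a reflection, from an element outside the fixed field. -/
theorem exists_root_twist {r : ℕ} (hr : r < D.nroots) (φ : F →+* F) {α : F}
    (hα : φ (φ α) = α) (hαne : φ α ≠ α) :
    ∃ (g : GL D.Idx F) (x : Fˣ), g ∈ D.rootSubgroup F r ⊔ D.rootSubgroup F (D.neg r) ∧
      (x : F) = -(φ α - α)⁻¹ ∧
      Matrix.GeneralLinearGroup.map φ g * g⁻¹ = c.ng r (x : F) := by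
  obtain ⟨ψ, hψr, hψ⟩ := c.exists_sl_root (F := F) hr
  have hup : ∀ t, ψ (upSL t) = c.xg r t := fun t => (hψ _ t).1 (upSL_val t)
  have hlo : ∀ t, ψ (loSL t) = c.xg (D.neg r) t := fun t => (hψ _ t).2 (loSL_val t)
  have hfac : ∀ h : SL(2, F), h.1 1 0 ≠ 0 → ψ h = c.xg r ((h.1 0 0 - 1) / h.1 1 0) *
      c.xg (D.neg r) (h.1 1 0) * c.xg r ((h.1 1 1 - 1) / h.1 1 0) := by
    intro h hc
    have e : h = upSL ((h.1 0 0 - 1) / h.1 1 0) * loSL (h.1 1 0) *
        upSL ((h.1 1 1 - 1) / h.1 1 0) := by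
      refine ext_two ?_ ?_ ?_ ?_ <;>
        simp only [mul_val, upSL_val, loSL_val] <;>
        simp [Matrix.mul_apply, Fin.sum_univ_two]
      all_goals field_simp
      all_goals first | linear_combination (-1 : F) * det_two h | linear_combination (0 : F) * det_two h
    conv_lhs => rw [e]
    rw [map_mul, map_mul, hup, hlo, hup]
  set α' := φ α with hα'
  set δ := α' - α with hδdef
  have hδ : δ ≠ 0 := sub_ne_zero.2 hαne
  have hφδ : φ δ = -δ := by rw [hδdef, map_sub, hα, neg_sub]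
  obtain ⟨M, hM⟩ : ∃ M : SL(2, F), (M : Matrix (Fin 2) (Fin 2) F) = !![δ⁻¹, α / δ; 1, α'] :=
    ⟨⟨_, by
      rw [Matrix.det_fin_two_of, mul_one]
      field_simp
      rw [hδdef]⟩, rfl⟩
  have hMc : M.1 1 0 ≠ 0 := by rw [hM]; simp
  obtain ⟨x, hx⟩ : ∃ x : Fˣ, (x : F) = -δ⁻¹ :=
    ⟨Units.mk0 _ (neg_ne_zero.2 (inv_ne_zero hδ)), rfl⟩
  refine ⟨ψ M, x, hψr ▸ ⟨M, rfl⟩, hx, ?_⟩
  have hmap : Matrix.GeneralLinearGroup.map φ (ψ M) = ψ (Matrix.SpecialLinearGroup.map φ M) := by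
    rw [hfac M hMc, hfac (Matrix.SpecialLinearGroup.map φ M) (by
      show φ (M.1 1 0) ≠ 0
      exact (map_ne_zero φ).2 hMc), map_mul, map_mul, c.xg_mapHom, c.xg_mapHom, c.xg_mapHom]
    simp [map_div₀]
  have hng : c.ng r (x : F) = ψ (upSL (x : F) * loSL (-(x : F)⁻¹) * upSL (x : F)) := by
    rw [map_mul, map_mul, hup, hlo]
    rfl
  rw [hmap, hng, ← map_inv, ← map_mul]
  congr 1
  rw [mul_inv_eq_iff_eq_mul]
  refine Subtype.ext ?_
  show (M : Matrix (Fin 2) (Fin 2) F).map φ = _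
  rw [mul_val, mul_val, mul_val, upSL_val, loSL_val, hM, hx]
  ext i j
  fin_cases i <;> fin_cases j <;>
    simp [Matrix.mul_apply, Fin.sum_univ_two, map_inv₀, map_div₀, hφδ, hα, ← hα'] <;>
    field_simp <;> (try rw [hδdef]) <;> ring

end CertFull

namespace G2Tor

open G2Singer

variable {L : Type*} [Field L]

/-- A Frobenius quotient acting on the torus by the given matrix. -/
def Twists (φ : L →+* L) (A : M2) : Prop :=
  ∃ g ∈ chevG2.group L, ∀ P : Lˣ × Lˣ,
    Matrix.GeneralLinearGroup.map φ g * g⁻¹ * tau P *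
      (Matrix.GeneralLinearGroup.map φ g * g⁻¹)⁻¹ = tau (act A P)

theorem twists_id (φ : L →+* L) : Twists φ id2 :=
  ⟨1, one_mem _, fun P => by simp [act_id]⟩

theorem twists_conj (φ : L →+* L) {A B U : M2} (hU : U ∈ W12) (hA : Twists φ A)
    (h : mm2 U A = mm2 B U) : Twists φ B := by
  obtain ⟨V, hV, hUV, -⟩ := W12_inv U hU
  rw [W12, List.mem_map] at hU
  obtain ⟨w, hw, rfl⟩ := hU
  obtain ⟨g, hg, hact⟩ := hA
  refine ⟨certFullG2.nw L w * g, mul_mem
    (certFullG2.N_le_group (certFullG2.nw_mem_N (words_lt w hw))) hg, fun P => ?_⟩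
  rw [map_mul, certFullG2.nw_map]
  set n := certFullG2.nw L w
  set k := Matrix.GeneralLinearGroup.map φ g * g⁻¹
  have hP : P = act (mat w) (act V P) := by rw [act_comp, hUV, act_id]
  calc n * Matrix.GeneralLinearGroup.map φ g * (n * g)⁻¹ * tau P *
        (n * Matrix.GeneralLinearGroup.map φ g * (n * g)⁻¹)⁻¹
      = n * (k * (n⁻¹ * tau P * n) * k⁻¹) * n⁻¹ := by simp only [k]; group
    _ = n * (k * tau (act V P) * k⁻¹) * n⁻¹ := by
      congr 4
      conv_lhs => rw [hP, ← nw_tau hw]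
      group
      simp [n]
    _ = _ := by
      rw [hact, nw_tau hw, act_comp, h, ← act_comp, ← hP]

theorem tchar_coroot {r : ℕ} (hr : r < chevG2.nroots) (t : Lˣ) (s : ℕ) :
    certFullG2.tchar (fun i => t ^ certFullG2.T.coroot r i) s =
      t ^ (certFullG2.T.coroot r 0 * certFullG2.T.cartan 0 s +
        certFullG2.T.coroot r 1 * certFullG2.T.cartan 1 s) := by
  obtain ⟨hrk, -⟩ := torus_values
  rw [Cert.tchar, hrk, Finset.prod_range_succ, Finset.prod_range_succ, Finset.prod_range_zero,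
    one_mul, ← zpow_mul, ← zpow_mul, ← zpow_add]

/-- The matrix of the reflection in a root. -/
theorem ng_tau {r : ℕ} (hr : r < chevG2.nroots) {A : M2}
    (hA : ∀ s < 12, ex s - ((certFullG2.T.coroot r 0 * certFullG2.T.cartan 0 s +
        certFullG2.T.coroot r 1 * certFullG2.T.cartan 1 s) * (ex r).1,
        (certFullG2.T.coroot r 0 * certFullG2.T.cartan 0 s +
        certFullG2.T.coroot r 1 * certFullG2.T.cartan 1 s) * (ex r).2) =
      ((ex s).1 * A.1.1 + (ex s).2 * A.2.1, (ex s).1 * A.1.2 + (ex s).2 * A.2.2))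
    (x : Lˣ) (P : Lˣ × Lˣ) :
    certFullG2.ng r (x : L) * tau P * (certFullG2.ng r (x : L))⁻¹ = tau (act A P) := by
  rw [tau_apply, tau_apply, certFullG2.ng_conj_torus hr, Cert.torus_apply, Cert.torus_apply]
  refine dg_ext chevG2 L fun s hs => ?_
  rw [nroots_eq] at hs
  rw [show ∀ v w : ℕ → Lˣ, certFullG2.tchar (v * w) s =
      certFullG2.tchar v s * certFullG2.tchar w s from fun v w => by
      simp [Cert.tchar, mul_zpow, Finset.prod_mul_distrib],
    tchar_coroot hr, tchar_zab', tchar_zab', tchar_zab', ev2_act, ← hA s hs, ev2_sub,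
    inv_zpow, div_eq_mul_inv]
  congr 2
  simp only [ev2, mul_zpow, ← zpow_mul]
  congr 1 <;> congr 1 <;> ring

theorem refl_short (x : Lˣ) (P : Lˣ × Lˣ) :
    certFullG2.ng 8 (x : L) * tau P * (certFullG2.ng 8 (x : L))⁻¹ =
      tau (act ((-1, 0), (-1, 1)) P) :=
  ng_tau (by rw [nroots_eq]; omega) (by decide +kernel) x P

theorem refl_long (x : Lˣ) (P : Lˣ × Lˣ) :
    certFullG2.ng 10 (x : L) * tau P * (certFullG2.ng 10 (x : L))⁻¹ =
      tau (act ((1, 0), (1, -1)) P) :=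
  ng_tau (by rw [nroots_eq]; omega) (by decide +kernel) x P

theorem rootPair_comm : ∀ r ∈ [8, 3], ∀ s ∈ [10, 1], s ≠ r ∧ s ≠ chevG2.neg r ∧
    certFullG2.T.commTerms r s = [] := by decide +kernel

theorem neg_values : chevG2.neg 8 = 3 ∧ chevG2.neg 10 = 1 := by decide +kernel

/-- Root subgroups of orthogonal roots commute. -/
theorem pair_commute {g h : GL chevG2.Idx L}
    (hg : g ∈ chevG2.rootSubgroup L 8 ⊔ chevG2.rootSubgroup L (chevG2.neg 8))
    (hh : h ∈ chevG2.rootSubgroup L 10 ⊔ chevG2.rootSubgroup L (chevG2.neg 10)) :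
    g * h = h * g := by
  have hcomm : ∀ r ∈ [8, 3], ∀ s ∈ [10, 1], ∀ a ∈ chevG2.rootSubgroup L r,
      ∀ b ∈ chevG2.rootSubgroup L s, b * a = a * b := by
    intro r hr s hs a ha b hb
    obtain ⟨h1, h2, h3⟩ := rootPair_comm r hr s hs
    have hr' : r < chevG2.nroots := by
      rw [nroots_eq]; simp only [List.mem_cons, List.not_mem_nil, or_false] at hr; omega
    have hs' : s < chevG2.nroots := by
      rw [nroots_eq]; simp only [List.mem_cons, List.not_mem_nil, or_false] at hs; omega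
    have key : chevG2.rootSubgroup L r ≤
        Subgroup.centralizer (chevG2.rootSubgroup L s : Set (GL chevG2.Idx L)) := by
      refine (Subgroup.closure_le _).2 ?_
      rintro _ ⟨t, ht⟩
      rw [SetLike.mem_coe, Subgroup.mem_centralizer_iff]
      intro y hy
      refine Subgroup.closure_induction (p := fun y _ => y * _ = _ * y) ?_ ?_ ?_ ?_ hy
      · rintro _ ⟨u, hu⟩
        rw [certFullG2.eq_xg_iff.1 ht, certFullG2.eq_xg_iff.1 hu,
          certFullG2.xg_comm hr' hs' h1 h2 t u, h3]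
        simp
      · simp
      · exact fun a b _ _ e e' => by rw [mul_assoc, e', ← mul_assoc, e, mul_assoc]
      · exact fun a _ e => by rw [inv_mul_eq_iff_eq_mul, ← mul_assoc, e, mul_inv_cancel_right]
    exact Subgroup.mem_centralizer_iff.1 (key ha) b hb
  obtain ⟨e8, e10⟩ := neg_values
  rw [e8] at hg
  rw [e10] at hh
  have h1 : chevG2.rootSubgroup L 8 ⊔ chevG2.rootSubgroup L 3 ≤
      Subgroup.centralizer ((chevG2.rootSubgroup L 10 ⊔ chevG2.rootSubgroup L 1 :
        Subgroup (GL chevG2.Idx L)) : Set (GL chevG2.Idx L)) := by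
    rw [Subgroup.le_centralizer_iff]
    refine sup_le ?_ ?_ <;>
      (rw [Subgroup.le_centralizer_iff]; refine sup_le ?_ ?_ <;>
        (intro a ha; rw [Subgroup.mem_centralizer_iff]; intro b hb))
    · exact hcomm 8 (by simp) 10 (by simp) a ha b hb
    · exact hcomm 3 (by simp) 10 (by simp) a ha b hb
    · exact hcomm 8 (by simp) 1 (by simp) a ha b hb
    · exact hcomm 3 (by simp) 1 (by simp) a ha b hb
  exact (Subgroup.mem_centralizer_iff.1 (h1 hg) h hh).symm

theorem rootSup_le_group (r : ℕ) (hr : r < chevG2.nroots) :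
    chevG2.rootSubgroup L r ⊔ chevG2.rootSubgroup L (chevG2.neg r) ≤ chevG2.group L := by
  refine sup_le ?_ ?_ <;> refine (Subgroup.closure_le _).2 ?_ <;> rintro _ ⟨t, ht⟩ <;>
    rw [certFullG2.eq_xg_iff.1 ht]
  · exact certFullG2.xg_mem_group hr t
  · exact certFullG2.xg_mem_group (certFullG2.neg_lt hr) t

theorem twists_reflections [Finite L] (φ : L →+* L) {α : L} (hα : φ (φ α) = α)
    (hne : φ α ≠ α) :
    Twists φ ((-1, 0), (-1, 1)) ∧ Twists φ ((1, 0), (1, -1)) ∧ Twists φ ((-1, 0), (0, -1)) := by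
  have h8 : (8 : ℕ) < chevG2.nroots := by rw [nroots_eq]; omega
  have h10 : (10 : ℕ) < chevG2.nroots := by rw [nroots_eq]; omega
  obtain ⟨g8, x8, hm8, -, hk8⟩ := certFullG2.exists_root_twist h8 φ hα hne
  obtain ⟨g10, x10, hm10, -, hk10⟩ := certFullG2.exists_root_twist h10 φ hα hne
  refine ⟨⟨g8, rootSup_le_group 8 h8 hm8, fun P => by rw [hk8, refl_short]⟩,
    ⟨g10, rootSup_le_group 10 h10 hm10, fun P => by rw [hk10, refl_long]⟩,
    ⟨g8 * g10, mul_mem (rootSup_le_group 8 h8 hm8) (rootSup_le_group 10 h10 hm10), fun P => ?_⟩⟩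
  have hng10 : certFullG2.ng 10 (x10 : L) ∈
      chevG2.rootSubgroup L 10 ⊔ chevG2.rootSubgroup L (chevG2.neg 10) :=
    mul_mem (mul_mem (Subgroup.mem_sup_left (Subgroup.subset_closure ⟨_, certFullG2.xg_val _ _⟩))
      (Subgroup.mem_sup_right (Subgroup.subset_closure ⟨_, certFullG2.xg_val _ _⟩)))
      (Subgroup.mem_sup_left (Subgroup.subset_closure ⟨_, certFullG2.xg_val _ _⟩))
  set σ := Matrix.GeneralLinearGroup.map (n := chevG2.Idx) φ
  have hk : σ (g8 * g10) * (g8 * g10)⁻¹ =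
      certFullG2.ng 8 (x8 : L) * certFullG2.ng 10 (x10 : L) := by
    calc σ (g8 * g10) * (g8 * g10)⁻¹ = (σ g8 * g8⁻¹) * (g8 * (σ g10 * g10⁻¹) * g8⁻¹) := by
          rw [map_mul]; group
      _ = _ := by rw [hk8, hk10, pair_commute hm8 hng10]; group
  rw [hk]
  calc certFullG2.ng 8 (x8 : L) * certFullG2.ng 10 (x10 : L) * tau P *
        (certFullG2.ng 8 (x8 : L) * certFullG2.ng 10 (x10 : L))⁻¹
      = certFullG2.ng 8 (x8 : L) * (certFullG2.ng 10 (x10 : L) * tau P *
        (certFullG2.ng 10 (x10 : L))⁻¹) * (certFullG2.ng 8 (x8 : L))⁻¹ := by group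
    _ = tau (act ((-1, 0), (0, -1)) P) := by
      rw [refl_long, refl_short, act_comp]
      rfl

theorem twists_rotation [Finite L] (φ : L →+* L) {x : L} (h3 : φ (φ (φ x)) = x)
    (hne : φ x ≠ x) : Twists φ ((-1, 1), (-1, 0)) := by
  set x' := φ x with hx'
  set x'' := φ x' with hx''
  have hne1 : x' - x ≠ 0 := sub_ne_zero.2 hne
  have hne2 : x'' - x ≠ 0 := sub_ne_zero.2 fun e => hne (by
    have h := congrArg φ e
    rw [h3] at h
    exact h.symm)
  have hne3 : x'' - x' ≠ 0 := sub_ne_zero.2 fun e => hne (φ.injective e)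
  set δ := (x' - x) * (x'' - x) * (x'' - x') with hδ
  have hδ0 : δ ≠ 0 := mul_ne_zero (mul_ne_zero hne1 hne2) hne3
  have hφδ : φ δ = δ := by
    simp only [hδ, map_mul, map_sub, ← hx', ← hx'', h3]
    ring
  obtain ⟨M, hMval⟩ : ∃ M : SL(3, L), (M : Matrix (Fin 3) (Fin 3) L) =
      !![δ⁻¹, δ⁻¹, δ⁻¹; x, x', x''; x ^ 2, x' ^ 2, x'' ^ 2] := ⟨⟨_, by
    rw [Matrix.det_fin_three]
    calc _ = δ⁻¹ * δ := by rw [hδ]; simp; ring
      _ = 1 := inv_mul_cancel₀ hδ0⟩, rfl⟩
  obtain ⟨Q, hQval⟩ : ∃ Q : SL(3, L), (Q : Matrix (Fin 3) (Fin 3) L) =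
      !![0, 0, 1; 1, 0, 0; 0, 1, 0] := ⟨⟨_, by rw [Matrix.det_fin_three]; simp⟩, rfl⟩
  have hMφ : Matrix.SpecialLinearGroup.map φ M = M * Q := by
    refine Subtype.ext (Matrix.ext fun r s => ?_)
    fin_cases r <;> fin_cases s <;>
      simp [hMval, hQval, Matrix.mul_apply, Fin.sum_univ_three, map_inv₀, hφδ, ← hx', ← hx'', h3]
  refine ⟨slHom L M⁻¹, slHom_mem _, fun P => ?_⟩
  have hk : Matrix.GeneralLinearGroup.map φ (slHom L M⁻¹) * (slHom L M⁻¹)⁻¹ = slHom L Q⁻¹ := by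
    rw [← slHom_map, map_inv, hMφ, ← map_inv, ← map_mul]
    congr 1
    group
  rw [hk, tau_apply, tau_apply, ← slHom_dia, ← slHom_dia, ← map_inv, ← map_mul, ← map_mul]
  congr 1
  rw [inv_inv, mul_assoc, inv_mul_eq_iff_eq_mul]
  refine Subtype.ext (Matrix.ext fun r s => ?_)
  rw [Matrix.SpecialLinearGroup.coe_mul, Matrix.SpecialLinearGroup.coe_mul, hQval]
  show (Matrix.diagonal _ * _ : Matrix (Fin 3) (Fin 3) L) r s =
    (_ * Matrix.diagonal _ : Matrix (Fin 3) (Fin 3) L) r s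
  fin_cases r <;> fin_cases s <;>
    simp [act, ev2, Matrix.mul_apply, Fin.sum_univ_three, div_eq_mul_inv, mul_comm,
      Units.val_inv_eq_inv_val]

theorem six_facts :
    (∀ A ∈ W12, mm2 A A = id2 ∨ mm2 A (mm2 A A) = id2 ∨
      ((∀ s < 12, ((ex s).1 * ((ex s).1 * A.1.2 + (ex s).2 * A.2.2) -
          (ex s).2 * ((ex s).1 * A.1.1 + (ex s).2 * A.2.1)).natAbs ∈ [1, 3]) ∧
        ∀ B ∈ W12, B = id2 ∨
          (((B.1.1 - 1) * ((B.1.1 - 1) * A.1.2 + B.1.2 * A.2.2) -
            B.1.2 * ((B.1.1 - 1) * A.1.1 + B.1.2 * A.2.1)).natAbs ∈ [1, 2, 3, 4, 6]) ∨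
          ((B.2.1 * (B.2.1 * A.1.2 + (B.2.2 - 1) * A.2.2) -
            (B.2.2 - 1) * (B.2.1 * A.1.1 + (B.2.2 - 1) * A.2.1)).natAbs ∈ [1, 2, 3, 4, 6]))) ∧
    ∀ L ∈ words, mat L = id2 → ∀ s < 12, certFullG2.T.wlT L s = s := by decide +kernel

theorem mm2_assoc (A B C : M2) : mm2 (mm2 A B) C = mm2 A (mm2 B C) := by
  simp only [mm2]
  refine Prod.ext (Prod.ext ?_ ?_) (Prod.ext ?_ ?_) <;> ring

theorem pow_det_eq_one {G : Type*} [CommGroup G] {P : G × G} {x y : ℤ × ℤ}
    (hx : ev2 x P = 1) (hy : ev2 y P = 1) :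
    P ^ (x.1 * y.2 - x.2 * y.1).natAbs = 1 := by
  have h1 : P.1 ^ (x.1 * y.2 - x.2 * y.1) = 1 := by
    have e : (ev2 x P) ^ y.2 * (ev2 y P) ^ (-x.2) = P.1 ^ (x.1 * y.2 - x.2 * y.1) := by
      simp only [ev2, mul_zpow, ← zpow_mul]
      rw [mul_mul_mul_comm, ← zpow_add, ← zpow_add,
        show x.2 * y.2 + y.2 * -x.2 = 0 by ring, zpow_zero, mul_one]
      congr 1
      ring
    rw [← e, hx, hy, one_zpow, one_zpow, one_mul]
  have h2 : P.2 ^ (x.1 * y.2 - x.2 * y.1) = 1 := by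
    have e : (ev2 x P) ^ (-y.1) * (ev2 y P) ^ x.1 = P.2 ^ (x.1 * y.2 - x.2 * y.1) := by
      simp only [ev2, mul_zpow, ← zpow_mul]
      rw [mul_mul_mul_comm, ← zpow_add, ← zpow_add,
        show x.1 * -y.1 + y.1 * x.1 = 0 by ring, zpow_zero, one_mul]
      congr 1
      ring
    rw [← e, hx, hy, one_zpow, one_zpow, one_mul]
  exact Prod.ext (by rw [Prod.pow_fst, Prod.fst_one, pow_natAbs_eq_one, h1])
    (by rw [Prod.pow_snd, Prod.snd_one, pow_natAbs_eq_one, h2])

/-- An element of order six of the Weyl group twists. -/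
theorem twists_six {F : Type*} [Field F] [Fintype F] [Fintype L] (ι : F →+* L) {q : ℕ}
    (hF : Fintype.card F = q) (φ : L →+* L) (hφ : ∀ t, φ t = t ^ q)
    (hL : Fintype.card L = q ^ 6) (hq : 3 ≤ q) :
    ∃ A ∈ W12, mm2 A A ≠ id2 ∧ mm2 A (mm2 A A) ≠ id2 ∧ Twists φ A := by
  obtain ⟨r, hrp, hrd, hrn⟩ := Cfsg.Agent.Recog.Zsigmondy.exists_primitive (a := q) (n := 6)
    (by omega) (by norm_num) (fun h => by omega) (fun h => by omega)
  haveI : Fact r.Prime := ⟨hrp⟩
  have hr7 : 7 ≤ r := by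
    by_contra hlt
    have h5 : r ≤ 6 := by omega
    have hrq : ¬ r ∣ q := fun h => by
      have h1 : r ∣ q ^ 6 := dvd_pow h (by norm_num)
      have h2 : 1 ≤ q ^ 6 := Nat.one_le_pow _ _ (by omega)
      have h3 := Nat.dvd_sub h1 hrd
      rw [Nat.sub_sub_self h2] at h3
      exact hrp.ne_one (Nat.eq_one_of_dvd_one h3)
    have hf := ZMod.pow_card_sub_one_eq_one (p := r) (a := (q : ZMod r))
      (fun h => hrq ((ZMod.natCast_eq_zero_iff _ _).1 h))
    have hd : r ∣ q ^ (r - 1) - 1 := by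
      rw [← ZMod.natCast_eq_zero_iff, Nat.cast_sub (Nat.one_le_pow _ _ (by omega)), Nat.cast_pow,
        Nat.cast_one, hf, sub_self]
    have h2 := hrp.two_le
    exact hrn (r - 1) (by omega) (by omega) hd
  have hrW : ¬ r ∣ (chainWords chainG2).length := by
    rw [chain_eq, show words.length = 12 from rfl]
    intro h
    have hle := Nat.le_of_dvd (by norm_num) h
    interval_cases r <;> norm_num at *
  obtain ⟨g, hg, y, hy, z, W, hW, hgz, hzr, ⟨s₀, hs₀, hne⟩, htw⟩ :=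
    certFullG2.exists_start ι hF φ hφ (by norm_num) hL chainG2_ok chainG2_len chainG2_poly
      (show 6 ∈ [2, 6] by simp) (e := 1) (torusOrderG2 F) hrd
      (fun h => hrp.ne_one (Nat.eq_one_of_dvd_one h)) hrW
  obtain ⟨P, hP⟩ := exists_tau (certFullG2.torus_mem z)
  obtain ⟨M, hM, -, hact⟩ := exists_word (F := L) hW
  have hAm : mat M ∈ W12 := List.mem_map_of_mem hM
  set A := mat M
  have hAP : act A P = P ^ q := by
    refine tau_injective ?_
    rw [← hact, hP, certFullG2.nw_of_twisted hW htw, map_pow, map_pow, hP]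
  have hPr : P ^ r = 1 := by
    refine tau_injective ?_
    rw [map_pow, map_one, hP, ← map_pow, Cert.torus_apply, ← map_one (dg chevG2 L), dg_eq_iff]
    intro s hs
    rw [certFullG2.tchar_pow]
    exact hzr s hs
  have hP1 : P ≠ 1 := by
    intro h
    rw [h, map_one, Cert.torus_apply] at hP
    exact hne ((dg_eq_iff chevG2 L).1 (hP.symm.trans (map_one (dg chevG2 L)).symm) s₀ hs₀)
  have hord : orderOf P = r := orderOf_eq_prime hPr hP1
  have hsmall : ∀ n, P ^ n = 1 → 0 < n → n < 7 → False := fun n h h0 h7 => by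
    have := Nat.le_of_dvd h0 (hord ▸ orderOf_dvd_of_pow_eq_one h)
    omega
  have hk : ∀ k, 0 < k → k < 6 → P ^ q ^ k ≠ P := fun k h0 h6 h => by
    have h2 : P ^ (q ^ k - 1) = 1 := by
      refine mul_right_cancel (b := P) ?_
      rw [← pow_succ, Nat.sub_add_cancel (Nat.one_le_pow _ _ (by omega)), h, one_mul]
    exact hrn k h0 h6 (hord ▸ orderOf_dvd_of_pow_eq_one h2)
  have hA2 : mm2 A A ≠ id2 := fun h => by
    refine hk 2 (by norm_num) (by norm_num) ?_
    rw [pow_two q, pow_mul, ← hAP, ← map_pow, ← hAP, act_comp, h, act_id]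
  have hA3 : mm2 A (mm2 A A) ≠ id2 := fun h => by
    refine hk 3 (by norm_num) (by norm_num) ?_
    rw [show q ^ 3 = q * q * q by ring, pow_mul, pow_mul, ← hAP, ← map_pow, ← hAP, ← map_pow,
      ← map_pow, ← hAP, act_comp, act_comp]
    rw [mm2_assoc, h, act_id]
  obtain ⟨hreg, hstab⟩ := ((six_facts.1 A hAm).resolve_left hA2).resolve_left hA3
  have hshift : ∀ x : ℤ × ℤ, ev2 x P = 1 →
      P ^ (x.1 * (x.1 * A.1.2 + x.2 * A.2.2) - x.2 * (x.1 * A.1.1 + x.2 * A.2.1)).natAbs = 1 := by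
    intro x hx
    refine pow_det_eq_one (y := (x.1 * A.1.1 + x.2 * A.2.1, x.1 * A.1.2 + x.2 * A.2.2)) hx ?_
    rw [← ev2_act, hAP]
    simp only [ev2, Prod.pow_fst, Prod.pow_snd]
    rw [← zpow_natCast, ← zpow_natCast, ← zpow_mul, ← zpow_mul, mul_comm (q : ℤ),
      mul_comm (q : ℤ), zpow_mul, zpow_mul, ← mul_zpow,
      show P.1 ^ x.1 * P.2 ^ x.2 = 1 from hx, one_zpow]
  have hno : ∀ (x : ℤ × ℤ) (S : List ℕ), (∀ n ∈ S, 0 < n ∧ n < 7) →
      (x.1 * (x.1 * A.1.2 + x.2 * A.2.2) - x.2 * (x.1 * A.1.1 + x.2 * A.2.1)).natAbs ∈ S →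
      ev2 x P ≠ 1 := fun x S hS hx he =>
    hsmall _ (hshift x he) (hS _ hx).1 (hS _ hx).2
  refine ⟨A, hAm, hA2, hA3, g, hg, fun R => ?_⟩
  set σ := Matrix.GeneralLinearGroup.map (n := chevG2.Idx) φ
  set k := σ g * g⁻¹
  have hσy : σ (Matrix.GeneralLinearGroup.map ι y) = Matrix.GeneralLinearGroup.map ι y := by
    refine Units.ext (Matrix.ext fun i j => ?_)
    show φ (ι _) = ι _
    rw [hφ, ← map_pow, ← hF, FiniteField.pow_card]
  have hgP : g * Matrix.GeneralLinearGroup.map ι y * g⁻¹ = tau P := hgz.trans hP.symm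
  have hkP : k * tau P * k⁻¹ = tau (P ^ q) := by
    rw [← tau_map_pow φ hφ, ← hgP, map_mul, map_mul, map_inv, hσy]
    simp only [k, σ]
    group
  set n := certFullG2.nw L W
  have hd : n⁻¹ * k ∈ chevG2.diagonalSubgroup L := by
    refine certFullG2.mem_H_of_commute_of_pos (z := zab P.1 P.2) (fun s hs => ?_) ?_
      (mul_mem (inv_mem (certFullG2.N_le_group (certFullG2.nw_mem_N hW)))
        (mul_mem (certFullG2.group_map φ hg) (inv_mem hg))) ?_
    · rw [tchar_zab']
      rw [nroots_eq] at hs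
      exact hno _ [1, 3] (by simp) (hreg s hs)
    · intro L' hL' hkeep p hp
      obtain ⟨M', hM', hwl', hact'⟩ := exists_word (F := L) hL'
      have hBP : act (mat M') P = P := by
        refine tau_injective ((hact' P).symm.trans ?_)
        rw [tau_apply]
        exact certFullG2.nw_conj_torus hL' hkeep
      have hid : mat M' = id2 := by
        rcases hstab (mat M') (List.mem_map_of_mem hM') with h | h | h
        · exact h
        · refine absurd ?_ (hno ((mat M').1.1 - 1, (mat M').1.2) _ (by simp) h)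
          have e : ev2 ((mat M').1 - ((1, 0) : ℤ × ℤ)) P = 1 := by
            rw [ev2_sub, div_eq_one]
            exact (congrArg Prod.fst hBP).trans (by simp [ev2])
          rw [show ∀ u v : ℤ × ℤ, u - v = (u.1 - v.1, u.2 - v.2) from fun _ _ => rfl] at e
          simpa using e
        · refine absurd ?_ (hno ((mat M').2.1, (mat M').2.2 - 1) _ (by simp) h)
          have e : ev2 ((mat M').2 - ((0, 1) : ℤ × ℤ)) P = 1 := by
            rw [ev2_sub, div_eq_one]
            exact (congrArg Prod.snd hBP).trans (by simp [ev2])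
          rw [show ∀ u v : ℤ × ℤ, u - v = (u.1 - v.1, u.2 - v.2) from fun _ _ => rfl] at e
          simpa using e
      have hs := certFullG2.simple_lt hp
      rw [nroots_eq] at hs
      have h1 := six_facts.2 M' hM' hid _ hs
      rw [certFullG2.wlT_eq] at h1
      rw [hwl' _ (certFullG2.simple_lt hp), h1]
      exact certFullG2.pos_simple hp
    · show n⁻¹ * k * tau P = tau P * (n⁻¹ * k)
      have e : n * tau P * n⁻¹ = tau (P ^ q) := by rw [hact, hAP]
      calc n⁻¹ * k * tau P = n⁻¹ * (k * tau P * k⁻¹) * k := by group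
        _ = n⁻¹ * (n * tau P * n⁻¹) * k := by rw [hkP, e]
        _ = _ := by group
  calc k * tau R * k⁻¹ = n * ((n⁻¹ * k) * tau R * (n⁻¹ * k)⁻¹) * n⁻¹ := by group
    _ = tau (act A R) := by
      rw [certFullG2.H_commutative hd (tau_mem_H R), mul_inv_cancel_right, hact]

end G2Tor

end Cfsg.Agent.Lie.Chev
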