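import Cfsg.Agent.Lib.Lie.Chev.G2TwoBits
import Cfsg.Agent.Lib.Recog.PSU33Gens

/-! The derived subgroup of G₂(2) is PSU₃(3): both act on sixty-three points in the same way. -/

set_option autoImplicit false
set_option maxRecDepth 4000

namespace Cfsg.Agent.Lie.Chev.G2Two

open Cfsg Cfsg.Lie Matrix

/-- The `i`th involution's word. -/
def yw (i : ℕ) : List ℕ := involWords.getD i []

/-- A word in the two generators, spelt in roots. -/
def spell (l : List ℕ) : List ℕ := l.flatMap fun k => bif Nat.beq k 0 then wordA else wordB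

/-- The two generators permute the involutions like those of `SU₃(3)`. -/
def checkConj : Bool :=
  valid wordA && valid wordB && (List.finRange 63).all fun i =>
    valid (yw i) &&
    eqv (wordA ++ yw i ++ wordA.reverse) (yw (PSU33.mact PSU33.gA i)) &&
    eqv (wordB ++ yw i ++ wordB.reverse) (yw (PSU33.mact PSU33.gB i))

/-- The generators have order dividing seven. -/
def checkSeven : Bool :=
  eqv (wordA ++ wordA ++ wordA ++ wordA ++ wordA ++ wordA ++ wordA) [] &&
  eqv (wordB ++ wordB ++ wordB ++ wordB ++ wordB ++ wordB ++ wordB) []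

/-- The subgroup of the generators is normal with cyclic quotient. -/
def checkNormal : Bool :=
  (List.range 12).all fun r =>
    eqv ([r] ++ wordA ++ [r]) (spell (normWords.getD r ([], [])).1) &&
    eqv ([r] ++ wordB ++ [r]) (spell (normWords.getD r ([], [])).2) &&
    eqv [r] ((bif (cosetWords.getD r (false, [])).1 then [outerRoot] else []) ++
      spell (cosetWords.getD r (false, [])).2)

/-- The product of the three nilpotents, on bits. -/
def lineVal (v : ℕ) : ℕ :=
  lineWord.foldl (fun z i => force z fun z => Nat.xor (wapply (yw i) z) z) v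

/-- The product has rank one, and translates of its image span. -/
def checkSpan : Bool :=
  lineWord.all (fun i => Nat.blt i 63) && Nat.blt lineVec (2 ^ 14) &&
  (List.range 14).all (fun j => (Nat.beq (lineVal (2 ^ j)) 0 || Nat.beq (lineVal (2 ^ j)) lineVec) &&
    (spanComb.getD j []).all (fun k => (spanWords.getD k []).all fun i => Nat.blt i 63) &&
    Nat.beq ((spanComb.getD j []).foldr
      (fun k acc => Nat.xor (wapply ((spanWords.getD k []).flatMap yw) lineVec) acc) 0) (2 ^ j)) &&
  (List.range 14).any (fun j => Nat.beq (lineVal (2 ^ j)) lineVec) && !(Nat.beq lineVec 0)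

/-- The involutions are different. -/
def colsOf (i : Fin 63) : List ℕ := (List.range 14).map fun j => wapply (yw i) (2 ^ j)

theorem checkConj_ok : checkConj = true := by decide +kernel

theorem checkSeven_ok : checkSeven = true := by decide +kernel

theorem checkNormal_ok : checkNormal = true := by decide +kernel

theorem checkSpan_ok : checkSpan = true := by decide +kernel

theorem colsOf_nodup : ((List.finRange 63).map colsOf).Nodup := by decide +kernel

variable {F : Type*} [Field F]

theorem wd_mem_group {w : List ℕ} (hw : valid w = true) : wd F w ∈ chevG2.group F :=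
  Subgroup.list_prod_mem _ fun x hx => by
    obtain ⟨r, hr, rfl⟩ := List.mem_map.1 hx
    exact certFullG2.xg_mem_group
      (by rw [G2.node_values.2.2.2.1]; exact valid_spec hw r hr) 1

variable [CharP F 2]

theorem conj_spec (i : Fin 63) : valid (yw i) = true ∧
    wd F wordA * wd F (yw i) * (wd F wordA)⁻¹ = wd F (yw (PSU33.mact PSU33.gA i)) ∧
    wd F wordB * wd F (yw i) * (wd F wordB)⁻¹ = wd F (yw (PSU33.mact PSU33.gB i)) := by
  have h := checkConj_ok
  simp only [checkConj, Bool.and_eq_true, List.all_eq_true] at h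
  obtain ⟨⟨h1, h2⟩, h3⟩ := h.2 i (List.mem_finRange i)
  refine ⟨h1, ?_, ?_⟩
  · rw [← wd_reverse, ← wd_append, ← wd_append]; exact wd_eq_of_eqv h2
  · rw [← wd_reverse, ← wd_append, ← wd_append]; exact wd_eq_of_eqv h3

theorem invol_injective : Function.Injective fun i : Fin 63 => wd F (yw i) := fun i j e => by
  have h := colsOf_nodup
  rw [List.nodup_map_iff_inj_on (List.nodup_finRange 63)] at h
  exact h i (List.mem_finRange i) j (List.mem_finRange j)
    (eqv_cols_of_wd_eq (F := F) (conj_spec (F := F) i).1 (conj_spec (F := F) j).1 e)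

theorem flatMap_valid {l : List ℕ} (hl : ∀ i ∈ l, i < 63) : valid (l.flatMap yw) = true := by
  simp only [valid, List.all_eq_true, List.mem_flatMap, Nat.blt_eq]
  rintro r ⟨i, hi, hr⟩
  exact valid_spec (conj_spec (F := ZMod 2) ⟨i, hl i hi⟩).1 r hr

/-- A matrix commuting with all the involutions is the identity. -/
theorem eq_one_of_commute (hF : ∀ t : F, t = 0 ∨ t = 1) {g : GL chevG2.Idx F}
    (hg : ∀ i : Fin 63, g * wd F (yw i) = wd F (yw i) * g) : g = 1 := by
  have h := checkSpan_ok
  simp only [checkSpan, Bool.and_eq_true, List.all_eq_true, List.any_eq_true, List.mem_range,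
    Nat.blt_eq, Nat.beq_eq, Bool.or_eq_true, Bool.not_eq_true'] at h
  obtain ⟨⟨⟨⟨hlw, hv⟩, hall⟩, hany⟩, hne⟩ := h
  -- the rank one product as a linear map
  obtain ⟨L, hL, hLg⟩ : ∃ L : Matrix chevG2.Idx chevG2.Idx F,
      (∀ v < 2 ^ 14, L *ᵥ vec F v = vec F (lineVal v)) ∧
      L * (g : Matrix chevG2.Idx chevG2.Idx F) = (g : Matrix chevG2.Idx chevG2.Idx F) * L := by
    have key : ∀ l : List ℕ, (∀ i ∈ l, i < 63) → ∃ L : Matrix chevG2.Idx chevG2.Idx F,
        (∀ v < 2 ^ 14, (l.foldl (fun z i => force z fun z => Nat.xor (wapply (yw i) z) z) v) < 2 ^ 14 ∧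
          L *ᵥ vec F v = vec F (l.foldl (fun z i => force z fun z => Nat.xor (wapply (yw i) z) z) v)) ∧
        L * (g : Matrix chevG2.Idx chevG2.Idx F) = (g : Matrix chevG2.Idx chevG2.Idx F) * L := by
      intro l
      induction l with
      | nil => exact fun _ => ⟨1, fun v hv => ⟨hv, by rw [Matrix.one_mulVec]; rfl⟩, by simp⟩
      | cons i l ih =>
        intro hl
        obtain ⟨L, hL, hLg⟩ := ih fun j hj => hl j (by simp [hj])
        have hi : i < 63 := hl i (by simp)
        have hvw := (conj_spec (F := F) ⟨i, hi⟩).1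
        refine ⟨L * ((wd F (yw i) : Matrix chevG2.Idx chevG2.Idx F) + 1), fun v hv => ?_, ?_⟩
        · have hlt : Nat.xor (wapply (yw i) v) v < 2 ^ 14 :=
            Nat.xor_lt_two_pow (wapply_lt (valid_spec hvw) hv) hv
          rw [List.foldl_cons, force_eq, ← Matrix.mulVec_mulVec, Matrix.add_mulVec,
            wd_mulVec (valid_spec hvw) hv, Matrix.one_mulVec, ← vec_xor]
          exact hL _ hlt
        · have hc : (g : Matrix chevG2.Idx chevG2.Idx F) * wd F (yw i) =
              (wd F (yw i) : Matrix chevG2.Idx chevG2.Idx F) * g := by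
            rw [← Units.val_mul, ← Units.val_mul, hg ⟨i, hi⟩]
          rw [mul_assoc, show ((wd F (yw i) : Matrix chevG2.Idx chevG2.Idx F) + 1) * (g : Matrix chevG2.Idx chevG2.Idx F) =
            (g : Matrix chevG2.Idx chevG2.Idx F) * ((wd F (yw i) : Matrix chevG2.Idx chevG2.Idx F) + 1) by
              rw [add_mul, one_mul, mul_add, mul_one, hc], ← mul_assoc, hLg, mul_assoc]
    obtain ⟨L, hL, hLg⟩ := key lineWord hlw
    exact ⟨L, fun v hv => (hL v hv).2, hLg⟩
  have himg : ∀ z : chevG2.Idx → F, ∃ c : F, L *ᵥ z = c • vec F lineVec := by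
    intro z
    have hspan : L *ᵥ z ∈ Submodule.span F ({vec F lineVec} : Set (chevG2.Idx → F)) := by
      rw [show z = ∑ b, z b • (Pi.single b 1 : chevG2.Idx → F) by
        funext a; simp [Finset.sum_apply, Pi.single_apply], Matrix.mulVec_sum]
      refine Submodule.sum_mem _ fun b _ => ?_
      rw [Matrix.mulVec_smul, ← ix_enum b, ← vec_pow (enum_lt' b),
        hL _ (Nat.pow_lt_pow_right (by omega) (enum_lt' b))]
      refine Submodule.smul_mem _ _ ?_
      rcases (hall _ (enum_lt' b)).1.1 with e | e
      · rw [e, vec_zero]; exact zero_mem _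
      · rw [e]; exact Submodule.mem_span_singleton_self _
    obtain ⟨c, hc⟩ := Submodule.mem_span_singleton.1 hspan
    exact ⟨c, hc.symm⟩
  -- the image is fixed
  have hfix : (g : Matrix chevG2.Idx chevG2.Idx F) *ᵥ vec F lineVec = vec F lineVec := by
    obtain ⟨j, hj, hj'⟩ := hany
    have hpj : (2 : ℕ) ^ j < 2 ^ 14 := Nat.pow_lt_pow_right (by omega) hj
    obtain ⟨c, hc⟩ := himg ((g : Matrix chevG2.Idx chevG2.Idx F) *ᵥ vec F (2 ^ j))
    rw [Matrix.mulVec_mulVec, hLg, ← Matrix.mulVec_mulVec, hL _ hpj, hj'] at hc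
    rcases hF c with rfl | rfl
    · exfalso
      have h0 := congrArg (fun z => ((g⁻¹ : GL chevG2.Idx F) : Matrix chevG2.Idx chevG2.Idx F) *ᵥ z) hc
      simp only [zero_smul, Matrix.mulVec_zero, Matrix.mulVec_mulVec, ← Units.val_mul,
        inv_mul_cancel, Units.val_one, Matrix.one_mulVec] at h0
      have e0 : lineVec = 0 := vec_inj (F := F) hv (by norm_num) (by rw [h0, vec_zero])
      rw [e0] at hne
      exact Bool.noConfusion hne
    · rw [hc, one_smul]
  refine Units.ext (Matrix.ext_of_mulVec_single fun b => ?_)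
  rw [Units.val_one, Matrix.one_mulVec, ← ix_enum b, ← vec_pow (enum_lt' b)]
  obtain ⟨⟨-, hk⟩, hsum⟩ := hall _ (enum_lt' b)
  rw [← hsum]
  revert hk
  generalize spanComb.getD (enum chevG2 b) [] = l
  intro hk
  induction l with
  | nil => rw [List.foldr_nil, vec_zero, Matrix.mulVec_zero]
  | cons k l ih =>
    have hw := flatMap_valid (hk k (by simp))
    rw [List.foldr_cons, vec_xor, Matrix.mulVec_add, ih fun j hj => hk j (by simp [hj]),
      ← wd_mulVec (valid_spec hw) hv]
    congr 1
    rw [Matrix.mulVec_mulVec]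
    have hc : g * wd F ((spanWords.getD k []).flatMap yw) =
        wd F ((spanWords.getD k []).flatMap yw) * g := by
      have hlist : ∀ l : List ℕ, (∀ i ∈ l, i < 63) → g * wd F (l.flatMap yw) = wd F (l.flatMap yw) * g := by
        intro l
        induction l with
        | nil => intro _; simp [wd_nil]
        | cons i l ih =>
          intro hl
          rw [List.flatMap_cons, wd_append, ← mul_assoc, hg ⟨i, hl i (by simp)⟩, mul_assoc,
            ih fun j hj => hl j (by simp [hj]), mul_assoc]
      exact hlist _ (hk k (by simp))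
    rw [← Units.val_mul, hc, Units.val_mul, ← Matrix.mulVec_mulVec, hfix]

theorem spell_cons (k : ℕ) (l : List ℕ) : wd F (spell (k :: l)) =
    (if k = 0 then wd F wordA else wd F wordB) * wd F (spell l) := by
  rw [spell, List.flatMap_cons, wd_append, ← spell]
  cases k <;> rfl

/-- `G₂(2)′ ≅ PSU₃(3)`. -/
theorem derived_equiv {F K : Type*} [Field F] [Fintype F] [Field K] [Fintype K]
    (hF : Fintype.card F = 2) (hK : Fintype.card K = 9) :
    Nonempty (↥(commutator ↥(chevG2.group F)) ≃* Cfsg.PSU 3 K 3) := by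
  classical
  haveI : CharP F 2 := charP_of_card_eq_prime (hp := ⟨Nat.prime_two⟩) hF
  haveI : Fact (Fintype.card K = 9) := ⟨hK⟩
  have hF2 : ∀ t : F, t = 0 ∨ t = 1 := by
    intro t
    by_contra h
    push Not at h
    have hs : ({0, 1, t} : Finset F).card ≤ Fintype.card F := Finset.card_le_univ _
    rw [hF, Finset.card_insert_of_notMem (by simp [h.1.symm]),
      Finset.card_insert_of_notMem (by simp [h.2.symm]), Finset.card_singleton] at hs
    omega
  have hval : valid wordA = true ∧ valid wordB = true := by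
    have h := checkConj_ok
    simp only [checkConj, Bool.and_eq_true] at h
    exact h.1
  obtain ⟨A, hA⟩ : ∃ A : ↥(chevG2.group F), (A : GL chevG2.Idx F) = wd F wordA :=
    ⟨⟨_, wd_mem_group hval.1⟩, rfl⟩
  obtain ⟨B, hB⟩ : ∃ B : ↥(chevG2.group F), (B : GL chevG2.Idx F) = wd F wordB :=
    ⟨⟨_, wd_mem_group hval.2⟩, rfl⟩
  obtain ⟨H, hH⟩ : ∃ H : Subgroup ↥(chevG2.group F), H = Subgroup.closure {A, B} := ⟨_, rfl⟩
  have hAH : A ∈ H := hH ▸ Subgroup.subset_closure (by simp)
  have hBH : B ∈ H := hH ▸ Subgroup.subset_closure (by simp)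
  have hspell : ∀ l, ∃ g ∈ H, (g : GL chevG2.Idx F) = wd F (spell l) := by
    intro l
    induction l with
    | nil => exact ⟨1, one_mem _, rfl⟩
    | cons k l ih =>
      obtain ⟨g, hg, e⟩ := ih
      by_cases hk : k = 0
      · exact ⟨A * g, mul_mem hAH hg, by rw [spell_cons, if_pos hk, Subgroup.coe_mul, hA, e]⟩
      · exact ⟨B * g, mul_mem hBH hg, by rw [spell_cons, if_neg hk, Subgroup.coe_mul, hB, e]⟩
  obtain ⟨S, hS⟩ : ∃ S : Set ↥(chevG2.group F),
      S = {g : ↥(chevG2.group F) | ∃ r < 12, (g : GL chevG2.Idx F) = wd F [r]} := ⟨_, rfl⟩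
  have hSgen : Subgroup.closure S = ⊤ := by
    rw [eq_top_iff]
    intro g _
    have hg : (g : GL chevG2.Idx F) ∈ (Subgroup.closure S).map (chevG2.group F).subtype := by
      have h := (certFullG2.group_eq (F := F)).le g.2
      refine (Subgroup.closure_le _).2 ?_ h
      rintro x ⟨r, hr, t, rfl⟩
      rw [G2.node_values.2.2.2.1] at hr
      rcases hF2 t with rfl | rfl
      · rw [certFullG2.xg_zero]; exact one_mem _
      · have hw : wd F [r] = certFullG2.xg r 1 := by simp [wd]
        exact ⟨⟨_, certFullG2.xg_mem_group (by rw [G2.node_values.2.2.2.1]; exact hr) 1⟩,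
          Subgroup.subset_closure (hS.symm.le ⟨r, hr, hw.symm⟩), rfl⟩
    obtain ⟨g', hg', e⟩ := hg
    rwa [show g = g' from Subtype.ext e.symm]
  have hinv : ∀ g ∈ S, g⁻¹ = g := by
    intro g hg
    rw [hS] at hg
    obtain ⟨r, -, e⟩ := hg
    refine Subtype.ext ?_
    rw [Subgroup.coe_inv, e, ← wd_reverse]
    rfl
  have hnorm : ∀ g ∈ S, g * A * g⁻¹ ∈ H ∧ g * B * g⁻¹ ∈ H ∧
      ∃ r0 : ↥(chevG2.group F), (r0 : GL chevG2.Idx F) = wd F [outerRoot] ∧
        ∃ h ∈ H, g = h ∨ g = r0 * h := by
    intro g hg
    have hgi := hinv g hg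
    rw [hS] at hg
    obtain ⟨r, hr, e⟩ := hg
    have h := checkNormal_ok
    simp only [checkNormal, List.all_eq_true, List.mem_range, Bool.and_eq_true] at h
    obtain ⟨⟨h1, h2⟩, h3⟩ := h r hr
    refine ⟨?_, ?_, ?_⟩
    · obtain ⟨a, ha, ea⟩ := hspell (normWords.getD r ([], [])).1
      rw [hgi, show g * A * g = a from Subtype.ext (by
        rw [Subgroup.coe_mul, Subgroup.coe_mul, e, hA, ea, ← wd_eq_of_eqv h1, wd_append, wd_append])]
      exact ha
    · obtain ⟨a, ha, ea⟩ := hspell (normWords.getD r ([], [])).2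
      rw [hgi, show g * B * g = a from Subtype.ext (by
        rw [Subgroup.coe_mul, Subgroup.coe_mul, e, hB, ea, ← wd_eq_of_eqv h2, wd_append, wd_append])]
      exact ha
    · have hv0 : valid [outerRoot] = true := by decide
      refine ⟨⟨_, wd_mem_group hv0⟩, rfl, ?_⟩
      obtain ⟨a, ha, ea⟩ := hspell (cosetWords.getD r (false, [])).2
      refine ⟨a, ha, ?_⟩
      have h3' := wd_eq_of_eqv (F := F) h3
      rw [wd_append] at h3'
      cases hb : (cosetWords.getD r (false, [])).1 with
      | true =>
        rw [hb, cond_true, ← ea] at h3'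
        exact Or.inr (Subtype.ext (e.trans h3'))
      | false =>
        rw [hb, cond_false, wd_nil, one_mul, ← ea] at h3'
        exact Or.inl (Subtype.ext (e.trans h3'))
  haveI hHn : H.Normal := by
    rw [← Subgroup.normalizer_eq_top_iff, eq_top_iff, ← hSgen, Subgroup.closure_le]
    intro g hg
    obtain ⟨hgA, hgB, -⟩ := hnorm g hg
    have hle : H ≤ H.comap (MulAut.conj g).toMonoidHom := by
      conv_lhs => rw [hH]
      rw [Subgroup.closure_le]
      rintro x (rfl | rfl)
      · simpa using hgA
      · simpa using hgB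
    rw [SetLike.mem_coe, Subgroup.mem_normalizer_iff]
    intro x
    refine ⟨fun hx => by simpa using hle hx, fun hx => ?_⟩
    have h : g * (g * x * g⁻¹) * g⁻¹ ∈ H := by simpa using hle hx
    have hg2 : g * g = 1 := by
      conv_lhs => arg 1; rw [← hinv g hg]
      exact inv_mul_cancel g
    rw [show g * (g * x * g⁻¹) * g⁻¹ = (g * g) * x * (g * g)⁻¹ by group, hg2] at h
    simpa using h
  have hderived : commutator ↥(chevG2.group F) = H := by
    refine le_antisymm ?_ ?_
    · obtain ⟨r0, hr0⟩ : ∃ r0 : ↥(chevG2.group F), (r0 : GL chevG2.Idx F) = wd F [outerRoot] :=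
        ⟨⟨_, wd_mem_group (w := [outerRoot]) (by decide)⟩, rfl⟩
      have hcyc : ∀ q : ↥(chevG2.group F) ⧸ H,
          q ∈ Subgroup.zpowers (QuotientGroup.mk' H r0) := by
        intro q
        obtain ⟨g, rfl⟩ := QuotientGroup.mk'_surjective H q
        have hle : Subgroup.closure S ≤
            (Subgroup.zpowers (QuotientGroup.mk' H r0)).comap (QuotientGroup.mk' H) := by
          rw [Subgroup.closure_le]
          intro g hg
          obtain ⟨-, -, r1, hr1, h, hh, e | e⟩ := hnorm g hg
          · rw [SetLike.mem_coe, Subgroup.mem_comap, QuotientGroup.mk'_apply H g,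
              (QuotientGroup.eq_one_iff g).2 (e ▸ hh)]
            exact one_mem _
          · rw [SetLike.mem_coe, Subgroup.mem_comap, e, map_mul,
              show r1 = r0 from Subtype.ext (hr1.trans hr0.symm),
              QuotientGroup.mk'_apply H h, (QuotientGroup.eq_one_iff h).2 hh, mul_one]
            exact Subgroup.mem_zpowers _
        exact hle (hSgen ▸ Subgroup.mem_top g)
      rw [commutator_def, Subgroup.commutator_le]
      intro x _ y _
      rw [← QuotientGroup.eq_one_iff, ← QuotientGroup.mk'_apply, map_commutatorElement,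
        commutatorElement_eq_one_iff_commute]
      obtain ⟨i, hi⟩ := Subgroup.mem_zpowers_iff.1 (hcyc (QuotientGroup.mk' H x))
      obtain ⟨j, hj⟩ := Subgroup.mem_zpowers_iff.1 (hcyc (QuotientGroup.mk' H y))
      rw [← hi, ← hj]
      exact (Commute.refl _).zpow_zpow i j
    · have hsq : ∀ g : Abelianization ↥(chevG2.group F), g ^ 2 = 1 := by
        intro q
        obtain ⟨g, rfl⟩ : ∃ g, Abelianization.of g = q := QuotientGroup.mk'_surjective _ q
        have hle : Subgroup.closure S ≤ ((powMonoidHom 2).comp Abelianization.of).ker := by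
          rw [Subgroup.closure_le]
          intro g hg
          have hg2 : g * g = 1 := by
            conv_lhs => arg 1; rw [← hinv g hg]
            exact inv_mul_cancel g
          rw [SetLike.mem_coe, MonoidHom.mem_ker, MonoidHom.comp_apply, powMonoidHom_apply,
            ← map_pow, sq, hg2, map_one]
        exact hle (hSgen ▸ Subgroup.mem_top g)
      have h7 : ∀ g : ↥(chevG2.group F), g ^ 7 = 1 → g ∈ commutator ↥(chevG2.group F) := by
        intro g hg
        rw [← Abelianization.ker_of, MonoidHom.mem_ker]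
        have h1 := hsq (Abelianization.of g)
        have h2 : (Abelianization.of g) ^ 7 = 1 := by rw [← map_pow, hg, map_one]
        rwa [show 7 = 2 * 3 + 1 from rfl, pow_succ, pow_mul, h1, one_pow, one_mul] at h2
      have h7s := checkSeven_ok
      simp only [checkSeven, Bool.and_eq_true] at h7s
      rw [hH, Subgroup.closure_le]
      rintro x (rfl | rfl)
      · refine h7 _ (Subtype.ext ?_)
        have := wd_eq_of_eqv (F := F) h7s.1
        simp only [wd_append, wd_nil, ← hA] at this
        rw [Subgroup.coe_pow, Subgroup.coe_one]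
        simpa [pow_succ, mul_assoc] using this
      · refine h7 _ (Subtype.ext ?_)
        have := wd_eq_of_eqv (F := F) h7s.2
        simp only [wd_append, wd_nil, ← hB] at this
        rw [Subgroup.coe_pow, Subgroup.coe_one]
        simpa [pow_succ, mul_assoc] using this
  obtain ⟨a, b, ha, hb, hab⟩ := PSU33.exists_coded_gens (F := K)
  let u : Fin 2 → ↥(chevG2.group F) × SU 3 K 3 := fun s => (![A, B] s, ![a, b] s)
  set Γ := Subgroup.closure (Set.range u) with hΓ
  have hint : ∀ p ∈ Γ, ∀ i : Fin 63, (p.1 : GL chevG2.Idx F) * wd F (yw i) * (p.1 : GL chevG2.Idx F)⁻¹ =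
      wd F (yw ((p.2 • i : Fin 63) : ℕ)) := by
    intro p hp
    induction hp using Subgroup.closure_induction with
    | mem x hx =>
      obtain ⟨s, rfl⟩ := hx
      intro i
      fin_cases s
      · show (A : GL chevG2.Idx F) * _ * (A : GL chevG2.Idx F)⁻¹ = wd F (yw ((a • i : Fin 63) : ℕ))
        rw [hA, (conj_spec i).2.1, PSU33.smul_def, ha]
      · show (B : GL chevG2.Idx F) * _ * (B : GL chevG2.Idx F)⁻¹ = wd F (yw ((b • i : Fin 63) : ℕ))
        rw [hB, (conj_spec i).2.2, PSU33.smul_def, hb]
    | one => intro i; simp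
    | mul x z _ _ hx hz =>
      intro i
      rw [Prod.fst_mul, Prod.snd_mul, mul_smul, Subgroup.coe_mul, ← hx, ← hz]
      group
    | inv x _ hx =>
      intro i
      have h := hx (x.2⁻¹ • i)
      rw [smul_inv_smul] at h
      rw [Prod.fst_inv, Prod.snd_inv, Subgroup.coe_inv, ← h]
      group
  let f1 : Γ →* ↥(chevG2.group F) := (MonoidHom.fst _ _).comp Γ.subtype
  let f2 : Γ →* SU 3 K 3 := (MonoidHom.snd _ _).comp Γ.subtype
  have i1 : Function.Injective f1 := (injective_iff_map_eq_one f1).2 fun p hp => by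
    have h2 : (p : ↥(chevG2.group F) × SU 3 K 3).2 = 1 := PSU33.fix_all fun i => by
      have h := hint p.1 p.2 i
      rw [show (p : ↥(chevG2.group F) × SU 3 K 3).1 = 1 from hp] at h
      simp only [Subgroup.coe_one, one_mul, inv_one, mul_one] at h
      exact (invol_injective h).symm
    exact Subtype.ext (Prod.ext hp h2)
  have i2 : Function.Injective f2 := (injective_iff_map_eq_one f2).2 fun p hp => by
    have h1 : (p : ↥(chevG2.group F) × SU 3 K 3).1 = 1 := Subtype.ext <| eq_one_of_commute hF2 fun i => by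
      have h := hint p.1 p.2 i
      rw [show (p : ↥(chevG2.group F) × SU 3 K 3).2 = 1 from hp, one_smul, mul_inv_eq_iff_eq_mul] at h
      exact h
    exact Subtype.ext (Prod.ext h1 hp)
  have r1 : f1.range = commutator ↥(chevG2.group F) := by
    rw [hderived, hH, MonoidHom.range_comp, Subgroup.range_subtype, hΓ, MonoidHom.map_closure,
      ← Set.range_comp]
    congr 1
    ext x
    constructor
    · rintro ⟨s, rfl⟩
      fin_cases s
      · exact Or.inl rfl
      · exact Or.inr rfl
    · rintro (rfl | rfl)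
      · exact ⟨0, rfl⟩
      · exact ⟨1, rfl⟩
  have r2 : Function.Surjective f2 := by
    rw [← MonoidHom.range_eq_top, MonoidHom.range_comp, Subgroup.range_subtype, hΓ,
      MonoidHom.map_closure, ← top_le_iff, ← hab]
    refine Subgroup.closure_mono ?_
    rintro x (rfl | rfl)
    · exact ⟨u 0, ⟨0, rfl⟩, rfl⟩
    · exact ⟨u 1, ⟨1, rfl⟩, rfl⟩
  have e : ↥(commutator ↥(chevG2.group F)) ≃* SU 3 K 3 := (MulEquiv.subgroupCongr r1).symm.trans
    ((MonoidHom.ofInjective i1).symm.trans (MulEquiv.ofBijective f2 ⟨i2, r2⟩))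
  have hz : Subgroup.center (SU 3 K 3) = ⊥ := Cfsg.Agent.SpectrumPSU3Three.center_eq_bot hK
  exact ⟨e.trans ((QuotientGroup.quotientMulEquivOfEq hz).trans QuotientGroup.quotientBot).symm⟩

end Cfsg.Agent.Lie.Chev.G2Two
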