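/- Machine-written certificates for G₂(2). -/
import Cfsg.Agent.Lib.Lie.Chev.CertsFull

set_option autoImplicit false

namespace Cfsg.Agent.Lie.Chev.G2Two

/-- The root elements modulo two, without the diagonal. -/
def rootCols : List (List (ℕ × ℕ)) :=
  [[(1, 4), (8, 8), (10, 16), (11, 32), (12, 128), (13, 5)],
   [(0, 8), (1, 8), (7, 4), (9, 16), (11, 64), (12, 11), (13, 256)],
   [(0, 16), (5, 4), (6, 8), (9, 4), (10, 8), (11, 18), (12, 548), (13, 1096)],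
   [(0, 32), (1, 32), (4, 4), (6, 4), (8, 84), (9, 128), (10, 35), (11, 128), (13, 2688)],
   [(1, 64), (4, 8), (5, 8), (7, 56), (9, 65), (10, 256), (11, 256), (12, 3328)],
   [(0, 128), (3, 4), (6, 32), (8, 130), (10, 512), (13, 4096)],
   [(0, 256), (2, 8), (5, 64), (7, 258), (9, 1024), (12, 8192)],
   [(1, 512), (3, 176), (4, 128), (5, 128), (6, 513), (8, 7168), (10, 4096), (11, 4096)],
   [(0, 1024), (1, 1024), (2, 336), (4, 256), (5, 1027), (6, 256), (7, 10752), (9, 8192), (11, 8192)],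
   [(0, 2048), (2, 4640), (3, 9280), (4, 2050), (5, 4096), (6, 8192), (9, 4096), (10, 8192)],
   [(0, 4096), (1, 4096), (2, 128), (3, 4099), (4, 512), (6, 2048), (8, 8192)],
   [(1, 8192), (2, 8193), (3, 256), (4, 1024), (5, 2048), (7, 4096)]]

/-- The sixty-three long root involutions. -/
def involWords : List (List ℕ) :=
  [[8, 7, 5, 6, 0, 6, 5, 7, 8],
   [8, 0, 8],
   [4, 9, 0, 9, 4],
   [3, 9, 8, 0, 8, 9, 3],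
   [3, 9, 6, 0, 6, 9, 3],
   [0, 9, 0, 9, 0],
   [8, 7, 6, 0, 6, 7, 8],
   [10, 8, 0, 8, 10],
   [1, 10, 8, 0, 8, 10, 1],
   [5, 6, 0, 6, 5],
   [8, 6, 0, 6, 8],
   [9, 8, 6, 0, 6, 8, 9],
   [1, 10, 6, 0, 6, 10, 1],
   [5, 11, 6, 0, 6, 11, 5],
   [6, 10, 0, 10, 6],
   [11, 0, 11],
   [11, 10, 0, 10, 11],
   [9, 8, 0, 8, 9],
   [1, 7, 8, 0, 8, 7, 1],
   [7, 6, 0, 6, 7],
   [9, 5, 6, 0, 6, 5, 9],
   [2, 10, 6, 0, 6, 10, 2],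
   [9, 7, 5, 6, 0, 6, 5, 7, 9],
   [7, 3, 8, 0, 8, 3, 7],
   [0, 11, 0, 11, 0],
   [5, 8, 6, 0, 6, 8, 5],
   [2, 9, 0, 9, 2],
   [11, 7, 5, 6, 0, 6, 5, 7, 11],
   [9, 7, 6, 0, 6, 7, 9],
   [2, 11, 0, 11, 2],
   [0, 11, 8, 0, 8, 11, 0],
   [6, 0, 6],
   [10, 6, 0, 6, 10],
   [2, 4, 9, 0, 9, 4, 2],
   [4, 10, 6, 0, 6, 10, 4],
   [10, 8, 6, 0, 6, 8, 10],
   [3, 11, 6, 0, 6, 11, 3],
   [5, 3, 8, 0, 8, 3, 5],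
   [1, 10, 0, 10, 1],
   [3, 8, 0, 8, 3],
   [11, 7, 6, 0, 6, 7, 11],
   [7, 8, 0, 8, 7],
   [2, 9, 8, 0, 8, 9, 2],
   [1, 9, 0, 9, 1],
   [6, 0, 9, 0, 9, 0, 6],
   [11, 8, 0, 8, 11],
   [10, 0, 10],
   [8, 9, 0, 9, 8],
   [10, 5, 6, 0, 6, 5, 10],
   [3, 11, 0, 11, 3],
   [7, 5, 6, 0, 6, 5, 7],
   [5, 8, 0, 8, 5],
   [11, 5, 6, 0, 6, 5, 11],
   [9, 0, 9],
   [2, 9, 6, 0, 6, 9, 2],
   [0, 11, 9, 0, 9, 11, 0],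
   [9, 6, 0, 6, 9],
   [2, 10, 8, 0, 8, 10, 2],
   [0, 11, 6, 0, 6, 11, 0],
   [11, 6, 0, 6, 11],
   [0],
   [11, 9, 0, 9, 11],
   [0, 9, 6, 0, 6, 9, 0]]

/-- The first generator. -/
def wordA : List ℕ :=
  [9, 4, 0]

/-- The second generator. -/
def wordB : List ℕ :=
  [7, 8, 1]

/-- Conjugates of the generators by the root elements, as words in the generators. -/
def normWords : List (List ℕ × List ℕ) :=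
  [([0, 0, 0, 1, 0, 1, 1, 1, 0], [0, 1, 1, 1, 1, 1, 0, 0, 1, 0, 0, 1, 0]),
   ([1, 1, 1, 0, 1, 1, 0, 0, 1, 1], [0, 1, 1, 0, 1, 1, 0, 0, 0, 0, 1, 0, 1, 0]),
   ([0, 1, 1, 1, 0, 1, 0, 1, 0, 0, 1, 1, 0], [0, 1, 1, 0, 1, 1, 1, 0, 0, 0, 1, 1]),
   ([0, 0, 1, 0, 1, 1, 0, 1, 1, 1, 0, 0], [1, 0, 1, 1, 1, 1, 0, 1, 0, 0, 0, 0]),
   ([0, 0, 0, 0, 1, 0, 1, 1, 1, 0, 0], [1, 0, 0, 0, 1, 1, 0, 1, 1, 1, 0, 1]),
   ([0, 0, 1, 0, 0, 0, 0, 1, 0, 0, 1, 1, 0, 0], [0, 0, 0, 1, 0, 1, 0, 1]),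
   ([1, 0, 0, 1, 0, 0, 1, 0, 0, 0], [1, 0, 0, 0, 1, 1, 1, 1, 0, 1, 0, 1]),
   ([0, 1, 1, 0, 1, 1, 0, 1, 0, 1, 1, 0], [1, 1, 1, 1, 1, 1]),
   ([1, 0, 1, 1, 0, 0], [1, 1, 1, 1, 0, 0, 0, 0, 0, 1, 0]),
   ([0, 0, 0, 0, 0, 0], [0, 0, 0, 0, 1, 0]),
   ([0, 0, 1, 1, 0, 1, 0, 0, 1, 0, 0], [1, 0, 1, 0, 1, 1, 0, 1, 1, 1, 0]),
   ([0, 1, 0, 0, 1, 1], [0, 1, 0, 1, 1, 0, 0, 0, 0, 1, 1, 0, 1])]

/-- The root elements modulo the subgroup of the generators. -/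
def cosetWords : List (Bool × List ℕ) :=
  [(false, [0, 1, 0, 1, 0, 1, 0, 1]),
   (false, [1, 0, 1, 0, 1, 1, 0, 0, 1, 1, 0, 1, 0]),
   (true, []),
   (true, [0, 0, 1, 0, 0, 0, 0, 1, 0, 0]),
   (true, [0, 1, 1, 0, 0, 0, 0, 1, 0, 1, 0]),
   (false, [1, 0, 1, 0, 1, 1, 1, 0, 1, 1, 0, 1, 1, 0]),
   (false, [0, 1, 1, 1, 0, 0, 0, 1, 0, 1, 0, 1, 1]),
   (true, [0, 0, 1, 0, 0, 0, 0, 0, 1, 1, 1, 1, 1]),
   (true, [0, 0, 0, 0, 1, 0, 0, 1, 0, 1, 0, 0]),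
   (true, [0, 0, 1, 1, 0, 0, 0, 0, 0, 1, 0, 0, 1]),
   (false, [1, 1, 0, 1, 1, 0, 1, 0, 1, 0, 0, 0]),
   (false, [1, 1, 1, 0, 1, 1, 1, 1, 0, 1])]

/-- A root element outside the subgroup. -/
def outerRoot : ℕ :=
  2

/-- A product of three nilpotents of rank one. -/
def lineWord : List ℕ :=
  [0, 1, 2]

/-- The image of that product. -/
def lineVec : ℕ :=
  12015

/-- Translates of the line which span the module. -/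
def spanWords : List (List ℕ) :=
  [[],
   [7],
   [12],
   [13],
   [14],
   [17],
   [18],
   [22],
   [23],
   [24],
   [26],
   [27],
   [28],
   [34]]

/-- The unit vectors in terms of the translates. -/
def spanComb : List (List ℕ) :=
  [[0, 1, 4, 7, 8, 9, 10, 11, 12],
   [0, 3, 5, 6, 8, 11, 12, 13],
   [12],
   [6, 9, 10, 12],
   [1, 2, 3, 4, 5, 8, 9, 10, 12, 13],
   [1, 2, 4, 5, 6, 7, 8, 13],
   [2, 4, 6, 7, 11],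
   [7, 12],
   [0, 3, 5, 6, 7, 8, 9, 10, 11, 13],
   [3, 6, 8, 10, 13],
   [0, 1, 5, 8, 12],
   [0, 6, 7, 9, 13],
   [1, 3, 4, 5, 7, 12],
   [0, 1, 4, 5, 7, 8, 9, 10, 11]]

end Cfsg.Agent.Lie.Chev.G2Two
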