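import Cfsg.Agent.Lib.Lie.Chev.TwistG2
import Cfsg.Agent.Lib.Lie.Chev.G2TwoData

/-! Words of root elements of G₂ in characteristic two, evaluated on vectors given by bits. -/

set_option autoImplicit false
set_option maxRecDepth 4000

namespace Cfsg.Agent.Lie.Chev.G2Two

open Cfsg.Lie Matrix

/-- Evaluate a number before passing it on. -/
def force {α : Type} (v : ℕ) (k : ℕ → α) : α :=
  match v with
  | 0 => k 0
  | n + 1 => k (n + 1)

theorem force_eq {α : Type} (v : ℕ) (k : ℕ → α) : force v k = k v := by cases v <;> rfl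

/-- Apply the root element of a root to a vector given by bits. -/
def bapply (r v : ℕ) : ℕ :=
  force v fun v =>
    (rootCols.getD r []).foldr (fun p acc => bif Nat.testBit v p.1 then Nat.xor acc p.2 else acc) v

/-- A word applied to a vector. -/
def wapply (w : List ℕ) (v : ℕ) : ℕ := w.foldr bapply v

/-- The bits of the odd coefficients. -/
def termBits : List Term → ℕ
  | [] => 0
  | p :: L => bif Nat.beq (p.coef.natAbs % 2) 1 then Nat.xor (2 ^ p.row) (termBits L) else termBits L

/-- The rows of a root element agree with the tables. -/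
def checkRoot (r : ℕ) : Bool :=
  (List.range 14).all fun j => Nat.beq (termBits (certFullG2.T.xCol r 0 0 0 1 j)) (bapply r (2 ^ j))

theorem checkRoot_ok : ((List.range 12).all fun r =>
    checkRoot r && (rootCols.getD r []).all fun p => Nat.blt p.2 (2 ^ 14)) = true := by
  decide +kernel

variable {F : Type*} [Field F] [CharP F 2]

/-- The value of a bit. -/
def bitVal (F : Type*) [Field F] (v i : ℕ) : F := if v.testBit i then 1 else 0

theorem bitVal_xor (v w i : ℕ) : bitVal F (Nat.xor v w) i = bitVal F v i + bitVal F w i := by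
  simp only [bitVal, show Nat.xor v w = v ^^^ w from rfl, Nat.testBit_xor]
  cases v.testBit i <;> cases w.testBit i <;> simp [CharTwo.add_self_eq_zero]

/-- A vector given by bits. -/
def vec (F : Type*) [Field F] (v : ℕ) : chevG2.Idx → F := fun a => bitVal F v (enum chevG2 a)

theorem vec_xor (v w : ℕ) : vec F (Nat.xor v w) = vec F v + vec F w :=
  funext fun _ => bitVal_xor _ _ _

theorem vec_zero : vec F 0 = 0 := by funext a; simp [vec, bitVal]

theorem enum_lt' (a : chevG2.Idx) : enum chevG2 a < 14 := by
  have h := enum_lt chevG2 a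
  rw [G2.node_values.2.2.1, G2.node_values.2.2.2.1] at h
  exact h

/-- The coordinate of a number. -/
def ix (k : ℕ) : chevG2.Idx :=
  if h : k < chevG2.rank then Sum.inl ⟨k, h⟩
  else Sum.inr ⟨(k - chevG2.rank) % chevG2.nroots,
    Nat.mod_lt _ (by rw [G2.node_values.2.2.2.1]; omega)⟩

theorem enum_ix {k : ℕ} (hk : k < 14) : enum chevG2 (ix k) = k := by
  have hr : chevG2.rank = 2 := G2.node_values.2.2.1
  have hn : chevG2.nroots = 12 := G2.node_values.2.2.2.1
  by_cases h : k < chevG2.rank
  · rw [ix, dif_pos h]; rfl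
  · rw [ix, dif_neg h]
    show chevG2.rank + (k - chevG2.rank) % chevG2.nroots = k
    rw [Nat.mod_eq_of_lt (by omega)]
    omega

theorem ix_enum (a : chevG2.Idx) : ix (enum chevG2 a) = a :=
  enum_injective chevG2 (enum_ix (enum_lt' a))

theorem vec_pow {k : ℕ} (hk : k < 14) : vec F (2 ^ k) = Pi.single (ix k) 1 := by
  funext b
  by_cases hb : b = ix k
  · subst hb
    rw [Pi.single_eq_same, vec, bitVal, enum_ix hk, Nat.testBit_two_pow_self, if_pos rfl]
  · rw [Pi.single_eq_of_ne hb, vec, bitVal, Nat.testBit_two_pow_of_ne, if_neg (by simp)]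
    intro e
    exact hb (by rw [e, ix_enum])

theorem vec_inj {v w : ℕ} (hv : v < 2 ^ 14) (hw : w < 2 ^ 14) (e : vec F v = vec F w) : v = w := by
  refine Nat.eq_of_testBit_eq fun i => ?_
  by_cases hi : i < 14
  · have h := congrFun e (ix i)
    simp only [vec, bitVal, enum_ix hi] at h
    cases hvi : v.testBit i <;> cases hwi : w.testBit i <;> simp [hvi, hwi] at h ⊢
  · rw [Nat.testBit_lt_two_pow (lt_of_lt_of_le hv (Nat.pow_le_pow_right (by omega) (by omega))),
      Nat.testBit_lt_two_pow (lt_of_lt_of_le hw (Nat.pow_le_pow_right (by omega) (by omega)))]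

theorem ev_bits (L : List Term) : ev (enum chevG2) (1 : F) 1 1 L = vec F (termBits L) := by
  induction L with
  | nil => funext a; rw [ev_nil]; simp [termBits, vec, bitVal]
  | cons p L ih =>
    funext a
    rw [ev_cons, Pi.add_apply, ih, termBits]
    have hv : p.val (1 : F) 1 1 = if p.coef.natAbs % 2 = 1 then 1 else 0 := by
      simp only [Term.val, one_pow, mul_one]
      rcases Int.emod_two_eq_zero_or_one p.coef with h | h
      · have h2 : p.coef.natAbs % 2 = 0 := by omega
        rw [if_neg (by omega), CharP.intCast_eq_zero_iff F 2]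
        omega
      · have h2 : p.coef.natAbs % 2 = 1 := by omega
        rw [if_pos h2, ← sub_eq_zero, ← Int.cast_one, ← Int.cast_sub,
          CharP.intCast_eq_zero_iff F 2]
        omega
    have h2 : bitVal F (2 ^ p.row) (enum chevG2 a) = if enum chevG2 a = p.row then 1 else 0 := by
      rw [bitVal, Nat.testBit_two_pow]
      simp [eq_comm]
    by_cases hodd : p.coef.natAbs % 2 = 1
    · rw [show Nat.beq (p.coef.natAbs % 2) 1 = true by rw [Nat.beq_eq]; exact hodd, cond_true, vec_xor,
        Pi.add_apply, show vec F (2 ^ p.row) a = bitVal F (2 ^ p.row) (enum chevG2 a) from rfl, h2,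
        hv, if_pos hodd]
    · rw [show Nat.beq (p.coef.natAbs % 2) 1 = false by rw [← Bool.not_eq_true, Nat.beq_eq]; exact hodd,
        cond_false, hv, if_neg hodd, ite_self, zero_add]

theorem bapply_xor (r v w : ℕ) :
    bapply r (Nat.xor v w) = Nat.xor (bapply r v) (bapply r w) := by
  simp only [bapply, force_eq, show Nat.xor v w = v ^^^ w from rfl]
  generalize rootCols.getD r [] = l
  induction l with
  | nil => rfl
  | cons p l ih =>
    simp only [List.foldr_cons]
    rw [ih]
    simp only [show ∀ a b : ℕ, Nat.xor a b = a ^^^ b from fun _ _ => rfl, Nat.testBit_xor]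
    cases v.testBit p.1 <;> cases w.testBit p.1 <;>
      simp [Nat.xor_assoc, Nat.xor_comm, Nat.xor_left_comm]

theorem bapply_zero (r : ℕ) : bapply r 0 = 0 := by
  simp only [bapply, force_eq]
  generalize rootCols.getD r [] = l
  induction l with
  | nil => rfl
  | cons p l ih => rw [List.foldr_cons, Nat.zero_testBit, cond_false, ih]

theorem bapply_lt {r v : ℕ} (h : ∀ p ∈ rootCols.getD r [], p.2 < 2 ^ 14) (hv : v < 2 ^ 14) :
    bapply r v < 2 ^ 14 := by
  simp only [bapply, force_eq]
  revert h
  generalize rootCols.getD r [] = l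
  intro h
  induction l with
  | nil => exact hv
  | cons p l ih =>
    simp only [List.foldr_cons]
    cases v.testBit p.1 with
    | false => exact ih fun q hq => h q (by simp [hq])
    | true => exact Nat.xor_lt_two_pow (ih fun q hq => h q (by simp [hq])) (h p (by simp))

theorem root_col {r j : ℕ} (hr : r < 12) (hj : j < 14) :
    (certFullG2.xg r (1 : F) : Matrix chevG2.Idx chevG2.Idx F).col (ix j) =
      vec F (bapply r (2 ^ j)) := by
  have h := checkRoot_ok
  simp only [checkRoot, List.all_eq_true, List.mem_range, Bool.and_eq_true, Nat.beq_eq] at h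
  rw [← (h r hr).1 _ hj, ← ev_bits]
  have e := certFullG2.x_eq_evMat (F := F) 1 1 1 r 0 0 0 1 (show r < chevG2.nroots by
    rw [G2.node_values.2.2.2.1]; exact hr)
  funext a
  rw [Matrix.col_apply, certFullG2.xg_val]
  have e' : chevG2.x F r 1 = evMat (enum chevG2) (1 : F) 1 1 (certFullG2.T.xCol r 0 0 0 1) := by
    rw [e]; simp
  rw [e']
  show ev _ _ _ _ (certFullG2.T.xCol r 0 0 0 1 (enum chevG2 (ix j))) a = _
  rw [enum_ix hj]

theorem mulVec_bits {r : ℕ} (hr : r < 12) : ∀ v : ℕ, v < 2 ^ 14 →
    (certFullG2.xg r (1 : F) : Matrix chevG2.Idx chevG2.Idx F) *ᵥ vec F v = vec F (bapply r v) := by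
  intro v
  induction v using Nat.strong_induction_on with
  | _ v ih =>
    intro hlt
    by_cases h0 : v = 0
    · subst h0
      rw [bapply_zero, vec_zero, Matrix.mulVec_zero]
    obtain ⟨i, hi⟩ := Nat.exists_testBit_of_ne_zero h0
    obtain ⟨v', hv'⟩ : ∃ v', v' = v ^^^ 2 ^ i := ⟨_, rfl⟩
    have hi52 : i < 14 := by
      by_contra hge
      rw [Nat.testBit_lt_two_pow (lt_of_lt_of_le hlt (Nat.pow_le_pow_right (by omega) (by omega)))]
        at hi
      exact Bool.false_ne_true hi
    have hsplit : v = Nat.xor v' (2 ^ i) := by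
      show v = v' ^^^ 2 ^ i
      rw [hv', Nat.xor_assoc, Nat.xor_self, Nat.xor_zero]
    have hlt' : v' < v := by
      refine Nat.lt_of_testBit i ?_ hi fun j hj => ?_
      · rw [hv', Nat.testBit_xor, hi, Nat.testBit_two_pow_self]; rfl
      · rw [hv', Nat.testBit_xor, Nat.testBit_two_pow_of_ne (by omega), Bool.xor_false]
    rw [hsplit, vec_xor, Matrix.mulVec_add, ih v' hlt' (hlt'.trans hlt), bapply_xor, vec_xor,
      vec_pow hi52, Matrix.mulVec_single_one, root_col hr hi52]

/-- The element of a word of roots, all parameters one. -/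
noncomputable def wd (F : Type*) [Field F] (w : List ℕ) : GL chevG2.Idx F :=
  (w.map fun r => certFullG2.xg r (1 : F)).prod

theorem wd_append (v w : List ℕ) : wd F (v ++ w) = wd F v * wd F w := by
  simp [wd]

theorem wd_nil : wd F [] = 1 := rfl

theorem wd_cons (r : ℕ) (w : List ℕ) : wd F (r :: w) = certFullG2.xg r (1 : F) * wd F w := by
  simp [wd]

theorem wd_reverse (w : List ℕ) : wd F w.reverse = (wd F w)⁻¹ := by
  induction w with
  | nil => rw [List.reverse_nil, wd_nil, inv_one]
  | cons r w ih =>
    rw [List.reverse_cons, wd_append, ih, wd_cons, wd_cons, wd_nil, mul_one, _root_.mul_inv_rev]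
    congr 1
    refine eq_inv_of_mul_eq_one_left ?_
    rw [← certFullG2.xg_add, CharTwo.add_self_eq_zero]
    exact certFullG2.xg_zero r

theorem wapply_lt {w : List ℕ} (hw : ∀ r ∈ w, r < 12) {v : ℕ} (hv : v < 2 ^ 14) :
    wapply w v < 2 ^ 14 := by
  induction w with
  | nil => exact hv
  | cons r w ih =>
    have h := checkRoot_ok
    simp only [List.all_eq_true, List.mem_range, Bool.and_eq_true, Nat.blt_eq] at h
    exact bapply_lt (h r (hw r (by simp))).2 (ih fun y hy => hw y (by simp [hy]))

theorem wd_mulVec {w : List ℕ} (hw : ∀ r ∈ w, r < 12) {v : ℕ} (hv : v < 2 ^ 14) :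
    (wd F w : Matrix chevG2.Idx chevG2.Idx F) *ᵥ vec F v = vec F (wapply w v) := by
  induction w with
  | nil => rw [wd_nil, Units.val_one, Matrix.one_mulVec]; rfl
  | cons r w ih =>
    have hw' : ∀ y ∈ w, y < 12 := fun y hy => hw y (by simp [hy])
    rw [wd_cons, Units.val_mul, ← Matrix.mulVec_mulVec, ih hw',
      mulVec_bits (hw r (by simp)) _ (wapply_lt hw' hv)]
    rfl

/-- All roots of a word are below twelve. -/
def valid (w : List ℕ) : Bool := w.all fun r => Nat.blt r 12

theorem valid_spec {w : List ℕ} (h : valid w = true) : ∀ r ∈ w, r < 12 := by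
  simpa [valid, List.all_eq_true] using h

/-- Equality of two words by computation. -/
def eqv (v w : List ℕ) : Bool :=
  valid v && valid w && (List.range 14).all fun j => Nat.beq (wapply v (2 ^ j)) (wapply w (2 ^ j))

theorem wd_eq_of_eqv {v w : List ℕ} (h : eqv v w = true) : wd F v = wd F w := by
  simp only [eqv, Bool.and_eq_true, List.all_eq_true, List.mem_range, Nat.beq_eq] at h
  obtain ⟨⟨hv, hw⟩, h⟩ := h
  refine Units.ext (Matrix.ext_of_mulVec_single fun b => ?_)
  rw [← ix_enum b, ← vec_pow (enum_lt' b),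
    wd_mulVec (valid_spec hv) (Nat.pow_lt_pow_right (by omega) (enum_lt' b)),
    wd_mulVec (valid_spec hw) (Nat.pow_lt_pow_right (by omega) (enum_lt' b)), h _ (enum_lt' b)]

theorem eqv_cols_of_wd_eq {v w : List ℕ} (hv : valid v = true) (hw : valid w = true)
    (e : wd F v = wd F w) :
    (List.range 14).map (fun j => wapply v (2 ^ j)) = (List.range 14).map fun j => wapply w (2 ^ j) := by
  refine List.map_congr_left fun j hj => ?_
  have hj' : 2 ^ j < 2 ^ 14 := Nat.pow_lt_pow_right (by omega) (List.mem_range.1 hj)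
  refine vec_inj (F := F) (wapply_lt (valid_spec hv) hj') (wapply_lt (valid_spec hw) hj') ?_
  rw [← wd_mulVec (valid_spec hv) hj', ← wd_mulVec (valid_spec hw) hj', e]

end Cfsg.Agent.Lie.Chev.G2Two
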