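import Cfsg.Agent.Lib.Lie.Chev.SimpleGens

/-! A graph automorphism of a simply laced Chevalley group on all root elements. -/

set_option autoImplicit false

namespace Cfsg.Agent.Lie.Chev

open Cfsg.Lie Matrix

/-- Checks on a simply laced datum: symmetric Cartan matrix with small entries, injective coroots. -/
def simplyLacedOk (D : ChevalleyDatum) : Bool :=
  ((List.range D.rank).all fun i => (List.range D.rank).all fun j => Nat.beq i j ||
    ((D.cartan i (D.simple j) == D.cartan j (D.simple i)) &&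
      (D.cartan i (D.simple j) == 0 || D.cartan i (D.simple j) == -1))) &&
  ((List.range D.nroots).all fun r => (List.range D.nroots).all fun s => Nat.beq r s ||
    ((List.range D.rank).any fun i =>
      !((D.coroot.getD r #[]).getD i 0 == (D.coroot.getD s #[]).getD i 0)))

theorem simplyLacedOk_D4_E6 : simplyLacedOk chevD4 = true ∧ simplyLacedOk chevE6 = true := by
  decide +kernel

namespace CertFull

variable {D : ChevalleyDatum} (c : CertFull D) {F : Type*} [Field F]

include c

theorem graphAut_signs (hok : simplyLacedOk D = true) (π : Equiv.Perm (Fin D.rank))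
    (hπ : D.IsDiagramSymmetry π) (φ : ↥(D.group F) ≃* ↥(D.group F))
    (hφ : ∀ (g : ↥(D.group F)) (i : Fin D.rank) (t : F),
      (((g : GL D.Idx F) : Matrix D.Idx D.Idx F) = D.x F (D.simple i) t →
        ((φ g : GL D.Idx F) : Matrix D.Idx D.Idx F) = D.x F (D.simple (π i)) t) ∧
      (((g : GL D.Idx F) : Matrix D.Idx D.Idx F) = D.x F (D.neg (D.simple i)) t →
        ((φ g : GL D.Idx F) : Matrix D.Idx D.Idx F) = D.x F (D.neg (D.simple (π i))) t))
    {r : ℕ} (hr : r < D.nroots) :
    ∃ ε : F, (ε = 1 ∨ ε = -1) ∧ ∀ (g : ↥(D.group F)) (t : F),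
      ((g : GL D.Idx F) : Matrix D.Idx D.Idx F) = D.x F r t →
        ((φ g : GL D.Idx F) : Matrix D.Idx D.Idx F) = D.x F (D.permRoot π r) (ε * t) := by
  simp only [simplyLacedOk, Bool.and_eq_true, List.all_eq_true, List.any_eq_true, List.mem_range,
    Bool.or_eq_true, Nat.beq_eq, beq_iff_eq, Bool.not_eq_true'] at hok
  obtain ⟨hA, hinj⟩ := hok
  have hcart : ∀ i j : Fin D.rank, c.T.cartan (π i) (D.simple (π j)) =
      c.T.cartan i (D.simple j) := by
    intro i j
    rw [← c.cartan_eq (π i).2 (c.simple_lt (π j).2), ← c.cartan_eq i.2 (c.simple_lt j.2)]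
    by_cases e : i = j
    · subst e; rw [c.cartan_simple_self (π i).2, c.cartan_simple_self i.2]
    · have hb := hπ i j e
      have e' : (π i : ℕ) ≠ π j := fun h => e (π.injective (Fin.ext h))
      obtain ⟨s1, v1⟩ := (hA _ i.2 _ j.2).resolve_left fun h => e (Fin.ext h)
      obtain ⟨s2, v2⟩ := (hA _ (π i).2 _ (π j).2).resolve_left e'
      simp only [ChevalleyDatum.bonds, ← s1, ← s2] at hb
      rcases v1 with v1 | v1 <;> rcases v2 with v2 | v2 <;> rw [v1, v2] at hb <;>
        first | omega | norm_num at hb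
  have key : ∀ r < D.nroots, ∃ s < D.nroots,
      (∀ i : Fin D.rank, c.T.coroot s (π i) = c.T.coroot r i) ∧
      ∃ ε : F, (ε = 1 ∨ ε = -1) ∧ ∀ (t : F) (h : c.xg r t ∈ D.group F),
        (φ ⟨c.xg r t, h⟩ : GL D.Idx F) = c.xg s (ε * t) := by
    refine c.root_induction (fun i hi => ?_) fun p hp r hr ih => ?_
    · refine ⟨D.simple (π ⟨i, hi⟩), c.simple_lt (π ⟨i, hi⟩).2, fun j => ?_, 1, Or.inl rfl,
        fun t h => ?_⟩
      · have h1 := (c.linear_node hi).2 (j : ℕ) j.2
        have h2 := (c.linear_node (π ⟨i, hi⟩).2).2 (π j : ℕ) (π j).2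
        rw [h1, h2]
        by_cases e : j = ⟨i, hi⟩
        · subst e; simp
        · rw [if_neg, if_neg]
          · exact fun h' => e (Fin.ext h'.symm)
          · exact fun h' => e (π.injective (Fin.ext h'.symm))
      · rw [one_mul]
        exact Units.ext (((hφ ⟨_, h⟩ ⟨i, hi⟩ t).1 (c.xg_val _ _)).trans (c.xg_val _ _).symm)
    obtain ⟨s, hs, hco, ε, hε, hx⟩ := ih
    set q : Fin D.rank := π ⟨p, hp⟩ with hq
    refine ⟨c.w q s, c.w_lt q.2 hs, fun i => ?_,
      (c.T.eta q s : F) * ε * (c.T.eta p r : F), ?_, fun t h => ?_⟩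
    · have e1 := (c.refl_root q.2 hs).2.2.2.2.2.2.1 (π i) (π i).2
      have e2 := (c.refl_root hp hr).2.2.2.2.2.2.1 i i.2
      rw [e1, e2, hco]
      congr 1
      by_cases e : i = ⟨p, hp⟩
      · subst e
        rw [if_pos rfl, if_pos rfl, c.pairing_eq_sum, c.pairing_eq_sum,
          Finset.sum_range, Finset.sum_range]
        symm
        refine Fintype.sum_equiv π _ _ fun j => ?_
        rw [hco, hq, hcart]
      · rw [if_neg, if_neg]
        · exact fun h' => e (Fin.ext h')
        · exact fun h' => e (π.injective (Fin.ext h'))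
    · rcases c.T.eta_cases q s with a | a <;> rcases c.T.eta_cases p r with b | b <;>
        rcases hε with rfl | rfl <;> simp [a, b]
    · have hxr := c.xg_mem_group (F := F) hr ((c.T.eta p r : F) * t)
      have hα := c.simple_lt hp
      have hnp : c.ng (D.simple p) (1 : F) ∈ D.group F := mul_mem (mul_mem
        (c.xg_mem_group hα _) (c.xg_mem_group (c.neg_lt hα) _)) (c.xg_mem_group hα _)
      have hφn : (φ ⟨_, hnp⟩ : GL D.Idx F) = c.ng (D.simple q) 1 := by
        have e : (⟨c.ng (D.simple p) (1 : F), hnp⟩ : ↥(D.group F)) =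
            ⟨c.xg (D.simple p) 1, c.xg_mem_group hα _⟩ *
              ⟨c.xg (D.neg (D.simple p)) (-1⁻¹), c.xg_mem_group (c.neg_lt hα) _⟩ *
              ⟨c.xg (D.simple p) 1, c.xg_mem_group hα _⟩ := rfl
        rw [e, map_mul, map_mul, Subgroup.coe_mul, Subgroup.coe_mul,
          c.eq_xg_iff.1 ((hφ ⟨_, c.xg_mem_group hα _⟩ ⟨p, hp⟩ 1).1 (c.xg_val _ _)),
          c.eq_xg_iff.1 ((hφ ⟨_, c.xg_mem_group (c.neg_lt hα) _⟩ ⟨p, hp⟩ (-1⁻¹)).2
            (c.xg_val _ _))]
        rfl
      have e : (⟨c.xg (c.w p r) t, h⟩ : ↥(D.group F)) =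
          ⟨_, hnp⟩ * ⟨c.xg r ((c.T.eta p r : F) * t), hxr⟩ * ⟨_, hnp⟩⁻¹ := by
        refine Subtype.ext ?_
        show c.xg (c.w p r) t = c.ng (D.simple p) 1 * c.xg r ((c.T.eta p r : F) * t) *
          (c.ng (D.simple p) 1)⁻¹
        rw [c.ng_conj hp hr, mul_inv_cancel_right, ← mul_assoc, c.eta_F_sq, one_mul]
      rw [e, map_mul, map_mul, map_inv, Subgroup.coe_mul, Subgroup.coe_mul, Subgroup.coe_inv,
        hφn, hx, c.ng_conj q.2 hs, mul_inv_cancel_right]
      simp only [mul_assoc]
  obtain ⟨s, hs, hco, ε, hε, hx⟩ := key r hr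
  have hperm : D.permRoot π r = s := by
    have hpred : ∀ x < D.nroots, (((List.finRange D.rank).all fun i =>
        (D.coroot.getD x #[]).getD (π i).val 0 == (D.coroot.getD r #[]).getD i.val 0) = true ↔
        x = s) := by
      intro x hx'
      simp only [List.all_eq_true, List.mem_finRange, forall_true_left, beq_iff_eq]
      refine ⟨fun h => ?_, ?_⟩
      · by_contra hne
        obtain ⟨k, hk, hkne⟩ := (hinj x hx' s hs).resolve_left hne
        have h1 := h (π.symm ⟨k, hk⟩)
        have h2 := hco (π.symm ⟨k, hk⟩)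
        rw [Equiv.apply_symm_apply] at h1 h2
        rw [h1, c.coroot_eq hr (π.symm ⟨k, hk⟩).2, c.coroot_eq hs hk, h2] at hkne
        simp at hkne
      · rintro rfl i
        rw [c.coroot_eq hs (π i).2, c.coroot_eq hr i.2, hco]
    unfold ChevalleyDatum.permRoot
    rcases hf : (List.range D.nroots).find? fun s => (List.finRange D.rank).all fun i =>
        (D.coroot.getD s #[]).getD (π i).val 0 == (D.coroot.getD r #[]).getD i.val 0 with _ | x
    · rw [List.find?_eq_none] at hf
      exact absurd ((hpred s hs).2 rfl) (hf s (List.mem_range.2 hs))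
    · rw [Option.getD_some]
      have h' := List.find?_some hf
      exact (hpred x (List.mem_range.1 (List.mem_of_find?_eq_some hf))).1 h'
  refine ⟨ε, hε, fun g t hg => ?_⟩
  have h := hx t (c.xg_mem_group hr t)
  rw [show g = ⟨c.xg r t, c.xg_mem_group hr t⟩ from Subtype.ext (c.eq_xg_iff.1 hg), hperm]
  exact c.eq_xg_iff.2 h

end CertFull

end Cfsg.Agent.Lie.Chev
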