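import Cfsg.Agent.Lib.Lie.Chev.Order
import Mathlib.GroupTheory.Sylow

/-! The height grading of the adjoint module and the exponent of the elements of `p`-power order
in characteristic `p`. -/

set_option autoImplicit false

namespace Cfsg.Agent.Lie.Chev

open Cfsg.Lie Matrix
open scoped Pointwise

namespace Tables

variable (T : Tables)

/-- The height of a root. -/
def ht (s : ℕ) : ℤ := ((List.range T.l).map (T.vec s)).sum

/-- Heights are bounded by `H`, have the right signs and increase along positive root chains. -/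
def checkHt (H : ℕ) : Bool :=
  T.allRoots fun r => decide (-(H : ℤ) ≤ T.ht r) && decide (T.ht r ≤ (H : ℤ)) &&
    bif Nat.blt r T.h then decide (T.ht r < 0) else
      decide (0 < T.ht r) && T.allRoots fun s =>
        (T.entry r s).all fun q => decide (T.ht s < T.ht q.1)

end Tables

namespace CertFull

variable {D : ChevalleyDatum} (c : CertFull D) {F : Type*} [Field F]
include c

/-- The level function given by the heights. -/
def levHt (H : ℕ) : D.Idx → ℕ :=
  Sum.elim (fun _ => H) (fun u => ((H : ℤ) + c.T.ht u).toNat)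

theorem checkHt_spec {H : ℕ} (h : c.T.checkHt H = true) {r : ℕ} (hr : r < D.nroots) :
    -(H : ℤ) ≤ c.T.ht r ∧ c.T.ht r ≤ H ∧ (r < c.T.h → c.T.ht r < 0) ∧
      (c.T.h ≤ r → 0 < c.T.ht r ∧
        ∀ s < D.nroots, ∀ q ∈ c.T.entry r s, c.T.ht s < c.T.ht q.1) := by
  simp only [Tables.checkHt, Tables.allRoots, List.all_eq_true, List.mem_range, Bool.and_eq_true,
    decide_eq_true_eq] at h
  obtain ⟨⟨h1, h2⟩, h3⟩ := h r (c.nroots_eq ▸ hr)
  refine ⟨h1, h2, fun hlt => ?_, fun hle => ?_⟩
  · rw [show Nat.blt r c.T.h = true from (Nat.blt_eq ▸ hlt : _), cond_true] at h3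
    simpa using h3
  · rw [show Nat.blt r c.T.h = false from Bool.eq_false_iff.2 fun e => by
      rw [Nat.blt_eq] at e; omega, cond_false] at h3
    simp only [Bool.and_eq_true, decide_eq_true_eq, List.all_eq_true, List.mem_range] at h3
    exact ⟨h3.1, fun s hs q hq => h3.2 s (c.nroots_eq ▸ hs) q hq⟩

theorem x_sub_one_lev {H : ℕ} (hH : c.T.checkHt H = true) {r : ℕ} (hr : c.Pos r) (t : F)
    (i j : D.Idx) (h : (D.x F r t - 1) i j ≠ 0) : c.levHt H j < c.levHt H i := by
  have hcol : ((D.x F r t - 1) *ᵥ Pi.single j 1) i ≠ 0 := by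
    rwa [Matrix.mulVec_single_one]
  rw [Matrix.sub_mulVec, Matrix.one_mulVec] at hcol
  obtain ⟨hlo, hhi, -, hpos⟩ := c.checkHt_spec hH hr.2
  obtain ⟨h0, hch⟩ := hpos hr.1
  rcases j with k | s
  · rw [single_inl, c.x_hvec hr.2 k.isLt] at hcol
    rcases i with k' | u
    · simp [evec] at hcol
    · have hu : (u : ℕ) = r := by
        by_contra hu; simp [evec, hu] at hcol
      simp only [levHt, Sum.elim_inl, Sum.elim_inr, hu]
      omega
  · rw [single_inr] at hcol
    by_cases h1 : (s : ℕ) = r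
    · rw [h1, c.x_evec_self hr.2, sub_self] at hcol
      exact absurd rfl hcol
    by_cases h2 : (s : ℕ) = D.neg r
    · have hs := c.checkHt_spec hH (c.neg_lt hr.2)
      have hsn : D.neg r < c.T.h := by
        have := c.h_add_h
        have := c.neg_val hr.2
        have := hr.1; have := hr.2
        omega
      have hneg := hs.2.2.1 hsn
      rw [h2, c.x_evec_neg hr.2] at hcol
      rcases i with k' | u
      · simp only [levHt, Sum.elim_inl, Sum.elim_inr, h2]
        omega
      · have hu : (u : ℕ) = r := by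
          by_contra hu; simp [evec, hu, c.hroot_apply_inr] at hcol
        simp only [levHt, Sum.elim_inr, h2, hu]
        omega
    rw [c.x_evec hr.2 s.isLt h1 h2] at hcol
    rcases i with k' | u
    · simp [chainVec_inl] at hcol
    · simp only [Pi.add_apply, Pi.sub_apply, add_sub_cancel_left] at hcol
      rw [chainVec_inr] at hcol
      obtain ⟨q, hq, hqu⟩ : ∃ q ∈ c.T.entry r s, q.1 = (u : ℕ) := by
        by_contra hn
        push Not at hn
        rw [show ((((c.T.entry r s).zipIdx).filter (fun q => q.1.1 = (u : ℕ))).map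
          fun q => (q.2 + 1, q.1.2)) = [] from List.map_eq_nil_iff.2 (List.filter_eq_nil_iff.2
            fun q hq => by
              simpa using hn q.1 (List.fst_mem_of_mem_zipIdx hq))] at hcol
        simp at hcol
      have := hch s s.isLt q hq
      rw [hqu] at this
      have := (c.checkHt_spec hH s.isLt).1
      simp only [levHt, Sum.elim_inr]
      omega

theorem levHt_le {H : ℕ} (hH : c.T.checkHt H = true) (i : D.Idx) : c.levHt H i ≤ 2 * H := by
  rcases i with k | u
  · simp only [levHt, Sum.elim_inl]; omega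
  · have := (c.checkHt_spec hH u.isLt).2.1
    simp only [levHt, Sum.elim_inr]; omega

theorem posUnipotent_le_unitri_ht {H : ℕ} (hH : c.T.checkHt H = true) :
    D.posUnipotent F ≤ unitri D F (c.levHt H) := by
  refine (Subgroup.closure_le _).2 ?_
  rintro g ⟨r, t, hr, hg⟩
  obtain rfl := c.eq_xg_iff.1 hg
  have hr' := c.posRoot_iff.1 hr
  refine ⟨fun i j h => c.x_sub_one_lev hH hr' t i j h, ?_⟩
  rw [c.xg_inv]
  exact fun i j h => c.x_sub_one_lev hH hr' (-t) i j h

/-- The exponent of the positive unipotent subgroup. -/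
theorem pow_eq_one_of_mem_U {H : ℕ} (hH : c.T.checkHt H = true) {ℓ : ℕ} [Fact ℓ.Prime] [CharP F ℓ]
    {k : ℕ} (hk : 2 * H < ℓ ^ k) {u : GL D.Idx F} (hu : u ∈ D.posUnipotent F) :
    u ^ ℓ ^ k = 1 := by
  have h := (c.posUnipotent_le_unitri_ht hH hu).1
  have hz : ((u : Matrix D.Idx D.Idx F) - 1) ^ ℓ ^ k = 0 := by
    ext i j
    by_contra hne
    have := StrictLev.pow_add (c.levHt H) h _ i j hne
    have := c.levHt_le hH i
    omega
  haveI : Nonempty D.Idx := ⟨Sum.inl ⟨0, c.one_le_rank⟩⟩
  rw [sub_pow_char_pow_of_commute ℓ k (Commute.one_right _), one_pow, sub_eq_zero] at hz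
  exact Units.ext (by rw [Units.val_pow_eq_pow_val, hz, Units.val_one])

/-- The exponent of the elements of `ℓ`-power order. -/
theorem pow_eq_one_of_pPower [Fintype F] {H : ℕ} (hH : c.T.checkHt H = true) {ℓ : ℕ}
    [Fact ℓ.Prime] [CharP F ℓ] {k : ℕ} (hk : 2 * H < ℓ ^ k)
    (hU : IsPGroup ℓ ↥(D.posUnipotent F))
    (hnd : ¬ ℓ * Nat.card (D.posUnipotent F) ∣ Nat.card (D.group F))
    {x : GL D.Idx F} (hx : x ∈ D.group F) {j : ℕ} (hj : x ^ ℓ ^ j = 1) : x ^ ℓ ^ k = 1 := by
  have hle : D.posUnipotent F ≤ D.group F := le_sup_left.trans c.sup_neg_eq_group.le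
  set U := (D.posUnipotent F).subgroupOf (D.group F) with hUdef
  have hUp : IsPGroup ℓ U := hU.of_equiv (Subgroup.subgroupOfEquivOfLe hle).symm
  have hindex : ¬ ℓ ∣ U.index := by
    intro hd
    apply hnd
    have h := U.card_mul_index
    rw [Nat.card_congr (Subgroup.subgroupOfEquivOfLe hle).toEquiv] at h
    rw [← h, mul_comm ℓ]
    exact mul_dvd_mul_left _ hd
  set X := Subgroup.zpowers (⟨x, hx⟩ : D.group F)
  have hX : IsPGroup ℓ X := by
    rintro ⟨y, hy⟩
    obtain ⟨z, rfl⟩ := Subgroup.mem_zpowers_iff.1 hy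
    refine ⟨j, Subtype.ext ?_⟩
    simp only [SubmonoidClass.coe_pow, OneMemClass.coe_one]
    rw [← zpow_natCast, ← _root_.zpow_mul, mul_comm, _root_.zpow_mul, zpow_natCast,
      show (⟨x, hx⟩ : D.group F) ^ ℓ ^ j = 1 from Subtype.ext (by simpa using hj), _root_.one_zpow]
  obtain ⟨P, hP⟩ := hX.exists_le_sylow
  obtain ⟨g, hg⟩ := MulAction.exists_smul_eq (D.group F) P (hUp.toSylow hindex)
  have hxP : (⟨x, hx⟩ : D.group F) ∈ P := hP (Subgroup.mem_zpowers _)
  have hmem : g * ⟨x, hx⟩ * g⁻¹ ∈ U := by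
    have h1 : MulAut.conj g • (⟨x, hx⟩ : D.group F) ∈ (MulAut.conj g • (P : Subgroup (D.group F))) :=
      Subgroup.smul_mem_pointwise_smul _ _ _ hxP
    rw [← Sylow.coe_subgroup_smul, hg] at h1
    simpa using h1
  rw [Subgroup.mem_subgroupOf] at hmem
  have h2 := c.pow_eq_one_of_mem_U hH hk hmem
  simp only [Subgroup.coe_mul, InvMemClass.coe_inv, conj_pow] at h2
  exact conj_eq_one_iff.1 h2

end CertFull

end Cfsg.Agent.Lie.Chev
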