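/- Generated certificates for the two classes of involutions in type F4: stabilisers of the
seeds in the Weyl group, their chains, and words moving every mask to a seed. -/
import Cfsg.Agent.Lib.Lie.Chev.InvolutionClasses

set_option autoImplicit false
set_option maxRecDepth 100000

namespace Cfsg.Agent.Lie.Chev

def invF4Gen1_0 : SubGen := ⟨[0],
 (.node 24 (.node 12 (.node 6 (.node 3 (.node 1 (.leaf 0)
 (.node 2 (.leaf 1)
 (.leaf 2)))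
 (.node 4 (.leaf 7)
 (.node 5 (.leaf 15)
 (.leaf 16))))
 (.node 9 (.node 7 (.leaf 17)
 (.node 8 (.leaf 3)
 (.leaf 8)))
 (.node 10 (.leaf 9)
 (.node 11 (.leaf 10)
 (.leaf 18)))))
 (.node 18 (.node 15 (.node 13 (.leaf 19)
 (.node 14 (.leaf 20)
 (.leaf 33)))
 (.node 16 (.leaf 4)
 (.node 17 (.leaf 5)
 (.leaf 6))))
 (.node 21 (.node 19 (.leaf 11)
 (.node 20 (.leaf 12)
 (.leaf 13)))
 (.node 22 (.leaf 21)
 (.node 23 (.leaf 22)
 (.leaf 23))))))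
 (.node 36 (.node 30 (.node 27 (.node 25 (.leaf 24)
 (.node 26 (.leaf 25)
 (.leaf 26)))
 (.node 28 (.leaf 34)
 (.node 29 (.leaf 35)
 (.leaf 36))))
 (.node 33 (.node 31 (.leaf 41)
 (.node 32 (.leaf 42)
 (.leaf 43)))
 (.node 34 (.leaf 14)
 (.node 35 (.leaf 27)
 (.leaf 28)))))
 (.node 42 (.node 39 (.node 37 (.leaf 29)
 (.node 38 (.leaf 37)
 (.leaf 38)))
 (.node 40 (.leaf 39)
 (.node 41 (.leaf 44)
 (.leaf 30))))
 (.node 45 (.node 43 (.leaf 31)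
 (.node 44 (.leaf 32)
 (.leaf 40)))
 (.node 46 (.leaf 45)
 (.node 47 (.leaf 46)
 (.leaf 47)))))))⟩

def invF4Gen1_1 : SubGen := ⟨[1, 2, 1],
 (.node 24 (.node 12 (.node 6 (.node 3 (.node 1 (.leaf 0)
 (.node 2 (.leaf 4)
 (.leaf 5)))
 (.node 4 (.leaf 3)
 (.node 5 (.leaf 1)
 (.leaf 2))))
 (.node 9 (.node 7 (.leaf 6)
 (.node 8 (.leaf 11)
 (.leaf 8)))
 (.node 10 (.leaf 9)
 (.node 11 (.leaf 14)
 (.leaf 7)))))
 (.node 18 (.node 15 (.node 13 (.leaf 12)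
 (.node 14 (.leaf 13)
 (.leaf 10)))
 (.node 16 (.leaf 21)
 (.node 17 (.leaf 23)
 (.leaf 30))))
 (.node 21 (.node 19 (.leaf 18)
 (.node 20 (.leaf 27)
 (.leaf 28)))
 (.node 22 (.leaf 15)
 (.node 23 (.leaf 22)
 (.leaf 16))))))
 (.node 36 (.node 30 (.node 27 (.node 25 (.leaf 31)
 (.node 26 (.leaf 25)
 (.leaf 32)))
 (.node 28 (.leaf 19)
 (.node 29 (.leaf 20)
 (.leaf 29))))
 (.node 33 (.node 31 (.leaf 17)
 (.node 32 (.leaf 24)
 (.leaf 26)))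
 (.node 34 (.leaf 37)
 (.node 35 (.leaf 34)
 (.leaf 35)))))
 (.node 42 (.node 39 (.node 37 (.leaf 40)
 (.node 38 (.leaf 33)
 (.leaf 38)))
 (.node 40 (.leaf 39)
 (.node 41 (.leaf 36)
 (.leaf 41))))
 (.node 45 (.node 43 (.leaf 45)
 (.node 44 (.leaf 46)
 (.leaf 44)))
 (.node 46 (.leaf 42)
 (.node 47 (.leaf 43)
 (.leaf 47)))))))⟩

def invF4Gen1_2 : SubGen := ⟨[3],
 (.node 24 (.node 12 (.node 6 (.node 3 (.node 1 (.leaf 1)
 (.node 2 (.leaf 0)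
 (.leaf 2)))
 (.node 4 (.leaf 3)
 (.node 5 (.leaf 4)
 (.leaf 6))))
 (.node 9 (.node 7 (.leaf 5)
 (.node 8 (.leaf 7)
 (.leaf 8)))
 (.node 10 (.leaf 10)
 (.node 11 (.leaf 9)
 (.leaf 12)))))
 (.node 18 (.node 15 (.node 13 (.leaf 11)
 (.node 14 (.leaf 13)
 (.leaf 14)))
 (.node 16 (.leaf 15)
 (.node 17 (.leaf 17)
 (.leaf 16))))
 (.node 21 (.node 19 (.leaf 19)
 (.node 20 (.leaf 18)
 (.leaf 20)))
 (.node 22 (.leaf 22)
 (.node 23 (.leaf 21)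
 (.leaf 24))))))
 (.node 36 (.node 30 (.node 27 (.node 25 (.leaf 23)
 (.node 26 (.leaf 26)
 (.leaf 25)))
 (.node 28 (.leaf 27)
 (.node 29 (.leaf 29)
 (.leaf 28))))
 (.node 33 (.node 31 (.leaf 31)
 (.node 32 (.leaf 30)
 (.leaf 32)))
 (.node 34 (.leaf 33)
 (.node 35 (.leaf 34)
 (.leaf 36)))))
 (.node 42 (.node 39 (.node 37 (.leaf 35)
 (.node 38 (.leaf 38)
 (.leaf 37)))
 (.node 40 (.leaf 39)
 (.node 41 (.leaf 40)
 (.leaf 42))))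
 (.node 45 (.node 43 (.leaf 41)
 (.node 44 (.leaf 43)
 (.leaf 44)))
 (.node 46 (.leaf 45)
 (.node 47 (.leaf 47)
 (.leaf 46)))))))⟩

def invF4Gen1_3 : SubGen := ⟨[2],
 (.node 24 (.node 12 (.node 6 (.node 3 (.node 1 (.leaf 0)
 (.node 2 (.leaf 2)
 (.leaf 1)))
 (.node 4 (.leaf 3)
 (.node 5 (.leaf 5)
 (.leaf 4))))
 (.node 9 (.node 7 (.leaf 6)
 (.node 8 (.leaf 7)
 (.leaf 9)))
 (.node 10 (.leaf 8)
 (.node 11 (.leaf 10)
 (.leaf 11)))))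
 (.node 18 (.node 15 (.node 13 (.leaf 13)
 (.node 14 (.leaf 12)
 (.leaf 14)))
 (.node 16 (.leaf 16)
 (.node 17 (.leaf 15)
 (.leaf 17))))
 (.node 21 (.node 19 (.leaf 18)
 (.node 20 (.leaf 20)
 (.leaf 19)))
 (.node 22 (.leaf 23)
 (.node 23 (.leaf 25)
 (.leaf 21))))))
 (.node 36 (.node 30 (.node 27 (.node 25 (.leaf 26)
 (.node 26 (.leaf 22)
 (.leaf 24)))
 (.node 28 (.leaf 28)
 (.node 29 (.leaf 27)
 (.leaf 29))))
 (.node 33 (.node 31 (.leaf 30)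
 (.node 32 (.leaf 32)
 (.leaf 31)))
 (.node 34 (.leaf 33)
 (.node 35 (.leaf 35)
 (.leaf 34)))))
 (.node 42 (.node 39 (.node 37 (.leaf 36)
 (.node 38 (.leaf 37)
 (.leaf 39)))
 (.node 40 (.leaf 38)
 (.node 41 (.leaf 40)
 (.leaf 41))))
 (.node 45 (.node 43 (.leaf 43)
 (.node 44 (.leaf 42)
 (.leaf 44)))
 (.node 46 (.leaf 46)
 (.node 47 (.leaf 45)
 (.leaf 47)))))))⟩

def invF4Level1_4 : SubLevel := ⟨4, [25, 26, 32, 39, 43, 46, 47],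
  [[],
    [3],
    [2, 3],
    [1, 2, 3],
    [0, 1, 2, 3],
    [1, 0, 1, 2, 3],
    [2, 1, 0, 1, 2, 3],
    [3, 2, 1, 0, 1, 2, 3]],
  [[(0, [0]), (0, [1]), (0, [2]), (1, [])],
    [(1, [0]), (1, [1]), (2, []), (0, [])],
    [(2, [0]), (3, []), (1, []), (2, [2])],
    [(4, []), (2, []), (3, [1]), (3, [2])],
    [(3, []), (5, []), (4, [1]), (4, [2])],
    [(5, [0]), (4, []), (6, []), (5, [2])],
    [(6, [0]), (6, [1]), (5, []), (7, [])],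
    [(7, [0]), (7, [1]), (7, [2]), (6, [])]]⟩

def invF4Level1_3 : SubLevel := ⟨3, [24, 31, 38, 42, 45],
  [[],
    [2],
    [1, 2],
    [0, 1, 2],
    [1, 0, 1, 2],
    [2, 1, 0, 1, 2]],
  [[(0, [0]), (0, [1]), (1, [])],
    [(1, [0]), (2, []), (0, [])],
    [(3, []), (1, []), (2, [1])],
    [(2, []), (4, []), (3, [1])],
    [(4, [0]), (3, []), (5, [])],
    [(5, [0]), (5, [1]), (4, [])]]⟩

def invF4Level1_2 : SubLevel := ⟨2, [30, 37, 41],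
  [[],
    [1],
    [0, 1],
    [1, 0, 1]],
  [[(0, [0]), (1, [])],
    [(2, []), (0, [])],
    [(1, []), (3, [])],
    [(3, [0]), (2, [])]]⟩

def invF4Level1_1 : SubLevel := ⟨1, [33],
  [[],
    [0]],
  [[(1, [])],
    [(0, [])]]⟩

def invF4Orbit1 : List (List ℕ) :=
  [[],
    [1],
    [0, 1]]

def invF4Steps1 : List (List (ℕ × List ℕ)) :=
  [[(0, [0]), (1, []), (0, [3]), (0, [2])],
    [(2, []), (0, []), (1, [1]), (1, [2])],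
    [(1, []), (2, [0]), (2, [1]), (2, [2])]]

/-- The stabiliser data of seed 1 of type F4. -/
def invF4Stab1 : StabData :=
  ⟨1, [invF4Gen1_0, invF4Gen1_1, invF4Gen1_2, invF4Gen1_3],
    [invF4Level1_4, invF4Level1_3, invF4Level1_2, invF4Level1_1],
    invF4Orbit1, invF4Steps1, [2, 4, 6, 8]⟩

def invF4Gen2_0 : SubGen := ⟨[0],
 (.node 24 (.node 12 (.node 6 (.node 3 (.node 1 (.leaf 0)
 (.node 2 (.leaf 1)
 (.leaf 2)))
 (.node 4 (.leaf 7)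
 (.node 5 (.leaf 15)
 (.leaf 16))))
 (.node 9 (.node 7 (.leaf 17)
 (.node 8 (.leaf 3)
 (.leaf 8)))
 (.node 10 (.leaf 9)
 (.node 11 (.leaf 10)
 (.leaf 18)))))
 (.node 18 (.node 15 (.node 13 (.leaf 19)
 (.node 14 (.leaf 20)
 (.leaf 33)))
 (.node 16 (.leaf 4)
 (.node 17 (.leaf 5)
 (.leaf 6))))
 (.node 21 (.node 19 (.leaf 11)
 (.node 20 (.leaf 12)
 (.leaf 13)))
 (.node 22 (.leaf 21)
 (.node 23 (.leaf 22)
 (.leaf 23))))))
 (.node 36 (.node 30 (.node 27 (.node 25 (.leaf 24)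
 (.node 26 (.leaf 25)
 (.leaf 26)))
 (.node 28 (.leaf 34)
 (.node 29 (.leaf 35)
 (.leaf 36))))
 (.node 33 (.node 31 (.leaf 41)
 (.node 32 (.leaf 42)
 (.leaf 43)))
 (.node 34 (.leaf 14)
 (.node 35 (.leaf 27)
 (.leaf 28)))))
 (.node 42 (.node 39 (.node 37 (.leaf 29)
 (.node 38 (.leaf 37)
 (.leaf 38)))
 (.node 40 (.leaf 39)
 (.node 41 (.leaf 44)
 (.leaf 30))))
 (.node 45 (.node 43 (.leaf 31)
 (.node 44 (.leaf 32)
 (.leaf 40)))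
 (.node 46 (.leaf 45)
 (.node 47 (.leaf 46)
 (.leaf 47)))))))⟩

def invF4Gen2_1 : SubGen := ⟨[1, 2, 1],
 (.node 24 (.node 12 (.node 6 (.node 3 (.node 1 (.leaf 0)
 (.node 2 (.leaf 4)
 (.leaf 5)))
 (.node 4 (.leaf 3)
 (.node 5 (.leaf 1)
 (.leaf 2))))
 (.node 9 (.node 7 (.leaf 6)
 (.node 8 (.leaf 11)
 (.leaf 8)))
 (.node 10 (.leaf 9)
 (.node 11 (.leaf 14)
 (.leaf 7)))))
 (.node 18 (.node 15 (.node 13 (.leaf 12)
 (.node 14 (.leaf 13)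
 (.leaf 10)))
 (.node 16 (.leaf 21)
 (.node 17 (.leaf 23)
 (.leaf 30))))
 (.node 21 (.node 19 (.leaf 18)
 (.node 20 (.leaf 27)
 (.leaf 28)))
 (.node 22 (.leaf 15)
 (.node 23 (.leaf 22)
 (.leaf 16))))))
 (.node 36 (.node 30 (.node 27 (.node 25 (.leaf 31)
 (.node 26 (.leaf 25)
 (.leaf 32)))
 (.node 28 (.leaf 19)
 (.node 29 (.leaf 20)
 (.leaf 29))))
 (.node 33 (.node 31 (.leaf 17)
 (.node 32 (.leaf 24)
 (.leaf 26)))
 (.node 34 (.leaf 37)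
 (.node 35 (.leaf 34)
 (.leaf 35)))))
 (.node 42 (.node 39 (.node 37 (.leaf 40)
 (.node 38 (.leaf 33)
 (.leaf 38)))
 (.node 40 (.leaf 39)
 (.node 41 (.leaf 36)
 (.leaf 41))))
 (.node 45 (.node 43 (.leaf 45)
 (.node 44 (.leaf 46)
 (.leaf 44)))
 (.node 46 (.leaf 42)
 (.node 47 (.leaf 43)
 (.leaf 47)))))))⟩

def invF4Gen2_2 : SubGen := ⟨[3, 2, 1, 2, 3],
 (.node 24 (.node 12 (.node 6 (.node 3 (.node 1 (.leaf 6)
 (.node 2 (.leaf 1)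
 (.leaf 2)))
 (.node 4 (.leaf 3)
 (.node 5 (.leaf 4)
 (.leaf 5))))
 (.node 9 (.node 7 (.leaf 0)
 (.node 8 (.leaf 10)
 (.leaf 12)))
 (.node 10 (.leaf 13)
 (.node 11 (.leaf 7)
 (.leaf 14)))))
 (.node 18 (.node 15 (.node 13 (.leaf 8)
 (.node 14 (.leaf 9)
 (.leaf 11)))
 (.node 16 (.leaf 24)
 (.node 17 (.leaf 26)
 (.leaf 17))))
 (.node 21 (.node 19 (.leaf 29)
 (.node 20 (.leaf 19)
 (.leaf 20)))
 (.node 22 (.leaf 31)
 (.node 23 (.leaf 22)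
 (.leaf 32))))))
 (.node 36 (.node 30 (.node 27 (.node 25 (.leaf 15)
 (.node 26 (.leaf 25)
 (.leaf 16)))
 (.node 28 (.leaf 27)
 (.node 29 (.leaf 28)
 (.leaf 18))))
 (.node 33 (.node 31 (.leaf 30)
 (.node 32 (.leaf 21)
 (.leaf 23)))
 (.node 34 (.leaf 36)
 (.node 35 (.leaf 38)
 (.leaf 39)))))
 (.node 42 (.node 39 (.node 37 (.leaf 33)
 (.node 38 (.leaf 40)
 (.leaf 34)))
 (.node 40 (.leaf 35)
 (.node 41 (.leaf 37)
 (.leaf 47))))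
 (.node 45 (.node 43 (.leaf 42)
 (.node 44 (.leaf 43)
 (.leaf 44)))
 (.node 46 (.leaf 45)
 (.node 47 (.leaf 46)
 (.leaf 41)))))))⟩

def invF4Gen2_3 : SubGen := ⟨[2],
 (.node 24 (.node 12 (.node 6 (.node 3 (.node 1 (.leaf 0)
 (.node 2 (.leaf 2)
 (.leaf 1)))
 (.node 4 (.leaf 3)
 (.node 5 (.leaf 5)
 (.leaf 4))))
 (.node 9 (.node 7 (.leaf 6)
 (.node 8 (.leaf 7)
 (.leaf 9)))
 (.node 10 (.leaf 8)
 (.node 11 (.leaf 10)
 (.leaf 11)))))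
 (.node 18 (.node 15 (.node 13 (.leaf 13)
 (.node 14 (.leaf 12)
 (.leaf 14)))
 (.node 16 (.leaf 16)
 (.node 17 (.leaf 15)
 (.leaf 17))))
 (.node 21 (.node 19 (.leaf 18)
 (.node 20 (.leaf 20)
 (.leaf 19)))
 (.node 22 (.leaf 23)
 (.node 23 (.leaf 25)
 (.leaf 21))))))
 (.node 36 (.node 30 (.node 27 (.node 25 (.leaf 26)
 (.node 26 (.leaf 22)
 (.leaf 24)))
 (.node 28 (.leaf 28)
 (.node 29 (.leaf 27)
 (.leaf 29))))
 (.node 33 (.node 31 (.leaf 30)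
 (.node 32 (.leaf 32)
 (.leaf 31)))
 (.node 34 (.leaf 33)
 (.node 35 (.leaf 35)
 (.leaf 34)))))
 (.node 42 (.node 39 (.node 37 (.leaf 36)
 (.node 38 (.leaf 37)
 (.leaf 39)))
 (.node 40 (.leaf 38)
 (.node 41 (.leaf 40)
 (.leaf 41))))
 (.node 45 (.node 43 (.leaf 43)
 (.node 44 (.leaf 42)
 (.leaf 44)))
 (.node 46 (.leaf 46)
 (.node 47 (.leaf 45)
 (.leaf 47)))))))⟩

def invF4Level2_4 : SubLevel := ⟨4, [25],
  [[],
    [3]],
  [[(0, [0]), (0, [1]), (0, [2]), (1, [])],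
    [(1, [0]), (1, [1]), (1, [2]), (0, [])]]⟩

def invF4Level2_3 : SubLevel := ⟨3, [29, 36, 40, 44, 47],
  [[],
    [2],
    [0, 2],
    [1, 0, 2],
    [0, 1, 0, 2],
    [2, 0, 1, 0, 2]],
  [[(0, [0]), (0, [1]), (1, [])],
    [(2, []), (1, [1]), (0, [])],
    [(1, []), (3, []), (2, [0])],
    [(4, []), (2, []), (3, [0])],
    [(3, []), (4, [1]), (5, [])],
    [(5, [0]), (5, [1]), (4, [])]]⟩

def invF4Level2_2 : SubLevel := ⟨2, [30, 37, 41],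
  [[],
    [1],
    [0, 1],
    [1, 0, 1]],
  [[(0, [0]), (1, [])],
    [(2, []), (0, [])],
    [(1, []), (3, [])],
    [(3, [0]), (2, [])]]⟩

def invF4Level2_1 : SubLevel := ⟨1, [33],
  [[],
    [0]],
  [[(1, [])],
    [(0, [])]]⟩

def invF4Orbit2 : List (List ℕ) :=
  [[],
    [1],
    [3],
    [0, 1],
    [3, 1],
    [2, 3],
    [3, 0, 1],
    [2, 3, 1],
    [2, 3, 0, 1],
    [1, 2, 3, 0, 1],
    [2, 1, 2, 3, 0, 1],
    [3, 2, 1, 2, 3, 0, 1]]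

def invF4Steps2 : List (List (ℕ × List ℕ)) :=
  [[(0, [0]), (1, []), (0, [3]), (2, [])],
    [(3, []), (0, []), (1, [1]), (4, [])],
    [(2, [0]), (4, []), (5, []), (0, [])],
    [(1, []), (3, [0]), (3, [1]), (6, [])],
    [(6, []), (2, []), (7, []), (1, [])],
    [(5, [0]), (5, [2]), (2, []), (5, [3])],
    [(4, []), (6, [0]), (8, []), (3, [])],
    [(8, []), (7, [2]), (4, []), (7, [1])],
    [(7, []), (9, []), (6, []), (8, [1])],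
    [(9, [2]), (8, []), (10, []), (9, [1])],
    [(10, [2]), (10, [0]), (9, []), (11, [])],
    [(11, [2]), (11, [0]), (11, [1]), (10, [])]]

/-- The stabiliser data of seed 2 of type F4. -/
def invF4Stab2 : StabData :=
  ⟨4, [invF4Gen2_0, invF4Gen2_1, invF4Gen2_2, invF4Gen2_3],
    [invF4Level2_4, invF4Level2_3, invF4Level2_2, invF4Level2_1],
    invF4Orbit2, invF4Steps2, [2, 2, 4, 6]⟩

/-- Words moving every mask to a seed. -/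
def invF4Masks : List (Bool × List ℕ) :=
  [(true, []),
    (true, [0, 1]),
    (true, []),
    (true, [1]),
    (false, [2, 3]),
    (false, [2, 3, 1]),
    (false, [1, 2, 3, 0, 1]),
    (false, [2, 3, 0, 1]),
    (false, [3, 2, 1, 2, 3, 0, 1]),
    (false, [0, 1]),
    (false, []),
    (false, [1]),
    (false, [2, 1, 2, 3, 0, 1]),
    (false, [3, 0, 1]),
    (false, [3]),
    (false, [3, 1])]

end Cfsg.Agent.Lie.Chev
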