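import Cfsg.Agent.Lib.Lie.Chev.ToralBase
import Cfsg.Agent.Lib.Lie.Chev.Poincare

/-! Reflections in arbitrary roots, and roots negated by involutions of the Weyl group, read on
words. -/

set_option autoImplicit false

namespace Cfsg.Agent.Lie.Chev

open Cfsg.Lie Matrix

namespace CertFull

variable {D : ChevalleyDatum} (c : CertFull D) {F : Type*} [Field F]
include c

theorem eq_of_vec {r s : ℕ} (hr : r < D.nroots) (hs : s < D.nroots)
    (h : ∀ j < D.rank, c.T.vec r j = c.T.vec s j) : r = s := by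
  refine c.code_inj hr hs ?_
  rw [(c.linear_root hr).1, (c.linear_root hs).1]
  refine congrArg List.sum (List.map_congr_left fun j hj => ?_)
  rw [h j (c.rank_eq.symm ▸ List.mem_range.1 hj)]

/-- A word maps a linear combination of negated roots to its negative. -/
theorem wl_neg_of_comb {L : List ℕ} (hL : ∀ p ∈ L, p < D.rank) {ι : Type*} (s : Finset ι)
    (f : ι → ℕ) (e : ι → ℤ) (hf : ∀ i ∈ s, f i < D.nroots)
    (hw : ∀ i ∈ s, c.wl L (f i) = D.neg (f i)) {u : ℕ} (hu : u < D.nroots) {k : ℤ} (hk : k ≠ 0)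
    (hv : ∀ j < D.rank, k * c.T.vec u j = ∑ i ∈ s, e i * c.T.vec (f i) j) :
    c.wl L u = D.neg u := by
  refine c.eq_of_vec (c.wl_lt hL hu) (c.neg_lt hu) fun j hj => mul_left_cancel₀ hk ?_
  rw [c.vec_neg hu hj, mul_neg, hv j hj, c.wl_vec hL hu hj, Finset.mul_sum]
  calc ∑ m ∈ Finset.range D.rank, k * (c.T.vec u m * c.T.vec (c.wl L (D.simple m)) j)
      = ∑ m ∈ Finset.range D.rank, ∑ i ∈ s,
          e i * (c.T.vec (f i) m * c.T.vec (c.wl L (D.simple m)) j) := by
        refine Finset.sum_congr rfl fun m hm => ?_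
        rw [← mul_assoc, hv m (Finset.mem_range.1 hm), Finset.sum_mul]
        simp only [mul_assoc]
    _ = ∑ i ∈ s, e i * c.T.vec (c.wl L (f i)) j := by
        rw [Finset.sum_comm]
        refine Finset.sum_congr rfl fun i hi => ?_
        rw [c.wl_vec hL (hf i hi) hj, Finset.mul_sum]
    _ = _ := by
        rw [← Finset.sum_neg_distrib]
        refine Finset.sum_congr rfl fun i hi => ?_
        rw [hw i hi, c.vec_neg (hf i hi) hj, mul_neg]

/-- A word acts as the reflection in a root. -/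
def IsRefl (R : List ℕ) (r : ℕ) : Prop :=
  (∀ p ∈ R, p < D.rank) ∧ ∀ u < D.nroots, ∀ j < D.rank,
    c.T.vec (c.wl R u) j = c.T.vec u j - c.T.pairing r u * c.T.vec r j

theorem nw_reverse {L : List ℕ} (hL : ∀ p ∈ L, p < D.rank) :
    c.nw F L * c.nw F L.reverse ∈ D.diagonalSubgroup F := by
  rw [← c.nw_append]
  have h : ∀ p ∈ L ++ L.reverse, p < D.rank := fun p hp =>
    (List.mem_append.1 hp).elim (hL p) fun h => hL p (List.mem_reverse.1 h)
  refine c.nw_mem_H h fun q hq => ?_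
  rw [c.wl_append]
  rw [c.wl_reverse hL (c.simple_lt hq)]
  exact c.pos_simple hq

theorem exists_refl {r : ℕ} (hr : r < D.nroots) :
    ∃ R : List ℕ, c.IsRefl R r ∧ ∀ v : F, v ≠ 0 →
      ∃ a ∈ D.diagonalSubgroup F, c.ng r v = a * c.nw F R := by
  obtain ⟨L, hL, p, hp, rfl⟩ : ∃ L : List ℕ, (∀ q ∈ L, q < D.rank) ∧ ∃ p < D.rank,
      c.wl L (D.simple p) = r := by
    refine c.root_induction (P := fun r => ∃ L : List ℕ, (∀ q ∈ L, q < D.rank) ∧ ∃ p < D.rank,
      c.wl L (D.simple p) = r) (fun i hi => ⟨[], by simp, i, hi, rfl⟩)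
      (fun q hq r _ ⟨L, hL, p, hp, e⟩ => ⟨q :: L, ?_, p, hp, by rw [c.wl_cons, e]⟩) r hr
    simp only [List.mem_cons, forall_eq_or_imp]
    exact ⟨hq, hL⟩
  have hα := c.simple_lt hp
  have hrev : ∀ q ∈ L.reverse, q < D.rank := fun q hq => hL q (List.mem_reverse.1 hq)
  refine ⟨L ++ p :: L.reverse, ⟨fun q hq => ?_, fun u hu j hj => ?_⟩, fun v hv => ?_⟩
  · simp only [List.mem_append, List.mem_cons, List.mem_reverse] at hq
    rcases hq with h | rfl | h
    exacts [hL q h, hp, hL q h]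
  · set u' := c.wl L.reverse u with hu'
    have hu'l : u' < D.nroots := c.wl_lt hrev hu
    have hback : c.wl L u' = u := by
      rw [hu']
      exact c.wl_reverse hL hu
    have hpair : D.cartan p u' = c.T.pairing (c.wl L (D.simple p)) u := by
      rw [← hback, c.pairing_wl hL hα hu'l, c.pairing_simple hp, c.cartan_eq hp hu'l]
    rw [c.wl_append, Cert.wl_cons, ← hu', c.wl_vec hL (c.w_lt hp hu'l) hj,
      Finset.sum_congr rfl fun i hi => by
        rw [c.vec_w hp hu'l (Finset.mem_range.1 hi), sub_mul, ite_mul, zero_mul],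
      Finset.sum_sub_distrib, Finset.sum_ite_eq', if_pos (Finset.mem_range.2 hp),
      ← c.wl_vec hL hu'l hj, hback, hpair]
  · obtain ⟨σ, hσ, hσ0⟩ : ∃ σ : F, c.nw F L * c.np F p = c.ng (c.wl L (D.simple p)) σ * c.nw F L ∧
        σ ≠ 0 :=
      ⟨_, c.nw_mul_ng hL hα 1, mul_ne_zero (c.wsign_ne_zero _ _) one_ne_zero⟩
    set r := c.wl L (D.simple p)
    have e : c.ng r v = c.hg r v * (c.hg r σ)⁻¹ * c.ng r σ := by
      simp only [Cert.hg, _root_.mul_inv_rev]
      group
    set P := c.nw F L * c.nw F L.reverse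
    have e2 : c.ng r σ = (c.ng r σ * P⁻¹ * (c.ng r σ)⁻¹) * c.nw F (L ++ p :: L.reverse) := by
      rw [c.nw_append, Cert.nw_cons, ← mul_assoc (c.nw F L), hσ]
      simp only [P]
      group
    refine ⟨c.hg r v * (c.hg r σ)⁻¹ * (c.ng r σ * P⁻¹ * (c.ng r σ)⁻¹),
      mul_mem (mul_mem (c.hg_mem hr hv) (inv_mem (c.hg_mem hr hσ0)))
        (c.N_conj_H (c.ng_mem_N hr hσ0) (inv_mem (c.nw_reverse hL))), ?_⟩
    rw [mul_assoc, ← e2]
    exact e

theorem nw_mul_H {L : List ℕ} (hL : ∀ p ∈ L, p < D.rank) {a : GL D.Idx F}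
    (ha : a ∈ D.diagonalSubgroup F) :
    ∃ b ∈ D.diagonalSubgroup F, c.nw F L * a = b * c.nw F L :=
  ⟨_, c.nw_conj_H hL ha, by group⟩

/-- Products in normal form. -/
theorem mono_mul {a b : GL D.Idx F} (ha : a ∈ D.diagonalSubgroup F)
    (hb : b ∈ D.diagonalSubgroup F) {L M : List ℕ} (hL : ∀ p ∈ L, p < D.rank) :
    ∃ d ∈ D.diagonalSubgroup F, a * c.nw F L * (b * c.nw F M) = d * c.nw F (L ++ M) := by
  obtain ⟨b', hb', e⟩ := c.nw_mul_H hL hb
  refine ⟨a * b', mul_mem ha hb', ?_⟩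
  rw [c.nw_append, mul_assoc a, ← mul_assoc _ b, e]
  group

theorem wl_of_sq {a : GL D.Idx F} (ha : a ∈ D.diagonalSubgroup F) {L : List ℕ}
    (hL : ∀ p ∈ L, p < D.rank) (h : (a * c.nw F L) * (a * c.nw F L) = 1) {s : ℕ}
    (hs : s < D.nroots) : c.wl L (c.wl L s) = s := by
  obtain ⟨d, hd, e⟩ := c.mono_mul (F := F) ha ha (M := L) hL
  have h' : d * c.nw F (L ++ L) = 1 * c.nw F [] := by rw [← e, h, Cert.nw_nil, mul_one]
  have := c.wl_eq_of_eq hd (one_mem _)
    (fun p hp => (List.mem_append.1 hp).elim (hL p) (hL p)) (by simp) h' hs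
  rwa [c.wl_append, Cert.wl_nil] at this

/-- A word which moves some root but keeps every simple root positive does not exist. -/
theorem exists_descentNode {L : List ℕ} (hL : ∀ p ∈ L, p < D.rank) {s : ℕ} (hs : s < D.nroots)
    (hne : c.wl L s ≠ s) : ∃ q < D.rank, ¬ c.Pos (c.wl L (D.simple q)) := by
  by_contra h
  push Not at h
  have hH := c.nw_mem_H (F := ℚ) hL h
  exact hne (c.wl_eq_of_eq (L := L) (M := []) (one_mem _) hH hL (by simp) (by simp) hs)

/-- An involution which moves a root negates a root. -/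
theorem exists_negated : ∀ (L : List ℕ), (∀ p ∈ L, p < D.rank) →
    (∀ s < D.nroots, c.wl L (c.wl L s) = s) → (∃ s < D.nroots, c.wl L s ≠ s) →
    ∃ r < D.nroots, c.wl L r = D.neg r := by
  intro L
  induction hn : c.invN L using Nat.strong_induction_on generalizing L with
  | _ n ih =>
  subst hn
  intro hL hinv ⟨s, hs, hne⟩
  obtain ⟨q, hq, hneg⟩ := c.exists_descentNode hL hs hne
  have hα := c.simple_lt hq
  by_cases hα' : c.wl L (D.simple q) = D.neg (D.simple q)
  · exact ⟨_, hα, hα'⟩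
  set M := q :: (L ++ [q]) with hMdef
  have hM : ∀ p ∈ M, p < D.rank := by
    intro p hp
    simp only [M, List.mem_cons, List.mem_append, List.not_mem_nil, or_false] at hp
    rcases hp with rfl | h | rfl
    exacts [hq, hL p h, hq]
  have hMe : ∀ x, c.wl M x = c.w q (c.wl L (c.w q x)) := fun x => by
    rw [hMdef, Cert.wl_cons, c.wl_append, Cert.wl_cons, Cert.wl_nil]
  have hwn : c.w q (D.neg (D.simple q)) = D.simple q := by
    rw [c.w_neg hq hα, c.w_simple hq, c.neg_neg hα]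
  have hαn : c.Pos (D.neg (c.wl L (D.simple q))) := (c.not_pos_iff (c.wl_lt hL hα)).1 hneg
  have hMα : c.Pos (c.wl M (D.simple q)) := by
    rw [hMe, c.w_simple hq, c.wl_neg hL hα]
    refine (c.pos_w hq hαn fun e => hα' ?_).1
    have e' := congrArg D.neg e
    rwa [c.neg_neg (c.wl_lt hL hα)] at e'
  have hlt : c.invN M < c.invN L := by
    unfold invN
    rw [Nat.card_coe_set_eq, Nat.card_coe_set_eq]
    set A := {r : ℕ | c.Pos r ∧ ¬ c.Pos (c.wl M r)}
    set B := {r : ℕ | c.Pos r ∧ ¬ c.Pos (c.wl L r)}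
    have hmap : ∀ r ∈ A, c.w q r ∈ B \ {D.simple q} := by
      rintro r ⟨hr, hrM⟩
      have hrne : r ≠ D.simple q := fun e => hrM (e ▸ hMα)
      obtain ⟨h1, h3⟩ := c.pos_w hq hr hrne
      refine ⟨⟨h1, fun hp => hrM ?_⟩, h3⟩
      rw [hMe]
      refine (c.pos_w hq hp fun e => ?_).1
      have := hinv _ h1.2
      rw [e] at this
      exact hneg (this ▸ h1)
    calc A.ncard ≤ (B \ {D.simple q}).ncard :=
          Set.ncard_le_ncard_of_injOn (fun r => c.w q r) hmap
            (fun x hx y hy e => by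
              have := congrArg (c.w q) e
              simpa only [c.w_w hq hx.1.2, c.w_w hq hy.1.2] using this)
            ((c.finite_inv L).sdiff)
      _ < B.ncard := Set.ncard_sdiff_singleton_lt_of_mem ⟨c.pos_simple hq, hneg⟩ (c.finite_inv L)
  obtain ⟨r, hr, hrn⟩ := ih _ hlt M rfl hM (fun x hx => by
      rw [hMe, hMe, c.w_w hq (c.wl_lt hL (c.w_lt hq hx)), hinv _ (c.w_lt hq hx), c.w_w hq hx])
    ⟨c.w q s, c.w_lt hq hs, fun e => hne (by
      rw [hMe, c.w_w hq hs] at e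
      have := congrArg (c.w q) e
      rwa [c.w_w hq (c.wl_lt hL hs), c.w_w hq hs] at this)⟩
  refine ⟨c.w q r, c.w_lt hq hr, ?_⟩
  rw [hMe] at hrn
  have := congrArg (c.w q) hrn
  rwa [c.w_w hq (c.wl_lt hL (c.w_lt hq hr)), c.w_neg hq hr] at this

end CertFull

end Cfsg.Agent.Lie.Chev
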