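import Cfsg.Agent.Lib.Lie.Chev.SteinbergInst
import Cfsg.Agent.Lib.Classical.QuadBasic
import Cfsg.Prelude.Def_Classical

/-! `B₂(F) ≅ PΩ₅(F)`. -/

set_option autoImplicit false

namespace Cfsg.Agent.Lie.Chev

open Cfsg.Lie
open scoped commutatorElement

/-- A simple Chevalley group is the central quotient of any nontrivial image of its cover. -/
theorem CertFull.iso_of_coverHom {D : ChevalleyDatum} (c : CertFull D) (F : Type*) [Field F]
    (hN : checkNbr c.T = true) (hperf : commutator (D.SteinbergCover F) = ⊤)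
    (hsimple : IsSimpleGroup ↥(D.group F)) {O : Type*} [Group O] (S : Subgroup O)
    (ψ : D.SteinbergCover F →* O) (hrange : ψ.range = S) (hne : ∃ x, ψ x ≠ 1) :
    Nonempty (↥(D.group F) ≃* ↥S ⧸ Subgroup.center ↥S) := by
  set A := c.stCoverData F
  let ψ' : D.SteinbergCover F →* ↥S := ψ.codRestrict _ fun x => hrange ▸ ⟨x, rfl⟩
  have hψ : Function.Surjective ψ' := fun y => by
    obtain ⟨x, hx⟩ : (y : O) ∈ ψ.range := hrange.symm ▸ y.2
    exact ⟨x, Subtype.ext hx⟩
  let φ : D.SteinbergCover F →* ↥S ⧸ Subgroup.center ↥S := (QuotientGroup.mk' _).comp ψ'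
  have hφ : Function.Surjective φ := (QuotientGroup.mk'_surjective _).comp hψ
  let θ' : D.SteinbergCover F →* ↥(D.group F) := A.θ.codRestrict _ A.θ_mem_group
  have hθ : Function.Surjective θ' := fun g => by
    obtain ⟨x, hx⟩ := A.θ_surj g.2
    exact ⟨x, Subtype.ext hx⟩
  have hker : θ'.ker ≤ φ.ker := fun z hz => by
    have hz' : z ∈ Subgroup.center _ :=
      (A.ker_le hN).trans inf_le_right (congrArg Subtype.val (MonoidHom.mem_ker.1 hz))
    rw [MonoidHom.mem_ker]
    refine (QuotientGroup.eq_one_iff _).2 (Subgroup.mem_center_iff.2 fun y => ?_)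
    obtain ⟨x, rfl⟩ := hψ y
    rw [← map_mul, ← map_mul, Subgroup.mem_center_iff.1 hz' x]
  let f : ↥(D.group F) →* ↥S ⧸ Subgroup.center ↥S := θ'.liftOfSurjective hθ ⟨φ, hker⟩
  have hf : ∀ x, f (θ' x) = φ x := fun x =>
    MonoidHom.liftOfRightInverse_comp_apply _ _ _ ⟨φ, hker⟩ x
  have hfs : Function.Surjective f := fun y => by
    obtain ⟨x, rfl⟩ := hφ y
    exact ⟨θ' x, hf x⟩
  refine ⟨MulEquiv.ofBijective f ⟨(MonoidHom.ker_eq_bot_iff f).1 ?_, hfs⟩⟩
  refine ((hsimple.eq_bot_or_eq_top_of_normal f.ker inferInstance)).resolve_right fun htop => ?_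
  have hall : ∀ x, ψ' x ∈ Subgroup.center ↥S := fun x => by
    rw [← QuotientGroup.eq_one_iff]
    show φ x = 1
    rw [← hf x, ← MonoidHom.mem_ker, htop]; trivial
  obtain ⟨x, hx⟩ := hne
  refine hx ?_
  suffices commutator (D.SteinbergCover F) ≤ ψ'.ker from
    congrArg Subtype.val (this (hperf.symm ▸ Subgroup.mem_top x))
  rw [commutator_def, Subgroup.commutator_le]
  intro a _ b _
  rw [MonoidHom.mem_ker, map_commutatorElement, commutatorElement_eq_one_iff_mul_comm]
  exact Subgroup.mem_center_iff.1 (hall b) _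

namespace IsoB2

open Matrix Cfsg.Agent.Classical

abbrev H4 : Type := Fin 2 ⊕ Fin 2

abbrev I5 : Type := Unit ⊕ H4

/-- A hyperbolic coordinate. -/
abbrev hc (a : H4) : I5 := .inr a

/-- The anisotropic coordinate. -/
abbrev zc : I5 := .inl ()

section Elements

variable {F : Type*} [Field F]

/-- A long root matrix. -/
def longM (a b : H4) (c : F) : Matrix I5 I5 F :=
  1 + (single (hc b) (hc a.swap) c + single (hc a) (hc b.swap) (-c))

/-- A short root matrix. -/
def shortM (a : H4) (t : F) : Matrix I5 I5 F :=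
  1 + (single zc (hc a.swap) t +
    (single (hc a) zc (-2 * t) + single (hc a) (hc a.swap) (-(t ^ 2))))

theorem longM_apply (a b : H4) (c : F) (v : I5 → F) (k : I5) :
    (longM a b c *ᵥ v) k = v k + (if k = hc b then c * v (hc a.swap) else 0) +
      (if k = hc a then -c * v (hc b.swap) else 0) := by
  rw [longM, Matrix.add_mulVec, Matrix.one_mulVec, Matrix.add_mulVec, Matrix.single_mulVec_eq,
    Matrix.single_mulVec_eq]
  simp [Pi.single_apply, add_assoc]
  split_ifs <;> simp

theorem shortM_apply (a : H4) (t : F) (v : I5 → F) (k : I5) :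
    (shortM a t *ᵥ v) k = v k + (if k = zc then t * v (hc a.swap) else 0) +
      (if k = hc a then -2 * t * v zc - t ^ 2 * v (hc a.swap) else 0) := by
  rw [shortM, Matrix.add_mulVec, Matrix.one_mulVec, Matrix.add_mulVec, Matrix.add_mulVec,
    Matrix.single_mulVec_eq, Matrix.single_mulVec_eq, Matrix.single_mulVec_eq]
  simp only [Pi.add_apply, Pi.smul_apply, Pi.single_apply, smul_eq_mul, mul_ite, mul_one, mul_zero]
  split_ifs <;> ring

theorem longM_swap (a b : H4) (c : F) : longM b a (-c) = longM a b c := by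
  rw [longM, longM, neg_neg, add_comm (single (hc a) _ _)]

theorem longM_mul {a b : H4} (h : b ≠ a.swap) (h' : b ≠ a) (c d : F) :
    longM a b c * longM a b d = longM a b (c + d) := by
  refine Matrix.ext_iff_mulVec.2 fun v => funext fun k => ?_
  rw [← Matrix.mulVec_mulVec, longM_apply, longM_apply, longM_apply, longM_apply, longM_apply]
  have h2 : hc a.swap ≠ hc b := by simpa using Ne.symm h
  have h3 : hc a.swap ≠ hc a := by rcases a with a | a <;> simp
  have h4 : hc b.swap ≠ hc b := by rcases b with b | b <;> simp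
  have h5 : hc b.swap ≠ hc a := by
    intro e; exact h (by rw [← Sum.inr_injective e, Sum.swap_swap])
  simp only [h2, h3, h4, h5, if_false]
  split_ifs <;> ring

theorem shortM_mul (a : H4) (s t : F) : shortM a s * shortM a t = shortM a (s + t) := by
  refine Matrix.ext_iff_mulVec.2 fun v => funext fun k => ?_
  rw [← Matrix.mulVec_mulVec]
  have h3 : hc a.swap ≠ hc a := by rcases a with a | a <;> simp
  have h4 : hc a.swap ≠ zc := by simp
  have h5 : zc ≠ hc a := by simp
  simp only [shortM_apply, h3, h4, h5, if_false, if_true]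
  split_ifs with h6 h7 <;> first | ring | (exfalso; simp_all)

theorem longM_zero (a b : H4) : longM a b (0 : F) = 1 := by simp [longM]

theorem shortM_zero (a : H4) : shortM a (0 : F) = 1 := by simp [shortM]

theorem longM_quad {a b : H4} (h : b ≠ a.swap) (h' : b ≠ a) (c : F) (v : I5 → F) :
    quadFormOdd 2 F (longM a b c *ᵥ v) = quadFormOdd 2 F v := by
  simp only [quadFormOdd, Fin.sum_univ_two, longM_apply]
  rcases a with a | a <;> rcases b with b | b <;> fin_cases a <;> fin_cases b <;>
    simp_all <;> ring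

theorem shortM_quad (a : H4) (t : F) (v : I5 → F) :
    quadFormOdd 2 F (shortM a t *ᵥ v) = quadFormOdd 2 F v := by
  simp only [quadFormOdd, Fin.sum_univ_two, shortM_apply]
  rcases a with a | a <;> fin_cases a <;> simp <;> ring

/-- A long root element. -/
noncomputable def longE {a b : H4} (h : b ≠ a.swap) (h' : b ≠ a) (c : F) :
    isometryGroup F (quadFormOdd 2 F) :=
  mkIsometry (longM a b c) (fun e => by
    have := congrArg Matrix.det (longM_mul h h' c (-c))
    rw [Matrix.det_mul, e, zero_mul, add_neg_cancel, longM_zero, Matrix.det_one] at this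
    exact zero_ne_one this) (longM_quad h h' c)

/-- A short root element. -/
noncomputable def shortE (a : H4) (t : F) : isometryGroup F (quadFormOdd 2 F) :=
  mkIsometry (shortM a t) (fun e => by
    have := congrArg Matrix.det (shortM_mul a t (-t))
    rw [Matrix.det_mul, e, zero_mul, add_neg_cancel, shortM_zero, Matrix.det_one] at this
    exact zero_ne_one this) (shortM_quad a t)

/-- The matrix of an isometry. -/
def mat (g : isometryGroup F (quadFormOdd 2 F)) : Matrix I5 I5 F :=
  ((g : GL I5 F) : Matrix I5 I5 F)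

theorem mat_ext {g k : isometryGroup F (quadFormOdd 2 F)} (h : mat g = mat k) : g = k :=
  Subtype.ext (Units.ext h)

theorem mat_mul (g k : isometryGroup F (quadFormOdd 2 F)) : mat (g * k) = mat g * mat k := rfl

theorem mat_one : mat (1 : isometryGroup F (quadFormOdd 2 F)) = 1 := rfl

theorem mat_longE {a b : H4} (h : b ≠ a.swap) (h' : b ≠ a) (c : F) :
    mat (longE h h' c) = longM a b c := rfl

theorem mat_shortE (a : H4) (t : F) : mat (shortE a t) = shortM a t := rfl

theorem mat_quad (g : isometryGroup F (quadFormOdd 2 F)) (v : I5 → F) :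
    quadFormOdd 2 F (mat g *ᵥ v) = quadFormOdd 2 F v := mem_isometryGroup.1 g.2 v

end Elements

section Table

/-- The planes or points of the root elements, with signs. -/
def rootTab : List ((H4 × H4 ⊕ H4) × ℤ) :=
  [(.inl (.inr 0, .inr 1), 1), (.inr (.inr 0), 1), (.inr (.inr 1), 1), (.inl (.inr 0, .inl 1), 1),
   (.inl (.inl 0, .inr 1), -1), (.inr (.inl 1), -1), (.inr (.inl 0), -1),
   (.inl (.inl 0, .inl 1), -1)]

/-- The entry of a root. -/
def tab (r : ℕ) : (H4 × H4 ⊕ H4) × ℤ := rootTab.getD r (.inr (.inl 0), 0)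

/-- The non-identity entries of a root element, with the powers of the parameter. -/
def ent (r : ℕ) : List (I5 × I5 × ℕ × ℤ) :=
  match tab r with
  | (.inl (a, b), σ) => [(hc b, hc a.swap, 1, σ), (hc a, hc b.swap, 1, -σ)]
  | (.inr a, σ) => [(zc, hc a.swap, 1, σ), (hc a, zc, 1, -2 * σ), (hc a, hc a.swap, 2, -1)]

/-- Entries `c t^p u^q`. -/
abbrev PE : Type := I5 × I5 × ℕ × ℕ × ℤ

/-- The identity. -/
def oneP : List PE :=
  ([zc, hc (.inl 0), hc (.inl 1), hc (.inr 0), hc (.inr 1)] : List I5).map fun k => (k, k, 0, 0, 1)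

/-- The root element with parameter `C t^i u^j`. -/
def xP (r : ℕ) (C : ℤ) (i j : ℕ) : List PE :=
  oneP ++ (ent r).map fun e => (e.1, e.2.1, e.2.2.1 * i, e.2.2.1 * j, e.2.2.2 * C ^ e.2.2.1)

/-- Products. -/
def pmul (L M : List PE) : List PE :=
  L.flatMap fun x => (M.filter fun y => decide (x.2.1 = y.1)).map fun y =>
    (x.1, y.2.1, x.2.2.1 + y.2.2.1, x.2.2.2.1 + y.2.2.2.1, x.2.2.2.2 * y.2.2.2.2)

/-- A coefficient. -/
def pcoef (L : List PE) (k : I5 × I5 × ℕ × ℕ) : ℤ :=
  (L.map fun x => if (x.1, x.2.1, x.2.2.1, x.2.2.2.1) = k then x.2.2.2.2 else 0).sum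

/-- Equality of coefficients. -/
def sameP (L M : List PE) : Bool :=
  (L ++ M).all fun x => pcoef L (x.1, x.2.1, x.2.2.1, x.2.2.2.1) ==
    pcoef M (x.1, x.2.1, x.2.2.1, x.2.2.2.1)

/-- The relation of a pair as a polynomial identity. -/
def checkPair (r s : ℕ) : Bool :=
  sameP (pmul (xP s 1 0 1) (xP r 1 1 0))
    (pmul (pmul (xP r 1 1 0) (xP s 1 0 1))
      ((certFullB2.T.commTerms r s).foldr
        (fun x acc => pmul (xP x.1 (x.2.1 * (-1) ^ x.2.2.1) x.2.2.1 x.2.2.2) acc) oneP))

theorem checkPair_all : ∀ r s : Fin 8, (s : ℕ) ≠ (r : ℕ) → (s : ℕ) ≠ certFullB2.T.neg r →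
    checkPair r s = true := by decide +kernel

/-- Admissibility of a table entry. -/
def tabOkB : (H4 × H4 ⊕ H4) × ℤ → Bool
  | (.inl (a, b), _) => decide (b ≠ a.swap) && decide (b ≠ a)
  | (.inr _, σ) => σ * σ == 1

theorem tab_okB : ∀ r : Fin 8, tabOkB (tab r) = true := by decide +kernel

theorem tab_ok (r : Fin 8) : match (tab r).1 with
    | .inl (a, b) => b ≠ a.swap ∧ b ≠ a
    | .inr _ => (tab r).2 * (tab r).2 = 1 := by
  have h := tab_okB r
  revert h
  rcases tab r with ⟨⟨a, b⟩ | a, σ⟩ <;> simp [tabOkB]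

theorem long_cover : ∀ a b : H4, b ≠ a.swap → b ≠ a → ∃ r : Fin 8,
    ((tab r).1 = .inl (a, b) ∨ (tab r).1 = .inl (b, a)) ∧ (tab r).2 * (tab r).2 = 1 := by
  decide +kernel

theorem short_cover : ∀ a : H4, ∃ r : Fin 8,
    (tab r).1 = .inr a ∧ (tab r).2 * (tab r).2 = 1 := by decide +kernel

variable {F : Type*} [Field F] (t u : F)

/-- Evaluation. -/
def evalP (L : List PE) : Matrix I5 I5 F :=
  (L.map fun x => single x.1 x.2.1 ((x.2.2.2.2 : F) * (t ^ x.2.2.1 * u ^ x.2.2.2.1))).sum

theorem evalP_cons (x : PE) (L : List PE) : evalP t u (x :: L) =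
    single x.1 x.2.1 ((x.2.2.2.2 : F) * (t ^ x.2.2.1 * u ^ x.2.2.2.1)) + evalP t u L := by
  simp [evalP]

theorem evalP_nil : evalP t u [] = 0 := rfl

theorem evalP_append (L M : List PE) : evalP t u (L ++ M) = evalP t u L + evalP t u M := by
  simp [evalP]

theorem evalP_pmul (L M : List PE) : evalP t u (pmul L M) = evalP t u L * evalP t u M := by
  induction L with
  | nil => simp [pmul, evalP]
  | cons x L ih =>
    rw [pmul, List.flatMap_cons, ← pmul, evalP_append, ih, evalP_cons, Matrix.add_mul]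
    congr 1
    clear ih
    induction M with
    | nil => simp [evalP]
    | cons y M ih =>
      rw [evalP_cons, Matrix.mul_add, ← ih]
      by_cases h : x.2.1 = y.1
      · rw [List.filter_cons_of_pos (by simpa using h), List.map_cons, evalP_cons, h,
          Matrix.single_mul_single_same]
        congr 2
        push_cast
        ring
      · rw [List.filter_cons_of_neg (by simpa using h), Matrix.single_mul_single_of_ne (h := h),
          zero_add]

theorem evalP_eq_sum (L : List PE) (S : Finset (I5 × I5 × ℕ × ℕ))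
    (hS : ∀ x ∈ L, (x.1, x.2.1, x.2.2.1, x.2.2.2.1) ∈ S) :
    evalP t u L = ∑ k ∈ S, single k.1 k.2.1 ((pcoef L k : F) * (t ^ k.2.2.1 * u ^ k.2.2.2)) := by
  induction L with
  | nil => simp [evalP, pcoef]
  | cons x L ih =>
    rw [evalP_cons, ih fun y hy => hS y (by simp [hy])]
    simp only [pcoef, List.map_cons, List.sum_cons, Int.cast_add, add_mul, Matrix.single_add,
      Finset.sum_add_distrib]
    congr 1
    rw [Finset.sum_eq_single (x.1, x.2.1, x.2.2.1, x.2.2.2.1)]
    · simp
    · intro k _ hk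
      rw [if_neg (Ne.symm hk), Int.cast_zero, zero_mul, Matrix.single_zero]
    · intro h
      exact absurd (hS x (by simp)) h

theorem sameP_eval {L M : List PE} (h : sameP L M = true) : evalP t u L = evalP t u M := by
  classical
  set S := ((L ++ M).map fun x : PE => (x.1, x.2.1, x.2.2.1, x.2.2.2.1)).toFinset
  have hmem : ∀ x ∈ L ++ M, ((x.1, x.2.1, x.2.2.1, x.2.2.2.1) : I5 × I5 × ℕ × ℕ) ∈ S :=
    fun x hx => List.mem_toFinset.2 (List.mem_map.2 ⟨x, hx, rfl⟩)
  rw [evalP_eq_sum t u L S fun x hx => hmem x (by simp [hx]),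
    evalP_eq_sum t u M S fun x hx => hmem x (by simp [hx])]
  refine Finset.sum_congr rfl fun k hk => ?_
  obtain ⟨x, hx, rfl⟩ := List.mem_map.1 (List.mem_toFinset.1 hk)
  simp only [sameP, List.all_eq_true, beq_iff_eq] at h
  rw [h x hx]

theorem evalP_one : evalP t u oneP = 1 := by
  refine Matrix.ext fun i j => ?_
  rcases i with ⟨⟩ | i | i <;> rcases j with ⟨⟩ | j | j <;>
    (try fin_cases i) <;> (try fin_cases j) <;> simp [evalP, oneP, Matrix.single_apply]

variable (F) in
/-- The root element of an index. -/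
noncomputable def root (r : ℕ) (x : F) : isometryGroup F (quadFormOdd 2 F) :=
  match (tab r).1 with
  | .inl (a, b) => if h : b ≠ a.swap ∧ b ≠ a then longE h.1 h.2 (((tab r).2 : F) * x) else 1
  | .inr a => shortE a (((tab r).2 : F) * x)

theorem mat_root {r : ℕ} (hr : r < 8) (C : ℤ) (i j : ℕ) :
    mat (root F r ((C : F) * (t ^ i * u ^ j))) = evalP t u (xP r C i j) := by
  have hok := tab_ok ⟨r, hr⟩
  rw [xP, evalP_append, evalP_one]
  unfold root ent
  rcases hσ : tab r with ⟨⟨a, b⟩ | a, σ⟩ <;> simp only [hσ] at hok ⊢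
  · rw [dif_pos hok, mat_longE, longM]
    simp only [List.map_cons, List.map_nil, evalP_cons, evalP_nil, add_zero, pow_one,
      one_mul, Int.cast_mul, Int.cast_neg]
    congr 2 <;> congr 1 <;> ring
  · rw [mat_shortE, shortM]
    have hσ2 : (σ : F) * σ = 1 := by exact_mod_cast congrArg (Int.cast : ℤ → F) hok
    simp only [List.map_cons, List.map_nil, evalP_cons, evalP_nil, add_zero, pow_one,
      one_mul, Int.cast_mul, Int.cast_neg, Int.cast_ofNat, Int.cast_pow]
    congr 3
    all_goals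
      first
        | (push_cast; ring1)
        | (congr 1; push_cast; ring1)
        | (congr 1; push_cast; linear_combination (-((C : F) * (t ^ i * u ^ j)) ^ 2) * hσ2)

theorem root_add {r : ℕ} (hr : r < 8) (x y : F) : root F r x * root F r y = root F r (x + y) := by
  have hok := tab_ok ⟨r, hr⟩
  unfold root
  rcases hσ : tab r with ⟨⟨a, b⟩ | a, σ⟩ <;> simp only [hσ] at hok ⊢
  · rw [dif_pos hok, dif_pos hok, dif_pos hok]
    exact mat_ext (by rw [mat_mul, mat_longE, mat_longE, mat_longE, longM_mul hok.1 hok.2, mul_add])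
  · exact mat_ext (by rw [mat_mul, mat_shortE, mat_shortE, mat_shortE, shortM_mul, mul_add])

theorem rel_eq {r s : ℕ} (hr : r < 8) (hs : s < 8) (h1 : s ≠ r)
    (h2 : s ≠ certFullB2.T.neg r) (hx : ∀ x ∈ certFullB2.T.commTerms r s, x.1 < 8) :
    root F s u * root F r t = root F r t * root F s u *
      ((certFullB2.T.commTerms r s).map fun x =>
        root F x.1 ((x.2.1 : F) * (-t) ^ x.2.2.1 * u ^ x.2.2.2)).prod := by
  have h := sameP_eval t u (checkPair_all ⟨r, hr⟩ ⟨s, hs⟩ h1 h2)
  have er := mat_root t u hr 1 1 0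
  have es := mat_root t u hs 1 0 1
  simp only [Int.cast_one, one_mul, pow_one, pow_zero, mul_one] at er es
  refine mat_ext ?_
  rw [evalP_pmul, evalP_pmul, evalP_pmul, ← er, ← es] at h
  rw [mat_mul, mat_mul, mat_mul, h]
  congr 1
  clear h
  generalize certFullB2.T.commTerms r s = L at hx ⊢
  induction L with
  | nil => rw [List.foldr_nil, List.map_nil, List.prod_nil, evalP_one, mat_one]
  | cons x L ih =>
    rw [List.foldr_cons, List.map_cons, List.prod_cons, evalP_pmul, mat_mul,
      ih fun y hy => hx y (by simp [hy]), ← mat_root t u (hx x (by simp))]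
    congr 3
    rw [neg_pow]; push_cast; ring

end Table

variable (F : Type*) [Field F]

theorem nroots_B2 : chevB2.nroots = 8 := certFullB2.nroots_eq

/-- The homomorphism from Steinberg's cover. -/
noncomputable def coverHom : chevB2.SteinbergCover F →* isometryGroup F (quadFormOdd 2 F) :=
  PresentedGroup.toGroup (f := fun x : Fin chevB2.nroots × F => root F x.1 x.2) (by
    have hn := nroots_B2
    have hf : ∀ {r : ℕ} (hr : r < chevB2.nroots) (t : F), FreeGroup.lift
        (fun x : Fin chevB2.nroots × F => root F x.1 x.2) (chevB2.stX r t) = root F r t :=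
      fun {r} hr t => by rw [ChevalleyDatum.stX, dif_pos hr, FreeGroup.lift_apply_of]
    rintro g (⟨r, t, u, hr, rfl⟩ | ⟨r, s, t, u, hr, hs, h1, h2, rfl⟩)
    · simp only [map_mul, map_inv, hf hr, root_add (hn ▸ hr), mul_inv_cancel]
    · have c := certFullB2.commTerms_eq hr hs
      rw [map_mul, map_inv, mul_inv_eq_one]
      simp only [map_mul, map_inv, hf hr, hf hs]
      rw [ChevalleyDatum.stWord, ChevalleyDatum.commWord, c, map_list_prod,
        List.map_map, List.map_map, mul_assoc _ (root F s u)]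
      rw [rel_eq t u (hn ▸ hr) (hn ▸ hs) h1 (by rw [← certFullB2.neg_eq hr]; exact h2)
        (fun x hx => hn ▸ (certFullB2.mem_commTerms hr hs hx).1)]
      have key : ∀ a b z : isometryGroup F (quadFormOdd 2 F), a⁻¹ * b⁻¹ * (b * a * z) = z :=
        fun a b z => by group
      rw [key]
      exact congrArg List.prod (List.map_congr_left fun x hx =>
        (hf (certFullB2.mem_commTerms hr hs hx).1 _).symm))

theorem root_mem_range (r : Fin 8) (x : F) : root F r x ∈ (coverHom F).range := by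
  have hr : (r : ℕ) < chevB2.nroots := by rw [nroots_B2]; exact r.2
  refine ⟨(certFullB2.stCoverData F).X r x, ?_⟩
  show PresentedGroup.toGroup _ (PresentedGroup.mk _ (chevB2.stX (r : ℕ) x)) = _
  rw [ChevalleyDatum.stX, dif_pos hr]
  exact PresentedGroup.toGroup.of _

theorem long_mem {a b : H4} (h : b ≠ a.swap) (h' : b ≠ a) (c : F) :
    longE h h' c ∈ (coverHom F).range := by
  obtain ⟨r, hab, hσ⟩ := long_cover a b h h'
  have hσ' : ((tab r).2 : F) * (tab r).2 = 1 := by exact_mod_cast congrArg (Int.cast : ℤ → F) hσ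
  have hsw : a ≠ b.swap ∧ a ≠ b := ⟨fun e => h (by rw [e, Sum.swap_swap]), Ne.symm h'⟩
  rcases hab with e | e
  · have := root_mem_range F r ((tab r).2 * c)
    unfold root at this
    rw [e] at this
    simp only [dif_pos (And.intro h h'), ← mul_assoc, hσ', one_mul] at this
    exact this
  · have := root_mem_range F r ((tab r).2 * -c)
    unfold root at this
    rw [e] at this
    simp only [dif_pos hsw, ← mul_assoc, hσ', one_mul] at this
    rwa [show longE hsw.1 hsw.2 (-c) = longE h h' c from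
      mat_ext (by rw [mat_longE, mat_longE, longM_swap])] at this

theorem short_mem (a : H4) (t : F) : shortE a t ∈ (coverHom F).range := by
  obtain ⟨r, e, hσ⟩ := short_cover a
  have hσ' : ((tab r).2 : F) * (tab r).2 = 1 := by exact_mod_cast congrArg (Int.cast : ℤ → F) hσ
  have := root_mem_range F r ((tab r).2 * t)
  unfold root at this
  rw [e] at this
  simp only [← mul_assoc, hσ', one_mul] at this
  exact this

section Generation

variable {F}

local notation "O5" => isometryGroup F (quadFormOdd 2 F)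

/-- A coordinate vector. -/
def bv (k : I5) : I5 → F := Pi.single k 1

/-- The polar form. -/
def pol (u v : I5 → F) : F :=
  quadFormOdd 2 F (u + v) - quadFormOdd 2 F u - quadFormOdd 2 F v

theorem pol_eq (u v : I5 → F) : pol u v = 2 * (u zc * v zc) +
    (u (hc (.inl 0)) * v (hc (.inr 0)) + v (hc (.inl 0)) * u (hc (.inr 0))) +
    (u (hc (.inl 1)) * v (hc (.inr 1)) + v (hc (.inl 1)) * u (hc (.inr 1))) := by
  simp [pol, quadFormOdd, Fin.sum_univ_two]; ring

theorem pol_mat (g : O5) (u v : I5 → F) : pol (mat g *ᵥ u) (mat g *ᵥ v) = pol u v := by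
  rw [pol, pol, ← Matrix.mulVec_add, mat_quad, mat_quad, mat_quad]

theorem mat_mul_vec (g k : O5) (v : I5 → F) : mat (g * k) *ᵥ v = mat g *ᵥ (mat k *ᵥ v) := by
  rw [mat_mul, Matrix.mulVec_mulVec]

theorem exists_to_x0 {v : I5 → F} (hv : v ≠ 0) (hq : quadFormOdd 2 F v = 0) :
    ∃ g ∈ (coverHom F).range, mat g *ᵥ v = bv (hc (.inl 0)) := by
  let T : (I5 → F) → Prop := fun v => ∃ g ∈ (coverHom F).range, mat g *ᵥ v = bv (hc (.inl 0))
  have stepL : ∀ {v : I5 → F} (a b : H4) (h : b ≠ a.swap) (h' : b ≠ a) (c : F),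
      T (longM a b c *ᵥ v) → T v := by
    rintro v a b h h' c ⟨g, hg, e⟩
    exact ⟨g * longE h h' c, mul_mem hg (long_mem F h h' c), by rw [mat_mul_vec, mat_longE, e]⟩
  have stepS : ∀ {v : I5 → F} (a : H4) (t : F), T (shortM a t *ᵥ v) → T v := by
    rintro v a t ⟨g, hg, e⟩
    exact ⟨g * shortE a t, mul_mem hg (short_mem F a t), by rw [mat_mul_vec, mat_shortE, e]⟩
  have last : ∀ v : I5 → F, quadFormOdd 2 F v = 0 → v (hc (.inl 0)) = 1 → T v := by
    intro v hq h1
    refine stepL (.inl 1) (.inr 0) (by decide) (by decide) (v (hc (.inl 1))) ?_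
    refine stepL (.inr 1) (.inr 0) (by decide) (by decide) (v (hc (.inr 1))) ?_
    refine stepS (.inr 0) (-v zc) ?_
    set w := shortM (.inr 0) (-v zc) *ᵥ (longM (.inr 1) (.inr 0) (v (hc (.inr 1))) *ᵥ
      (longM (.inl 1) (.inr 0) (v (hc (.inl 1))) *ᵥ v)) with hw
    have e0 : quadFormOdd 2 F w = 0 := by
      rw [hw, shortM_quad, longM_quad (by decide) (by decide), longM_quad (by decide) (by decide),
        hq]
    have ez : w zc = 0 := by simp [hw, shortM_apply, longM_apply, h1, -Matrix.mulVec_mulVec]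
    have e1 : w (hc (.inl 0)) = 1 := by simp [hw, shortM_apply, longM_apply, h1, -Matrix.mulVec_mulVec]
    have e2 : w (hc (.inl 1)) = 0 := by simp [hw, shortM_apply, longM_apply, h1, -Matrix.mulVec_mulVec]
    have e3 : w (hc (.inr 1)) = 0 := by simp [hw, shortM_apply, longM_apply, h1, -Matrix.mulVec_mulVec]
    have e4 : w (hc (.inr 0)) = 0 := by
      simpa [quadFormOdd, Fin.sum_univ_two, ez, e1, e2, e3] using e0
    refine ⟨1, one_mem _, ?_⟩
    rw [mat_one, Matrix.one_mulVec]
    funext k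
    rcases k with ⟨⟩ | k | k <;> (try fin_cases k) <;> simp [bv, ez, e1, e2, e3, e4]
  have second : ∀ v : I5 → F, quadFormOdd 2 F v = 0 → v (hc (.inl 0)) ≠ 0 → T v := by
    intro v hq h1
    refine stepL (.inl 1) (.inr 0) (by decide) (by decide)
      ((v (hc (.inl 1)) - 1) / v (hc (.inl 0))) ?_
    refine stepL (.inl 0) (.inr 1) (by decide) (by decide) (v (hc (.inl 0)) - 1)
      (last _ (by rw [longM_quad (by decide) (by decide), longM_quad (by decide) (by decide), hq])
        ?_)
    simp [longM_apply]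
    field_simp
    ring
  have third : ∀ v : I5 → F, quadFormOdd 2 F v = 0 → v (hc (.inl 1)) ≠ 0 → T v := by
    intro v hq h1
    by_cases h0 : v (hc (.inl 0)) = 0
    · refine stepL (.inl 0) (.inr 1) (by decide) (by decide) 1
        (second _ (by rw [longM_quad (by decide) (by decide), hq]) ?_)
      simp [longM_apply, h0, h1]
    · exact second v hq h0
  by_cases h0 : v (hc (.inl 0)) = 0
  swap
  · exact second v hq h0
  by_cases h1 : v (hc (.inl 1)) = 0
  swap
  · exact third v hq h1
  by_cases h2 : v (hc (.inr 1)) = 0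
  swap
  · refine stepL (.inl 0) (.inl 1) (by decide) (by decide) 1
      (second _ (by rw [longM_quad (by decide) (by decide), hq]) ?_)
    simp [longM_apply, h0, h2]
  have h3 : v (hc (.inr 0)) ≠ 0 := by
    intro h3
    have hz : v zc = 0 := by simpa [quadFormOdd, Fin.sum_univ_two, h0, h1] using hq
    exact hv (funext fun k => by
      rcases k with ⟨⟩ | k | k <;> (try fin_cases k) <;> simp [hz, h0, h1, h2, h3])
  refine stepL (.inl 1) (.inl 0) (by decide) (by decide) 1
    (third _ (by rw [longM_quad (by decide) (by decide), hq]) ?_)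
  simp [longM_apply, h1, h3]

/-- An isometry is diagonal modulo the root elements. -/
theorem exists_diag (g : O5) : ∃ k ∈ (coverHom F).range, ∃ d : I5 → F,
    mat (k * g) = Matrix.diagonal d := by
  have hq : ∀ k : H4, quadFormOdd 2 F (bv (hc k) : I5 → F) = 0 := fun k => by
    rcases k with k | k <;> fin_cases k <;> simp [bv, quadFormOdd, Fin.sum_univ_two]
  have hne : ∀ k : H4, (bv (hc k) : I5 → F) ≠ 0 := fun k e => by
    simpa [bv] using congrFun e (hc k)
  have hinj' : ∀ g : O5, Function.Injective fun v : I5 → F => mat g *ᵥ v := fun g v w e => by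
    have h := congrArg (fun x => mat g⁻¹ *ᵥ x) e
    simpa [Matrix.mulVec_mulVec, ← mat_mul, mat_one] using h
  have hinj := hinj' g
  obtain ⟨k₁, hk₁, e₁⟩ := exists_to_x0 (v := mat g *ᵥ bv (hc (.inl 0)))
    (fun e => hne _ (hinj (by simpa using e))) (by rw [mat_quad, hq])
  set g₁ := k₁ * g
  have f1 : mat g₁ *ᵥ bv (hc (.inl 0)) = bv (hc (.inl 0)) := by rw [mat_mul_vec, e₁]
  -- the partner
  set f := mat g₁ *ᵥ bv (hc (.inr 0)) with hf
  have fy : f (hc (.inr 0)) = 1 := by
    have h := pol_mat g₁ (bv (hc (.inl 0))) (bv (hc (.inr 0)))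
    rw [f1, ← hf] at h
    simpa [pol_eq, bv] using h
  set k₂ : O5 := shortE (.inl 0) (-f zc) *
    (longE (a := .inr 1) (b := .inl 0) (by decide) (by decide) (f (hc (.inr 1))) *
      longE (a := .inl 1) (b := .inl 0) (by decide) (by decide) (f (hc (.inl 1))))
  have hk₂ : k₂ ∈ (coverHom F).range := mul_mem (short_mem F _ _)
    (mul_mem (long_mem F _ _ _) (long_mem F _ _ _))
  set g₂ := k₂ * g₁
  have s1 : mat g₂ *ᵥ bv (hc (.inl 0)) = bv (hc (.inl 0)) := by
    rw [mat_mul_vec, f1]
    funext k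
    simp only [k₂, mat_mul_vec, mat_shortE, mat_longE, shortM_apply, longM_apply]
    rcases k with ⟨⟩ | k | k <;> (try fin_cases k) <;> simp [bv]
  have s2 : mat g₂ *ᵥ bv (hc (.inr 0)) = bv (hc (.inr 0)) := by
    set w := mat g₂ *ᵥ bv (hc (.inr 0)) with hw
    have ew : w = mat k₂ *ᵥ f := by rw [hw, mat_mul_vec]
    have e0 : quadFormOdd 2 F w = 0 := by rw [hw, mat_quad, hq]
    simp only [k₂, mat_mul_vec, mat_shortE, mat_longE] at ew
    have ez : w zc = 0 := by simp [ew, shortM_apply, longM_apply, fy, -Matrix.mulVec_mulVec]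
    have e1 : w (hc (.inl 1)) = 0 := by simp [ew, shortM_apply, longM_apply, fy, -Matrix.mulVec_mulVec]
    have e2 : w (hc (.inr 1)) = 0 := by simp [ew, shortM_apply, longM_apply, fy, -Matrix.mulVec_mulVec]
    have e3 : w (hc (.inr 0)) = 1 := by simp [ew, shortM_apply, longM_apply, fy, -Matrix.mulVec_mulVec]
    have e4 : w (hc (.inl 0)) = 0 := by
      simpa [quadFormOdd, Fin.sum_univ_two, ez, e1, e2, e3] using e0
    funext k
    rcases k with ⟨⟩ | k | k <;> (try fin_cases k) <;> simp [bv, ez, e1, e2, e3, e4]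
  -- the second plane
  have coords : ∀ (g : O5), mat g *ᵥ bv (hc (.inl 0)) = bv (hc (.inl 0)) →
      mat g *ᵥ bv (hc (.inr 0)) = bv (hc (.inr 0)) → ∀ v : I5 → F,
        (mat g *ᵥ v) (hc (.inl 0)) = v (hc (.inl 0)) ∧
          (mat g *ᵥ v) (hc (.inr 0)) = v (hc (.inr 0)) := by
    intro g h1 h2 v
    have p1 := pol_mat g (bv (hc (.inr 0))) v
    have p2 := pol_mat g (bv (hc (.inl 0))) v
    rw [h2] at p1
    rw [h1] at p2
    simp [pol_eq, bv] at p1 p2
    exact ⟨p1, p2⟩
  have fixS : ∀ (a : Fin 2 ⊕ Fin 2), a = .inl 1 ∨ a = .inr 1 → ∀ (t : F) (k : H4),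
      k = .inl 0 ∨ k = .inr 0 → shortM a t *ᵥ bv (hc k) = bv (hc k) := by
    rintro a (rfl | rfl) t k (rfl | rfl) <;> funext x <;>
      rcases x with ⟨⟩ | x | x <;> (try fin_cases x) <;> simp [shortM_apply, bv]
  set w := mat g₂ *ᵥ bv (hc (.inl 1)) with hwdef
  obtain ⟨wx, wy⟩ := coords g₂ s1 s2 (bv (hc (.inl 1)))
  rw [← hwdef] at wx wy
  simp [bv] at wx wy
  have hwq : quadFormOdd 2 F w = 0 := by rw [hwdef, mat_quad, hq]
  obtain ⟨k₃, hk₃, s3, t1, t2, c, hc0, e3⟩ : ∃ k₃ ∈ (coverHom F).range, True ∧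
      mat k₃ *ᵥ bv (hc (.inl 0)) = bv (hc (.inl 0)) ∧
      mat k₃ *ᵥ bv (hc (.inr 0)) = bv (hc (.inr 0)) ∧
      ∃ c : F, c ≠ 0 ∧ mat k₃ *ᵥ w = c • bv (hc (.inl 1)) := by
    by_cases hy : w (hc (.inr 1)) = 0
    · have hz : w zc = 0 := by simpa [quadFormOdd, Fin.sum_univ_two, wx, hy] using hwq
      refine ⟨1, one_mem _, trivial, by simp [mat_one], by simp [mat_one], w (hc (.inl 1)),
        fun hx => ?_, ?_⟩
      · refine hne (.inl 1) (hinj' g₂ ?_)
        · show mat g₂ *ᵥ bv (hc (.inl 1)) = mat g₂ *ᵥ 0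
          rw [← hwdef, Matrix.mulVec_zero]
          funext k
          rcases k with ⟨⟩ | k | k <;> (try fin_cases k) <;> simp [wx, wy, hx, hy, hz]
      · rw [mat_one, Matrix.one_mulVec]
        funext k
        rcases k with ⟨⟩ | k | k <;> (try fin_cases k) <;> simp [bv, wx, wy, hy, hz]
    · set y := w (hc (.inr 1)) with hyd
      refine ⟨shortE (.inr 1) 1 * (shortE (.inl 1) 1 * shortE (.inl 1) (-w zc / y)),
        mul_mem (short_mem F _ _) (mul_mem (short_mem F _ _) (short_mem F _ _)), trivial,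
        ?_, ?_, -y, neg_ne_zero.2 hy, ?_⟩
      · simp only [mat_mul_vec, mat_shortE, fixS _ (Or.inl rfl) _ _ (Or.inl rfl),
          fixS _ (Or.inr rfl) _ _ (Or.inl rfl)]
      · simp only [mat_mul_vec, mat_shortE, fixS _ (Or.inl rfl) _ _ (Or.inr rfl),
          fixS _ (Or.inr rfl) _ _ (Or.inr rfl)]
      · have hw1 : w (hc (.inl 1)) = -(w zc ^ 2) / y := by
          have := hwq
          simp [quadFormOdd, Fin.sum_univ_two, wx, ← hyd] at this
          rw [eq_div_iff hy]; linear_combination this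
        funext k
        simp only [mat_mul_vec, mat_shortE, shortM_apply]
        rcases k with ⟨⟩ | k | k <;> (try fin_cases k) <;>
          simp [bv, wx, wy, hw1, ← hyd] <;> field_simp <;> ring
  set g₃ := k₃ * g₂
  have u1 : mat g₃ *ᵥ bv (hc (.inl 0)) = bv (hc (.inl 0)) := by rw [mat_mul_vec, s1, t1]
  have u2 : mat g₃ *ᵥ bv (hc (.inr 0)) = bv (hc (.inr 0)) := by rw [mat_mul_vec, s2, t2]
  have u3 : mat g₃ *ᵥ bv (hc (.inl 1)) = c • bv (hc (.inl 1)) := by
    rw [mat_mul_vec, ← hwdef, e3]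
  set w' := mat g₃ *ᵥ bv (hc (.inr 1)) with hw'
  obtain ⟨vx, vy⟩ := coords g₃ u1 u2 (bv (hc (.inr 1)))
  rw [← hw'] at vx vy
  simp [bv] at vx vy
  have hy' : w' (hc (.inr 1)) = c⁻¹ := by
    have h := pol_mat g₃ (bv (hc (.inl 1))) (bv (hc (.inr 1)))
    rw [u3, ← hw'] at h
    simp [pol_eq, bv] at h
    exact eq_inv_of_mul_eq_one_right h
  set k₄ : O5 := shortE (.inl 1) (-w' zc * c)
  set g₄ := k₄ * g₃
  have v1 : mat g₄ *ᵥ bv (hc (.inl 0)) = bv (hc (.inl 0)) := by
    rw [mat_mul_vec, u1, mat_shortE, fixS _ (Or.inl rfl) _ _ (Or.inl rfl)]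
  have v2 : mat g₄ *ᵥ bv (hc (.inr 0)) = bv (hc (.inr 0)) := by
    rw [mat_mul_vec, u2, mat_shortE, fixS _ (Or.inl rfl) _ _ (Or.inr rfl)]
  have v3 : mat g₄ *ᵥ bv (hc (.inl 1)) = c • bv (hc (.inl 1)) := by
    rw [mat_mul_vec, u3]
    funext k
    rw [mat_shortE, shortM_apply]
    rcases k with ⟨⟩ | k | k <;> (try fin_cases k) <;> simp [bv]
  have v4 : mat g₄ *ᵥ bv (hc (.inr 1)) = c⁻¹ • bv (hc (.inr 1)) := by
    set z := mat g₄ *ᵥ bv (hc (.inr 1)) with hz
    have ez : z = shortM (.inl 1) (-w' zc * c) *ᵥ w' := by rw [hz, mat_mul_vec, mat_shortE]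
    have z1 : z zc = 0 := by simp [ez, shortM_apply, hy']; field_simp; ring
    have z2 : z (hc (.inl 0)) = 0 := by simp [ez, shortM_apply, vx]
    have z3 : z (hc (.inr 0)) = 0 := by simp [ez, shortM_apply, vy]
    have z4 : z (hc (.inr 1)) = c⁻¹ := by simp [ez, shortM_apply, hy']
    have z5 : z (hc (.inl 1)) = 0 := by
      have : quadFormOdd 2 F z = 0 := by rw [hz, mat_quad, hq]
      simpa [quadFormOdd, Fin.sum_univ_two, z1, z2, z4, hc0] using this
    funext k
    rcases k with ⟨⟩ | k | k <;> (try fin_cases k) <;> simp [bv, z1, z2, z3, z4, z5]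
  set e := mat g₄ *ᵥ bv zc with he
  obtain ⟨ex, ey⟩ := coords g₄ v1 v2 (bv zc)
  rw [← he] at ex ey
  simp [bv] at ex ey
  have ex1 : e (hc (.inl 1)) = 0 := by
    have h := pol_mat g₄ (bv zc) (bv (hc (.inr 1)))
    rw [v4, ← he] at h
    simpa [pol_eq, bv, hc0] using h
  have ey1 : e (hc (.inr 1)) = 0 := by
    have h := pol_mat g₄ (bv zc) (bv (hc (.inl 1)))
    rw [v3, ← he] at h
    simpa [pol_eq, bv, hc0] using h
  refine ⟨k₄ * (k₃ * (k₂ * k₁)), mul_mem (short_mem F _ _) (mul_mem hk₃ (mul_mem hk₂ hk₁)),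
    Sum.elim (fun _ => e zc) (Sum.elim ![1, c] ![1, c⁻¹]), ?_⟩
  rw [show k₄ * (k₃ * (k₂ * k₁)) * g = g₄ by simp only [g₄, g₃, g₂, g₁]; group]
  refine Matrix.ext fun i j => ?_
  have hcol : mat g₄ i j = (mat g₄ *ᵥ bv j) i := by simp [bv]
  rw [hcol]
  rcases j with ⟨⟩ | j | j <;> (try fin_cases j) <;>
    first
      | (rw [← he]; rcases i with ⟨⟩ | i | i <;> (try fin_cases i) <;>
          simp [Matrix.diagonal, ex, ey, ex1, ey1]; done)
      | (simp only [Fin.zero_eta, Fin.mk_one, Fin.isValue, v1, v2, v3, v4]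
         rcases i with ⟨⟩ | i | i <;> (try fin_cases i) <;> simp [Matrix.diagonal, bv])

theorem diag_props {d : I5 → F} (h : ∀ v : I5 → F,
    quadFormOdd 2 F (Matrix.diagonal d *ᵥ v) = quadFormOdd 2 F v) :
    d zc * d zc = 1 ∧ ∀ a : H4, d (hc a) * d (hc a.swap) = 1 := by
  have h0 := h (bv zc)
  simp [quadFormOdd, bv, Matrix.mulVec_diagonal, sq] at h0
  refine ⟨h0, fun a => ?_⟩
  rcases a with a | a <;> fin_cases a
  all_goals
    first
      | (have := h (bv (hc (.inl 0)) + bv (hc (.inr 0)))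
         simp [quadFormOdd, bv, Fin.sum_univ_two, Matrix.mulVec_diagonal] at this
         simp [this, mul_comm]; done)
      | (have := h (bv (hc (.inl 1)) + bv (hc (.inr 1)))
         simp [quadFormOdd, bv, Fin.sum_univ_two, Matrix.mulVec_diagonal] at this
         simp [this, mul_comm]; done)

theorem diag_normalizes {g : O5} {d : I5 → F} (hd : mat g = Matrix.diagonal d) {x : O5}
    (hx : x ∈ (coverHom F).range) : g * x * g⁻¹ ∈ (coverHom F).range := by
  obtain ⟨hz, hh⟩ := diag_props (d := d) fun v => by rw [← hd, mat_quad]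
  suffices key : ∀ r : Fin 8, ∀ y : F, g * root F r y * g⁻¹ ∈ (coverHom F).range by
    obtain ⟨p, rfl⟩ := hx
    have hp : p ∈ ((coverHom F).range.comap (MulAut.conj g).toMonoidHom).comap (coverHom F) := by
      refine (?_ : (⊤ : Subgroup _) ≤ _) (Subgroup.mem_top p)
      rw [← PresentedGroup.closure_range_of (chevB2.steinbergRelsAB F), Subgroup.closure_le]
      rintro _ ⟨⟨r, y⟩, rfl⟩
      show g * coverHom F (PresentedGroup.of (r, y)) * g⁻¹ ∈ (coverHom F).range
      rw [show coverHom F (PresentedGroup.of (r, y)) = root F r y from PresentedGroup.toGroup.of _]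
      exact key ⟨r, nroots_B2 ▸ r.2⟩ y
    exact hp
  intro r y
  have hr := tab_ok r
  have conj : ∀ x z : O5, Matrix.diagonal d * mat x = mat z * Matrix.diagonal d →
      g * x * g⁻¹ = z := fun x z h => by
    rw [mul_inv_eq_iff_eq_mul]
    exact mat_ext (by rw [mat_mul, mat_mul, hd, h])
  unfold root
  rcases hσ : tab r with ⟨⟨a, b⟩ | a, σ⟩ <;> simp only [hσ] at hr ⊢
  · rw [dif_pos hr, conj _ (longE hr.1 hr.2 (d (hc a) * d (hc b) * (σ * y)))]
    · exact long_mem F _ _ _
    rw [mat_longE, mat_longE]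
    refine Matrix.ext_iff_mulVec.2 fun v => funext fun k => ?_
    rw [← Matrix.mulVec_mulVec, ← Matrix.mulVec_mulVec, Matrix.mulVec_diagonal, longM_apply,
      longM_apply, Matrix.mulVec_diagonal, Matrix.mulVec_diagonal, Matrix.mulVec_diagonal]
    have ha := hh a
    have hb := hh b
    split_ifs with h1 h2 h2
    · exact absurd (Sum.inr_injective (h1.symm.trans h2)) hr.2
    · subst h1
      linear_combination (d (hc b) * (σ * y) * v (hc a.swap)) * (-ha)
    · subst h2
      linear_combination (d (hc a) * (σ * y) * v (hc b.swap)) * hb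
    · ring
  · rw [conj _ (shortE a (d zc * d (hc a) * (σ * y)))]
    · exact short_mem F _ _
    rw [mat_shortE, mat_shortE]
    refine Matrix.ext_iff_mulVec.2 fun v => funext fun k => ?_
    rw [← Matrix.mulVec_mulVec, ← Matrix.mulVec_mulVec, Matrix.mulVec_diagonal, shortM_apply,
      shortM_apply, Matrix.mulVec_diagonal, Matrix.mulVec_diagonal, Matrix.mulVec_diagonal]
    have ha := hh a
    split_ifs with h1 h2 h2
    · exact absurd (h1.symm.trans h2) (by simp)
    · subst h1
      linear_combination (d zc * (σ * y) * v (hc a.swap)) * (-ha)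
    · subst h2
      linear_combination (2 * d (hc a) * (σ * y) * v zc) * hz +
        (d (hc a) * (σ * y) ^ 2 * v (hc a.swap) * (d zc * d zc)) * ha +
        (d (hc a) * (σ * y) ^ 2 * v (hc a.swap)) * hz
    · ring

theorem commutator_le_range : commutator (↥(isometryGroup F (quadFormOdd 2 F))) ≤
    (coverHom F).range := by
  set R := (coverHom F).range
  have hn : R.Normal := ⟨fun x hx g => by
    obtain ⟨k, hk, d, hd⟩ := exists_diag g
    have := diag_normalizes hd hx
    have := mul_mem (mul_mem (inv_mem hk) this) hk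
    convert this using 1
    group⟩
  set q := QuotientGroup.mk' R
  have hall : ∀ x y, Commute (q x) (q y) := by
    intro x y
    obtain ⟨k, hk, d, hd⟩ := exists_diag x
    obtain ⟨k', hk', d', hd'⟩ := exists_diag y
    have e : ∀ {k z : ↥(isometryGroup F (quadFormOdd 2 F))}, k ∈ R → q z = q (k * z) :=
        fun {k z} hk => by
      rw [map_mul, show q k = 1 from (QuotientGroup.eq_one_iff k).2 hk, one_mul]
    rw [e (z := x) hk, e (z := y) hk']
    show q _ * q _ = q _ * q _
    rw [← map_mul, ← map_mul, mat_ext (g := k * x * (k' * y)) (k := k' * y * (k * x)) (by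
      rw [mat_mul (k * x), mat_mul (k' * y), hd, hd', Matrix.diagonal_mul_diagonal,
        Matrix.diagonal_mul_diagonal]
      simp only [mul_comm])]
  rw [commutator_def, Subgroup.commutator_le]
  intro x _ y _
  rw [← QuotientGroup.eq_one_iff]
  show q ⁅x, y⁆ = 1
  rw [map_commutatorElement]
  exact commutatorElement_eq_one_iff_commute.2 (hall x y)

end Generation

theorem exists_iso (hF : ∃ a : F, a ≠ 0 ∧ a ≠ 1) :
    Nonempty (↥(chevB2.group F) ≃* POmega F (quadFormOdd 2 F)) := by
  have hN : checkNbr certFullB2.T = true := by decide +kernel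
  have hperf := (certFullB2.stCoverData F).perfect_odd hN perfectB2 hF
  refine certFullB2.iso_of_coverHom F hN hperf
    (certFullB2.simple (F := F) connB2 (certFullB2.perfect_odd perfectB2 hF)).1
    (Omega F (quadFormOdd 2 F)) (coverHom F) (le_antisymm ?_ commutator_le_range) ?_
  · rintro _ ⟨x, rfl⟩
    have := Subgroup.mem_map_of_mem (coverHom F)
      (show x ∈ commutator (chevB2.SteinbergCover F) by rw [hperf]; trivial)
    rw [commutator_def, Subgroup.map_commutator] at this
    exact Subgroup.commutator_mono le_top le_top this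
  · obtain ⟨x, hx⟩ := short_mem F (.inl 0) (1 : F)
    refine ⟨x, fun e => ?_⟩
    rw [e] at hx
    have h := congrArg (fun g => (mat g *ᵥ bv (hc (.inr 0))) zc) hx
    simp [mat_one, mat_shortE, shortM_apply, bv] at h

end IsoB2

end Cfsg.Agent.Lie.Chev
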