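import Cfsg.Agent.Lib.Lie.Chev.E6CubicStab

/-! The cubic-form group modulo its centre is the Chevalley group of type E₆. -/

set_option autoImplicit false

namespace Cfsg.Agent.Lie.Chev.IsoE6

open Cfsg.Lie E6Cubic
open scoped commutatorElement

theorem exists_iso (F : Type*) [Field F] [Fintype F] (hF : 3 ≤ Fintype.card F) :
    Nonempty (E6 F ≃* ↥(chevE6.group F)) := by
  have hN : checkNbr certFullE6.T = true := by decide +kernel
  set A := certFullE6.stCoverData F
  set ψ := coverHom F
  have hψ : Function.Surjective ψ := fun y => by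
    obtain ⟨z, ⟨x, hx⟩, e⟩ := mem_rootGroup hF y.2
    exact ⟨x, Subtype.ext (by rw [hx]; exact e)⟩
  let φ : chevE6.SteinbergCover F →* E6 F :=
    (QuotientGroup.mk' (Subgroup.center (E6univ F))).comp ψ
  have hφ : Function.Surjective φ := (QuotientGroup.mk'_surjective _).comp hψ
  let θ' : chevE6.SteinbergCover F →* ↥(chevE6.group F) := A.θ.codRestrict _ A.θ_mem_group
  have hθ : Function.Surjective θ' := fun g => by
    obtain ⟨x, hx⟩ := A.θ_surj g.2
    exact ⟨x, Subtype.ext hx⟩
  have hker : θ'.ker ≤ φ.ker := fun z hz => by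
    have hz' : z ∈ Subgroup.center _ :=
      (A.ker_le hN).trans inf_le_right (congrArg Subtype.val (MonoidHom.mem_ker.1 hz))
    rw [MonoidHom.mem_ker]
    refine (QuotientGroup.eq_one_iff _).2 (Subgroup.mem_center_iff.2 fun y => ?_)
    obtain ⟨x, rfl⟩ := hψ y
    rw [← map_mul, ← map_mul, Subgroup.mem_center_iff.1 hz' x]
  let f : ↥(chevE6.group F) →* E6 F := θ'.liftOfSurjective hθ ⟨φ, hker⟩
  have hf : ∀ x, f (θ' x) = φ x := fun x =>
    MonoidHom.liftOfRightInverse_comp_apply _ _ _ ⟨φ, hker⟩ x
  have hfs : Function.Surjective f := fun y => by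
    obtain ⟨x, rfl⟩ := hφ y
    exact ⟨θ' x, hf x⟩
  obtain ⟨hsimple, -⟩ := certFullE6.simple (F := F) connE6 (certFullE6.perfect perfectE6)
  refine ⟨(MulEquiv.ofBijective f ⟨(MonoidHom.ker_eq_bot_iff f).1 ?_, hfs⟩).symm⟩
  refine ((hsimple.eq_bot_or_eq_top_of_normal f.ker inferInstance)).resolve_right fun htop => ?_
  have hall : ∀ x, ψ x ∈ Subgroup.center ↥(E6univ F) := fun x => by
    rw [← QuotientGroup.eq_one_iff]
    show φ x = 1
    rw [← hf x, ← MonoidHom.mem_ker, htop]; trivial
  have hone : ∀ x, ψ x = 1 := fun x => by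
    have hx : x ∈ commutator (chevE6.SteinbergCover F) := by
      rw [A.perfect hN perfectE6]; trivial
    suffices commutator (chevE6.SteinbergCover F) ≤ ψ.ker from this hx
    rw [commutator_def, Subgroup.commutator_le]
    intro a _ b _
    rw [MonoidHom.mem_ker, map_commutatorElement, commutatorElement_eq_one_iff_mul_comm]
    exact Subgroup.mem_center_iff.1 (hall b) _
  have h0 : (56 : ℕ) < chevE6.nroots := by rw [nroots_E6]; norm_num
  have h := congrArg Subtype.val (hone (A.X 56 (1 : F)))
  rw [coverHom_X F h0, rootU_val] at h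
  have key := congrArg (fun g : GL I27 F => co (act g (bv 20)) 4) h
  simp only [Subgroup.coe_one, act_one] at key
  rw [co_root (by norm_num) (by norm_num), show srcs 56 4 = [(1, 20)] from rfl] at key
  simp [co_bv (show 20 < 27 by norm_num)] at key

end Cfsg.Agent.Lie.Chev.IsoE6
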