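import Cfsg.Agent.Lib.Lie.Chev.ModularWeight
import Cfsg.Agent.Lib.Lie.Chev.SimpleGens

/-!
A weight vector generates under the negative unipotent subgroup; in an irreducible representation
the vectors fixed by the positive unipotent subgroup form a line, so the weight is unique, and it
determines the representation.
-/

set_option autoImplicit false

namespace Cfsg.Agent.Lie.Chev

open Cfsg.Lie Matrix
open Cfsg.Agent.Char.CycMod (Irr Intw zero_or_bijective)

universe u v

/-- The product of the negative root subgroups other than that of `-α_p`. -/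
def UpNeg (D : ChevalleyDatum) (F : Type u) [Field F] (p : ℕ) : Subgroup (GL D.Idx F) :=
  Subgroup.closure {g | ∃ (s : ℕ) (t : F), D.IsNegRoot s ∧ s ≠ D.neg (D.simple p) ∧
    (g : Matrix D.Idx D.Idx F) = D.x F s t}

namespace CertFull

variable {D : ChevalleyDatum} (c : CertFull D) {F : Type u} [Field F]
include c

theorem negRoot_iff_not_pos {r : ℕ} : D.IsNegRoot r ↔ r < D.nroots ∧ ¬ c.Pos r := by
  rw [c.isNegRoot_iff]
  constructor
  · intro h
    have := c.h_add_h
    exact ⟨by omega, fun hp => absurd hp.1 (by omega)⟩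
  · rintro ⟨hr, hn⟩
    by_contra h
    exact hn ⟨by omega, hr⟩

theorem xg_mem_UpNeg {p s : ℕ} (hs : s < D.nroots) (hn : ¬ c.Pos s)
    (hne : s ≠ D.neg (D.simple p)) (t : F) : c.xg s t ∈ UpNeg D F p :=
  Subgroup.subset_closure ⟨s, t, c.negRoot_iff_not_pos.2 ⟨hs, hn⟩, hne, rfl⟩

theorem commTerms_neg {p r s : ℕ} (hp : p < D.rank)
    (hr : r = D.simple p ∨ r = D.neg (D.simple p)) (hs : s < D.nroots) (hn : ¬ c.Pos s)
    (hne : s ≠ D.neg (D.simple p)) {x : ℕ × ℤ × ℕ × ℕ} (hx : x ∈ c.T.commTerms r s) :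
    x.1 < D.nroots ∧ ¬ c.Pos x.1 ∧ x.1 ≠ D.neg (D.simple p) := by
  have hα := c.simple_lt hp
  have hr' : r < D.nroots := by rcases hr with rfl | rfl; exacts [hα, c.neg_lt hα]
  have hs' : c.Pos (D.neg s) := (c.not_pos_iff hs).1 hn
  have hne' : D.neg s ≠ D.simple p := fun e => hne (by rw [← e, c.neg_neg hs])
  obtain ⟨k, hk, hkp, hv⟩ := (c.vec_nonneg hs'.2 hs'.1).2 p hp hne'
  rw [c.vec_neg hs hk] at hv
  have hrk : c.T.vec r k = 0 := by
    rcases hr with rfl | rfl
    · rw [c.vec_simple hp hk, if_neg hkp]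
    · rw [c.vec_neg hα hk, c.vec_simple hp hk, if_neg hkp, neg_zero]
  obtain ⟨h1, hi, hj, -⟩ := c.mem_commTerms hr' hs hx
  have hxk : c.T.vec x.1 k < 0 := by
    rw [c.commTerms_vec hr' hs hk hx, hrk, mul_zero, zero_add]
    have : (1 : ℤ) ≤ (x.2.2.2 : ℕ) := by exact_mod_cast hj
    nlinarith
  refine ⟨h1, fun hp' => ?_, fun e => ?_⟩
  · have := (c.vec_nonneg h1 hp'.1).1 k hk
    omega
  · rw [e, c.vec_neg hα hk, c.vec_simple hp hk, if_neg hkp] at hxk
    omega

theorem xg_conj_UpNeg {p r : ℕ} (hp : p < D.rank)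
    (hr : r = D.simple p ∨ r = D.neg (D.simple p)) (t : F) {g : GL D.Idx F}
    (hg : g ∈ UpNeg D F p) : c.xg r t * g * (c.xg r t)⁻¹ ∈ UpNeg D F p := by
  refine conj_closure_mem ?_ hg
  rintro g ⟨s, u, hs, hne, hg⟩
  obtain rfl := c.eq_xg_iff.1 hg
  obtain ⟨hs', hn⟩ := c.negRoot_iff_not_pos.1 hs
  have hα := c.simple_lt hp
  have hr' : r < D.nroots := by rcases hr with rfl | rfl; exacts [hα, c.neg_lt hα]
  have hsα : s ≠ D.simple p := fun e => hn (e ▸ c.pos_simple hp)
  have h1 : s ≠ r := by rcases hr with rfl | rfl; exacts [hsα, hne]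
  have h2 : s ≠ D.neg r := by
    rcases hr with rfl | rfl
    · exact hne
    · rw [c.neg_neg hα]; exact hsα
  rw [c.xg_inv, mul_assoc, c.xg_comm hr' hs' h1 h2, ← mul_assoc, ← mul_assoc, ← c.xg_add,
    add_neg_cancel, c.xg_zero, one_mul]
  refine mul_mem (c.xg_mem_UpNeg hs' hn hne u) (Subgroup.list_prod_mem _ fun k hk => ?_)
  obtain ⟨x, hx, rfl⟩ := List.mem_map.1 hk
  obtain ⟨h3, h4, h5⟩ := c.commTerms_neg hp hr hs' hn hne hx
  exact c.xg_mem_UpNeg h3 h4 h5 _

theorem exists_UpNeg_mul {p : ℕ} (hp : p < D.rank) {y : GL D.Idx F}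
    (hy : y ∈ D.negUnipotent F) :
    ∃ k ∈ UpNeg D F p, ∃ t : F, y = k * c.xg (D.neg (D.simple p)) t := by
  have hα := c.simple_lt hp
  have hN : D.rootSubgroup F (D.neg (D.simple p)) ≤
      Subgroup.normalizer (UpNeg D F p : Set (GL D.Idx F)) := by
    intro g hg
    obtain ⟨t, rfl⟩ := c.mem_rootSubgroup_iff.1 hg
    rw [Subgroup.mem_normalizer_iff]
    refine fun k => ⟨fun hk => c.xg_conj_UpNeg hp (Or.inr rfl) t hk, fun hk => ?_⟩
    have := c.xg_conj_UpNeg hp (Or.inr rfl) (-t) hk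
    rw [← c.xg_inv, inv_inv] at this
    simpa [mul_assoc] using this
  have hle : D.negUnipotent F ≤ UpNeg D F p ⊔ D.rootSubgroup F (D.neg (D.simple p)) := by
    refine (Subgroup.closure_le _).2 ?_
    rintro g ⟨r, t, hr, hg⟩
    by_cases h : r = D.neg (D.simple p)
    · exact Subgroup.mem_sup_right (Subgroup.subset_closure ⟨t, h ▸ hg⟩)
    · exact Subgroup.mem_sup_left (Subgroup.subset_closure ⟨r, t, hr, h, hg⟩)
  have hy' := hle hy
  rw [← SetLike.mem_coe, Subgroup.coe_mul_of_right_le_normalizer_left _ _ hN, Set.mem_mul] at hy'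
  obtain ⟨a, ha, g, hg, e⟩ := hy'
  obtain ⟨t, rfl⟩ := c.mem_rootSubgroup_iff.1 hg
  exact ⟨a, ha, t, e.symm⟩

theorem UpNeg_le_negUnipotent (p : ℕ) : UpNeg D F p ≤ D.negUnipotent F :=
  Subgroup.closure_mono fun _ ⟨s, t, hs, _, e⟩ => ⟨s, t, hs, e⟩

theorem negUnipotent_le_group : D.negUnipotent F ≤ D.group F :=
  le_sup_right.trans c.sup_neg_eq_group.le

/-- Negative unipotent elements moved by the longest word are positive. -/
theorem negUnipotent_le_conj {L0 : List ℕ} (hL0 : ∀ q ∈ L0, q < D.rank)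
    (hneg : ∀ r, c.Pos r → ¬ c.Pos (c.wl L0 r)) :
    D.negUnipotent F ≤ (D.posUnipotent F).map (MulAut.conj (c.nw F L0)).toMonoidHom := by
  refine (Subgroup.closure_le _).2 ?_
  rintro g ⟨r, t, hr, hg⟩
  obtain rfl := c.eq_xg_iff.1 hg
  obtain ⟨hr', hn⟩ := c.negRoot_iff_not_pos.1 hr
  have hLr : ∀ q ∈ L0.reverse, q < D.rank := fun q hq => hL0 q (List.mem_reverse.1 hq)
  have hs' : c.Pos (c.wl L0.reverse r) := by
    by_contra hs
    have h1 := hneg _ ((c.not_pos_iff (c.wl_lt hLr hr')).1 hs)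
    rw [c.wl_neg hL0 (c.wl_lt hLr hr'), c.wl_reverse hL0 hr'] at h1
    exact h1 ((c.not_pos_iff hr').1 hn)
  refine ⟨c.xg (c.wl L0.reverse r) ((c.wsign L0 (c.wl L0.reverse r) : F) * t), c.xg_mem_U hs' _, ?_⟩
  show c.nw F L0 * c.xg _ _ * (c.nw F L0)⁻¹ = c.xg r t
  rw [c.nw_mul_xg hL0 (c.wl_lt hLr hr'), c.wl_reverse hL0 hr', mul_inv_cancel_right, ← mul_assoc,
    c.wsign_sq, one_mul]

theorem isPGroup_negUnipotent [Fintype F] {p : ℕ} [Fact p.Prime] [CharP F p] :
    IsPGroup p ↥(D.negUnipotent F) := by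
  obtain ⟨L0, hL0, hneg⟩ := c.exists_longest
  exact ((c.isPGroup_U (F := F) (ℓ := p)).map _).to_le (c.negUnipotent_le_conj hL0 hneg)

variable {k : Type} [Field k] {V : Type v} [AddCommGroup V] [Module k V]
variable (ρ : ↥(D.group F) →* Module.End k V)

omit c in
/-- Fixed by the negative unipotent subgroup. -/
def NFix (ρ : ↥(D.group F) →* Module.End k V) (x : V) : Prop :=
  ∀ g : ↥(D.group F), (g : GL D.Idx F) ∈ D.negUnipotent F → ρ g x = x

omit c in
/-- The translates under the negative unipotent subgroup. -/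
def negSpan (ρ : ↥(D.group F) →* Module.End k V) (x : V) : Submodule k V :=
  Submodule.span k
    {a | ∃ g : ↥(D.group F), (g : GL D.Idx F) ∈ D.negUnipotent F ∧ ρ g x = a}

theorem self_mem_negSpan (x : V) : x ∈ negSpan ρ x :=
  Submodule.subset_span ⟨1, by simp [one_mem], by rw [map_one]; rfl⟩

theorem negSpan_translate {x a : V} (ha : a ∈ negSpan ρ x) {g : ↥(D.group F)}
    (hg : (g : GL D.Idx F) ∈ D.negUnipotent F) : ρ g a ∈ negSpan ρ x := by
  have hle : negSpan ρ x ≤ (negSpan ρ x).comap (ρ g) := Submodule.span_le.2 (by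
    rintro _ ⟨h, hh, rfl⟩
    exact Submodule.subset_span ⟨g * h, mul_mem hg hh, by rw [map_mul]; rfl⟩)
  exact hle ha

variable [Fintype F]

/-- The span of the translates of a weight vector is invariant. -/
theorem negSpan_invariant {χ : (Fin D.rank → Fˣ) →* kˣ} {μ : Fin D.rank → k} {x : V}
    (h : c.IsWeight ρ χ μ x) (g : ↥(D.group F)) : ∀ a ∈ negSpan ρ x, ρ g a ∈ negSpan ρ x := by
  classical
  obtain ⟨-, hU, hχ, hT⟩ := h
  have hy : ∀ (i : Fin D.rank) (b : F),
      ρ (c.mxG (D.neg (D.simple i)) b) x ∈ negSpan ρ x := fun i b =>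
    Submodule.subset_span ⟨_, c.xg_mem_V (c.neg_lt (c.simple_lt i.2))
      ((fun hp => (c.not_pos_iff (c.simple_lt i.2)).2 hp (c.pos_simple i.2))) b, rfl⟩
  have hxn : ∀ (i : Fin D.rank) (b : Fˣ),
      ρ (c.mxG (D.simple i) (b : F)) (ρ (c.nG F i) x) ∈ negSpan ρ x := by
    intro i b
    have e : ρ (c.mxG (D.neg (D.simple i)) ((b⁻¹ : Fˣ) : F)) x =
        (χ (Pi.mulSingle i (-b)⁻¹) : k) • ρ (c.mxG (D.simple i) (b : F)) (ρ (c.nG F i) x) := by
      rw [c.mxG_neg_eq, map_mul, map_mul, Module.End.mul_apply, Module.End.mul_apply,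
        hU _ _ (c.pos_simple i.2), c.theta_mul_nG, c.sig_single, map_mul, Module.End.mul_apply, hχ,
        map_smul, map_smul, inv_inv, Units.val_inv_eq_inv_val, inv_inv]
    have h2 := (negSpan ρ x).smul_mem (χ (Pi.mulSingle i (-b)⁻¹) : k)⁻¹ (hy i ((b⁻¹ : Fˣ) : F))
    rwa [e, smul_smul, inv_mul_cancel₀ (Units.ne_zero _), one_smul] at h2
  have hn : ∀ i : Fin D.rank, ρ (c.nG F i) x ∈ negSpan ρ x := by
    intro i
    have h1 := hT i
    rw [c.Tp_apply, ← Finset.add_sum_erase Finset.univ _ (Finset.mem_univ (0 : F)), c.mxG_zero,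
      map_one, Module.End.one_apply] at h1
    rw [eq_sub_of_add_eq h1]
    refine sub_mem ((negSpan ρ x).smul_mem _ (c.self_mem_negSpan ρ x))
      ((negSpan ρ x).sum_mem fun t ht => ?_)
    exact hxn i (Units.mk0 t (Finset.mem_erase.1 ht).1)
  have hxy : ∀ (i : Fin D.rank) (s t : F),
      ρ (c.mxG (D.simple i) s) (ρ (c.mxG (D.neg (D.simple i)) t) x) ∈ negSpan ρ x := by
    intro i s t
    rcases eq_or_ne t 0 with rfl | ht
    · rw [c.mxG_zero, map_one, Module.End.one_apply, hU _ _ (c.pos_simple i.2)]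
      exact c.self_mem_negSpan ρ x
    obtain ⟨b, rfl⟩ : ∃ b : Fˣ, (b : F) = t := ⟨Units.mk0 t ht, rfl⟩
    rw [c.mxG_neg_eq, map_mul, map_mul, Module.End.mul_apply, Module.End.mul_apply,
      hU _ _ (c.pos_simple i.2), c.theta_mul_nG, map_mul, Module.End.mul_apply, hχ, map_smul,
      map_smul, map_smul, ← Module.End.mul_apply (ρ (c.mxG (D.simple i) s)), ← map_mul, ← c.mxG_add]
    refine (negSpan ρ x).smul_mem _ ?_
    rcases eq_or_ne (s + (b : F)⁻¹) 0 with h0 | h0
    · rw [h0, c.mxG_zero, map_one, Module.End.one_apply]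
      exact hn i
    · exact hxn i (Units.mk0 _ h0)
  -- root elements of fundamental roots and their negatives
  have hgen : ∀ (i : ℕ) (hi : i < D.rank) (s : F),
      (∀ a ∈ negSpan ρ x, ρ (c.mxG (D.simple i) s) a ∈ negSpan ρ x) ∧
      (∀ a ∈ negSpan ρ x, ρ (c.mxG (D.neg (D.simple i)) s) a ∈ negSpan ρ x) := by
    intro i hi s
    refine ⟨fun a ha => ?_, fun a ha => c.negSpan_translate ρ ha (c.xg_mem_V
      (c.neg_lt (c.simple_lt hi))
      (fun hp => (c.not_pos_iff (c.simple_lt hi)).2 hp (c.pos_simple hi)) s)⟩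
    have hle : negSpan ρ x ≤ (negSpan ρ x).comap (ρ (c.mxG (D.simple i) s)) :=
      Submodule.span_le.2 (by
      rintro _ ⟨y, hy', rfl⟩
      rw [SetLike.mem_coe, Submodule.mem_comap]
      obtain ⟨a, ha, t, e⟩ := c.exists_UpNeg_mul hi hy'
      have haG : a ∈ D.group F := c.negUnipotent_le_group (c.UpNeg_le_negUnipotent i ha)
      have hconj := c.xg_conj_UpNeg hi (Or.inl rfl) s ha
      have hcG : c.xg (D.simple i) s * a * (c.xg (D.simple i) s)⁻¹ ∈ D.group F :=
        c.negUnipotent_le_group (c.UpNeg_le_negUnipotent i hconj)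
      have e1 : c.mxG (D.simple i) s * y =
          ⟨_, hcG⟩ * (c.mxG (D.simple i) s * c.mxG (D.neg (D.simple i)) t) := Subtype.ext (by
        simp only [Subgroup.coe_mul, mxG, e]
        group)
      rw [← Module.End.mul_apply, ← map_mul, e1, map_mul, map_mul, Module.End.mul_apply,
        Module.End.mul_apply]
      exact c.negSpan_translate ρ (hxy ⟨i, hi⟩ s t) (c.UpNeg_le_negUnipotent i hconj))
    exact hle ha
  have key : ∀ a, ρ g a ∈ negSpan ρ x ↔ a ∈ negSpan ρ x := by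
    refine c.simple_induction (P := fun g => ∀ a, ρ g a ∈ negSpan ρ x ↔ a ∈ negSpan ρ x)
      (fun i hi t => ?_) (fun a => by rw [map_one]; rfl)
      (fun g h hg hh a => by rw [map_mul, Module.End.mul_apply, hg, hh]) (fun g hg a => ?_) g
    · constructor
      · intro a
        refine ⟨fun ha => ?_, (hgen i hi t).1 a⟩
        have h2 := (hgen i hi (-t)).1 _ ha
        change ρ (c.mxG (D.simple i) (-t)) (ρ (c.mxG (D.simple i) t) a) ∈ _ at h2
        rwa [← Module.End.mul_apply, ← map_mul, ← c.mxG_add, neg_add_cancel, c.mxG_zero, map_one]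
          at h2
      · intro a
        refine ⟨fun ha => ?_, (hgen i hi t).2 a⟩
        have h2 := (hgen i hi (-t)).2 _ ha
        change ρ (c.mxG (D.neg (D.simple i)) (-t)) (ρ (c.mxG (D.neg (D.simple i)) t) a) ∈ _ at h2
        rwa [← Module.End.mul_apply, ← map_mul, ← c.mxG_add, neg_add_cancel, c.mxG_zero, map_one]
          at h2
    · have := hg (ρ g⁻¹ a)
      rw [← Module.End.mul_apply, ← map_mul, mul_inv_cancel, map_one, Module.End.one_apply] at this
      exact this.symm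
  exact fun a ha => (key a).2 ha

theorem negSpan_eq_top (hirr : Irr ρ) {χ : (Fin D.rank → Fˣ) →* kˣ} {μ : Fin D.rank → k} {x : V}
    (h : c.IsWeight ρ χ μ x) : negSpan ρ x = ⊤ := by
  refine (hirr.2 _ (c.negSpan_invariant ρ h)).resolve_left fun e => h.1 ?_
  have := c.self_mem_negSpan ρ x
  rwa [e, Submodule.mem_bot] at this

omit c in
/-- The contragredient. -/
def dualR (ρ : ↥(D.group F) →* Module.End k V) :
    ↥(D.group F) →* Module.End k (Module.Dual k V) where
  toFun g := (ρ g⁻¹).dualMap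
  map_one' := by rw [inv_one, map_one]; rfl
  map_mul' g h := by rw [_root_.mul_inv_rev, map_mul]; rfl

theorem dualR_apply (g : ↥(D.group F)) (φ : Module.Dual k V) (x : V) :
    dualR ρ g φ x = φ (ρ g⁻¹ x) := rfl

section irr

variable [FiniteDimensional k V]

theorem dualR_irr (hirr : Irr ρ) : Irr (dualR ρ) := by
  haveI := hirr.1
  refine ⟨inferInstance, fun X hX => ?_⟩
  have hinv : ∀ g, ∀ x ∈ X.dualCoannihilator, ρ g x ∈ X.dualCoannihilator := by
    intro g x hx
    rw [Submodule.mem_dualCoannihilator] at hx ⊢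
    intro φ hφ
    have h := hx _ (hX g⁻¹ φ hφ)
    rwa [c.dualR_apply, inv_inv] at h
  have e := Subspace.dualCoannihilator_dualAnnihilator_eq (W := X)
  rcases hirr.2 _ hinv with h | h
  · right; rw [← e, h, Submodule.dualAnnihilator_bot]
  · left; rw [← e, h, Submodule.dualAnnihilator_top]

variable {p : ℕ} [hp : Fact p.Prime] [CharP k p] [CharP F p]
include hp

theorem exists_nfix [Nontrivial V] : ∃ x : V, x ≠ 0 ∧ NFix ρ x := by
  obtain ⟨x0, hx0⟩ := exists_ne (0 : V)
  obtain ⟨x, hx, hfix⟩ := Cfsg.Agent.Block.exists_fixed_vector (p := p)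
    (c.isPGroup_negUnipotent (F := F) (p := p))
    (ρ.comp (Subgroup.inclusion c.negUnipotent_le_group)) hx0
  exact ⟨x, hx, fun g hg => hfix ⟨g, hg⟩⟩

omit hp in
theorem dual_nfix_eval {χ : (Fin D.rank → Fˣ) →* kˣ} {μ : Fin D.rank → k} {x : V}
    (hirr : Irr ρ) (h : c.IsWeight ρ χ μ x) {φ : Module.Dual k V} (hφ : NFix (dualR ρ) φ)
    (h0 : φ x = 0) : φ = 0 := by
  refine LinearMap.ext fun a => ?_
  have ha : a ∈ negSpan ρ x := by rw [c.negSpan_eq_top ρ hirr h]; exact Submodule.mem_top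
  have hle : negSpan ρ x ≤ LinearMap.ker φ := Submodule.span_le.2 (by
    rintro _ ⟨g, hg, rfl⟩
    rw [SetLike.mem_coe, LinearMap.mem_ker, ← h0]
    have := LinearMap.congr_fun (hφ g⁻¹ (inv_mem hg)) x
    rwa [c.dualR_apply, inv_inv] at this)
  exact hle ha

variable [IsAlgClosed k]

/-- The vectors fixed by the negative unipotent subgroup form a line. -/
theorem nfix_line (hirr : Irr ρ) {a b : V} (ha : NFix ρ a) (hb : NFix ρ b) (ha0 : a ≠ 0) :
    ∃ r : k, b = r • a := by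
  have hd := c.dualR_irr ρ hirr
  haveI := hd.1
  obtain ⟨χ, μ, φ, hφ⟩ := c.exists_weight (dualR ρ) (p := p)
  have hev : ∀ w : V, NFix ρ w → φ w = 0 → w = 0 := by
    intro w hw h0
    refine (Module.eval_apply_eq_zero_iff k w).1 ?_
    refine c.dual_nfix_eval (dualR ρ) hd hφ (φ := Module.Dual.eval k V w) ?_ h0
    intro g hg
    refine LinearMap.ext fun ψ => ?_
    show ψ (ρ g⁻¹⁻¹ w) = ψ w
    rw [inv_inv, hw g hg]
  have ha1 : φ a ≠ 0 := fun h0 => ha0 (hev a ha h0)
  refine ⟨φ b / φ a, sub_eq_zero.1 (hev _ (fun g hg => by rw [map_sub, map_smul, ha g hg, hb g hg]) ?_)⟩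
  rw [map_sub, map_smul, smul_eq_mul, div_mul_cancel₀ _ ha1, sub_self]

/-- The vectors fixed by the positive unipotent subgroup form a line. -/
theorem ufix_line (hirr : Irr ρ) {a b : V} (ha : c.UFix ρ a) (hb : c.UFix ρ b) (ha0 : a ≠ 0) :
    ∃ r : k, b = r • a := by
  obtain ⟨L0, hL0, hneg⟩ := c.exists_longest
  have hN : ∀ w : V, c.UFix ρ w → NFix ρ (ρ (c.wG F L0) w) := by
    intro w hw g hg
    obtain ⟨u, hu, e⟩ := c.negUnipotent_le_conj hL0 hneg hg
    have huG : u ∈ D.group F := c.B_le_group (Subgroup.mem_sup_left hu)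
    have e1 : g * c.wG F L0 = c.wG F L0 * ⟨u, huG⟩ := Subtype.ext (by
      rw [Subgroup.coe_mul, Subgroup.coe_mul]
      show (g : GL D.Idx F) * c.nw F L0 = c.nw F L0 * u
      rw [← e]
      show c.nw F L0 * u * (c.nw F L0)⁻¹ * c.nw F L0 = _
      rw [inv_mul_cancel_right])
    rw [← Module.End.mul_apply, ← map_mul, e1, map_mul, Module.End.mul_apply,
      UFix.apply c ρ hw hu huG]
  have hinj : Function.Injective (ρ (c.wG F L0)) := fun w w' e => by
    have h := congrArg (ρ (c.wG F L0)⁻¹) e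
    rwa [← Module.End.mul_apply, ← Module.End.mul_apply, ← map_mul, inv_mul_cancel, map_one,
      Module.End.one_apply, Module.End.one_apply] at h
  obtain ⟨r, hr⟩ := c.nfix_line ρ (p := p) hirr (hN a ha) (hN b hb)
    (fun e => ha0 (hinj (e.trans (map_zero _).symm)))
  exact ⟨r, hinj (by rw [hr, map_smul])⟩

/-- The weight of an irreducible representation is unique. -/
theorem weight_unique (hirr : Irr ρ) {χ χ' : (Fin D.rank → Fˣ) →* kˣ} {μ μ' : Fin D.rank → k}
    {x x' : V} (h : c.IsWeight ρ χ μ x) (h' : c.IsWeight ρ χ' μ' x') : χ = χ' ∧ μ = μ' := by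
  obtain ⟨hx, hU, hχ, hT⟩ := h
  obtain ⟨hx', hU', hχ', hT'⟩ := h'
  obtain ⟨r, rfl⟩ := c.ufix_line ρ (p := p) hirr hU hU' hx
  refine ⟨MonoidHom.ext fun z => Units.ext ?_, funext fun i => ?_⟩
  · have e := hχ' z
    rw [map_smul, hχ z, smul_comm] at e
    exact smul_left_injective k hx' e
  · have e := hT' i
    rw [map_smul, hT i, smul_comm] at e
    exact smul_left_injective k hx' e

/-- The weight determines the representation. -/
theorem exists_iso_of_weight {V' : Type v} [AddCommGroup V'] [Module k V'] [FiniteDimensional k V']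
    (ρ' : ↥(D.group F) →* Module.End k V') (hirr : Irr ρ) (hirr' : Irr ρ')
    {χ : (Fin D.rank → Fˣ) →* kˣ} {μ : Fin D.rank → k} {x : V} {x' : V'}
    (h : c.IsWeight ρ χ μ x) (h' : c.IsWeight ρ' χ μ x') :
    ∃ e : V ≃ₗ[k] V', ∀ g a, e (ρ g a) = ρ' g (e a) := by
  classical
  haveI := hirr.1
  haveI := hirr'.1
  let P : ↥(D.group F) →* Module.End k (V × V') :=
    { toFun := fun g => (ρ g).prodMap (ρ' g)
      map_one' := by rw [map_one, map_one]; rfl
      map_mul' := fun g g' => by rw [map_mul, map_mul]; rfl }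
  have hP : ∀ g a b, P g (a, b) = (ρ g a, ρ' g b) := fun g a b => rfl
  have hw : c.IsWeight P χ μ (x, x') := by
    refine ⟨fun e => h.1 (congrArg Prod.fst e), fun r t hr => ?_, fun z => ?_, fun i => ?_⟩
    · rw [hP, h.2.1 r t hr, h'.2.1 r t hr]
    · rw [hP, h.2.2.1 z, h'.2.2.1 z]; rfl
    · have e1 := h.2.2.2 i
      have e2 := h'.2.2.2 i
      rw [c.Tp_apply] at e1 e2 ⊢
      simp only [hP]
      rw [Prod.smul_mk, ← e1, ← e2]
      exact Prod.ext (by rw [Prod.fst_sum]) (by rw [Prod.snd_sum])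
  obtain ⟨X, hX⟩ : ∃ X, X = negSpan P (x, x') := ⟨_, rfl⟩
  have hXinv : ∀ g, ∀ a ∈ X, P g a ∈ X := by rw [hX]; exact c.negSpan_invariant P hw
  -- functionals separating the two factors
  obtain ⟨φ, hφ0, hφ⟩ := c.exists_nfix (dualR ρ) (p := p)
  obtain ⟨φ', hφ0', hφ'⟩ := c.exists_nfix (dualR ρ') (p := p)
  have hφx : φ x ≠ 0 := fun e => hφ0 (c.dual_nfix_eval ρ hirr h hφ e)
  have hφx' : φ' x' ≠ 0 := fun e => hφ0' (c.dual_nfix_eval ρ' hirr' h' hφ' e)
  have hker : ∀ a b, (a, b) ∈ X → φ' x' * φ a = φ x * φ' b := by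
    intro a b hab
    have hle : X ≤ LinearMap.ker
        ((φ' x' • φ).comp (LinearMap.fst k V V') - (φ x • φ').comp (LinearMap.snd k V V')) := by
      rw [hX]
      refine Submodule.span_le.2 ?_
      rintro _ ⟨g, hg, rfl⟩
      have e1 : φ (ρ g x) = φ x := by
        have := LinearMap.congr_fun (hφ g⁻¹ (inv_mem hg)) x
        rwa [c.dualR_apply, inv_inv] at this
      have e2 : φ' (ρ' g x') = φ' x' := by
        have := LinearMap.congr_fun (hφ' g⁻¹ (inv_mem hg)) x'
        rwa [c.dualR_apply, inv_inv] at this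
      simp [hP, e1, e2, mul_comm]
    have := hle hab
    simpa [sub_eq_zero] using this
  have h1 : X.comap (LinearMap.inl k V V') = ⊥ := by
    refine (hirr.2 _ fun g a ha => ?_).resolve_right fun e => ?_
    · rw [Submodule.mem_comap] at ha ⊢
      have := hXinv g _ ha
      rwa [LinearMap.inl_apply, hP, map_zero] at this
    · have := hker x 0 (e ▸ Submodule.mem_top : x ∈ X.comap (LinearMap.inl k V V'))
      rw [map_zero, mul_zero] at this
      exact mul_ne_zero hφx' hφx this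
  have h2 : X.comap (LinearMap.inr k V V') = ⊥ := by
    refine (hirr'.2 _ fun g a ha => ?_).resolve_right fun e => ?_
    · rw [Submodule.mem_comap] at ha ⊢
      have := hXinv g _ ha
      rwa [LinearMap.inr_apply, hP, map_zero] at this
    · have := hker 0 x' (e ▸ Submodule.mem_top : x' ∈ X.comap (LinearMap.inr k V V'))
      rw [map_zero, mul_zero] at this
      exact mul_ne_zero hφx hφx' this.symm
  have hmem : (x, x') ∈ X := hX ▸ c.self_mem_negSpan P _
  let p1 : X →ₗ[k] V := (LinearMap.fst k V V').comp X.subtype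
  let p2 : X →ₗ[k] V' := (LinearMap.snd k V V').comp X.subtype
  have hp1 : Function.Bijective p1 := by
    constructor
    · refine (injective_iff_map_eq_zero p1).2 ?_
      rintro ⟨⟨a, b⟩, hab⟩ (e : a = 0)
      subst e
      have hb : b ∈ X.comap (LinearMap.inr k V V') := hab
      rw [h2, Submodule.mem_bot] at hb
      subst hb; rfl
    · refine LinearMap.range_eq_top.1 ((hirr.2 _ ?_).resolve_left fun e => ?_)
      · rintro g _ ⟨⟨⟨a, b⟩, hab⟩, rfl⟩
        exact ⟨⟨_, hXinv g _ hab⟩, rfl⟩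
      · refine h.1 ?_
        have : p1 ⟨_, hmem⟩ ∈ LinearMap.range p1 := ⟨_, rfl⟩
        rwa [e, Submodule.mem_bot] at this
  have hp2 : Function.Bijective p2 := by
    constructor
    · refine (injective_iff_map_eq_zero p2).2 ?_
      rintro ⟨⟨a, b⟩, hab⟩ (e : b = 0)
      subst e
      have ha : a ∈ X.comap (LinearMap.inl k V V') := hab
      rw [h1, Submodule.mem_bot] at ha
      subst ha; rfl
    · refine LinearMap.range_eq_top.1 ((hirr'.2 _ ?_).resolve_left fun e => ?_)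
      · rintro g _ ⟨⟨⟨a, b⟩, hab⟩, rfl⟩
        exact ⟨⟨_, hXinv g _ hab⟩, rfl⟩
      · refine h'.1 ?_
        have : p2 ⟨_, hmem⟩ ∈ LinearMap.range p2 := ⟨_, rfl⟩
        rwa [e, Submodule.mem_bot] at this
  refine ⟨(LinearEquiv.ofBijective p1 hp1).symm.trans (LinearEquiv.ofBijective p2 hp2),
    fun g a => ?_⟩
  obtain ⟨⟨⟨b, b'⟩, hb⟩, rfl⟩ := hp1.2 a
  have e1 : ρ g (p1 ⟨(b, b'), hb⟩) = LinearEquiv.ofBijective p1 hp1 ⟨_, hXinv g _ hb⟩ := rfl
  have e2 : p1 ⟨(b, b'), hb⟩ = LinearEquiv.ofBijective p1 hp1 ⟨(b, b'), hb⟩ := rfl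
  simp only [LinearEquiv.trans_apply]
  rw [e1, LinearEquiv.symm_apply_apply, e2, LinearEquiv.symm_apply_apply]
  rfl

end irr

end CertFull

end Cfsg.Agent.Lie.Chev
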