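import Cfsg.Agent.Lib.Lie.Chev.ModularWeight
import Cfsg.Agent.Lib.Lie.Chev.ModularSpan

/-!
Every weight occurs: a vector of the regular representation carried by the cells of a parabolic
coset, after Curtis and Richen.
-/

set_option autoImplicit false

namespace Cfsg.Agent.Lie.Chev

open Cfsg.Lie Matrix
open Cfsg.Agent.Char.CycMod (Irr)

universe u v

/-- Translations of functions on a group. -/
def leftReg (k : Type) [Field k] (G : Type u) [Group G] : G →* Module.End k (G → k) where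
  toFun g :=
    { toFun := fun f x => f (g⁻¹ * x)
      map_add' := fun _ _ => rfl
      map_smul' := fun _ _ => rfl }
  map_one' := LinearMap.ext fun f => funext fun x => by
    show f (1⁻¹ * x) = f x
    rw [inv_one, one_mul]
  map_mul' g h := LinearMap.ext fun f => funext fun x => by
    show f ((g * h)⁻¹ * x) = f (h⁻¹ * (g⁻¹ * x))
    rw [_root_.mul_inv_rev, mul_assoc]

theorem leftReg_apply {k : Type} [Field k] {G : Type u} [Group G] (g : G) (f : G → k) (x : G) :
    leftReg k G g f x = f (g⁻¹ * x) := rfl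

namespace CertFull

variable {D : ChevalleyDatum} (c : CertFull D) {F : Type u} [Field F]

omit c in
/-- Coordinates supported on a set of nodes. -/
def KT (K : Set (Fin D.rank)) (z : Fin D.rank → Fˣ) : Prop := ∀ i ∉ K, z i = 1

omit c in
/-- Words in a set of nodes. -/
def KWord (K : Set (Fin D.rank)) (A : List ℕ) : Prop := ∀ q ∈ A, ∃ h : q < D.rank, (⟨q, h⟩ : Fin D.rank) ∈ K

theorem KWord.lt {K : Set (Fin D.rank)} {A : List ℕ} (h : KWord K A) : ∀ q ∈ A, q < D.rank :=
  fun q hq => (h q hq).1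

theorem KWord.rev {K : Set (Fin D.rank)} {A : List ℕ} (h : KWord K A) : KWord K A.reverse :=
  fun q hq => h q (List.mem_reverse.1 hq)

theorem KWord.append {K : Set (Fin D.rank)} {A B : List ℕ} (h : KWord K A) (h' : KWord K B) :
    KWord K (A ++ B) := fun q hq => (List.mem_append.1 hq).elim (h q) (h' q)

theorem KWord.cons {K : Set (Fin D.rank)} {A : List ℕ} {i : Fin D.rank} (hi : i ∈ K)
    (h : KWord K A) : KWord K ((i : ℕ) :: A) := fun q hq => by
  rcases List.mem_cons.1 hq with rfl | hq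
  · exact ⟨i.2, hi⟩
  · exact h q hq

include c

theorem sig_KT {K : Set (Fin D.rank)} {i : Fin D.rank} (hi : i ∈ K) {z : Fin D.rank → Fˣ}
    (hz : KT K z) : KT K (c.sig i z) := by
  intro j hj
  rw [sig, Function.update_of_ne fun e : j = i => hj (e ▸ hi)]
  exact hz j hj

theorem wG_mul_theta_KT {K : Set (Fin D.rank)} {A : List ℕ} (hA : KWord K A)
    {z : Fin D.rank → Fˣ} (hz : KT K z) :
    ∃ z', KT K z' ∧ c.wG F A * c.theta z = c.theta z' * c.wG F A := by
  induction A with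
  | nil => exact ⟨z, hz, by rw [c.wG_nil, one_mul, mul_one]⟩
  | cons p A ih =>
    obtain ⟨hp, hpK⟩ := hA p (by simp)
    obtain ⟨z', hz', e⟩ := ih fun q hq => hA q (by simp [hq])
    exact ⟨c.sig ⟨p, hp⟩ z', c.sig_KT hpK hz', by
      rw [c.wG_cons, mul_assoc, e, ← mul_assoc, c.nG_mul_theta ⟨p, hp⟩, mul_assoc]⟩

/-- A word in `K` fixing the roots is a torus element supported in `K`. -/
theorem wG_KT {K : Set (Fin D.rank)} {M : List ℕ} (hM : KWord K M)
    (h : ∀ q < D.rank, c.Pos (c.wl M (D.simple q))) :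
    ∃ z, KT K z ∧ c.wG F M = c.theta z := by
  generalize hn : M.length = n
  induction n using Nat.strong_induction_on generalizing M with
  | _ n ih =>
    rcases List.eq_nil_or_concat M with rfl | ⟨L', q, rfl⟩
    · exact ⟨1, fun _ _ => rfl, by rw [c.wG_nil, map_one]⟩
    rw [List.concat_eq_append] at hM h hn ⊢
    have hL'K : KWord K L' := fun p hp => hM p (by simp [hp])
    have hL' : ∀ p ∈ L', p < D.rank := KWord.lt hL'K
    obtain ⟨hq, -⟩ := hM q (by simp)
    have hneg : ¬ c.Pos (c.wl L' (D.simple q)) := by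
      have hwl := c.wl_lt hL' (c.simple_lt hq)
      rw [c.not_pos_iff hwl, ← c.wl_neg hL' (c.simple_lt hq), ← c.w_simple hq]
      have := h q hq
      rwa [c.wl_append, Cert.wl_cons, Cert.wl_nil] at this
    obtain ⟨A, r, B, rfl, e⟩ := c.exchange hL' hq hneg
    have hAK : KWord K A := fun p hp => hL'K p (by simp [hp])
    have hBK : KWord K B := fun p hp => hL'K p (by simp [hp])
    have hB : ∀ p ∈ B, p < D.rank := KWord.lt hBK
    obtain ⟨hr, hrK⟩ := hL'K r (by simp)
    obtain ⟨σ, hσ⟩ : ∃ σ : Fˣ, (σ : F) = (c.wsign B (D.simple q) : F) :=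
      ⟨Units.mk0 _ (c.wsign_ne_zero B (D.simple q)), rfl⟩
    have e1 : c.wG F B * c.nG F q =
        c.theta (Pi.mulSingle (⟨r, hr⟩ : Fin D.rank) σ) * c.nG F r * c.wG F B := by
      refine Subtype.ext ?_
      simp only [Subgroup.coe_mul, ← c.hg_simple, hσ]
      show c.nw F B * c.np F q = c.hg (D.simple r) (c.wsign B (D.simple q) : F) * c.np F r * c.nw F B
      rw [Cert.np, c.nw_mul_ng hB (c.simple_lt hq), mul_one, e, c.ng_eq_hg_mul_np]
    obtain ⟨z0, hz0⟩ : ∃ z0 : Fin D.rank → Fˣ, z0 = Pi.mulSingle (⟨r, hr⟩ : Fin D.rank) σ⁻¹ *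
        Pi.mulSingle (⟨r, hr⟩ : Fin D.rank) (-1 : Fˣ) := ⟨_, rfl⟩
    have hz0K : KT K z0 := fun j hj => by
      have hne : j ≠ ⟨r, hr⟩ := fun e => hj (e ▸ hrK)
      rw [hz0, Pi.mul_apply, Pi.mulSingle_eq_of_ne hne, Pi.mulSingle_eq_of_ne hne, one_mul]
    have e2 : c.nG F r * c.theta (Pi.mulSingle (⟨r, hr⟩ : Fin D.rank) σ) * c.nG F r = c.theta z0 := by
      have := c.nG_mul_theta (⟨r, hr⟩ : Fin D.rank) (Pi.mulSingle (⟨r, hr⟩ : Fin D.rank) σ)
      simp only at this
      rw [this, c.sig_single, mul_assoc, c.nG_sq ⟨r, hr⟩, ← map_mul, hz0]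
    obtain ⟨z1, hz1, e3⟩ := c.wG_mul_theta_KT (F := F) hAK hz0K
    have hM' : KWord K (A ++ B) := KWord.append hAK hBK
    have eM : c.wG F (A ++ r :: B ++ [q]) = c.theta z1 * c.wG F (A ++ B) := by
      rw [c.wG_append, c.wG_append, c.wG_cons, c.wG_cons, c.wG_nil, mul_one, c.wG_append A B]
      calc c.wG F A * (c.nG F r * c.wG F B) * c.nG F q
          = c.wG F A * (c.nG F r * (c.wG F B * c.nG F q)) := by group
        _ = c.wG F A * (c.nG F r * c.theta (Pi.mulSingle (⟨r, hr⟩ : Fin D.rank) σ) * c.nG F r) *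
            c.wG F B := by rw [e1]; group
        _ = _ := by rw [e2, e3, mul_assoc]
    have hsame : ∀ s, s < D.nroots → c.wl (A ++ r :: B ++ [q]) s = c.wl (A ++ B) s := fun s hs =>
      c.wl_eq_of_eq (one_mem _) (c.theta_mem z1) (KWord.lt hM) (KWord.lt hM')
        (by rw [one_mul]; exact congrArg Subtype.val eM) hs
    obtain ⟨z, hz, ez⟩ := ih (A ++ B).length (by simp at hn ⊢; omega) hM'
      (fun s hs => by rw [← hsame _ (c.simple_lt hs)]; exact h s hs) rfl
    exact ⟨z1 * z, fun j hj => by rw [Pi.mul_apply, hz1 j hj, hz j hj, one_mul],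
      by rw [eM, ez, ← map_mul]⟩

theorem wl_reverse_left {L : List ℕ} (hL : ∀ q ∈ L, q < D.rank) {s : ℕ} (hs : s < D.nroots) :
    c.wl L.reverse (c.wl L s) = s := by
  have h := c.wl_reverse (L := L.reverse) (fun q hq => hL q (List.mem_reverse.1 hq)) hs
  rwa [List.reverse_reverse] at h

theorem wl_reverse_congr {A A' : List ℕ} (hA : ∀ q ∈ A, q < D.rank) (hA' : ∀ q ∈ A', q < D.rank)
    (h : ∀ s, s < D.nroots → c.wl A s = c.wl A' s) {s : ℕ} (hs : s < D.nroots) :
    c.wl A.reverse s = c.wl A'.reverse s := by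
  have hx := c.wl_lt (fun q hq => hA q (List.mem_reverse.1 hq) : ∀ q ∈ A.reverse, q < D.rank) hs
  conv_rhs => rw [← c.wl_reverse hA hs, h _ hx]
  rw [c.wl_reverse_left hA' hx]

/-- Two words in `K` with the same effect differ by a torus element supported in `K`. -/
theorem wG_eq_of_wl {K : Set (Fin D.rank)} {A A' : List ℕ} (hA : KWord K A) (hA' : KWord K A')
    (h : ∀ s, s < D.nroots → c.wl A s = c.wl A' s) :
    ∃ z, KT K z ∧ c.wG F A' = c.theta z * c.wG F A := by
  have key : ∀ B : List ℕ, KWord K B → (∀ s, s < D.nroots → c.wl B s = c.wl A s) →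
      ∃ z, KT K z ∧ c.wG F (B ++ A.reverse) = c.theta z := fun B hB hBA =>
    c.wG_KT (KWord.append hB (KWord.rev hA)) fun q hq => by
      have hAr : ∀ p ∈ A.reverse, p < D.rank := KWord.lt (KWord.rev hA)
      rw [c.wl_append, hBA _ (c.wl_lt hAr (c.simple_lt hq)),
        c.wl_reverse (KWord.lt hA) (c.simple_lt hq)]
      exact c.pos_simple hq
  obtain ⟨z1, hz1, e1⟩ := key A' hA' fun s hs => (h s hs).symm
  obtain ⟨z2, hz2, e2⟩ := key A hA fun s _ => rfl
  refine ⟨z1 * z2⁻¹, fun j hj => by rw [Pi.mul_apply, Pi.inv_apply, hz1 j hj, hz2 j hj, inv_one,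
    one_mul], ?_⟩
  rw [c.wG_append] at e1 e2
  rw [map_mul, map_inv, ← e1, ← e2]
  group

theorem vec_wl_outside {K : Set (Fin D.rank)} {A : List ℕ} (hA : KWord K A) {i : Fin D.rank}
    (hi : i ∉ K) : c.T.vec (c.wl A (D.simple i)) i = 1 := by
  induction A with
  | nil => rw [Cert.wl_nil, c.vec_simple i.2 i.2, if_pos rfl]
  | cons q A ih =>
    obtain ⟨hq, hqK⟩ := hA q (by simp)
    have hA' : KWord K A := fun p hp => hA p (by simp [hp])
    have hne : (i : ℕ) ≠ q := fun e => hi (by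
      have : i = ⟨q, hq⟩ := Fin.ext e
      rw [this]; exact hqK)
    rw [Cert.wl_cons, c.vec_w hq (c.wl_lt (KWord.lt hA') (c.simple_lt i.2)) i.2, if_neg hne, sub_zero]
    exact ih hA'

theorem sigL_rev {L : List ℕ} (hL : ∀ q ∈ L, q < D.rank) (z : Fin D.rank → Fˣ) :
    c.sigL L.reverse (c.sigL L z) = z := by
  induction L generalizing z with
  | nil => rfl
  | cons p L ih =>
    have hp : p < D.rank := hL p (by simp)
    have hL' : ∀ q ∈ L, q < D.rank := fun q hq => hL q (by simp [hq])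
    rw [sigL, dif_pos hp, List.reverse_cons,
      c.sigL_append (fun q hq => hL' q (List.mem_reverse.1 hq)), ih hL', sigL, dif_pos hp, sigL,
      c.sig_sig]

variable {k : Type} [Field k]

theorem node_sig (χ : (Fin D.rank → Fˣ) →* kˣ) (i : Fin D.rank) :
    node (χ.comp (c.sigHom i)) i = 1 ↔ node χ i = 1 := by
  have e : ∀ a, node (χ.comp (c.sigHom i)) i a = node χ i a⁻¹ := fun a => by
    show χ (c.sig i (Pi.mulSingle i a)) = χ (Pi.mulSingle i a⁻¹)
    rw [c.sig_single]
  constructor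
  · intro h
    refine MonoidHom.ext fun a => ?_
    have := DFunLike.congr_fun h a⁻¹
    rwa [e, inv_inv] at this
  · intro h
    refine MonoidHom.ext fun a => ?_
    rw [e, h]
    rfl

/-- A character trivial at a node is invariant under its reflection. -/
theorem comp_sig_of_node (χ : (Fin D.rank → Fˣ) →* kˣ) {i : Fin D.rank} (h : node χ i = 1)
    (z : Fin D.rank → Fˣ) : χ (c.sig i z) = χ z := by
  have e : c.sig i z = z * Pi.mulSingle i (∏ j : Fin D.rank, z j ^ (-c.T.cartan j (D.simple i))) := by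
    funext j
    rcases eq_or_ne j i with rfl | hj
    · rw [sig, Function.update_self, Pi.mul_apply, Pi.mulSingle_eq_same]
    · rw [sig, Function.update_of_ne hj, Pi.mul_apply, Pi.mulSingle_eq_of_ne hj, mul_one]
  rw [e, map_mul, ← node_apply, h]
  simp

theorem comp_sigL_of_node (χ : (Fin D.rank → Fˣ) →* kˣ) {K : Set (Fin D.rank)}
    (hK : ∀ i ∈ K, node χ i = 1) {A : List ℕ} (hA : KWord K A) (z : Fin D.rank → Fˣ) :
    χ (c.sigL A z) = χ z := by
  induction A generalizing z with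
  | nil => rfl
  | cons p A ih =>
    obtain ⟨hp, hpK⟩ := hA p (by simp)
    rw [sigL, dif_pos hp, ih (fun q hq => hA q (by simp [hq])), c.comp_sig_of_node χ (hK _ hpK)]

theorem char_KT (χ : (Fin D.rank → Fˣ) →* kˣ) {K : Set (Fin D.rank)}
    (hK : ∀ i ∈ K, node χ i = 1) {z : Fin D.rank → Fˣ} (hz : KT K z) : χ z = 1 := by
  conv_lhs => rw [← Finset.univ_prod_mulSingle z]
  rw [map_prod]
  refine Finset.prod_eq_one fun i _ => ?_
  by_cases hi : i ∈ K
  · rw [← node_apply, hK i hi]; rfl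
  · rw [hz i hi, Pi.mulSingle_one, map_one]

variable [Fintype F]

section down

variable {V : Type v} [AddCommGroup V] [Module k V] (ρ : ↥(D.group F) →* Module.End k V)
variable {p : ℕ} [hp : Fact p.Prime] [CharP k p] [CharP F p]
include hp

theorem Tp_Phi_down (i : Fin D.rank) {L : List ℕ} (hL : ∀ q ∈ L, q < D.rank)
    {χ₀ : (Fin D.rank → Fˣ) →* kˣ} {x : V} (hU : c.UFix ρ x) (hχ : c.HasChar ρ χ₀ x)
    (hdown : ¬ c.Pos (c.wl L.reverse (D.simple i)))
    [Decidable (node (χ₀.comp (c.sigLHom L)) i = 1)] :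
    c.Tp ρ i (c.Phi ρ L x) =
      (if node (χ₀.comp (c.sigLHom L)) i = 1 then (-1 : k) else 0) • c.Phi ρ L x := by
  classical
  have hLr : ∀ q ∈ L.reverse, q < D.rank := fun q hq => hL q (List.mem_reverse.1 hq)
  have hα := c.simple_lt i.2
  have hiL : ∀ q ∈ (i : ℕ) :: L, q < D.rank := by simpa using hL
  have hup' : c.Pos (c.wl ((i : ℕ) :: L).reverse (D.simple i)) := by
    rw [List.reverse_cons, c.wl_append, Cert.wl_cons, Cert.wl_nil, c.w_simple i.2, c.wl_neg hLr hα]
    exact (c.not_pos_iff (c.wl_lt hLr hα)).1 hdown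
  obtain ⟨r, hr, e⟩ := c.Phi_pp ρ i.2 hL hχ
  have e1 : c.Tp ρ i (c.Phi ρ ((i : ℕ) :: L) x) = r • c.Phi ρ L x := by
    rw [c.Tp_Phi ρ i.2 hiL hup', e]
  have h2 := c.Tp_Tp ρ (p := p) i (c.Phi_ufix ρ hiL hU) (c.Phi_char ρ hiL hχ)
  rw [e1, map_smul, smul_comm] at h2
  have h3 := smul_right_injective V hr h2
  have hchar : χ₀.comp (c.sigLHom ((i : ℕ) :: L)) = (χ₀.comp (c.sigLHom L)).comp (c.sigHom i) :=
    MonoidHom.ext fun z => by
      show χ₀ (c.sigL ((i : ℕ) :: L) z) = χ₀ (c.sigL L (c.sig i z))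
      rw [sigL, dif_pos i.2]
  rw [h3, hchar]
  congr 1
  exact if_congr (c.node_sig _ i) rfl rfl

end down

omit c in
/-- The character of a weight label. -/
def labelChar (π : Fin D.rank → Option (Fˣ →* kˣ)) : (Fin D.rank → Fˣ) →* kˣ :=
  ∏ i, ((π i).getD 1).comp (Pi.evalMonoidHom (fun _ => Fˣ) i)

omit c in
/-- The scalars of a weight label. -/
def labelMu (π : Fin D.rank → Option (Fˣ →* kˣ)) (i : Fin D.rank) : k :=
  if (π i).isNone then -1 else 0

omit c [Fintype F] in
theorem node_labelChar (π : Fin D.rank → Option (Fˣ →* kˣ)) (i : Fin D.rank) :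
    node (labelChar π) i = (π i).getD 1 := by
  refine MonoidHom.ext fun a => ?_
  rw [node_apply, labelChar, MonoidHom.finsetProd_apply, Finset.prod_eq_single i]
  · simp
  · intro j _ hj
    simp [Pi.mulSingle_eq_of_ne hj]
  · simp

theorem borel_form_unique (hinj : Function.Injective (c.theta (F := F))) {g : ↥(D.group F)}
    {z z' : Fin D.rank → Fˣ}
    (h : ((g * (c.theta z)⁻¹ : ↥(D.group F)) : GL D.Idx F) ∈ D.posUnipotent F)
    (h' : ((g * (c.theta z')⁻¹ : ↥(D.group F)) : GL D.Idx F) ∈ D.posUnipotent F) : z = z' := by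
  have h1 := mul_mem (inv_mem h') h
  have h2 : ((g * (c.theta z')⁻¹ : ↥(D.group F)) : GL D.Idx F)⁻¹ *
      ((g * (c.theta z)⁻¹ : ↥(D.group F)) : GL D.Idx F) =
      ((c.theta z' * (c.theta z)⁻¹ : ↥(D.group F)) : GL D.Idx F) := by
    simp only [Subgroup.coe_mul, Subgroup.coe_inv]
    group
  rw [h2] at h1
  have h3 := c.U_inf_H.le (Subgroup.mem_inf.2
    ⟨h1, by rw [← map_inv, ← map_mul]; exact c.theta_mem _⟩)
  rw [Subgroup.mem_bot, OneMemClass.coe_eq_one, mul_inv_eq_one] at h3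
  exact (hinj h3).symm

/-- The eigen-function of the Borel subgroup. -/
noncomputable def borelFun (χ : (Fin D.rank → Fˣ) →* kˣ) (g : ↥(D.group F)) : k := by
  classical
  exact if h : ∃ z, ((g * (c.theta z)⁻¹ : ↥(D.group F)) : GL D.Idx F) ∈ D.posUnipotent F
    then ((χ h.choose)⁻¹ : kˣ) else 0

theorem borelFun_eq (hinj : Function.Injective (c.theta (F := F)))
    (χ : (Fin D.rank → Fˣ) →* kˣ) {g : ↥(D.group F)} {z : Fin D.rank → Fˣ}
    (h : ((g * (c.theta z)⁻¹ : ↥(D.group F)) : GL D.Idx F) ∈ D.posUnipotent F) :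
    c.borelFun χ g = (((χ z)⁻¹ : kˣ) : k) := by
  have hex : ∃ z, ((g * (c.theta z)⁻¹ : ↥(D.group F)) : GL D.Idx F) ∈ D.posUnipotent F := ⟨z, h⟩
  rw [borelFun, dif_pos hex, c.borel_form_unique hinj hex.choose_spec h]

theorem borelFun_ufix (hinj : Function.Injective (c.theta (F := F)))
    (χ : (Fin D.rank → Fˣ) →* kˣ) :
    c.UFix (leftReg k ↥(D.group F)) (c.borelFun χ) := by
  intro r t hr
  funext g
  rw [leftReg_apply]
  have hu : (((c.mxG r t)⁻¹ : ↥(D.group F)) : GL D.Idx F) ∈ D.posUnipotent F :=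
    inv_mem (c.xg_mem_U hr t)
  by_cases h : ∃ z, ((g * (c.theta z)⁻¹ : ↥(D.group F)) : GL D.Idx F) ∈ D.posUnipotent F
  · obtain ⟨z, hz⟩ := h
    rw [c.borelFun_eq hinj χ hz, c.borelFun_eq hinj χ (z := z) ?_]
    rw [mul_assoc, Subgroup.coe_mul]
    exact mul_mem hu hz
  · have h' : ¬ ∃ z, (((c.mxG r t)⁻¹ * g * (c.theta z)⁻¹ : ↥(D.group F)) : GL D.Idx F) ∈
        D.posUnipotent F := by
      rintro ⟨z, hz⟩
      refine h ⟨z, ?_⟩
      rw [show g * (c.theta z)⁻¹ = c.mxG r t * ((c.mxG r t)⁻¹ * g * (c.theta z)⁻¹) by group,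
        Subgroup.coe_mul]
      exact mul_mem (c.xg_mem_U hr t) hz
    rw [borelFun, borelFun, dif_neg h, dif_neg h']

theorem borelFun_char (hinj : Function.Injective (c.theta (F := F)))
    (χ : (Fin D.rank → Fˣ) →* kˣ) :
    c.HasChar (leftReg k ↥(D.group F)) χ (c.borelFun χ) := by
  intro w
  funext g
  rw [leftReg_apply, Pi.smul_apply]
  have hnorm : ∀ (w : Fin D.rank → Fˣ) {a : GL D.Idx F}, a ∈ D.posUnipotent F →
      ((c.theta w : ↥(D.group F)) : GL D.Idx F) * a *
        ((c.theta w : ↥(D.group F)) : GL D.Idx F)⁻¹ ∈ D.posUnipotent F := fun w a ha =>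
    (Subgroup.mem_normalizer_iff.1 (c.H_le_normalizer_U (c.theta_mem w)) a).1 ha
  by_cases h : ∃ z, ((g * (c.theta z)⁻¹ : ↥(D.group F)) : GL D.Idx F) ∈ D.posUnipotent F
  · obtain ⟨z, hz⟩ := h
    rw [c.borelFun_eq hinj χ hz, c.borelFun_eq hinj χ (z := w⁻¹ * z) ?_, smul_eq_mul,
      ← Units.val_mul]
    · congr 1
      rw [map_mul, map_inv, _root_.mul_inv_rev, inv_inv, mul_comm]
    · have e : (c.theta w)⁻¹ * g * (c.theta (w⁻¹ * z))⁻¹ =
          c.theta w⁻¹ * (g * (c.theta z)⁻¹) * (c.theta w⁻¹)⁻¹ := by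
        rw [map_mul, map_inv]; group
      rw [e, Subgroup.coe_mul, Subgroup.coe_mul, Subgroup.coe_inv]
      exact hnorm w⁻¹ hz
  · have h' : ¬ ∃ z, (((c.theta w)⁻¹ * g * (c.theta z)⁻¹ : ↥(D.group F)) : GL D.Idx F) ∈
        D.posUnipotent F := by
      rintro ⟨z, hz⟩
      refine h ⟨w * z, ?_⟩
      have e : g * (c.theta (w * z))⁻¹ =
          c.theta w * ((c.theta w)⁻¹ * g * (c.theta z)⁻¹) * (c.theta w)⁻¹ := by
        rw [map_mul]; group
      rw [e, Subgroup.coe_mul, Subgroup.coe_mul, Subgroup.coe_inv]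
      exact hnorm w hz
    rw [borelFun, borelFun, dif_neg h, dif_neg h', smul_zero]

/-- The value of a word's vector at a word. -/
theorem Phi_borelFun_eq_zero (χ : (Fin D.rank → Fˣ) →* kˣ)
    {L L' : List ℕ} (hL : ∀ q ∈ L, q < D.rank) (hL' : ∀ q ∈ L', q < D.rank)
    (h : c.Phi (leftReg k ↥(D.group F)) L (c.borelFun χ) (c.wG F L') ≠ 0) :
    ∀ s, s < D.nroots → c.wl L s = c.wl L' s := by
  classical
  have hLr : ∀ q ∈ L.reverse, q < D.rank := fun q hq => hL q (List.mem_reverse.1 hq)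
  haveI := Fintype.ofFinite (c.KS F (c.invSet L.reverse) c.T.h)
  rw [Phi, sumKS, finsum_eq_sum_of_fintype, Finset.sum_apply] at h
  obtain ⟨u, -, hu⟩ := Finset.exists_ne_zero_of_sum_ne_zero h
  rw [leftReg_apply, leftReg_apply] at hu
  by_contra hne
  apply hu
  rw [borelFun, dif_neg]
  rintro ⟨z, hz⟩
  apply hne
  obtain ⟨a, ha⟩ : ∃ a, a = (((c.wG F L)⁻¹ *
      ((⟨(u : GL D.Idx F), c.KS_le_group _ _ u.2⟩ : ↥(D.group F))⁻¹ * c.wG F L') *
        (c.theta z)⁻¹ : ↥(D.group F)) : GL D.Idx F) := ⟨_, rfl⟩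
  rw [← ha] at hz
  obtain ⟨t, ht⟩ : ∃ t, t = ((c.theta z : ↥(D.group F)) : GL D.Idx F) := ⟨_, rfl⟩
  have hu' : t⁻¹ * a * t ∈ D.posUnipotent F := by
    have := (Subgroup.mem_normalizer_iff.1 (c.H_le_normalizer_U (inv_mem (c.theta_mem z))) a).1 hz
    rwa [inv_inv, ← ht] at this
  have e : (u : GL D.Idx F) * (c.nw F L * t) * (t⁻¹ * a * t) = 1 * c.nw F L' * 1 := by
    rw [ha, ht]
    simp only [Subgroup.coe_mul, Subgroup.coe_inv, wG]
    group
  have hn : c.nw F L * t ∈ D.monomialSubgroup F :=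
    mul_mem (c.nw_mem_N hL) (Subgroup.mem_sup_left (ht ▸ c.theta_mem z))
  have hd := c.bruhat_unique (Subgroup.mem_sup_left (c.KS_le_U (c.invSet_closed hLr) _ u.2))
    (one_mem _) hn (c.nw_mem_N hL') hu' (one_mem _) e
  have hd' : t * ((c.nw F L * t)⁻¹ * c.nw F L') ∈ D.diagonalSubgroup F :=
    mul_mem (ht ▸ c.theta_mem z) hd
  have e2 : c.nw F L' = c.nw F L * (t * ((c.nw F L * t)⁻¹ * c.nw F L')) * (c.nw F L)⁻¹ * c.nw F L := by
    group
  intro s hs
  exact (c.wl_eq_of_eq (one_mem _) (c.nw_conj_H hL hd') hL' hL (by rw [one_mul]; exact e2) hs).symm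

theorem Phi_borelFun_self (hinj : Function.Injective (c.theta (F := F)))
    (χ : (Fin D.rank → Fˣ) →* kˣ) {L : List ℕ} (hL : ∀ q ∈ L, q < D.rank) :
    c.Phi (leftReg k ↥(D.group F)) L (c.borelFun χ) (c.wG F L) = 1 := by
  classical
  have hLr : ∀ q ∈ L.reverse, q < D.rank := fun q hq => hL q (List.mem_reverse.1 hq)
  haveI := Fintype.ofFinite (c.KS F (c.invSet L.reverse) c.T.h)
  rw [Phi, sumKS, finsum_eq_sum_of_fintype, Finset.sum_apply,
    Finset.sum_eq_single (1 : c.KS F (c.invSet L.reverse) c.T.h)]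
  · rw [leftReg_apply, leftReg_apply]
    have e : (c.wG F L)⁻¹ * ((⟨((1 : c.KS F (c.invSet L.reverse) c.T.h) : GL D.Idx F),
        c.KS_le_group _ _ (one_mem (c.KS F (c.invSet L.reverse) c.T.h))⟩ : ↥(D.group F))⁻¹ * c.wG F L) = 1 := by
      have h1 : (⟨((1 : c.KS F (c.invSet L.reverse) c.T.h) : GL D.Idx F),
        c.KS_le_group _ _ (one_mem (c.KS F (c.invSet L.reverse) c.T.h))⟩ : ↥(D.group F)) = 1 := rfl
      rw [h1]; group
    rw [e, c.borelFun_eq hinj χ (z := 1) (by simp [one_mem]), map_one, inv_one, Units.val_one]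
  · intro u _ hu
    rw [leftReg_apply, leftReg_apply, borelFun, dif_neg]
    rintro ⟨z, hz⟩
    refine hu (Subtype.ext ?_)
    simp only [Subgroup.coe_mul, Subgroup.coe_inv, wG] at hz
    -- the conjugate lies in the Borel subgroup
    have hb : (c.nw F L)⁻¹ * ((u : GL D.Idx F)⁻¹ * c.nw F L) ∈ D.borelSubgroup F := by
      have := mul_mem (Subgroup.mem_sup_left hz : _ ∈ D.borelSubgroup F) (c.H_le_B (c.theta_mem z))
      rwa [inv_mul_cancel_right] at this
    have hh : c.nw F (L.reverse ++ L) ∈ D.diagonalSubgroup F :=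
      c.nw_mem_H (fun q hq => (List.mem_append.1 hq).elim (hLr q) (hL q)) fun q hq => by
        rw [c.wl_append, c.wl_reverse_left hL (c.simple_lt hq)]
        exact c.pos_simple hq
    rw [c.nw_append] at hh
    have hb2 := mul_mem (mul_mem (c.H_le_B hh) hb) (inv_mem (c.H_le_B hh))
    have e : c.nw F L.reverse * c.nw F L * ((c.nw F L)⁻¹ * ((u : GL D.Idx F)⁻¹ * c.nw F L)) *
        (c.nw F L.reverse * c.nw F L)⁻¹ =
        1 * c.nw F L.reverse * (u : GL D.Idx F)⁻¹ * (1 * c.nw F L.reverse)⁻¹ := by group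
    rw [e] at hb2
    have h1 := c.borel_inf_negUnipotent.1.le
      ⟨hb2, c.conj_inv_mem_V (one_mem _) hLr (inv_mem u.2)⟩
    rw [Subgroup.mem_bot, conj_eq_one_iff, inv_eq_one] at h1
    exact h1
  · exact fun h' => absurd (Finset.mem_univ _) h'

section main

variable {p : ℕ} [hp : Fact p.Prime] [CharP k p] [CharP F p]
include hp

/-- Every label is the weight of some vector of the regular representation. -/
theorem exists_weight_of_label
    (hH : Nat.card (D.diagonalSubgroup F) = (Fintype.card F - 1) ^ D.rank)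
    (π : Fin D.rank → Option (Fˣ →* kˣ)) :
    ∃ x, c.IsWeight (leftReg k ↥(D.group F)) (labelChar π) (labelMu π) x := by
  classical
  have hinj := c.theta_injective hH
  obtain ⟨χ, hχ⟩ : ∃ χ, χ = labelChar π := ⟨_, rfl⟩
  obtain ⟨K, hKdef⟩ : ∃ K : Set (Fin D.rank), K = {i | π i = some 1} := ⟨_, rfl⟩
  have hKmem : ∀ i, i ∈ K ↔ π i = some 1 := fun i => by rw [hKdef]; rfl
  have hnode : ∀ i, node χ i = (π i).getD 1 := fun i => by rw [hχ, node_labelChar]
  have hK1 : ∀ i ∈ K, node χ i = 1 := fun i hi => by rw [hnode, (hKmem i).1 hi]; rfl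
  rw [← hχ]
  obtain ⟨L0, hL0, hneg⟩ := c.exists_longest
  have hL0r : ∀ q ∈ L0.reverse, q < D.rank := fun q hq => hL0 q (List.mem_reverse.1 hq)
  have hneg' : ∀ r, r < D.nroots → (c.Pos (c.wl L0.reverse r) ↔ ¬ c.Pos r) := by
    have h1 : ∀ r, c.Pos r → ¬ c.Pos (c.wl L0.reverse r) := by
      intro r hr hs
      have := hneg _ hs
      rw [c.wl_reverse hL0 hr.2] at this
      exact this hr
    intro r hr
    refine ⟨fun h hp' => h1 r hp' h, fun h => ?_⟩
    have := h1 _ ((c.not_pos_iff hr).1 h)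
    rw [c.wl_neg hL0r hr, c.not_pos_iff (c.neg_lt (c.wl_lt hL0r hr)),
      c.neg_neg (c.wl_lt hL0r hr)] at this
    exact this
  obtain ⟨χ₀, hχ₀⟩ : ∃ χ₀, χ₀ = χ.comp (c.sigLHom L0.reverse) := ⟨_, rfl⟩
  obtain ⟨e, he⟩ : ∃ e, e = c.borelFun (F := F) χ₀ := ⟨_, rfl⟩
  have heU : c.UFix (leftReg k ↥(D.group F)) e := he ▸ c.borelFun_ufix hinj χ₀
  have heχ : c.HasChar (leftReg k ↥(D.group F)) χ₀ e := he ▸ c.borelFun_char hinj χ₀
  obtain ⟨f, hf⟩ : ∃ f : List ℕ → (↥(D.group F) → k),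
      f = fun A => c.Phi (leftReg k ↥(D.group F)) (A ++ L0) e := ⟨_, rfl⟩
  have hword : ∀ {A}, KWord K A → ∀ q ∈ A ++ L0, q < D.rank := fun hA q hq =>
    (List.mem_append.1 hq).elim (KWord.lt hA q) (hL0 q)
  have hchar : ∀ {A}, KWord K A → χ₀.comp (c.sigLHom (A ++ L0)) = χ := by
    intro A hA
    refine MonoidHom.ext fun z => ?_
    rw [hχ₀]
    show χ (c.sigL L0.reverse (c.sigL (A ++ L0) z)) = χ z
    rw [c.sigL_append (KWord.lt hA), c.sigL_rev hL0, c.comp_sigL_of_node χ hK1 hA]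
  have hpos : ∀ {A}, KWord K A → ∀ i : Fin D.rank,
      (c.Pos (c.wl (A ++ L0).reverse (D.simple i)) ↔ ¬ c.Pos (c.wl A.reverse (D.simple i))) := by
    intro A hA i
    rw [List.reverse_append, c.wl_append]
    exact hneg' _ (c.wl_lt (KWord.lt (KWord.rev hA)) (c.simple_lt i.2))
  have hindep : ∀ {A A'}, KWord K A → KWord K A' →
      (∀ s, s < D.nroots → c.wl A s = c.wl A' s) → f A' = f A := by
    intro A A' hA hA' h
    obtain ⟨z, hz, ez⟩ := c.wG_eq_of_wl (F := F) hA hA' h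
    have hset : c.invSet (A' ++ L0).reverse = c.invSet (A ++ L0).reverse :=
      Set.ext fun r => and_congr_right fun hr => by
        rw [List.reverse_append, List.reverse_append, c.wl_append, c.wl_append,
          c.wl_reverse_congr (KWord.lt hA) (KWord.lt hA') h hr.2]
    rw [hf]
    show c.Phi _ (A' ++ L0) e = c.Phi _ (A ++ L0) e
    rw [Phi, Phi, hset, c.wG_append A', ez, mul_assoc, ← c.wG_append,
      c.theta_mul_wG (hword hA), map_mul, Module.End.mul_apply, heχ, map_smul, c.sumKS_smul]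
    have h1 := DFunLike.congr_fun (hchar hA) z
    have h2 : (χ₀ (c.sigL (A ++ L0) z) : kˣ) = 1 := h1.trans (c.char_KT χ hK1 hz)
    rw [h2, Units.val_one, one_smul]
  -- one word for each element of the parabolic subgroup of the Weyl group
  obtain ⟨X, hX⟩ : ∃ X : Set (Fin D.nroots → Fin D.nroots),
      X = {φ | ∃ A, KWord K A ∧ ∀ r : Fin D.nroots, (φ r : ℕ) = c.wl A r} := ⟨_, rfl⟩
  choose A hAK hAX using fun x : X =>
    (show ∃ A, KWord K A ∧ ∀ r : Fin D.nroots, ((x : Fin D.nroots → Fin D.nroots) r : ℕ) = c.wl A r by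
      obtain ⟨φ, hφ⟩ := x
      rw [hX] at hφ
      exact hφ)
  obtain ⟨u, hu⟩ : ∃ u : ↥(D.group F) → k, u = ∑ x : X, f (A x) := ⟨_, rfl⟩
  refine ⟨u, ?_, fun r t hr => ?_, fun z => ?_, fun i => ?_⟩
  · intro h0
    have hid : (id : Fin D.nroots → Fin D.nroots) ∈ X := by
      rw [hX]
      exact ⟨[], fun q hq => absurd hq List.not_mem_nil, fun r => rfl⟩
    obtain ⟨x0, hx0⟩ : ∃ x0 : X, x0 = ⟨id, hid⟩ := ⟨_, rfl⟩
    have h1 : u (c.wG F (A x0 ++ L0)) = 1 := by
      rw [hu, Finset.sum_apply, Finset.sum_eq_single x0]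
      · simp only [hf, he]
        exact c.Phi_borelFun_self hinj χ₀ (hword (hAK x0))
      · intro x _ hx
        by_contra hne
        simp only [hf, he] at hne
        have h2 := c.Phi_borelFun_eq_zero χ₀ (hword (hAK x)) (hword (hAK x0)) hne
        refine hx (Subtype.ext (funext fun r => Fin.ext ?_))
        have hs := c.wl_lt hL0r r.2
        have h3 := h2 _ hs
        rw [c.wl_append, c.wl_append, c.wl_reverse hL0 r.2] at h3
        rw [hAX x r, hAX x0 r, h3]
      · exact fun h' => absurd (Finset.mem_univ _) h'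
    rw [h0] at h1
    exact zero_ne_one h1
  · rw [hu, map_sum]
    refine Finset.sum_congr rfl fun x _ => ?_
    simp only [hf]
    exact c.Phi_ufix _ (hword (hAK x)) heU r t hr
  · rw [hu, map_sum, Finset.smul_sum]
    refine Finset.sum_congr rfl fun x _ => ?_
    simp only [hf]
    rw [c.Phi_char _ (hword (hAK x)) heχ z, hchar (hAK x)]
  · rw [hu, map_sum, Finset.smul_sum]
    have hκ : (if node χ i = 1 then (-1 : k) else 0) =
        if i ∈ K then (-1 : k) else labelMu π i := by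
      by_cases hi : i ∈ K
      · rw [if_pos hi, if_pos (hK1 i hi)]
      · rw [if_neg hi, labelMu, hnode]
        rcases hπ : π i with _ | ψ
        · simp
        · have hψ : ψ ≠ 1 := fun e => hi ((hKmem i).2 (by rw [hπ, e]))
          simp [hψ]
    have hdown : ∀ {B}, KWord K B → c.Pos (c.wl B.reverse (D.simple i)) →
        c.Tp (leftReg k ↥(D.group F)) i (f B) =
          (if i ∈ K then (-1 : k) else labelMu π i) • f B := by
      intro B hB hp'
      simp only [hf]
      rw [c.Tp_Phi_down _ (p := p) i (hword hB) heU heχ (fun h => (hpos hB i).1 h hp'), hchar hB, hκ]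
    by_cases hi : i ∈ K
    · -- the reflection exchanges the two kinds
      have hmu : labelMu π i = 0 := by rw [labelMu, (hKmem i).1 hi]; simp
      simp only [hmu, zero_smul, Finset.sum_const_zero]
      have hsw : ∀ x : X, ∃ y : X, ∀ r : Fin D.nroots,
          ((y : Fin D.nroots → Fin D.nroots) r : ℕ) = c.wl ((i : ℕ) :: A x) r := fun x => by
        have hKc := KWord.cons hi (hAK x)
        refine ⟨⟨fun r => ⟨_, c.wl_lt (KWord.lt hKc) r.2⟩, ?_⟩, fun r => rfl⟩
        rw [hX]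
        exact ⟨_, hKc, fun r => rfl⟩
      choose σ hσ using hsw
      have hσf : ∀ x, f (A (σ x)) = f ((i : ℕ) :: A x) := fun x =>
        hindep (KWord.cons hi (hAK x)) (hAK (σ x))
          fun s hs => (hσ x ⟨s, hs⟩).symm.trans (hAX (σ x) ⟨s, hs⟩)
      have hwl : ∀ x, ∀ s, s < D.nroots → c.wl (A (σ x)) s = c.w i (c.wl (A x) s) := fun x s hs =>
        (hAX (σ x) ⟨s, hs⟩).symm.trans (hσ x ⟨s, hs⟩)
      have hσσ : ∀ x, σ (σ x) = x := fun x => Subtype.ext (funext fun r => Fin.ext (by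
        rw [hσ (σ x) r, Cert.wl_cons, hwl x r r.2, c.w_w i.2 (c.wl_lt (KWord.lt (hAK x)) r.2),
          hAX x r]))
      have hflip : ∀ x, c.Pos (c.wl (A (σ x)).reverse (D.simple i)) ↔
          ¬ c.Pos (c.wl (A x).reverse (D.simple i)) := fun x => by
        have hAr : ∀ q ∈ (A x).reverse, q < D.rank := KWord.lt (KWord.rev (hAK x))
        rw [c.wl_reverse_congr (A' := (i : ℕ) :: A x) (KWord.lt (hAK (σ x)))
          (KWord.lt (KWord.cons hi (hAK x))) (fun s hs => hwl x s hs) (c.simple_lt i.2),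
          List.reverse_cons, c.wl_append, Cert.wl_cons, Cert.wl_nil, c.w_simple i.2,
          c.wl_neg hAr (c.simple_lt i.2), c.not_pos_iff (c.wl_lt hAr (c.simple_lt i.2))]
      have hT : ∀ x, c.Tp (leftReg k ↥(D.group F)) i (f (A x)) =
          if c.Pos (c.wl (A x).reverse (D.simple i)) then -f (A x) else f (A (σ x)) := by
        intro x
        by_cases hp' : c.Pos (c.wl (A x).reverse (D.simple i))
        · rw [if_pos hp', hdown (hAK x) hp', if_pos hi, neg_one_smul]
        · rw [if_neg hp', hσf x]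
          simp only [hf, List.cons_append]
          exact c.Tp_Phi _ i.2 (hword (hAK x)) ((hpos (hAK x) i).2 hp') e
      rw [Finset.sum_congr rfl fun x _ => hT x]
      rw [Finset.sum_ite]
      have hbij : ∑ x ∈ Finset.univ.filter (fun x : X => ¬ c.Pos (c.wl (A x).reverse (D.simple i))),
          f (A (σ x)) = ∑ x ∈ Finset.univ.filter
            (fun x : X => c.Pos (c.wl (A x).reverse (D.simple i))), f (A x) := by
        refine Finset.sum_nbij' σ σ (fun x hx => ?_) (fun x hx => ?_) (fun x _ => hσσ x)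
          (fun x _ => hσσ x) fun x _ => rfl
        · rw [Finset.mem_filter] at hx ⊢
          exact ⟨Finset.mem_univ _, (hflip x).2 hx.2⟩
        · rw [Finset.mem_filter] at hx ⊢
          exact ⟨Finset.mem_univ _, fun h => (hflip x).1 h hx.2⟩
      rw [hbij, Finset.sum_neg_distrib, neg_add_cancel]
    · refine Finset.sum_congr rfl fun x _ => ?_
      have hp' : c.Pos (c.wl (A x).reverse (D.simple i)) :=
        c.pos_of_vec_pos (c.wl_lt (KWord.lt (KWord.rev (hAK x))) (c.simple_lt i.2)) i.2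
          (by rw [c.vec_wl_outside (KWord.rev (hAK x)) hi]; exact one_pos)
      rw [hdown (hAK x) hp', if_neg hi]

/-- Every label is the weight of an irreducible representation. -/
theorem exists_irr_of_label
    (hH : Nat.card (D.diagonalSubgroup F) = (Fintype.card F - 1) ^ D.rank)
    (π : Fin D.rank → Option (Fˣ →* kˣ)) :
    ∃ (S : Type u) (_ : AddCommGroup S) (_ : Module k S) (_ : FiniteDimensional k S)
      (σ : ↥(D.group F) →* Module.End k S) (x : S),
      Irr σ ∧ c.IsWeight σ (labelChar π) (labelMu π) x := by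
  classical
  obtain ⟨w, hw⟩ := c.exists_weight_of_label (p := p) hH π
  obtain ⟨R, hR⟩ : ∃ R : ↥(D.group F) →* Module.End k (↥(D.group F) → k),
      R = leftReg k ↥(D.group F) := ⟨_, rfl⟩
  rw [← hR] at hw
  haveI : FiniteDimensional k (↥(D.group F) → k) := inferInstance
  obtain ⟨X, hX⟩ : ∃ X, X = negSpan R w := ⟨_, rfl⟩
  have hXinv : ∀ g, ∀ a ∈ X, R g a ∈ X := hX ▸ c.negSpan_invariant R hw
  have hwX : w ∈ X := hX ▸ c.self_mem_negSpan R w
  obtain ⟨Y, ⟨hYX, hYinv, hwY⟩, hmax⟩ :=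
    (wellFounded_gt (α := Submodule k (↥(D.group F) → k))).has_min
      {Y | Y ≤ X ∧ (∀ g, ∀ a ∈ Y, R g a ∈ Y) ∧ w ∉ Y}
      ⟨⊥, bot_le, fun g a ha => by rw [Submodule.mem_bot] at ha ⊢; rw [ha, map_zero],
        fun h => hw.1 ((Submodule.mem_bot k).1 h)⟩
  let RX : ↥(D.group F) →* Module.End k X :=
    { toFun := fun g => (R g).restrict (hXinv g)
      map_one' := LinearMap.ext fun x => Subtype.ext (by
        show R 1 (x : ↥(D.group F) → k) = (x : ↥(D.group F) → k)
        rw [map_one]; rfl)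
      map_mul' := fun g h => LinearMap.ext fun x => Subtype.ext (by
        show R (g * h) (x : ↥(D.group F) → k) = R g (R h (x : ↥(D.group F) → k))
        rw [map_mul]; rfl) }
  let Z : Submodule k X := Y.comap X.subtype
  have hZ : ∀ g, Z ≤ Z.comap (RX g) := fun g x hx => hYinv g x hx
  let σ : ↥(D.group F) →* Module.End k (X ⧸ Z) :=
    { toFun := fun g => Z.mapQ Z (RX g) (hZ g)
      map_one' := Submodule.linearMap_qext _ (LinearMap.ext fun x => by
        show Submodule.Quotient.mk (RX 1 x) = Submodule.Quotient.mk x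
        rw [map_one]; rfl)
      map_mul' := fun g h => Submodule.linearMap_qext _ (LinearMap.ext fun x => by
        show Submodule.Quotient.mk (RX (g * h) x) = Submodule.Quotient.mk (RX g (RX h x))
        rw [map_mul]; rfl) }
  have hσ : ∀ g (x : X), σ g (Submodule.Quotient.mk x) = Submodule.Quotient.mk (RX g x) :=
    fun g x => rfl
  have hne : Submodule.Quotient.mk (p := Z) (⟨w, hwX⟩ : X) ≠ 0 := by
    rw [Ne, Submodule.Quotient.mk_eq_zero]; exact hwY
  refine ⟨X ⧸ Z, inferInstance, inferInstance, inferInstance, σ, Submodule.Quotient.mk ⟨w, hwX⟩,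
    ⟨⟨⟨_, _, hne⟩⟩, fun T hT => ?_⟩, hne, fun r t hr => ?_, fun z => ?_, fun i => ?_⟩
  · -- the submodules between Y and X
    let Y' : Submodule k (↥(D.group F) → k) := (T.comap Z.mkQ).map X.subtype
    have hY'X : Y' ≤ X := Submodule.map_subtype_le _ _
    have hYY' : Y ≤ Y' := fun y hy => ⟨⟨y, hYX hy⟩, by
      show Z.mkQ ⟨y, hYX hy⟩ ∈ T
      rw [Submodule.mkQ_apply, (Submodule.Quotient.mk_eq_zero Z).2 hy]
      exact T.zero_mem, rfl⟩
    have hY'inv : ∀ g, ∀ a ∈ Y', R g a ∈ Y' := by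
      rintro g _ ⟨x, hx, rfl⟩
      exact ⟨RX g x, hT g _ hx, rfl⟩
    by_cases hwY' : w ∈ Y'
    · right
      have hall : X ≤ Y' := by
        rw [hX]
        refine Submodule.span_le.2 ?_
        rintro _ ⟨g, -, rfl⟩
        exact hY'inv g w hwY'
      refine Submodule.eq_top_iff'.2 fun q => ?_
      obtain ⟨x, rfl⟩ := Submodule.Quotient.mk_surjective Z q
      obtain ⟨y, hy, hyx⟩ := hall x.2
      rwa [← show y = x from Subtype.ext hyx]
    · left
      have h2 : Y' = Y := by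
        by_contra hne'
        exact hmax Y' ⟨hY'X, hY'inv, hwY'⟩ (lt_of_le_of_ne hYY' (Ne.symm hne'))
      refine (Submodule.eq_bot_iff T).2 fun q hq => ?_
      obtain ⟨x, rfl⟩ := Submodule.Quotient.mk_surjective Z q
      exact (Submodule.Quotient.mk_eq_zero Z).2 (h2 ▸ ⟨x, hq, rfl⟩ : (x : ↥(D.group F) → k) ∈ Y)
  · rw [hσ]
    exact congrArg Submodule.Quotient.mk (Subtype.ext (hw.2.1 r t hr))
  · rw [hσ, ← Submodule.Quotient.mk_smul]
    exact congrArg Submodule.Quotient.mk (Subtype.ext (hw.2.2.1 z))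
  · have e1 := hw.2.2.2 i
    rw [c.Tp_apply] at e1
    rw [c.Tp_apply]
    simp only [hσ]
    simp only [← Submodule.mkQ_apply]
    rw [← map_sum, ← map_smul]
    refine congrArg _ (Subtype.ext ?_)
    rw [Submodule.coe_sum, Submodule.coe_smul]
    exact e1

end main

end CertFull

end Cfsg.Agent.Lie.Chev
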