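import Cfsg.Agent.Lib.Lie.Chev.ModularBasic
import Cfsg.Agent.Lib.Lie.Chev.Centralizer
import Cfsg.Agent.Lib.Char.CycModular
import Cfsg.Agent.Lib.Block.GreenIntersection
import Mathlib.LinearAlgebra.Dual.Lemmas

/-!
Weights of representations of a Chevalley group in the defining characteristic, after Curtis and
Richen: existence, the spanning by the negative unipotent subgroup, uniqueness.
-/

set_option autoImplicit false

namespace Cfsg.Agent.Lie.Chev

open Cfsg.Lie Matrix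
open Cfsg.Agent.Char.CycMod (Irr Intw zero_or_bijective)

universe u v

/-- A common eigenvector of a commutative monoid. -/
theorem exists_common_eigen {A : Type*} [CommMonoid A] [Fintype A] {k : Type*} [Field k]
    [IsAlgClosed k] {V : Type*} [AddCommGroup V] [Module k V] [FiniteDimensional k V]
    (ρ : A →* Module.End k V) (W : Submodule k V) (hW : W ≠ ⊥)
    (hinv : ∀ a, ∀ x ∈ W, ρ a x ∈ W) :
    ∃ x ∈ W, x ≠ 0 ∧ ∀ a, ∃ r : k, ρ a x = r • x := by
  classical
  suffices h : ∀ s : Finset A, ∃ X : Submodule k V, X ≤ W ∧ X ≠ ⊥ ∧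
      (∀ a, ∀ x ∈ X, ρ a x ∈ X) ∧ ∀ a ∈ s, ∃ r : k, ∀ x ∈ X, ρ a x = r • x by
    obtain ⟨X, hXW, hX, -, hs⟩ := h Finset.univ
    obtain ⟨x, hx, hx0⟩ := Submodule.exists_mem_ne_zero_of_ne_bot hX
    exact ⟨x, hXW hx, hx0, fun a => (hs a (Finset.mem_univ a)).imp fun r hr => hr x hx⟩
  intro s
  induction s using Finset.induction with
  | empty => exact ⟨W, le_rfl, hW, hinv, by simp⟩
  | insert a s _ ih =>
    obtain ⟨X, hXW, hX, hXinv, hs⟩ := ih
    haveI : Nontrivial X := Submodule.nontrivial_iff_ne_bot.2 hX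
    obtain ⟨r, hr⟩ := Module.End.exists_eigenvalue ((ρ a).restrict (hXinv a) : Module.End k X)
    obtain ⟨x0, hx0⟩ := hr.exists_hasEigenvector
    refine ⟨X ⊓ LinearMap.ker (ρ a - r • (1 : Module.End k V)), inf_le_left.trans hXW, ?_, ?_, ?_⟩
    · refine (Submodule.ne_bot_iff _).2 ⟨x0, Submodule.mem_inf.2 ⟨x0.2, ?_⟩,
        fun e => hx0.2 (Subtype.ext e)⟩
      rw [LinearMap.mem_ker]
      have := congrArg Subtype.val hx0.apply_eq_smul
      rw [LinearMap.sub_apply, LinearMap.smul_apply, Module.End.one_apply, sub_eq_zero]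
      exact this
    · intro b x hx
      rw [Submodule.mem_inf, LinearMap.mem_ker, LinearMap.sub_apply, LinearMap.smul_apply,
        Module.End.one_apply, sub_eq_zero] at hx ⊢
      refine ⟨hXinv b x hx.1, ?_⟩
      rw [← Module.End.mul_apply, ← map_mul, mul_comm, map_mul, Module.End.mul_apply, hx.2, map_smul]
    · intro b hb
      rcases Finset.mem_insert.1 hb with rfl | hb
      · refine ⟨r, fun x hx => ?_⟩
        have h2 := (Submodule.mem_inf.1 hx).2
        rwa [LinearMap.mem_ker, LinearMap.sub_apply, LinearMap.smul_apply, Module.End.one_apply,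
          sub_eq_zero] at h2
      · exact (hs b hb).imp fun r hr x hx => hr x (Submodule.mem_inf.1 hx).1

namespace CertFull

variable {D : ChevalleyDatum} (c : CertFull D) {F : Type u} [Field F]
variable {k : Type} [Field k] {V : Type v} [AddCommGroup V] [Module k V]
variable (ρ : ↥(D.group F) →* Module.End k V)

/-- Fixed by the positive root elements. -/
def UFix (x : V) : Prop := ∀ r t, c.Pos r → ρ (c.mxG r t) x = x

/-- An eigenvector of the torus with the given character. -/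
def HasChar (χ : (Fin D.rank → Fˣ) →* kˣ) (x : V) : Prop :=
  ∀ z, ρ (c.theta z) x = (χ z : k) • x

/-- The operator of a fundamental reflection. -/
def Tp [Fintype F] (p : ℕ) : Module.End k V :=
  ∑ t : F, ρ (c.mxG (D.simple p) t * c.nG F p)

/-- A weight vector. -/
def IsWeight [Fintype F] (χ : (Fin D.rank → Fˣ) →* kˣ) (μ : Fin D.rank → k) (x : V) : Prop :=
  x ≠ 0 ∧ c.UFix ρ x ∧ c.HasChar ρ χ x ∧ ∀ p : Fin D.rank, c.Tp ρ p x = μ p • x

/-- The sum over the group of a set of positive roots. -/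
noncomputable def sumKS (S : Set ℕ) (x : V) : V :=
  ∑ᶠ g : c.KS F S c.T.h, ρ ⟨(g : GL D.Idx F), c.KS_le_group S c.T.h g.2⟩ x

/-- The operator of a word. -/
noncomputable def Phi (L : List ℕ) (x : V) : V :=
  c.sumKS ρ (c.invSet L.reverse) (ρ (c.wG F L) x)

include c

omit c in
/-- The character at one node. -/
def node (χ : (Fin D.rank → Fˣ) →* kˣ) (p : Fin D.rank) : Fˣ →* kˣ :=
  χ.comp (MonoidHom.mulSingle (fun _ => Fˣ) p)

omit c in
theorem node_apply (χ : (Fin D.rank → Fˣ) →* kˣ) (p : Fin D.rank) (a : Fˣ) :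
    node χ p a = χ (Pi.mulSingle p a) := rfl

theorem sig_mul (p : Fin D.rank) (z z' : Fin D.rank → Fˣ) :
    c.sig p (z * z') = c.sig p z * c.sig p z' := by
  funext j
  rcases eq_or_ne j p with rfl | hj
  · simp only [sig, Function.update_self, Pi.mul_apply, mul_zpow, Finset.prod_mul_distrib]
    ac_rfl
  · simp only [sig, Function.update_of_ne hj, Pi.mul_apply]

/-- The reflection as a homomorphism. -/
def sigHom (p : Fin D.rank) : (Fin D.rank → Fˣ) →* (Fin D.rank → Fˣ) :=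
  MonoidHom.mk' (c.sig p) (c.sig_mul p)

theorem sigL_mul (L : List ℕ) (z z' : Fin D.rank → Fˣ) :
    c.sigL L (z * z') = c.sigL L z * c.sigL L z' := by
  induction L generalizing z z' with
  | nil => rfl
  | cons p L ih =>
    by_cases h : p < D.rank
    · simp only [sigL, dif_pos h, c.sig_mul, ih]
    · simp only [sigL, dif_neg h]

/-- The movement through a word as a homomorphism. -/
def sigLHom (L : List ℕ) : (Fin D.rank → Fˣ) →* (Fin D.rank → Fˣ) :=
  MonoidHom.mk' (c.sigL L) (c.sigL_mul L)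

theorem UFix.apply {x : V} (hx : c.UFix ρ x) {g : GL D.Idx F} (hg : g ∈ D.posUnipotent F)
    (hG : g ∈ D.group F) : ρ ⟨g, hG⟩ x = x := by
  induction hg using Subgroup.closure_induction with
  | mem g hg =>
    obtain ⟨r, t, hr, hgt⟩ := hg
    obtain rfl := c.eq_xg_iff.1 hgt
    exact hx r t (c.posRoot_iff.1 hr)
  | one => exact (LinearMap.congr_fun (map_one ρ) x)
  | mul a b ha hb iha ihb =>
    have haG : a ∈ D.group F := c.B_le_group (Subgroup.mem_sup_left ha)
    have hbG : b ∈ D.group F := c.B_le_group (Subgroup.mem_sup_left hb)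
    show ρ (⟨a, haG⟩ * ⟨b, hbG⟩) x = x
    rw [map_mul, Module.End.mul_apply, ihb hbG, iha haG]
  | inv a ha iha =>
    have haG : a ∈ D.group F := c.B_le_group (Subgroup.mem_sup_left ha)
    show ρ (⟨a, haG⟩⁻¹) x = x
    conv_lhs => rw [← iha haG, ← Module.End.mul_apply, ← map_mul, inv_mul_cancel, map_one,
      Module.End.one_apply]

theorem UFix.smul {x : V} (hx : c.UFix ρ x) (a : k) : c.UFix ρ (a • x) :=
  fun r t hr => by rw [map_smul, hx r t hr]

variable [Fintype F]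

theorem Tp_apply (p : ℕ) (x : V) :
    c.Tp ρ p x = ∑ t : F, ρ (c.mxG (D.simple p) t) (ρ (c.nG F p) x) := by
  simp [Tp, map_mul]

theorem sum_xG_shift (r : ℕ) (a : F) (x : V) :
    ∑ s : F, ρ (c.mxG r s) (ρ (c.mxG r a) x) = ∑ s : F, ρ (c.mxG r s) x :=
  Fintype.sum_equiv (Equiv.addRight a) _ _ fun s => by
    rw [Equiv.coe_addRight, c.mxG_add, map_mul, Module.End.mul_apply]

section square

variable {p : ℕ} [hp : Fact p.Prime] [CharP k p] [CharP F p]
include hp

omit c in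
theorem natCast_card_eq_zero : ((Fintype.card F : ℕ) : k) = 0 := by
  obtain ⟨n, -, hn⟩ := FiniteField.card F p
  rw [hn, Nat.cast_pow, CharP.cast_eq_zero]
  exact zero_pow n.ne_zero

/-- The quadratic relation. -/
theorem Tp_Tp (i : Fin D.rank) {χ : (Fin D.rank → Fˣ) →* kˣ} {x : V} (hU : c.UFix ρ x)
    (hχ : c.HasChar ρ χ x) [Decidable (node χ i = 1)] :
    c.Tp ρ i (c.Tp ρ i x) = (if node χ i = 1 then (-1 : k) else 0) • c.Tp ρ i x := by
  classical
  have hα := c.simple_lt i.2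
  have hpα := c.pos_simple i.2
  obtain ⟨η, hη⟩ : ∃ η : F, η = (c.T.eta i (D.simple i) : F) := ⟨_, rfl⟩
  have hη2 : η * η = 1 := hη ▸ c.eta_F_sq i (D.simple i)
  have hη0 : η ≠ 0 := left_ne_zero_of_mul (b := η) (by rw [hη2]; exact one_ne_zero)
  obtain ⟨c0, hc0⟩ : ∃ c0 : k, c0 = (node χ i (-1) : k) := ⟨_, rfl⟩
  have hyb : ∀ b : Fˣ, ρ (c.mxG (D.neg (D.simple i)) (b : F)) x =
      (node χ i (-b) : k) • ρ (c.mxG (D.simple i) (b : F)⁻¹) (ρ (c.nG F i) x) := by
    intro b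
    rw [c.mxG_neg_eq, map_mul, map_mul, Module.End.mul_apply, Module.End.mul_apply, hU _ _ hpα,
      c.theta_mul_nG, c.sig_single, map_mul, Module.End.mul_apply, hχ, map_smul, map_smul,
      node_apply, inv_neg, inv_inv]
  have hinner : ∀ s : F, ρ (c.mxG (D.simple i) s) (ρ (c.nG F i) (c.Tp ρ i x)) =
      c0 • ∑ t : F, ρ (c.mxG (D.simple i) s) (ρ (c.mxG (D.neg (D.simple i)) (η * t)) x) := by
    intro s
    rw [c.Tp_apply, map_sum, map_sum, Finset.smul_sum]
    refine Finset.sum_congr rfl fun t _ => ?_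
    have e1 : ρ (c.nG F i) (ρ (c.mxG (D.simple i) t) (ρ (c.nG F i) x)) =
        ρ (c.nG F i * c.mxG (D.simple i) t * c.nG F i) x := by
      rw [map_mul, map_mul, Module.End.mul_apply, Module.End.mul_apply]
    rw [e1, c.nG_xG_nG, map_mul, Module.End.mul_apply, hχ, map_smul, map_smul, hc0, hη,
      node_apply]
  rw [c.Tp_apply ρ i (c.Tp ρ i x), Finset.sum_congr rfl fun s _ => hinner s, ← Finset.smul_sum]
  conv_lhs => arg 2; arg 2; ext s; rw [Fintype.sum_equiv (Equiv.mulLeft₀ η hη0)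
    (fun t => ρ (c.mxG (D.simple i) s) (ρ (c.mxG (D.neg (D.simple i)) (η * t)) x))
    (fun t => ρ (c.mxG (D.simple i) s) (ρ (c.mxG (D.neg (D.simple i)) t) x)) fun t => rfl]
  rw [Finset.sum_comm]
  have h0 : ∑ s : F, ρ (c.mxG (D.simple i) s) (ρ (c.mxG (D.neg (D.simple i)) (0 : F)) x) = 0 := by
    rw [c.mxG_zero, map_one, Module.End.one_apply, Finset.sum_congr rfl fun s _ => hU _ s hpα,
      Finset.sum_const, Finset.card_univ, ← Nat.cast_smul_eq_nsmul k, natCast_card_eq_zero (p := p),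
      zero_smul]
  have hb : ∀ b : Fˣ, ∑ s : F, ρ (c.mxG (D.simple i) s) (ρ (c.mxG (D.neg (D.simple i)) (b : F)) x) =
      (node χ i (-b) : k) • c.Tp ρ i x := by
    intro b
    rw [Finset.sum_congr rfl fun s _ => show ρ (c.mxG (D.simple i) s)
        (ρ (c.mxG (D.neg (D.simple i)) (b : F)) x) = (node χ i (-b) : k) •
          ρ (c.mxG (D.simple i) s) (ρ (c.mxG (D.simple i) (b : F)⁻¹) (ρ (c.nG F i) x)) by
      rw [hyb, map_smul], ← Finset.smul_sum, c.sum_xG_shift, ← c.Tp_apply]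
  have hsum : ∀ f : F → V, f 0 = 0 → ∑ t : F, f t = ∑ b : Fˣ, f b := by
    intro f hf
    rw [← Finset.sum_erase Finset.univ hf,
      Finset.sum_subtype (Finset.univ.erase (0 : F)) (p := fun t : F => t ≠ 0) (fun t => by simp) f]
    exact Fintype.sum_equiv unitsEquivNeZero.symm _ _ fun t => rfl
  rw [hsum _ h0, Finset.sum_congr rfl fun b _ => hb b, ← Finset.sum_smul, smul_smul]
  congr 1
  rw [Fintype.sum_equiv (Equiv.neg Fˣ) (fun b => (node χ i (-b) : k))
    (fun b => (((Units.coeHom k).comp (node χ i)) b)) fun b => rfl, sum_hom_units]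
  have hiff : (Units.coeHom k).comp (node χ i) = 1 ↔ node χ i = 1 :=
    ⟨fun h => MonoidHom.ext fun a => Units.ext (DFunLike.congr_fun h a),
      fun h => by rw [h]; rfl⟩
  by_cases h : node χ i = 1
  · rw [if_pos (hiff.2 h), if_pos h, hc0, h, MonoidHom.one_apply, Units.val_one, one_mul,
      Fintype.card_units, Nat.cast_sub Fintype.card_pos, natCast_card_eq_zero (p := p)]
    simp
  · rw [if_neg (fun h' => h (hiff.1 h')), if_neg h, Nat.cast_zero, mul_zero]

/-- The scalar of a weight vector at a node. -/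
theorem IsWeight.mu_cases {χ : (Fin D.rank → Fˣ) →* kˣ} {μ : Fin D.rank → k} {x : V}
    (h : c.IsWeight ρ χ μ x) (i : Fin D.rank) :
    μ i = 0 ∨ (node χ i = 1 ∧ μ i = -1) := by
  classical
  obtain ⟨hx, hU, hχ, hT⟩ := h
  have h2 := c.Tp_Tp ρ (p := p) i hU hχ
  rw [hT, map_smul, hT, smul_smul, smul_smul, ← sub_eq_zero, ← sub_smul, smul_eq_zero,
    or_iff_left hx, sub_eq_zero] at h2
  by_cases h0 : μ i = 0
  · exact Or.inl h0
  have h3 := mul_right_cancel₀ h0 h2
  by_cases hn : node χ i = 1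
  · exact Or.inr ⟨hn, by rwa [if_pos hn] at h3⟩
  · exact absurd (by rwa [if_neg hn] at h3) h0

end square

/-! ### The operators of words -/

theorem keep_fix {L : List ℕ} (hL : ∀ q ∈ L, q < D.rank) {g : GL D.Idx F}
    (hg : g ∈ c.KS F (c.keepSet L.reverse) c.T.h) :
    ∃ g' ∈ D.posUnipotent F, g * c.nw F L = c.nw F L * g' := by
  induction hg using Subgroup.closure_induction with
  | mem g hg =>
    obtain ⟨r, t, hr, -, rfl⟩ := hg
    have hLr : ∀ q ∈ L.reverse, q < D.rank := fun q hq => hL q (List.mem_reverse.1 hq)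
    refine ⟨c.xg (c.wl L.reverse r) ((c.wsign L (c.wl L.reverse r) : F) * t), c.xg_mem_U hr.2 _, ?_⟩
    rw [c.nw_mul_xg hL (c.wl_lt hLr hr.1.2), c.wl_reverse hL hr.1.2, ← mul_assoc, c.wsign_sq,
      one_mul]
  | one => exact ⟨1, one_mem _, by simp⟩
  | mul a b _ _ iha ihb =>
    obtain ⟨a', ha', ea⟩ := iha
    obtain ⟨b', hb', eb⟩ := ihb
    exact ⟨a' * b', mul_mem ha' hb', by rw [mul_assoc, eb, ← mul_assoc, ea, mul_assoc]⟩
  | inv a _ iha =>
    obtain ⟨a', ha', ea⟩ := iha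
    refine ⟨a'⁻¹, inv_mem ha', ?_⟩
    rw [inv_mul_eq_iff_eq_mul, ← mul_assoc, ea, mul_inv_cancel_right]

theorem Phi_ufix {L : List ℕ} (hL : ∀ q ∈ L, q < D.rank) {x : V} (hx : c.UFix ρ x) :
    c.UFix ρ (c.Phi ρ L x) := by
  intro r t hr
  have hLr : ∀ q ∈ L.reverse, q < D.rank := fun q hq => hL q (List.mem_reverse.1 hq)
  obtain ⟨S, hS⟩ : ∃ S, S = c.invSet L.reverse := ⟨_, rfl⟩
  have hSc : c.IsClosed S := hS ▸ c.invSet_closed hLr
  haveI := Fintype.ofFinite (c.KS F S c.T.h)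
  have hdec : ∀ u : c.KS F S c.T.h, ∃ u' : c.KS F S c.T.h, ∃ w ∈ c.KS F (c.keepSet L.reverse) c.T.h,
      c.xg r t * (u : GL D.Idx F) = u' * w := by
    intro u
    have hmem : c.xg r t * (u : GL D.Idx F) ∈ D.posUnipotent F :=
      mul_mem (c.xg_mem_U hr t) (c.KS_le_U hSc _ u.2)
    rw [c.posUnipotent_eq] at hmem
    obtain ⟨v, hv, w, hw, e⟩ := c.exists_mul_KS hSc (c.keepSet_closed hLr)
      (fun s hs => by
        rw [hS]
        by_cases h : c.Pos (c.wl L.reverse s); exacts [Or.inr ⟨hs, h⟩, Or.inl ⟨hs, h⟩])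
      _ c.T.h rfl le_rfl _ hmem
    exact ⟨⟨v, hv⟩, w, hw, e⟩
  choose f w hw e using hdec
  have hf : Function.Injective f := by
    intro a b hab
    have h1 : (a : GL D.Idx F)⁻¹ * b = (w a)⁻¹ * w b := by
      calc (a : GL D.Idx F)⁻¹ * b = (c.xg r t * a)⁻¹ * (c.xg r t * b) := by group
        _ = _ := by rw [e a, e b, hab]; group
    have h2 : (a : GL D.Idx F)⁻¹ * b ∈ c.KS F S c.T.h ⊓ c.KS F (c.keepSet L.reverse) c.T.h :=
      Subgroup.mem_inf.2 ⟨mul_mem (inv_mem a.2) b.2, h1 ▸ mul_mem (inv_mem (hw a)) (hw b)⟩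
    rw [c.KS_inf_eq_bot hSc (c.keepSet_closed hLr) (fun s h1 h2 => by
      rw [hS] at h1
      exact h1.2 h2.2), Subgroup.mem_bot, inv_mul_eq_one] at h2
    exact Subtype.ext h2
  rw [Phi, sumKS, ← hS, finsum_eq_sum_of_fintype, map_sum]
  refine Fintype.sum_bijective f (Finite.injective_iff_bijective.1 hf) _ _ fun u => ?_
  have hwG : w u ∈ D.group F := c.KS_le_group _ _ (hw u)
  obtain ⟨g', hg', eg⟩ := c.keep_fix hL (hw u)
  have hg'G : g' ∈ D.group F := c.B_le_group (Subgroup.mem_sup_left hg')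
  have e1 : c.mxG r t * ⟨(u : GL D.Idx F), c.KS_le_group S c.T.h u.2⟩ =
      ⟨(f u : GL D.Idx F), c.KS_le_group S c.T.h (f u).2⟩ * ⟨w u, hwG⟩ := Subtype.ext (e u)
  have e2 : (⟨w u, hwG⟩ : ↥(D.group F)) * c.wG F L = c.wG F L * ⟨g', hg'G⟩ := Subtype.ext eg
  rw [← Module.End.mul_apply, ← map_mul, e1, map_mul, Module.End.mul_apply,
    ← Module.End.mul_apply (ρ ⟨w u, hwG⟩), ← map_mul, e2, map_mul ρ (c.wG F L),
    Module.End.mul_apply, UFix.apply c ρ hx hg' hg'G]

theorem sumKS_smul (S : Set ℕ) (a : k) (x : V) : c.sumKS ρ S (a • x) = a • c.sumKS ρ S x := by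
  haveI := Fintype.ofFinite (c.KS F S c.T.h)
  simp only [sumKS, finsum_eq_sum_of_fintype, Finset.smul_sum, map_smul]

theorem Phi_char {L : List ℕ} (hL : ∀ q ∈ L, q < D.rank) {χ : (Fin D.rank → Fˣ) →* kˣ} {x : V}
    (hx : c.HasChar ρ χ x) : c.HasChar ρ (χ.comp (c.sigLHom L)) (c.Phi ρ L x) := by
  intro z
  show _ = (χ (c.sigL L z) : k) • _
  obtain ⟨S, hS⟩ : ∃ S, S = c.invSet L.reverse := ⟨_, rfl⟩
  rw [Phi, ← hS, ← c.sumKS_smul]
  have ez : ρ (c.theta z) (ρ (c.wG F L) x) = ρ (c.wG F L) ((χ (c.sigL L z) : k) • x) := by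
    rw [← hx, ← Module.End.mul_apply, ← map_mul, c.theta_mul_wG hL, map_mul, Module.End.mul_apply]
  rw [← map_smul, ← ez]
  haveI := Fintype.ofFinite (c.KS F S c.T.h)
  simp only [sumKS, finsum_eq_sum_of_fintype, map_sum]
  have hnorm : ((c.theta z : ↥(D.group F)) : GL D.Idx F) ∈
      Subgroup.normalizer (c.KS F S c.T.h : Set (GL D.Idx F)) :=
    c.torus_le_normalizer (S := {g | ∃ r t, r ∈ S ∧ c.T.h ≤ r ∧ g = c.xg r (t : F)})
      (fun g ⟨r, t, hr, hle, e⟩ => ⟨r, by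
        have : r ∈ c.invSet L.reverse := hS ▸ hr
        exact this.1.2, t, e, fun s => c.xg_mem_KS hr hle s⟩) (c.theta_mem z)
  let f : c.KS F S c.T.h → c.KS F S c.T.h := fun u =>
    ⟨_, (Subgroup.mem_normalizer_iff.1 hnorm u).1 u.2⟩
  have hf : Function.Injective f := fun a b h => Subtype.ext (by
    have := congrArg Subtype.val h
    simpa [f] using this)
  refine Fintype.sum_bijective f (Finite.injective_iff_bijective.1 hf) _ _ fun u => ?_
  rw [← Module.End.mul_apply, ← map_mul, ← Module.End.mul_apply (ρ ⟨(f u : GL D.Idx F), _⟩),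
    ← map_mul]
  congr 2
  refine Subtype.ext ?_
  simp [f]

theorem invSet_up {p : ℕ} (hp : p < D.rank) {L : List ℕ} (hL : ∀ q ∈ L, q < D.rank)
    (hup : c.Pos (c.wl L.reverse (D.simple p))) :
    c.invSet (p :: L).reverse = insert (D.simple p) (c.w p '' c.invSet L.reverse) ∧
      D.simple p ∉ c.w p '' c.invSet L.reverse := by
  have hLr : ∀ q ∈ L.reverse, q < D.rank := fun q hq => hL q (List.mem_reverse.1 hq)
  have hα := c.simple_lt hp
  have hne : ∀ s ∈ c.invSet L.reverse, s ≠ D.simple p := fun s hs e => hs.2 (e ▸ hup)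
  refine ⟨Set.ext fun r => ?_, ?_⟩
  · simp only [invSet, List.reverse_cons, c.wl_append, Cert.wl_cons, Cert.wl_nil, Set.mem_setOf_eq,
      Set.mem_insert_iff, Set.mem_image]
    constructor
    · rintro ⟨hr, hn⟩
      by_cases he : r = D.simple p
      · exact Or.inl he
      · exact Or.inr ⟨c.w p r, ⟨(c.pos_w hp hr he).1, hn⟩, c.w_w hp hr.2⟩
    · rintro (rfl | ⟨s, ⟨hs, hn⟩, rfl⟩)
      · refine ⟨c.pos_simple hp, ?_⟩
        rw [c.w_simple hp, c.wl_neg hLr hα]
        exact fun h => (c.not_pos_iff (c.wl_lt hLr hα)).2 h hup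
      · refine ⟨(c.pos_w hp hs (hne s ⟨hs, hn⟩)).1, ?_⟩
        rwa [c.w_w hp hs.2]
  · rintro ⟨s, hs, e⟩
    exact (c.pos_w hp hs.1 (hne s hs)).2 e

theorem Tp_Phi {p : ℕ} (hp : p < D.rank) {L : List ℕ} (hL : ∀ q ∈ L, q < D.rank)
    (hup : c.Pos (c.wl L.reverse (D.simple p))) (x : V) :
    c.Tp ρ p (c.Phi ρ L x) = c.Phi ρ (p :: L) x := by
  classical
  have hLr : ∀ q ∈ L.reverse, q < D.rank := fun q hq => hL q (List.mem_reverse.1 hq)
  have hpL : ∀ q ∈ (p :: L).reverse, q < D.rank := by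
    intro q hq
    rw [List.mem_reverse, List.mem_cons] at hq
    exact hq.elim (fun e => e ▸ hp) (hL q)
  obtain ⟨heq, hnot⟩ := c.invSet_up hp hL hup
  obtain ⟨S, hS⟩ : ∃ S, S = c.invSet L.reverse := ⟨_, rfl⟩
  obtain ⟨S', hS'⟩ : ∃ S', S' = c.invSet (p :: L).reverse := ⟨_, rfl⟩
  rw [← hS] at heq hnot
  rw [← hS'] at heq
  have hSc : c.IsClosed S := hS ▸ c.invSet_closed hLr
  have hSc' : c.IsClosed S' := hS' ▸ c.invSet_closed hpL
  have hSUp : c.KS F S c.T.h ≤ Up D F p := by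
    refine (Subgroup.closure_le _).2 ?_
    rintro g ⟨r, t, hr, -, rfl⟩
    have hr' : r ∈ c.invSet L.reverse := hS ▸ hr
    exact c.xg_mem_Up hr'.1 (fun e => hr'.2 (e ▸ hup)) t
  have hconj : ∀ g ∈ c.KS F S c.T.h, c.np F p * g * (c.np F p)⁻¹ ∈ c.KS F S' c.T.h := by
    intro g hg
    induction hg using Subgroup.closure_induction with
    | mem g hg =>
      obtain ⟨r, t, hr, -, rfl⟩ := hg
      have hr' : r ∈ c.invSet L.reverse := hS ▸ hr
      have hw : c.w p r ∈ S' := heq ▸ Set.mem_insert_of_mem _ ⟨r, hr, rfl⟩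
      rw [Cert.np, c.ng_conj hp hr'.1.2, mul_inv_cancel_right]
      exact c.xg_mem_KS hw (hSc'.1 _ hw).1 _
    | one => simp [one_mem]
    | mul a b _ _ iha ihb => simpa [mul_assoc] using mul_mem iha ihb
    | inv a _ iha => simpa [mul_assoc] using inv_mem iha
  have hαS : D.simple p ∈ S' := heq ▸ Set.mem_insert _ _
  let f : F × c.KS F S c.T.h → c.KS F S' c.T.h := fun a =>
    ⟨c.xg (D.simple p) a.1 * (c.np F p * (a.2 : GL D.Idx F) * (c.np F p)⁻¹),
      mul_mem (c.xg_mem_KS hαS (c.pos_simple hp).1 _) (hconj _ a.2.2)⟩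
  have hf : Function.Injective f := by
    rintro ⟨t, u⟩ ⟨t', u'⟩ e
    have e' : c.xg (D.simple p) t * (c.np F p * (u : GL D.Idx F) * (c.np F p)⁻¹) =
        c.xg (D.simple p) t' * (c.np F p * (u' : GL D.Idx F) * (c.np F p)⁻¹) :=
      congrArg Subtype.val e
    have h1 : c.xg (D.simple p) (t - t') =
        c.np F p * ((u' : GL D.Idx F) * (u : GL D.Idx F)⁻¹) * (c.np F p)⁻¹ := by
      rw [sub_eq_neg_add, c.xg_add, ← c.xg_inv]
      calc (c.xg (D.simple p) t')⁻¹ * c.xg (D.simple p) t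
          = (c.xg (D.simple p) t')⁻¹ * (c.xg (D.simple p) t *
            (c.np F p * (u : GL D.Idx F) * (c.np F p)⁻¹)) *
            (c.np F p * (u : GL D.Idx F) * (c.np F p)⁻¹)⁻¹ := by group
        _ = _ := by rw [e']; group
    have h1L : ∀ q ∈ [p], q < D.rank := by simpa using hp
    have hUp : Up D F p ≤ c.KS F (c.keepSet [p]) c.T.h := by
      refine (Subgroup.closure_le _).2 ?_
      rintro g ⟨s, a, hs, hne, hg⟩
      obtain rfl := c.eq_xg_iff.1 hg
      have hs' := c.posRoot_iff.1 hs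
      exact c.xg_mem_KS (show s ∈ c.keepSet [p] from ⟨hs', by
        simpa using (c.pos_w hp hs' hne).1⟩) hs'.1 _
    have hαI : D.simple p ∈ c.invSet [p] := ⟨c.pos_simple hp, by
      simp only [Cert.wl_cons, Cert.wl_nil, c.w_simple hp]
      exact fun h => (c.not_pos_iff (c.simple_lt hp)).2 h (c.pos_simple hp)⟩
    have h2 : c.xg (D.simple p) (t - t') ∈
        c.KS F (c.keepSet [p]) c.T.h ⊓ c.KS F (c.invSet [p]) c.T.h :=
      Subgroup.mem_inf.2 ⟨hUp (h1 ▸ c.np_conj_Up hp (hSUp (mul_mem u'.2 (inv_mem u.2)))),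
        c.xg_mem_KS hαI (c.pos_simple hp).1 _⟩
    rw [c.KS_inf_eq_bot (c.keepSet_closed h1L) (c.invSet_closed h1L) (fun s h1 h2 => h2.2 h1.2),
      Subgroup.mem_bot, c.xg_eq_one_iff (c.simple_lt hp), sub_eq_zero] at h2
    subst h2
    have h3 := mul_left_cancel e'
    rw [mul_left_inj, mul_right_inj] at h3
    exact Prod.ext rfl (Subtype.ext h3)
  have hcard : Nat.card (F × c.KS F S c.T.h) = Nat.card (c.KS F S' c.T.h) := by
    haveI : Finite S := Finite.of_injective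
      (fun r : S => (⟨r.1, (hSc.1 r r.2).2⟩ : Fin D.nroots))
      fun a b h => Subtype.ext (congrArg Fin.val h)
    have hinj : Set.InjOn (c.w p) S := fun a ha b hb e =>
      c.w_inj hp (hSc.1 a ha).2 (hSc.1 b hb).2 e
    rw [Nat.card_prod, c.card_KS hSc, c.card_KS hSc', Nat.card_eq_fintype_card, heq,
      Nat.card_coe_set_eq, Nat.card_coe_set_eq, Set.ncard_insert_of_notMem hnot
        ((Set.toFinite S).image _), Set.ncard_image_of_injOn hinj]
    ring
  haveI := Fintype.ofFinite (c.KS F S c.T.h)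
  haveI := Fintype.ofFinite (c.KS F S' c.T.h)
  rw [c.Tp_apply, Phi, Phi, ← hS, ← hS', c.wG_cons]
  simp only [sumKS, finsum_eq_sum_of_fintype, map_sum]
  rw [← Fintype.sum_prod_type' (f := fun (t : F) (u : c.KS F S c.T.h) =>
    ρ (c.mxG (D.simple p) t) (ρ (c.nG F p)
      (ρ ⟨(u : GL D.Idx F), c.KS_le_group S c.T.h u.2⟩ (ρ (c.wG F L) x))))]
  refine Fintype.sum_bijective f
    ((Nat.bijective_iff_injective_and_card f).2 ⟨hf, hcard⟩) _ _ fun a => ?_
  simp only [← Module.End.mul_apply, ← map_mul]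
  congr 2
  refine Subtype.ext ?_
  simp [f, nG, mxG, wG, mul_assoc]

theorem Phi_pp {p : ℕ} (hp : p < D.rank) {L : List ℕ} (hL : ∀ q ∈ L, q < D.rank)
    {χ : (Fin D.rank → Fˣ) →* kˣ} {x : V} (hx : c.HasChar ρ χ x) :
    ∃ r : k, r ≠ 0 ∧ c.Phi ρ (p :: p :: L) x = r • c.Phi ρ L x := by
  have hLr : ∀ q ∈ L.reverse, q < D.rank := fun q hq => hL q (List.mem_reverse.1 hq)
  refine ⟨(χ (c.sigL L (Pi.mulSingle (⟨p, hp⟩ : Fin D.rank) (-1 : Fˣ))) : k), Units.ne_zero _, ?_⟩
  have hset : c.invSet (p :: p :: L).reverse = c.invSet L.reverse := by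
    refine Set.ext fun r => and_congr_right fun hr => ?_
    simp only [List.reverse_cons, List.append_assoc, c.wl_append, Cert.wl_cons, Cert.wl_nil]
    rw [c.w_w hp hr.2]
  rw [Phi, Phi, hset, ← c.sumKS_smul, c.wG_cons, c.wG_cons, ← mul_assoc, c.nG_sq ⟨p, hp⟩,
    c.theta_mul_wG hL, map_mul, Module.End.mul_apply, hx, map_smul]

theorem Phi_nil (x : V) : c.Phi ρ [] x = x := by
  have hset : c.invSet ([] : List ℕ).reverse = (∅ : Set ℕ) := by
    ext r; simp [invSet]
  have hbot : c.KS F (∅ : Set ℕ) c.T.h = ⊥ := by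
    rw [eq_bot_iff, KS, Subgroup.closure_le]
    rintro g ⟨r, t, hr, -⟩
    exact hr.elim
  haveI : Subsingleton (c.KS F (∅ : Set ℕ) c.T.h) := by rw [hbot]; infer_instance
  rw [Phi, hset, sumKS, finsum_eq_single _ (1 : c.KS F (∅ : Set ℕ) c.T.h)
    (fun g hg => absurd (Subsingleton.elim g 1) hg), c.wG_nil, map_one, Module.End.one_apply]
  show ρ 1 x = x
  rw [map_one, Module.End.one_apply]

section exist

variable [FiniteDimensional k V] [IsAlgClosed k] {p : ℕ} [hp : Fact p.Prime] [CharP k p]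
  [CharP F p]
include hp

theorem exists_fixed_eigen [Nontrivial V] :
    ∃ (χ : (Fin D.rank → Fˣ) →* kˣ) (x : V), x ≠ 0 ∧ c.UFix ρ x ∧ c.HasChar ρ χ x := by
  classical
  have hle : D.posUnipotent F ≤ D.group F := le_sup_left.trans c.sup_neg_eq_group.le
  obtain ⟨x0, hx0⟩ := exists_ne (0 : V)
  obtain ⟨y, hy, hfix⟩ := Cfsg.Agent.Block.exists_fixed_vector (p := p)
    (c.isPGroup_U (F := F) (ℓ := p)) (ρ.comp (Subgroup.inclusion hle)) hx0
  have hyU : c.UFix ρ y := fun r t hr => hfix ⟨c.xg r t, c.xg_mem_U hr t⟩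
  let W : Submodule k V :=
    { carrier := {x | c.UFix ρ x}
      zero_mem' := fun r t _ => map_zero _
      add_mem' := fun {a b} ha hb r t hr => by rw [map_add, ha r t hr, hb r t hr]
      smul_mem' := fun a x hx => UFix.smul c ρ hx a }
  obtain ⟨x, hxW, hx, heig⟩ := exists_common_eigen (ρ.comp c.theta) W
    ((Submodule.ne_bot_iff _).2 ⟨y, hyU, hy⟩) fun z x hx r t hr => by
      show ρ (c.mxG r t) (ρ (c.theta z) x) = ρ (c.theta z) x
      obtain ⟨a, ha⟩ : ∃ a : F, c.mxG r t * c.theta z = c.theta z * c.mxG r a :=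
        ⟨((c.tchar (padT z) r : F))⁻¹ * t, by
          rw [c.theta_mul_xG z hr.2, ← mul_assoc, mul_inv_cancel₀ (Units.ne_zero _), one_mul]⟩
      rw [← Module.End.mul_apply, ← map_mul, ha, map_mul, Module.End.mul_apply, hx r a hr]
  choose e he using heig
  have he0 : ∀ z, e z ≠ 0 := fun z h0 => hx (by
    have h1 := he z
    rw [h0, zero_smul] at h1
    have h2 := congrArg (ρ (c.theta z⁻¹)) h1
    rw [MonoidHom.comp_apply, ← Module.End.mul_apply, ← map_mul, ← map_mul, inv_mul_cancel,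
      map_one, map_one, map_zero] at h2
    exact h2)
  refine ⟨MonoidHom.mk' (fun z => Units.mk0 (e z) (he0 z)) fun a b => Units.ext ?_, x, hx, hxW,
    fun z => he z⟩
  have h1 := he (a * b)
  rw [map_mul, Module.End.mul_apply, he b, map_smul, he a, smul_smul] at h1
  exact (smul_left_injective k hx h1).symm.trans (mul_comm _ _)

/-- Every representation has a weight vector. -/
theorem exists_weight [Nontrivial V] :
    ∃ (χ : (Fin D.rank → Fˣ) →* kˣ) (μ : Fin D.rank → k) (x : V), c.IsWeight ρ χ μ x := by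
  classical
  obtain ⟨χ₀, x₀, hx0, hU0, hχ0⟩ := c.exists_fixed_eigen ρ (p := p)
  let S : Set ℕ := {n | ∃ L : List ℕ, (∀ q ∈ L, q < D.rank) ∧ c.Phi ρ L x₀ ≠ 0 ∧
    (c.invSet L.reverse).ncard = n}
  have hne : S.Nonempty := ⟨_, [], by simp, by rwa [c.Phi_nil], rfl⟩
  have hbd : BddAbove S := ⟨D.nroots, by
    rintro n ⟨L, -, -, rfl⟩
    refine (Set.ncard_le_ncard (t := Set.Iio D.nroots) (fun r hr => hr.1.2)
      (Set.finite_Iio _)).trans ?_
    rw [Set.ncard_Iio_nat]⟩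
  obtain ⟨L, hL, hLne, hmax⟩ : ∃ L : List ℕ, (∀ q ∈ L, q < D.rank) ∧ c.Phi ρ L x₀ ≠ 0 ∧
      ∀ M : List ℕ, (∀ q ∈ M, q < D.rank) → c.Phi ρ M x₀ ≠ 0 →
        (c.invSet M.reverse).ncard ≤ (c.invSet L.reverse).ncard := by
    obtain ⟨L, hL, h1, h2⟩ := Nat.sSup_mem hne hbd
    exact ⟨L, hL, h1, fun M hM h3 => h2 ▸ le_csSup hbd ⟨M, hM, h3, rfl⟩⟩
  have hLr : ∀ q ∈ L.reverse, q < D.rank := fun q hq => hL q (List.mem_reverse.1 hq)
  have hmu : ∀ i : Fin D.rank, ∃ m : k, c.Tp ρ i (c.Phi ρ L x₀) = m • c.Phi ρ L x₀ := by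
    intro i
    have hα := c.simple_lt i.2
    by_cases hup : c.Pos (c.wl L.reverse (D.simple i))
    · refine ⟨0, ?_⟩
      rw [c.Tp_Phi ρ i.2 hL hup, zero_smul]
      by_contra hne'
      have hiL : ∀ q ∈ (i : ℕ) :: L, q < D.rank := by simpa using hL
      have h := hmax _ hiL hne'
      obtain ⟨heq, hnot⟩ := c.invSet_up i.2 hL hup
      have hfin : (c.invSet L.reverse).Finite :=
        (Set.finite_Iio D.nroots).subset fun r hr => hr.1.2
      have hinj : Set.InjOn (c.w i) (c.invSet L.reverse) := fun a ha b hb e =>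
        c.w_inj i.2 ha.1.2 hb.1.2 e
      rw [heq, Set.ncard_insert_of_notMem hnot (hfin.image _), Set.ncard_image_of_injOn hinj] at h
      omega
    · have hiL : ∀ q ∈ (i : ℕ) :: L, q < D.rank := by simpa using hL
      have hup' : c.Pos (c.wl ((i : ℕ) :: L).reverse (D.simple i)) := by
        rw [List.reverse_cons, c.wl_append, Cert.wl_cons, Cert.wl_nil, c.w_simple i.2,
          c.wl_neg hLr hα]
        exact (c.not_pos_iff (c.wl_lt hLr hα)).1 hup
      obtain ⟨r, hr, e⟩ := c.Phi_pp ρ i.2 hL hχ0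
      have e1 : c.Tp ρ i (c.Phi ρ ((i : ℕ) :: L) x₀) = r • c.Phi ρ L x₀ := by
        rw [c.Tp_Phi ρ i.2 hiL hup', e]
      have h2 := c.Tp_Tp ρ (p := p) i (c.Phi_ufix ρ hiL hU0) (c.Phi_char ρ hiL hχ0)
      rw [e1, map_smul, smul_comm] at h2
      exact ⟨_, smul_right_injective V hr h2⟩
  choose μ hμ using hmu
  exact ⟨_, μ, _, hLne, c.Phi_ufix ρ hL hU0, c.Phi_char ρ hL hχ0, hμ⟩

end exist

end CertFull

end Cfsg.Agent.Lie.Chev
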