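import Cfsg.Agent.Lib.Lie.Chev.Centralizer
import Cfsg.Agent.Lib.Lie.Chev.AutBorel
import Cfsg.Agent.Lib.Lie.Chev.RadicalCentralizer

/-! Centralisers, in characteristic two, of products of two commuting root elements whose conjugates
under the positive unipotent subgroup stay in a commutative set of roots. -/

set_option autoImplicit false
set_option maxRecDepth 20000

namespace Cfsg.Agent.Lie.Chev

open Cfsg.Lie Matrix

namespace Tables

variable (T : Tables)

/-- Conjugation by `r` moves `s` at most by a single root of `Z` other than `a`, `b`. -/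
def checkShift (Z : List ℕ) (a b r s : ℕ) : Bool :=
  T.evenPair r s || (!(Nat.beq s r) && !(Nat.beq s (T.neg r)) &&
    match T.commTerms r s with
    | [x] => Z.any (Nat.beq x.1) && !(Nat.beq x.1 a) && !(Nat.beq x.1 b)
    | _ => false)

/-- The set `Z` of positive roots is commutative and absorbs conjugation by positive root elements. -/
def checkAbsorb (Z : List ℕ) (a b : ℕ) : Bool :=
  Z.all (fun s => Nat.ble T.h s && Nat.blt s T.n && Z.all (fun s' => T.evenPair s s')) &&
  T.allRoots (fun r => Bool.or (Nat.blt r T.h) (Z.all fun s => T.checkShift Z a b r s))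

/-- A positive root with both weights nonpositive is outside the excluded list. -/
def checkWeights (a b : ℕ) (α β γ δ : ℤ) (ex : List ℕ) : Bool :=
  T.allRoots fun r => Bool.or (Nat.blt r T.h) (Bool.or (!(ex.any (Nat.beq r)))
    (decide (0 < α * T.pairing r a + β * T.pairing r b) ||
      decide (0 < γ * T.pairing r a + δ * T.pairing r b)))

/-- Both weights are dominant and `P` contains the nodes orthogonal to both. -/
def checkDominant (a b : ℕ) (α β γ δ : ℤ) (P : List ℕ) : Bool :=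
  (List.range T.l).all fun p =>
    decide (0 ≤ α * T.cartan p a + β * T.cartan p b) &&
    decide (0 ≤ γ * T.cartan p a + δ * T.cartan p b) &&
    (P.any (Nat.beq p) || !(decide (T.cartan p a = 0) && decide (T.cartan p b = 0))) &&
    (!(P.any (Nat.beq p)) || (decide (T.cartan p a = 0) && decide (T.cartan p b = 0)))

end Tables

namespace CertFull

variable {D : ChevalleyDatum} (c : CertFull D) {F : Type*} [Field F]

/-- The coefficient of a root in a list of root elements. -/
def coefAt (l : List (ℕ × F)) (r : ℕ) : F :=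
  ((l.filter fun x => Nat.beq x.1 r).map Prod.snd).sum

/-- The product of a list of root elements. -/
def listX (l : List (ℕ × F)) : GL D.Idx F := (l.map fun x => c.xg x.1 x.2).prod

theorem coefAt_cons (x : ℕ × F) (l : List (ℕ × F)) (r : ℕ) :
    coefAt (x :: l) r = (if x.1 = r then x.2 else 0) + coefAt l r := by
  by_cases h : x.1 = r
  · simp [coefAt, h]
  · simp [coefAt, h]

theorem coefAt_of_notMem {l : List (ℕ × F)} {r : ℕ} (h : ∀ x ∈ l, x.1 ≠ r) : coefAt l r = 0 := by
  induction l with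
  | nil => rfl
  | cons x l ih =>
    rw [coefAt_cons, if_neg (h x (by simp)), zero_add, ih fun y hy => h y (by simp [hy])]

theorem coefAt_map {Z : List ℕ} (hZ : Z.Nodup) (k : ℕ → F) (r : ℕ) :
    coefAt (Z.map fun s => (s, k s)) r = if r ∈ Z then k r else 0 := by
  induction Z with
  | nil => rfl
  | cons s Z ih =>
    rw [List.map_cons, coefAt_cons, ih (List.nodup_cons.1 hZ).2]
    by_cases h : s = r
    · subst h; simp [(List.nodup_cons.1 hZ).1]
    · simp [h, Ne.symm h]

theorem coefAt_map_comp {Z : List ℕ} (hZ : Z.Nodup) (f : ℕ → ℕ)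
    (hf : ∀ s ∈ Z, ∀ s' ∈ Z, f s = f s' → s = s') (k : ℕ → F) {a : ℕ} (ha : a ∈ Z) :
    coefAt (Z.map fun s => (f s, k s)) (f a) = k a := by
  induction Z with
  | nil => simp at ha
  | cons s Z ih =>
    rw [List.map_cons, coefAt_cons]
    rcases List.mem_cons.1 ha with rfl | h
    · rw [if_pos rfl, coefAt_of_notMem, add_zero]
      intro x hx
      obtain ⟨y, hy, rfl⟩ := List.mem_map.1 hx
      exact fun e => (List.nodup_cons.1 hZ).1 (hf y (by simp [hy]) a (by simp) e ▸ hy)
    · rw [if_neg, zero_add, ih (List.nodup_cons.1 hZ).2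
        (fun x hx y hy => hf x (by simp [hx]) y (by simp [hy])) h]
      exact fun e => (List.nodup_cons.1 hZ).1 (hf s (by simp) a (by simp [h]) e ▸ h)

include c

theorem listX_cons (x : ℕ × F) (l : List (ℕ × F)) :
    c.listX (x :: l) = c.xg x.1 x.2 * c.listX l := by simp [listX]

theorem listX_nil : c.listX ([] : List (ℕ × F)) = 1 := rfl

theorem xg_mul_oprod {r : ℕ} (k : F) (hr : r < D.nroots) : ∀ (d m : ℕ), r - m = d → m ≤ r →
    ∀ t : ℕ → F, (∀ s, Commute (c.xg r k) (c.xg s (t s))) →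
      c.xg r k * c.oprod m t = c.oprod m (Function.update t r (k + t r)) := by
  intro d
  induction d with
  | zero =>
    intro m hd hm t _
    obtain rfl : m = r := by omega
    rw [c.oprod_succ hr, c.oprod_succ hr, Function.update_self, c.xg_add, mul_assoc,
      c.oprod_congr (t := Function.update t m (k + t m)) (t' := t) fun i hi _ =>
        Function.update_of_ne (by omega) _ _]
  | succ d ih =>
    intro m hd hm t ht
    rw [c.oprod_succ (show m < D.nroots by omega), c.oprod_succ (show m < D.nroots by omega),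
      Function.update_of_ne (by omega), ← ih (m + 1) (by omega) (by omega) t ht, ← mul_assoc,
      ← mul_assoc, (ht m).eq]

/-- A product of pairwise commuting positive root elements in the standard order. -/
theorem listX_eq_oprod : ∀ l : List (ℕ × F), (∀ x ∈ l, c.Pos x.1) →
    (∀ x ∈ l, ∀ y ∈ l, ∀ t u : F, Commute (c.xg x.1 t) (c.xg y.1 u)) →
      c.listX l = c.oprod c.T.h (coefAt l) := by
  intro l
  induction l with
  | nil =>
    intro _ _
    refine ((List.prod_eq_one fun x hx => ?_) : _).symm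
    obtain ⟨i, -, rfl⟩ := List.mem_map.1 hx
    exact c.xg_zero i
  | cons x l ih =>
    intro hpos hcomm
    rw [c.listX_cons, ih (fun y hy => hpos y (by simp [hy]))
      (fun y hy z hz => hcomm y (by simp [hy]) z (by simp [hz])),
      c.xg_mul_oprod x.2 (hpos x (by simp)).2 _ _ rfl (hpos x (by simp)).1]
    · refine c.oprod_congr fun i _ _ => ?_
      rw [coefAt_cons]
      by_cases h : x.1 = i
      · subst h; rw [Function.update_self, if_pos rfl]
      · rw [Function.update_of_ne (Ne.symm h), if_neg h, zero_add]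
    · intro s
      by_cases h : ∃ y ∈ l, y.1 = s
      · obtain ⟨y, hy, rfl⟩ := h
        exact hcomm x (by simp) y (by simp [hy]) _ _
      · push Not at h
        rw [coefAt_of_notMem h, c.xg_zero]
        exact Commute.one_right _

theorem listX_eq_of_coef {l l' : List (ℕ × F)} (hl : ∀ x ∈ l, c.Pos x.1) (hl' : ∀ x ∈ l', c.Pos x.1)
    (h : ∀ x ∈ l, ∀ y ∈ l, ∀ t u : F, Commute (c.xg x.1 t) (c.xg y.1 u))
    (h' : ∀ x ∈ l', ∀ y ∈ l', ∀ t u : F, Commute (c.xg x.1 t) (c.xg y.1 u))
    (e : ∀ r, coefAt l r = coefAt l' r) : c.listX l = c.listX l' := by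
  rw [c.listX_eq_oprod l hl h, c.listX_eq_oprod l' hl' h']
  exact c.oprod_congr fun r _ _ => e r

theorem coef_eq_of_listX {l l' : List (ℕ × F)} (hl : ∀ x ∈ l, c.Pos x.1) (hl' : ∀ x ∈ l', c.Pos x.1)
    (h : ∀ x ∈ l, ∀ y ∈ l, ∀ t u : F, Commute (c.xg x.1 t) (c.xg y.1 u))
    (h' : ∀ x ∈ l', ∀ y ∈ l', ∀ t u : F, Commute (c.xg x.1 t) (c.xg y.1 u))
    (e : c.listX l = c.listX l') {r : ℕ} (hr : c.Pos r) : coefAt l r = coefAt l' r := by
  rw [c.listX_eq_oprod l hl h, c.listX_eq_oprod l' hl' h'] at e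
  exact c.oprod_inj _ _ rfl le_rfl _ _ e r hr.1 hr.2

theorem commute_evenPair [CharP F 2] {r s : ℕ} (hr : r < D.nroots) (hs : s < D.nroots)
    (h : c.T.evenPair r s = true) (t u : F) : Commute (c.xg r t) (c.xg s u) :=
  ((c.commute_of_evenPair hr hs h t u) : Commute (c.xg s u) (c.xg r t)).symm

/-- Conjugation with a single commutator term. -/
theorem conj_single {r s : ℕ} (hr : r < D.nroots) (hs : s < D.nroots) (h1 : s ≠ r)
    (h2 : s ≠ D.neg r) {x : ℕ × ℤ × ℕ × ℕ} (h : c.T.commTerms r s = [x]) (t u : F) :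
    c.xg r t * c.xg s u * (c.xg r t)⁻¹ =
      c.xg s u * c.xg x.1 ((x.2.1 : F) * t ^ x.2.2.1 * u ^ x.2.2.2) := by
  have e := c.xg_comm hr hs h1 h2 (-t) u
  rw [h, neg_neg, List.map_cons, List.map_nil, List.prod_cons, List.prod_nil, mul_one] at e
  rw [c.xg_inv, mul_assoc, e, ← mul_assoc, ← mul_assoc, ← c.xg_add, add_neg_cancel, c.xg_zero,
    one_mul]

variable [CharP F 2] {Z : List ℕ} {a b : ℕ}

theorem absorb_pos (hA : c.T.checkAbsorb Z a b = true) {s : ℕ} (hs : s ∈ Z) : c.Pos s := by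
  simp only [Tables.checkAbsorb, Bool.and_eq_true, List.all_eq_true, Nat.ble_eq, Nat.blt_eq] at hA
  exact ⟨(hA.1 s hs).1.1, c.nroots_eq ▸ (hA.1 s hs).1.2⟩

theorem absorb_commute (hA : c.T.checkAbsorb Z a b = true) {s s' : ℕ} (hs : s ∈ Z) (hs' : s' ∈ Z)
    (t u : F) : Commute (c.xg s t) (c.xg s' u) := by
  refine c.commute_evenPair (c.absorb_pos hA hs).2 (c.absorb_pos hA hs').2 ?_ t u
  simp only [Tables.checkAbsorb, Bool.and_eq_true, List.all_eq_true] at hA
  exact (hA.1 s hs).2 s' hs'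

theorem absorb_list (hA : c.T.checkAbsorb Z a b = true) {l : List (ℕ × F)}
    (hl : ∀ x ∈ l, x.1 ∈ Z) :
    (∀ x ∈ l, c.Pos x.1) ∧ ∀ x ∈ l, ∀ y ∈ l, ∀ t u : F, Commute (c.xg x.1 t) (c.xg y.1 u) :=
  ⟨fun x hx => c.absorb_pos hA (hl x hx),
    fun x hx y hy => c.absorb_commute hA (hl x hx) (hl y hy)⟩

/-- The orbit under the positive unipotent subgroup. -/
theorem conj_U_absorb (hA : c.T.checkAbsorb Z a b = true) (hZ : Z.Nodup) {g : GL D.Idx F}
    (hg : g ∈ D.posUnipotent F) (k : ℕ → F) :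
    ∃ k' : ℕ → F, g * c.listX (Z.map fun s => (s, k s)) * g⁻¹ =
        c.listX (Z.map fun s => (s, k' s)) ∧ k' a = k a ∧ k' b = k b := by
  rw [c.posUnipotent_eq] at hg
  obtain ⟨t, rfl⟩ := c.exists_oprod _ c.T.h rfl le_rfl g hg
  suffices h : ∀ R : List ℕ, (∀ r ∈ R, c.Pos r) → ∀ k : ℕ → F, ∃ k' : ℕ → F,
      (R.map fun r => c.xg r (t r)).prod * c.listX (Z.map fun s => (s, k s)) *
        ((R.map fun r => c.xg r (t r)).prod)⁻¹ = c.listX (Z.map fun s => (s, k' s)) ∧
        k' a = k a ∧ k' b = k b from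
    h (List.range' c.T.h (D.nroots - c.T.h))
      (fun r hr => by rw [List.mem_range'_1] at hr; exact ⟨hr.1, by omega⟩) k
  intro R hR
  induction R with
  | nil => exact fun k => ⟨k, by simp, rfl, rfl⟩
  | cons r R ih =>
    intro k
    obtain ⟨k₁, e₁, ea₁, eb₁⟩ := ih (fun x hx => hR x (by simp [hx])) k
    have hr := hR r (by simp)
    have hsh : ∀ s ∈ Z, c.T.checkShift Z a b r s = true := by
      simp only [Tables.checkAbsorb, Tables.allRoots, Bool.and_eq_true, List.all_eq_true,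
        List.mem_range, Bool.or_eq_true, Nat.blt_eq] at hA
      intro s hs
      rcases hA.2 r (c.nroots_eq ▸ hr.2) with h | h
      · exact absurd hr.1 (by omega)
      · exact h s hs
    have key : ∀ Y : List ℕ, (∀ s ∈ Y, s ∈ Z) → ∃ l : List (ℕ × F),
        c.xg r (t r) * c.listX (Y.map fun s => (s, k₁ s)) * (c.xg r (t r))⁻¹ = c.listX l ∧
        (∀ x ∈ l, x.1 ∈ Z) ∧ coefAt l a = coefAt (Y.map fun s => (s, k₁ s)) a ∧
        coefAt l b = coefAt (Y.map fun s => (s, k₁ s)) b := by
      intro Y hY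
      induction Y with
      | nil => exact ⟨[], by simp [listX], by simp, rfl, rfl⟩
      | cons s Y ihY =>
        obtain ⟨l, el, hl, la, lb⟩ := ihY fun x hx => hY x (by simp [hx])
        have hsZ := hY s (by simp)
        have hs := hsh s hsZ
        have hsn := (c.absorb_pos hA hsZ).2
        rw [List.map_cons, c.listX_cons]
        have esplit : c.xg r (t r) * (c.xg s (k₁ s) * c.listX (Y.map fun s => (s, k₁ s))) *
            (c.xg r (t r))⁻¹ = (c.xg r (t r) * c.xg s (k₁ s) * (c.xg r (t r))⁻¹) * c.listX l := by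
          rw [← el]; group
        rw [Tables.checkShift, Bool.or_eq_true] at hs
        rcases hs with hs | hs
        · refine ⟨(s, k₁ s) :: l, ?_, ?_, ?_, ?_⟩
          · rw [esplit, (c.commute_evenPair hr.2 hsn hs (t r) (k₁ s)).eq, mul_inv_cancel_right,
              c.listX_cons]
          · intro x hx
            rcases List.mem_cons.1 hx with rfl | hx
            exacts [hsZ, hl x hx]
          · rw [coefAt_cons, coefAt_cons, la]
          · rw [coefAt_cons, coefAt_cons, lb]
        · simp only [Bool.and_eq_true, Bool.not_eq_true'] at hs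
          obtain ⟨⟨hne, hneg⟩, hm⟩ := hs
          have h1 : s ≠ r := fun e => by rw [beq_of_eq e] at hne; cases hne
          have h2 : s ≠ D.neg r := fun e => by
            rw [beq_of_eq (e.trans (c.neg_eq hr.2))] at hneg; cases hneg
          rcases hc : c.T.commTerms r s with _ | ⟨x, _ | ⟨y, ys⟩⟩ <;> rw [hc] at hm <;>
            simp only [Bool.and_eq_true, Bool.not_eq_true', List.any_eq_true, Bool.false_eq_true] at hm
          obtain ⟨⟨⟨z, hz, hzx⟩, hxa⟩, hxb⟩ := hm
          have hxZ : x.1 ∈ Z := by rw [eq_of_beq' hzx]; exact hz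
          have hxa' : x.1 ≠ a := fun e => by rw [beq_of_eq e] at hxa; cases hxa
          have hxb' : x.1 ≠ b := fun e => by rw [beq_of_eq e] at hxb; cases hxb
          refine ⟨(s, k₁ s) :: (x.1, (x.2.1 : F) * t r ^ x.2.2.1 * k₁ s ^ x.2.2.2) :: l,
            ?_, ?_, ?_, ?_⟩
          · rw [esplit, c.conj_single hr.2 hsn h1 h2 hc, c.listX_cons, c.listX_cons, mul_assoc]
          · intro y hy
            rcases List.mem_cons.1 hy with rfl | hy
            · exact hsZ
            rcases List.mem_cons.1 hy with rfl | hy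
            exacts [hxZ, hl y hy]
          · rw [coefAt_cons, coefAt_cons, coefAt_cons, if_neg hxa', zero_add, la]
          · rw [coefAt_cons, coefAt_cons, coefAt_cons, if_neg hxb', zero_add, lb]
    obtain ⟨l, el, hl, la, lb⟩ := key Z fun _ h => h
    have hmap : ∀ f : ℕ → F, ∀ x ∈ (Z.map fun s => (s, f s)), x.1 ∈ Z := fun f x hx => by
      obtain ⟨s, hs, rfl⟩ := List.mem_map.1 hx; exact hs
    refine ⟨fun s => if s ∈ Z then coefAt l s else k₁ s, ?_, ?_, ?_⟩
    · rw [List.map_cons, List.prod_cons, _root_.mul_inv_rev]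
      have e3 : c.listX l = c.listX (Z.map fun s => (s, if s ∈ Z then coefAt l s else k₁ s)) := by
        refine c.listX_eq_of_coef (c.absorb_list hA hl).1 (c.absorb_list hA (hmap _)).1
          (c.absorb_list hA hl).2 (c.absorb_list hA (hmap _)).2 fun i => ?_
        rw [coefAt_map hZ]
        by_cases hi : i ∈ Z
        · rw [if_pos hi, if_pos hi]
        · rw [if_neg hi]
          exact coefAt_of_notMem fun x hx e => hi (e ▸ hl x hx)
      rw [← e3, ← el, ← e₁]
      group
    · show (if a ∈ Z then coefAt l a else k₁ a) = k a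
      by_cases ha : a ∈ Z
      · rw [if_pos ha, la, coefAt_map hZ, if_pos ha, ea₁]
      · rw [if_neg ha, ea₁]
    · show (if b ∈ Z then coefAt l b else k₁ b) = k b
      by_cases hb : b ∈ Z
      · rw [if_pos hb, lb, coefAt_map hZ, if_pos hb, eb₁]
      · rw [if_neg hb, eb₁]

omit [CharP F 2] in
/-- The two weights on a root moved to a negative one by a word fixing `a` and `b`. -/
theorem weight_nonpos (α β γ δ : ℤ) {P : List ℕ} (hD : c.T.checkDominant a b α β γ δ P = true)
    (ha : a < D.nroots) (hb : b < D.nroots) {L : List ℕ} (hL : ∀ p ∈ L, p < D.rank)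
    (hLa : c.wl L a = a) (hLb : c.wl L b = b) {r : ℕ} (hr : r < D.nroots)
    (hneg : ¬ c.Pos (c.wl L r)) :
    α * c.T.pairing r a + β * c.T.pairing r b ≤ 0 ∧
      γ * c.T.pairing r a + δ * c.T.pairing r b ≤ 0 := by
  simp only [Tables.checkDominant, List.all_eq_true, List.mem_range, Bool.and_eq_true,
    decide_eq_true_eq] at hD
  have key : ∀ μ ν : ℤ, (∀ p < D.rank, 0 ≤ μ * c.T.cartan p a + ν * c.T.cartan p b) →
      μ * c.T.pairing r a + ν * c.T.pairing r b ≤ 0 := by
    intro μ ν h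
    rw [← c.pairing_wl hL hr ha, ← c.pairing_wl hL hr hb, hLa, hLb, c.pairing_eq_sum,
      c.pairing_eq_sum, Finset.mul_sum, Finset.mul_sum, ← Finset.sum_add_distrib]
    refine Finset.sum_nonpos fun i hi => ?_
    rw [Finset.mem_range] at hi
    have h1 := c.coroot_nonpos (c.wl_lt hL hr) hneg hi
    calc μ * (c.T.coroot (c.wl L r) i * c.T.cartan i a) +
          ν * (c.T.coroot (c.wl L r) i * c.T.cartan i b)
        = c.T.coroot (c.wl L r) i * (μ * c.T.cartan i a + ν * c.T.cartan i b) := by ring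
      _ ≤ 0 := mul_nonpos_of_nonpos_of_nonneg h1 (h i hi)
  exact ⟨key α β fun p hp => (hD p (c.rank_eq ▸ hp)).1.1.1,
    key γ δ fun p hp => (hD p (c.rank_eq ▸ hp)).1.1.2⟩

omit [CharP F 2] in
/-- A word fixing `a` and `b` lies in the group of the nodes orthogonal to both. -/
theorem nw_mem_of_fix_pair (α β γ δ : ℤ) {P : List ℕ}
    (hD : c.T.checkDominant a b α β γ δ P = true) (ha : a < D.nroots) (hb : b < D.nroots)
    {S : Subgroup (GL D.Idx F)} (hH : D.diagonalSubgroup F ≤ S)
    (hdet0 : α * δ - β * γ ≠ 0) (hS : ∀ p < D.rank, p ∈ P → c.np F p ∈ S) {L : List ℕ}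
    (hL : ∀ p ∈ L, p < D.rank) (hLa : c.wl L a = a) (hLb : c.wl L b = b) : c.nw F L ∈ S := by
  generalize hn : L.length = n
  induction n using Nat.strong_induction_on generalizing L with
  | _ n ih =>
    by_cases hall : ∀ q < D.rank, c.Pos (c.wl L (D.simple q))
    · exact hH (c.nw_mem_H hL hall)
    push Not at hall
    obtain ⟨q, hq, hneg⟩ := hall
    obtain ⟨w1, w2⟩ := c.weight_nonpos α β γ δ hD ha hb hL hLa hLb (c.simple_lt hq) hneg
    rw [c.pairing_simple hq, c.pairing_simple hq] at w1 w2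
    have hD' := hD
    simp only [Tables.checkDominant, List.all_eq_true, List.mem_range, Bool.and_eq_true,
      decide_eq_true_eq, Bool.or_eq_true, Bool.not_eq_true', List.any_eq_true] at hD'
    obtain ⟨⟨⟨hq1, hq2⟩, hq3⟩, hq4⟩ := hD' q (c.rank_eq ▸ hq)
    have e1 : α * c.T.cartan q a + β * c.T.cartan q b = 0 := le_antisymm w1 hq1
    have e2 : γ * c.T.cartan q a + δ * c.T.cartan q b = 0 := le_antisymm w2 hq2
    have hdet : (α * δ - β * γ) * c.T.cartan q a = 0 ∧ (α * δ - β * γ) * c.T.cartan q b = 0 :=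
      ⟨by linear_combination δ * e1 - β * e2, by linear_combination α * e2 - γ * e1⟩
    have hqP : q ∈ P := by
      by_contra hqP
      have hno : ¬ ∃ x ∈ P, Nat.beq q x = true := fun ⟨x, hx, hx'⟩ =>
        hqP (by rw [eq_of_beq' hx']; exact hx)
      rcases hq3 with h | h
      · exact hno h
      · by_cases hd : α * δ - β * γ = 0
        · exact hdet0 hd
        · simp [(mul_eq_zero.1 hdet.1).resolve_left hd,
            (mul_eq_zero.1 hdet.2).resolve_left hd] at h
    have horth : c.T.cartan q a = 0 ∧ c.T.cartan q b = 0 := by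
      rcases hq4 with h | h
      · exfalso
        rw [List.any_eq_false] at h
        exact h q hqP (beq_of_eq rfl)
      · exact h
    obtain ⟨M, hM, hlen, x, hx, e⟩ := c.deletion (F := F) hL hq hneg
    have hLq : ∀ p ∈ L ++ [q], p < D.rank := fun p hp =>
      (List.mem_append.1 hp).elim (hL p) (by simpa using fun h : p = q => h ▸ hq)
    have hMfix : ∀ s, s < D.nroots → c.T.cartan q s = 0 → c.wl L s = s → c.wl M s = s := by
      intro s hs h0 hfix
      have hw := c.wl_eq_of_eq (one_mem _) hx hLq hM (by rw [one_mul]; exact e) hs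
      rw [← hw, c.wl_append, Cert.wl_cons, Cert.wl_nil,
        c.code_w_fixed hq hs (by rw [c.cartan_eq hq hs]; exact h0)]
      exact hfix
    have h := mul_mem (mul_mem (hH hx)
      (ih M.length (by omega) hM (hMfix a ha horth.1 hLa) (hMfix b hb horth.2 hLb) rfl))
      (inv_mem (hS q hq hqP))
    rw [← e, c.nw_append, Cert.nw_cons, Cert.nw_nil, mul_one, mul_inv_cancel_right] at h
    exact h

omit [CharP F 2] in
theorem fix_of_closure {P : List ℕ} [CharP F 2] {s : ℕ} (hs : s < D.nroots)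
    (h : ∀ p < D.rank, p ∈ P → c.T.cartan p s = 0) {x : GL D.Idx F}
    (hx : x ∈ Subgroup.closure {x : GL D.Idx F | ∃ p < D.rank, p ∈ P ∧ x = c.np F p}) :
    Commute x (c.xg s (1 : F)) := by
  induction hx using Subgroup.closure_induction with
  | mem x hx =>
    obtain ⟨p, hp, hpP, rfl⟩ := hx
    have e : c.np F p * c.xg s 1 * (c.np F p)⁻¹ = c.xg s 1 := by
      rw [Cert.np, c.ng_conj hp hs, mul_inv_cancel_right,
        c.code_w_fixed hp hs (by rw [c.cartan_eq hp hs, h p hp hpP])]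
      congr 1
      rcases c.T.eta_cases p s with e | e <;> simp [e, CharTwo.neg_eq]
    exact mul_inv_eq_iff_eq_mul.1 e
  | one => exact Commute.one_left _
  | mul x y _ _ hx hy => exact hx.mul_left hy
  | inv x _ hx => exact hx.inv_left

/-- The centraliser of a product of two commuting root elements. -/
theorem centralizer_pair_le (hA : c.T.checkAbsorb Z a b = true) (hZ : Z.Nodup) (haZ : a ∈ Z)
    (hbZ : b ∈ Z) (hab : a ≠ b) (α β γ δ : ℤ) {P ex : List ℕ}
    (hD : c.T.checkDominant a b α β γ δ P = true) (hdet0 : α * δ - β * γ ≠ 0)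
    (hW : c.T.checkWeights a b α β γ δ ex = true)
    (hpick : ∀ L : List ℕ, (∀ p ∈ L, p < D.rank) → c.wl L a ∈ Z → c.wl L b ∈ Z →
      c.wl L a = a ∧ c.wl L b = b)
    (hzero : ∀ z : ℕ → Fˣ, c.tchar z a = 1 → c.tchar z b = 1 → ∀ i < D.rank, i ∉ P → z i = 1)
    {S : Subgroup (GL D.Idx F)}
    (hP : ∀ p < D.rank, p ∈ P → ∀ t : F, c.xg (D.simple p) t ∈ S ∧ c.xg (D.neg (D.simple p)) t ∈ S)
    (hS : ∀ r, c.Pos r → r ∉ ex → ∀ t : F, c.xg r t ∈ S)
    (hUC : ∀ u ∈ D.posUnipotent F, Commute u (c.xg a 1 * c.xg b 1) → u ∈ S)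
    (hfix : ∀ g ∈ S, Commute g (c.xg a 1 * c.xg b 1)) :
    D.group F ⊓ Subgroup.centralizer {c.xg a (1 : F) * c.xg b 1} ≤ S := by
  classical
  have ha := c.absorb_pos hA haZ
  have hb := c.absorb_pos hA hbZ
  intro g hg
  obtain ⟨hgG, hgC⟩ := Subgroup.mem_inf.1 hg
  rw [Subgroup.mem_centralizer_singleton_iff] at hgC
  set v := c.xg a (1 : F) * c.xg b 1 with hv
  set k₀ : ℕ → F := fun s => if s = a ∨ s = b then 1 else 0 with hk₀
  have hmap : ∀ f : ℕ → F, ∀ x ∈ (Z.map fun s => (s, f s)), x.1 ∈ Z := fun f x hx => by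
    obtain ⟨s, hs, rfl⟩ := List.mem_map.1 hx; exact hs
  have hpair : ∀ x ∈ ([(a, (1 : F)), (b, 1)] : List (ℕ × F)), x.1 ∈ Z := by
    intro x hx
    simp only [List.mem_cons, List.not_mem_nil, or_false] at hx
    rcases hx with rfl | rfl
    exacts [haZ, hbZ]
  have hvZ : v = c.listX (Z.map fun s => (s, k₀ s)) := by
    have e : v = c.listX [(a, (1 : F)), (b, 1)] := by simp [hv, listX]
    rw [e]
    refine c.listX_eq_of_coef (c.absorb_list hA hpair).1 (c.absorb_list hA (hmap _)).1
      (c.absorb_list hA hpair).2 (c.absorb_list hA (hmap _)).2 fun i => ?_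
    rw [coefAt_map hZ, coefAt_cons, coefAt_cons, show coefAt ([] : List (ℕ × F)) i = 0 from rfl,
      add_zero]
    by_cases h1 : a = i
    · subst h1
      simp [k₀, haZ, Ne.symm hab]
    · by_cases h2 : b = i
      · subst h2
        simp [k₀, hbZ, hab]
      · simp [k₀, h1, h2, Ne.symm h1, Ne.symm h2]
  obtain ⟨β', hβ, a₀, ha₀, L, hL, u, hu, rfl⟩ := c.bruhat_exists hgG
  obtain ⟨v₀, hv₀, d, hd, rfl⟩ := c.mem_borel_iff.1 hβ
  have huU := c.KS_invSet_le_U hL hu
  obtain ⟨k₁, e₁, ka₁, kb₁⟩ := c.conj_U_absorb hA hZ huU k₀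
  obtain ⟨k₂, e₂, ka₂, kb₂⟩ := c.conj_U_absorb hA hZ (inv_mem hv₀) k₀
  rw [← hvZ] at e₁ e₂
  have k₀a : k₀ a = 1 := by simp [k₀]
  have k₀b : k₀ b = 1 := by simp [k₀]
  rw [k₀a] at ka₁ ka₂
  rw [k₀b] at kb₁ kb₂
  set n := d * a₀ * c.nw F L with hn
  have hda : d * a₀ ∈ D.diagonalSubgroup F := mul_mem hd ha₀
  have hnv : n * c.listX (Z.map fun s => (s, k₁ s)) * n⁻¹ =
      c.listX (Z.map fun s => (s, k₂ s)) := by
    rw [← e₁, ← e₂, inv_inv, hn]
    calc d * a₀ * c.nw F L * (u * v * u⁻¹) * (d * a₀ * c.nw F L)⁻¹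
        = v₀⁻¹ * ((v₀ * d * (a₀ * c.nw F L) * u) * v * (v₀ * d * (a₀ * c.nw F L) * u)⁻¹) * v₀ := by
          group
      _ = v₀⁻¹ * v * v₀ := by rw [hgC, mul_inv_cancel_right]
  -- roots with non-zero coefficient are kept positive
  have hkeep : ∀ s ∈ Z, k₁ s ≠ 0 → c.Pos (c.wl L s) := by
    intro s hs hne
    by_contra hneg
    have hy : c.listX (Z.map fun s => (s, k₁ s)) ∈ D.posUnipotent F := by
      refine Subgroup.list_prod_mem _ fun x hx => ?_
      obtain ⟨y, hy, rfl⟩ := List.mem_map.1 hx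
      exact c.xg_mem_U (c.absorb_pos hA (hmap _ y hy)) _
    have hy2 : c.listX (Z.map fun s => (s, k₂ s)) ∈ D.posUnipotent F := by
      refine Subgroup.list_prod_mem _ fun x hx => ?_
      obtain ⟨y, hy, rfl⟩ := List.mem_map.1 hx
      exact c.xg_mem_U (c.absorb_pos hA (hmap _ y hy)) _
    have hk := c.mem_keep hL hy (by
      have e : c.nw F L * c.listX (Z.map fun s => (s, k₁ s)) * (c.nw F L)⁻¹ =
          (d * a₀)⁻¹ * c.listX (Z.map fun s => (s, k₂ s)) * ((d * a₀)⁻¹)⁻¹ := by
        rw [← hnv, hn]; group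
      rw [e]
      exact (Subgroup.mem_normalizer_iff.1 (c.H_le_normalizer_U (inv_mem hda)) _).1 hy2)
    obtain ⟨t', ht', e'⟩ := c.exists_oprod_KS (c.keepSet_closed hL) _ c.T.h rfl le_rfl _ hk
    rw [c.listX_eq_oprod _ (c.absorb_list hA (hmap _)).1 (c.absorb_list hA (hmap _)).2] at e'
    have hps := c.absorb_pos hA hs
    have := c.oprod_inj _ c.T.h rfl le_rfl _ _ e' s hps.1 hps.2
    rw [coefAt_map hZ, if_pos hs, ht' s fun h => hneg h.2] at this
    exact hne this
  -- the images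
  have hmono : ∀ s ∈ Z, ∃ k : F, k ≠ 0 ∧ ∀ t : F, n * c.xg s t * n⁻¹ = c.xg (c.wl L s) (k * t) := by
    intro s hs
    obtain ⟨k, hk, e⟩ := c.mono_mul_xg hda hL (c.absorb_pos hA hs).2
    exact ⟨k, hk, fun t => by rw [hn, e, mul_inv_cancel_right]⟩
  choose! κ hκ hκe using hmono
  set Z' := Z.filter (fun s => decide (k₁ s ≠ 0)) with hZ'
  have hZ'sub : ∀ s ∈ Z', s ∈ Z ∧ k₁ s ≠ 0 := fun s hs => by
    rw [hZ', List.mem_filter, decide_eq_true_eq] at hs; exact hs
  set l := Z'.map (fun s => (c.wl L s, κ s * k₁ s)) with hl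
  have hlpos : ∀ x ∈ l, c.Pos x.1 := fun x hx => by
    obtain ⟨s, hs, rfl⟩ := List.mem_map.1 hx
    exact hkeep s (hZ'sub s hs).1 (hZ'sub s hs).2
  have hlcomm : ∀ x ∈ l, ∀ y ∈ l, ∀ t u : F, Commute (c.xg x.1 t) (c.xg y.1 u) := by
    intro x hx y hy t t'
    obtain ⟨s, hs, rfl⟩ := List.mem_map.1 hx
    obtain ⟨s', hs', rfl⟩ := List.mem_map.1 hy
    obtain ⟨hs, -⟩ := hZ'sub s hs
    obtain ⟨hs', -⟩ := hZ'sub s' hs'
    have e1 : c.xg (c.wl L s) t = n * c.xg s ((κ s)⁻¹ * t) * n⁻¹ := by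
      rw [hκe s hs, mul_inv_cancel_left₀ (hκ s hs)]
    have e2 : c.xg (c.wl L s') t' = n * c.xg s' ((κ s')⁻¹ * t') * n⁻¹ := by
      rw [hκe s' hs', mul_inv_cancel_left₀ (hκ s' hs')]
    rw [e1, e2]
    exact (c.absorb_commute hA hs hs' _ _).conj _
  have himg : c.listX l = c.listX (Z.map fun s => (s, k₂ s)) := by
    rw [← hnv, hl, hZ']
    clear_value n
    suffices h : ∀ Y : List ℕ, (∀ s ∈ Y, s ∈ Z) →
        c.listX ((Y.filter fun s => decide (k₁ s ≠ 0)).map fun s => (c.wl L s, κ s * k₁ s)) =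
          n * c.listX (Y.map fun s => (s, k₁ s)) * n⁻¹ from h Z fun _ h => h
    intro Y hY
    induction Y with
    | nil => simp [listX]
    | cons s Y ih =>
      rw [List.map_cons, c.listX_cons, show n * (c.xg s (k₁ s) * c.listX (Y.map fun s => (s, k₁ s))) *
          n⁻¹ = (n * c.xg s (k₁ s) * n⁻¹) * (n * c.listX (Y.map fun s => (s, k₁ s)) * n⁻¹) by group,
        ← ih fun x hx => hY x (by simp [hx]), hκe s (hY s (by simp))]
      by_cases h : k₁ s = 0
      · rw [List.filter_cons_of_neg (by simp [h]), h, mul_zero, c.xg_zero, one_mul]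
      · rw [List.filter_cons_of_pos (by simp [h]), List.map_cons, c.listX_cons]
  have hcoef : ∀ r, c.Pos r → coefAt l r = if r ∈ Z then k₂ r else 0 := fun r hr => by
    rw [c.coef_eq_of_listX hlpos (c.absorb_list hA (hmap _)).1 hlcomm
      (c.absorb_list hA (hmap _)).2 himg hr, coefAt_map hZ]
  have hinj : ∀ s ∈ Z', ∀ s' ∈ Z', c.wl L s = c.wl L s' → s = s' := by
    intro s hs s' hs' e
    have hr := fun p hp => hL p (List.mem_reverse.1 hp)
    have h1 := c.wl_reverse (L := L.reverse) hr (c.absorb_pos hA (hZ'sub s hs).1).2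
    have h2 := c.wl_reverse (L := L.reverse) hr (c.absorb_pos hA (hZ'sub s' hs').1).2
    rw [List.reverse_reverse] at h1 h2
    rw [← h1, e, h2]
  have hZ'n : Z'.Nodup := hZ.filter _
  have key : ∀ s ∈ Z, k₁ s ≠ 0 → c.wl L s ∈ Z ∧ k₂ (c.wl L s) = κ s * k₁ s := by
    intro s hs hne
    have hs' : s ∈ Z' := by rw [hZ', List.mem_filter]; exact ⟨hs, decide_eq_true hne⟩
    have h := hcoef _ (hkeep s hs hne)
    rw [hl, coefAt_map_comp hZ'n (c.wl L) hinj (fun s => κ s * k₁ s) hs'] at h
    by_cases hz : c.wl L s ∈ Z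
    · rw [if_pos hz] at h; exact ⟨hz, h.symm⟩
    · rw [if_neg hz] at h
      exact absurd h (mul_ne_zero (hκ s hs) hne)
  obtain ⟨za, ea⟩ := key a haZ (by rw [ka₁]; exact one_ne_zero)
  obtain ⟨zb, eb⟩ := key b hbZ (by rw [kb₁]; exact one_ne_zero)
  obtain ⟨hLa, hLb⟩ := hpick L hL za zb
  rw [hLa, ka₁, ka₂, mul_one] at ea
  rw [hLb, kb₁, kb₂, mul_one] at eb
  have hna : Commute n (c.xg a (1 : F)) := mul_inv_eq_iff_eq_mul.1 (by
    rw [hκe a haZ, hLa, ← ea, mul_one])
  have hnb : Commute n (c.xg b (1 : F)) := mul_inv_eq_iff_eq_mul.1 (by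
    rw [hκe b hbZ, hLb, ← eb, mul_one])
  -- the Levi part
  set K := Subgroup.closure {x : GL D.Idx F | ∃ p < D.rank, p ∈ P ∧ x = c.np F p} with hKdef
  have hle : K ≤ Subgroup.normalizer (D.diagonalSubgroup F : Set (GL D.Idx F)) := by
    refine ((Subgroup.closure_le _).2 ?_).trans c.N_le_normalizer_H
    rintro x ⟨p, hp, -, rfl⟩
    exact c.np_mem_N hp
  have hmem := c.nw_mem_of_fix_pair α β γ δ hD ha.2 hb.2 (S := D.diagonalSubgroup F ⊔ K)
    le_sup_left hdet0 (fun p hp hpP => Subgroup.mem_sup_right (Subgroup.subset_closure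
      ⟨p, hp, hpP, rfl⟩)) hL hLa hLb
  rw [← SetLike.mem_coe, Subgroup.coe_mul_of_right_le_normalizer_left _ _ hle, Set.mem_mul] at hmem
  obtain ⟨e₀, he₀, x, hx, exe⟩ := hmem
  have horth : ∀ p < D.rank, p ∈ P → c.T.cartan p a = 0 ∧ c.T.cartan p b = 0 := by
    intro p hp hpP
    simp only [Tables.checkDominant, List.all_eq_true, List.mem_range, Bool.and_eq_true,
      decide_eq_true_eq, Bool.or_eq_true, Bool.not_eq_true', List.any_eq_false] at hD
    rcases (hD p (c.rank_eq ▸ hp)).2 with h | h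
    · exact absurd (beq_of_eq rfl) (h p hpP)
    · exact h
  have hxa := c.fix_of_closure ha.2 (fun p hp hpP => (horth p hp hpP).1) hx
  have hxb := c.fix_of_closure hb.2 (fun p hp hpP => (horth p hp hpP).2) hx
  have hT := mul_mem hda he₀
  rw [c.diagonalSubgroup_eq] at hT
  obtain ⟨z, hz⟩ := hT
  have hnz : n = c.torus z * x := by rw [hn, ← exe, hz]; group
  have hza : Commute (c.torus z) (c.xg a (1 : F)) := by
    have := hna.mul_left hxa.inv_left
    rwa [hnz, mul_inv_cancel_right] at this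
  have hzb : Commute (c.torus z) (c.xg b (1 : F)) := by
    have := hnb.mul_left hxb.inv_left
    rwa [hnz, mul_inv_cancel_right] at this
  have hchar : ∀ s, s < D.nroots → Commute (c.torus z) (c.xg s (1 : F)) → c.tchar z s = 1 := by
    intro s hs h
    have e := c.torus_conj_xg z hs (1 : F)
    rw [h.eq, mul_inv_cancel_right, mul_one] at e
    exact Units.ext (c.xg_inj hs e).symm
  have hz1 := hzero z (hchar a ha.2 hza) (hchar b hb.2 hzb)
  have hng : ∀ p < D.rank, p ∈ P → ∀ t : F, c.ng (D.simple p) t ∈ S := fun p hp hpP t =>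
    mul_mem (mul_mem (hP p hp hpP t).1 (hP p hp hpP _).2) (hP p hp hpP t).1
  have hnS : n ∈ S := by
    rw [hnz]
    refine mul_mem ?_ ?_
    · rw [c.torus_eq_prod]
      refine Subgroup.list_prod_mem _ fun y hy => ?_
      obtain ⟨p, hp, rfl⟩ := List.mem_map.1 hy
      rw [List.mem_range] at hp
      by_cases hpP : p ∈ P
      · exact mul_mem (hng p hp hpP _) (hng p hp hpP _)
      · rw [hz1 p hp hpP, Units.val_one]
        have e : c.hg (D.simple p) (1 : F) = 1 := by
          rw [show (1 : F) = ((1 : Fˣ) : F) from Units.val_one.symm,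
            c.hg_eq (c.simple_lt hp) 1, ← map_one (dg D F)]
          exact dg_ext D F fun s _ => by simp [CertFull.pairChar]
        rw [e]; exact one_mem _
    · refine (Subgroup.closure_le _).2 ?_ hx
      rintro y ⟨p, hp, hpP, rfl⟩
      exact hng p hp hpP 1
  -- the right factor only uses roots outside the excluded list
  have huS : u ∈ S := by
    refine (Subgroup.closure_le _).2 ?_ hu
    rintro y ⟨r, t, hr, -, rfl⟩
    refine hS r hr.1 (fun hrex => ?_) t
    obtain ⟨w1, w2⟩ := c.weight_nonpos α β γ δ hD ha.2 hb.2 hL hLa hLb hr.1.2 hr.2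
    simp only [Tables.checkWeights, Tables.allRoots, List.all_eq_true, List.mem_range,
      Bool.or_eq_true, Nat.blt_eq, Bool.not_eq_true', List.any_eq_false, decide_eq_true_eq] at hW
    rcases hW r (c.nroots_eq ▸ hr.1.2) with h | h | h
    · exact absurd hr.1.1 (by omega)
    · exact h r hrex (beq_of_eq rfl)
    · omega
  have hgCv : Commute (v₀ * d * (a₀ * c.nw F L) * u) v := hgC
  have hnu : n * u ∈ S := mul_mem hnS huS
  have hv₀C : Commute v₀ v := by
    have := hgCv.mul_left (hfix _ hnu).inv_left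
    rwa [show v₀ * d * (a₀ * c.nw F L) * u * (n * u)⁻¹ = v₀ by rw [hn]; group] at this
  rw [show v₀ * d * (a₀ * c.nw F L) * u = v₀ * (n * u) by rw [hn]; group]
  exact mul_mem (hUC v₀ hv₀ hv₀C) hnu

end CertFull

end Cfsg.Agent.Lie.Chev
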