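import Cfsg.Agent.Lib.Lie.Chev.Centralizer
import Cfsg.Agent.Lib.Lie.Chev.CertsFull

/-! Words moving the highest root and any root not opposite to it to positive roots. -/

set_option autoImplicit false

namespace Cfsg.Agent.Lie.Chev

theorem pairPosG2 : ∃ words, certFullG2.T.checkPairPos 11 words = true ∧ certFullG2.T.checkTop 11 = true ∧ certFullG2.T.neg 11 = 0 :=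
  ⟨[[],[1,0],[0,1,0],[0,1],[0],[1],[],[],[],[],[],[]],
    by decide +kernel, by decide +kernel, by decide +kernel⟩

theorem pairPosD4 : ∃ words, certFullD4.T.checkPairPos 23 words = true ∧ certFullD4.T.checkTop 23 = true ∧ certFullD4.T.neg 23 = 0 :=
  ⟨[[],[3,1,2,0],[2,1,0],[3,1,0],[1,0],[0],[3,1,2],[2,1],[3,1],[1],[2],[3],[],[],[],[],[],[],[],[],[],[],[],[]],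
    by decide +kernel, by decide +kernel, by decide +kernel⟩

theorem pairPosE6 : ∃ words, certFullE6.T.checkPairPos 71 words = true ∧ certFullE6.T.checkTop 71 = true ∧ certFullE6.T.neg 71 = 0 :=
  ⟨[[],[5,4,3,2,1,3,4,0,2,3],[5,4,3,2,1,3,4,0,2],[5,4,3,2,1,3,0,2],[4,3,2,1,3,0,2],[5,4,3,2,1,3,4,0],[5,4,3,2,1,3,0],[4,3,2,1,3,0],[5,4,3,2,1,0],[4,3,2,1,0],[3,2,1,0],[5,4,3,2,0],[4,3,2,0],[3,2,0],[2,0],[0],[5,4,3,2,1,3,4],[5,4,3,2,1,3],[4,3,2,1,3],[5,4,3,2,1],[4,3,2,1],[3,2,1],[5,4,3,1],[4,3,1],[3,1],[1],[5,4,3,2],[4,3,2],[3,2],[2],[5,4,3],[4,3],[3],[5,4],[4],[5],[],[],[],[],[],[],[],[],[],[],[],[],[],[],[],[],[],[],[],[],[],[],[],[],[],[],[],[],[],[],[],[],[],[],[],[]],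
    by decide +kernel, by decide +kernel, by decide +kernel⟩

theorem pairPosE7 : ∃ words, certFullE7.T.checkPairPos 125 words = true ∧ certFullE7.T.checkTop 125 = true ∧ certFullE7.T.neg 125 = 0 :=
  ⟨[[],[6,5,4,3,2,1,3,4,5,0,2,3,4,1,3,2],[6,5,4,3,2,1,3,4,5,0,2,3,4,1,3],[6,5,4,3,2,1,3,4,5,0,2,3,4,1],[6,5,4,3,2,1,3,4,5,0,2,3,1],[6,5,4,3,2,1,3,4,0,2,3,1],[5,4,3,2,1,3,4,0,2,3,1],[6,5,4,3,2,1,3,4,5,0,2,3,4],[6,5,4,3,2,1,3,4,5,0,2,3],[6,5,4,3,2,1,3,4,0,2,3],[5,4,3,2,1,3,4,0,2,3],[6,5,4,3,2,1,3,4,5,0,2],[6,5,4,3,2,1,3,4,0,2],[5,4,3,2,1,3,4,0,2],[6,5,4,3,2,1,3,0,2],[5,4,3,2,1,3,0,2],[4,3,2,1,3,0,2],[6,5,4,3,2,1,3,4,5,0],[6,5,4,3,2,1,3,4,0],[5,4,3,2,1,3,4,0],[6,5,4,3,2,1,3,0],[5,4,3,2,1,3,0],[4,3,2,1,3,0],[6,5,4,3,2,1,0]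,[5,4,3,2,1,0],[4,3,2,1,0],[3,2,1,0],[6,5,4,3,2,0],[5,4,3,2,0],[4,3,2,0],[3,2,0],[2,0],[0],[6,5,4,3,2,1,3,4,5],[6,5,4,3,2,1,3,4],[5,4,3,2,1,3,4],[6,5,4,3,2,1,3],[5,4,3,2,1,3],[4,3,2,1,3],[6,5,4,3,2,1],[5,4,3,2,1],[4,3,2,1],[3,2,1],[6,5,4,3,1],[5,4,3,1],[4,3,1],[3,1],[1],[6,5,4,3,2],[5,4,3,2],[4,3,2],[3,2],[2],[6,5,4,3],[5,4,3],[4,3],[3],[6,5,4],[5,4],[4],[6,5],[5],[6],[],[],[],[],[],[],[],[],[],[],[],[],[],[],[],[],[],[],[],[],[],[],[],[],[],[],[],[],[],[],[],[],[],[],[],[],[],[],[],[],[],[],[],[],[],[],[],[],[],[],[],[],[],[],[],[],[],[],[],[],[],[],[]],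
    by decide +kernel, by decide +kernel, by decide +kernel⟩

theorem pairPosE8 : ∃ words, certFullE8.T.checkPairPos 239 words = true ∧ certFullE8.T.checkTop 239 = true ∧ certFullE8.T.neg 239 = 0 :=
  ⟨[[],[7,6,5,4,3,2,1,3,4,5,6,0,2,3,4,5,1,3,4,2,3,0,2,1,3,4,5,6],[7,6,5,4,3,2,1,3,4,5,6,0,2,3,4,5,1,3,4,2,3,0,2,1,3,4,5],[7,6,5,4,3,2,1,3,4,5,6,0,2,3,4,5,1,3,4,2,3,0,2,1,3,4],[7,6,5,4,3,2,1,3,4,5,6,0,2,3,4,5,1,3,4,2,3,0,2,1,3],[7,6,5,4,3,2,1,3,4,5,6,0,2,3,4,5,1,3,4,2,3,0,2,1],[7,6,5,4,3,2,1,3,4,5,6,0,2,3,4,5,1,3,4,2,3,1,0],[7,6,5,4,3,2,1,3,4,5,6,0,2,3,4,5,1,3,4,2,3,0,2],[7,6,5,4,3,2,1,3,4,5,6,0,2,3,4,5,1,3,4,2,3,0],[7,6,5,4,3,2,1,3,4,5,6,0,2,3,4,5,1,3,4,2,0],[7,6,5,4,3,2,1,3,4,5,6,0,2,3,4,5,1,3,2,0],[7,6,5,4,3,2,1,3,4,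5,6,0,2,3,4,1,3,2,0],[7,6,5,4,3,2,1,3,4,5,0,2,3,4,1,3,2,0],[6,5,4,3,2,1,3,4,5,0,2,3,4,1,3,2,0],[7,6,5,4,3,2,1,3,4,5,6,0,2,3,4,5,1,3,4,2,3,1],[7,6,5,4,3,2,1,3,4,5,6,0,2,3,4,5,1,3,4,2,3],[7,6,5,4,3,2,1,3,4,5,6,0,2,3,4,5,1,3,4,2],[7,6,5,4,3,2,1,3,4,5,6,0,2,3,4,5,1,3,2],[7,6,5,4,3,2,1,3,4,5,6,0,2,3,4,1,3,2],[7,6,5,4,3,2,1,3,4,5,0,2,3,4,1,3,2],[6,5,4,3,2,1,3,4,5,0,2,3,4,1,3,2],[7,6,5,4,3,2,1,3,4,5,6,0,2,3,4,5,1,3,4],[7,6,5,4,3,2,1,3,4,5,6,0,2,3,4,5,1,3],[7,6,5,4,3,2,1,3,4,5,6,0,2,3,4,1,3],[7,6,5,4,3,2,1,3,4,5,0,2,3,4,1,3],[6,5,4,3,2,1,3,4,5,0,2,3,4,1,3],[7,6,5,4,3,2,1,3,4,5,6,0,2,3,4,5,1],[7,6,5,4,3,2,1,3,4,5,6,0,2,3,4,1],[7,6,5,4,3,2,1,3,4,5,0,2,3,4,1],[6,5,4,3,2,1,3,4,5,0,2,3,4,1],[7,6,5,4,3,2,1,3,4,5,6,0,2,3,1],[7,6,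5,4,3,2,1,3,4,5,0,2,3,1],[6,5,4,3,2,1,3,4,5,0,2,3,1],[7,6,5,4,3,2,1,3,4,0,2,3,1],[6,5,4,3,2,1,3,4,0,2,3,1],[5,4,3,2,1,3,4,0,2,3,1],[7,6,5,4,3,2,1,3,4,5,6,0,2,3,4,5],[7,6,5,4,3,2,1,3,4,5,6,0,2,3,4],[7,6,5,4,3,2,1,3,4,5,0,2,3,4],[6,5,4,3,2,1,3,4,5,0,2,3,4],[7,6,5,4,3,2,1,3,4,5,6,0,2,3],[7,6,5,4,3,2,1,3,4,5,0,2,3],[6,5,4,3,2,1,3,4,5,0,2,3],[7,6,5,4,3,2,1,3,4,0,2,3],[6,5,4,3,2,1,3,4,0,2,3],[5,4,3,2,1,3,4,0,2,3],[7,6,5,4,3,2,1,3,4,5,6,0,2],[7,6,5,4,3,2,1,3,4,5,0,2],[6,5,4,3,2,1,3,4,5,0,2],[7,6,5,4,3,2,1,3,4,0,2],[6,5,4,3,2,1,3,4,0,2],[5,4,3,2,1,3,4,0,2],[7,6,5,4,3,2,1,3,0,2],[6,5,4,3,2,1,3,0,2],[5,4,3,2,1,3,0,2],[4,3,2,1,3,0,2],[7,6,5,4,3,2,1,3,4,5,6,0],[7,6,5,4,3,2,1,3,4,5,0],[6,5,4,3,2,1,3,4,5,0],[7,6,5,4,3,2,1,3,4,0]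,[6,5,4,3,2,1,3,4,0],[5,4,3,2,1,3,4,0],[7,6,5,4,3,2,1,3,0],[6,5,4,3,2,1,3,0],[5,4,3,2,1,3,0],[4,3,2,1,3,0],[7,6,5,4,3,2,1,0],[6,5,4,3,2,1,0],[5,4,3,2,1,0],[4,3,2,1,0],[3,2,1,0],[7,6,5,4,3,2,0],[6,5,4,3,2,0],[5,4,3,2,0],[4,3,2,0],[3,2,0],[2,0],[0],[7,6,5,4,3,2,1,3,4,5,6],[7,6,5,4,3,2,1,3,4,5],[6,5,4,3,2,1,3,4,5],[7,6,5,4,3,2,1,3,4],[6,5,4,3,2,1,3,4],[5,4,3,2,1,3,4],[7,6,5,4,3,2,1,3],[6,5,4,3,2,1,3],[5,4,3,2,1,3],[4,3,2,1,3],[7,6,5,4,3,2,1],[6,5,4,3,2,1],[5,4,3,2,1],[4,3,2,1],[3,2,1],[7,6,5,4,3,1],[6,5,4,3,1],[5,4,3,1],[4,3,1],[3,1],[1],[7,6,5,4,3,2],[6,5,4,3,2],[5,4,3,2],[4,3,2],[3,2],[2],[7,6,5,4,3],[6,5,4,3],[5,4,3],[4,3],[3],[7,6,5,4],[6,5,4],[5,4],[4],[7,6,5],[6,5],[5],[7,6],[6],[7],[],[],[],[],[],[],[],[],[],[],[],[],[],[],[],[],[],[],[],[],[],[],[],[],[],[],[],[],[],[],[],[],[],[],[],[],[],[],[],[],[],[],[],[],[],[],[],[],[],[],[],[],[],[],[],[],[],[],[],[],[],[],[],[],[],[],[],[],[],[],[],[],[],[],[],[],[],[],[],[],[],[],[],[],[],[],[],[],[],[],[],[],[],[],[],[],[],[],[],[],[],[],[],[],[],[],[],[],[],[],[],[],[],[],[],[],[],[],[],[]],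
    by decide +kernel, by decide +kernel, by decide +kernel⟩

end Cfsg.Agent.Lie.Chev
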