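import Cfsg.Agent.Lib.Lie.Chev.RadicalCentralizer
import Cfsg.Agent.Lib.Lie.Chev.Order
import Cfsg.Agent.Lib.Grp.Basic

/-! The order of a standard parabolic subgroup and the primes of its Levi subsystem. -/

set_option autoImplicit false

namespace Cfsg.Agent.Lie.Chev

open Cfsg.Lie Matrix

/-- The subgroup generated by the root elements of the subsystem. -/
def rootLevi (D : ChevalleyDatum) (F : Type*) [Field F] (J : Set ℕ) : Subgroup (GL D.Idx F) :=
  Subgroup.closure {g : GL D.Idx F | ∃ (r : ℕ) (t : F),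
    D.InRootSub J r ∧ (g : Matrix D.Idx D.Idx F) = D.x F r t}

namespace CertFull

variable {D : ChevalleyDatum} (c : CertFull D) {F : Type*} [Field F]

include c

theorem same_cons {p : ℕ} {L M : List ℕ} (h : c.Same L M) : c.Same (p :: L) (p :: M) :=
  fun q hq => by rw [Cert.wl_cons, Cert.wl_cons, h q hq]

theorem mul_np_forms {J : Set ℕ} {j : ℕ} (hj : j ∈ J) (hlt : j < D.rank) {g : GL D.Idx F}
    (h : ∃ b ∈ D.borelSubgroup F, ∃ L : List ℕ, (∀ p ∈ L, p < D.rank ∧ p ∈ J) ∧
      ∃ b' ∈ D.borelSubgroup F, g = b * c.nw F L * b') :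
    ∃ b ∈ D.borelSubgroup F, ∃ L : List ℕ, (∀ p ∈ L, p < D.rank ∧ p ∈ J) ∧
      ∃ b' ∈ D.borelSubgroup F, c.np F j * g = b * c.nw F L * b' := by
  obtain ⟨b, hb, L, hL, b', hb', rfl⟩ := h
  have hn : c.nw F L ∈ D.monomialSubgroup F := c.nw_mem_N fun p hp => (hL p hp).1
  have h := c.np_mul_mul hlt hn hb
  simp only [Set.mem_union, DoubleCoset.mem_doubleCoset] at h
  rcases h with ⟨x, hx, y, hy, e⟩ | ⟨x, hx, y, hy, e⟩
  · refine ⟨x, hx, j :: L, fun p hp => ?_, y * b', mul_mem hy hb', ?_⟩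
    · rcases List.mem_cons.1 hp with rfl | hp
      · exact ⟨hlt, hj⟩
      · exact hL p hp
    · rw [c.nw_cons, show c.np F j * (b * c.nw F L * b') = c.np F j * b * c.nw F L * b' by group, e]
      group
  · refine ⟨x, hx, L, hL, y * b', mul_mem hy hb', ?_⟩
    rw [show c.np F j * (b * c.nw F L * b') = c.np F j * b * c.nw F L * b' by group, e]
    group

/-- The Bruhat decomposition of a standard parabolic subgroup. -/
theorem parabolic_bruhat {J : Set ℕ} {g : GL D.Idx F} (hg : g ∈ D.parabolicSubgroup F J) :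
    ∃ b ∈ D.borelSubgroup F, ∃ L : List ℕ, (∀ p ∈ L, p < D.rank ∧ p ∈ J) ∧
      ∃ b' ∈ D.borelSubgroup F, g = b * c.nw F L * b' := by
  have hB : ∀ x ∈ D.borelSubgroup F, ∀ g : GL D.Idx F,
      (∃ b ∈ D.borelSubgroup F, ∃ L : List ℕ, (∀ p ∈ L, p < D.rank ∧ p ∈ J) ∧
        ∃ b' ∈ D.borelSubgroup F, g = b * c.nw F L * b') →
      ∃ b ∈ D.borelSubgroup F, ∃ L : List ℕ, (∀ p ∈ L, p < D.rank ∧ p ∈ J) ∧
        ∃ b' ∈ D.borelSubgroup F, x * g = b * c.nw F L * b' := by
    rintro x hx _ ⟨b, hb, L, hL, b', hb', rfl⟩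
    exact ⟨x * b, mul_mem hx hb, L, hL, b', hb', by group⟩
  rw [ChevalleyDatum.parabolicSubgroup, ← Subgroup.closure_eq (D.borelSubgroup F),
    ← Subgroup.closure_union] at hg
  induction hg using Subgroup.closure_induction_left with
  | one => exact ⟨1, one_mem _, [], by simp, 1, one_mem _, by simp⟩
  | mul_left x hx y _ ih =>
    rcases hx with hx | ⟨j, hj, hlt, e⟩
    · exact hB x hx y ih
    · obtain rfl : x = c.np F j := Units.ext (e.trans (c.ng_val _ _).symm)
      exact c.mul_np_forms hj hlt ih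
  | inv_mul_cancel x hx y _ ih =>
    rcases hx with hx | ⟨j, hj, hlt, e⟩
    · exact hB x⁻¹ (inv_mem hx) y ih
    · obtain rfl : x = c.np F j := Units.ext (e.trans (c.ng_val _ _).symm)
      rw [show (c.np F j)⁻¹ * y = (c.np F j * c.np F j)⁻¹ * (c.np F j * y) by group]
      exact hB _ (inv_mem (c.H_le_B (c.np_sq_mem hlt))) _ (c.mul_np_forms hj hlt ih)

theorem exists_rep_parabolic {J : Set ℕ} {E : List (List ℕ)} (hw : ∀ v ∈ E, ∀ p ∈ v, p < D.rank ∧ p ∈ J)
    (hne : ∃ v ∈ E, c.Same [] v)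
    (hclose : ∀ v ∈ E, ∀ p < D.rank, p ∈ J → ∃ v' ∈ E, c.Same (p :: v) v') :
    ∀ L : List ℕ, (∀ p ∈ L, p < D.rank ∧ p ∈ J) → ∃ v ∈ E, c.Same L v := by
  intro L
  induction L with
  | nil => exact fun _ => hne
  | cons p L ih =>
    intro hL
    obtain ⟨v, hv, hs⟩ := ih fun q hq => hL q (List.mem_cons_of_mem _ hq)
    obtain ⟨v', hv', hs'⟩ := hclose v hv p (hL p (by simp)).1 (hL p (by simp)).2
    exact ⟨v', hv', fun q hq => (c.same_cons hs q hq).trans (hs' q hq)⟩

/-- The order of a standard parabolic subgroup. -/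
theorem card_parabolic [Fintype F] {J : Set ℕ} {E : List (List ℕ)}
    (hwJ : ∀ v ∈ E, ∀ p ∈ v, p < D.rank ∧ p ∈ J) (hne : ∃ v ∈ E, c.Same [] v)
    (hclose : ∀ v ∈ E, ∀ p < D.rank, p ∈ J → ∃ v' ∈ E, c.Same (p :: v) v')
    (hpw : E.Pairwise fun a b => ¬ c.Same a b) :
    Nat.card (D.parabolicSubgroup F J) =
      Fintype.card F ^ (D.nroots / 2) * Nat.card (D.diagonalSubgroup F) *
        (E.map fun v => Fintype.card F ^ c.invN v).sum := by
  have hw : ∀ i : Fin E.length, ∀ p ∈ E[i], p < D.rank := fun i p hp =>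
    (hwJ _ (List.getElem_mem _) p hp).1
  have hinv : ∀ {L M : List ℕ}, (∀ p ∈ L, p < D.rank) → (∀ p ∈ M, p < D.rank) → c.Same L M →
      c.invSet L = c.invSet M := fun {L M} hL hM h => Set.ext fun r =>
    and_congr_right fun hr => by rw [c.wl_eq_of_same hL hM h hr.2]
  have hB : D.borelSubgroup F ≤ D.parabolicSubgroup F J := le_sup_left
  have hnP : ∀ v ∈ E, c.nw F v ∈ D.parabolicSubgroup F J := fun v hv => by
    refine Subgroup.list_prod_mem _ fun y hy => ?_
    obtain ⟨p, hp, rfl⟩ := List.mem_map.1 hy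
    exact Subgroup.mem_sup_right
      (Subgroup.subset_closure ⟨p, (hwJ v hv p hp).2, (hwJ v hv p hp).1, c.ng_val _ _⟩)
  let f : (Σ i : Fin E.length, D.borelSubgroup F × c.KS F (c.invSet E[i]) c.T.h) →
      D.parabolicSubgroup F J :=
    fun x => ⟨x.2.1.1 * (1 * c.nw F E[x.1]) * x.2.2.1,
      Subgroup.mul_mem _ (Subgroup.mul_mem _ (hB x.2.1.2)
        (Subgroup.mul_mem _ (Subgroup.one_mem _) (hnP _ (List.getElem_mem _))))
        (hB (Subgroup.mem_sup_left (c.KS_invSet_le_U (hw x.1) x.2.2.2)))⟩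
  have hf : Function.Bijective f := by
    refine ⟨?_, fun g => ?_⟩
    · rintro ⟨i, b, u⟩ ⟨j, b', u'⟩ e
      have e' := congrArg Subtype.val e
      simp only [f] at e'
      have hn : ∀ k : Fin E.length, (1 : GL D.Idx F) * c.nw F E[k] ∈ D.monomialSubgroup F :=
        fun k => mul_mem (one_mem _) (c.nw_mem_N (hw k))
      have h1 := c.bruhat_unique b.2 b'.2 (hn i) (hn j) (c.KS_invSet_le_U (hw i) u.2)
        (c.KS_invSet_le_U (hw j) u'.2) e'
      have hij : i = j := by
        have hsame : ∀ {p q : Fin E.length},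
            (1 * c.nw F E[p])⁻¹ * (1 * c.nw F E[q]) ∈ D.diagonalSubgroup F → p < q → False := by
          intro p q hpq hlt'
          rw [List.pairwise_iff_getElem] at hpw
          refine hpw p.1 q.1 p.2 q.2 hlt' fun m hm => ?_
          refine (c.wl_eq_of_eq (one_mem _) (c.N_conj_H (hn p) hpq) (hw q) (hw p) ?_
            (c.simple_lt hm)).symm
          simp [mul_assoc]
        rcases lt_trichotomy i j with h | h | h
        · exact (hsame h1 h).elim
        · exact h
        · refine (hsame ?_ h).elim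
          have := inv_mem h1
          simpa [mul_assoc] using this
      subst hij
      obtain ⟨h2, h3⟩ := c.bruhat_unique_factors (one_mem _) (hw i) b.2 b'.2 u.2 u'.2 e'
      obtain rfl : b = b' := Subtype.ext h2
      obtain rfl : u = u' := Subtype.ext h3
      rfl
    · obtain ⟨b₁, hb₁, L', hL', b₂, hb₂, e₁⟩ := c.parabolic_bruhat g.2
      have hgG : (g : GL D.Idx F) ∈ D.group F := by
        rw [e₁]
        exact mul_mem (mul_mem (c.B_le_group hb₁)
          (c.N_le_group (c.nw_mem_N fun p hp => (hL' p hp).1))) (c.B_le_group hb₂)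
      obtain ⟨b, hb, a, ha, L, hL, u, hu, e⟩ := c.bruhat_exists hgG
      have hL'r : ∀ p ∈ L', p < D.rank := fun p hp => (hL' p hp).1
      have hLL : c.Same L L' := by
        obtain ⟨u₂, hu₂, a₂, ha₂, rfl⟩ := c.mem_borel_iff.1 hb₂
        have hu₂' : a₂⁻¹ * u₂ * a₂ ∈ D.posUnipotent F := by
          have := c.conj_B_U (inv_mem (c.H_le_B ha₂)) hu₂
          rwa [inv_inv] at this
        have hn' : c.nw F L' * a₂ ∈ D.monomialSubgroup F :=
          mul_mem (c.nw_mem_N hL'r) (Subgroup.mem_sup_left ha₂)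
        have h1 := c.bruhat_unique hb hb₁ (mul_mem (Subgroup.mem_sup_left ha) (c.nw_mem_N hL)) hn'
          (c.KS_invSet_le_U hL hu) hu₂'
          (by rw [← e, e₁]; group)
        intro q hq
        refine c.wl_eq_of_eq (mul_mem ha (c.N_conj_H (c.nw_mem_N hL) h1))
          (c.N_conj_H (c.nw_mem_N hL'r) ha₂) hL hL'r ?_ (c.simple_lt hq)
        group
      obtain ⟨v, hv, hs'⟩ := c.exists_rep_parabolic hwJ hne hclose L' hL'
      have hs : c.Same L v := fun q hq => (hLL q hq).trans (hs' q hq)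
      obtain ⟨i, hi, rfl⟩ := List.getElem_of_mem hv
      have hwi := hw ⟨i, hi⟩
      simp only [Fin.getElem_fin] at hwi
      have hrev : ∀ p ∈ (E[i]).reverse, p < D.rank := fun p hp => hwi p (List.mem_reverse.1 hp)
      have hk : c.nw F L * (c.nw F E[i])⁻¹ ∈ D.diagonalSubgroup F := by
        obtain ⟨a', ha', M, hM, hn⟩ := c.mem_monomial_iff.1
          (mul_mem (c.nw_mem_N (F := F) hL) (inv_mem (c.nw_mem_N hwi)))
        rw [hn]
        refine c.mem_H_of_wl ha' hM fun q hq => ?_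
        have hα := c.simple_lt hq
        have hy := c.wl_lt hrev hα
        have h := congrArg (· * c.nw F E[i]) hn
        simp only [mul_assoc, inv_mul_cancel, mul_one, ← c.nw_append] at h
        have h' := c.wl_eq_of_eq (one_mem _) ha' hL
          (fun p hp => (List.mem_append.1 hp).elim (hM p) (hwi p)) (by rw [one_mul]; exact h) hy
        rw [c.wl_eq_of_same hL hwi hs hy, c.wl_append, c.wl_reverse hwi hα] at h'
        rw [← h']
        exact c.pos_simple hq
      refine ⟨⟨⟨i, hi⟩, ⟨b * (a * (c.nw F L * (c.nw F E[i])⁻¹)),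
        mul_mem hb (c.H_le_B (mul_mem ha hk))⟩, ⟨u, ?_⟩⟩, Subtype.ext ?_⟩
      · simp only [Fin.getElem_fin]
        rwa [← hinv hL hwi hs]
      · show b * (a * (c.nw F L * (c.nw F E[i])⁻¹)) * (1 * c.nw F E[i]) * u = (g : GL D.Idx F)
        rw [e]; group
  rw [← Nat.card_congr (Equiv.ofBijective f hf), Nat.card_sigma,
    ← Fin.sum_univ_getElem (E.map fun v => Fintype.card F ^ c.invN v), Finset.mul_sum]
  refine Finset.sum_equiv (finCongr (List.length_map _).symm) (by simp) fun i _ => ?_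
  rw [Nat.card_prod, c.card_borel, c.card_KS (c.invSet_closed (hw i)), c.invSet_card]
  simp

/-- The order of a parabolic subgroup divides that of radical, root Levi subgroup and torus. -/
theorem card_parabolic_dvd (J : Set ℕ) :
    Nat.card (D.parabolicSubgroup F J) ∣ Nat.card (D.unipotentRadical F J) *
      (Nat.card (rootLevi D F J) * Nat.card (D.diagonalSubgroup F)) := by
  have hL : D.leviSubgroup F J = rootLevi D F J ⊔ D.diagonalSubgroup F := sup_comm _ _
  have h1 : D.diagonalSubgroup F ≤ Subgroup.normalizer (rootLevi D F J : Set (GL D.Idx F)) := by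
    refine c.torus_le_normalizer ?_
    rintro g ⟨r, t, hr, e⟩
    exact ⟨r, hr.1, t, c.eq_xg_iff.1 e,
      fun u => Subgroup.subset_closure ⟨r, u, hr, c.xg_val _ _⟩⟩
  have h2 : D.leviSubgroup F J ≤
      Subgroup.normalizer (D.unipotentRadical F J : Set (GL D.Idx F)) :=
    le_trans (by rw [← c.radical_sup_levi J]; exact le_sup_right) (c.parabolic_le_normalizer J)
  rw [← c.radical_sup_levi J, sup_comm]
  refine (Grp.card_sup_dvd_mul h2).trans ?_
  rw [mul_comm (Nat.card (D.unipotentRadical F J))]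
  refine mul_dvd_mul_right ?_ _
  rw [hL, sup_comm, mul_comm (Nat.card (rootLevi D F J))]
  exact Grp.card_sup_dvd_mul h1

end CertFull

end Cfsg.Agent.Lie.Chev
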