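import Cfsg.Prelude.Def_ParabolicCharacters
import Cfsg.Agent.Lib.Lie.HeckeCenter
import Cfsg.Agent.Lib.Lie.Chev.BNValue

/-! The constituents of the principal series of an untwisted Chevalley group are as many as the
classes of its Weyl group. -/

set_option autoImplicit false

namespace Cfsg.Agent.Lie.Chev

open Cfsg.Lie
open Cfsg.Agent.Block.PermChar (mult piFun)

universe u

theorem constituent_iff {G : Type u} [Group G] [Fintype G] (H : Subgroup G) [Fintype (G ⧸ H)]
    (χ : Cfsg.IrrCharacter G) :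
    (∃ φ : G → ℂ, Cfsg.IsCharacter G φ ∧ Cfsg.fixedPointCharacter H = (χ : G → ℂ) + φ) ↔
      mult G (G ⧸ H) (χ : G → ℂ) ≠ 0 := by
  classical
  have hpi : Cfsg.IsCharacter G (piFun G (G ⧸ H)) := Block.PermChar.isCharacter_piFun
  constructor
  · rintro ⟨φ, hφ, h⟩
    obtain ⟨n, hn⟩ := Cfsg.Agent.Char.IsChar.classInner_nat hφ (Cfsg.Agent.Char.IsIrr.isCharacter χ.2)
    rw [mult, show piFun G (G ⧸ H) = (χ : G → ℂ) + φ from h, Cfsg.Agent.Char.classInner_add_left,
      Cfsg.Agent.Char.classInner_self_irr χ.2, hn]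
    exact_mod_cast (Nat.succ_ne_zero n) ∘ (by rw [add_comm]; exact id)
  · intro h
    refine ⟨piFun G (G ⧸ H) - (χ : G → ℂ), ?_, (add_sub_cancel _ _).symm⟩
    refine Cfsg.Agent.Char.isCharacter_of_classInner_nat
      (Cfsg.Agent.Char.classFunction_sub (Cfsg.Agent.Char.IsChar.classFun hpi)
        (Cfsg.Agent.Char.IsIrr.classFun χ.2)) fun ψ hψ => ?_
    obtain ⟨a, ha⟩ := Block.PermChar.exists_mult (Ω := G ⧸ H) ⟨ψ, hψ⟩
    rw [Cfsg.Agent.Char.classInner_sub_left, Cfsg.Agent.Char.classInner_irr_eq_ite χ.2 hψ]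
    by_cases e : (χ : G → ℂ) = ψ
    · have ha0 : a ≠ 0 := fun h0 => h (by
        rw [show mult G (G ⧸ H) (χ : G → ℂ) = mult G (G ⧸ H) ψ by rw [e], ha, h0, Nat.cast_zero])
      refine ⟨a - 1, ?_⟩
      rw [if_pos e, Nat.cast_sub (Nat.pos_of_ne_zero ha0), Nat.cast_one, ← ha]
      rfl
    · exact ⟨a, by rw [if_neg e, sub_zero, ← ha]; rfl⟩

namespace CertFull

variable {D : ChevalleyDatum} (c : CertFull D)

include c

/-- The generic ranks at the order of a field. -/
theorem hecke_good {k : ℕ} [NeZero k] (M : CoxeterMatrix (Fin k)) (hk : D.rank = k)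
    (hchk : c.T.checkCox ((List.range k).map fun i => [i]) (natM M) = true)
    [Fintype M.Group] [DecidableEq M.Group]
    (hgen : ∀ w, ∃ l : List (Fin k), (l.map M.simple).prod = w)
    (F : Type u) [Field F] [Fintype F] :
    ((HeckeRank.Kmat M.simple hgen).map (Polynomial.eval (Fintype.card F : ℂ))).rank +
        ((HeckeRank.Cmat M.simple hgen).map (Polynomial.eval (Fintype.card F : ℂ))).rank =
        Fintype.card M.Group ∧
      ((HeckeRank.Kmat M.simple hgen).map (Polynomial.eval (Fintype.card F : ℂ))).rank =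
        Nat.card {χ : Cfsg.IrrCharacter ↥(D.group F) //
          ∃ φ : ↥(D.group F) → ℂ, Cfsg.IsCharacter ↥(D.group F) φ ∧
            Cfsg.fixedPointCharacter ((D.borelSubgroup F).subgroupOf (D.group F)) =
              (χ : ↥(D.group F) → ℂ) + φ} := by
  classical
  haveI := Fintype.ofFinite ↥(D.group F)
  haveI := Fintype.ofFinite (↥(D.group F) ⧸ (c.bnPair F).B)
  obtain ⟨e, he⟩ := c.exists_weylEquiv F M hk hchk
  obtain ⟨f, hf⟩ := c.exists_nodeEquiv (F := F) hk
  have he' : ∀ i, e (Lie.refl (c.bnPair F) (f i)) = M.simple i := fun i => by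
    rw [Lie.refl, hf i]; exact he i
  obtain ⟨h1, h2⟩ := HeckeCenter.good (c.bnPair F) e hgen f he'
    (fun t => (c.val_eq t).trans Nat.card_eq_fintype_card) Fintype.card_ne_zero
  refine ⟨h1, h2.trans (Nat.card_congr (Equiv.subtypeEquivRight fun χ => ?_))⟩
  exact (constituent_iff (c.bnPair F).B χ).symm

theorem card_constituents {k : ℕ} [NeZero k] (M : CoxeterMatrix (Fin k)) (hk : D.rank = k)
    (hchk : c.T.checkCox ((List.range k).map fun i => [i]) (natM M) = true)
    {F : Type u} [Field F] [Fintype F] :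
    Nat.card {χ : Cfsg.IrrCharacter ↥(D.group F) //
      ∃ φ : ↥(D.group F) → ℂ, Cfsg.IsCharacter ↥(D.group F) φ ∧
        Cfsg.fixedPointCharacter ((D.borelSubgroup F).subgroupOf (D.group F)) =
          (χ : ↥(D.group F) → ℂ) + φ} = Nat.card (ConjClasses M.Group) := by
  classical
  obtain ⟨e, he⟩ := c.exists_weylEquiv F M hk hchk
  obtain ⟨f, hf⟩ := c.exists_nodeEquiv (F := F) hk
  haveI : Finite M.Group := Finite.of_equiv _ e.toEquiv
  haveI := Fintype.ofFinite M.Group
  have hgen : ∀ w, ∃ l : List (Fin k), (l.map M.simple).prod = w := by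
    intro w
    obtain ⟨v, rfl⟩ := e.surjective w
    obtain ⟨l, rfl⟩ := Lie.exists_word (c.bnPair F) v
    refine ⟨l.map f.symm, ?_⟩
    induction l with
    | nil => simp
    | cons t l ih =>
      rw [List.map_cons, List.map_cons, List.prod_cons, ih, Lie.wprod_cons, map_mul]
      congr 1
      conv_rhs => rw [← f.apply_symm_apply t, Lie.refl, hf]
      exact (he _).symm
  have hinf : {t : ℂ | ((HeckeRank.Kmat M.simple hgen).map (Polynomial.eval t)).rank +
      ((HeckeRank.Cmat M.simple hgen).map (Polynomial.eval t)).rank =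
        Fintype.card M.Group}.Infinite := by
    refine Set.infinite_of_injective_forall_mem (f := fun m : ℕ => ((2 ^ (m + 1) : ℕ) : ℂ))
      (fun a b h => ?_) fun m => ?_
    · exact Nat.succ_injective (Nat.pow_right_injective le_rfl (Nat.cast_injective h))
    · haveI := Fintype.ofFinite (GaloisField 2 (m + 1))
      have h := (c.hecke_good M hk hchk hgen (GaloisField 2 (m + 1))).1
      rw [← Nat.card_eq_fintype_card (α := GaloisField 2 (m + 1)),
        GaloisField.card 2 (m + 1) (Nat.succ_ne_zero m)] at h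
      exact h
  obtain ⟨h1, h2⟩ := c.hecke_good M hk hchk hgen F
  obtain ⟨h3, h4⟩ := HeckeRank.good_one M.simple hgen
  rw [← h2, HeckeRank.rank_eq_of_good _ _ (Fintype.card M.Group) _ 1 h1 h3 hinf, h4]

end CertFull

end Cfsg.Agent.Lie.Chev
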