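import Cfsg.Agent.Lib.Lie.Chev.ReeMinDegree
import Cfsg.Agent.Lib.Lie.Chev.FieldAut

/-! The multiplication rule of the unipotent part of a small Ree group and the automorphisms
coming from the field. -/

set_option autoImplicit false
set_option maxRecDepth 4000

namespace Cfsg.Agent.Lie.Chev.G2

open Cfsg.Lie

variable {K : Type*} [Field K] (f : K →+* K) [CharP K 3] [ExpChar K 3]
variable [Fintype K] {m : ℕ} (hf : ∀ t, f t = t ^ 3 ^ m) (hK : Fintype.card K = 3 ^ (2 * m + 1))

include hf hK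

local notation "G₁" => twistedG2 K (3 ^ m)

/-- An element with vanishing second and third coordinates. -/
noncomputable def uT (t : K) : ↥G₁ := uW f hf hK (t, 0, 0)

theorem uT_val (t : K) : (uT f hf hK t : GL chevG2.Idx K) =
    certFullG2.xg 7 (f t) * certFullG2.xg 6 t *
      (certFullG2.xg 8 (f t * t) * certFullG2.xg 9 (f t ^ 2 * t)) := by
  show ((reeWordU (3 ^ m) t (0 : K) 0).map fun p => certFullG2.xg p.1 p.2).prod = _
  simp [word_eq f hf, certFullG2.xg_zero]

theorem uT_zero : uT f hf hK 0 = 1 := uW_zero f hf hK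

theorem uW_eq (t u v : K) : uW f hf hK (t, u, v) = uT f hf hK t * uE f hf hK (u, v) := by
  refine Subtype.ext ?_
  rw [Subgroup.coe_mul, uT_val, uE_val,
    show (uW f hf hK (t, u, v) : GL chevG2.Idx K) =
      ((reeWordU (3 ^ m) t u v).map fun p => certFullG2.xg p.1 p.2).prod from rfl,
    word_eq f hf, certFullG2.xg_add, certFullG2.xg_add]
  have h89 := class_commute (K := K) pos_class (i := 9) (j := 8) (by simp) (by simp)
    (f t ^ 2 * t) (f u)
  simp only [mul_assoc]
  simp only [h89.left_comm]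

theorem uT_mul_eq (t t' : K) : uT f hf hK t * uT f hf hK t' =
    uW f hf hK (t + t', -(f t' ^ 3 * t), f t' ^ 3 * t * t' - f t' ^ 3 * t ^ 2) := by
  refine Subtype.ext ?_
  rw [Subgroup.coe_mul, uT_val, uT_val,
    show (uW f hf hK (t + t', -(f t' ^ 3 * t), f t' ^ 3 * t * t' - f t' ^ 3 * t ^ 2) :
      GL chevG2.Idx K) = ((reeWordU (3 ^ m) (t + t') (-(f t' ^ 3 * t))
        (f t' ^ 3 * t * t' - f t' ^ 3 * t ^ 2)).map fun p => certFullG2.xg p.1 p.2).prod from rfl,
    word_eq f hf]
  set a := f t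
  set b := f t'
  -- the values of the twisting map
  have hb : f b ^ 3 = t' := ff_cube f hf hK t'
  have ha : f (t' ^ 2 * a ^ 2) = f t' ^ 2 * f a ^ 2 := by rw [map_mul, map_pow, map_pow]
  have fu : f (-(b ^ 3 * t)) = -(t' * a) := by rw [map_neg, map_mul, map_pow, hb]
  have fv : f (b ^ 3 * t * t' - b ^ 3 * t ^ 2) = t' * a * b - t' * a ^ 2 := by
    simp only [map_sub, map_mul, map_pow, hb]
    rfl
  rw [show f (t + t') = a + b from map_add f t t', fu, fv]
  have hc := fun {i j : ℕ} (hi : i ∈ [8, 9, 10, 11]) (hj : j ∈ [8, 9, 10, 11]) (x y : K) =>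
    class_commute (K := K) pos_class hi hj x y
  -- past the second pair of root elements
  obtain ⟨w7, w6⟩ := upper_past (a * t) (a ^ 2 * t) 0 0 t' b
  simp only [certFullG2.xg_zero, mul_one, mul_zero, neg_zero] at w7 w6
  obtain ⟨d7', d6⟩ := upper_past (b * t) (b ^ 2 * t) (-(b ^ 3 * t)) (-(b ^ 3 * t ^ 2)) t' b
  clear d7'
  have hcl := class_comm (K := K) pos_class b t
  simp only [Int.cast_one, one_mul] at hcl
  have h96 : Commute (certFullG2.xg 9 (2 * (b * (a * t)))) (certFullG2.xg 6 t') :=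
    (certFullG2.xg_commute (show 6 < 12 by omega) (show 9 < 12 by omega) (by omega)
      (by rw [show chevG2.neg 6 = 5 from certFullG2.neg_eq (by show _ < 12; omega)]; omega)
      more_comm.2.2.2.2.2.1 t' _).symm
  set X7 := certFullG2.xg 7 a
  set X7' := certFullG2.xg 7 b
  set X6 := certFullG2.xg 6 t
  set X6' := certFullG2.xg 6 t'
  set W := certFullG2.xg 8 (a * t) * certFullG2.xg 9 (a ^ 2 * t) with hW
  set W' := certFullG2.xg 8 (b * t') * certFullG2.xg 9 (b ^ 2 * t') with hW'
  set Z := certFullG2.xg 9 (2 * (b * (a * t))) with hZ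
  set D := certFullG2.xg 8 (b * t) * certFullG2.xg 9 (b ^ 2 * t) *
    (certFullG2.xg 10 (-(b ^ 3 * t)) * certFullG2.xg 11 (-(b ^ 3 * t ^ 2))) with hD
  calc X7 * X6 * W * (X7' * X6' * W') = X7 * X6 * (W * X7') * X6' * W' := by
        simp only [mul_assoc]
    _ = X7 * (X6 * X7') * W * (Z * X6') * W' := by rw [w7]; simp only [mul_assoc]
    _ = X7 * X7' * X6 * D * (W * X6') * Z * W' := by
        rw [hcl, h96.eq]; simp only [mul_assoc]
    _ = X7 * X7' * X6 * (D * X6') * W * Z * W' := by rw [w6]; simp only [mul_assoc]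
    _ = certFullG2.xg 7 (a + b) * certFullG2.xg 6 (t + t') *
          (D * certFullG2.xg 11 (-(t' * -(b ^ 3 * t))) * W * Z * W') := by
        rw [d6, certFullG2.xg_add, certFullG2.xg_add]; simp only [X7, X7', X6, X6', mul_assoc]
    _ = _ := by
      congr 1
      rw [show (a + b) * (t + t') + -(t' * a) = b * t + (a * t + b * t') by ring,
        show (a + b) ^ 2 * (t + t') + (t' * a * b - t' * a ^ 2) =
          b ^ 2 * t + (a ^ 2 * t + (2 * (b * (a * t)) + b ^ 2 * t')) by
          linear_combination (t' * a * b) * three_eq_zero (K := K),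
        show b ^ 3 * t * t' - b ^ 3 * t ^ 2 = -(b ^ 3 * t ^ 2) + -(t' * -(b ^ 3 * t)) by ring,
        hD, hW, hW', hZ]
      simp only [certFullG2.xg_add, mul_assoc]
      have e1 := hc (i := 11) (j := 8) (by simp) (by simp)
      have e2 := hc (i := 11) (j := 9) (by simp) (by simp)
      have e3 := hc (i := 10) (j := 8) (by simp) (by simp)
      have e4 := hc (i := 10) (j := 9) (by simp) (by simp)
      have e5 := hc (i := 9) (j := 8) (by simp) (by simp)
      simp only [fun x y => (e1 x y).left_comm, fun x y => (e2 x y).left_comm,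
        fun x y => (e3 x y).left_comm, fun x y => (e4 x y).left_comm,
        fun x y => (e5 x y).left_comm, fun x y => (e1 x y).eq, fun x y => (e2 x y).eq,
        fun x y => (e3 x y).eq, fun x y => (e4 x y).eq]

theorem uT_mul (t t' : K) : uT f hf hK t * uT f hf hK t' =
    uT f hf hK (t + t') *
      uE f hf hK (-(f t' ^ 3 * t), f t' ^ 3 * t * t' - f t' ^ 3 * t ^ 2) := by
  rw [uT_mul_eq, uW_eq]

theorem uE_mul_uT (x : K × K) (t : K) : uE f hf hK x * uT f hf hK t =
    uT f hf hK t * uE f hf hK (x.1, x.2 - t * x.1) := by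
  rw [← shear f hf hK t x, uT]
  group

theorem uE_comm (x y : K × K) : uE f hf hK x * uE f hf hK y = uE f hf hK y * uE f hf hK x := by
  rw [← uE_add, ← uE_add, add_comm]

theorem central_comm (v : K) (t : K) (x : K × K) :
    uE f hf hK (0, v) * (uT f hf hK t * uE f hf hK x) =
      uT f hf hK t * uE f hf hK x * uE f hf hK (0, v) := by
  rw [← mul_assoc, uE_mul_uT, mul_zero, sub_zero, mul_assoc, mul_assoc, uE_comm]

theorem uW_cube (t u v : K) :
    uW f hf hK (t, u, v) ^ 3 = uE f hf hK (0, -(f t ^ 3 * t ^ 2)) := by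
  refine Subtype.ext ?_
  rw [uE_val]
  show ((reeWordU (3 ^ m) t u v).map fun p => certFullG2.xg p.1 p.2).prod ^ 3 = _
  rw [word_cube f hf, sq (certFullG2.xg 11 _), ← certFullG2.xg_add]
  simp only [map_zero, certFullG2.xg_zero, one_mul, mul_one, map_neg, map_mul, map_pow]
  rw [ff_cube f hf hK]
  congr 2
  · linear_combination (f t * (f t * t)) * three_eq_zero (K := K)
  · linear_combination (f t ^ 3 * t ^ 2) * three_eq_zero (K := K)

/-- The weight of the torus on the first coordinate. -/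
noncomputable def wt (y : Kˣ) : Kˣ := certFullG2.tchar (zOf f y) 6

omit [ExpChar K 3] [CharP K 3] [Fintype K] hf hK in
theorem wt_val (y : Kˣ) : (wt f y : K) = (y : K) ^ 2 / f y ^ 3 := by
  obtain ⟨-, c6, -⟩ := tchar_values (zOf f y)
  rw [(zOf_apply f y).1, (zOf_apply f y).2] at c6
  rw [wt, c6]
  simp only [Units.val_mul, Units.val_inv_eq_inv_val, Units.coe_map, MonoidHom.coe_coe]
  rw [div_eq_mul_inv]
  congr 1
  · ring
  · congr 1; ring

omit [ExpChar K 3] [CharP K 3] [Fintype K] hf hK in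
theorem wu_val (y : Kˣ) : (wu f y : K) = f y ^ 3 / y := by
  obtain ⟨-, -, -, -, c10, -⟩ := tchar_values (zOf f y)
  rw [(zOf_apply f y).1, (zOf_apply f y).2] at c10
  rw [wu, c10]
  simp only [Units.val_mul, Units.val_inv_eq_inv_val, Units.coe_map, MonoidHom.coe_coe]
  rw [div_eq_mul_inv]
  congr 1
  ring

theorem hP_conj_uT (y : Kˣ) (t : K) :
    hP f hf hK y * uT f hf hK t * (hP f hf hK y)⁻¹ = uT f hf hK ((wt f y : K) * t) := by
  refine Subtype.ext ?_
  rw [Subgroup.coe_mul, Subgroup.coe_mul, Subgroup.coe_inv, uT_val, uT_val,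
    show (hP f hf hK y : GL chevG2.Idx K) = param f y from rfl]
  have e : ∀ r, r < 12 → ∀ z : K, MulAut.conj (param f y) (certFullG2.xg r z) =
      certFullG2.xg r ((certFullG2.tchar (zOf f y) r : K) * z) := fun r hr z =>
    certFullG2.torus_conj_xg _ hr z
  rw [← MulAut.conj_apply]
  simp only [map_mul, e 6 (by omega), e 7 (by omega), e 8 (by omega), e 9 (by omega)]
  obtain ⟨c7, -, c8, c9, -, -⟩ := tchar_values (zOf f y)
  rw [(zOf_apply f y).1, (zOf_apply f y).2] at c7 c8
  rw [(zOf_apply f y).1] at c9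
  have hy : (y : K) ≠ 0 := y.ne_zero
  have hfy : f (y : K) ≠ 0 := fun e0 => hy ((map_eq_zero f).1 e0)
  have h7 : ((certFullG2.tchar (zOf f y) 7 : Kˣ) : K) = f (wt f y : K) := by
    rw [wt_val f, c7, map_div₀, map_pow, map_pow, ff_cube f hf hK]
    simp only [Units.val_mul, Units.val_inv_eq_inv_val, Units.coe_map, MonoidHom.coe_coe]
    rw [sq, div_eq_mul_inv]
  have h8 : ((certFullG2.tchar (zOf f y) 8 : Kˣ) : K) = f (wt f y : K) * (wt f y : K) := by
    rw [← h7, wt_val f, c7, c8]
    simp only [Units.val_mul, Units.val_inv_eq_inv_val, Units.coe_map, MonoidHom.coe_coe]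
    field_simp
  have h9 : ((certFullG2.tchar (zOf f y) 9 : Kˣ) : K) =
      f (wt f y : K) ^ 2 * (wt f y : K) := by
    rw [← h7, wt_val f, c7, c9]
    simp only [Units.val_mul, Units.val_inv_eq_inv_val, Units.coe_map, MonoidHom.coe_coe]
    field_simp
  rw [h7, h8, h9, show ((certFullG2.tchar (zOf f y) 6 : Kˣ) : K) = (wt f y : K) from rfl]
  ring_nf

/-- The parameter carrying the unit to `t`. -/
noncomputable def gpar (t : Kˣ) : Kˣ := Units.map (f : K →* K) t ^ 3 * t ^ 2

omit [ExpChar K 3] [CharP K 3] [Fintype K] hf hK in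
theorem gpar_val (t : Kˣ) : (gpar f t : K) = f t ^ 3 * (t : K) ^ 2 := by
  simp [gpar]

omit [ExpChar K 3] [CharP K 3] in
theorem wt_gpar (t : Kˣ) : (wt f (gpar f t) : K) = t := by
  rw [wt_val f, gpar_val]
  simp only [map_mul, map_pow, ff_cube f hf hK]
  have ht : (t : K) ≠ 0 := t.ne_zero
  have hft : f (t : K) ≠ 0 := fun e0 => ht ((map_eq_zero f).1 e0)
  field_simp

omit [ExpChar K 3] [CharP K 3] in
theorem wu_gpar (t : Kˣ) : (wu f (gpar f t) : K) = f t ^ 3 * t := by
  rw [wu_val f, gpar_val]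
  simp only [map_mul, map_pow, ff_cube f hf hK]
  have ht : (t : K) ≠ 0 := t.ne_zero
  have hft : f (t : K) ≠ 0 := fun e0 => ht ((map_eq_zero f).1 e0)
  field_simp

/-! ### Field automorphisms -/

omit [ExpChar K 3] [CharP K 3] [Fintype K] hK in
theorem map_comm (σ : K →+* K) (t : K) : σ (f t) = f (σ t) := by rw [hf, hf, map_pow]

omit [ExpChar K 3] [CharP K 3] [Fintype K] hf hK in
theorem group_map_le (σ : K →+* K) :
    (twistedG2 K (3 ^ m)).map (Matrix.GeneralLinearGroup.map (n := chevG2.Idx) σ) ≤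
      twistedG2 K (3 ^ m) := by
  rw [twistedG2, ChevalleyDatum.genSubgroup, MonoidHom.map_closure]
  refine Subgroup.closure_mono ?_
  rintro _ ⟨g, ⟨w, ⟨t, u, v, hw⟩, hg⟩, rfl⟩
  refine ⟨w.map fun p => (p.1, σ p.2), ⟨σ t, σ u, σ v, ?_⟩, ?_⟩
  · rcases hw with rfl | rfl
    · left; simp [reeWordU]
    · right; simp [reeWordU, reeWordV, ChevalleyDatum.negWord]
  · show ((g : Matrix chevG2.Idx chevG2.Idx K).map σ) = _
    rw [hg, ChevalleyDatum.wordMat, ChevalleyDatum.wordMat]
    refine ((RingHom.mapMatrix (m := chevG2.Idx) σ).map_list_prod _).trans ?_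
    rw [List.map_map, List.map_map]
    congr 1
    exact List.map_congr_left fun p _ => x_mapHom σ p.1 p.2

omit [ExpChar K 3] [CharP K 3] [Fintype K] hf hK in
/-- The homomorphism induced by a field endomorphism. -/
noncomputable def fieldHomG (m : ℕ) (σ : K →+* K) :
    ↥(twistedG2 K (3 ^ m)) →* ↥(twistedG2 K (3 ^ m)) :=
  ((Matrix.GeneralLinearGroup.map (n := chevG2.Idx) σ).comp (twistedG2 K (3 ^ m)).subtype).codRestrict
    (twistedG2 K (3 ^ m)) fun g => group_map_le σ ⟨g, g.2, rfl⟩

omit [ExpChar K 3] [CharP K 3] hf hK in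
theorem fieldHomG_injective (σ : K →+* K) : Function.Injective (fieldHomG m σ) := by
  intro g h e
  refine Subtype.ext (Units.ext ?_)
  ext i j
  refine σ.injective ?_
  have e2 := congrArg (fun u : ↥(twistedG2 K (3 ^ m)) =>
    ((u : GL chevG2.Idx K) : Matrix chevG2.Idx chevG2.Idx K) i j) e
  exact e2

omit [ExpChar K 3] [CharP K 3] hf hK in
/-- The automorphism induced by a field automorphism. -/
noncomputable def fieldAutG (m : ℕ) (σ : K ≃+* K) : MulAut ↥(twistedG2 K (3 ^ m)) :=
  MulEquiv.ofBijective (fieldHomG m σ.toRingHom)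
    (Finite.injective_iff_bijective.1 (fieldHomG_injective σ.toRingHom))

theorem fieldAutG_uW (σ : K ≃+* K) (t u v : K) :
    fieldAutG m σ (uW f hf hK (t, u, v)) = uW f hf hK (σ t, σ u, σ v) := by
  refine Subtype.ext ?_
  show Matrix.GeneralLinearGroup.map σ.toRingHom
      ((reeWordU (3 ^ m) t u v).map fun p => certFullG2.xg p.1 p.2).prod =
    ((reeWordU (3 ^ m) (σ t) (σ u) (σ v)).map fun p => certFullG2.xg p.1 p.2).prod
  rw [map_list_prod, List.map_map]
  simp [reeWordU, certFullG2.xg_mapHom]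

theorem fieldAutG_hP (σ : K ≃+* K) (y : Kˣ) :
    fieldAutG m σ (hP f hf hK y) = hP f hf hK (Units.map σ.toRingHom.toMonoidHom y) := by
  refine Subtype.ext ?_
  show Matrix.GeneralLinearGroup.map σ.toRingHom (certFullG2.torus (zOf f y)) =
    certFullG2.torus (zOf f (Units.map σ.toRingHom.toMonoidHom y))
  rw [certFullG2.torus_map]
  congr 1
  funext j
  show Units.map (σ.toRingHom : K →* K)
    (if j = 0 then Units.map (f : K →* K) y else if j = 1 then y else 1) =
    if j = 0 then Units.map (f : K →* K) (Units.map σ.toRingHom.toMonoidHom y)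
      else if j = 1 then Units.map σ.toRingHom.toMonoidHom y else 1
  split_ifs
  · exact Units.ext (map_comm f hf σ.toRingHom y)
  · rfl
  · exact map_one _

end Cfsg.Agent.Lie.Chev.G2
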