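import Cfsg.Agent.Lib.Lie.Chev.TwistG2Triples

/-! The subgroups `U`, `H`, `B` inside a small Ree group, the Bruhat form of an element and the
centralisers of diagonal and unipotent elements. -/

set_option autoImplicit false
set_option maxRecDepth 4000

namespace Cfsg.Agent.Lie.Chev.G2

open Cfsg.Lie Matrix

variable {K : Type*} [Field K]

variable (K) in
/-- The diagonal part. -/
abbrev HH (m : ℕ) : Subgroup ↥(twistedG2 K (3 ^ m)) :=
  (chevG2.diagonalSubgroup K).subgroupOf (twistedG2 K (3 ^ m))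

variable (K) in
/-- The unipotent part. -/
abbrev UU (m : ℕ) : Subgroup ↥(twistedG2 K (3 ^ m)) :=
  (chevG2.posUnipotent K).subgroupOf (twistedG2 K (3 ^ m))

variable (K) in
/-- The Borel part. -/
abbrev BB (m : ℕ) : Subgroup ↥(twistedG2 K (3 ^ m)) :=
  (chevG2.borelSubgroup K).subgroupOf (twistedG2 K (3 ^ m))

variable (f : K →+* K) [CharP K 3] [ExpChar K 3]
variable [Fintype K] {m : ℕ} (hf : ∀ t, f t = t ^ 3 ^ m) (hK : Fintype.card K = 3 ^ (2 * m + 1))

omit [ExpChar K 3] [Fintype K] [CharP K 3] in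
theorem HH_le_BB : HH K m ≤ BB K m := fun _ h => certFullG2.H_le_B h

omit [ExpChar K 3] [Fintype K] [CharP K 3] in
theorem UU_le_BB : UU K m ≤ BB K m := fun _ h => Subgroup.mem_sup_left h

include hf hK

/-- A unipotent element by its three coordinates. -/
noncomputable def uW (x : K × K × K) : ↥(twistedG2 K (3 ^ m)) :=
  ⟨((reeWordU (3 ^ m) x.1 x.2.1 x.2.2).map fun p => certFullG2.xg p.1 p.2).prod,
    ((mem_U_iff f hf hK _).2
      ⟨x.1, x.2.1, x.2.2, by simp [reeWordU, ChevalleyDatum.wordMat]⟩).2⟩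

/-- A diagonal element by its parameter. -/
noncomputable def hP : Kˣ →* ↥(twistedG2 K (3 ^ m)) :=
  (param f).codRestrict _ (param_mem f hf hK)

/-- The representative of the long element. -/
noncomputable def nn : ↥(twistedG2 K (3 ^ m)) := ⟨longN f hf hK, (longN_spec f hf hK).1⟩

/-- The involution of the diagonal part. -/
noncomputable def iota : ↥(twistedG2 K (3 ^ m)) := hP f hf hK (-1)

theorem mem_UU_iff {g : ↥(twistedG2 K (3 ^ m))} : g ∈ UU K m ↔ ∃ x, uW f hf hK x = g := by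
  constructor
  · intro hg
    obtain ⟨t, u, v, e⟩ := (mem_U_iff f hf hK _).1 ⟨hg, g.2⟩
    exact ⟨(t, u, v), Subtype.ext (eq_wordProd certFullG2 e).symm⟩
  · rintro ⟨x, rfl⟩
    exact ((mem_U_iff f hf hK _).2
      ⟨x.1, x.2.1, x.2.2, by simp [uW, reeWordU, ChevalleyDatum.wordMat]⟩).1

theorem card_UU : Nat.card ↥(UU K m) = (3 ^ (2 * m + 1)) ^ 3 := by
  rw [← card_U f hf hK, ← Nat.card_congr (Subgroup.subgroupOfEquivOfLe
      (inf_le_right : chevG2.posUnipotent K ⊓ twistedG2 K (3 ^ m) ≤ _)).toEquiv,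
    Subgroup.inf_subgroupOf_right]

theorem card_HH : Nat.card ↥(HH K m) = 3 ^ (2 * m + 1) - 1 := by
  rw [← card_diag f hf hK, ← Nat.card_congr (Subgroup.subgroupOfEquivOfLe
      (inf_le_right : chevG2.diagonalSubgroup K ⊓ twistedG2 K (3 ^ m) ≤ _)).toEquiv,
    Subgroup.inf_subgroupOf_right]

theorem uW_injective : Function.Injective (uW f hf hK) := by
  let φ : K × K × K → ↥(UU K m) := fun x => ⟨uW f hf hK x, (mem_UU_iff f hf hK).2 ⟨x, rfl⟩⟩
  have hb : Function.Bijective φ := by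
    refine (Nat.bijective_iff_surjective_and_card φ).2 ⟨fun g => ?_, ?_⟩
    · obtain ⟨x, hx⟩ := (mem_UU_iff f hf hK).1 g.2
      exact ⟨x, Subtype.ext hx⟩
    · rw [Nat.card_prod, Nat.card_prod, card_UU f hf hK, natCard f hf hK]
      ring
  exact fun x y e => hb.1 (Subtype.ext e)

theorem uW_zero : uW f hf hK 0 = 1 := Subtype.ext (by
  show _ = (1 : GL chevG2.Idx K)
  simp [uW, word_eq f hf, certFullG2.xg_zero])

theorem hP_injective : Function.Injective (hP f hf hK) := fun x y e => by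
  have h1 := torus_inj (K := K) (congrArg Subtype.val e) 1 (by omega)
  rwa [(zOf_apply f x).2, (zOf_apply f y).2] at h1

theorem mem_HH_iff {g : ↥(twistedG2 K (3 ^ m))} : g ∈ HH K m ↔ ∃ x, hP f hf hK x = g := by
  constructor
  · intro hg
    obtain ⟨x, hx⟩ := exists_param f hf hK ⟨hg, le_fix f hf hK g.2⟩
    exact ⟨x, Subtype.ext hx⟩
  · rintro ⟨x, rfl⟩
    exact certFullG2.torus_mem _

theorem hP_mem (x : Kˣ) : hP f hf hK x ∈ HH K m := (mem_HH_iff f hf hK).2 ⟨x, rfl⟩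

theorem iota_mem : iota f hf hK ∈ HH K m := hP_mem f hf hK _

theorem iota_ne_one : iota f hf hK ≠ 1 := by
  intro e
  have h := hP_injective f hf hK (e.trans (map_one _).symm)
  rw [Units.ext_iff, Units.val_neg, Units.val_one] at h
  have h3 : (3 : K) = 0 := three_eq_zero
  exact one_ne_zero (α := K) (by linear_combination h3 + h)

theorem iota_sq : iota f hf hK * iota f hf hK = 1 := by
  rw [iota, ← map_mul, neg_one_mul, neg_neg, map_one]

/-- The diagonal elements of square one. -/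
theorem eq_or_of_sq {g : ↥(twistedG2 K (3 ^ m))} (hg : g ∈ HH K m) (h2 : g * g = 1) :
    g = 1 ∨ g = iota f hf hK := by
  obtain ⟨x, rfl⟩ := (mem_HH_iff f hf hK).1 hg
  rw [← map_mul] at h2
  have hx := hP_injective f hf hK (h2.trans (map_one _).symm)
  rcases mul_self_eq_one_iff.1 (show (x : K) * x = 1 by
    rw [← Units.val_mul, hx, Units.val_one]) with e | e
  · left
    rw [show x = 1 from Units.ext e, map_one]
  · right
    rw [iota, show x = -1 from Units.ext (e.trans (by simp))]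

theorem mem_BB_iff {g : ↥(twistedG2 K (3 ^ m))} :
    g ∈ BB K m ↔ ∃ u ∈ UU K m, ∃ h ∈ HH K m, g = u * h := by
  constructor
  · intro hg
    obtain ⟨u, hu, a, ha, e⟩ := (tw f).borel_fix ⟨hg, le_fix f hf hK g.2⟩
    have huG : u ∈ twistedG2 K (3 ^ m) := (datum f hf hK).U_fix_le hu
    have haG : a ∈ twistedG2 K (3 ^ m) := H_le f hf hK ha
    exact ⟨⟨u, huG⟩, hu.1, ⟨a, haG⟩, ha.1, Subtype.ext e⟩
  · rintro ⟨u, hu, h, hh, rfl⟩
    exact mul_mem (UU_le_BB hu) (HH_le_BB hh)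

theorem UU_inf_HH {g : ↥(twistedG2 K (3 ^ m))} (h1 : g ∈ UU K m) (h2 : g ∈ HH K m) : g = 1 :=
  Subtype.ext (Subgroup.mem_bot.1 (certFullG2.U_inf_H.le ⟨h1, h2⟩))

theorem HH_conj_UU {h u : ↥(twistedG2 K (3 ^ m))} (hh : h ∈ HH K m) (hu : u ∈ UU K m) :
    h * u * h⁻¹ ∈ UU K m :=
  ((Subgroup.mem_normalizer_iff.1 (certFullG2.H_le_normalizer_U hh)) _).1 hu

theorem BB_conj_UU {b u : ↥(twistedG2 K (3 ^ m))} (hb : b ∈ BB K m) (hu : u ∈ UU K m) :
    b * u * b⁻¹ ∈ UU K m := by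
  obtain ⟨v, hv, h, hh, rfl⟩ := (mem_BB_iff f hf hK).1 hb
  rw [show v * h * u * (v * h)⁻¹ = v * (h * u * h⁻¹) * v⁻¹ by group]
  exact mul_mem (mul_mem hv (HH_conj_UU f hf hK hh hu)) (inv_mem hv)

theorem HH_comm {g h : ↥(twistedG2 K (3 ^ m))} (hg : g ∈ HH K m) (hh : h ∈ HH K m) :
    g * h = h * g := by
  obtain ⟨x, rfl⟩ := (mem_HH_iff f hf hK).1 hg
  obtain ⟨y, rfl⟩ := (mem_HH_iff f hf hK).1 hh
  rw [← map_mul, ← map_mul, mul_comm]

/-- The decomposition of an element outside `B`. -/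
theorem exists_big {g : ↥(twistedG2 K (3 ^ m))} (hg : g ∉ BB K m) :
    ∃ b ∈ BB K m, ∃ u ∈ UU K m, g = b * nn f hf hK * u := by
  obtain ⟨b, u, hb, hu, e⟩ := exists_pair_move f hf hK (a := 1) (b := g)
    (fun h => hg (by rw [inv_one, one_mul] at h; exact h.1))
  refine ⟨b, hb.1, u, hu, ?_⟩
  rw [inv_one, one_mul] at e
  exact e

theorem nn_not_mem : nn f hf hK ∉ BB K m := longN_not_mem f hf hK

theorem big_not_mem {b u : ↥(twistedG2 K (3 ^ m))} (hb : b ∈ BB K m) (hu : u ∈ UU K m) :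
    b * nn f hf hK * u ∉ BB K m := fun h => nn_not_mem f hf hK <| by
  have := mul_mem (mul_mem (inv_mem hb) h) (inv_mem (UU_le_BB hu))
  rwa [show b⁻¹ * (b * nn f hf hK * u) * u⁻¹ = nn f hf hK by group] at this

theorem big_inj {b b' u u' : ↥(twistedG2 K (3 ^ m))} (hb : b ∈ BB K m) (hb' : b' ∈ BB K m)
    (hu : u ∈ UU K m) (hu' : u' ∈ UU K m)
    (e : b * nn f hf hK * u = b' * nn f hf hK * u') : b = b' ∧ u = u' := by
  have h1 : nn f hf hK * (u * u'⁻¹) * (nn f hf hK)⁻¹ = b⁻¹ * b' := by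
    rw [show u = (b * nn f hf hK)⁻¹ * (b * nn f hf hK * u) by group, e]
    group
  have hB : (b⁻¹ * b' : ↥(twistedG2 K (3 ^ m))) ∈ BB K m := mul_mem (inv_mem hb) hb'
  rw [← h1] at hB
  have h2 := certFullG2.borel_inf_negUnipotent.1.le
    ⟨hB, (longN_spec f hf hK).2.2 _ (mul_mem hu (inv_mem hu') : u * u'⁻¹ ∈ UU K m)⟩
  rw [Subgroup.mem_bot] at h2
  have h3 : nn f hf hK * (u * u'⁻¹) * (nn f hf hK)⁻¹ = 1 := Subtype.ext h2
  rw [conj_eq_one_iff, mul_inv_eq_one] at h3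
  refine ⟨?_, h3⟩
  rw [h3] at e
  exact mul_right_cancel (mul_right_cancel e)

omit hf hK [Fintype K] [CharP K 3] [ExpChar K 3] in
theorem wd_values : flatW orbitsG2 (twistG2Reps.get 1).word = [0, 1, 0, 1, 0, 1] ∧
    certFullG2.T.wlT [0, 1, 0, 1, 0, 1] 11 = 0 ∧ chevG2.neg 11 = 0 ∧
    certFullG2.T.checkWordMod 3
      (certFullG2.nwWord ([0, 1, 0, 1, 0, 1] ++ [0, 1, 0, 1, 0, 1])) [] = true := by
  decide +kernel

theorem nn_val : (nn f hf hK : GL chevG2.Idx K) = certFullG2.nw K [0, 1, 0, 1, 0, 1] := by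
  show certFullG2.nw K (flatW orbitsG2 (twistG2Reps.get 1).word) = _
  rw [wd_values.1]

/-- The long element inverts the diagonal part. -/
theorem nn_conj_HH {h : ↥(twistedG2 K (3 ^ m))} (hh : h ∈ HH K m) :
    nn f hf hK * h * (nn f hf hK)⁻¹ = h⁻¹ := by
  obtain ⟨x, rfl⟩ := (mem_HH_iff f hf hK).1 hh
  obtain ⟨-, w11, neg11, -⟩ := wd_values
  have hL : ∀ p ∈ [0, 1, 0, 1, 0, 1], p < chevG2.rank := by rw [node_values.2.2.1]; simp
  have hn := (longN_spec f hf hK).2.1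
  have hmem : nn f hf hK * hP f hf hK x * (nn f hf hK)⁻¹ ∈ HH K m :=
    certFullG2.N_conj_H hn (hP_mem f hf hK x)
  obtain ⟨y, hy⟩ := (mem_HH_iff f hf hK).1 hmem
  suffices h : y = x⁻¹ by rw [← hy, h, map_inv]
  have hwl : certFullG2.wl [0, 1, 0, 1, 0, 1] 11 = 0 := by rw [← certFullG2.wlT_eq]; exact w11
  set N := certFullG2.nw K [0, 1, 0, 1, 0, 1] with hN
  set s : K := (certFullG2.wsign [0, 1, 0, 1, 0, 1] 11 : K) with hs
  have hs0 : s ≠ 0 := fun e => by
    have := certFullG2.wsign_sq (F := K) [0, 1, 0, 1, 0, 1] 11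
    rw [← hs, e, mul_zero] at this
    exact zero_ne_one this
  have hNx : ∀ t : K, N * certFullG2.xg 11 t * N⁻¹ = certFullG2.xg 0 (s * t) := fun t => by
    rw [certFullG2.nw_mul_xg hL (show 11 < 12 by omega), hwl, mul_inv_cancel_right]
  have e1 : certFullG2.torus (zOf f y) = N * certFullG2.torus (zOf f x) * N⁻¹ := by
    have h := congrArg Subtype.val hy
    simp only [Subgroup.coe_mul, Subgroup.coe_inv, nn_val] at h
    exact h
  have e2 : certFullG2.torus (zOf f y) * certFullG2.xg 0 (s * 1) *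
      (certFullG2.torus (zOf f y))⁻¹ = N * (certFullG2.torus (zOf f x) * certFullG2.xg 11 1 *
        (certFullG2.torus (zOf f x))⁻¹) * N⁻¹ := by
    rw [← hNx, e1]
    group
  rw [certFullG2.torus_conj_xg _ (show 0 < 12 by omega),
    certFullG2.torus_conj_xg _ (show 11 < 12 by omega), hNx,
    mul_one, mul_one] at e2
  replace e2 := certFullG2.xg_inj (show 0 < 12 by omega) e2
  have e3 : certFullG2.tchar (zOf f y) 0 = certFullG2.tchar (zOf f x) 11 := by
    rw [mul_comm s] at e2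
    exact Units.ext (mul_right_cancel₀ hs0 e2)
  have ey : certFullG2.tchar (zOf f y) 11 = y := (tchar_values _).2.2.2.2.2.trans (zOf_apply f y).2
  have ex : certFullG2.tchar (zOf f x) 11 = x := (tchar_values _).2.2.2.2.2.trans (zOf_apply f x).2
  have e0 : certFullG2.tchar (zOf f y) 0 = y⁻¹ :=
    ((congrArg _ neg11.symm).trans (certFullG2.tchar_neg _ (show 11 < 12 by omega))).trans
      (congrArg (·⁻¹) ey)
  rw [e0, ex] at e3
  rw [← e3, inv_inv]

theorem nn_inv_conj_HH {h : ↥(twistedG2 K (3 ^ m))} (hh : h ∈ HH K m) :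
    (nn f hf hK)⁻¹ * h * nn f hf hK = h⁻¹ := by
  have e := nn_conj_HH f hf hK (inv_mem hh)
  rw [inv_inv] at e
  nth_rw 1 [← e]
  group

theorem nn_sq : nn f hf hK * nn f hf hK = 1 := by
  refine Subtype.ext ?_
  rw [Subgroup.coe_mul, nn_val, ← certFullG2.nw_append,
    certFullG2.nw_eq_word (by rw [node_values.2.2.1]; simp),
    certFullG2.word_eq_of_checkWordMod (F := K) (p := 3) wd_values.2.2.2]
  rfl

/-- Centralisers of non-trivial unipotent elements lie in the Borel part. -/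
theorem centralizer_UU_le {y : ↥(twistedG2 K (3 ^ m))} (hy : y ∈ UU K m) (h1 : y ≠ 1) :
    Subgroup.centralizer {y} ≤ BB K m := by
  intro g hg
  refine U_inf_conj f hf hK g.2 (y := (y : GL chevG2.Idx K)) ⟨hy, y.2⟩ ?_
    fun e => h1 (Subtype.ext e)
  show ((g * y * g⁻¹ : ↥(twistedG2 K (3 ^ m))) : GL chevG2.Idx K) ∈ _
  rw [Subgroup.mem_centralizer_singleton_iff.1 hg, mul_inv_cancel_right]
  exact hy

theorem conj_mem_UU {g y : ↥(twistedG2 K (3 ^ m))} (hy : y ∈ UU K m) (h1 : y ≠ 1)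
    (hgy : g * y * g⁻¹ ∈ UU K m) : g ∈ BB K m :=
  U_inf_conj f hf hK g.2 (y := (y : GL chevG2.Idx K)) ⟨hy, y.2⟩
    (by simpa using Subgroup.mem_subgroupOf.1 hgy) fun e => h1 (Subtype.ext e)

/-- A diagonal element commuting with a non-trivial unipotent one. -/
theorem eq_or_of_comm_UU {h u : ↥(twistedG2 K (3 ^ m))} (hh : h ∈ HH K m) (hu : u ∈ UU K m)
    (hu1 : u ≠ 1) (hc : h * u = u * h) : h = 1 ∨ h = iota f hf hK := by
  rcases square_fixed f hf hK (h := (h : GL chevG2.Idx K)) ⟨hh, h.2⟩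
    ⟨hu, u.2⟩ (fun e => hu1 (Subtype.ext e)) (congrArg Subtype.val hc) with e | e
  · exact Or.inl (Subtype.ext e)
  · exact Or.inr (Subtype.ext e)

/-- The centraliser of a diagonal element of order above two. -/
theorem centralizer_HH {h : ↥(twistedG2 K (3 ^ m))} (hh : h ∈ HH K m) (h2 : h * h ≠ 1) :
    Subgroup.centralizer {h} = HH K m := by
  have h1 : h ≠ 1 := fun e => h2 (by rw [e, one_mul])
  have hi : h ≠ iota f hf hK := fun e => h2 (by rw [e, iota_sq])
  refine le_antisymm (fun g hg => ?_) fun g hg =>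
    Subgroup.mem_centralizer_singleton_iff.2 (HH_comm f hf hK hg hh)
  rw [Subgroup.mem_centralizer_singleton_iff] at hg
  by_cases hgB : g ∈ BB K m
  · obtain ⟨u, hu, k, hk, rfl⟩ := (mem_BB_iff f hf hK).1 hgB
    suffices u = 1 by rw [this, one_mul]; exact hk
    by_contra hu1
    rcases eq_or_of_comm_UU f hf hK hh hu hu1 (mul_right_cancel (b := k) (by
      rw [mul_assoc h, ← hg, mul_assoc u k, HH_comm f hf hK hk hh, mul_assoc])) with e | e
    · exact h1 e
    · exact hi e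
  · exfalso
    obtain ⟨b, hb, u, hu, rfl⟩ := exists_big f hf hK hgB
    have e : b * h⁻¹ * nn f hf hK * (h⁻¹ * u * h) = h * b * nn f hf hK * u := by
      rw [mul_assoc h, mul_assoc h, ← hg]
      conv_rhs => rw [show b * nn f hf hK * u * h =
        b * (nn f hf hK * h * (nn f hf hK)⁻¹) * nn f hf hK * (h⁻¹ * u * h) by group,
        nn_conj_HH f hf hK hh]
    have hu' : h⁻¹ * u * h ∈ UU K m := by simpa using HH_conj_UU f hf hK (inv_mem hh) hu
    obtain ⟨eb, -⟩ := big_inj f hf hK (mul_mem hb (HH_le_BB (inv_mem hh)))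
      (mul_mem (HH_le_BB hh) hb) hu' hu e
    obtain ⟨v, hv, k, hk, rfl⟩ := (mem_BB_iff f hf hK).1 hb
    refine h2 ?_
    have e2 : v⁻¹ * (h * v * h⁻¹) = k * h⁻¹ * (h * k)⁻¹ := by
      rw [show v⁻¹ * (h * v * h⁻¹) = v⁻¹ * (h * (v * k)) * (h * k)⁻¹ by group, ← eb]
      group
    have e3 : k * h⁻¹ * (h * k)⁻¹ = 1 := UU_inf_HH f hf hK
      (e2 ▸ mul_mem (inv_mem hv) (HH_conj_UU f hf hK hh hv))
      (mul_mem (mul_mem hk (inv_mem hh)) (inv_mem (mul_mem hh hk)))
    rw [mul_inv_eq_one, ← HH_comm f hf hK hk hh] at e3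
    have e4 := mul_left_cancel e3
    rw [inv_eq_iff_mul_eq_one] at e4
    exact e4

end Cfsg.Agent.Lie.Chev.G2
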