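import Mathlib

/-! Elements of prime order `p ∣ q² - q + 1` in seven-dimensional linear groups over the field with
`q` elements: their centralisers and normalisers. -/

set_option autoImplicit false

namespace Cfsg.Agent.Lie.Seven

open Module

variable {F : Type*} [Field F] [Fintype F] {p : ℕ} [hp : Fact p.Prime]

/-- `q` has order six modulo `p`. -/
theorem orderOf_six (hp3 : 3 < p) (hd : p ∣ Fintype.card F ^ 2 - Fintype.card F + 1) :
    orderOf (Fintype.card F : ZMod p) = 6 := by
  set q := Fintype.card F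
  have hle : q ≤ q ^ 2 := Nat.le_self_pow (by norm_num) q
  set z : ZMod p := (q : ZMod p)
  have h : z ^ 2 - z + 1 = 0 := by
    have e : ((q ^ 2 - q + 1 : ℕ) : ZMod p) = 0 := (ZMod.natCast_eq_zero_iff _ _).2 hd
    rwa [Nat.cast_add, Nat.cast_sub hle, Nat.cast_pow, Nat.cast_one] at e
  have hsmall : ∀ k : ℕ, 1 ≤ k → k ≤ 3 → (k : ZMod p) ≠ 0 := fun k h1 h3 e => by
    rw [ZMod.natCast_eq_zero_iff] at e
    have := Nat.le_of_dvd (by omega) e
    omega
  have h3 : z ^ 3 = -1 := by linear_combination (z + 1) * h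
  have hne2 : z ^ 2 ≠ 1 := fun e => by
    have hz : z = 2 := by linear_combination e - h
    rw [hz] at e
    exact hsmall 3 (by omega) le_rfl (by push_cast; linear_combination e)
  have hne3 : z ^ 3 ≠ 1 := fun e => by
    exact hsmall 2 (by omega) (by omega) (by push_cast; linear_combination h3 - e)
  refine orderOf_eq_of_pow_and_pow_div_prime (by norm_num) (by linear_combination (z ^ 3 - 1) * h3)
    fun r hr hr6 => ?_
  have : r = 2 ∨ r = 3 := by
    have := Nat.le_of_dvd (by norm_num) hr6
    interval_cases r <;> first | omega | exact absurd hr (by norm_num)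
  rcases this with rfl | rfl
  · exact hne3
  · exact hne2

theorem six_dvd (hp3 : 3 < p) (hd : p ∣ Fintype.card F ^ 2 - Fintype.card F + 1) {k : ℕ}
    (hk : p ∣ Fintype.card F ^ k - 1) : 6 ∣ k := by
  rw [← orderOf_six (F := F) hp3 hd, orderOf_dvd_iff_pow_eq_one]
  have h1 : 1 ≤ Fintype.card F ^ k := Nat.one_le_pow _ _ Fintype.card_pos
  have e := (ZMod.natCast_eq_zero_iff _ _).2 hk
  rw [Nat.cast_sub h1, Nat.cast_pow, Nat.cast_one, sub_eq_zero] at e
  exact e

variable {V : Type*} [AddCommGroup V] [Module F V] [FiniteDimensional F V]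
variable (hp3 : 3 < p) (hd : p ∣ Fintype.card F ^ 2 - Fintype.card F + 1)
  (T : Module.End F V) (hT : T ^ p = 1)

/-- The fixed-point-free part. -/
noncomputable abbrev moved : Submodule F V := LinearMap.range (T - 1)

omit [Fintype F] [FiniteDimensional F V] in
theorem moved_invariant {v : V} (hv : v ∈ moved T) : T v ∈ moved T := by
  obtain ⟨w, rfl⟩ := hv
  exact ⟨T w, by simp [map_sub]⟩

/-- The restriction to the moved part. -/
noncomputable def restr : Module.End F (moved T) :=
  T.restrict fun _ => moved_invariant T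

/-- The field generated on the moved part. -/
noncomputable abbrev fld : Subalgebra F (Module.End F (moved T)) :=
  Algebra.adjoin F {restr T}

include hp3 hd

omit [FiniteDimensional F V] in
theorem p_ne_zero : (p : F) ≠ 0 := by
  obtain ⟨l, hl⟩ := CharP.exists F
  haveI := hl
  obtain ⟨n, hlp, hcard⟩ := FiniteField.card F l
  intro e
  rw [CharP.cast_eq_zero_iff F l] at e
  obtain rfl := (Nat.prime_dvd_prime_iff_eq hlp hp.out).1 e
  have hq : l ∣ Fintype.card F := hcard ▸ dvd_pow_self l n.ne_zero
  have h1 : l ∣ Fintype.card F ^ 2 - Fintype.card F :=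
    Nat.dvd_sub (dvd_pow hq (by norm_num)) hq
  exact hlp.not_dvd_one ((Nat.dvd_add_right h1).1 hd)

include hT

/-- An invariant subspace without fixed vectors has dimension divisible by six. -/
theorem six_dvd_finrank (U : Submodule F V) (hU : ∀ v ∈ U, T v ∈ U)
    (hfix : ∀ v ∈ U, T v = v → v = 0) : 6 ∣ finrank F U := by
  classical
  haveI : Finite V := Module.finite_of_finite F
  let g : Equiv.Perm U :=
    { toFun := fun v => ⟨T v, hU _ v.2⟩
      invFun := fun v => ⟨(T ^ (p - 1)) v, by
        induction p - 1 with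
        | zero => exact v.2
        | succ i ih => rw [pow_succ', Module.End.mul_apply]; exact hU _ ih⟩
      left_inv := fun v => Subtype.ext (by
        show (T ^ (p - 1)) (T v) = v
        rw [← Module.End.mul_apply, ← pow_succ, Nat.sub_add_cancel hp.out.one_le, hT,
          Module.End.one_apply])
      right_inv := fun v => Subtype.ext (by
        show T ((T ^ (p - 1)) v) = v
        rw [← Module.End.mul_apply, ← pow_succ', Nat.sub_add_cancel hp.out.one_le, hT,
          Module.End.one_apply]) }
  have hg : g ^ p = 1 := by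
    have hpow : ∀ (i : ℕ) (v : U), ((g ^ i) v : V) = (T ^ i) v := by
      intro i
      induction i with
      | zero => intro v; rfl
      | succ i ih =>
        intro v
        rw [pow_succ', pow_succ', Equiv.Perm.mul_apply, Module.End.mul_apply, ← ih]
        rfl
    refine Equiv.ext fun v => Subtype.ext ?_
    rw [hpow, hT]
    rfl
  have hgp : IsPGroup p ↥(Subgroup.zpowers g) := by
    rintro ⟨x, k, rfl⟩
    exact ⟨1, Subtype.ext (by
      show (g ^ k) ^ (p ^ 1) = 1
      rw [pow_one, ← zpow_natCast, ← _root_.zpow_mul, mul_comm, _root_.zpow_mul, zpow_natCast, hg,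
        _root_.one_zpow])⟩
  have hmod := hgp.card_modEq_card_fixedPoints U
  have hone : Nat.card (MulAction.fixedPoints ↥(Subgroup.zpowers g) U) = 1 := by
    rw [Nat.card_eq_one_iff_unique]
    have hall : ∀ v : MulAction.fixedPoints ↥(Subgroup.zpowers g) U, (v : U) = 0 := fun v =>
      Subtype.ext (hfix _ v.1.2 (congrArg Subtype.val (v.2 ⟨g, Subgroup.mem_zpowers g⟩)))
    refine ⟨⟨fun v w => Subtype.ext ((hall v).trans (hall w).symm)⟩, ⟨⟨0, ?_⟩⟩⟩
    rintro ⟨x, k, rfl⟩
    refine Equiv.Perm.zpow_apply_eq_self_of_apply_eq_self ?_ k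
    exact Subtype.ext (map_zero T)
  rw [hone, Module.natCard_eq_pow_finrank (K := F), Nat.card_eq_fintype_card] at hmod
  refine six_dvd hp3 hd ((Nat.modEq_iff_dvd' (Nat.one_le_pow _ _ Fintype.card_pos)).1 hmod.symm)

theorem fixed_in_moved {v : V} (hv : v ∈ moved T) (he : T v = v) : v = 0 := by
  obtain ⟨w, rfl⟩ := hv
  -- summing over the powers kills the range and multiplies a fixed vector by `p`
  set S : Module.End F V := ∑ i ∈ Finset.range p, T ^ i
  have hS0 : S * (T - 1) = 0 := by rw [geom_sum_mul, hT, sub_self]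
  have h1 : ∀ i : ℕ, (T ^ i) ((T - 1) w) = (T - 1) w := by
    intro i
    induction i with
    | zero => rfl
    | succ i ih => rw [pow_succ', Module.End.mul_apply, ih, he]
  have h2 : S ((T - 1) w) = (p : F) • (T - 1) w := by
    simp only [S, LinearMap.sum_apply, h1, Finset.sum_const, Finset.card_range, Nat.cast_smul_eq_nsmul]
  have h3 : S ((T - 1) w) = 0 := by rw [← Module.End.mul_apply, hS0, LinearMap.zero_apply]
  rw [h2, smul_eq_zero] at h3
  exact h3.resolve_left (p_ne_zero (F := F) hp3 hd)

theorem moved_inf_fixed : Disjoint (moved T) (LinearMap.ker (T - 1)) := by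
  rw [Submodule.disjoint_def]
  intro v hv hk
  refine fixed_in_moved hp3 hd T hT hv ?_
  rwa [LinearMap.mem_ker, LinearMap.sub_apply, Module.End.one_apply, sub_eq_zero] at hk

theorem moved_sup_fixed : moved T ⊔ LinearMap.ker (T - 1) = ⊤ :=
  Submodule.eq_top_of_disjoint _ _ ((LinearMap.finrank_range_add_finrank_ker (T - 1)).ge)
    (moved_inf_fixed hp3 hd T hT)

variable (h7 : finrank F V = 7) (hT1 : T ≠ 1)

include h7 hT1

theorem finrank_moved : finrank F (moved T) = 6 := by
  have h6 := six_dvd_finrank hp3 hd T hT (moved T)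
    (fun v => moved_invariant T) (fun v => fixed_in_moved hp3 hd T hT)
  have hne : finrank F (moved T) ≠ 0 := fun e => hT1 <| by
    rw [Submodule.finrank_eq_zero, LinearMap.range_eq_bot] at e
    exact sub_eq_zero.1 e
  have hle := (moved T).finrank_le
  omega

theorem finrank_fixed : finrank F (LinearMap.ker (T - 1)) = 1 := by
  have h := LinearMap.finrank_range_add_finrank_ker (T - 1)
  rw [finrank_moved hp3 hd T hT h7 hT1, h7] at h
  omega

theorem invariant_eq (U : Submodule F (moved T))
    (hU : ∀ v ∈ U, restr T v ∈ U) : U = ⊥ ∨ U = ⊤ := by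
  set U' : Submodule F V := U.map (moved T).subtype with hU'
  have e : finrank F U' = finrank F U := Submodule.finrank_map_subtype_eq _ U
  have h6 := six_dvd_finrank hp3 hd T hT U'
    (by rintro _ ⟨v, hv, rfl⟩; exact ⟨_, hU v hv, rfl⟩)
    (by rintro _ ⟨v, hv, rfl⟩ he; exact fixed_in_moved hp3 hd T hT v.2 he)
  rw [e] at h6
  have hle := U.finrank_le
  rw [finrank_moved hp3 hd T hT h7 hT1] at hle
  rcases (show finrank F U = 0 ∨ finrank F U = 6 by omega) with h | h
  · exact Or.inl (Submodule.finrank_eq_zero.1 h)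
  · exact Or.inr (Submodule.eq_top_of_finrank_eq (h.trans (finrank_moved hp3 hd T hT h7 hT1).symm))

theorem fld_comm {a b : Module.End F (moved T)} (ha : a ∈ fld T)
    (hb : Commute b (restr T)) : Commute b a :=
  Algebra.commute_of_mem_adjoin_singleton_of_commute ha hb

theorem fld_comm' {a b : Module.End F (moved T)} (ha : a ∈ fld T)
    (hb : b ∈ fld T) : Commute a b :=
  (fld_comm hp3 hd T hT h7 hT1 ha
    ((fld_comm hp3 hd T hT h7 hT1 hb (Commute.refl _)).symm)).symm

theorem fld_injective {a : Module.End F (moved T)} (ha : a ∈ fld T)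
    (hne : a ≠ 0) : LinearMap.ker a = ⊥ := by
  refine (invariant_eq hp3 hd T hT h7 hT1 (LinearMap.ker a) fun v hv => ?_).resolve_right
    fun e => hne (LinearMap.ker_eq_top.1 e)
  rw [LinearMap.mem_ker] at hv ⊢
  have hc := fld_comm hp3 hd T hT h7 hT1 ha (Commute.refl _)
  rw [← Module.End.mul_apply, ← hc.eq, Module.End.mul_apply, hv, map_zero]

/-- A commuting endomorphism of the moved part lies in the field. -/
theorem mem_fld_of_commute {b : Module.End F (moved T)}
    (hb : Commute b (restr T)) : b ∈ fld T := by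
  classical
  obtain ⟨v, hv⟩ : ∃ v : moved T, v ≠ 0 := by
    haveI : Nontrivial (moved T) :=
      Module.nontrivial_of_finrank_eq_succ (n := 5) (finrank_moved hp3 hd T hT h7 hT1)
    exact exists_ne 0
  let ev : ↥(Subalgebra.toSubmodule (fld T)) →ₗ[F] moved T :=
    (LinearMap.applyₗ v).comp (Subalgebra.toSubmodule (fld T)).subtype
  have htop : LinearMap.range ev = ⊤ := by
    refine (invariant_eq hp3 hd T hT h7 hT1 (LinearMap.range ev) ?_).resolve_left fun e => hv ?_
    · rintro _ ⟨⟨a, ha⟩, rfl⟩
      exact ⟨⟨restr T * a, (Subalgebra.mem_toSubmodule (fld T)).2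
        (mul_mem (Algebra.self_mem_adjoin_singleton F _) ((Subalgebra.mem_toSubmodule (fld T)).1 ha))⟩, rfl⟩
    · have : v ∈ LinearMap.range ev := ⟨⟨1, (Subalgebra.mem_toSubmodule (fld T)).2 (one_mem _)⟩, rfl⟩
      rwa [e, Submodule.mem_bot] at this
  obtain ⟨⟨a, ha⟩, hav⟩ : b v ∈ LinearMap.range ev := htop ▸ Submodule.mem_top
  suffices b = a by rw [this]; exact ha
  refine LinearMap.ext fun w => ?_
  obtain ⟨⟨c, hc⟩, rfl⟩ : w ∈ LinearMap.range ev := htop ▸ Submodule.mem_top
  show b (c v) = a (c v)
  have hav' : a v = b v := hav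
  rw [← Module.End.mul_apply, (fld_comm hp3 hd T hT h7 hT1 hc hb).eq, Module.End.mul_apply, ← hav',
    ← Module.End.mul_apply, ← (fld_comm' hp3 hd T hT h7 hT1 ha hc).eq, Module.End.mul_apply]

theorem noZeroDivisors : NoZeroDivisors ↥(fld T) := by
  refine ⟨fun {a b} hab => ?_⟩
  by_contra hne
  push Not at hne
  have hab' : (a : Module.End F (moved T)) * b = 0 := congrArg Subtype.val hab
  refine hne.2 (Subtype.ext (LinearMap.ext fun v => ?_))
  have h := fld_injective hp3 hd T hT h7 hT1 a.2 fun e => hne.1 (Subtype.ext e)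
  exact (LinearMap.ker_eq_bot'.1 h) _ (by rw [← Module.End.mul_apply, hab']; rfl)

theorem isDomain : IsDomain ↥(fld T) := by
  haveI := noZeroDivisors hp3 hd T hT h7 hT1
  haveI : Nontrivial (moved T) :=
    Module.nontrivial_of_finrank_eq_succ (n := 5) (finrank_moved hp3 hd T hT h7 hT1)
  exact NoZeroDivisors.to_isDomain ↥(fld T)

section Group

variable {Γ : Type*} [Group Γ] (ρ : Γ →* Module.End F V)

omit [FiniteDimensional F V] hp3 hd hT h7 hT1 in
theorem comm_restr {g : Γ} (hc : Commute (ρ g) T) {v : V} :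
    (T - 1) (ρ g v) = ρ g ((T - 1) v) := by
  simp only [LinearMap.sub_apply, Module.End.one_apply, map_sub]
  rw [← Module.End.mul_apply, ← hc.eq, Module.End.mul_apply]

omit hp3 hd hT h7 hT1 [FiniteDimensional F V] in
theorem end_comm_restr {B : Module.End F V} (hc : Commute B T) {v : V} :
    (T - 1) (B v) = B ((T - 1) v) := by
  simp only [LinearMap.sub_apply, Module.End.one_apply, map_sub]
  rw [← Module.End.mul_apply, ← hc.eq, Module.End.mul_apply]

/-- A commuting endomorphism of order prime to `q - 1` fixes the fixed line. -/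
theorem fix_fixed {B : Module.End F V} (hc : Commute B T) {n : ℕ} (hn : B ^ n = 1)
    (hcop : Nat.Coprime n (Fintype.card F - 1)) {v : V} (hv : v ∈ LinearMap.ker (T - 1)) :
    B v = v := by
  rcases eq_or_ne v 0 with rfl | hv0
  · rw [map_zero]
  have hk : B v ∈ LinearMap.ker (T - 1) := by
    rw [LinearMap.mem_ker] at hv ⊢
    rw [end_comm_restr T hc, hv, map_zero]
  have hw0 : (⟨v, hv⟩ : ↥(LinearMap.ker (T - 1))) ≠ 0 := fun e => hv0 (congrArg Subtype.val e)
  obtain ⟨s, hs⟩ := (finrank_eq_one_iff_of_nonzero' _ hw0).1 (finrank_fixed hp3 hd T hT h7 hT1)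
    ⟨_, hk⟩
  have hs' : s • v = B v := congrArg Subtype.val hs
  have hiter : ∀ i : ℕ, (B ^ i) v = (s ^ i) • v := by
    intro i
    induction i with
    | zero => simp
    | succ i ih =>
      rw [pow_succ', Module.End.mul_apply, ih, map_smul, ← hs', smul_smul, ← pow_succ]
  have h1 : s ^ n = 1 := by
    have := hiter n
    rw [hn, Module.End.one_apply] at this
    exact smul_left_injective F hv0 (this.symm.trans (one_smul F v).symm)
  rcases eq_or_ne s 0 with rfl | hs0
  · rcases Nat.eq_zero_or_pos n with rfl | hn0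
    · rw [Nat.coprime_zero_left] at hcop
      have h2 : Fintype.card F = 2 := by omega
      exfalso
      have h1' : p ∣ Fintype.card F ^ 2 - Fintype.card F + 1 := hd
      rw [h2] at h1'
      have := Nat.le_of_dvd (by norm_num) h1'
      omega
    · rw [zero_pow hn0.ne'] at h1; exact absurd h1 zero_ne_one
  have h2 : s ^ (Fintype.card F - 1) = 1 := FiniteField.pow_card_sub_one_eq_one s hs0
  have hsone : s = 1 := orderOf_eq_one_iff.1 <| Nat.eq_one_of_dvd_coprimes hcop
    (orderOf_dvd_of_pow_eq_one h1) (orderOf_dvd_of_pow_eq_one h2)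
  rw [← hs', hsone, one_smul]

/-- Centralising subgroups of order prime to `q - 1` are cyclic. -/
theorem isCyclic_of_commute [Finite Γ] (hinj : Function.Injective ρ)
    (hc : ∀ g, Commute (ρ g) T)
    (hcop : Nat.Coprime (Nat.card Γ) (Fintype.card F - 1)) : IsCyclic Γ := by
  classical
  letI : CommRing ↥(fld T) :=
    { (inferInstance : Ring ↥(fld T)) with
      mul_comm := fun a b => Subtype.ext (fld_comm' hp3 hd T hT h7 hT1 a.2 b.2).eq }
  haveI : IsDomain ↥(fld T) := isDomain hp3 hd T hT h7 hT1
  have hm : ∀ g, ∀ v ∈ moved T, ρ g v ∈ moved T := by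
    rintro g _ ⟨w, rfl⟩
    exact ⟨ρ g w, comm_restr T ρ (hc g)⟩
  let r : Γ → Module.End F (moved T) := fun g => (ρ g).restrict (hm g)
  have hr : ∀ g, r g ∈ fld T := fun g =>
    mem_fld_of_commute hp3 hd T hT h7 hT1 (LinearMap.ext fun v => Subtype.ext (by
      show ρ g (T v) = T (ρ g v)
      rw [← Module.End.mul_apply, (hc g).eq, Module.End.mul_apply]))
  let χ : Γ →* ↥(fld T) :=
    { toFun := fun g => ⟨r g, hr g⟩
      map_one' := Subtype.ext (LinearMap.ext fun v => Subtype.ext (by
        show ρ 1 (v : V) = v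
        rw [map_one, Module.End.one_apply]))
      map_mul' := fun g h => Subtype.ext (LinearMap.ext fun v => Subtype.ext (by
        show ρ (g * h) (v : V) = ρ g (ρ h v)
        rw [map_mul, Module.End.mul_apply])) }
  refine isCyclic_of_subgroup_isDomain χ fun g h e => hinj (LinearMap.ext fun v => ?_)
  have hv : v ∈ moved T ⊔ LinearMap.ker (T - 1) :=
    (moved_sup_fixed hp3 hd T hT).ge Submodule.mem_top
  obtain ⟨a, ha, b, hb, rfl⟩ := Submodule.mem_sup.1 hv
  have hfix : ∀ g, ρ g b = b := fun g =>
    fix_fixed hp3 hd T hT h7 hT1 (hc g) (n := Nat.card Γ)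
      (by rw [← map_pow, pow_card_eq_one', map_one]) hcop hb
  have e1 : r g ⟨a, ha⟩ = r h ⟨a, ha⟩ :=
    LinearMap.congr_fun (congrArg Subtype.val e) ⟨a, ha⟩
  rw [map_add, map_add, show ρ g a = ρ h a from congrArg Subtype.val e1, hfix, hfix]

omit [FiniteDimensional F V] hp3 hd h7 hT1 hT in
theorem pow_restr (i : ℕ) (W : Submodule F V) (hW : ∀ v ∈ W, T v ∈ W) (v : W) :
    (((T.restrict hW) ^ i) v : V) = (T ^ i) v := by
  induction i with
  | zero => rfl
  | succ i ih =>
    rw [pow_succ', pow_succ', Module.End.mul_apply, Module.End.mul_apply, ← ih]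
    rfl

/-- Conjugation by a normalising element acts as a Frobenius power. -/
theorem exponent_frobenius {G H : Module.End F V} (hGH : G * H = 1) (hHG : H * G = 1) {e : ℕ}
    (hconj : G * T = T ^ e * G) :
    ∃ j, (e : ZMod p) = (Fintype.card F : ZMod p) ^ j ∧
      ∀ B : Module.End F V, Commute B T → Commute B G →
        (∃ n, B ^ n = 1 ∧ Nat.Coprime n (Fintype.card F - 1)) → B ^ Fintype.card F ^ j = B := by
  classical
  haveI := isDomain hp3 hd T hT h7 hT1
  haveI : Finite V := Module.finite_of_finite F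
  set R := restr T
  set A := fld T
  haveI : Finite (Module.End F (moved T)) := Module.finite_of_finite F
  haveI : Finite ↥A := Subtype.finite
  letI : Fintype ↥A := Fintype.ofFinite _
  letI : CommRing ↥A :=
    { (inferInstance : Ring ↥A) with
      mul_comm := fun a b => Subtype.ext (fld_comm' hp3 hd T hT h7 hT1 a.2 b.2).eq }
  set μ : ↥A := ⟨R, Algebra.self_mem_adjoin_singleton F _⟩
  have hinjG : Function.Injective G := Function.LeftInverse.injective (g := H) fun v => by
    rw [← Module.End.mul_apply, hHG, Module.End.one_apply]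
  have hRval : ∀ i v, ((R ^ i) v : V) = (T ^ i) v := fun i v => pow_restr T i _ _ v
  have hGW : ∀ v ∈ moved T, G v ∈ moved T := by
    rintro _ ⟨w, rfl⟩
    have h1 : G ((T - 1) w) = (T ^ e - 1) (G w) := by
      simp only [LinearMap.sub_apply, Module.End.one_apply, map_sub]
      rw [← Module.End.mul_apply, hconj, Module.End.mul_apply]
    rw [h1, ← geom_sum_mul T e]
    obtain ⟨i, hi⟩ : ∃ i, i = ∑ j ∈ Finset.range e, T ^ j := ⟨_, rfl⟩
    rw [← hi]
    have hcm : Commute i (T - 1) := hi ▸ Commute.sum_left _ _ _ fun j _ =>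
      ((Commute.refl T).pow_left j).sub_right (Commute.one_right _)
    rw [hcm.eq, Module.End.mul_apply]
    exact ⟨_, rfl⟩
  let GW := G.restrict hGW
  -- powers of the element
  have hμp : μ ^ p = 1 := Subtype.ext (LinearMap.ext fun v => Subtype.ext (by
    show ((R ^ p) v : V) = v
    rw [hRval, hT, Module.End.one_apply]))
  have hμ1 : μ ≠ 1 := by
    intro hh
    obtain ⟨v, hv⟩ : ∃ v : moved T, v ≠ 0 := by
      haveI : Nontrivial (moved T) :=
        Module.nontrivial_of_finrank_eq_succ (n := 5) (finrank_moved hp3 hd T hT h7 hT1)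
      exact exists_ne 0
    refine hv (Subtype.ext (fixed_in_moved hp3 hd T hT v.2 ?_))
    exact congrArg Subtype.val (LinearMap.congr_fun (congrArg Subtype.val hh) v)
  have hord : orderOf μ = p := orderOf_eq_prime hμp hμ1
  have hfin : IsOfFinOrder μ := isOfFinOrder_iff_pow_eq_one.2 ⟨p, hp.out.pos, hμp⟩
  -- the roots of the minimal polynomial
  set P := minpoly F μ
  have hP : P ≠ 0 := minpoly.ne_zero (IsIntegral.of_finite F μ)
  have hdeg : P.natDegree ≤ 6 := by
    refine (minpoly.natDegree_le μ).trans ?_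
    obtain ⟨v, hv⟩ : ∃ v : moved T, v ≠ 0 := by
      haveI : Nontrivial (moved T) :=
        Module.nontrivial_of_finrank_eq_succ (n := 5) (finrank_moved hp3 hd T hT h7 hT1)
      exact exists_ne 0
    let ev : ↥(Subalgebra.toSubmodule A) →ₗ[F] moved T :=
      (LinearMap.applyₗ v).comp (Subalgebra.toSubmodule A).subtype
    have hinj : Function.Injective ev := (injective_iff_map_eq_zero ev).2 fun a ha => by
      by_contra hne
      have h := fld_injective hp3 hd T hT h7 hT1 a.2 fun e => hne (Subtype.ext e)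
      exact hv (LinearMap.ker_eq_bot'.1 h v ha)
    exact (LinearMap.finrank_le_finrank_of_injective hinj).trans
      (finrank_moved hp3 hd T hT h7 hT1).le
  have hfrob : ∀ (P : Polynomial F) (a : ↥A),
      Polynomial.aeval (a ^ Fintype.card F) P = (Polynomial.aeval a P) ^ Fintype.card F := by
    intro P a
    rw [← Polynomial.expand_aeval, FiniteField.expand_card, map_pow]
  have hroot : ∀ j : ℕ, Polynomial.aeval (μ ^ Fintype.card F ^ j) P = 0 := by
    intro j
    induction j with
    | zero => rw [pow_zero, pow_one]; exact minpoly.aeval F μ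
    | succ j ih => rw [pow_succ, pow_mul, hfrob, ih, zero_pow Fintype.card_ne_zero]
  have key : ∀ Q : Polynomial F,
      GW * ((Polynomial.aeval μ Q : ↥A) : Module.End F (moved T)) =
        ((Polynomial.aeval (μ ^ e) Q : ↥A) : Module.End F (moved T)) * GW := by
    intro Q
    have hsc : GW * R = R ^ e * GW := LinearMap.ext fun v => Subtype.ext (by
      show G (T v) = ((R ^ e) (GW v) : V)
      rw [hRval, ← Module.End.mul_apply, hconj]
      rfl)
    induction Q using Polynomial.induction_on' with
    | add a b ha hb =>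
      rw [map_add, map_add, Subalgebra.coe_add, Subalgebra.coe_add, mul_add, ha, hb, add_mul]
    | monomial k c =>
      rw [Polynomial.aeval_monomial, Polynomial.aeval_monomial, Subalgebra.coe_mul,
        Subalgebra.coe_mul, Subalgebra.coe_algebraMap, SubmonoidClass.coe_pow,
        SubmonoidClass.coe_pow, SubmonoidClass.coe_pow]
      show GW * (algebraMap F _ c * R ^ k) = algebraMap F _ c * (R ^ e) ^ k * GW
      rw [← mul_assoc, ← Algebra.commutes, mul_assoc, mul_assoc]
      congr 1
      exact SemiconjBy.pow_right (show SemiconjBy GW R (R ^ e) from hsc) k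
  have he : Polynomial.aeval (μ ^ e) P = 0 := by
    have h := key P
    rw [minpoly.aeval, ZeroMemClass.coe_zero, mul_zero] at h
    by_contra hne
    have hk := fld_injective hp3 hd T hT h7 hT1 (Polynomial.aeval (μ ^ e) P).2
      fun e' => hne (Subtype.ext e')
    haveI : Nontrivial (moved T) :=
      Module.nontrivial_of_finrank_eq_succ (n := 5) (finrank_moved hp3 hd T hT h7 hT1)
    obtain ⟨v, hv⟩ := exists_ne (0 : moved T)
    have h2 := LinearMap.ker_eq_bot'.1 hk (GW v) (LinearMap.congr_fun h.symm v)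
    exact hv (Subtype.ext (hinjG (show G v = G 0 by rw [map_zero]; exact congrArg Subtype.val h2)))
  -- six distinct roots
  have hdist : ∀ i j : ℕ, i < 6 → j < 6 → μ ^ Fintype.card F ^ i = μ ^ Fintype.card F ^ j → i = j := by
    intro i j hi hj h
    rw [hfin.pow_eq_pow_iff_modEq, hord, ← ZMod.natCast_eq_natCast_iff, Nat.cast_pow, Nat.cast_pow] at h
    have ho := orderOf_six (F := F) hp3 hd
    exact pow_injOn_Iio_orderOf (Set.mem_Iio.2 (ho ▸ hi)) (Set.mem_Iio.2 (ho ▸ hj)) h
  haveI : IsDomain ↥A := isDomain hp3 hd T hT h7 hT1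
  have hsub : (Finset.range 6).image (fun j => μ ^ Fintype.card F ^ j) ⊆
      (P.aroots ↥A).toFinset := by
    intro x hx
    obtain ⟨j, -, rfl⟩ := Finset.mem_image.1 hx
    rw [Multiset.mem_toFinset, Polynomial.mem_aroots]
    exact ⟨hP, hroot j⟩
  have hcard : ((Finset.range 6).image (fun j => μ ^ Fintype.card F ^ j)).card = 6 := by
    rw [Finset.card_image_of_injOn fun i hi j hj h => hdist i j
      (Finset.mem_range.1 hi) (Finset.mem_range.1 hj) h, Finset.card_range]
  have hle : (P.aroots ↥A).toFinset.card ≤ 6 :=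
    (Multiset.toFinset_card_le _).trans ((Polynomial.card_roots' _).trans
      (Polynomial.natDegree_map_le.trans hdeg))
  have heq := Finset.eq_of_subset_of_card_le hsub (hle.trans hcard.ge)
  have hmem : μ ^ e ∈ (P.aroots ↥A).toFinset := by
    rw [Multiset.mem_toFinset, Polynomial.mem_aroots]; exact ⟨hP, he⟩
  rw [← heq] at hmem
  obtain ⟨j, -, hj⟩ := Finset.mem_image.1 hmem
  refine ⟨j, ?_, fun B hB hBG hBn => ?_⟩
  · rw [hfin.pow_eq_pow_iff_modEq, hord, ← ZMod.natCast_eq_natCast_iff, Nat.cast_pow] at hj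
    exact hj.symm
  have hBW : ∀ v ∈ moved T, B v ∈ moved T := by
    rintro _ ⟨w, rfl⟩
    exact ⟨B w, end_comm_restr T hB⟩
  set b := B.restrict hBW
  have hb : b ∈ A := mem_fld_of_commute hp3 hd T hT h7 hT1 (LinearMap.ext fun v => Subtype.ext (by
    show B (T v) = T (B v)
    rw [← Module.End.mul_apply, hB.eq, Module.End.mul_apply]))
  obtain ⟨Q, hQ⟩ : ∃ Q : Polynomial F, Polynomial.aeval R Q = b := by
    have h := hb
    simp only [A, fld, Algebra.adjoin_singleton_eq_range_aeval] at h
    exact h
  set bA : ↥A := ⟨b, hb⟩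
  have hQ' : Polynomial.aeval μ Q = bA := Subtype.ext (by
    rw [← Subalgebra.coe_val, ← Polynomial.aeval_algHom_apply, Subalgebra.coe_val]
    exact hQ)
  have hQe : Polynomial.aeval (μ ^ e) Q = bA := by
    refine Subtype.ext (LinearMap.ext fun v => ?_)
    have hsurj : Function.Surjective GW := LinearMap.injective_iff_surjective.1 fun x y h =>
      Subtype.ext (hinjG (congrArg Subtype.val h))
    obtain ⟨w, rfl⟩ := hsurj v
    have h := LinearMap.congr_fun (key Q) w
    rw [hQ'] at h
    refine h.symm.trans ?_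
    exact Subtype.ext (by
      show G (B w) = B (G w)
      rw [← Module.End.mul_apply, ← hBG.eq, Module.End.mul_apply])
  have hfrobj : ∀ (i : ℕ), Polynomial.aeval (μ ^ Fintype.card F ^ i) Q = bA ^ Fintype.card F ^ i := by
    intro i
    induction i with
    | zero => rw [pow_zero, pow_one, pow_one]; exact hQ'
    | succ i ih => rw [pow_succ, pow_mul, hfrob, ih, ← pow_mul]
  have hpow : bA ^ Fintype.card F ^ j = bA := by rw [← hfrobj, hj]; exact hQe
  refine LinearMap.ext fun v => ?_
  obtain ⟨a, ha, c, hc', rfl⟩ := Submodule.mem_sup.1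
    ((moved_sup_fixed hp3 hd T hT).ge (Submodule.mem_top : v ∈ ⊤))
  obtain ⟨n, hn, hcop⟩ := hBn
  have hfixc := fix_fixed hp3 hd T hT h7 hT1 hB hn hcop hc'
  have hfixpow : ∀ i : ℕ, (B ^ i) c = c := fun i => by
    induction i with
    | zero => rfl
    | succ i ih => rw [pow_succ', Module.End.mul_apply, ih, hfixc]
  have hbpow : ∀ (i : ℕ) (w : moved T), (((b ^ i) w : moved T) : V) = (B ^ i) w := fun i w => by
    induction i with
    | zero => rfl
    | succ i ih =>
      rw [pow_succ', pow_succ', Module.End.mul_apply, Module.End.mul_apply, ← ih]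
      rfl
  have ea : (B ^ Fintype.card F ^ j) a = B a := by
    rw [← hbpow (Fintype.card F ^ j) ⟨a, ha⟩]
    have := congrArg Subtype.val hpow
    simp only [SubmonoidClass.coe_pow] at this
    rw [show b ^ Fintype.card F ^ j = b from this]
    rfl
  rw [map_add, map_add, ea, hfixpow, hfixc]

/-- A power to which the element is conjugate has exponent of order dividing six. -/
theorem exponent_six {G H : Module.End F V} (hGH : G * H = 1) (hHG : H * G = 1) {e : ℕ}
    (hconj : G * T = T ^ e * G) : (e : ZMod p) ^ 6 = 1 := by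
  obtain ⟨j, hj, -⟩ := exponent_frobenius hp3 hd T hT h7 hT1 hGH hHG hconj
  have h6 := pow_orderOf_eq_one (Fintype.card F : ZMod p)
  rw [orderOf_six (F := F) hp3 hd] at h6
  rw [hj, ← pow_mul, mul_comm, pow_mul, h6, one_pow]

end Group

end Cfsg.Agent.Lie.Seven
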