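import Cfsg.Agent.Lib.Lie.Chev.ReeBasic
import Cfsg.Agent.Lib.Lie.Chev.ReeGLSeven

/-! The seven-dimensional representation of a small Ree group on the short root submodule. -/

set_option autoImplicit false
set_option maxRecDepth 4000

namespace Cfsg.Agent.Lie.Chev.G2

open Cfsg.Lie Matrix Module

variable {K : Type*} [Field K] (f : K →+* K) [CharP K 3] [ExpChar K 3]
variable [Fintype K] {m : ℕ} (hf : ∀ t, f t = t ^ 3 ^ m) (hK : Fintype.card K = 3 ^ (2 * m + 1))

include hf hK

theorem exists_rep7 : ∃ η : ↥(twistedG2 K (3 ^ m)) →* Module.End K (Fin 7 → K),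
    Function.Injective η := by
  have hle : twistedG2 K (3 ^ m) ≤ chevG2.group K := fun g hg =>
    ((tw f).mem_fix.1 (le_fix f hf hK hg)).1
  let ρ := CertFull.IsoData.rep1 (F := K) (p := 3) isoG2_ok rfl
  let M : ↥(twistedG2 K (3 ^ m)) →* Matrix (Fin 7) (Fin 7) K :=
    (Units.coeHom (Matrix (Fin isoG2.Il.length) (Fin isoG2.Il.length) K)).comp
      (ρ.comp (Subgroup.inclusion hle))
  refine ⟨(Matrix.toLinAlgEquiv' (R := K) (n := Fin 7)).toAlgHom.toRingHom.toMonoidHom.comp M,
    fun g h e => ?_⟩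
  have e' : M g = M h := (Matrix.toLinAlgEquiv' (R := K) (n := Fin 7)).injective e
  have e'' : ρ (Subgroup.inclusion hle g) = ρ (Subgroup.inclusion hle h) := Units.ext e'
  exact Subgroup.inclusion_injective hle
    (CertFull.IsoData.rep1_injective (F := K) (p := 3) isoG2_ok rfl e'')

end Cfsg.Agent.Lie.Chev.G2
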