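import Cfsg.Agent.Lib.Lie.Chev.ReeFusion
import Cfsg.Agent.Lib.Lie.Chev.ReeRep
import Cfsg.Agent.Lib.Classical.DicksonTorus

/-! The centralisers of the elements of prime order in a small Ree group. -/

set_option autoImplicit false
set_option maxRecDepth 4000

namespace Cfsg.Agent.Lie.Chev.G2

open Cfsg.Lie

section Abstract

variable {G : Type*} [Group G] [Finite G]

/-- A subgroup with the full `p`-part contains a conjugate of every `p`-element. -/
theorem exists_conj_mem_of_full {p : ℕ} [Fact p.Prime] (H : Subgroup G)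
    (hfull : (Nat.card G).factorization p ≤ (Nat.card H).factorization p) {x : G} {k : ℕ}
    (hx : x ^ p ^ k = 1) : ∃ c : G, c * x * c⁻¹ ∈ H := by
  have hp : IsPGroup p ↥(Subgroup.zpowers x) := by
    rintro ⟨y, i, rfl⟩
    exact ⟨k, Subtype.ext (by
      show (x ^ i) ^ p ^ k = 1
      rw [← zpow_natCast, ← _root_.zpow_mul, mul_comm, _root_.zpow_mul, zpow_natCast, hx,
        _root_.one_zpow])⟩
  obtain ⟨P, hP⟩ := hp.exists_le_sylow
  obtain ⟨R, hR⟩ := Sylow.exists_subgroup_card_pow_prime p (G := ↥H)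
    (n := (Nat.card G).factorization p) (((pow_dvd_pow p hfull)).trans (Nat.ordProj_dvd _ _))
  let Q : Sylow p G := Sylow.ofCard (R.map H.subtype) (by
    rw [Subgroup.card_map_of_injective H.subtype_injective, hR])
  obtain ⟨c, hc⟩ := MulAction.exists_smul_eq G P Q
  refine ⟨c, ?_⟩
  have : c * x * c⁻¹ ∈ (Q : Subgroup G) := by
    rw [← hc]; exact ⟨x, hP (Subgroup.mem_zpowers x), rfl⟩
  obtain ⟨y, -, hy⟩ := this
  exact hy ▸ y.2

/-- Every non-trivial element has a power of prime order. -/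
theorem exists_prime_power {x : G} (hx : x ≠ 1) {p : ℕ} (hp : p.Prime) (hd : p ∣ orderOf x) :
    ∃ i : ℕ, orderOf (x ^ i) = p := by
  obtain ⟨j, hj⟩ := hd
  refine ⟨j, ?_⟩
  have hj0 : j ≠ 0 := fun e => by
    rw [e, mul_zero] at hj
    exact (orderOf_pos x).ne' hj
  rw [orderOf_pow' x hj0, hj, Nat.gcd_eq_right (dvd_mul_left j p), Nat.mul_div_cancel _ (by omega)]

theorem card_centralizer_conj_eq (c x : G) :
    Nat.card ↥(Subgroup.centralizer ({c * x * c⁻¹} : Set G)) =
      Nat.card ↥(Subgroup.centralizer ({x} : Set G)) := by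
  have e : Subgroup.centralizer ({c * x * c⁻¹} : Set G) =
      (Subgroup.centralizer ({x} : Set G)).map (MulAut.conj c).toMonoidHom := by
    ext y
    rw [Subgroup.mem_map_equiv, Subgroup.mem_centralizer_singleton_iff,
      Subgroup.mem_centralizer_singleton_iff, MulAut.conj_symm_apply]
    constructor
    · intro h
      calc c⁻¹ * y * c * x = c⁻¹ * (y * (c * x * c⁻¹)) * c := by group
        _ = c⁻¹ * ((c * x * c⁻¹) * y) * c := by rw [h]
        _ = _ := by group
    · intro h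
      calc y * (c * x * c⁻¹) = c * ((c⁻¹ * y * c) * x) * c⁻¹ := by group
        _ = c * (x * (c⁻¹ * y * c)) * c⁻¹ := by rw [h]
        _ = _ := by group
  rw [e]
  exact Subgroup.card_map_of_injective (MulAut.conj c).injective

theorem cyclic_subgroup_unique {α : Type*} [Group α] [Finite α] [IsCyclic α] {H H' : Subgroup α}
    (h : Nat.card ↥H = Nat.card ↥H') : H = H' := by
  classical
  cases nonempty_fintype α
  have key : ∀ L : Subgroup α, Nat.card ↥L = Nat.card ↥H →
      (L : Set α).toFinset = Finset.univ.filter fun a => a ^ Nat.card ↥H = 1 := by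
    intro L hL
    refine Finset.eq_of_subset_of_card_le (fun a ha => ?_) ?_
    · rw [Set.mem_toFinset] at ha
      rw [Finset.mem_filter]
      exact ⟨Finset.mem_univ _, hL ▸ congrArg Subtype.val (pow_card_eq_one' (x := (⟨a, ha⟩ : ↥L)))⟩
    · rw [Set.toFinset_card, ← Nat.card_eq_fintype_card]
      exact (IsCyclic.card_pow_eq_one_le Nat.card_pos).trans (le_of_eq hL.symm)
  exact SetLike.coe_injective (Set.toFinset_inj.1 ((key H rfl).trans (key H' h.symm).symm))

theorem mem_centralizer_comm {x y : G} :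
    y ∈ Subgroup.centralizer ({x} : Set G) ↔ x ∈ Subgroup.centralizer ({y} : Set G) := by
  rw [Subgroup.mem_centralizer_singleton_iff, Subgroup.mem_centralizer_singleton_iff]
  exact eq_comm

theorem conj_mem_centralizer {x y : G} (c : G) (h : y ∈ Subgroup.centralizer ({x} : Set G)) :
    c * y * c⁻¹ ∈ Subgroup.centralizer ({c * x * c⁻¹} : Set G) := by
  rw [Subgroup.mem_centralizer_singleton_iff] at h ⊢
  calc c * y * c⁻¹ * (c * x * c⁻¹) = c * (y * x) * c⁻¹ := by group
    _ = c * (x * y) * c⁻¹ := by rw [h]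
    _ = _ := by group

end Abstract

section Arith

variable (m : ℕ)

theorem q_mod : 3 ^ (2 * m + 1) % 8 = 3 ∧ 3 ^ (2 * m + 1) % 3 = 0 := by
  constructor
  · rw [pow_succ, pow_mul, Nat.mul_mod, Nat.pow_mod]; norm_num
  · rw [pow_succ, Nat.mul_mod_left]

theorem q_large (hm : 1 ≤ m) : 27 ≤ 3 ^ (2 * m + 1) :=
  le_trans (by norm_num) (Nat.pow_le_pow_right (show 0 < 3 by norm_num) (show 3 ≤ 2 * m + 1 by omega))

theorem phi_mul : ((3 ^ (2 * m + 1)) ^ 2 - 3 ^ (2 * m + 1) + 1) * (3 ^ (2 * m + 1) + 1) =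
    (3 ^ (2 * m + 1)) ^ 3 + 1 := by
  have h : 3 ^ (2 * m + 1) ≤ (3 ^ (2 * m + 1)) ^ 2 := Nat.le_self_pow (by norm_num) _
  generalize 3 ^ (2 * m + 1) = q at *
  zify [h]
  ring

theorem not_dvd_three {p : ℕ} (hp : p.Prime) (h3 : p ≠ 3) : ¬ p ∣ 3 ^ (2 * m + 1) := fun h =>
  h3 ((Nat.prime_dvd_prime_iff_eq hp Nat.prime_three).1 (hp.dvd_of_dvd_pow h))

theorem phi_props {p : ℕ} (hp : p.Prime)
    (hd : p ∣ (3 ^ (2 * m + 1)) ^ 2 - 3 ^ (2 * m + 1) + 1) :
    3 < p ∧ ¬ p ∣ 3 ^ (2 * m + 1) - 1 ∧ ¬ p ∣ 3 ^ (2 * m + 1) + 1 := by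
  obtain ⟨h8, h30⟩ := q_mod m
  have hle : 3 ^ (2 * m + 1) ≤ (3 ^ (2 * m + 1)) ^ 2 := Nat.le_self_pow (by norm_num) _
  have hsq : (3 ^ (2 * m + 1)) ^ 2 % 2 = 1 ∧ (3 ^ (2 * m + 1)) ^ 2 % 3 = 0 := by
    constructor
    · rw [Nat.pow_mod, show 3 ^ (2 * m + 1) % 2 = 1 by omega]
    · rw [Nat.pow_mod, h30]
  have h2 : p ≠ 2 := by rintro rfl; omega
  have h3 : p ≠ 3 := by rintro rfl; omega
  have hd' : ((3 : ℤ) ^ (2 * m + 1)) ^ 2 - 3 ^ (2 * m + 1) + 1 ≡ 0 [ZMOD p] := by
    rw [Int.modEq_zero_iff_dvd]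
    have := Int.natCast_dvd_natCast.2 hd
    push_cast [hle] at this
    exact this
  have hgt : 3 < p := by
    have := hp.two_le
    omega
  refine ⟨hgt, fun h => ?_, fun h => ?_⟩
  · have h1 : 1 ≤ 3 ^ (2 * m + 1) := Nat.one_le_pow _ _ (by norm_num)
    have h' := Int.natCast_dvd_natCast.2 h
    push_cast [h1] at h'
    rw [Int.modEq_zero_iff_dvd] at hd'
    have h4 : (p : ℤ) ∣ 1 := by
      have h5 := dvd_sub hd' (h'.mul_left ((3 : ℤ) ^ (2 * m + 1)))
      ring_nf at h5 ⊢
      exact h5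
    exact hp.not_dvd_one (Int.natCast_dvd_natCast.1 h4)
  · have h' := Int.natCast_dvd_natCast.2 h
    push_cast at h'
    rw [Int.modEq_zero_iff_dvd] at hd'
    have h4 : (p : ℤ) ∣ 3 := by
      have h5 := dvd_sub hd' (h'.mul_left ((3 : ℤ) ^ (2 * m + 1) - 2))
      ring_nf at h5 ⊢
      exact h5
    exact h3 ((Nat.prime_dvd_prime_iff_eq hp Nat.prime_three).1 (Int.natCast_dvd_natCast.1 h4))

theorem plus_props {p : ℕ} (hp : p.Prime) (hp2 : p ≠ 2) (hd : p ∣ 3 ^ (2 * m + 1) + 1) :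
    3 < p ∧ ¬ p ∣ 3 ^ (2 * m + 1) - 1 ∧
      ¬ p ∣ (3 ^ (2 * m + 1)) ^ 2 - 3 ^ (2 * m + 1) + 1 := by
  obtain ⟨-, h30⟩ := q_mod m
  have h3 : p ≠ 3 := by rintro rfl; omega
  have := hp.two_le
  refine ⟨by omega, fun h => ?_, fun h => (phi_props m hp h).2.2 hd⟩
  have h5 := Nat.dvd_sub hd h
  have h1 : 1 ≤ 3 ^ (2 * m + 1) := Nat.one_le_pow _ _ (by norm_num)
  rw [show 3 ^ (2 * m + 1) + 1 - (3 ^ (2 * m + 1) - 1) = 2 by omega] at h5
  exact hp2 ((Nat.prime_dvd_prime_iff_eq hp Nat.prime_two).1 h5)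

theorem minus_props {p : ℕ} (hp : p.Prime) (hp2 : p ≠ 2) (hd : p ∣ 3 ^ (2 * m + 1) - 1) :
    3 < p ∧ ¬ p ∣ 3 ^ (2 * m + 1) + 1 ∧
      ¬ p ∣ (3 ^ (2 * m + 1)) ^ 2 - 3 ^ (2 * m + 1) + 1 := by
  obtain ⟨-, h30⟩ := q_mod m
  have h1 : 1 ≤ 3 ^ (2 * m + 1) := Nat.one_le_pow _ _ (by norm_num)
  have h3 : p ≠ 3 := by rintro rfl; omega
  have := hp.two_le
  exact ⟨by omega, fun h => (plus_props m hp hp2 h).2.1 hd, fun h => (phi_props m hp h).2.1 hd⟩

end Arith

variable {K : Type*} [Field K] (f : K →+* K) [CharP K 3] [ExpChar K 3]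
variable [Fintype K] {m : ℕ} (hf : ∀ t, f t = t ^ 3 ^ m) (hK : Fintype.card K = 3 ^ (2 * m + 1))

include hf hK

local notation "G₁" => twistedG2 K (3 ^ m)

theorem card_G : Nat.card ↥G₁ = (3 ^ (2 * m + 1)) ^ 3 * (3 ^ (2 * m + 1) - 1) *
    ((3 ^ (2 * m + 1) + 1) * ((3 ^ (2 * m + 1)) ^ 2 - 3 ^ (2 * m + 1) + 1)) := by
  rw [card_group f hf hK, mul_comm (3 ^ (2 * m + 1) + 1), phi_mul]

theorem prime_cases {p : ℕ} (hp : p.Prime) (hd : p ∣ Nat.card ↥G₁) :
    p = 3 ∨ p ∣ 3 ^ (2 * m + 1) - 1 ∨ p ∣ 3 ^ (2 * m + 1) + 1 ∨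
      p ∣ (3 ^ (2 * m + 1)) ^ 2 - 3 ^ (2 * m + 1) + 1 := by
  rw [card_G f hf hK] at hd
  rcases hp.dvd_mul.1 hd with h | h <;> rcases hp.dvd_mul.1 h with h | h
  · exact Or.inl ((Nat.prime_dvd_prime_iff_eq hp Nat.prime_three).1
      (hp.dvd_of_dvd_pow (hp.dvd_of_dvd_pow h)))
  · exact Or.inr (Or.inl h)
  · exact Or.inr (Or.inr (Or.inl h))
  · exact Or.inr (Or.inr (Or.inr h))

theorem card_BB : Nat.card ↥(BB K m) =
    (3 ^ (2 * m + 1)) ^ 3 * (3 ^ (2 * m + 1) - 1) := by
  let φ : ↥(UU K m) × ↥(HH K m) → ↥(BB K m) := fun p =>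
    ⟨p.1 * p.2, mul_mem (UU_le_BB p.1.2) (HH_le_BB p.2.2)⟩
  have hb : Function.Bijective φ := by
    refine ⟨fun p p' e => ?_, fun g => ?_⟩
    · have e' : (p.1 : ↥G₁) * p.2 = p'.1 * p'.2 := congrArg Subtype.val e
      have h1 : (p'.1 : ↥G₁)⁻¹ * p.1 = p'.2 * (p.2 : ↥G₁)⁻¹ := by
        rw [eq_mul_inv_iff_mul_eq, mul_assoc, e', inv_mul_cancel_left]
      have h2 : (p'.1 : ↥G₁)⁻¹ * p.1 = 1 := UU_inf_HH f hf hK (mul_mem (inv_mem p'.1.2) p.1.2)
        (h1 ▸ mul_mem p'.2.2 (inv_mem p.2.2))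
      rw [inv_mul_eq_one] at h2
      rw [h2] at e'
      exact Prod.ext (Subtype.ext h2.symm) (Subtype.ext (mul_left_cancel e'))
    · obtain ⟨u, hu, h, hh, e⟩ := (mem_BB_iff f hf hK).1 g.2
      exact ⟨(⟨u, hu⟩, ⟨h, hh⟩), Subtype.ext e.symm⟩
  rw [← Nat.card_eq_of_bijective φ hb, Nat.card_prod, card_UU f hf hK, card_HH f hf hK]

/-- An element of 3-power order in the Borel part is unipotent. -/
theorem mem_UU_of_three {g : ↥G₁} (hg : g ∈ BB K m) {k : ℕ} (hk : g ^ 3 ^ k = 1) :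
    g ∈ UU K m := by
  obtain ⟨u, hu, h, hh, rfl⟩ := (mem_BB_iff f hf hK).1 hg
  have hpow : ∀ n : ℕ, ∃ u' ∈ UU K m, (u * h) ^ n = u' * h ^ n := by
    intro n
    induction n with
    | zero => exact ⟨1, one_mem _, by simp⟩
    | succ n ih =>
      obtain ⟨u', hu', e⟩ := ih
      exact ⟨u' * (h ^ n * u * (h ^ n)⁻¹),
        mul_mem hu' (HH_conj_UU f hf hK (pow_mem hh n) hu), by rw [pow_succ, e, pow_succ]; group⟩
  obtain ⟨u', hu', e⟩ := hpow (3 ^ k)
  rw [hk] at e
  have h1 : h ^ 3 ^ k = 1 :=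
    UU_inf_HH f hf hK (eq_inv_of_mul_eq_one_right e.symm ▸ inv_mem hu') (pow_mem hh _)
  have hd : orderOf h ∣ 3 ^ (2 * m + 1) - 1 := card_HH f hf hK ▸ Subgroup.orderOf_dvd_natCard _ hh
  have hq := (q_mod m).2
  have h1' : 1 ≤ 3 ^ (2 * m + 1) := Nat.one_le_pow _ _ (by norm_num)
  have hcop : Nat.Coprime (3 ^ k) (3 ^ (2 * m + 1) - 1) :=
    Nat.Coprime.pow_left _ ((Nat.Prime.coprime_iff_not_dvd Nat.prime_three).2 (by omega))
  have : h = 1 := orderOf_eq_one_iff.1
    (Nat.eq_one_of_dvd_coprimes hcop (orderOf_dvd_of_pow_eq_one h1) hd)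
  rw [this, mul_one]
  exact hu

theorem three_conj {y : ↥G₁} {k : ℕ} (hy : y ^ 3 ^ k = 1) : ∃ c, c * y * c⁻¹ ∈ UU K m := by
  haveI : Fact (Nat.Prime 3) := ⟨Nat.prime_three⟩
  refine exists_conj_mem_of_full (UU K m) ?_ hy
  rw [card_G f hf hK, card_UU f hf hK, ← pow_mul]
  obtain ⟨h8, h30⟩ := q_mod m
  have h1 : 1 ≤ 3 ^ (2 * m + 1) := Nat.one_le_pow _ _ (by norm_num)
  have hne : ¬ 3 ∣ (3 ^ (2 * m + 1) - 1) *
      ((3 ^ (2 * m + 1) + 1) * ((3 ^ (2 * m + 1)) ^ 2 - 3 ^ (2 * m + 1) + 1)) := by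
    intro h
    rcases Nat.prime_three.dvd_mul.1 h with h | h
    · omega
    rcases Nat.prime_three.dvd_mul.1 h with h | h
    · omega
    · exact absurd (phi_props m Nat.prime_three h).1 (lt_irrefl 3)
  rw [mul_assoc ((3 : ℕ) ^ _), Nat.factorization_mul (by positivity) (fun e => hne (by rw [e]; exact dvd_zero _)),
    Finsupp.add_apply, Nat.factorization_eq_zero_of_not_dvd hne, add_zero]

/-- What commutes with a non-trivial 3-element has order dividing the order of the Borel part. -/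
theorem commute_three {x y : ↥G₁} (hxy : x * y = y * x) {k : ℕ} (hy : y ^ 3 ^ k = 1) (hy1 : y ≠ 1) :
    ∃ c, c * x * c⁻¹ ∈ BB K m ∧ c * y * c⁻¹ ∈ UU K m := by
  obtain ⟨c, hc⟩ := three_conj f hf hK hy
  refine ⟨c, centralizer_UU_le f hf hK hc (fun e => hy1 (conj_eq_one_iff.1 e))
    (conj_mem_centralizer c (Subgroup.mem_centralizer_singleton_iff.2 hxy)), hc⟩

theorem orderOf_commute_three {x y : ↥G₁} (hxy : x * y = y * x) (hy : orderOf y = 3) :
    orderOf x ∣ (3 ^ (2 * m + 1)) ^ 3 * (3 ^ (2 * m + 1) - 1) := by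
  have h3 : y ^ 3 ^ 1 = 1 := by rw [pow_one]; exact orderOf_dvd_iff_pow_eq_one.1 (by rw [hy])
  have h1 : y ≠ 1 := fun e => by rw [e, orderOf_one] at hy; omega
  obtain ⟨c, hc, -⟩ := commute_three f hf hK hxy h3 h1
  rw [← card_BB f hf hK, ← orderOf_injective (MulAut.conj c).toMonoidHom (MulAut.conj c).injective x]
  exact Subgroup.orderOf_dvd_natCard _ hc

theorem orderOf_ne_four (x : ↥G₁) : orderOf x ≠ 4 := by
  intro h
  haveI : Fact (Nat.Prime 2) := ⟨Nat.prime_two⟩
  have hp : IsPGroup 2 ↥(Subgroup.zpowers x) :=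
    IsPGroup.of_card (n := 2) (by rw [Nat.card_zpowers, h]; norm_num)
  obtain ⟨S, hS⟩ := hp.exists_le_sylow
  have h2 := orderOf_dvd_of_pow_eq_one (n := 2)
    (show x ^ 2 = 1 by rw [sq]; exact sylow_two_exponent f hf hK S x (hS (Subgroup.mem_zpowers x)))
  rw [h] at h2
  omega

/-- Elements of odd prime order dividing `q - 1`: the centraliser is a torus. -/
theorem minus_centralizer {p : ℕ} (hp : p.Prime) (hp2 : p ≠ 2) (hd : p ∣ 3 ^ (2 * m + 1) - 1)
    {x : ↥G₁} (hx : orderOf x = p) :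
    ∃ c, c * x * c⁻¹ ∈ HH K m ∧ Subgroup.centralizer {c * x * c⁻¹} = HH K m := by
  haveI := Fact.mk hp
  obtain ⟨h3, h1, h2⟩ := minus_props m hp hp2 hd
  obtain ⟨c, hc⟩ := exists_conj_mem_of_full (HH K m) (p := p) (x := x) (k := 1) (by
    rw [card_G f hf hK, card_HH f hf hK]
    have hne : ¬ p ∣ (3 ^ (2 * m + 1)) ^ 3 *
        ((3 ^ (2 * m + 1) + 1) * ((3 ^ (2 * m + 1)) ^ 2 - 3 ^ (2 * m + 1) + 1)) := by
      intro h
      rcases hp.dvd_mul.1 h with h | h
      · exact not_dvd_three m hp (by omega) (hp.dvd_of_dvd_pow h)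
      rcases hp.dvd_mul.1 h with h | h
      · exact h1 h
      · exact h2 h
    have hq : 3 ^ (2 * m + 1) - 1 ≠ 0 := by
      have := Nat.pow_le_pow_right (show 0 < 3 by norm_num) (show 1 ≤ 2 * m + 1 by omega)
      omega
    rw [show ∀ a b c : ℕ, a * b * c = b * (a * c) from fun a b c => by ring,
      Nat.factorization_mul hq (fun e => hne (by rw [e]; exact dvd_zero _)), Finsupp.add_apply,
      Nat.factorization_eq_zero_of_not_dvd hne, add_zero]) (by rw [pow_one, ← hx, pow_orderOf_eq_one])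
  refine ⟨c, hc, centralizer_HH f hf hK hc fun e => ?_⟩
  have ho : orderOf (c * x * c⁻¹) = p := hx ▸ orderOf_injective (MulAut.conj c).toMonoidHom (MulAut.conj c).injective x
  have := Nat.le_of_dvd (by norm_num)
    (orderOf_dvd_of_pow_eq_one (x := c * x * c⁻¹) (n := 2) (by rw [sq, e]))
  omega

theorem minus_card {p : ℕ} (hp : p.Prime) (hp2 : p ≠ 2) (hd : p ∣ 3 ^ (2 * m + 1) - 1)
    {x : ↥G₁} (hx : orderOf x = p) :
    Nat.card ↥(Subgroup.centralizer {x}) = 3 ^ (2 * m + 1) - 1 := by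
  obtain ⟨c, -, hc⟩ := minus_centralizer f hf hK hp hp2 hd hx
  rw [← card_centralizer_conj_eq c x, hc, card_HH f hf hK]

theorem involution_card (hm : 1 ≤ m) {x : ↥G₁} (hx : orderOf x = 2) :
    Nat.card ↥(Subgroup.centralizer {x}) =
      3 ^ (2 * m + 1) * (3 ^ (2 * m + 1) - 1) * (3 ^ (2 * m + 1) + 1) := by
  obtain ⟨c, hc⟩ := exists_conj_iota f hf hK hm (x := x)
    (by rw [← sq, ← hx, pow_orderOf_eq_one]) (fun e => by rw [e, orderOf_one] at hx; omega)
  rw [← card_centralizer_conj_eq c x, hc, card_centralizer_iota f hf hK]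

theorem phi_centralizer_primes (hm : 1 ≤ m) {p : ℕ} (hp : p.Prime)
    (hd : p ∣ (3 ^ (2 * m + 1)) ^ 2 - 3 ^ (2 * m + 1) + 1) {x : ↥G₁} (hx : orderOf x = p)
    {r : ℕ} (hr : r.Prime) (hrd : r ∣ Nat.card ↥(Subgroup.centralizer {x})) :
    r ≠ 2 ∧ r ≠ 3 ∧ ¬ r ∣ 3 ^ (2 * m + 1) - 1 := by
  haveI := Fact.mk hr
  obtain ⟨h3, h1, h2⟩ := phi_props m hp hd
  obtain ⟨z, hz⟩ := exists_prime_orderOf_dvd_card' r hrd
  rw [← Subgroup.orderOf_coe] at hz
  have hxz : x ∈ Subgroup.centralizer {(z : ↥G₁)} := mem_centralizer_comm.1 z.2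
  have hcomm : x * z = z * x := Subgroup.mem_centralizer_singleton_iff.1 hxz
  have hq3 : ¬ p ∣ 3 ^ (2 * m + 1) := not_dvd_three m hp (by omega)
  refine ⟨fun e => ?_, fun e => ?_, fun hdiv => ?_⟩
  · have h := Subgroup.orderOf_dvd_natCard _ hxz
    rw [hx, involution_card f hf hK hm (e ▸ hz)] at h
    rcases hp.dvd_mul.1 h with h | h
    · rcases hp.dvd_mul.1 h with h | h
      · exact hq3 h
      · exact h1 h
    · exact h2 h
  · have h := orderOf_commute_three f hf hK hcomm (e ▸ hz)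
    rw [hx] at h
    rcases hp.dvd_mul.1 h with h | h
    · exact hq3 (hp.dvd_of_dvd_pow h)
    · exact h1 h
  · rcases eq_or_ne r 2 with e | e
    · have h := Subgroup.orderOf_dvd_natCard _ hxz
      rw [hx, involution_card f hf hK hm (e ▸ hz)] at h
      rcases hp.dvd_mul.1 h with h | h
      · rcases hp.dvd_mul.1 h with h | h
        · exact hq3 h
        · exact h1 h
      · exact h2 h
    · have h := Subgroup.orderOf_dvd_natCard _ hxz
      rw [hx, minus_card f hf hK hr e hdiv hz] at h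
      exact h1 h

theorem phi_centralizer_coprime (hm : 1 ≤ m) {p : ℕ} (hp : p.Prime)
    (hd : p ∣ (3 ^ (2 * m + 1)) ^ 2 - 3 ^ (2 * m + 1) + 1) {x : ↥G₁} (hx : orderOf x = p) :
    Nat.Coprime (Nat.card ↥(Subgroup.centralizer {x})) (Fintype.card K - 1) :=
  Nat.coprime_of_dvd fun r hr h1 h2 =>
    (phi_centralizer_primes f hf hK hm hp hd hx hr h1).2.2 (hK ▸ h2)

theorem rep_ne_one {η : ↥G₁ →* Module.End K (Fin 7 → K)} (hη : Function.Injective η) {p : ℕ}
    (hp : p.Prime) {x : ↥G₁} (hx : orderOf x = p) : η x ≠ 1 ∧ η x ^ p = 1 := by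
  refine ⟨fun e => ?_, by rw [← map_pow, ← hx, pow_orderOf_eq_one, map_one]⟩
  have : x = 1 := hη (e.trans (map_one η).symm)
  rw [this, orderOf_one] at hx
  exact hp.ne_one hx.symm

theorem phi_centralizer_cyclic (hm : 1 ≤ m) {p : ℕ} (hp : p.Prime)
    (hd : p ∣ (3 ^ (2 * m + 1)) ^ 2 - 3 ^ (2 * m + 1) + 1) {x : ↥G₁} (hx : orderOf x = p) :
    IsCyclic ↥(Subgroup.centralizer {x}) := by
  haveI := Fact.mk hp
  obtain ⟨η, hη⟩ := exists_rep7 f hf hK
  obtain ⟨h1, hp'⟩ := rep_ne_one f hf hK hη hp hx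
  have h7 : Module.finrank K (Fin 7 → K) = 7 := Module.finrank_fin_fun K
  exact Seven.isCyclic_of_commute (phi_props m hp hd).1 (hK ▸ hd) (η x) hp' h7 h1
    (η.comp (Subgroup.centralizer {x}).subtype) (hη.comp (Subgroup.subtype_injective _))
    (fun g => by
      show η g * η x = η x * η g
      rw [← map_mul, ← map_mul, Subgroup.mem_centralizer_singleton_iff.1 g.2])
    (phi_centralizer_coprime f hf hK hm hp hd hx)

/-- The part of the centraliser of an element of order `p ∣ q + 1` inside an involution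
centraliser. -/
theorem plus_torus {p : ℕ} (hp : p.Prime) (hp2 : p ≠ 2) (hd : p ∣ 3 ^ (2 * m + 1) + 1)
    {x : ↥G₁} (hx : orderOf x = p) (hxa : x ∈ Subgroup.centralizer {iota f hf hK}) :
    Nat.card ↥(Subgroup.centralizer {x} ⊓ Subgroup.centralizer {iota f hf hK}) =
      3 ^ (2 * m + 1) + 1 ∧
    IsMulCommutative ↥(Subgroup.centralizer {x} ⊓ Subgroup.centralizer {iota f hf hK}) := by
  classical
  haveI : Fact (Nat.Prime 3) := ⟨Nat.prime_three⟩
  obtain ⟨h3, h1, -⟩ := plus_props m hp hp2 hd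
  obtain ⟨e⟩ := centralizer_iota_iso f hf hK
  set C := Subgroup.centralizer {iota f hf hK}
  set D := Dickson.pslData (F := K) 3
  set xC : ↥C := ⟨x, hxa⟩
  set y := (e xC).2 with hy
  have hoC : orderOf xC = p := by rw [← Subgroup.orderOf_coe]; exact hx
  have hz : (e xC).1 = 1 := by
    have ha := (orderOf_map_dvd (MonoidHom.fst _ _) (e xC)).trans (dvd_of_eq (e.orderOf_eq xC))
    rw [hoC] at ha
    have hb : orderOf (e xC).1 ∣ 2 := by
      have := orderOf_dvd_natCard (e xC).1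
      rwa [show Nat.card (Multiplicative (ZMod 2)) = 2 from Nat.card_zmod 2] at this
    exact orderOf_eq_one_iff.1 (Nat.eq_one_of_dvd_coprimes
      ((Nat.coprime_primes hp Nat.prime_two).2 hp2) ha hb)
  have hoy : orderOf y = p := by
    have : e xC = (1, y) := Prod.ext hz rfl
    rw [← hoC, ← e.orderOf_eq, this, Prod.orderOf, orderOf_one, Nat.lcm_one_left]
  have hy1 : y ≠ 1 := fun h => by rw [h, orderOf_one] at hoy; exact hp.ne_one hoy.symm
  have hy3 : y ^ 3 ≠ 1 := fun h => by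
    have := Nat.le_of_dvd (by norm_num) (hoy ▸ orderOf_dvd_of_pow_eq_one h)
    omega
  have htor : ∀ g, g * y = y * g ↔ g ∈ Dickson.tor y := by
    intro g
    refine ⟨fun h => ?_, fun h => (D.comm hy1 h (D.self y)).eq⟩
    by_contra hg
    have hconj : g * y * g⁻¹ = y := by rw [h, mul_inv_cancel_right]
    have h2 := ((D.semi_flip hy1 hy3 (by rw [hconj]; exact D.self y) hg).2 y (D.self y)).symm
    rw [hconj, inv_eq_iff_mul_eq_one, ← sq] at h2
    have := Nat.le_of_dvd (by norm_num) (hoy ▸ orderOf_dvd_of_pow_eq_one h2)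
    omega
  have hdel : Dickson.del K = 2 := by
    rw [Dickson.del, hK]
    have := (q_mod m).1
    exact Nat.gcd_eq_left (by omega)
  have hcard : Nat.card ↥(Dickson.tor y) = (3 ^ (2 * m + 1) + 1) / 2 := by
    have hpd : p ∣ Nat.card ↥(Dickson.tor y) := hoy ▸ Subgroup.orderOf_dvd_natCard _ (D.self y)
    rcases Dickson.card_tor_semi 3 hy1 hy3 with h | h <;> rw [hdel, hK] at h
    · rw [h] at hpd
      exact absurd (hpd.trans (Nat.div_dvd_of_dvd (by have := (q_mod m).1; omega))) h1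
    · exact h
  set T := Subgroup.centralizer {x} ⊓ C
  have hT : T.subgroupOf C = ((⊤ : Subgroup (Multiplicative (ZMod 2))).prod (Dickson.tor y)).map
      e.symm.toMonoidHom := by
    ext g
    rw [Subgroup.mem_map_equiv, MulEquiv.symm_symm, Subgroup.mem_prod, Subgroup.mem_subgroupOf,
      ← htor]
    simp only [Subgroup.mem_top, true_and, T, Subgroup.mem_inf, SetLike.coe_mem, and_true,
      Subgroup.mem_centralizer_singleton_iff]
    constructor
    · intro h
      have := congrArg (fun w => (e w).2) (show g * xC = xC * g from Subtype.ext h)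
      simpa using this
    · intro h
      have : g * xC = xC * g := by
        refine e.injective ?_
        rw [map_mul, map_mul]
        exact Prod.ext (mul_comm (e g).1 (e xC).1) h
      exact congrArg Subtype.val this
  have hcomm : IsMulCommutative ↥T := by
    refine ⟨⟨fun a b => Subtype.ext ?_⟩⟩
    have ha : (⟨a, a.2.2⟩ : ↥C) ∈ T.subgroupOf C := a.2
    have hb : (⟨b, b.2.2⟩ : ↥C) ∈ T.subgroupOf C := b.2
    rw [hT, Subgroup.mem_map_equiv, MulEquiv.symm_symm, Subgroup.mem_prod] at ha hb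
    have : (⟨a, a.2.2⟩ : ↥C) * ⟨b, b.2.2⟩ = ⟨b, b.2.2⟩ * ⟨a, a.2.2⟩ := by
      refine e.injective ?_
      rw [map_mul, map_mul]
      exact Prod.ext (mul_comm _ _) (D.comm hy1 ha.2 hb.2).eq
    have h' := congrArg Subtype.val this
    exact h'
  refine ⟨?_, hcomm⟩
  rw [← Nat.card_congr (Subgroup.subgroupOfEquivOfLe (inf_le_right : T ≤ C)).toEquiv, hT,
    Subgroup.card_map_of_injective e.symm.injective, Nat.card_congr (Subgroup.prodEquiv _ _).toEquiv,
    Nat.card_prod, Subgroup.card_top, hcard,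
    show Nat.card (Multiplicative (ZMod 2)) = 2 from Nat.card_zmod 2]
  have := (q_mod m).1
  omega

theorem plus_involution {p : ℕ} (hp : p.Prime) (hp2 : p ≠ 2) (hd : p ∣ 3 ^ (2 * m + 1) + 1)
    {x : ↥G₁} (hx : orderOf x = p) :
    ∃ c, c * x * c⁻¹ ∈ Subgroup.centralizer {iota f hf hK} := by
  haveI := Fact.mk hp
  obtain ⟨h3, h1, h2⟩ := plus_props m hp hp2 hd
  refine exists_conj_mem_of_full _ (p := p) (k := 1) ?_ (by rw [pow_one, ← hx, pow_orderOf_eq_one])
  rw [card_G f hf hK, card_centralizer_iota f hf hK]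
  have hq : ¬ p ∣ 3 ^ (2 * m + 1) := not_dvd_three m hp (by omega)
  have hne : ¬ p ∣ (3 ^ (2 * m + 1)) ^ 3 * (3 ^ (2 * m + 1) - 1) *
      ((3 ^ (2 * m + 1)) ^ 2 - 3 ^ (2 * m + 1) + 1) := by
    intro h
    rcases hp.dvd_mul.1 h with h | h
    · rcases hp.dvd_mul.1 h with h | h
      · exact hq (hp.dvd_of_dvd_pow h)
      · exact h1 h
    · exact h2 h
  have hne' : ¬ p ∣ 3 ^ (2 * m + 1) * (3 ^ (2 * m + 1) - 1) := by
    intro h
    rcases hp.dvd_mul.1 h with h | h
    · exact hq h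
    · exact h1 h
  rw [show ∀ a b c d : ℕ, a * b * (c * d) = c * (a * b * d) from fun a b c d => by ring,
    show ∀ a b : ℕ, a * b * (3 ^ (2 * m + 1) + 1) = (3 ^ (2 * m + 1) + 1) * (a * b)
      from fun a b => mul_comm _ _,
    Nat.factorization_mul (Nat.succ_ne_zero _) (fun e => hne (by rw [e]; exact dvd_zero _)),
    Nat.factorization_mul (Nat.succ_ne_zero _) (fun e => hne' (by rw [e]; exact dvd_zero _)),
    Finsupp.add_apply, Finsupp.add_apply, Nat.factorization_eq_zero_of_not_dvd hne,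
    Nat.factorization_eq_zero_of_not_dvd hne']

/-- The centraliser of an element of order `p ∣ q + 1`, when it centralises the standard
involution. -/
theorem plus_centralizer_aux (hm : 1 ≤ m) {p : ℕ} (hp : p.Prime) (hp2 : p ≠ 2)
    (hd : p ∣ 3 ^ (2 * m + 1) + 1) {x : ↥G₁} (hx : orderOf x = p)
    (hxa : x ∈ Subgroup.centralizer {iota f hf hK}) :
    Subgroup.centralizer {x} ≤ Subgroup.centralizer {iota f hf hK} := by
  classical
  obtain ⟨h3, h1, h2⟩ := plus_props m hp hp2 hd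
  obtain ⟨hTcard, hTcomm⟩ := plus_torus f hf hK hp hp2 hd hx hxa
  set a := iota f hf hK
  set H := Subgroup.centralizer {x} with hH
  set T := Subgroup.centralizer {x} ⊓ Subgroup.centralizer {a}
  have hxH : x ∈ H := Subgroup.mem_centralizer_singleton_iff.2 rfl
  have haH : a ∈ H := mem_centralizer_comm.1 hxa
  have ha2 : orderOf a = 2 := orderOf_eq_prime (by rw [sq]; exact iota_sq f hf hK) (iota_ne_one f hf hK)
  have hq27 := q_large m hm
  obtain ⟨hq8, hq30⟩ := q_mod m
  have hq3 : ¬ p ∣ 3 ^ (2 * m + 1) := not_dvd_three m hp (by omega)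
  -- the primes of the centraliser
  have hprimes : ∀ r : ℕ, r.Prime → r ∣ Nat.card ↥H → r ∣ 3 ^ (2 * m + 1) + 1 := by
    intro r hr hrd
    haveI := Fact.mk hr
    obtain ⟨y, hy⟩ := exists_prime_orderOf_dvd_card' r hrd
    rw [← Subgroup.orderOf_coe] at hy
    have hxy : x ∈ Subgroup.centralizer {(y : ↥G₁)} := mem_centralizer_comm.1 y.2
    have hxcomm : x * y = y * x := Subgroup.mem_centralizer_singleton_iff.1 hxy
    rcases prime_cases f hf hK hr (hy ▸ orderOf_dvd_natCard (y : ↥G₁)) with h | h | h | h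
    · exfalso
      have h' := orderOf_commute_three f hf hK hxcomm (h ▸ hy)
      rw [hx] at h'
      rcases hp.dvd_mul.1 h' with h' | h'
      · exact hq3 (hp.dvd_of_dvd_pow h')
      · exact h1 h'
    · rcases eq_or_ne r 2 with rfl | hr2
      · omega
      · exfalso
        have h' := Subgroup.orderOf_dvd_natCard _ hxy
        rw [hx, minus_card f hf hK hr hr2 h hy] at h'
        exact h1 h'
    · exact h
    · exfalso
      obtain ⟨hr3, -, -⟩ := phi_props m hr h
      set C := Subgroup.centralizer {(y : ↥G₁)}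
      have hCc : IsCyclic ↥C := phi_centralizer_cyclic f hf hK hm hr h hy
      have hCcomm : ∀ z ∈ C, ∀ w ∈ C, z * w = w * z := fun z hz w hw => by
        letI := hCc.commGroup
        exact congrArg Subtype.val (mul_comm (⟨z, hz⟩ : ↥C) ⟨w, hw⟩)
      have hCH : C ≤ H := fun z hz => Subgroup.mem_centralizer_singleton_iff.2 (hCcomm z hz x hxy)
      have hyC : (y : ↥G₁) ∈ C := Subgroup.mem_centralizer_singleton_iff.2 rfl
      obtain ⟨η, hη⟩ := exists_rep7 f hf hK
      obtain ⟨hη1, hηp⟩ := rep_ne_one f hf hK hη hr hy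
      -- only `C` itself normalises `⟨y⟩` inside `H`
      have hnorm : ∀ n ∈ H, n * y * n⁻¹ ∈ Subgroup.zpowers (y : ↥G₁) → n ∈ C := by
        intro n hn hny
        obtain ⟨e, he⟩ : ∃ e : ℕ, (y : ↥G₁) ^ e = n * y * n⁻¹ := by
          rw [← mem_powers_iff_mem_zpowers] at hny
          exact hny
        have hconj : η n * η y = η y ^ e * η n := by
          rw [← map_pow, ← map_mul, ← map_mul, he, inv_mul_cancel_right]
        obtain ⟨j, hj, hB⟩ := Seven.exponent_frobenius hr3 (hK ▸ h) (η y) hηp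
          (Module.finrank_fin_fun K) hη1 (G := η n) (H := η n⁻¹)
          (by rw [← map_mul, mul_inv_cancel, map_one]) (by rw [← map_mul, inv_mul_cancel, map_one])
          hconj
        have hxfix := hB (η x) (by show _ = _; rw [← map_mul, ← map_mul, hxcomm])
          (by show _ = _; rw [← map_mul, ← map_mul, Subgroup.mem_centralizer_singleton_iff.1 hn])
          ⟨p, by rw [← map_pow, ← hx, pow_orderOf_eq_one, map_one],
            hp.coprime_iff_not_dvd.2 (hK ▸ h1)⟩
        rw [← map_pow] at hxfix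
        have hxq : x ^ Fintype.card K ^ j = x ^ 1 := by rw [pow_one]; exact hη hxfix
        rw [pow_eq_pow_iff_modEq, hx, hK, ← ZMod.natCast_eq_natCast_iff] at hxq
        push_cast at hxq
        have hm1 : ((3 : ZMod p)) ^ (2 * m + 1) = -1 := by
          have := (ZMod.natCast_eq_zero_iff _ _).2 hd
          push_cast at this
          exact eq_neg_of_add_eq_zero_left this
        rw [hm1] at hxq
        have hjev : Even j := by
          by_contra hodd
          rw [Nat.not_even_iff_odd] at hodd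
          rw [hodd.neg_one_pow] at hxq
          have hdvd : ((2 : ℕ) : ZMod p) = 0 := by push_cast; linear_combination -hxq
          rw [ZMod.natCast_eq_zero_iff] at hdvd
          exact hp2 ((Nat.prime_dvd_prime_iff_eq hp Nat.prime_two).1 hdvd)
        obtain ⟨j', rfl⟩ := hjev
        have he3 : (e : ZMod r) ^ 3 = 1 := by
          have h6 := pow_orderOf_eq_one (Fintype.card K : ZMod r)
          rw [Seven.orderOf_six (F := K) hr3 (hK ▸ h)] at h6
          rw [hj, ← pow_mul, show (j' + j') * 3 = 6 * j' by ring, pow_mul, h6, one_pow]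
        have hpow : ∀ i : ℕ, n ^ i * y * (n ^ i)⁻¹ = (y : ↥G₁) ^ e ^ i := by
          intro i
          induction i with
          | zero => simp
          | succ i ih =>
            calc n ^ (i + 1) * y * (n ^ (i + 1))⁻¹ = n * (n ^ i * y * (n ^ i)⁻¹) * n⁻¹ := by
                  rw [pow_succ']; group
              _ = (n * y * n⁻¹) ^ e ^ i := by rw [ih, conj_pow]
              _ = _ := by rw [← he, ← pow_mul, pow_succ']
        have h3C : n ^ 3 ∈ C := by
          rw [Subgroup.mem_centralizer_singleton_iff, ← mul_inv_eq_iff_eq_mul, hpow 3]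
          have : e ^ 3 ≡ 1 [MOD r] := by
            rw [← ZMod.natCast_eq_natCast_iff]; push_cast; exact he3
          rw [← hy] at this
          exact (pow_eq_pow_iff_modEq.2 this).trans (pow_one _)
        have hcop3 : Nat.Coprime (orderOf n) 3 := by
          refine (Nat.Prime.coprime_iff_not_dvd Nat.prime_three).2 (fun h' => ?_) |>.symm
          obtain ⟨i, hi⟩ := exists_prime_power (G := ↥G₁)
            (fun e => by rw [e, orderOf_one] at h'; omega) Nat.prime_three h'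
          have hc : x * n ^ i = n ^ i * x :=
            (Subgroup.mem_centralizer_singleton_iff.1 (pow_mem hn i)).symm
          have h'' := orderOf_commute_three f hf hK hc hi
          rw [hx] at h''
          rcases hp.dvd_mul.1 h'' with h'' | h''
          · exact hq3 (hp.dvd_of_dvd_pow h'')
          · exact h1 h''
        obtain ⟨i, hi⟩ := exists_pow_eq_self_of_coprime hcop3.symm
        exact hi ▸ pow_mem h3C i
      -- two disjoint large subsets of `H`
      set S : Set ↥C := {z | r ∣ orderOf z} with hS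
      have hSle : 4 * Nat.card ↥C ≤ 5 * S.ncard := by
        letI : Fintype ↥C := Fintype.ofFinite _
        obtain ⟨i, hi⟩ : r ∣ Nat.card ↥C := hy ▸ Subgroup.orderOf_dvd_natCard _ hyC
        have hcompl : Sᶜ ⊆ {z : ↥C | z ^ i = 1} := by
          intro z hz
          have hz' : orderOf z ∣ r * i := hi ▸ orderOf_dvd_natCard z
          exact orderOf_dvd_iff_pow_eq_one.1
            ((Nat.Coprime.dvd_mul_left ((hr.coprime_iff_not_dvd.2 hz).symm)).1 hz')
        have hpos : 0 < i := Nat.pos_of_ne_zero fun e => by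
          rw [e, mul_zero] at hi; exact Nat.card_pos.ne' hi
        have hle : ({z : ↥C | z ^ i = 1} : Set ↥C).ncard ≤ i := by
          rw [Set.ncard_eq_toFinset_card']
          exact le_trans (le_of_eq (congrArg Finset.card (by ext z; simp))) (IsCyclic.card_pow_eq_one_le hpos)
        have h5 := Set.ncard_le_ncard hcompl (Set.toFinite _)
        have h6 := Set.ncard_add_ncard_compl S
        have hri : 5 * i ≤ r * i := Nat.mul_le_mul_right i (by
          rcases Nat.lt_or_ge r 5 with hlt | hge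
          · interval_cases r; exact absurd hr (by norm_num)
          · exact hge)
        omega
      set k := (3 ^ (2 * m + 1) + 1) / 4 with hk
      set I : Set ↥T := {z | z ^ k = ⟨a, haH, Subgroup.mem_centralizer_singleton_iff.2 rfl⟩}
      have hkodd : Odd k := Nat.odd_iff.2 (by omega)
      have hI : k ≤ I.ncard := by
        letI : CommGroup ↥T := { (inferInstance : Group ↥T) with mul_comm := hTcomm.is_comm.comm }
        let φ : ↥T →* ↥T := powMonoidHom k
        have hrange : Nat.card ↥φ.range ≤ 4 := by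
          have hp2' : IsPGroup 2 ↥φ.range := by
            rintro ⟨w, z, rfl⟩
            refine ⟨2, Subtype.ext ?_⟩
            show (z ^ k) ^ 2 ^ 2 = 1
            rw [← pow_mul, show k * 2 ^ 2 = Nat.card ↥T by rw [hTcard]; omega, pow_card_eq_one']
          obtain ⟨i, hi⟩ := IsPGroup.iff_card.1 hp2'
          have hdvd : 2 ^ i ∣ 4 * k := by
            rw [← hi, show 4 * k = Nat.card ↥T by rw [hTcard]; omega]
            exact Subgroup.card_subgroup_dvd_card _
          have hi2 : i ≤ 2 := by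
            by_contra hlt
            have h8 : 8 ∣ 4 * k := (pow_dvd_pow 2 (show 3 ≤ i by omega)).trans hdvd
            obtain ⟨u, hu⟩ := hkodd
            omega
          rw [hi]
          exact Nat.pow_le_pow_right (by norm_num) hi2
        have hker : k ≤ Nat.card ↥φ.ker := by
          have h := Subgroup.card_eq_card_quotient_mul_card_subgroup φ.ker
          rw [Nat.card_congr (QuotientGroup.quotientKerEquivRange φ).toEquiv, hTcard] at h
          have := Nat.mul_le_mul_right (Nat.card ↥φ.ker) hrange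
          omega
        refine hker.trans ?_
        rw [← Nat.card_coe_set_eq]
        set aT : ↥T := ⟨a, haH, Subgroup.mem_centralizer_singleton_iff.2 rfl⟩
        refine Nat.card_le_card_of_injective (fun z : ↥φ.ker => (⟨aT * z.1, ?_⟩ : ↥I))
          fun z w h => Subtype.ext (mul_left_cancel (congrArg Subtype.val h))
        show (aT * z.1) ^ k = aT
        rw [mul_pow, show (z.1 : ↥T) ^ k = 1 from z.2, mul_one]
        obtain ⟨u, hu⟩ := hkodd
        rw [hu, pow_add, pow_mul, show aT ^ 2 = 1 from Subtype.ext (by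
          show a ^ 2 = 1; rw [sq]; exact iota_sq f hf hK), one_pow, one_mul, pow_one]
      -- the two injections
      let F₁ : (↥H ⧸ C.subgroupOf H) × ↥S → ↥H := fun qs =>
        qs.1.out * ⟨qs.2.1.1, hCH qs.2.1.2⟩ * qs.1.out⁻¹
      let F₂ : (↥H ⧸ T.subgroupOf H) × ↥I → ↥H := fun qs =>
        qs.1.out * ⟨qs.2.1.1, qs.2.1.2.1⟩ * qs.1.out⁻¹
      have hkey : ∀ (h₁ h₂ : ↥H) (s₁ s₂ : ↥G₁),
          (h₁ : ↥G₁) * s₁ * (h₁ : ↥G₁)⁻¹ = h₂ * s₂ * (h₂ : ↥G₁)⁻¹ → ∀ i : ℕ,
          ((h₂⁻¹ * h₁ : ↥H) : ↥G₁) * s₁ ^ i * ((h₂⁻¹ * h₁ : ↥H) : ↥G₁)⁻¹ = s₂ ^ i := by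
        intro h₁ h₂ s₁ s₂ e i
        rw [← conj_pow]
        congr 1
        simp only [Subgroup.coe_mul, Subgroup.coe_inv]
        calc (h₂ : ↥G₁)⁻¹ * h₁ * s₁ * ((h₂ : ↥G₁)⁻¹ * h₁)⁻¹
            = (h₂ : ↥G₁)⁻¹ * ((h₁ : ↥G₁) * s₁ * (h₁ : ↥G₁)⁻¹) * h₂ := by group
          _ = _ := by rw [e]; group
      have hinj₁ : Function.Injective F₁ := by
        rintro ⟨q₁, ⟨s₁, hs₁⟩⟩ ⟨q₂, ⟨s₂, hs₂⟩⟩ e
        have e' : (q₁.out : ↥G₁) * s₁ * (q₁.out : ↥G₁)⁻¹ = q₂.out * s₂ * (q₂.out : ↥G₁)⁻¹ :=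
          congrArg Subtype.val e
        have hnC : ((q₂.out⁻¹ * q₁.out : ↥H) : ↥G₁) ∈ C := by
          obtain ⟨i, hi⟩ := exists_prime_power
            (fun h => by rw [hS, Set.mem_setOf_eq, h, orderOf_one] at hs₁; exact hr.not_dvd_one hs₁)
            hr hs₁
          have hzy : ∀ w : ↥G₁, w ∈ C → orderOf w = r → Subgroup.zpowers w = Subgroup.zpowers (y : ↥G₁) := by
            intro w hw how
            have h1 := hCc
            have e1 := cyclic_subgroup_unique (H := (Subgroup.zpowers w).subgroupOf C)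
              (H' := (Subgroup.zpowers (y : ↥G₁)).subgroupOf C) (by
                rw [Nat.card_congr (Subgroup.subgroupOfEquivOfLe (Subgroup.zpowers_le.2 hw)).toEquiv,
                  Nat.card_congr (Subgroup.subgroupOfEquivOfLe (Subgroup.zpowers_le.2 hyC)).toEquiv,
                  Nat.card_zpowers, Nat.card_zpowers, how, hy])
            exact le_antisymm
              (fun z hz => e1.le (show (⟨z, Subgroup.zpowers_le.2 hw hz⟩ : ↥C) ∈ _ from hz))
              (fun z hz => e1.ge (show (⟨z, Subgroup.zpowers_le.2 hyC hz⟩ : ↥C) ∈ _ from hz))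
          set n := ((q₂.out⁻¹ * q₁.out : ↥H) : ↥G₁)
          have hi' : orderOf ((s₁ : ↥G₁) ^ i) = r := by rw [← SubmonoidClass.coe_pow, Subgroup.orderOf_coe]; exact hi
          have e1 := hkey q₁.out q₂.out s₁ s₂ e' i
          obtain ⟨l, hl⟩ : (y : ↥G₁) ∈ Subgroup.zpowers ((s₁ : ↥G₁) ^ i) := by
            rw [hzy _ (pow_mem s₁.2 i) hi']; exact Subgroup.mem_zpowers _
          have hl' : ((s₁ : ↥G₁) ^ i) ^ l = y := hl
          refine hnorm n (q₂.out⁻¹ * q₁.out : ↥H).2 ?_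
          rw [← hl', ← conj_zpow, e1]
          have ho2 : orderOf ((s₂ : ↥G₁) ^ i) = r := by
            rw [← e1]
            exact (orderOf_injective (MulAut.conj n).toMonoidHom (MulAut.conj n).injective _).trans hi'
          have h := (hzy _ (pow_mem s₂.2 i) ho2).le
            (Subgroup.zpow_mem _ (Subgroup.mem_zpowers _) l)
          rw [hl']
          exact h
        obtain rfl : q₁ = q₂ := by
          rw [← QuotientGroup.out_eq' q₁, ← QuotientGroup.out_eq' q₂]
          exact (QuotientGroup.eq.2 (Subgroup.mem_subgroupOf.2 hnC)).symm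
        have : (s₁ : ↥G₁) = s₂ := mul_left_cancel (mul_right_cancel e')
        exact Prod.ext rfl (Subtype.ext (Subtype.ext this))
      have hinj₂ : Function.Injective F₂ := by
        rintro ⟨q₁, ⟨s₁, hs₁⟩⟩ ⟨q₂, ⟨s₂, hs₂⟩⟩ e
        have e' : (q₁.out : ↥G₁) * s₁ * (q₁.out : ↥G₁)⁻¹ = q₂.out * s₂ * (q₂.out : ↥G₁)⁻¹ :=
          congrArg Subtype.val e
        have hnT : ((q₂.out⁻¹ * q₁.out : ↥H) : ↥G₁) ∈ T := by
          refine ⟨(q₂.out⁻¹ * q₁.out : ↥H).2, Subgroup.mem_centralizer_singleton_iff.2 ?_⟩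
          have e1 := hkey q₁.out q₂.out s₁ s₂ e' k
          rw [show (s₁ : ↥G₁) ^ k = a from congrArg Subtype.val hs₁,
            show (s₂ : ↥G₁) ^ k = a from congrArg Subtype.val hs₂] at e1
          exact mul_inv_eq_iff_eq_mul.1 e1
        obtain rfl : q₁ = q₂ := by
          rw [← QuotientGroup.out_eq' q₁, ← QuotientGroup.out_eq' q₂]
          exact (QuotientGroup.eq.2 (Subgroup.mem_subgroupOf.2 hnT)).symm
        have : (s₁ : ↥G₁) = s₂ := mul_left_cancel (mul_right_cancel e')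
        exact Prod.ext rfl (Subtype.ext (Subtype.ext this))
      have hdis : Disjoint (Set.range F₁) (Set.range F₂) := by
        rw [Set.disjoint_left]
        rintro w ⟨⟨q₁, ⟨s₁, hs₁⟩⟩, rfl⟩ ⟨⟨q₂, ⟨s₂, hs₂⟩⟩, e⟩
        have e' : (q₂.out : ↥G₁) * s₂ * (q₂.out : ↥G₁)⁻¹ = q₁.out * s₁ * (q₁.out : ↥G₁)⁻¹ :=
          congrArg Subtype.val e
        have ho := congrArg orderOf e'
        rw [← MulAut.conj_apply, ← MulAut.conj_apply, MulEquiv.orderOf_eq, MulEquiv.orderOf_eq,
          Subgroup.orderOf_coe, Subgroup.orderOf_coe] at ho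
        have h2o : 2 ∣ orderOf s₂ := by
          have h4 : orderOf (s₂ ^ k) ∣ orderOf s₂ := orderOf_pow_dvd k
          rw [show s₂ ^ k = _ from hs₂, ← Subgroup.orderOf_coe] at h4
          exact ha2 ▸ h4
        obtain ⟨i, hi⟩ := exists_prime_power (G := ↥C) (x := s₁)
          (fun h => by rw [hS, Set.mem_setOf_eq, h, orderOf_one] at hs₁; exact hr.not_dvd_one hs₁)
          Nat.prime_two (ho ▸ h2o)
        exact (phi_centralizer_primes f hf hK hm hr h hy Nat.prime_two
          (hi ▸ orderOf_dvd_natCard (s₁ ^ i))).1 rfl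
      have hsum : Nat.card ((↥H ⧸ C.subgroupOf H) × ↥S) + Nat.card ((↥H ⧸ T.subgroupOf H) × ↥I) ≤
          Nat.card ↥H := by
        rw [← Nat.card_range_of_injective hinj₁, ← Nat.card_range_of_injective hinj₂,
          Nat.card_coe_set_eq, Nat.card_coe_set_eq, ← Set.ncard_union_eq hdis, ← Set.ncard_univ]
        exact Set.ncard_le_ncard (Set.subset_univ _)
      rw [Nat.card_prod, Nat.card_prod, Nat.card_coe_set_eq, Nat.card_coe_set_eq] at hsum
      have hqc := Subgroup.card_eq_card_quotient_mul_card_subgroup (C.subgroupOf H)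
      have hqt := Subgroup.card_eq_card_quotient_mul_card_subgroup (T.subgroupOf H)
      rw [Nat.card_congr (Subgroup.subgroupOfEquivOfLe hCH).toEquiv] at hqc
      rw [Nat.card_congr (Subgroup.subgroupOfEquivOfLe (inf_le_left : T ≤ H)).toEquiv, hTcard,
        show 3 ^ (2 * m + 1) + 1 = 4 * k by omega] at hqt
      have hA := Nat.mul_le_mul_left (Nat.card (↥H ⧸ C.subgroupOf H)) hSle
      have hB' := Nat.mul_le_mul_left (Nat.card (↥H ⧸ T.subgroupOf H)) hI
      have hHpos : 0 < Nat.card ↥H := Nat.card_pos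
      rw [mul_left_comm, mul_left_comm (Nat.card (↥H ⧸ C.subgroupOf H)) 5] at hA
      rw [mul_left_comm] at hqt
      omega
  -- hence the order divides `q + 1`
  have hdvd : Nat.card ↥H ∣ 3 ^ (2 * m + 1) + 1 := by
    rw [← Nat.factorization_le_iff_dvd Nat.card_pos.ne' (by omega)]
    intro r
    by_cases hr : r.Prime
    swap
    · simp [Nat.factorization_eq_zero_of_not_prime _ hr]
    by_cases hrd : r ∣ Nat.card ↥H
    swap
    · rw [Nat.factorization_eq_zero_of_not_dvd hrd]; exact Nat.zero_le _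
    haveI := Fact.mk hr
    have hrq := hprimes r hr hrd
    rcases eq_or_ne r 2 with rfl | hr2
    · have hg : (Nat.card ↥G₁).factorization 2 = 3 := by
        obtain ⟨S⟩ : Nonempty (Sylow 2 ↥G₁) := inferInstance
        have hS := S.card_eq_multiplicity
        rw [card_sylow_two f hf hK S, show (8 : ℕ) = 2 ^ 3 from rfl] at hS
        exact (Nat.pow_right_injective le_rfl hS).symm
      have hle : (Nat.card ↥H).factorization 2 ≤ 2 := by
        by_contra hlt
        obtain ⟨R, hR⟩ := Sylow.exists_subgroup_card_pow_prime 2 (G := ↥H) (n := 3)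
          ((pow_dvd_pow 2 (show 3 ≤ (Nat.card ↥H).factorization 2 by omega)).trans (Nat.ordProj_dvd _ _))
        let Q : Sylow 2 ↥G₁ := Sylow.ofCard (R.map H.subtype) (by
          rw [Subgroup.card_map_of_injective H.subtype_injective, hR, hg])
        have hxQ : x ∈ (Q : Subgroup ↥G₁) := by
          rw [← sylow_two_centralizer f hf hK Q, Subgroup.mem_centralizer_iff]
          intro z hz
          obtain ⟨w, -, rfl⟩ := (hz : z ∈ R.map H.subtype)
          exact Subgroup.mem_centralizer_singleton_iff.1 w.2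
        have := Nat.le_of_dvd (by norm_num) (hx ▸ orderOf_dvd_of_pow_eq_one (n := 2) (by
          rw [sq]; exact sylow_two_exponent f hf hK Q x hxQ) : p ∣ 2)
        omega
      refine hle.trans ((Nat.Prime.pow_dvd_iff_le_factorization Nat.prime_two (by omega)).1 ?_)
      omega
    · obtain ⟨h3', h1', h2'⟩ := plus_props m hr hr2 hrq
      refine le_trans ((Nat.factorization_le_iff_dvd Nat.card_pos.ne' Nat.card_pos.ne').2
        (Subgroup.card_subgroup_dvd_card H) r) (le_of_eq ?_)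
      rw [card_G f hf hK]
      have hne : ¬ r ∣ (3 ^ (2 * m + 1)) ^ 3 * (3 ^ (2 * m + 1) - 1) *
          ((3 ^ (2 * m + 1)) ^ 2 - 3 ^ (2 * m + 1) + 1) := by
        intro h
        rcases hr.dvd_mul.1 h with h | h
        · rcases hr.dvd_mul.1 h with h | h
          · exact not_dvd_three m hr (by omega) (hr.dvd_of_dvd_pow h)
          · exact h1' h
        · exact h2' h
      rw [show ∀ a b c d : ℕ, a * b * (c * d) = c * (a * b * d) from fun a b c d => by ring,
        Nat.factorization_mul (by positivity) (fun e => hne (by rw [e]; exact dvd_zero _)), Finsupp.add_apply,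
        Nat.factorization_eq_zero_of_not_dvd hne, add_zero]
  have hTH : T = H := Subgroup.eq_of_le_of_card_ge inf_le_left
    (by rw [hTcard]; exact Nat.le_of_dvd (by omega) hdvd)
  rw [← hTH]
  exact inf_le_right

/-- The centraliser of an element of order `p ∣ q + 1`. -/
theorem plus_centralizer (hm : 1 ≤ m) {p : ℕ} (hp : p.Prime) (hp2 : p ≠ 2)
    (hd : p ∣ 3 ^ (2 * m + 1) + 1) {x : ↥G₁} (hx : orderOf x = p) :
    Nat.card ↥(Subgroup.centralizer {x}) = 3 ^ (2 * m + 1) + 1 ∧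
    IsMulCommutative ↥(Subgroup.centralizer {x}) := by
  obtain ⟨c, hc⟩ := plus_involution f hf hK hp hp2 hd hx
  have ho : orderOf (c * x * c⁻¹) = p := hx ▸ orderOf_injective (MulAut.conj c).toMonoidHom (MulAut.conj c).injective x
  obtain ⟨h1, h2⟩ := plus_torus f hf hK hp hp2 hd ho hc
  have hle := inf_eq_left.2 (plus_centralizer_aux f hf hK hm hp hp2 hd ho hc)
  rw [hle] at h1 h2
  refine ⟨(card_centralizer_conj_eq c x).symm.trans h1, ⟨⟨fun a b => Subtype.ext ?_⟩⟩⟩
  have h := congrArg Subtype.val (h2.is_comm.comm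
    (⟨_, conj_mem_centralizer c a.2⟩ : ↥(Subgroup.centralizer {c * x * c⁻¹}))
    ⟨_, conj_mem_centralizer c b.2⟩)
  refine (MulAut.conj c).injective ?_
  rw [Subgroup.coe_mul, Subgroup.coe_mul, map_mul, map_mul]
  exact h

/-- Elements of order `p ∣ q² - q + 1`: the order of the centraliser. -/
theorem phi_centralizer_dvd (hm : 1 ≤ m) {p : ℕ} (hp : p.Prime)
    (hd : p ∣ (3 ^ (2 * m + 1)) ^ 2 - 3 ^ (2 * m + 1) + 1) {x : ↥G₁} (hx : orderOf x = p) :
    Nat.card ↥(Subgroup.centralizer {x}) ∣ (3 ^ (2 * m + 1)) ^ 2 - 3 ^ (2 * m + 1) + 1 := by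
  have hpr : ∀ r : ℕ, r.Prime → r ∣ Nat.card ↥(Subgroup.centralizer {x}) →
      r ∣ (3 ^ (2 * m + 1)) ^ 2 - 3 ^ (2 * m + 1) + 1 := by
    intro r hr hrd
    haveI := Fact.mk hr
    obtain ⟨h2, h3, h1⟩ := phi_centralizer_primes f hf hK hm hp hd hx hr hrd
    rcases prime_cases f hf hK hr (hrd.trans (Subgroup.card_subgroup_dvd_card _)) with h | h | h | h
    · exact absurd h h3
    · exact absurd h h1
    · exfalso
      obtain ⟨y, hy⟩ := exists_prime_orderOf_dvd_card' r hrd
      rw [← Subgroup.orderOf_coe] at hy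
      have hxy : x ∈ Subgroup.centralizer {(y : ↥G₁)} := mem_centralizer_comm.1 y.2
      have h' := Subgroup.orderOf_dvd_natCard _ hxy
      rw [hx, (plus_centralizer f hf hK hm hr h2 h hy).1] at h'
      exact (phi_props m hp hd).2.2 h'
    · exact h
  rw [← Nat.factorization_le_iff_dvd Nat.card_pos.ne' (by omega)]
  intro r
  by_cases hr : r.Prime
  swap
  · simp [Nat.factorization_eq_zero_of_not_prime _ hr]
  by_cases hrd : r ∣ Nat.card ↥(Subgroup.centralizer {x})
  swap
  · simp [Nat.factorization_eq_zero_of_not_dvd hrd]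
  have hrP := hpr r hr hrd
  obtain ⟨h3', h1', h2'⟩ := phi_props m hr hrP
  refine le_trans ((Nat.factorization_le_iff_dvd Nat.card_pos.ne' Nat.card_pos.ne').2
    (Subgroup.card_subgroup_dvd_card _) r) (le_of_eq ?_)
  rw [card_G f hf hK]
  have hne : ¬ r ∣ (3 ^ (2 * m + 1)) ^ 3 * (3 ^ (2 * m + 1) - 1) * (3 ^ (2 * m + 1) + 1) := by
    intro h
    rcases hr.dvd_mul.1 h with h | h
    · rcases hr.dvd_mul.1 h with h | h
      · exact not_dvd_three m hr (by omega) (hr.dvd_of_dvd_pow h)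
      · exact h1' h
    · exact h2' h
  rw [← mul_assoc, mul_comm _ ((3 ^ (2 * m + 1)) ^ 2 - 3 ^ (2 * m + 1) + 1),
    Nat.factorization_mul (by omega) (fun e => hne (by rw [e]; exact dvd_zero _)),
    Finsupp.add_apply, Nat.factorization_eq_zero_of_not_dvd hne, add_zero]

end Cfsg.Agent.Lie.Chev.G2
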