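import Cfsg.Agent.Lib.Lie.Chev.ReeCentralizers

/-! Counting the union of the conjugates of a set that is moved off itself outside its
stabiliser, and consequences for abelian subgroups equal to the centralisers of their elements. -/

set_option autoImplicit false

namespace Cfsg.Agent.Lie.Chev.G2

variable {G : Type*} [Group G]

/-- The union of the conjugates of a set. -/
def conjUnion (S : Set G) : Set G := {x | ∃ g, ∃ a ∈ S, x = g * a * g⁻¹}

theorem card_conjUnion [Finite G] (S : Set G) (N : Subgroup G)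
    (hN : ∀ n ∈ N, ∀ a ∈ S, n * a * n⁻¹ ∈ S)
    (hTI : ∀ g, ∀ a ∈ S, g * a * g⁻¹ ∈ S → g ∈ N) :
    (conjUnion S).ncard * Nat.card ↥N = Nat.card G * S.ncard := by
  classical
  let f : G × ↥S → ↥(conjUnion S) := fun p => ⟨p.1 * p.2 * p.1⁻¹, p.1, p.2, p.2.2, rfl⟩
  haveI : Fintype ↥(conjUnion S) := Fintype.ofFinite _
  have hfib : ∀ x : ↥(conjUnion S), Nat.card {p // f p = x} = Nat.card ↥N := by
    rintro ⟨x, g, a, ha, rfl⟩
    have hc : ∀ n : ↥N, (n : G)⁻¹ * a * (n : G) ∈ S := fun n => by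
      simpa using hN _ (inv_mem n.2) a ha
    let e : ↥N → {p // f p = ⟨g * a * g⁻¹, g, a, ha, rfl⟩} := fun n =>
      ⟨(g * n, ⟨(n : G)⁻¹ * a * n, hc n⟩), Subtype.ext (by simp [f, mul_assoc])⟩
    refine (Nat.card_eq_of_bijective e ⟨fun n n' h => ?_, ?_⟩).symm
    · exact Subtype.ext (mul_left_cancel (congrArg (fun p => p.1.1) h))
    · rintro ⟨⟨g', ⟨b, hb⟩⟩, hp⟩
      have hp' : g' * b * g'⁻¹ = g * a * g⁻¹ := congrArg Subtype.val hp
      have hba : g⁻¹ * g' * b * (g⁻¹ * g')⁻¹ = a := by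
        calc g⁻¹ * g' * b * (g⁻¹ * g')⁻¹ = g⁻¹ * (g' * b * g'⁻¹) * g := by group
          _ = a := by rw [hp']; group
      refine ⟨⟨g⁻¹ * g', hTI _ b hb (hba ▸ ha)⟩, Subtype.ext ?_⟩
      refine Prod.ext (mul_inv_cancel_left _ _) (Subtype.ext ?_)
      show (g⁻¹ * g')⁻¹ * a * (g⁻¹ * g') = b
      rw [← hba]; group
  have h1 := Nat.card_congr (Equiv.sigmaFiberEquiv f)
  rw [Nat.card_sigma, Finset.sum_congr rfl (fun x _ => hfib x), Finset.sum_const, Finset.card_univ,
    smul_eq_mul, ← Nat.card_eq_fintype_card, Nat.card_coe_set_eq, Nat.card_prod,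
    Nat.card_coe_set_eq] at h1
  exact h1

/-- The number of the elements with a conjugation-invariant property, when each of them has a
conjugate in a set moved off itself outside its stabiliser. -/
theorem card_of_cover [Finite G] (P : G → Prop) (S : Set G) (N : Subgroup G)
    (hP : ∀ g x, P x → P (g * x * g⁻¹)) (hS : ∀ a ∈ S, P a)
    (hcov : ∀ x, P x → ∃ c, c * x * c⁻¹ ∈ S)
    (hN : ∀ n ∈ N, ∀ a ∈ S, n * a * n⁻¹ ∈ S)
    (hTI : ∀ g, ∀ a ∈ S, g * a * g⁻¹ ∈ S → g ∈ N) :
    Nat.card {g : G // P g} * Nat.card ↥N = Nat.card G * S.ncard := by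
  have e : {g : G | P g} = conjUnion S := by
    ext x
    refine ⟨fun h => ?_, fun h => ?_⟩
    · obtain ⟨c, hc⟩ := hcov x h
      exact ⟨c⁻¹, _, hc, by group⟩
    · obtain ⟨g, a, ha, rfl⟩ := h
      exact hP g a (hS a ha)
  rw [← card_conjUnion S N hN hTI, ← e, ← Nat.card_coe_set_eq]
  rfl

theorem card_of_cover_subgroup [Finite G] (P : G → Prop) (A : Subgroup G)
    (hP : ∀ g x, P x → P (g * x * g⁻¹)) (hcov : ∀ x, P x → ∃ c, c * x * c⁻¹ ∈ A)
    (hTI : ∀ g, ∀ a ∈ A, P a → g * a * g⁻¹ ∈ A → g ∈ Subgroup.normalizer (A : Set G)) :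
    Nat.card {g : G // P g} * Nat.card ↥(Subgroup.normalizer (A : Set G)) =
      Nat.card G * Nat.card {a : ↥A // P a} := by
  rw [card_of_cover P {a | a ∈ A ∧ P a} (Subgroup.normalizer (A : Set G)) hP (fun a ha => ha.2)
    (fun x hx => (hcov x hx).imp fun c hc => ⟨hc, hP c x hx⟩)
    (fun n hn a ha => ⟨(Subgroup.mem_normalizer_iff.1 hn a).1 ha.1, hP n a ha.2⟩)
    (fun g a ha h => hTI g a ha.1 ha.2 h.1), ← Nat.card_coe_set_eq]
  congr 1
  exact Nat.card_congr (Equiv.subtypeSubtypeEquivSubtypeInter (· ∈ A) P).symm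

theorem map_conj_mem_iff {A : Subgroup G} {g x : G} :
    x ∈ A.map (MulAut.conj g).toMonoidHom ↔ g⁻¹ * x * g ∈ A := by
  rw [Subgroup.mem_map_equiv, MulAut.conj_symm_apply]

/-- An element conjugating an element into a subgroup which is its centraliser, and that of the
image, normalises the subgroup. -/
theorem mem_normalizer_of_centralizer [Finite G] {A : Subgroup G} {a g : G}
    (ha : Subgroup.centralizer ({a} : Set G) = A)
    (hga : Subgroup.centralizer ({g * a * g⁻¹} : Set G) = A) :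
    g ∈ Subgroup.normalizer (A : Set G) := by
  rw [Subgroup.mem_normalizer_iff]
  intro h
  constructor
  · intro hh
    rw [← hga]
    exact conj_mem_centralizer g (ha.ge hh)
  · intro hh
    have h' := conj_mem_centralizer g⁻¹ (hga.ge hh)
    rw [show g⁻¹ * (g * h * g⁻¹) * g⁻¹⁻¹ = h by group,
      show g⁻¹ * (g * a * g⁻¹) * g⁻¹⁻¹ = a by group] at h'
    exact ha.le h'

/-- A normalising element of a cyclic subgroup normalises each of its subgroups. -/
theorem normalizer_le_of_cyclic [Finite G] {A A₀ : Subgroup G} (hA : IsCyclic ↥A) (h : A₀ ≤ A) :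
    Subgroup.normalizer (A : Set G) ≤ Subgroup.normalizer (A₀ : Set G) := by
  intro n hn
  have hle : A₀.map (MulAut.conj n).toMonoidHom ≤ A := by
    rintro _ ⟨a, ha, rfl⟩
    exact (Subgroup.mem_normalizer_iff.1 hn a).1 (h ha)
  have e : (A₀.map (MulAut.conj n).toMonoidHom).subgroupOf A = A₀.subgroupOf A := by
    refine cyclic_subgroup_unique ?_
    rw [Nat.card_congr (Subgroup.subgroupOfEquivOfLe hle).toEquiv,
      Nat.card_congr (Subgroup.subgroupOfEquivOfLe h).toEquiv,
      Subgroup.card_map_of_injective (MulAut.conj n).injective]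
  rw [Subgroup.subgroupOf_inj, inf_eq_left.2 hle, inf_eq_left.2 h] at e
  rw [Subgroup.mem_normalizer_iff]
  intro x
  conv_rhs => rw [← e]
  rw [map_conj_mem_iff, show n⁻¹ * (n * x * n⁻¹) * n = x by group]

/-- A cyclic subgroup with the full `p`-part makes the Sylow `p`-subgroups cyclic. -/
theorem sylow_cyclic_of_full [Finite G] {p : ℕ} [Fact p.Prime] (A : Subgroup G) (hA : IsCyclic ↥A)
    (hfull : (Nat.card G).factorization p ≤ (Nat.card ↥A).factorization p) (P : Sylow p G) :
    IsCyclic ↥(P : Subgroup G) := by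
  obtain ⟨R, hR⟩ := Sylow.exists_subgroup_card_pow_prime p (G := ↥A)
    (n := (Nat.card G).factorization p) (((pow_dvd_pow p hfull)).trans (Nat.ordProj_dvd _ _))
  let Q : Sylow p G := Sylow.ofCard (R.map A.subtype) (by
    rw [Subgroup.card_map_of_injective A.subtype_injective, hR])
  haveI := hA
  haveI : IsCyclic ↥R := Subgroup.isCyclic R
  haveI : IsCyclic ↥(Q : Subgroup G) :=
    isCyclic_of_surjective (R.equivMapOfInjective A.subtype A.subtype_injective)
      (MulEquiv.surjective _)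
  exact isCyclic_of_surjective (Sylow.equiv Q P) (MulEquiv.surjective _)

/-- In a cyclic subgroup the subgroups are determined by their orders. -/
theorem eq_of_card_eq_of_cyclic [Finite G] {A B C : Subgroup G} (hA : IsCyclic ↥A) (hB : B ≤ A)
    (hC : C ≤ A) (h : Nat.card ↥B = Nat.card ↥C) : B = C := by
  have e : B.subgroupOf A = C.subgroupOf A := cyclic_subgroup_unique (by
    rw [Nat.card_congr (Subgroup.subgroupOfEquivOfLe hB).toEquiv,
      Nat.card_congr (Subgroup.subgroupOfEquivOfLe hC).toEquiv, h])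
  rwa [Subgroup.subgroupOf_inj, inf_eq_left.2 hB, inf_eq_left.2 hC] at e

theorem card_orderOf_cyclic [Finite G] {A : Subgroup G} (hA : IsCyclic ↥A) {i : ℕ}
    (hi : i ∣ Nat.card ↥A) : Nat.card {a : ↥A // orderOf (a : G) = i} = i.totient := by
  classical
  haveI := hA
  cases nonempty_fintype ↥A
  rw [Nat.card_congr (Equiv.subtypeEquivRight (q := fun a : ↥A => orderOf a = i)
    fun a => by rw [Subgroup.orderOf_coe]), Nat.card_eq_fintype_card, Fintype.card_subtype]
  exact IsCyclic.card_orderOf_eq_totient (Nat.card_eq_fintype_card (α := ↥A) ▸ hi)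

/-- In a finite group an element has every divisor of its order as the order of a power. -/
theorem exists_orderOf_of_dvd [Finite G] {g : G} {d : ℕ} (h : d ∣ orderOf g) :
    ∃ x : G, orderOf x = d := by
  obtain ⟨j, hj⟩ := h
  have h0 := (orderOf_pos g).ne'
  rw [hj] at h0
  obtain ⟨-, hj0⟩ := mul_ne_zero_iff.1 h0
  exact ⟨g ^ j, by rw [orderOf_pow' g hj0, hj, Nat.gcd_eq_right (dvd_mul_left j d),
    Nat.mul_div_cancel _ (Nat.pos_of_ne_zero hj0)]⟩

end Cfsg.Agent.Lie.Chev.G2
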