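import Cfsg.Agent.Lib.Lie.Chev.ReeBasic
import Cfsg.Agent.Lib.Lie.Chev.SLTwo
import Cfsg.Agent.Lib.Fus.PSLTwo
import Cfsg.Agent.Lib.Recog.PSLTwoSpectrum

/-! The centraliser of a diagonal involution in a small Ree group and the Sylow 2-subgroups. -/

set_option autoImplicit false
set_option maxRecDepth 4000

namespace Cfsg.Agent.Lie.Chev.G2

open Cfsg.Lie Matrix
open scoped MatrixGroups

variable {K : Type*} [Field K] (f : K →+* K) [CharP K 3] [ExpChar K 3]
variable [Fintype K] {m : ℕ} (hf : ∀ t, f t = t ^ 3 ^ m) (hK : Fintype.card K = 3 ^ (2 * m + 1))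

include hf hK

omit hK [Fintype K] [ExpChar K 3] [CharP K 3] hf in
theorem zOf_neg_one : zOf f (-1) 0 = -1 ∧ zOf f (-1) 1 = -1 :=
  ⟨(zOf_apply f (-1)).1.trans (Units.ext (by simp)), (zOf_apply f (-1)).2⟩

theorem iota_conj_uW (t u v : K) :
    iota f hf hK * uW f hf hK (t, u, v) * (iota f hf hK)⁻¹ = uW f hf hK (-t, u, -v) := by
  refine Subtype.ext ?_
  show param f (-1) * ((reeWordU (3 ^ m) t u v).map fun p => certFullG2.xg p.1 p.2).prod *
      (param f (-1))⁻¹ = ((reeWordU (3 ^ m) (-t) u (-v)).map fun p => certFullG2.xg p.1 p.2).prod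
  rw [word_eq f hf, word_eq f hf]
  obtain ⟨c7, c6, c8, c9, c10, c11⟩ := tchar_values (zOf f (-1))
  obtain ⟨z0, z1⟩ := zOf_neg_one f
  rw [z0, z1] at c7 c6 c8 c10
  rw [z0] at c9
  rw [z1] at c11
  have e : ∀ r, r < 12 → ∀ x : K, MulAut.conj (param f (-1)) (certFullG2.xg r x) =
      certFullG2.xg r ((certFullG2.tchar (zOf f (-1)) r : K) * x) := fun r hr x =>
    certFullG2.torus_conj_xg _ hr x
  rw [← MulAut.conj_apply]
  simp only [map_mul, e 7 (by omega), e 6 (by omega), e 8 (by omega), e 9 (by omega),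
    e 10 (by omega), e 11 (by omega), c7, c6, c8, c9, c10, c11]
  simp
  ring_nf

theorem iota_comm_uW {t u v : K}
    (h : iota f hf hK * uW f hf hK (t, u, v) = uW f hf hK (t, u, v) * iota f hf hK) :
    t = 0 ∧ v = 0 := by
  rw [← mul_inv_eq_iff_eq_mul, iota_conj_uW] at h
  have e := uW_injective f hf hK h
  simp only [Prod.mk.injEq] at e
  have h3 : (3 : K) = 0 := three_eq_zero
  exact ⟨by linear_combination t * h3 + e.1, by linear_combination v * h3 + e.2.2⟩

/-- The unipotent elements commuting with the involution. -/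
noncomputable def uA (u : K) : ↥(twistedG2 K (3 ^ m)) := uW f hf hK (0, u, 0)

theorem uA_val (u : K) : (uA f hf hK u : GL chevG2.Idx K) =
    certFullG2.xg 8 (f u) * certFullG2.xg 10 u := by
  show ((reeWordU (3 ^ m) (0 : K) u 0).map fun p => certFullG2.xg p.1 p.2).prod = _
  simp [word_eq f hf, certFullG2.xg_zero]

theorem uA_mem (u : K) : uA f hf hK u ∈ UU K m := (mem_UU_iff f hf hK).2 ⟨_, rfl⟩

theorem uA_add (u v : K) : uA f hf hK (u + v) = uA f hf hK u * uA f hf hK v := by
  refine Subtype.ext ?_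
  rw [Subgroup.coe_mul, uA_val, uA_val, uA_val, map_add, certFullG2.xg_add, certFullG2.xg_add,
    mul2_comm (class_commute pos_class (i := 10) (j := 8) (by simp) (by simp) u (f v))]

theorem uA_zero : uA f hf hK 0 = 1 := uW_zero f hf hK

theorem uA_injective : Function.Injective (uA f hf hK) := fun u v e => by
  have := uW_injective f hf hK e
  simp only [Prod.mk.injEq] at this
  exact this.2.1

theorem iota_comm_uA (u : K) : iota f hf hK * uA f hf hK u = uA f hf hK u * iota f hf hK := by
  rw [← mul_inv_eq_iff_eq_mul, uA, iota_conj_uW, neg_zero]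

theorem nn_comm_iota : nn f hf hK * iota f hf hK = iota f hf hK * nn f hf hK := by
  rw [← mul_inv_eq_iff_eq_mul, nn_conj_HH f hf hK (iota_mem f hf hK),
    inv_eq_of_mul_eq_one_right (iota_sq f hf hK)]

theorem mem_centralizer_iota {g : ↥(twistedG2 K (3 ^ m))} :
    g ∈ Subgroup.centralizer {iota f hf hK} ↔
      (∃ u x, g = uA f hf hK u * hP f hf hK x) ∨
      ∃ u x v, g = uA f hf hK u * hP f hf hK x * nn f hf hK * uA f hf hK v := by
  have hUA : ∀ u ∈ UU K m, iota f hf hK * u = u * iota f hf hK → ∃ v, u = uA f hf hK v := by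
    intro u hu hc
    obtain ⟨⟨t, w, v⟩, rfl⟩ := (mem_UU_iff f hf hK).1 hu
    obtain ⟨rfl, rfl⟩ := iota_comm_uW f hf hK hc
    exact ⟨w, rfl⟩
  have hB : ∀ b ∈ BB K m, iota f hf hK * b = b * iota f hf hK →
      ∃ u x, b = uA f hf hK u * hP f hf hK x := by
    intro b hb hc
    obtain ⟨u, hu, h, hh, rfl⟩ := (mem_BB_iff f hf hK).1 hb
    obtain ⟨x, rfl⟩ := (mem_HH_iff f hf hK).1 hh
    obtain ⟨v, rfl⟩ := hUA u hu (mul_right_cancel (b := hP f hf hK x) (by
      rw [mul_assoc, hc, mul_assoc, HH_comm f hf hK hh (iota_mem f hf hK), mul_assoc]))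
    exact ⟨v, x, rfl⟩
  have hmem : ∀ u x, uA f hf hK u * hP f hf hK x ∈ Subgroup.centralizer {iota f hf hK} := fun u x =>
    mul_mem (Subgroup.mem_centralizer_singleton_iff.2 (iota_comm_uA f hf hK u).symm)
      (Subgroup.mem_centralizer_singleton_iff.2
        (HH_comm f hf hK (hP_mem f hf hK x) (iota_mem f hf hK)))
  constructor
  · intro hg
    rw [Subgroup.mem_centralizer_singleton_iff] at hg
    by_cases hgB : g ∈ BB K m
    · exact Or.inl (hB g hgB hg.symm)
    · obtain ⟨b, hb, u, hu, rfl⟩ := exists_big f hf hK hgB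
      set a := iota f hf hK
      have e : (a * b * a⁻¹) * nn f hf hK * (a * u * a⁻¹) = b * nn f hf hK * u := by
        rw [show a * b * a⁻¹ * nn f hf hK * (a * u * a⁻¹) =
          a * b * (a⁻¹ * (nn f hf hK * a)) * u * a⁻¹ by group, nn_comm_iota,
          ← mul_assoc a⁻¹, inv_mul_cancel, one_mul, mul_inv_eq_iff_eq_mul, hg]
        simp only [mul_assoc]
      obtain ⟨e1, e2⟩ := big_inj f hf hK
        (mul_mem (mul_mem (HH_le_BB (iota_mem f hf hK)) hb) (inv_mem (HH_le_BB (iota_mem f hf hK))))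
        hb (HH_conj_UU f hf hK (iota_mem f hf hK) hu) hu e
      obtain ⟨v, rfl⟩ := hUA u hu (mul_inv_eq_iff_eq_mul.1 e2)
      obtain ⟨w, x, rfl⟩ := hB b hb (mul_inv_eq_iff_eq_mul.1 e1)
      exact Or.inr ⟨w, x, v, rfl⟩
  · rintro (⟨u, x, rfl⟩ | ⟨u, x, v, rfl⟩)
    · exact hmem u x
    · exact mul_mem (mul_mem (hmem u x)
        (Subgroup.mem_centralizer_singleton_iff.2 (nn_comm_iota f hf hK)))
        (Subgroup.mem_centralizer_singleton_iff.2 (iota_comm_uA f hf hK v).symm)

theorem card_centralizer_iota : Nat.card ↥(Subgroup.centralizer {iota f hf hK}) =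
    3 ^ (2 * m + 1) * (3 ^ (2 * m + 1) - 1) * (3 ^ (2 * m + 1) + 1) := by
  set C := Subgroup.centralizer {iota f hf hK}
  let φ : (K × Kˣ) ⊕ (K × Kˣ) × K → ↥C := Sum.elim
    (fun p => ⟨uA f hf hK p.1 * hP f hf hK p.2,
      (mem_centralizer_iota f hf hK).2 (Or.inl ⟨p.1, p.2, rfl⟩)⟩)
    (fun p => ⟨uA f hf hK p.1.1 * hP f hf hK p.1.2 * nn f hf hK * uA f hf hK p.2,
      (mem_centralizer_iota f hf hK).2 (Or.inr ⟨p.1.1, p.1.2, p.2, rfl⟩)⟩)
  have hBB : ∀ u x, uA f hf hK u * hP f hf hK x ∈ BB K m := fun u x =>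
    mul_mem (UU_le_BB (uA_mem f hf hK u)) (HH_le_BB (hP_mem f hf hK x))
  have hpair : ∀ u u' x x', uA f hf hK u * hP f hf hK x = uA f hf hK u' * hP f hf hK x' →
      u = u' ∧ x = x' := by
    intro u u' x x' e
    have e1 : (uA f hf hK u')⁻¹ * uA f hf hK u = hP f hf hK (x' * x⁻¹) := by
      rw [map_mul, map_inv, eq_mul_inv_iff_mul_eq, mul_assoc, e, inv_mul_cancel_left]
    have h1 : (uA f hf hK u')⁻¹ * uA f hf hK u = 1 := UU_inf_HH f hf hK
      (mul_mem (inv_mem (uA_mem f hf hK u')) (uA_mem f hf hK u)) (e1 ▸ hP_mem f hf hK _)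
    rw [inv_mul_eq_one] at h1
    obtain rfl := uA_injective f hf hK h1
    exact ⟨rfl, hP_injective f hf hK (mul_left_cancel e)⟩
  have hφ : Function.Bijective φ := by
    constructor
    · rintro (⟨u, x⟩ | ⟨⟨u, x⟩, v⟩) (⟨u', x'⟩ | ⟨⟨u', x'⟩, v'⟩) e
      · have e' : uA f hf hK u * hP f hf hK x = uA f hf hK u' * hP f hf hK x' :=
          Subtype.mk.inj e
        obtain ⟨rfl, rfl⟩ := hpair _ _ _ _ e'
        rfl
      · have e' : uA f hf hK u * hP f hf hK x =
            uA f hf hK u' * hP f hf hK x' * nn f hf hK * uA f hf hK v' := Subtype.mk.inj e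
        have hb := hBB u x
        rw [e'] at hb
        exact absurd hb (big_not_mem f hf hK (hBB u' x') (uA_mem f hf hK v'))
      · have e' : uA f hf hK u * hP f hf hK x * nn f hf hK * uA f hf hK v =
            uA f hf hK u' * hP f hf hK x' := Subtype.mk.inj e
        have hb := hBB u' x'
        rw [← e'] at hb
        exact absurd hb (big_not_mem f hf hK (hBB u x) (uA_mem f hf hK v))
      · have e' : uA f hf hK u * hP f hf hK x * nn f hf hK * uA f hf hK v =
            uA f hf hK u' * hP f hf hK x' * nn f hf hK * uA f hf hK v' := Subtype.mk.inj e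
        obtain ⟨e1, e2⟩ := big_inj f hf hK (hBB u x) (hBB u' x') (uA_mem f hf hK v)
          (uA_mem f hf hK v') e'
        obtain ⟨rfl, rfl⟩ := hpair _ _ _ _ e1
        obtain rfl := uA_injective f hf hK e2
        rfl
    · rintro ⟨g, hg⟩
      rcases (mem_centralizer_iota f hf hK).1 hg with ⟨u, x, rfl⟩ | ⟨u, x, v, rfl⟩
      · exact ⟨Sum.inl (u, x), rfl⟩
      · exact ⟨Sum.inr ((u, x), v), rfl⟩
  rw [← Nat.card_eq_of_bijective φ hφ, Nat.card_sum, Nat.card_prod, Nat.card_prod, Nat.card_prod,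
    Nat.card_units, natCard f hf hK]
  ring

omit hf hK [CharP K 3] [ExpChar K 3] [Fintype K] in
theorem sl_generated {S : Subgroup SL(2, K)} (hu : ∀ t, upSL t ∈ S) (hl : ∀ t, loSL t ∈ S)
    (g : SL(2, K)) : g ∈ S := by
  have key : ∀ h : SL(2, K), h.1 1 0 ≠ 0 → h ∈ S := by
    intro h hc
    have e : h = upSL ((h.1 0 0 - 1) / h.1 1 0) * loSL (h.1 1 0) *
        upSL ((h.1 1 1 - 1) / h.1 1 0) := by
      refine ext_two ?_ ?_ ?_ ?_ <;>
        simp only [mul_val, upSL_val, loSL_val] <;>
        simp [Matrix.mul_apply, Fin.sum_univ_two]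
      all_goals field_simp
      all_goals first | linear_combination (-1 : K) * det_two h | linear_combination (0 : K) * det_two h
    rw [e]
    exact mul_mem (mul_mem (hu _) (hl _)) (hu _)
  by_cases hc : g.1 1 0 = 0
  · have h1 := key (g * loSL 1) (by
      simp only [mul_val, loSL_val] <;>
      simp [Matrix.mul_apply, Fin.sum_univ_two, hc]
      intro e; simpa [hc, e] using det_two g)
    have := mul_mem h1 (inv_mem (hl 1))
    rwa [mul_inv_cancel_right] at this
  · exact key g hc

omit hf hK [Fintype K] [CharP K 3] [ExpChar K 3] in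
theorem sl_words : chevG2.neg 8 = 3 ∧ chevG2.neg 10 = 1 ∧
    certFullG2.T.checkWordMod 3 [(8, 1), (10, 1), (3, -1), (1, -1), (8, 1), (10, 1),
      (8, 1), (10, 1), (3, -1), (1, -1), (8, 1), (10, 1)] [] = true := by
  decide +kernel

/-- `SL₂` inside the centraliser of the involution. -/
theorem exists_slA : ∃ ψ : SL(2, K) →* ↥(twistedG2 K (3 ^ m)),
    (∀ t, ψ (upSL t) = uA f hf hK t) ∧
    (∀ g, ψ g * iota f hf hK = iota f hf hK * ψ g) ∧
    ψ.ker = Subgroup.center SL(2, K) ∧ iota f hf hK ∉ ψ.range := by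
  classical
  obtain ⟨n8, n10, hword⟩ := sl_words
  obtain ⟨φ8, -, h8⟩ := certFullG2.exists_sl_root (F := K) (show 8 < 12 by omega)
  obtain ⟨φ10, -, h10⟩ := certFullG2.exists_sl_root (F := K) (show 10 < 12 by omega)
  have u8 : ∀ t, φ8 (upSL t) = certFullG2.xg 8 t := fun t => (h8 _ t).1 rfl
  have l8 : ∀ t, φ8 (loSL t) = certFullG2.xg 3 t := fun t => ((h8 _ t).2 rfl).trans (by rw [n8])
  have u10 : ∀ t, φ10 (upSL t) = certFullG2.xg 10 t := fun t => (h10 _ t).1 rfl
  have l10 : ∀ t, φ10 (loSL t) = certFullG2.xg 1 t := fun t =>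
    ((h10 _ t).2 rfl).trans (by rw [n10])
  have hcomm : ∀ g h, Commute (φ8 g) (φ10 h) := by
    intro g h
    have h1 : ∀ t, g ∈ (Subgroup.centralizer {φ10 (upSL t)}).comap φ8 ∧
        g ∈ (Subgroup.centralizer {φ10 (loSL t)}).comap φ8 := fun t =>
      ⟨sl_generated (S := (Subgroup.centralizer {φ10 (upSL t)}).comap φ8) (fun s => Subgroup.mem_centralizer_singleton_iff.2 (by
          rw [u8, u10]; exact (comm_pair (Or.inl rfl) (Or.inl rfl) s t).eq))
        (fun s => Subgroup.mem_centralizer_singleton_iff.2 (by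
          rw [l8, u10]; exact (comm_pair (Or.inr rfl) (Or.inl rfl) s t).eq)) g,
       sl_generated (S := (Subgroup.centralizer {φ10 (loSL t)}).comap φ8) (fun s => Subgroup.mem_centralizer_singleton_iff.2 (by
          rw [u8, l10]; exact (comm_pair (Or.inl rfl) (Or.inr rfl) s t).eq))
        (fun s => Subgroup.mem_centralizer_singleton_iff.2 (by
          rw [l8, l10]; exact (comm_pair (Or.inr rfl) (Or.inr rfl) s t).eq)) g⟩
    have h2 : h ∈ (Subgroup.centralizer {φ8 g}).comap φ10 := sl_generated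
      (S := (Subgroup.centralizer {φ8 g}).comap φ10)
      (fun t => Subgroup.mem_centralizer_singleton_iff.2
        (Subgroup.mem_centralizer_singleton_iff.1 (h1 t).1).symm)
      (fun t => Subgroup.mem_centralizer_singleton_iff.2
        (Subgroup.mem_centralizer_singleton_iff.1 (h1 t).2).symm) h
    exact (Subgroup.mem_centralizer_singleton_iff.1 h2).symm
  let fS : SL(2, K) →* SL(2, K) := Matrix.SpecialLinearGroup.map f
  have fu : ∀ t, fS (upSL t) = upSL (f t) := fun t => by
    refine ext_two ?_ ?_ ?_ ?_ <;> simp [fS, upSL_val, Matrix.SpecialLinearGroup.map_apply_coe]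
  have fl : ∀ t, fS (loSL t) = loSL (f t) := fun t => by
    refine ext_two ?_ ?_ ?_ ?_ <;> simp [fS, loSL_val, Matrix.SpecialLinearGroup.map_apply_coe]
  let ψ0 : SL(2, K) →* GL chevG2.Idx K :=
    { toFun := fun g => φ8 (fS g) * φ10 g
      map_one' := by simp
      map_mul' := fun g h => by
        rw [map_mul, map_mul, map_mul, mul2_comm (hcomm (fS h) g).symm] }
  have up0 : ∀ t, ψ0 (upSL t) = (uA f hf hK t : GL chevG2.Idx K) := fun t => by
    show φ8 (fS (upSL t)) * φ10 (upSL t) = _
    rw [fu, u8, u10, uA_val]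
  have lo0 : ∀ t, ψ0 (loSL t) = certFullG2.xg 3 (f t) * certFullG2.xg 1 t := fun t => by
    show φ8 (fS (loSL t)) * φ10 (loSL t) = _
    rw [fl, l8, l10]
  have hG : ∀ g, ψ0 g ∈ twistedG2 K (3 ^ m) := fun g =>
    sl_generated (S := (twistedG2 K (3 ^ m)).comap ψ0)
      (fun t => by rw [Subgroup.mem_comap, up0]; exact SetLike.coe_mem _)
      (fun t => by
        rw [Subgroup.mem_comap, lo0]
        have h := class_mem' f hf neg_class (0 : K) (-t) 0 (A := 0) (B := 0) (C := f t) (E := 0)
          (U := t) (V := 0) (by simp) (by simp) (by simp) (by simp) (by simp) (by simp)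
        simpa [certFullG2.xg_zero] using h) g
  let ψ : SL(2, K) →* ↥(twistedG2 K (3 ^ m)) := ψ0.codRestrict _ hG
  have hup : ∀ t, ψ (upSL t) = uA f hf hK t := fun t => Subtype.ext (up0 t)
  set a := iota f hf hK
  have hcent : ∀ g, ψ g * a = a * ψ g := by
    intro g
    have h : g ∈ (Subgroup.centralizer {a}).comap ψ := sl_generated
      (S := (Subgroup.centralizer {a}).comap ψ)
      (fun t => Subgroup.mem_centralizer_singleton_iff.2 (by
        rw [hup]; exact (iota_comm_uA f hf hK t).symm))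
      (fun t => Subgroup.mem_centralizer_singleton_iff.2 (Subtype.ext (by
        show ψ0 (loSL t) * param f (-1) = param f (-1) * ψ0 (loSL t)
        rw [lo0]
        refine (mul_inv_eq_iff_eq_mul.1 ?_).symm
        obtain ⟨-, -, c8, -, c10, -⟩ := tchar_values (zOf f (-1))
        obtain ⟨z0, z1⟩ := zOf_neg_one f
        have e : ∀ r, r < 12 → ∀ x : K, MulAut.conj (param f (-1)) (certFullG2.xg r x) =
            certFullG2.xg r ((certFullG2.tchar (zOf f (-1)) r : K) * x) := fun r hr x =>
          certFullG2.torus_conj_xg _ hr x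
        rw [← MulAut.conj_apply, map_mul, e 3 (by omega), e 1 (by omega), ← n8, ← n10,
          certFullG2.tchar_neg _ (show 8 < 12 by omega),
          certFullG2.tchar_neg _ (show 10 < 12 by omega), c8, c10, z0, z1]
        simp))) g
    exact Subgroup.mem_centralizer_singleton_iff.1 h
  have hm1 : ∀ z : SL(2, K), (z : Matrix (Fin 2) (Fin 2) K) = -1 → ψ z = 1 := by
    intro z hz
    have e : z = upSL 1 * loSL (-1) * upSL 1 * (upSL 1 * loSL (-1) * upSL 1) := by
      refine Subtype.ext ?_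
      rw [hz]
      simp only [mul_val, upSL_val, loSL_val]
      ext i j
      fin_cases i <;> fin_cases j <;> simp [Matrix.mul_apply, Fin.sum_univ_two]
    refine Subtype.ext ?_
    show ψ0 z = (1 : GL chevG2.Idx K)
    have hw := certFullG2.word_eq_of_checkWordMod (F := K) hword
    simp only [List.map_cons, List.map_nil, List.prod_cons, List.prod_nil, mul_one] at hw
    rw [e, map_mul, map_mul, map_mul, up0, lo0, uA_val, map_one, map_neg, map_one]
    simpa [mul_assoc] using hw
  have hcen : ∀ z : SL(2, K), z ∈ Subgroup.center SL(2, K) ↔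
      ((z : Matrix (Fin 2) (Fin 2) K) = 1 ∨ (z : Matrix (Fin 2) (Fin 2) K) = -1) := by
    intro z
    rw [Matrix.SpecialLinearGroup.mem_center_iff]
    constructor
    · rintro ⟨r, hr, hz⟩
      rw [Fintype.card_fin, sq, mul_self_eq_one_iff] at hr
      rcases hr with rfl | rfl
      · left; rw [← hz]; simp
      · right; rw [← hz]; ext i j; fin_cases i <;> fin_cases j <;> simp
    · rintro (h | h)
      · exact ⟨1, by simp, by rw [h]; simp⟩
      · exact ⟨-1, by simp, by rw [h]; ext i j; fin_cases i <;> fin_cases j <;> simp⟩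
  have hlo1 : ∀ c, ψ (loSL c) ∈ UU K m → c = 0 := by
    intro c hc
    have hV : ψ0 (loSL c) ∈ chevG2.negUnipotent K := by
      rw [lo0]
      exact mul_mem (certFullG2.xg_mem_V (show 3 < 12 by omega) (fun h => absurd h.1 (by decide)) _)
        (certFullG2.xg_mem_V (show 1 < 12 by omega) (fun h => absurd h.1 (by decide)) _)
    have h1 := certFullG2.borel_inf_negUnipotent.1.le ⟨Subgroup.mem_sup_left hc, hV⟩
    have e : ψ (loSL c) = 1 := Subtype.ext (Subgroup.mem_bot.1 h1)
    have e2 : upSL (-c) = (upSL 1 * loSL (-1) * upSL 1) * loSL c *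
        (upSL 1 * loSL (-1) * upSL 1)⁻¹ := by
      rw [eq_mul_inv_iff_mul_eq]
      refine ext_two ?_ ?_ ?_ ?_ <;> simp only [mul_val, upSL_val, loSL_val] <;>
        simp [Matrix.mul_apply, Fin.sum_univ_two]
    have h3 : uA f hf hK (-c) = 1 := by
      rw [← hup, e2, map_mul, map_mul, e, mul_one, map_inv, mul_inv_cancel]
    rw [← uA_zero f hf hK] at h3
    exact neg_eq_zero.1 (uA_injective f hf hK h3)
  have hker : ψ.ker = Subgroup.center SL(2, K) := by
    refine le_antisymm (fun g hg => ?_) fun z hz => ?_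
    · rw [MonoidHom.mem_ker] at hg
      have hc : g.1 1 0 = 0 := by
        by_contra hc
        have e : loSL (g.1 1 0) = upSL (-((g.1 0 0 - 1) / g.1 1 0)) * g *
            upSL (-((g.1 1 1 - 1) / g.1 1 0)) := by
          refine ext_two ?_ ?_ ?_ ?_ <;>
            simp only [mul_val, upSL_val, loSL_val] <;>
            simp [Matrix.mul_apply, Fin.sum_univ_two, Matrix.vecMul, dotProduct]
          all_goals (try field_simp)
          all_goals first | linear_combination det_two g | linear_combination (-1 : K) * det_two g |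
            linear_combination (0 : K) * det_two g
        refine hc (hlo1 _ ?_)
        rw [e, map_mul, map_mul, hg, mul_one, hup, hup]
        exact mul_mem (uA_mem f hf hK _) (uA_mem f hf hK _)
      have hd : g.1 0 0 * g.1 1 1 = 1 := by linear_combination det_two g + g.1 0 1 * hc
      have e : g * upSL 1 = upSL (g.1 0 0 * g.1 0 0) * g := by
        refine ext_two ?_ ?_ ?_ ?_ <;> simp only [mul_val, upSL_val] <;>
          simp [Matrix.mul_apply, Fin.sum_univ_two, hc]
        linear_combination (-(g.1 0 0)) * hd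
      have h1 := congrArg ψ e
      rw [map_mul, map_mul, hg, one_mul, mul_one, hup, hup] at h1
      have h00 := uA_injective f hf hK h1
      rw [hcen]
      have h11 : g.1 1 1 = g.1 0 0 := by linear_combination (g.1 0 0) * hd + g.1 1 1 * h00
      have hb : g.1 0 1 = 0 := by
        have e3 : g * g = upSL (2 * (g.1 0 0 * g.1 0 1)) := by
          refine ext_two ?_ ?_ ?_ ?_ <;> simp only [mul_val, upSL_val] <;>
            simp [hc, h11, Matrix.mul_apply, Fin.sum_univ_two]
          all_goals first | exact h00.symm | ring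
        have h2 := congrArg ψ e3
        rw [map_mul, hg, one_mul, hup, ← uA_zero f hf hK] at h2
        have h3 := (uA_injective f hf hK h2).symm
        have h2' : (2 : K) ≠ 0 := fun e => one_ne_zero (α := K) (by
          linear_combination (three_eq_zero (K := K)) - e)
        rcases mul_eq_zero.1 h3 with h4 | h4
        · exact absurd h4 h2'
        rcases mul_eq_zero.1 h4 with h5 | h5
        · rw [h5, zero_mul] at hd; exact absurd hd zero_ne_one
        · exact h5
      rcases mul_self_eq_one_iff.1 h00.symm with e00 | e00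
      · left; ext i j; fin_cases i <;> fin_cases j <;> simp [hc, hb, h11, e00]
      · right; ext i j; fin_cases i <;> fin_cases j <;> simp [hc, hb, h11, e00]
    · rw [MonoidHom.mem_ker]
      rcases (hcen z).1 hz with h | h
      · rw [show z = 1 from Subtype.ext h, map_one]
      · exact hm1 z h
  refine ⟨ψ, hup, hcent, hker, ?_⟩
  rintro ⟨g, hg⟩
  have hz : ∀ k, g * k * g⁻¹ * k⁻¹ ∈ Subgroup.center SL(2, K) := fun k => by
    rw [← hker, MonoidHom.mem_ker, map_mul, map_mul, map_mul, map_inv, map_inv, hg, ← hcent]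
    group
  have h3 : (3 : K) = 0 := three_eq_zero
  have hfix : ∀ k : SL(2, K), k.1 0 0 + k.1 1 1 = 2 → g * k = k * g := by
    intro k hk
    rcases (hcen _).1 (hz k) with h | h
    · have h' : g * k * g⁻¹ * k⁻¹ = 1 := Subtype.ext h
      rw [mul_inv_eq_one, mul_inv_eq_iff_eq_mul] at h'
      exact h'
    · exfalso
      have e : (g * k).1 = -(k * g).1 := by
        rw [show g * k = (g * k * g⁻¹ * k⁻¹) * (k * g) by group, mul_val, h, neg_mul, one_mul]
      have e00 := congrFun (congrFun e 0) 0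
      have e11 := congrFun (congrFun e 1) 1
      have e01 := congrFun (congrFun e 0) 1
      have e10 := congrFun (congrFun e 1) 0
      simp only [mul_val, Matrix.mul_apply, Fin.sum_univ_two, Matrix.neg_apply] at e00 e11 e01 e10
      have key : k.1 0 0 + k.1 1 1 = -(k.1 0 0 + k.1 1 1) := by
        linear_combination g.1 1 1 * e00 + g.1 0 0 * e11 - g.1 1 0 * e01 - g.1 0 1 * e10 -
          (2 * (k.1 0 0 + k.1 1 1)) * det_two g
      rw [hk] at key
      exact one_ne_zero (α := K) (by linear_combination key - h3)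
  have eu := congrArg Subtype.val (hfix (upSL 1) (by simp [upSL_val]; norm_num))
  have el := congrArg Subtype.val (hfix (loSL 1) (by simp [loSL_val]; norm_num))
  have hc : g.1 1 0 = 0 := by
    have := congrFun (congrFun eu 0) 0
    simpa [mul_val, upSL_val, Matrix.mul_apply, Fin.sum_univ_two] using this
  have hd : g.1 0 1 = 0 := by
    have := congrFun (congrFun el 0) 0
    simpa [mul_val, loSL_val, Matrix.mul_apply, Fin.sum_univ_two] using this
  have h01 : g.1 0 0 = g.1 1 1 := by
    have := congrFun (congrFun eu 0) 1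
    simpa [mul_val, upSL_val, Matrix.mul_apply, Fin.sum_univ_two, hd] using this
  have h00 : g.1 0 0 * g.1 0 0 = 1 := by
    linear_combination det_two g + g.1 1 0 * hd + g.1 0 0 * h01
  refine iota_ne_one f hf hK (hg.symm.trans (MonoidHom.mem_ker.1 (hker.ge ((hcen g).2 ?_))))
  rcases mul_self_eq_one_iff.1 h00 with e | e
  · left; ext i j; fin_cases i <;> fin_cases j <;> simp [hc, hd, ← h01, e]
  · right; ext i j; fin_cases i <;> fin_cases j <;> simp [hc, hd, ← h01, e]

theorem centralizer_iota_iso : Nonempty (↥(Subgroup.centralizer {iota f hf hK}) ≃*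
    Multiplicative (ZMod 2) × Matrix.ProjectiveSpecialLinearGroup (Fin 2) K) := by
  classical
  obtain ⟨ψ, -, hcent, hker, hnot⟩ := exists_slA f hf hK
  set a := iota f hf hK
  set C := Subgroup.centralizer {a}
  have ha : a ∈ C := Subgroup.mem_centralizer_singleton_iff.2 rfl
  let χ : Matrix.ProjectiveSpecialLinearGroup (Fin 2) K →* ↥C :=
    QuotientGroup.lift _ (ψ.codRestrict C fun g => Subgroup.mem_centralizer_singleton_iff.2 (hcent g))
      (fun z hz => MonoidHom.mem_ker.2 (Subtype.ext (MonoidHom.mem_ker.1 (hker.ge hz))))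
  have hχinj : Function.Injective χ := by
    rw [injective_iff_map_eq_one]
    intro x hx
    obtain ⟨g, rfl⟩ := QuotientGroup.mk_surjective x
    rw [QuotientGroup.eq_one_iff, ← hker, MonoidHom.mem_ker]
    exact congrArg Subtype.val hx
  let ζ : Multiplicative (ZMod 2) →* ↥C :=
    { toFun := fun z => if z.toAdd = 0 then 1 else ⟨a, ha⟩
      map_one' := by simp
      map_mul' := fun x y => by
        have h2 : ∀ z : ZMod 2, z = 0 ∨ z = 1 := by decide
        obtain ⟨x', rfl⟩ := Multiplicative.ofAdd.surjective x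
        obtain ⟨y', rfl⟩ := Multiplicative.ofAdd.surjective y
        rcases h2 x' with rfl | rfl <;> rcases h2 y' with rfl | rfl <;>
          simp [show (1 : ZMod 2) + 1 = 0 by decide, Subtype.ext_iff, a, iota_sq] }
  have hcm : ∀ z x, Commute (ζ z) (χ x) := by
    intro z x
    obtain ⟨g, rfl⟩ := QuotientGroup.mk_surjective x
    show ζ z * _ = _ * ζ z
    simp only [ζ, MonoidHom.coe_mk, OneHom.coe_mk]
    split_ifs
    · simp
    · exact Subtype.ext (hcent g).symm
  let Θ := ζ.noncommCoprod χ hcm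
  have hΘ : Function.Injective Θ := by
    rw [injective_iff_map_eq_one]
    rintro ⟨z, x⟩ hzx
    rw [MonoidHom.noncommCoprod_apply] at hzx
    obtain ⟨g, rfl⟩ := QuotientGroup.mk_surjective x
    by_cases hz : z.toAdd = 0
    · have hz1 : z = 1 := hz
      rw [hz1, map_one, one_mul, ← map_one χ] at hzx
      have hx := hχinj hzx
      simp only at hx
      rw [hz1, hx]
      rfl
    · exfalso
      refine hnot ⟨g⁻¹, ?_⟩
      have e : a * ψ g = 1 := by
        simp only [ζ, MonoidHom.coe_mk, OneHom.coe_mk, if_neg hz] at hzx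
        exact congrArg Subtype.val hzx
      rw [map_inv, inv_eq_iff_mul_eq_one, hcent g, e]
  have hq : Fintype.card K % 2 = 1 := by
    rw [hK]; exact Nat.odd_iff.1 ((by decide : Odd 3).pow)
  have h3 : (3 : K) = 0 := three_eq_zero
  have hne : (-1 : Matrix (Fin 2) (Fin 2) K) ≠ 1 := fun e => by
    have := congrFun (congrFun e 0) 0
    simp at this
    exact one_ne_zero (α := K) (by linear_combination h3 + this)
  have hcc : Nat.card (Subgroup.center SL(2, K)) = 2 := by
    have e : (Subgroup.center SL(2, K) : Set SL(2, K)) =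
        {1, ⟨-1, by simp [Matrix.det_fin_two]⟩} := by
      ext z
      rw [SetLike.mem_coe, Matrix.SpecialLinearGroup.mem_center_iff]
      constructor
      · rintro ⟨r, hr, hz⟩
        rw [Fintype.card_fin, sq, mul_self_eq_one_iff] at hr
        rcases hr with rfl | rfl
        · left; exact Subtype.ext (by rw [← hz]; simp)
        · right; exact Subtype.ext (by rw [← hz]; ext i j; fin_cases i <;> fin_cases j <;> simp)
      · rintro (rfl | rfl)
        · exact ⟨1, by simp, by simp⟩
        · exact ⟨-1, by simp, by ext i j; fin_cases i <;> fin_cases j <;> simp⟩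
    rw [← SetLike.coe_sort_coe, e, Nat.card_coe_set_eq]
    exact Set.ncard_pair fun h => hne (congrArg Subtype.val h).symm
  have hcard : Nat.card (Multiplicative (ZMod 2) × Matrix.ProjectiveSpecialLinearGroup (Fin 2) K) =
      Nat.card ↥C := by
    rw [Nat.card_prod, card_centralizer_iota f hf hK,
      show Nat.card (Multiplicative (ZMod 2)) = 2 from Nat.card_zmod 2]
    have h1 := Subgroup.card_eq_card_quotient_mul_card_subgroup (Subgroup.center SL(2, K))
    rw [hcc, Fus.PSLTwo.natCard_SL_two, hK, mul_comm _ 2, ← mul_assoc] at h1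
    exact h1.symm
  exact ⟨(MulEquiv.ofBijective Θ ((Nat.bijective_iff_injective_and_card Θ).2 ⟨hΘ, hcard⟩)).symm⟩

theorem card_sylow_two (S : Sylow 2 ↥(twistedG2 K (3 ^ m))) : Nat.card S = 8 := by
  haveI : Fact (Nat.Prime 2) := ⟨Nat.prime_two⟩
  rw [S.card_eq_multiplicity, card_group f hf hK]
  have key : ∀ k : ℕ, 3 ^ (2 * k + 1) % 8 = 3 := fun k => by
    rw [pow_succ, pow_mul, Nat.mul_mod, Nat.pow_mod]; norm_num
  have hq := key m
  have hq3 : (3 ^ (2 * m + 1)) ^ 3 % 8 = 3 := by
    rw [Nat.pow_mod, hq]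
  obtain ⟨A, hA, hAodd⟩ : ∃ A, 3 ^ (2 * m + 1) - 1 = 2 * A ∧ ¬ 2 ∣ A :=
    ⟨(3 ^ (2 * m + 1) - 1) / 2, by omega, by omega⟩
  obtain ⟨B, hB, hBodd⟩ : ∃ B, (3 ^ (2 * m + 1)) ^ 3 + 1 = 4 * B ∧ ¬ 2 ∣ B :=
    ⟨((3 ^ (2 * m + 1)) ^ 3 + 1) / 4, by omega, by omega⟩
  have hC : ¬ 2 ∣ (3 ^ (2 * m + 1)) ^ 3 := by omega
  rw [hA, hB, show (3 ^ (2 * m + 1)) ^ 3 * (2 * A) * (4 * B) =
    2 ^ 3 * ((3 ^ (2 * m + 1)) ^ 3 * A * B) by ring,
    Nat.factorization_mul (by norm_num) (mul_ne_zero (mul_ne_zero (by positivity) (by omega)) (by omega)),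
    Finsupp.add_apply, Nat.prime_two.factorization_pow, Finsupp.single_eq_same,
    Nat.factorization_eq_zero_of_not_dvd]
  · rfl
  · intro h
    rcases Nat.prime_two.dvd_mul.1 h with h | h
    · rcases Nat.prime_two.dvd_mul.1 h with h | h
      · exact hC h
      · exact hAodd h
    · exact hBodd h

theorem sylow_two_exponent (S : Sylow 2 ↥(twistedG2 K (3 ^ m))) : ∀ x ∈ S, x * x = 1 := by
  haveI : Fact (Nat.Prime 2) := ⟨Nat.prime_two⟩
  haveI : Fact (Nat.Prime 3) := ⟨Nat.prime_three⟩
  obtain ⟨e⟩ := centralizer_iota_iso f hf hK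
  set C := Subgroup.centralizer {iota f hf hK}
  have hsq : ∀ x : ↥C, orderOf x ∣ 8 → x * x = 1 := by
    intro x hx
    refine e.injective ?_
    rw [map_mul, map_one]
    refine Prod.ext ?_ ?_
    · exact Multiplicative.toAdd.injective (CharTwo.add_self_eq_zero (Multiplicative.toAdd (e x).1))
    · set y := (e x).2
      have hy : orderOf y ∣ 8 := (orderOf_map_dvd (MonoidHom.snd _ _) (e x)).trans
        (e.orderOf_eq x ▸ hx)
      show y * y = 1
      rw [← sq, ← orderOf_dvd_iff_pow_eq_one]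
      have h4 : 3 ^ (2 * m + 1) % 8 = 3 := by
        rw [pow_succ, pow_mul, Nat.mul_mod, Nat.pow_mod]; norm_num
      have hd : PSL2Spec.dd K = 2 := by
        rw [PSL2Spec.dd, hK]; exact Nat.gcd_eq_left (by omega)
      have hg : ∀ k, ¬ 4 ∣ k → orderOf y ∣ k → orderOf y ∣ 2 := by
        intro k h4k hk
        obtain ⟨i, hi, e'⟩ := (Nat.dvd_prime_pow Nat.prime_two).1 (show orderOf y ∣ 2 ^ 3 from hy)
        rw [e'] at hk ⊢
        have : i ≤ 1 := by
          by_contra hlt
          exact h4k ((pow_dvd_pow 2 (show 2 ≤ i by omega)).trans hk)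
        exact (pow_dvd_pow 2 this).trans (by rw [pow_one])
      rcases PSL2Spec.order_dvd (F := K) 3 y with h | h | h
      · exact hg 3 (by omega) h
      · rw [hd, hK] at h; exact hg _ (by omega) h
      · rw [hd, hK] at h; exact hg _ (by omega) h
  intro x hx
  -- a Sylow 2-subgroup of the centraliser is one of the whole group
  have h8 : 2 ^ 3 ∣ Nat.card ↥C := by
    rw [card_centralizer_iota f hf hK]
    have h4 : 3 ^ (2 * m + 1) % 8 = 3 := by
      rw [pow_succ, pow_mul, Nat.mul_mod, Nat.pow_mod]; norm_num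
    obtain ⟨A, hA⟩ : 2 ∣ 3 ^ (2 * m + 1) - 1 := by omega
    obtain ⟨B, hB⟩ : 4 ∣ 3 ^ (2 * m + 1) + 1 := by omega
    exact ⟨3 ^ (2 * m + 1) * A * B, by rw [hA, hB]; ring⟩
  obtain ⟨T, hT⟩ := Sylow.exists_subgroup_card_pow_prime 2 h8
  have hT8 : Nat.card (T.map C.subtype) = 8 := by
    rw [Subgroup.card_map_of_injective C.subtype_injective, hT]
    rfl
  let Q : Sylow 2 ↥(twistedG2 K (3 ^ m)) :=
    Sylow.ofCard (T.map C.subtype) (by rw [← card_sylow_two f hf hK S, S.card_eq_multiplicity] at hT8; exact hT8)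
  obtain ⟨g, hg⟩ := MulAction.exists_smul_eq ↥(twistedG2 K (3 ^ m)) Q S
  rw [← hg] at hx
  obtain ⟨y, hy, rfl⟩ := hx
  obtain ⟨t, ht, rfl⟩ := (hy : y ∈ T.map C.subtype)
  have h1 : t * t = 1 := hsq t (by
    have := Subgroup.orderOf_dvd_natCard T ht
    rwa [hT] at this)
  have h2 : C.subtype t * C.subtype t = 1 := by rw [← map_mul, h1, map_one]
  show g * C.subtype t * g⁻¹ * (g * C.subtype t * g⁻¹) = 1
  rw [show g * C.subtype t * g⁻¹ * (g * C.subtype t * g⁻¹) = g * (C.subtype t * C.subtype t) * g⁻¹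
    by group, h2, mul_one, mul_inv_cancel]

end Cfsg.Agent.Lie.Chev.G2
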