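import Cfsg.Agent.Lib.Lie.Chev.ReeFusion

/-! The smallest degree of a non-trivial complex representation of a small Ree group: the
characters of the elementary abelian part of the unipotent group that are non-trivial on its
centre form one orbit, and the Sylow 2-subgroups exclude the extreme case. -/

set_option autoImplicit false
set_option maxRecDepth 4000

namespace Cfsg.Agent.Lie.Chev.G2

open Cfsg.Lie

variable {K : Type*} [Field K] (f : K →+* K) [CharP K 3] [ExpChar K 3]
variable [Fintype K] {m : ℕ} (hf : ∀ t, f t = t ^ 3 ^ m) (hK : Fintype.card K = 3 ^ (2 * m + 1))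

include hf hK

local notation "G₁" => twistedG2 K (3 ^ m)

/-- An element of the elementary abelian part. -/
noncomputable def uE (x : K × K) : ↥G₁ := uW f hf hK (0, x.1, x.2)

theorem uE_val (x : K × K) : (uE f hf hK x : GL chevG2.Idx K) =
    certFullG2.xg 8 (f x.1) * certFullG2.xg 9 (f x.2) *
      (certFullG2.xg 10 x.1 * certFullG2.xg 11 x.2) := by
  show ((reeWordU (3 ^ m) (0 : K) x.1 x.2).map fun p => certFullG2.xg p.1 p.2).prod = _
  simp [word_eq f hf, certFullG2.xg_zero]

theorem uE_add (x y : K × K) : uE f hf hK (x + y) = uE f hf hK x * uE f hf hK y := by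
  refine Subtype.ext ?_
  rw [Subgroup.coe_mul, uE_val, uE_val, uE_val, Prod.fst_add, Prod.snd_add, map_add, map_add,
    certFullG2.xg_add, certFullG2.xg_add, certFullG2.xg_add, certFullG2.xg_add]
  have hc := fun {i j : ℕ} (hi : i ∈ [8, 9, 10, 11]) (hj : j ∈ [8, 9, 10, 11]) (a b : K) =>
    class_commute (K := K) pos_class hi hj a b
  have h98 := hc (i := 9) (j := 8) (by simp) (by simp) (f x.2) (f y.1)
  have h108 := hc (i := 10) (j := 8) (by simp) (by simp) x.1 (f y.1)
  have h118 := hc (i := 11) (j := 8) (by simp) (by simp) x.2 (f y.1)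
  have h109 := hc (i := 10) (j := 9) (by simp) (by simp) x.1 (f y.2)
  have h119 := hc (i := 11) (j := 9) (by simp) (by simp) x.2 (f y.2)
  have h1110 := hc (i := 11) (j := 10) (by simp) (by simp) x.2 y.1
  simp only [mul_assoc]
  simp only [h98.left_comm, h108.left_comm, h118.left_comm, h109.left_comm, h119.left_comm,
    h1110.left_comm]

theorem uE_zero : uE f hf hK 0 = 1 := uW_zero f hf hK

theorem uE_injective : Function.Injective (uE f hf hK) := fun x y e => by
  have := uW_injective f hf hK e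
  simp only [Prod.mk.injEq] at this
  exact Prod.ext this.2.1 this.2.2

theorem shear (t : K) (x : K × K) :
    (uW f hf hK (t, 0, 0))⁻¹ * uE f hf hK x * uW f hf hK (t, 0, 0) =
      uE f hf hK (x.1, x.2 - t * x.1) := by
  refine Subtype.ext ?_
  rw [Subgroup.coe_mul, Subgroup.coe_mul, Subgroup.coe_inv, uE_val, uE_val,
    show (uW f hf hK (t, 0, 0) : GL chevG2.Idx K) =
      ((reeWordU (3 ^ m) t 0 0).map fun p => certFullG2.xg p.1 p.2).prod from rfl,
    word_eq f hf]
  simp only [map_zero, add_zero, certFullG2.xg_zero, mul_one]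
  set C := certFullG2.xg 8 (f x.1) * certFullG2.xg 9 (f x.2) *
    (certFullG2.xg 10 x.1 * certFullG2.xg 11 x.2) with hC
  set X7 := certFullG2.xg 7 (f t)
  set X6 := certFullG2.xg 6 t
  set W := certFullG2.xg 8 (f t * t) * certFullG2.xg 9 (f t ^ 2 * t)
  obtain ⟨h7, h6⟩ := upper_past (f x.1) (f x.2) x.1 x.2 t (f t)
  obtain ⟨-, c69⟩ : True ∧ certFullG2.T.commTerms 6 9 = [] := ⟨trivial, more_comm.2.2.2.2.2.1⟩
  have h96 : Commute (certFullG2.xg 9 (2 * (f t * f x.1))) X6 :=
    (certFullG2.xg_commute (show 6 < 12 by omega) (show 9 < 12 by omega) (by omega)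
      (by rw [show chevG2.neg 6 = 5 from certFullG2.neg_eq (by show _ < 12; omega)]; omega)
      c69 t _).symm
  have hc := fun {i j : ℕ} (hi : i ∈ [8, 9, 10, 11]) (hj : j ∈ [8, 9, 10, 11]) (a b : K) =>
    class_commute (K := K) pos_class hi hj a b
  set D := certFullG2.xg 11 (-(t * x.1)) * certFullG2.xg 9 (2 * (f t * f x.1)) with hD
  have hCxy : C * (X7 * X6) = X7 * X6 * (C * D) := by
    rw [← mul_assoc, h7, mul_assoc (X7 * C), h96.eq, ← mul_assoc, mul_assoc X7 C, h6, hD]
    simp only [← hC, mul_assoc]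
    rfl
  have hWC : Commute (C * D) W := by
    rw [hC, hD]
    exact ((((hc (by simp) (by simp) _ _).mul_right (hc (by simp) (by simp) _ _)).mul_left
      ((hc (by simp) (by simp) _ _).mul_right (hc (by simp) (by simp) _ _))).mul_left
      (((hc (by simp) (by simp) _ _).mul_right (hc (by simp) (by simp) _ _)).mul_left
      ((hc (by simp) (by simp) _ _).mul_right (hc (by simp) (by simp) _ _)))).mul_left
      (((hc (by simp) (by simp) _ _).mul_right (hc (by simp) (by simp) _ _)).mul_left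
      ((hc (by simp) (by simp) _ _).mul_right (hc (by simp) (by simp) _ _)))
  have e : (X7 * X6 * W)⁻¹ * C * (X7 * X6 * W) = C * D := by
    calc (X7 * X6 * W)⁻¹ * C * (X7 * X6 * W)
        = W⁻¹ * (X7 * X6)⁻¹ * (C * (X7 * X6)) * W := by group
      _ = W⁻¹ * ((C * D) * W) := by rw [hCxy]; group
      _ = C * D := by rw [hWC.eq, inv_mul_cancel_left]
  rw [e, hC, hD, map_sub, map_mul]
  have e9 : f x.2 - f t * f x.1 = f x.2 + 2 * (f t * f x.1) := by
    linear_combination -(f t * f x.1) * three_eq_zero (K := K)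
  rw [e9, sub_eq_add_neg x.2, certFullG2.xg_add, certFullG2.xg_add]
  have h109 := hc (i := 10) (j := 9) (by simp) (by simp) x.1 (2 * (f t * f x.1))
  have h119 := hc (i := 11) (j := 9) (by simp) (by simp) x.2 (2 * (f t * f x.1))
  have h119' := hc (i := 11) (j := 9) (by simp) (by simp) (-(t * x.1)) (2 * (f t * f x.1))
  simp only [mul_assoc]
  rw [h119'.eq]
  simp only [h109.left_comm, h119.left_comm]

/-- The weight of the torus on the second coordinate. -/
noncomputable def wu (y : Kˣ) : Kˣ := certFullG2.tchar (zOf f y) 10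

theorem hP_conj_uE (y : Kˣ) (x : K × K) :
    hP f hf hK y * uE f hf hK x * (hP f hf hK y)⁻¹ =
      uE f hf hK ((wu f y : K) * x.1, (y : K) * x.2) := by
  refine Subtype.ext ?_
  rw [Subgroup.coe_mul, Subgroup.coe_mul, Subgroup.coe_inv, uE_val, uE_val,
    show (hP f hf hK y : GL chevG2.Idx K) = param f y from rfl]
  obtain ⟨-, -, c8, c9, c10, c11⟩ := tchar_values (zOf f y)
  rw [(zOf_apply f y).1, (zOf_apply f y).2] at c8 c10
  rw [(zOf_apply f y).1] at c9
  rw [(zOf_apply f y).2] at c11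
  have e : ∀ r, r < 12 → ∀ z : K, MulAut.conj (param f y) (certFullG2.xg r z) =
      certFullG2.xg r ((certFullG2.tchar (zOf f y) r : K) * z) := fun r hr z =>
    certFullG2.torus_conj_xg _ hr z
  rw [← MulAut.conj_apply]
  simp only [map_mul, e 8 (by omega), e 9 (by omega), e 10 (by omega), e 11 (by omega)]
  have h8 : ((certFullG2.tchar (zOf f y) 8 : Kˣ) : K) = f (wu f y : K) := by
    rw [wu, c8, c10]
    simp only [Units.val_mul, Units.val_inv_eq_inv_val, Units.coe_map, MonoidHom.coe_coe, map_mul,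
      map_inv₀]
    rw [show f (f (y : K)) * f (f (y : K)) * f (f (y : K)) = f (f (y : K)) ^ 3 by ring,
      ff_cube f hf hK]
  rw [h8, c9, c11]
  simp [wu]

section Rep

variable {V : Type*} [AddCommGroup V] [Module ℂ V] [FiniteDimensional ℂ V]
  (ρ : ↥(twistedG2 K (3 ^ m)) →* Module.End ℂ V) (ψ : AddChar K ℂ) (hψ : ψ ≠ 1)

/-- The projection to an eigenspace of the elementary abelian part. -/
noncomputable def eproj (c : K × K) : Module.End ℂ V :=
  (Fintype.card (K × K) : ℂ)⁻¹ •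
    ∑ x : K × K, ψ (-(c.1 * x.1 + c.2 * x.2)) • ρ (uE f hf hK x)

theorem rho_mul_eproj (a c : K × K) :
    ρ (uE f hf hK a) * eproj f hf hK ρ ψ c =
      ψ (c.1 * a.1 + c.2 * a.2) • eproj f hf hK ρ ψ c := by
  classical
  rw [eproj, mul_smul_comm, smul_comm (ψ (c.1 * a.1 + c.2 * a.2) : ℂ)
    ((Fintype.card (K × K) : ℂ)⁻¹)]
  congr 1
  rw [Finset.mul_sum, Finset.smul_sum]
  refine Fintype.sum_equiv (Equiv.addLeft a) _ _ fun b => ?_
  simp only [Equiv.coe_addLeft]
  rw [mul_smul_comm, ← map_mul, ← uE_add, smul_smul, ← AddChar.map_add_eq_mul]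
  congr 2
  simp only [Prod.fst_add, Prod.snd_add]
  ring

include hψ

theorem eproj_mul (c d : K × K) [Decidable (c = d)] :
    eproj f hf hK ρ ψ c * eproj f hf hK ρ ψ d = if c = d then eproj f hf hK ρ ψ d else 0 := by
  classical
  have hprim : ψ.IsPrimitive := AddChar.IsPrimitive.of_ne_one hψ
  conv_lhs => lhs; rw [eproj]
  rw [smul_mul_assoc, Finset.sum_mul]
  simp only [smul_mul_assoc, rho_mul_eproj, smul_smul, ← AddChar.map_add_eq_mul, ← Finset.sum_smul]
  have hsum : ∑ x : K × K, ψ (-(c.1 * x.1 + c.2 * x.2) + (d.1 * x.1 + d.2 * x.2)) =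
      if c = d then (Fintype.card (K × K) : ℂ) else 0 := by
    rw [Fintype.sum_prod_type]
    simp only [show ∀ u v : K, -(c.1 * u + c.2 * v) + (d.1 * u + d.2 * v) =
      u * (d.1 - c.1) + v * (d.2 - c.2) from fun u v => by ring, AddChar.map_add_eq_mul]
    rw [← Finset.sum_mul_sum, AddChar.sum_mulShift _ hprim, AddChar.sum_mulShift _ hprim,
      Fintype.card_prod]
    by_cases h : c = d
    · subst h
      simp
    · rw [if_neg h]
      rcases not_and_or.1 (fun hh => h (Prod.ext hh.1 hh.2)) with h1 | h1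
      · rw [if_neg (sub_ne_zero.2 (Ne.symm h1))]; simp
      · rw [if_neg (sub_ne_zero.2 (Ne.symm h1))]; simp
  rw [hsum]
  by_cases h : c = d
  · rw [if_pos h, if_pos h, inv_mul_cancel₀ (Nat.cast_ne_zero.2 Fintype.card_ne_zero), one_smul]
  · rw [if_neg h, if_neg h, mul_zero, zero_smul]

theorem sum_eproj : ∑ c : K × K, eproj f hf hK ρ ψ c = 1 := by
  classical
  have hprim : ψ.IsPrimitive := AddChar.IsPrimitive.of_ne_one hψ
  simp only [eproj, ← Finset.smul_sum]
  rw [Finset.sum_comm]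
  simp only [← Finset.sum_smul]
  have hsum : ∀ x : K × K, ∑ c : K × K, ψ (-(c.1 * x.1 + c.2 * x.2)) =
      if x = 0 then (Fintype.card (K × K) : ℂ) else 0 := by
    intro x
    rw [Fintype.sum_prod_type]
    simp only [show ∀ a b : K, -(a * x.1 + b * x.2) = a * (-x.1) + b * (-x.2) from
      fun a b => by ring, AddChar.map_add_eq_mul]
    rw [← Finset.sum_mul_sum, AddChar.sum_mulShift _ hprim, AddChar.sum_mulShift _ hprim,
      Fintype.card_prod]
    by_cases h : x = 0
    · subst h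
      simp
    · rw [if_neg h]
      rcases not_and_or.1 (fun hh => h (Prod.ext hh.1 hh.2)) with h1 | h1
      · rw [if_neg (neg_ne_zero.2 h1)]; simp
      · rw [if_neg (neg_ne_zero.2 h1)]; simp
  simp only [hsum, ite_smul, zero_smul, Finset.sum_ite_eq', Finset.mem_univ, if_true]
  rw [uE_zero, map_one, smul_smul, inv_mul_cancel₀ (Nat.cast_ne_zero.2 Fintype.card_ne_zero),
    one_smul]

omit hψ in
theorem eproj_conj {g : ↥G₁} (L : K × K ≃ K × K)
    (hg : ∀ x, g * uE f hf hK x * g⁻¹ = uE f hf hK (L x)) {c c' : K × K}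
    (hc : ∀ x, c.1 * x.1 + c.2 * x.2 = c'.1 * (L x).1 + c'.2 * (L x).2) :
    ρ g * eproj f hf hK ρ ψ c * ρ g⁻¹ = eproj f hf hK ρ ψ c' := by
  rw [eproj, mul_smul_comm, smul_mul_assoc, Finset.mul_sum, Finset.sum_mul, eproj]
  congr 1
  refine Fintype.sum_equiv L _ _ fun b => ?_
  rw [mul_smul_comm, smul_mul_assoc, ← map_mul, ← map_mul, hg, hc]

/-- The dimension of an eigenspace. -/
noncomputable def emult (c : K × K) : ℕ :=
  Module.finrank ℂ (LinearMap.range (eproj f hf hK ρ ψ c))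

theorem trace_eproj (c : K × K) :
    LinearMap.trace ℂ V (eproj f hf hK ρ ψ c) = (emult f hf hK ρ ψ c : ℂ) := by
  classical
  refine LinearMap.IsProj.trace ⟨fun x => LinearMap.mem_range_self _ x, ?_⟩
  rintro x ⟨y, rfl⟩
  exact DFunLike.congr_fun ((eproj_mul f hf hK ρ ψ hψ c c).trans (if_pos rfl)) y

theorem emult_conj {g : ↥G₁} (L : K × K ≃ K × K)
    (hg : ∀ x, g * uE f hf hK x * g⁻¹ = uE f hf hK (L x)) {c c' : K × K}
    (hc : ∀ x, c.1 * x.1 + c.2 * x.2 = c'.1 * (L x).1 + c'.2 * (L x).2) :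
    emult f hf hK ρ ψ c = emult f hf hK ρ ψ c' := by
  have h : LinearMap.trace ℂ V (eproj f hf hK ρ ψ c') =
      LinearMap.trace ℂ V (eproj f hf hK ρ ψ c) := by
    rw [← eproj_conj f hf hK ρ ψ L hg hc, LinearMap.trace_mul_comm, ← mul_assoc, ← map_mul,
      inv_mul_cancel, map_one, one_mul]
  rw [trace_eproj f hf hK ρ ψ hψ, trace_eproj f hf hK ρ ψ hψ] at h
  exact_mod_cast h.symm

theorem emult_orbit {c : K × K} (hc : c.2 ≠ 0) :
    emult f hf hK ρ ψ c = emult f hf hK ρ ψ (0, 1) := by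
  -- shear to the second axis
  have h1 : emult f hf hK ρ ψ c = emult f hf hK ρ ψ (0, c.2) := by
    set t : K := -c.1 / c.2 with ht
    let L : K × K ≃ K × K :=
      { toFun := fun x => (x.1, x.2 - t * x.1)
        invFun := fun x => (x.1, x.2 + t * x.1)
        left_inv := fun x => Prod.ext rfl (by show x.2 - t * x.1 + t * x.1 = x.2; ring)
        right_inv := fun x => Prod.ext rfl (by show x.2 + t * x.1 - t * x.1 = x.2; ring) }
    refine emult_conj f hf hK ρ ψ hψ (g := (uW f hf hK (t, 0, 0))⁻¹) L (fun x => ?_) fun x => ?_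
    · rw [inv_inv]; exact shear f hf hK t x
    · show c.1 * x.1 + c.2 * x.2 = 0 * x.1 + c.2 * (x.2 - t * x.1)
      rw [ht]
      field_simp
      ring
  rw [h1]
  set y : Kˣ := Units.mk0 c.2 hc with hy
  let L : K × K ≃ K × K :=
    { toFun := fun x => ((wu f y : K) * x.1, (y : K) * x.2)
      invFun := fun x => (((wu f y)⁻¹ : Kˣ) * x.1, ((y⁻¹ : Kˣ) : K) * x.2)
      left_inv := fun x => Prod.ext (Units.inv_mul_cancel_left _ _) (Units.inv_mul_cancel_left _ _)
      right_inv := fun x => Prod.ext (Units.mul_inv_cancel_left _ _) (Units.mul_inv_cancel_left _ _) }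
  refine emult_conj f hf hK ρ ψ hψ L (fun x => hP_conj_uE f hf hK y x) fun x => ?_
  show 0 * x.1 + c.2 * x.2 = 0 * ((wu f y : K) * x.1) + 1 * ((y : K) * x.2)
  rw [hy, Units.val_mk0]
  ring

theorem sum_emult : ∑ c : K × K, emult f hf hK ρ ψ c = Module.finrank ℂ V := by
  have h := congrArg (LinearMap.trace ℂ V) (sum_eproj f hf hK ρ ψ hψ)
  rw [map_sum, LinearMap.trace_one,
    Finset.sum_congr rfl fun c _ => trace_eproj f hf hK ρ ψ hψ c] at h
  exact_mod_cast h

/-- The lower bound from the unipotent part, with what equality forces. -/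
theorem emult_bound (hm : 1 ≤ m) (hρ : ∃ g, ρ g ≠ 1) :
    Fintype.card K * (Fintype.card K - 1) ≤ Module.finrank ℂ V ∧
      (Module.finrank ℂ V ≤ Fintype.card K * (Fintype.card K - 1) →
        ∀ a : K, eproj f hf hK ρ ψ (a, 0) = 0) := by
  classical
  set M := emult f hf hK ρ ψ (0, 1) with hM
  set s := Finset.univ.filter fun c : K × K => c.2 ≠ 0 with hs
  set s' := Finset.univ.filter fun c : K × K => ¬ c.2 ≠ 0 with hs'
  have hscard : s.card = Fintype.card K * (Fintype.card K - 1) := by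
    have e : s = (Finset.univ : Finset K) ×ˢ (Finset.univ.erase (0 : K)) := by
      ext c
      simp [hs]
    rw [e, Finset.card_product, Finset.card_univ, Finset.card_erase_of_mem (Finset.mem_univ _),
      Finset.card_univ]
  have hzero : ∀ c, emult f hf hK ρ ψ c = 0 → eproj f hf hK ρ ψ c = 0 := fun c h => by
    rw [← LinearMap.range_eq_bot, ← Submodule.finrank_eq_zero]
    exact h
  have hsplit : (∑ c ∈ s', emult f hf hK ρ ψ c) + s.card * M = Module.finrank ℂ V := by
    rw [← sum_emult f hf hK ρ ψ hψ, ← Finset.sum_filter_not_add_sum_filter Finset.univ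
      fun c : K × K => c.2 ≠ 0]
    congr 1
    rw [Finset.sum_congr rfl fun c hc =>
      emult_orbit f hf hK ρ ψ hψ (c := c) (Finset.mem_filter.1 hc).2, Finset.sum_const, smul_eq_mul]
  have hM0 : M ≠ 0 := by
    intro h0
    have hker : ∀ v : K, ρ (uE f hf hK (0, v)) = 1 := fun v => by
      have h := congrArg (fun X => ρ (uE f hf hK (0, v)) * X) (sum_eproj f hf hK ρ ψ hψ)
      simp only [mul_one, Finset.mul_sum, rho_mul_eproj] at h
      rw [← h, ← sum_eproj f hf hK ρ ψ hψ]
      refine Finset.sum_congr rfl fun c _ => ?_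
      by_cases hc : c.2 = 0
      · rw [hc, mul_zero, zero_mul, add_zero, AddChar.map_zero_eq_one, one_smul]
      · rw [hzero c ((emult_orbit f hf hK ρ ψ hψ hc).trans h0), smul_zero]
    obtain ⟨g, hg⟩ := hρ
    haveI := (simple f hf hK hm).1
    rcases Subgroup.Normal.eq_bot_or_eq_top (H := ρ.ker) (MonoidHom.normal_ker ρ) with e | e
    · have h1 : uE f hf hK (0, 1) ∈ ρ.ker := hker 1
      rw [e, Subgroup.mem_bot, ← uE_zero f hf hK] at h1
      exact one_ne_zero (α := K) (congrArg Prod.snd (uE_injective f hf hK h1))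
    · exact hg (MonoidHom.mem_ker.1 (e ▸ Subgroup.mem_top g))
  have hM1 : s.card * 1 ≤ s.card * M := Nat.mul_le_mul_left _ (Nat.pos_of_ne_zero hM0)
  rw [mul_one] at hM1
  refine ⟨by omega, fun hle a => hzero _ ?_⟩
  have hsum : ∑ c ∈ s', emult f hf hK ρ ψ c = 0 := by omega
  exact Finset.sum_eq_zero_iff.1 hsum (a, 0) (by simp [hs'])

omit hψ in
theorem neg_coord (x : K × K) :
    iota f hf hK * uE f hf hK x * (iota f hf hK)⁻¹ = uE f hf hK (x.1, -x.2) := by
  rw [uE, iota_conj_uW, neg_zero]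
  rfl

/-- In the extreme case the involutions have trace zero. -/
theorem trace_iota (h : ∀ a : K, eproj f hf hK ρ ψ (a, 0) = 0) :
    LinearMap.trace ℂ V (ρ (iota f hf hK)) = 0 := by
  classical
  set i₀ := iota f hf hK
  rw [← mul_one (ρ i₀), ← sum_eproj f hf hK ρ ψ hψ, Finset.mul_sum, map_sum]
  refine Finset.sum_eq_zero fun c _ => ?_
  by_cases hc : c.2 = 0
  · rw [show c = (c.1, 0) from Prod.ext rfl hc, h, mul_zero, map_zero]
  let L : K × K ≃ K × K :=
    { toFun := fun x => (x.1, -x.2)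
      invFun := fun x => (x.1, -x.2)
      left_inv := fun x => by simp
      right_inv := fun x => by simp }
  have hne : (c.1, -c.2) ≠ c := fun e => hc (by
    have e2 : -c.2 = c.2 := congrArg Prod.snd e
    linear_combination c.2 * three_eq_zero (K := K) + e2)
  have hconj := eproj_conj f hf hK ρ ψ (g := i₀) L (neg_coord f hf hK)
    (c := c) (c' := (c.1, -c.2)) fun x => by
      show _ = c.1 * x.1 + -c.2 * -x.2
      ring
  set P := eproj f hf hK ρ ψ c
  set P' := eproj f hf hK ρ ψ (c.1, -c.2)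
  have e1 : ρ i₀ * P = P' * ρ i₀ := by
    rw [← hconj, mul_assoc, ← map_mul, inv_mul_cancel, map_one, mul_one]
  have e2 : P * P = P := (eproj_mul f hf hK ρ ψ hψ c c).trans (if_pos rfl)
  calc LinearMap.trace ℂ V (ρ i₀ * P) = LinearMap.trace ℂ V (ρ i₀ * (P * P)) := by rw [e2]
    _ = LinearMap.trace ℂ V (P' * ρ i₀ * P) := by rw [← mul_assoc, e1]
    _ = LinearMap.trace ℂ V (P * P' * ρ i₀) := by
      rw [LinearMap.trace_mul_comm, ← mul_assoc]
    _ = 0 := by
      rw [(eproj_mul f hf hK ρ ψ hψ c (c.1, -c.2)).trans (if_neg (Ne.symm hne)), zero_mul, map_zero]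

omit hψ in
/-- Traces vanishing on the involutions make the degree a multiple of eight. -/
theorem eight_dvd (hm : 1 ≤ m) (h : LinearMap.trace ℂ V (ρ (iota f hf hK)) = 0) :
    8 ∣ Module.finrank ℂ V := by
  classical
  obtain ⟨S⟩ : Nonempty (Sylow 2 ↥G₁) := inferInstance
  have hcard := card_sylow_two f hf hK S
  cases nonempty_fintype ↥(S : Subgroup ↥G₁)
  set E : Module.End ℂ V := (8 : ℂ)⁻¹ • ∑ s : ↥(S : Subgroup ↥G₁), ρ s with hE
  have hfix : ∀ t : ↥(S : Subgroup ↥G₁), ρ t * E = E := fun t => by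
    rw [hE, mul_smul_comm, Finset.mul_sum]
    congr 1
    exact Fintype.sum_equiv (Equiv.mulLeft t) _ _ fun s => by simp [map_mul]
  have h8 : ((8 : ℂ)⁻¹ * (Fintype.card ↥(S : Subgroup ↥G₁) : ℂ)) = 1 := by
    rw [← Nat.card_eq_fintype_card, hcard]
    norm_num
  have hidem : E * E = E := by
    conv_lhs => lhs; rw [hE]
    rw [smul_mul_assoc, Finset.sum_mul, Finset.sum_congr rfl fun t _ => hfix t, Finset.sum_const,
      Finset.card_univ, ← Nat.cast_smul_eq_nsmul ℂ, smul_smul, h8, one_smul]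
  have htr : LinearMap.trace ℂ V E = (8 : ℂ)⁻¹ * (Module.finrank ℂ V : ℂ) := by
    rw [hE, map_smul, map_sum, smul_eq_mul, Finset.sum_eq_single (1 : ↥(S : Subgroup ↥G₁))]
    · rw [OneMemClass.coe_one, map_one, LinearMap.trace_one]
    · intro s _ hs
      obtain ⟨g, hg⟩ := exists_conj_iota f hf hK hm (x := (s : ↥G₁))
        (sylow_two_exponent f hf hK S _ s.2) (fun e => hs (Subtype.ext e))
      have e : (s : ↥G₁) = g⁻¹ * iota f hf hK * g := by rw [← hg]; group
      rw [e, map_mul, LinearMap.trace_mul_comm, ← map_mul,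
        show g * (g⁻¹ * iota f hf hK) = iota f hf hK by group, h]
    · simp
  have hproj : LinearMap.trace ℂ V E = (Module.finrank ℂ (LinearMap.range E) : ℂ) := by
    refine LinearMap.IsProj.trace ⟨fun x => LinearMap.mem_range_self _ x, ?_⟩
    rintro x ⟨y, rfl⟩
    exact DFunLike.congr_fun hidem y
  rw [hproj] at htr
  refine ⟨Module.finrank ℂ (LinearMap.range E), ?_⟩
  have e : ((Module.finrank ℂ V : ℕ) : ℂ) =
      ((8 * Module.finrank ℂ (LinearMap.range E) : ℕ) : ℂ) := by
    push_cast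
    rw [htr]
    ring
  exact_mod_cast e

end Rep

theorem min_degree (hm : 1 ≤ m) {V : Type*} [AddCommGroup V] [Module ℂ V] [FiniteDimensional ℂ V]
    (ρ : ↥G₁ →* Module.End ℂ V) (hρ : ∃ g, ρ g ≠ 1) :
    (3 ^ (2 * m + 1)) ^ 2 - 3 ^ (2 * m + 1) + 1 ≤ Module.finrank ℂ V := by
  obtain ⟨ψ, hψ⟩ := (AddChar.exists_apply_ne_zero (α := K) (a := 1)).2 one_ne_zero
  have hψ1 : ψ ≠ 1 := fun e => hψ (by rw [e]; rfl)
  obtain ⟨h1, h2⟩ := emult_bound f hf hK ρ ψ hψ1 hm hρ
  rw [hK, Nat.mul_sub_one, ← sq] at h1 h2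
  by_contra hlt
  have h8 := eight_dvd f hf hK ρ hm (trace_iota f hf hK ρ ψ hψ1 (h2 (by omega)))
  rw [show Module.finrank ℂ V = (3 ^ (2 * m + 1)) ^ 2 - 3 ^ (2 * m + 1) by omega] at h8
  have hq : 3 ^ (2 * m + 1) % 8 = 3 := by
    rw [pow_succ, pow_mul, Nat.mul_mod, Nat.pow_mod]; norm_num
  have hsq : (3 ^ (2 * m + 1)) ^ 2 % 8 = 1 := by
    rw [Nat.pow_mod, hq]
  have hle : 3 ^ (2 * m + 1) ≤ (3 ^ (2 * m + 1)) ^ 2 := Nat.le_self_pow (by norm_num) _
  omega

theorem rep_min_degree (hm : 1 ≤ m) (k : ℕ) (ρ : Representation ℂ ↥G₁ (Fin k → ℂ))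
    (hirr : ρ.IsIrreducible) (hk : 2 ≤ k) :
    (3 ^ (2 * m + 1)) ^ 2 - 3 ^ (2 * m + 1) + 1 ≤ k := by
  have h := min_degree f hf hK hm (ρ : ↥G₁ →* Module.End ℂ (Fin k → ℂ)) ?_
  · simpa using h
  by_contra hcon
  push Not at hcon
  have htriv : ∀ g v, ρ g v = v := fun g v => DFunLike.congr_fun (hcon g) v
  haveI := hirr
  let e0 : Fin k → ℂ := Pi.single (⟨0, by omega⟩ : Fin k) 1
  let W : Subrepresentation ρ := ⟨ℂ ∙ e0, fun g v hv => by rw [htriv]; exact hv⟩
  rcases eq_bot_or_eq_top W with h | h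
  · have h' := congrArg Subrepresentation.toSubmodule h
    have : (Pi.single (⟨0, by omega⟩ : Fin k) (1 : ℂ) : Fin k → ℂ) = 0 :=
      Submodule.span_singleton_eq_bot.1 h'
    simpa using congrFun this ⟨0, by omega⟩
  · have h' := congrArg Subrepresentation.toSubmodule h
    have hfr : Module.finrank ℂ (ℂ ∙ e0) = k := by
      rw [show (ℂ ∙ e0) = ⊤ from h']; simp
    rw [finrank_span_singleton (show e0 ≠ 0 by simp [e0])] at hfr
    omega

end Cfsg.Agent.Lie.Chev.G2
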