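import Cfsg.Agent.Lib.Lie.Chev.ReeHall

/-! The four kinds of cyclic toral subgroups of a small Ree group, with their normalisers,
centralisers and covering properties. -/

set_option autoImplicit false
set_option maxRecDepth 4000

namespace Cfsg.Agent.Lie.Chev.G2

open Cfsg.Lie

section Abstract

variable {G : Type*} [Group G] [Finite G]

/-- A cyclic subgroup moved off itself outside its normaliser, with a given order, whose
conjugates contain every element of order dividing that order. -/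
structure IsToral (A : Subgroup G) (k N : ℕ) : Prop where
  cyclic : IsCyclic ↥A
  card : Nat.card ↥A = k
  normalizer_card : Nat.card ↥(Subgroup.normalizer (A : Set G)) = N
  ti : ∀ g, ∀ a ∈ A, a ≠ 1 → g * a * g⁻¹ ∈ A → g ∈ Subgroup.normalizer (A : Set G)
  cover : ∀ x : G, x ≠ 1 → orderOf x ∣ k → ∃ c, c * x * c⁻¹ ∈ A

theorem IsToral.normalizer_eq {A A₀ : Subgroup G} {k N : ℕ} (h : IsToral A k N) (h0 : A₀ ≤ A)
    (hne : A₀ ≠ ⊥) : Subgroup.normalizer (A₀ : Set G) = Subgroup.normalizer (A : Set G) := by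
  refine le_antisymm (fun n hn => ?_) (normalizer_le_of_cyclic h.cyclic h0)
  obtain ⟨a, ha, ha1⟩ := A₀.ne_bot_iff_exists_ne_one.1 hne |> fun ⟨a, ha⟩ =>
    (⟨(a : G), a.2, fun e => ha (Subtype.ext e)⟩ : ∃ a, a ∈ A₀ ∧ a ≠ 1)
  exact h.ti n a (h0 ha) ha1 (h0 ((Subgroup.mem_normalizer_iff.1 hn a).1 ha))

theorem IsToral.exists_conj_le {A B : Subgroup G} {k N : ℕ} (h : IsToral A k N)
    (hB : IsCyclic ↥B) (hd : Nat.card ↥B ∣ k) :
    ∃ c : G, B.map (MulAut.conj c).toMonoidHom ≤ A := by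
  obtain ⟨b, hb⟩ := hB.exists_generator
  rcases eq_or_ne (b : G) 1 with e | e
  · refine ⟨1, ?_⟩
    rintro _ ⟨x, hx, rfl⟩
    obtain ⟨j, hj⟩ := Subgroup.mem_zpowers_iff.1 (hb ⟨x, hx⟩)
    have : x = 1 := by
      have := congrArg Subtype.val hj
      simpa [e] using this.symm
    simp [this]
  · obtain ⟨c, hc⟩ := h.cover b e ((Subgroup.orderOf_dvd_natCard _ b.2).trans hd)
    refine ⟨c, ?_⟩
    rintro _ ⟨x, hx, rfl⟩
    obtain ⟨j, hj⟩ := Subgroup.mem_zpowers_iff.1 (hb ⟨x, hx⟩)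
    have hx' : x = (b : G) ^ j := by simpa using (congrArg Subtype.val hj).symm
    rw [hx', map_zpow]
    exact Subgroup.zpow_mem _ hc j

theorem IsToral.conj_of_card {A B C : Subgroup G} {k N : ℕ} (h : IsToral A k N)
    (hB : IsCyclic ↥B) (hC : IsCyclic ↥C) (hd : Nat.card ↥B ∣ k)
    (e : Nat.card ↥C = Nat.card ↥B) : ∃ g : G, C = B.map (MulAut.conj g).toMonoidHom := by
  obtain ⟨b, hb⟩ := h.exists_conj_le hB hd
  obtain ⟨c, hc⟩ := h.exists_conj_le hC (e ▸ hd)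
  have heq : B.map (MulAut.conj b).toMonoidHom = C.map (MulAut.conj c).toMonoidHom :=
    eq_of_card_eq_of_cyclic h.cyclic hb hc (by
      rw [Subgroup.card_map_of_injective (MulAut.conj b).injective,
        Subgroup.card_map_of_injective (MulAut.conj c).injective, e])
  refine ⟨c⁻¹ * b, ?_⟩
  ext x
  rw [map_conj_mem_iff]
  have h1 := SetLike.ext_iff.1 heq (c * x * c⁻¹)
  rw [map_conj_mem_iff, map_conj_mem_iff, show c⁻¹ * (c * x * c⁻¹) * c = x by group] at h1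
  rw [show (c⁻¹ * b)⁻¹ * x * (c⁻¹ * b) = b⁻¹ * (c * x * c⁻¹) * b by group]
  exact h1.symm

/-- Centralisers of the subgroups of a cyclic group inside a self-centralising abelian group. -/
theorem centralizer_of_conj_mem {H T : Subgroup G} (hH : IsCyclic ↥H) (hne : H ≠ ⊥)
    (hC : ∀ a ∈ T, 2 < orderOf a → Subgroup.centralizer ({a} : Set G) = T)
    (h2 : ∀ a ∈ H, a ≠ 1 → 2 < orderOf a)
    (hcov : ∀ a ∈ H, a ≠ 1 → ∃ c, c * a * c⁻¹ ∈ T) :
    ∃ c : G, Subgroup.centralizer (H : Set G) = T.map (MulAut.conj c).toMonoidHom ∧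
      ∀ A : Subgroup G, A ≤ H → A ≠ ⊥ →
        Subgroup.centralizer (A : Set G) = Subgroup.centralizer (H : Set G) := by
  obtain ⟨⟨h, hh⟩, hgen⟩ := hH.exists_generator
  have hpow : ∀ x ∈ H, ∃ j : ℤ, x = h ^ j := fun x hx => by
    obtain ⟨j, hj⟩ := Subgroup.mem_zpowers_iff.1 (hgen ⟨x, hx⟩)
    exact ⟨j, by simpa using (congrArg Subtype.val hj).symm⟩
  have hh1 : h ≠ 1 := fun e => hne ((Subgroup.eq_bot_iff_forall H).2 fun x hx => by
    obtain ⟨j, rfl⟩ := hpow x hx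
    simp [e])
  obtain ⟨c, hc⟩ := hcov h hh hh1
  have hall : ∀ x ∈ H, c * x * c⁻¹ ∈ T := fun x hx => by
    obtain ⟨j, rfl⟩ := hpow x hx
    rw [← conj_zpow]
    exact Subgroup.zpow_mem _ hc j
  have hcent : ∀ x ∈ H, x ≠ 1 →
      Subgroup.centralizer ({x} : Set G) = T.map (MulAut.conj c⁻¹).toMonoidHom := fun x hx hx1 => by
    ext y
    rw [map_conj_mem_iff, inv_inv, ← hC _ (hall x hx) (by rw [orderOf_conj_eq]; exact h2 x hx hx1)]
    refine ⟨fun hy => conj_mem_centralizer c hy, fun hy => ?_⟩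
    have := conj_mem_centralizer c⁻¹ hy
    rwa [show c⁻¹ * (c * y * c⁻¹) * c⁻¹⁻¹ = y by group,
      show c⁻¹ * (c * x * c⁻¹) * c⁻¹⁻¹ = x by group] at this
  have hlow : Subgroup.centralizer ({h} : Set G) ≤ Subgroup.centralizer (H : Set G) := fun y hy => by
    rw [Subgroup.mem_centralizer_iff]
    intro x hx
    obtain ⟨j, rfl⟩ := hpow x hx
    exact ((show Commute y h from Subgroup.mem_centralizer_singleton_iff.1 hy).zpow_right j).eq.symm
  have hup : ∀ A : Subgroup G, A ≤ H → A ≠ ⊥ →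
      Subgroup.centralizer (A : Set G) ≤ T.map (MulAut.conj c⁻¹).toMonoidHom := by
    intro A hA hA1
    obtain ⟨⟨a, ha⟩, ha1⟩ := A.ne_bot_iff_exists_ne_one.1 hA1
    rw [← hcent a (hA ha) fun e => ha1 (Subtype.ext e)]
    exact Subgroup.centralizer_le (Set.singleton_subset_iff.2 ha)
  have hH' : Subgroup.centralizer (H : Set G) = T.map (MulAut.conj c⁻¹).toMonoidHom :=
    le_antisymm (hup H le_rfl hne) ((hcent h hh hh1).ge.trans hlow)
  refine ⟨c⁻¹, hH', fun A hA hA1 =>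
    le_antisymm ((hup A hA hA1).trans hH'.ge) (Subgroup.centralizer_le hA)⟩

end Abstract

variable {K : Type*} [Field K] (f : K →+* K) [CharP K 3] [ExpChar K 3]
variable [Fintype K] {m : ℕ} (hf : ∀ t, f t = t ^ 3 ^ m) (hK : Fintype.card K = 3 ^ (2 * m + 1))

include hf hK

local notation "G₁" => twistedG2 K (3 ^ m)

theorem two_lt_of_dvd_odd {x : ↥G₁} (h1 : x ≠ 1) {k : ℕ} (hd : orderOf x ∣ k) (hk : k % 2 = 1) :
    2 < orderOf x := by
  have h0 := orderOf_pos x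
  have hne : orderOf x ≠ 1 := fun e => h1 (orderOf_eq_one_iff.1 e)
  rcases Nat.lt_or_ge 2 (orderOf x) with h | h
  · exact h
  · have : orderOf x = 2 := by omega
    rw [this] at hd
    omega

variable (hm : 1 ≤ m)
include hm

theorem exists_toral_minus : ∃ A : Subgroup ↥G₁,
    IsToral A ((3 ^ (2 * m + 1) - 1) / 2) (2 * (3 ^ (2 * m + 1) - 1)) := by
  obtain ⟨g, hg, ho⟩ := exists_HH_generator f hf hK
  obtain ⟨hq8, -⟩ := q_mod m
  have hq := q_large m hm
  set h := (3 ^ (2 * m + 1) - 1) / 2 with hh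
  have h2h : 3 ^ (2 * m + 1) - 1 = 2 * h := by omega
  have hodd : h % 2 = 1 := by omega
  have hcard : Nat.card ↥(Subgroup.zpowers (g ^ 2)) = h := by
    rw [Nat.card_zpowers, orderOf_pow' g (by norm_num), ho, h2h,
      Nat.gcd_eq_right (dvd_mul_right 2 h), Nat.mul_div_cancel_left _ (by norm_num)]
  have hle : Subgroup.zpowers (g ^ 2) ≤ HH K m := Subgroup.zpowers_le.2 (pow_mem hg 2)
  have h2 : ∀ a ∈ Subgroup.zpowers (g ^ 2), a ≠ 1 → 2 < orderOf a := fun a ha ha1 =>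
    two_lt_of_dvd_odd f hf hK ha1 (hcard ▸ Subgroup.orderOf_dvd_natCard _ ha) hodd
  have hN : Subgroup.normalizer (Subgroup.zpowers (g ^ 2) : Set ↥G₁) =
      Subgroup.normalizer (HH K m : Set ↥G₁) := by
    refine le_antisymm (fun n hn => ?_) (normalizer_le_of_cyclic (HH_cyclic f hf hK) hle)
    have hg1 : g ^ 2 ≠ 1 := fun e => by
      rw [e, Subgroup.zpowers_one_eq_bot, Subgroup.card_bot] at hcard
      omega
    exact HH_TI f hf hK (hle (Subgroup.mem_zpowers _)) (h2 _ (Subgroup.mem_zpowers _) hg1)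
      (hle ((Subgroup.mem_normalizer_iff.1 hn _).1 (Subgroup.mem_zpowers _)))
  refine ⟨Subgroup.zpowers (g ^ 2), ⟨Subgroup.isCyclic_zpowers _, hcard, ?_, ?_, ?_⟩⟩
  · rw [hN, card_normalizer_HH f hf hK hm]
  · intro n a ha ha1 hna
    rw [hN]
    exact HH_TI f hf hK (hle ha) (h2 a ha ha1) (hle hna)
  · intro x hx1 hxd
    obtain ⟨c, hc⟩ := minus_conj f hf hK (two_lt_of_dvd_odd f hf hK hx1 hxd hodd)
      (hxd.trans ⟨2, by rw [h2h]; ring⟩)
    refine ⟨c, ?_⟩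
    have hgH : Subgroup.zpowers g = HH K m :=
      Subgroup.eq_of_le_of_card_ge (Subgroup.zpowers_le.2 hg)
        (by rw [Nat.card_zpowers, ho, card_HH f hf hK])
    obtain ⟨j, hj⟩ := mem_powers_iff_mem_zpowers.2 (hgH.ge hc)
    have hj' : g ^ j = c * x * c⁻¹ := hj
    have h1 : g ^ (j * h) = 1 := by
      rw [pow_mul, hj', conj_pow, orderOf_dvd_iff_pow_eq_one.1 hxd, mul_one, mul_inv_cancel]
    have h3 := orderOf_dvd_of_pow_eq_one h1
    rw [ho, h2h] at h3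
    obtain ⟨i, rfl⟩ := Nat.dvd_of_mul_dvd_mul_right (by omega) h3
    rw [← hj', pow_mul]
    exact pow_mem (Subgroup.mem_zpowers _) i

theorem exists_toral_plus : ∃ A : Subgroup ↥G₁,
    IsToral A ((3 ^ (2 * m + 1) + 1) / 4) (6 * (3 ^ (2 * m + 1) + 1)) := by
  have hodd := (qk_eq m).2
  refine ⟨Subgroup.zpowers (ww f hf hK hm),
    ⟨Subgroup.isCyclic_zpowers _, card_zpowers_ww f hf hK hm, ?_, ?_, ?_⟩⟩
  · rw [normalizer_zpowers f hf hK hm, card_normalizer_torG f hf hK hm]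
  · intro g a ha ha1 hga
    rw [normalizer_zpowers f hf hK hm]
    exact torG_TI f hf hK hm (zpowers_le_torG f hf hK hm ha)
      (two_lt_of_mem_zpowers f hf hK hm ha ha1) (zpowers_le_torG f hf hK hm hga)
  · intro x hx1 hxd
    obtain ⟨c, hc⟩ := plus_conj f hf hK hm (two_lt_of_dvd_odd f hf hK hx1 hxd hodd)
      (dvd_mul_of_dvd_right hxd 2)
    exact ⟨c, mem_zpowers_of_pow f hf hK hm hc
      (orderOf_dvd_iff_pow_eq_one.1 (by rw [orderOf_conj_eq]; exact hxd))⟩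

theorem toral_of_hall {A B : Subgroup ↥G₁} (hA : IsHallPart A)
    (hN : Nat.card ↥(Subgroup.normalizer (A : Set ↥G₁)) = 6 * Nat.card ↥A)
    (hcop : Nat.Coprime (Nat.card ↥A) (Nat.card ↥B))
    (hcov : ∀ g : ↥G₁, 1 < orderOf g → orderOf g ∣ qphi m →
      (∃ c, c * g * c⁻¹ ∈ A) ∨ (∃ c, c * g * c⁻¹ ∈ B)) :
    IsToral A (Nat.card ↥A) (6 * Nat.card ↥A) := by
  refine ⟨(hA.basic f hf hK hm).1, rfl, hN, fun g a ha ha1 h => hA.ti f hf hK hm ha ha1 h, ?_⟩
  intro x hx1 hxd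
  have h1 : 1 < orderOf x := by
    have := orderOf_pos x
    have : orderOf x ≠ 1 := fun e => hx1 (orderOf_eq_one_iff.1 e)
    omega
  rcases hcov x h1 (hxd.trans (hA.basic f hf hK hm).2.1) with h | ⟨c, hc⟩
  · exact h
  · exfalso
    have h2 := Subgroup.orderOf_dvd_natCard _ hc
    rw [orderOf_conj_eq] at h2
    have := Nat.eq_one_of_dvd_coprimes hcop hxd h2
    omega

theorem exists_toral_hall : ∃ A B : Subgroup ↥G₁,
    IsToral A (3 ^ (2 * m + 1) - 3 ^ (m + 1) + 1) (6 * (3 ^ (2 * m + 1) - 3 ^ (m + 1) + 1)) ∧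
    IsToral B (3 ^ (2 * m + 1) + 3 ^ (m + 1) + 1) (6 * (3 ^ (2 * m + 1) + 3 ^ (m + 1) + 1)) ∧
    (3 ^ (2 * m + 1) - 3 ^ (m + 1) + 1) * (3 ^ (2 * m + 1) + 3 ^ (m + 1) + 1) = qphi m ∧
    ∀ g : ↥G₁, 1 < orderOf g → orderOf g ∣ qphi m →
      (∃ c, c * g * c⁻¹ ∈ A) ∨ (∃ c, c * g * c⁻¹ ∈ B) := by
  obtain ⟨A, B, hA, hB, cA, cB, hprod, hcop, hNA, hNB, hcov⟩ := exists_hall f hf hK hm
  have hle : 3 ^ (m + 1) ≤ 3 ^ (2 * m + 1) := Nat.pow_le_pow_right (by norm_num) (by omega)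
  have cA' : Nat.card ↥A = 3 ^ (2 * m + 1) - 3 ^ (m + 1) + 1 := by omega
  have tA := toral_of_hall f hf hK hm hA hNA hcop hcov
  have tB := toral_of_hall f hf hK hm hB hNB hcop.symm fun g h1 h2 => (hcov g h1 h2).symm
  rw [cA'] at tA
  rw [cB] at tB
  exact ⟨A, B, tA, tB, by rw [← cA', ← cB]; exact hprod, hcov⟩

theorem sylow_cyclic {p : ℕ} [Fact p.Prime] (hp : 3 < p) (P : Sylow p ↥G₁) :
    IsCyclic ↥(P : Subgroup ↥G₁) := by
  have hpr := (Fact.out : p.Prime)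
  by_cases hd : p ∣ Nat.card ↥G₁
  swap
  · refine sylow_cyclic_of_full ⊥ inferInstance ?_ P
    rw [Nat.factorization_eq_zero_of_not_dvd hd]
    exact Nat.zero_le _
  rcases prime_cases f hf hK hpr hd with h | h | h | h
  · omega
  · refine sylow_cyclic_of_full (HH K m) (HH_cyclic f hf hK) ?_ P
    obtain ⟨h3, h1, h2⟩ := minus_props m hpr (by omega) h
    rw [card_G f hf hK, card_HH f hf hK]
    have hne : ¬ p ∣ (3 ^ (2 * m + 1)) ^ 3 *
        ((3 ^ (2 * m + 1) + 1) * ((3 ^ (2 * m + 1)) ^ 2 - 3 ^ (2 * m + 1) + 1)) := by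
      intro h
      rcases hpr.dvd_mul.1 h with h | h
      · exact not_dvd_three m hpr (by omega) (hpr.dvd_of_dvd_pow h)
      rcases hpr.dvd_mul.1 h with h | h
      · exact h1 h
      · exact h2 h
    have hq := q_large m hm
    rw [show ∀ a b c : ℕ, a * b * c = b * (a * c) from fun a b c => by ring,
      Nat.factorization_mul (by omega) (fun e => hne (by rw [e]; exact dvd_zero _)),
      Finsupp.add_apply, Nat.factorization_eq_zero_of_not_dvd hne, add_zero]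
  · exact sylow_cyclic_of_full _ (Subgroup.isCyclic_zpowers _)
      (zpowers_ww_full f hf hK hm hpr (by omega) h) P
  · obtain ⟨z, hz⟩ := exists_prime_orderOf_dvd_card' p hd
    have hA : IsHallPart (Subgroup.centralizer {z}) := ⟨p, z, hpr, h, hz, rfl⟩
    exact sylow_cyclic_of_full _ (hA.basic f hf hK hm).1 (hA.full f hf hK hm hpr
      (hz ▸ Subgroup.orderOf_dvd_natCard _ (Subgroup.mem_centralizer_singleton_iff.2 rfl))) P

theorem element_orders (d : ℕ) :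
    (∃ g : ↥G₁, orderOf g = d) ↔
      (d ∣ 6 ∨ d ∣ 9 ∨ d ∣ 3 ^ (2 * m + 1) - 1 ∨ d ∣ (3 ^ (2 * m + 1) + 1) / 2 ∨
        d ∣ 3 ^ (2 * m + 1) - 3 ^ (m + 1) + 1 ∨ d ∣ 3 ^ (2 * m + 1) + 3 ^ (m + 1) + 1) := by
  obtain ⟨A, B, tA, tB, hprod, hcov⟩ := exists_toral_hall f hf hK hm
  have hhalf : (3 ^ (2 * m + 1) + 1) / 2 = 2 * qk m := by
    have := (qk_eq m).1
    omega
  rw [hhalf]
  constructor
  · rintro ⟨g, rfl⟩
    rcases orderOf_cases f hf hK hm g with h | h | h | h | h | h | h | h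
    · exact Or.inl (h ▸ one_dvd _)
    · exact Or.inl (by rw [h]; norm_num)
    · exact Or.inl (by rw [h]; norm_num)
    · exact Or.inl (h ▸ dvd_rfl)
    · exact Or.inr (Or.inl (h ▸ dvd_rfl))
    · exact Or.inr (Or.inr (Or.inl h.2))
    · exact Or.inr (Or.inr (Or.inr (Or.inl h.2)))
    · rcases hcov g h.1 h.2 with ⟨c, hc⟩ | ⟨c, hc⟩
      · have := Subgroup.orderOf_dvd_natCard _ hc
        rw [orderOf_conj_eq, tA.card] at this
        exact Or.inr (Or.inr (Or.inr (Or.inr (Or.inl this))))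
      · have := Subgroup.orderOf_dvd_natCard _ hc
        rw [orderOf_conj_eq, tB.card] at this
        exact Or.inr (Or.inr (Or.inr (Or.inr (Or.inr this))))
  · have hq := q_large m hm
    have hq3 : 0 < (3 ^ (2 * m + 1)) ^ 3 + 1 := Nat.succ_pos _
    have hpos : 0 < (3 ^ (2 * m + 1)) ^ 2 * (3 ^ (2 * m + 1) - 1) * ((3 ^ (2 * m + 1)) ^ 3 + 1) :=
      Nat.mul_pos (Nat.mul_pos (by positivity) (by omega)) hq3
    have h6 : ∃ g : ↥G₁, orderOf g = 6 := by
      obtain ⟨⟨g, hg⟩⟩ := (Nat.card_pos_iff.1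
        (by rw [card_orderOf_six f hf hK hm]; exact hpos :
          0 < Nat.card {g : ↥G₁ // orderOf g = 6})).1
      exact ⟨g, hg⟩
    have h9 : ∃ g : ↥G₁, orderOf g = 9 := by
      obtain ⟨⟨g, hg⟩⟩ := (Nat.card_pos_iff.1
        (by rw [card_orderOf_nine f hf hK]; exact hpos :
          0 < Nat.card {g : ↥G₁ // orderOf g = 9})).1
      exact ⟨g, hg⟩
    have hplus : ∃ g : ↥G₁, orderOf g = 2 * qk m := by
      have h := card_torG_two_mul f hf hK hm (i := qk m) dvd_rfl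
      obtain ⟨⟨g, hg⟩⟩ := (Nat.card_pos_iff.1 (by
        rw [h]
        exact Nat.mul_pos (by norm_num) (Nat.totient_pos.2 (by have := qk_large m hm; omega)) :
          0 < Nat.card {a : ↥(torG f hf hK hm) // orderOf (a : ↥G₁) = 2 * qk m})).1
      exact ⟨g, hg⟩
    have hcyc : ∀ (A : Subgroup ↥G₁) {k N : ℕ}, IsToral A k N → ∃ g : ↥G₁, orderOf g = k :=
      fun A k N t => by
        obtain ⟨g, hg⟩ := t.cyclic.exists_ofOrder_eq_natCard
        exact ⟨g, by rw [Subgroup.orderOf_coe, hg, t.card]⟩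
    obtain ⟨gm, -, hgm⟩ := exists_HH_generator f hf hK
    intro h
    rcases h with h | h | h | h | h | h
    · obtain ⟨g, hg⟩ := h6; exact exists_orderOf_of_dvd (hg ▸ h)
    · obtain ⟨g, hg⟩ := h9; exact exists_orderOf_of_dvd (hg ▸ h)
    · exact exists_orderOf_of_dvd (hgm ▸ h)
    · obtain ⟨g, hg⟩ := hplus; exact exists_orderOf_of_dvd (hg ▸ h)
    · obtain ⟨g, hg⟩ := hcyc A tA; exact exists_orderOf_of_dvd (hg ▸ h)
    · obtain ⟨g, hg⟩ := hcyc B tB; exact exists_orderOf_of_dvd (hg ▸ h)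

/-- The number of elements of a given order in a toral class. -/
theorem card_toral_orderOf {A : Subgroup ↥G₁} {k N : ℕ} (t : IsToral A k N) {i : ℕ} (h1 : 1 < i)
    (hd : i ∣ k) : Nat.card {g : ↥G₁ // orderOf g = i} * N = Nat.card ↥G₁ * i.totient := by
  rw [← t.normalizer_card, card_of_cover_subgroup (fun g : ↥G₁ => orderOf g = i) A
    (fun g x hx => (orderOf_conj_eq g x).trans hx)
    (fun x hx => t.cover x (fun e => by rw [e, orderOf_one] at hx; omega) (hx ▸ hd))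
    (fun g a ha hP h => t.ti g a ha (fun e => by rw [e, orderOf_one] at hP; omega) h)]
  rw [card_orderOf_cyclic t.cyclic (t.card ▸ hd)]

theorem centralizer_minus {H : Subgroup ↥G₁} (hH : IsCyclic ↥H)
    (hcard : Nat.card ↥H = (3 ^ (2 * m + 1) - 1) / 2) :
    IsCyclic ↥(Subgroup.centralizer (H : Set ↥G₁)) ∧
      Nat.card ↥(Subgroup.centralizer (H : Set ↥G₁)) = 3 ^ (2 * m + 1) - 1 ∧
      ∀ A : Subgroup ↥G₁, A ≤ H → A ≠ ⊥ →
        Subgroup.centralizer (A : Set ↥G₁) = Subgroup.centralizer (H : Set ↥G₁) := by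
  obtain ⟨hq8, -⟩ := q_mod m
  have hq := q_large m hm
  have h2 : ∀ a ∈ H, a ≠ 1 → 2 < orderOf a := fun a ha ha1 =>
    two_lt_of_dvd_odd f hf hK ha1 (hcard ▸ Subgroup.orderOf_dvd_natCard _ ha) (by omega)
  obtain ⟨c, hc, hall⟩ := centralizer_of_conj_mem hH
    (fun e => by rw [e, Subgroup.card_bot] at hcard; omega)
    (fun a ha h => centralizer_of_mem_HH f hf hK ha h) h2
    (fun a ha ha1 => minus_conj f hf hK (h2 a ha ha1)
      ((hcard ▸ Subgroup.orderOf_dvd_natCard _ ha).trans (Nat.div_dvd_of_dvd (by omega))))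
  refine ⟨?_, ?_, hall⟩
  · rw [hc]
    haveI := HH_cyclic f hf hK
    exact isCyclic_of_surjective ((HH K m).equivMapOfInjective _ (MulAut.conj c).injective)
      (MulEquiv.surjective _)
  · rw [hc, Subgroup.card_map_of_injective (MulAut.conj c).injective, card_HH f hf hK]

theorem centralizer_plus {H : Subgroup ↥G₁} (hH : IsCyclic ↥H)
    (hcard : Nat.card ↥H = (3 ^ (2 * m + 1) + 1) / 4) :
    IsMulCommutative ↥(Subgroup.centralizer (H : Set ↥G₁)) ∧
      Nat.card ↥(Subgroup.centralizer (H : Set ↥G₁)) = 3 ^ (2 * m + 1) + 1 ∧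
      (∀ x ∈ Subgroup.centralizer (H : Set ↥G₁), orderOf x ≠ 4) ∧
      ∀ A : Subgroup ↥G₁, A ≤ H → A ≠ ⊥ →
        Subgroup.centralizer (A : Set ↥G₁) = Subgroup.centralizer (H : Set ↥G₁) := by
  have hodd := (qk_eq m).2
  have hk := qk_large m hm
  have hdH : ∀ a ∈ H, orderOf a ∣ qk m := fun a ha =>
    (Subgroup.orderOf_dvd_natCard _ ha).trans (dvd_of_eq hcard)
  have h2 : ∀ a ∈ H, a ≠ 1 → 2 < orderOf a := fun a ha ha1 =>
    two_lt_of_dvd_odd f hf hK ha1 (hdH a ha) hodd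
  obtain ⟨c, hc, hall⟩ := centralizer_of_conj_mem hH
    (fun e => by rw [e, Subgroup.card_bot] at hcard; exact absurd hcard (by change 1 ≠ qk m; omega))
    (fun a ha h => centralizer_of_mem f hf hK hm ha h) h2
    (fun a ha ha1 => plus_conj f hf hK hm (h2 a ha ha1)
      (dvd_mul_of_dvd_right (hdH a ha) 2))
  refine ⟨⟨⟨fun a b => Subtype.ext ?_⟩⟩, ?_, fun x _ => orderOf_ne_four f hf hK x, hall⟩
  · obtain ⟨a', ha', ea⟩ := hc.le a.2
    obtain ⟨b', hb', eb⟩ := hc.le b.2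
    rw [Subgroup.coe_mul, Subgroup.coe_mul, ← ea, ← eb, ← map_mul, ← map_mul,
      (torG_commute f hf hK hm ha' hb').eq]
  · rw [hc, Subgroup.card_map_of_injective (MulAut.conj c).injective, card_torG f hf hK hm]

end Cfsg.Agent.Lie.Chev.G2
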