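import Cfsg.Agent.Lib.Lie.Chev.ReeOut
import Cfsg.Agent.Lib.Lie.Chev.ReeToral
import Cfsg.Agent.Lib.Spor.MultCore

/-! The Schur multiplier of a small Ree group is trivial.

For a central extension with preimage `Ũ` of the unipotent part `U`, the commutator with a torus
element gives a section `s` over `[U, U]`; the kernel part `π` of the commutator of two elements
of `Ũ` is then biadditive and invariant under the torus, so it vanishes. -/

set_option autoImplicit false
set_option maxRecDepth 4000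

open scoped commutatorElement

namespace Cfsg.Agent.Lie.Chev.G2.Mult

open Cfsg.Lie

universe u v

section Forms

variable {K : Type u} [Field K] {Δ : Type v} [Group Δ]

theorem map_zero_of_add {φ : K → Δ} (hadd : ∀ x y, φ (x + y) = φ x * φ y) : φ 0 = 1 := by
  have h := hadd 0 0
  rw [add_zero] at h
  exact left_eq_mul.1 h

theorem map_neg_of_add {φ : K → Δ} (hadd : ∀ x y, φ (x + y) = φ x * φ y) (x : K) :
    φ (-x) = (φ x)⁻¹ := by
  refine eq_inv_of_mul_eq_one_left ?_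
  rw [← hadd, neg_add_cancel, map_zero_of_add hadd]

/-- An additive map invariant under multiplication by the squares vanishes. -/
theorem square_map_zero (h3 : (3 : K) = 0) (hs : ∃ s : K, s ≠ 0 ∧ s ≠ 1 ∧ s ≠ -1) {φ : K → Δ}
    (hadd : ∀ x y, φ (x + y) = φ x * φ y) (hinv : ∀ r : K, r ≠ 0 → ∀ w, φ (r ^ 2 * w) = φ w)
    (w : K) : φ w = 1 := by
  obtain ⟨s, h0, h1, hm1⟩ := hs
  have hd : (1 : K) - s ≠ 0 := sub_ne_zero.2 (Ne.symm h1)
  have hs1 : s + 1 ≠ 0 := fun e => hm1 (eq_neg_of_add_eq_zero_left e)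
  have key : ∀ w, φ (w - s * w) = 1 := fun w => by
    have h := hinv (s + 1) hs1 w
    rw [show (s + 1) ^ 2 * w = s ^ 2 * w + (w - s * w) by
      linear_combination (s * w) * h3, hadd, hinv s h0] at h
    exact mul_eq_left.1 h
  have h := key (w / (1 - s))
  rwa [show w / (1 - s) - s * (w / (1 - s)) = w by field_simp] at h

/-- A biadditive map invariant under scaling both arguments by a square vanishes. -/
theorem square_form_zero (h3 : (3 : K) = 0) (hs : ∃ s : K, s ≠ 0 ∧ s ≠ 1 ∧ s ≠ -1)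
    (hsq : ∀ s : K, s ≠ 0 → ∃ r : K, r ≠ 0 ∧ (s = r ^ 2 ∨ s = -r ^ 2)) {β : K → K → Δ}
    (hl : ∀ x x' y, β (x + x') y = β x y * β x' y) (hr : ∀ x y y', β x (y + y') = β x y * β x y')
    (hinv : ∀ r : K, r ≠ 0 → ∀ x y, β (r ^ 2 * x) (r ^ 2 * y) = β x y) (x y : K) : β x y = 1 := by
  have key : ∀ s : K, s ≠ 0 → ∀ x y, β (s * x) y = β x (s⁻¹ * y) := by
    intro s h0 x y
    obtain ⟨r, hr0, hc⟩ := hsq s h0
    have hr2 : r ^ 2 ≠ 0 := pow_ne_zero _ hr0
    have hp : ∀ y, β (r ^ 2 * x) y = β x ((r ^ 2)⁻¹ * y) := fun y => by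
      conv_rhs => rw [← hinv r hr0 x ((r ^ 2)⁻¹ * y), mul_inv_cancel_left₀ hr2]
    rcases hc with rfl | rfl
    · exact hp y
    · rw [neg_mul, map_neg_of_add (φ := fun a => β a y) (fun a b => hl a b y) _, hp, inv_neg,
        neg_mul, map_neg_of_add (φ := β x) (hr x)]
  obtain ⟨s, h0, h1, hm1⟩ := hs
  have hs1 : s + 1 ≠ 0 := fun e => hm1 (eq_neg_of_add_eq_zero_left e)
  have hE : s⁻¹ + 1 - (s + 1)⁻¹ ≠ 0 := by
    intro e
    field_simp at e
    have : (s - 1) * (s - 1) = 0 := by linear_combination e - s * h3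
    exact h1 (sub_eq_zero.1 ((mul_self_eq_zero).1 this))
  have hzero : ∀ y, β x ((s⁻¹ + 1 - (s + 1)⁻¹) * y) = 1 := fun y => by
    have h := key (s + 1) hs1 x y
    rw [show (s + 1) * x = s * x + x by ring, hl, key s h0, ← hr] at h
    rw [sub_mul, sub_eq_add_neg, hr, map_neg_of_add (hr x),
      show (s⁻¹ + 1) * y = s⁻¹ * y + y by ring, h, mul_inv_cancel]
  have h := hzero ((s⁻¹ + 1 - (s + 1)⁻¹)⁻¹ * y)
  rwa [mul_inv_cancel_left₀ hE] at h

end Forms

section Lifts

variable {Δ G : Type*} [Group Δ] [Group G] {σ : Δ →* G}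

/-- A chosen lift. -/
noncomputable def lf (hs : Function.Surjective σ) (x : G) : Δ := Function.surjInv hs x

theorem lf_map (hs : Function.Surjective σ) (x : G) : σ (lf hs x) = x := Function.surjInv_eq hs x

/-- The commutator of two lifts. -/
noncomputable def cm (hs : Function.Surjective σ) (x y : G) : Δ := ⁅lf hs x, lf hs y⁆

theorem cm_map (hs : Function.Surjective σ) (x y : G) : σ (cm hs x y) = ⁅x, y⁆ := by
  rw [cm, map_commutatorElement, lf_map, lf_map]

theorem cm_inv (hs : Function.Surjective σ) (x y : G) : (cm hs x y)⁻¹ = cm hs y x :=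
  commutatorElement_inv _ _

variable (hs : Function.Surjective σ) (hc : σ.ker ≤ Subgroup.center Δ)

include hc

theorem ker_comm {z : Δ} (hz : σ z = 1) (t : Δ) : Commute t z :=
  Subgroup.mem_center_iff.1 (hc hz) t

theorem ker_conj {z : Δ} (hz : σ z = 1) (t : Δ) : t * z * t⁻¹ = z := by
  rw [(ker_comm hc hz t).eq, mul_inv_cancel_right]

theorem cm_eq (s t : Δ) : ⁅s, t⁆ = cm hs (σ s) (σ t) :=
  Spor.Mult.bracket_congr hc (lf_map hs _).symm (lf_map hs _).symm

theorem cm_conj (t : Δ) (x y : G) :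
    t * cm hs x y * t⁻¹ = cm hs (σ t * x * (σ t)⁻¹) (σ t * y * (σ t)⁻¹) := by
  rw [cm, show t * ⁅lf hs x, lf hs y⁆ * t⁻¹ =
    ⁅t * lf hs x * t⁻¹, t * lf hs y * t⁻¹⁆ by simp only [commutatorElement_def]; group,
    cm_eq hs hc, map_mul, map_mul, map_mul, map_mul, map_inv, lf_map, lf_map]

theorem cm_mul_left (x x' y : G) :
    cm hs (x * x') y = lf hs x * cm hs x' y * (lf hs x)⁻¹ * cm hs x y := by
  calc cm hs (x * x') y = ⁅lf hs x * lf hs x', lf hs y⁆ := by
        rw [cm_eq hs hc, map_mul, lf_map, lf_map, lf_map]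
    _ = _ := by simp only [cm, commutatorElement_def]; group

theorem cm_mul_right (x y y' : G) :
    cm hs x (y * y') = cm hs x y * (lf hs y * cm hs x y' * (lf hs y)⁻¹) := by
  calc cm hs x (y * y') = ⁅lf hs x, lf hs y * lf hs y'⁆ := by
        rw [cm_eq hs hc, map_mul, lf_map, lf_map, lf_map]
    _ = _ := by simp only [cm, commutatorElement_def]; group

end Lifts

section Ree

variable {K : Type u} [Field K] (f : K →+* K) [CharP K 3] [ExpChar K 3]
variable [Fintype K] {m : ℕ} (hf : ∀ t, f t = t ^ 3 ^ m) (hK : Fintype.card K = 3 ^ (2 * m + 1))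

include hf hK

local notation "G₁" => twistedG2 K (3 ^ m)

theorem exists_elt (hm : 1 ≤ m) : ∃ s : K, s ≠ 0 ∧ s ≠ 1 ∧ s ≠ -1 := by
  classical
  by_contra h
  push Not at h
  have hsub : (Finset.univ : Finset K) ⊆ {0, 1, -1} := fun t _ => by
    simp only [Finset.mem_insert, Finset.mem_singleton]
    by_cases h0 : t = 0
    · exact Or.inl h0
    by_cases h1 : t = 1
    · exact Or.inr (Or.inl h1)
    exact Or.inr (Or.inr (h t h0 h1))
  have h' := (Finset.card_le_card hsub).trans Finset.card_le_three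
  rw [Finset.card_univ, hK] at h'
  have := q_large m hm
  omega

theorem signed_square (s : K) (h0 : s ≠ 0) : ∃ r : K, r ≠ 0 ∧ (s = r ^ 2 ∨ s = -r ^ 2) := by
  have hch : ringChar K ≠ 2 := by rw [ringChar.eq K 3]; decide
  have hodd : Odd (Fintype.card K / 2) := by
    obtain ⟨h8, -⟩ := q_mod m
    rw [hK, Nat.odd_iff]
    omega
  rcases FiniteField.pow_dichotomy hch h0 with h | h
  · obtain ⟨r, hr⟩ := (FiniteField.isSquare_iff hch h0).2 h
    exact ⟨r, fun e => h0 (by rw [hr, e, mul_zero]), Or.inl (by rw [hr, sq])⟩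
  · have h' : (-s) ^ (Fintype.card K / 2) = 1 := by rw [hodd.neg_pow, h, neg_neg]
    obtain ⟨r, hr⟩ := (FiniteField.isSquare_iff hch (neg_ne_zero.2 h0)).2 h'
    exact ⟨r, fun e => h0 (neg_eq_zero.1 (by rw [hr, e, mul_zero])),
      Or.inr (by rw [sq, ← hr, neg_neg])⟩

/-- The torus elements acting by a square on the middle coordinate. -/
theorem exists_wu_sq {r : K} (hr : r ≠ 0) : ∃ z : Kˣ, (wu f z : K) = r ^ 2 := by
  have hfr : f r ≠ 0 := fun e => hr ((map_eq_zero f).1 e)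
  refine ⟨gpar f (Units.mk0 (f r ^ 3 / r) (div_ne_zero (pow_ne_zero _ hfr) hr)), ?_⟩
  rw [wu_gpar f hf hK, Units.val_mk0]
  simp only [map_div₀, map_pow, ff_cube f hf hK]
  field_simp

theorem comm_uT_uE (t : K) (x : K × K) :
    ⁅uT f hf hK t, uE f hf hK x⁆ = uE f hf hK (0, t * x.1) := by
  have h := uE_mul_uT f hf hK (x.1, x.2 + t * x.1) t
  have e : ((x.1, x.2 + t * x.1) : K × K) = (0, t * x.1) + x :=
    Prod.ext (zero_add _).symm (add_comm _ _)
  simp only [add_sub_cancel_right] at h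
  rw [e, uE_add, mul_assoc] at h
  rw [commutatorElement_def, ← h]
  group

theorem comm_uT_uT (t t' : K) :
    ∃ y, ⁅uT f hf hK t, uT f hf hK t'⁆ = uE f hf hK y := by
  obtain ⟨k, hk⟩ : ∃ k, uT f hf hK t * uT f hf hK t' = uT f hf hK (t + t') * uE f hf hK k :=
    ⟨_, uT_mul f hf hK t t'⟩
  obtain ⟨k', hk'⟩ : ∃ k, uT f hf hK t' * uT f hf hK t = uT f hf hK (t + t') * uE f hf hK k :=
    ⟨_, by rw [add_comm t t']; exact uT_mul f hf hK t' t⟩
  have e : k = (k - k') + k' := (sub_add_cancel k k').symm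
  rw [e, uE_add] at hk
  refine ⟨((k - k').1, (k - k').2 + (t + t') * (k - k').1), ?_⟩
  rw [commutatorElement_def,
    show uT f hf hK t * uT f hf hK t' * (uT f hf hK t)⁻¹ * (uT f hf hK t')⁻¹ =
      (uT f hf hK t * uT f hf hK t') * (uT f hf hK t' * uT f hf hK t)⁻¹ by group, hk, hk',
    mul_inv_rev, ← mul_assoc, ← mul_assoc, mul_inv_cancel_right, mul_inv_eq_iff_eq_mul,
    uE_mul_uT, add_sub_cancel_right]

variable {Δ : Type v} [Group Δ] {σ : Δ →* ↥(twistedG2 K (3 ^ m))} (hsurj : Function.Surjective σ)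
  (hc : σ.ker ≤ Subgroup.center Δ)

include hsurj hc

theorem torus_uE (z : Kˣ) (x y : K × K)
    (h : σ (cm hsurj (uE f hf hK x) (uE f hf hK y)) = 1) :
    cm hsurj (uE f hf hK ((wu f z : K) * x.1, (z : K) * x.2))
        (uE f hf hK ((wu f z : K) * y.1, (z : K) * y.2)) =
      cm hsurj (uE f hf hK x) (uE f hf hK y) := by
  conv_rhs => rw [← ker_conj hc h (lf hsurj (hP f hf hK z)), cm_conj hsurj hc, lf_map,
    hP_conj_uE, hP_conj_uE]

/-- Lifts of the derived group of the unipotent part commute. -/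
theorem cm_uE_uE (hm : 1 ≤ m) (x y : K × K) : cm hsurj (uE f hf hK x) (uE f hf hK y) = 1 := by
  have hd : ∀ x y : K × K, σ (cm hsurj (uE f hf hK x) (uE f hf hK y)) = 1 := fun x y => by
    rw [cm_map, commutatorElement_eq_one_iff_commute]
    exact uE_comm f hf hK x y
  set B : K × K → K × K → Δ := fun x y => cm hsurj (uE f hf hK x) (uE f hf hK y) with hB
  have hl : ∀ x x' y, B (x + x') y = B x y * B x' y := fun x x' y => by
    show cm hsurj (uE f hf hK (x + x')) _ = _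
    rw [uE_add, cm_mul_left hsurj hc, ker_conj hc (hd _ _)]
    exact (ker_comm hc (hd _ _) _).eq.symm
  have hr : ∀ x y y', B x (y + y') = B x y * B x y' := fun x y y' => by
    show cm hsurj _ (uE f hf hK (y + y')) = _
    rw [uE_add, cm_mul_right hsurj hc, ker_conj hc (hd _ _)]
  have h3 := three_eq_zero (K := K)
  have hs := exists_elt f hf hK hm
  have hsq := signed_square f hf hK
  have hsplit : ∀ x : K × K, x = (x.1, 0) + (0, x.2) := fun x => by simp
  have uu : ∀ a b : K, B (a, 0) (b, 0) = 1 := by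
    refine square_form_zero h3 hs hsq (fun a a' b => ?_) (fun a b b' => ?_) (fun r hr0 a b => ?_)
    · rw [← hl]; simp
    · rw [← hr]; simp
    · obtain ⟨z, hz⟩ := exists_wu_sq f hf hK hr0
      have h := torus_uE f hf hK hsurj hc z (a, 0) (b, 0) (hd _ _)
      simpa [hz, hB] using h
  have vv : ∀ a b : K, B (0, a) (0, b) = 1 := by
    refine square_form_zero h3 hs hsq (fun a a' b => ?_) (fun a b b' => ?_) (fun r hr0 a b => ?_)
    · rw [← hl]; simp
    · rw [← hr]; simp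
    · have h := torus_uE f hf hK hsurj hc (Units.mk0 (r ^ 2) (pow_ne_zero _ hr0)) (0, a) (0, b)
        (hd _ _)
      simpa [hB] using h
  have uv : ∀ a b : K, B (a, 0) (0, b) = 1 := by
    intro a b
    have h1 : B (a, 0) (0, -b) = B (a, 0) (0, b) := by
      have h := cm_conj hsurj hc (lf hsurj (iota f hf hK)) (uE f hf hK (a, 0)) (uE f hf hK (0, b))
      rw [lf_map, neg_coord f hf hK, neg_coord f hf hK, ker_conj hc (hd _ _)] at h
      simpa [hB] using h.symm
    have h3' : B (a, 0) (0, -b + -b) = B (a, 0) (0, -b) * B (a, 0) (0, -b) := by rw [← hr]; simp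
    rw [show -b + -b = b by linear_combination (-b) * h3, h1] at h3'
    exact left_eq_mul.1 h3'
  have vu : ∀ a b : K, B (0, a) (b, 0) = 1 := fun a b => by
    show cm hsurj _ _ = 1
    rw [← cm_inv, inv_eq_one]
    exact uv b a
  show B x y = 1
  rw [hsplit x, hsplit y, hl, hr, hr, uu, uv, vu, vv, mul_one, mul_one]

/-- The section over the derived group of the unipotent part. -/
theorem exists_section (hm : 1 ≤ m) : ∃ s : K × K → Δ,
    (∀ x, σ (s x) = uE f hf hK x) ∧ (∀ x y, s (x + y) = s x * s y) ∧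
    ∀ (z : Kˣ) (k : Δ), σ k = hP f hf hK z → ∀ x : K × K,
      k * s x * k⁻¹ = s ((wu f z : K) * x.1, (z : K) * x.2) := by
  obtain ⟨r, hr0, hr1, hrm1⟩ := exists_elt f hf hK hm
  obtain ⟨y₀, hy₀⟩ := exists_wu_sq f hf hK hr0
  have hb : (wu f y₀ : K) - 1 ≠ 0 := by
    rw [hy₀]
    intro e
    have : (r - 1) * (r + 1) = 0 := by linear_combination e
    rcases mul_eq_zero.1 this with h | h
    · exact hr1 (sub_eq_zero.1 h)
    · exact hrm1 (eq_neg_of_add_eq_zero_left h)
  have hc' : (y₀ : K) - 1 ≠ 0 := fun e => hb (by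
    rw [show y₀ = 1 from Units.ext (sub_eq_zero.1 e), wu_val f, Units.val_one, map_one]
    simp)
  refine ⟨fun x => cm hsurj (hP f hf hK y₀)
    (uE f hf hK (x.1 / ((wu f y₀ : K) - 1), x.2 / ((y₀ : K) - 1))), fun x => ?_, fun x y => ?_,
    fun z k hk x => ?_⟩
  · rw [cm_map, commutatorElement_def, hP_conj_uE, mul_inv_eq_iff_eq_mul, ← uE_add]
    congr 1
    refine Prod.ext ?_ ?_
    · show _ = x.1 + x.1 / ((wu f y₀ : K) - 1)
      field_simp
      ring
    · show _ = x.2 + x.2 / ((y₀ : K) - 1)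
      field_simp
      ring
  · show cm hsurj _ _ = _
    rw [show ((x + y).1 / ((wu f y₀ : K) - 1), (x + y).2 / ((y₀ : K) - 1)) =
      ((x.1 / ((wu f y₀ : K) - 1), x.2 / ((y₀ : K) - 1)) : K × K) +
        (y.1 / ((wu f y₀ : K) - 1), y.2 / ((y₀ : K) - 1)) from Prod.ext (add_div _ _ _) (add_div _ _ _),
      uE_add, cm_mul_right hsurj hc]
    congr 1
    rw [mul_inv_eq_iff_eq_mul]
    refine commutatorElement_eq_one_iff_commute.1 ?_
    rw [cm_eq hsurj hc, lf_map, cm_map, commutatorElement_def, hP_conj_uE]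
    have e : ∀ a b : K × K, ∃ c, uE f hf hK a * (uE f hf hK b)⁻¹ = uE f hf hK c := fun a b =>
      ⟨a - b, by rw [mul_inv_eq_iff_eq_mul, ← uE_add, sub_add_cancel]⟩
    obtain ⟨c, hc2⟩ := e _ _
    rw [hc2]
    exact cm_uE_uE f hf hK hsurj hc hm _ _
  · show k * cm hsurj _ _ * k⁻¹ = cm hsurj _ _
    rw [cm_conj hsurj hc, hk, hP_conj_uE, ← map_mul, ← map_inv, ← map_mul,
      mul_comm z y₀, mul_inv_cancel_right, mul_div_assoc, mul_div_assoc]

set_option maxHeartbeats 600000 in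
/-- The derived group of the preimage of the unipotent part meets the kernel trivially. -/
theorem sylow_three (hm : 1 ≤ m) {z : Δ} (hz : σ z = 1)
    (hmem : z ∈ ⁅(UU K m).comap σ, (UU K m).comap σ⁆) : z = 1 := by
  classical
  obtain ⟨s, hs, hsadd, hseq⟩ := exists_section f hf hK hsurj hc hm
  have hs0 : s 0 = 1 := left_eq_mul.1 (show s 0 = s 0 * s 0 by rw [← hsadd, add_zero])
  have h3 := three_eq_zero (K := K)
  have hel := exists_elt f hf hK hm
  have hsq := signed_square f hf hK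
  obtain ⟨π, hπ⟩ : ∃ π : Δ → Δ, ∀ (w : Δ) x, σ w = uE f hf hK x → π w = w * (s x)⁻¹ :=
    ⟨fun w => w * (s (Function.invFun (uE f hf hK) (σ w)))⁻¹, fun w x h => by
      simp only [h, Function.leftInverse_invFun (uE_injective f hf hK) x]⟩
  have hπk : ∀ w : Δ, σ w = 1 → π w = w := fun w h => by
    rw [hπ w 0 (by rw [h, uE_zero]), hs0, inv_one, mul_one]
  have hπmap : ∀ (w : Δ) x, σ w = uE f hf hK x → σ (π w) = 1 := fun w x h => by
    rw [hπ w x h, map_mul, map_inv, hs, h, mul_inv_cancel]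
  have hπmul : ∀ (w w' : Δ) x y, σ w = uE f hf hK x → σ w' = uE f hf hK y →
      π (w * w') = π w * π w' := fun w w' x y h h' => by
    rw [hπ (w * w') (x + y) (by rw [map_mul, h, h', uE_add]), hsadd, mul_inv_rev, hπ w x h,
      mul_assoc, ← mul_assoc w', ← hπ w' y h', mul_assoc,
      ← (ker_comm hc (hπmap w' y h') _).eq, ← mul_assoc]
  have hπinv : ∀ (w : Δ) x, σ w = uE f hf hK x → π w⁻¹ = (π w)⁻¹ := fun w x h => by
    refine eq_inv_of_mul_eq_one_left ?_
    have h' : σ w⁻¹ = uE f hf hK (-x) := by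
      rw [map_inv, h]
      exact inv_eq_of_mul_eq_one_left (by rw [← uE_add, neg_add_cancel, uE_zero])
    rw [← hπmul _ _ _ _ h' h, inv_mul_cancel, hπk 1 (map_one σ)]
  have hπtor : ∀ (y : Kˣ) (k w : Δ) x, σ k = hP f hf hK y → σ w = uE f hf hK x →
      π (k * w * k⁻¹) = π w := fun y k w x hk h => by
    rw [hπ (k * w * k⁻¹) ((wu f y : K) * x.1, (y : K) * x.2)
      (by rw [map_mul, map_mul, map_inv, hk, h, hP_conj_uE]), ← hseq y k hk x,
      show k * w * k⁻¹ * (k * s x * k⁻¹)⁻¹ = k * (w * (s x)⁻¹) * k⁻¹ by group, ← hπ w x h,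
      ker_conj hc (hπmap w x h)]
  -- the two factors
  obtain ⟨D, hD⟩ : ∃ D : K → K → Δ,
      ∀ t v, D t v = cm hsurj (uT f hf hK t) (uE f hf hK (0, v)) := ⟨_, fun _ _ => rfl⟩
  obtain ⟨A, hA⟩ : ∃ A : K → K → Δ,
      ∀ t u, A t u = π (cm hsurj (uT f hf hK t) (uE f hf hK (u, 0))) := ⟨_, fun _ _ => rfl⟩
  have hcmW : ∀ t x, σ (cm hsurj (uT f hf hK t) (uE f hf hK x)) = uE f hf hK (0, t * x.1) :=
    fun t x => by rw [cm_map, comm_uT_uE]
  have hDk : ∀ t v, σ (D t v) = 1 := fun t v => by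
    rw [hD, hcmW, mul_zero]; exact uE_zero f hf hK
  have habsorb : ∀ (p : ↥G₁) (a x : K × K),
      cm hsurj (p * uE f hf hK a) (uE f hf hK x) = cm hsurj p (uE f hf hK x) := fun p a x => by
    rw [cm_mul_left hsurj hc, cm_uE_uE f hf hK hsurj hc hm, mul_one, mul_inv_cancel, one_mul]
  have hTT : ∀ t t', ∃ κ, uT f hf hK t * uT f hf hK t' = uT f hf hK (t + t') * uE f hf hK κ :=
    fun t t' => ⟨_, uT_mul f hf hK t t'⟩
  have hDl : ∀ t t' v, D (t + t') v = D t v * D t' v := fun t t' v => by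
    obtain ⟨κ, hκ⟩ := hTT t t'
    have h := cm_mul_left hsurj hc (uT f hf hK t) (uT f hf hK t') (uE f hf hK (0, v))
    rw [hκ, habsorb] at h
    rw [← hD, ← hD, ← hD] at h
    rw [ker_conj hc (hDk _ _)] at h
    rw [h]
    exact (ker_comm hc (hDk _ _) _).eq.symm
  have hDr : ∀ t v v', D t (v + v') = D t v * D t v' := fun t v v' => by
    have h := cm_mul_right hsurj hc (uT f hf hK t) (uE f hf hK (0, v)) (uE f hf hK (0, v'))
    rw [← uE_add, Prod.mk_add_mk, add_zero] at h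
    rw [← hD, ← hD, ← hD] at h
    rwa [ker_conj hc (hDk _ _)] at h
  have hDinv : ∀ (y : Kˣ) t v, D ((wt f y : K) * t) ((y : K) * v) = D t v := fun y t v => by
    have h := cm_conj hsurj hc (lf hsurj (hP f hf hK y)) (uT f hf hK t) (uE f hf hK (0, v))
    rw [lf_map, hP_conj_uT, hP_conj_uE, mul_zero] at h
    rw [← hD, ← hD] at h
    rw [ker_conj hc (hDk _ _)] at h
    exact h.symm
  have hconjT : ∀ t (w : Δ) c, σ w = uE f hf hK (0, c) →
      π (lf hsurj (uT f hf hK t) * w * (lf hsurj (uT f hf hK t))⁻¹) = D t c * π w := fun t w c h => by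
    have e : ⁅lf hsurj (uT f hf hK t), w⁆ = D t c := by rw [cm_eq hsurj hc, lf_map, h, hD]
    rw [show lf hsurj (uT f hf hK t) * w * (lf hsurj (uT f hf hK t))⁻¹ =
      ⁅lf hsurj (uT f hf hK t), w⁆ * w by simp only [commutatorElement_def]; group, e,
      hπmul _ _ 0 _ (by rw [hDk, uE_zero]) h, hπk _ (hDk _ _)]
  have hAk : ∀ t u, σ (A t u) = 1 := fun t u => by rw [hA]; exact hπmap _ _ (hcmW t (u, 0))
  have hAadd : ∀ t t' u, A (t + t') u = D t (t' * u) * A t' u * A t u := fun t t' u => by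
    obtain ⟨κ, hκ⟩ := hTT t t'
    have h := cm_mul_left hsurj hc (uT f hf hK t) (uT f hf hK t') (uE f hf hK (u, 0))
    rw [hκ, habsorb] at h
    have hw : σ (lf hsurj (uT f hf hK t) * cm hsurj (uT f hf hK t') (uE f hf hK (u, 0)) *
        (lf hsurj (uT f hf hK t))⁻¹) = uE f hf hK (0, t' * u) := by
      rw [map_mul, map_mul, map_inv, lf_map, hcmW, mul_inv_eq_iff_eq_mul, uE_mul_uT]
      simp
    rw [hA, hA, hA, h, hπmul _ _ _ _ hw (hcmW t (u, 0)), hconjT t _ _ (hcmW t' (u, 0))]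
  -- the two factors vanish
  have hsymm : ∀ t t' u, D t (t' * u) = D t' (t * u) := fun t t' u => by
    have h1 := hAadd t t' u
    have h2 := hAadd t' t u
    rw [add_comm t' t, h1, mul_assoc, mul_assoc, (ker_comm hc (hAk t u) (A t' u)).eq] at h2
    exact mul_right_cancel h2
  have hφ : ∀ w, D 1 w = 1 := by
    refine square_map_zero h3 hel (fun v v' => hDr 1 v v') fun r hr0 w => ?_
    have hfr : f r ≠ 0 := fun e => hr0 ((map_eq_zero f).1 e)
    have hs' : r / f r ≠ 0 := div_ne_zero hr0 hfr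
    have h := hDinv (gpar f (Units.mk0 _ hs')) 1 w
    rw [wt_gpar f hf hK, gpar_val, Units.val_mk0, mul_one] at h
    have hsm := hsymm 1 (r / f r) (f (r / f r) ^ 3 * (r / f r) ^ 2 * w)
    rw [one_mul, h] at hsm
    rw [← hsm]
    congr 1
    rw [map_div₀, div_pow, div_pow, ff_cube f hf hK]
    field_simp
  have hD1 : ∀ t v, D t v = 1 := fun t v => by
    have h := hsymm 1 t v
    rw [one_mul, hφ] at h
    exact h.symm
  have hA1 : ∀ t u, A t u = 1 := by
    intro t u
    have hadd : ∀ a b, A (a + b) u = A a u * A b u := fun a b => by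
      rw [hAadd, hD1, one_mul]
      exact (ker_comm hc (hAk _ _) _).eq.symm
    have hneg : A (-t) u = A t u := by
      have h := hπtor (-1) (lf hsurj (iota f hf hK)) _ _ (lf_map hsurj _) (hcmW t (u, 0))
      rw [cm_conj hsurj hc, lf_map, neg_coord f hf hK,
        show iota f hf hK = hP f hf hK (-1) from rfl, hP_conj_uT,
        show (wt f (-1) : K) = -1 by rw [wt_val f]; simp; norm_num, neg_one_mul] at h
      simp only [neg_zero] at h
      rw [hA, hA]
      exact h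
    have h2 : A (-t + -t) u = A (-t) u * A (-t) u := hadd _ _
    rw [show -t + -t = t by linear_combination (-t) * h3, hneg] at h2
    exact left_eq_mul.1 h2
  have hTW : ∀ t x, π (cm hsurj (uT f hf hK t) (uE f hf hK x)) = 1 := fun t x => by
    rw [show x = ((x.1, 0) : K × K) + (0, x.2) by simp, uE_add, cm_mul_right hsurj hc,
      show cm hsurj (uT f hf hK t) (uE f hf hK (0, x.2)) = 1 by rw [← hD]; exact hD1 t x.2, mul_one,
      mul_inv_cancel, mul_one]
    rw [← hA]; exact hA1 t x.1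
  have hconj : ∀ t (w : Δ) x, σ w = uE f hf hK x →
      π (lf hsurj (uT f hf hK t) * w * (lf hsurj (uT f hf hK t))⁻¹) = π w := fun t w x h => by
    have e : ⁅lf hsurj (uT f hf hK t), w⁆ = cm hsurj (uT f hf hK t) (uE f hf hK x) := by
      rw [cm_eq hsurj hc, lf_map, h]
    rw [show lf hsurj (uT f hf hK t) * w * (lf hsurj (uT f hf hK t))⁻¹ =
      ⁅lf hsurj (uT f hf hK t), w⁆ * w by simp only [commutatorElement_def]; group, e,
      hπmul _ _ _ _ (hcmW t x) h, hTW, one_mul]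
  obtain ⟨P, hPdef⟩ : ∃ P : K → K → Δ,
      ∀ t t', P t t' = π (cm hsurj (uT f hf hK t) (uT f hf hK t')) := ⟨_, fun _ _ => rfl⟩
  have hTTW : ∀ t t', ∃ y, σ (cm hsurj (uT f hf hK t) (uT f hf hK t')) = uE f hf hK y :=
    fun t t' => by rw [cm_map]; exact comm_uT_uT f hf hK t t'
  have hPk : ∀ t t', σ (P t t') = 1 := fun t t' => by
    obtain ⟨y, hy⟩ := hTTW t t'
    rw [hPdef]; exact hπmap _ _ hy
  have hETW : ∀ a t, σ (cm hsurj (uE f hf hK a) (uT f hf hK t)) = uE f hf hK (-(0, t * a.1)) :=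
    fun a t => by
      rw [← cm_inv, map_inv, hcmW]
      exact inv_eq_of_mul_eq_one_left (by rw [← uE_add, neg_add_cancel, uE_zero])
  have hET : ∀ a t, π (cm hsurj (uE f hf hK a) (uT f hf hK t)) = 1 := fun a t => by
    rw [← cm_inv, hπinv _ _ (hcmW t a), hTW, inv_one]
  have hconjW : ∀ t (w : Δ) x, σ w = uE f hf hK x →
      ∃ y, σ (lf hsurj (uT f hf hK t) * w * (lf hsurj (uT f hf hK t))⁻¹) = uE f hf hK y :=
    fun t w x h => ⟨(x.1, x.2 + t * x.1), by
      rw [map_mul, map_mul, map_inv, lf_map, h, mul_inv_eq_iff_eq_mul, uE_mul_uT,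
        add_sub_cancel_right]⟩
  -- a commutator with a `t`-element, absorbing the rest of the first argument
  have hleft : ∀ t a t', π (cm hsurj (uT f hf hK t * uE f hf hK a) (uT f hf hK t')) = P t t' := by
    intro t a t'
    obtain ⟨y, hy⟩ := hconjW t _ _ (hETW a t')
    obtain ⟨y', hy'⟩ := hTTW t t'
    rw [cm_mul_left hsurj hc, hπmul _ _ _ _ hy hy', hconj t _ _ (hETW a t'), hET, one_mul, hPdef]
  have hPl : ∀ t t' t'', P (t + t') t'' = P t t'' * P t' t'' := fun t t' t'' => by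
    obtain ⟨κ, hκ⟩ := hTT t t'
    obtain ⟨y', hy'⟩ := hTTW t' t''
    obtain ⟨y, hy⟩ := hTTW t t''
    obtain ⟨w, hw⟩ := hconjW t _ _ hy'
    have h := hleft (t + t') κ t''
    rw [← hκ, cm_mul_left hsurj hc, hπmul _ _ _ _ hw hy, hconj t _ _ hy', ← hPdef, ← hPdef] at h
    rw [← h]
    exact (ker_comm hc (hPk t' t'') (P t t'')).eq.symm
  have hPswap : ∀ t t', P t t' = (P t' t)⁻¹ := fun t t' => by
    obtain ⟨y, hy⟩ := hTTW t' t
    rw [hPdef, hPdef, ← cm_inv, hπinv _ _ hy]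
  have hP1 : ∀ t t', P t t' = 1 := by
    refine square_form_zero h3 hel hsq hPl (fun t a b => ?_) (fun r hr0 a b => ?_)
    · rw [hPswap, hPl, mul_inv_rev, ← hPswap, ← hPswap]
      exact (ker_comm hc (hPk t a) _).eq
    · obtain ⟨y, hy⟩ := hTTW a b
      have h := hπtor (gpar f (Units.mk0 _ (pow_ne_zero 2 hr0))) _ _ _ (lf_map hsurj _) hy
      rw [cm_conj hsurj hc, lf_map, hP_conj_uT, hP_conj_uT, wt_gpar f hf hK, Units.val_mk0] at h
      rw [hPdef, hPdef]; exact h
  -- conclusion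
  let S : Subgroup Δ :=
    { carrier := Set.range s
      one_mem' := ⟨0, hs0⟩
      mul_mem' := by rintro _ _ ⟨x, rfl⟩ ⟨y, rfl⟩; exact ⟨x + y, hsadd x y⟩
      inv_mem' := by
        rintro _ ⟨x, rfl⟩
        exact ⟨-x, eq_inv_of_mul_eq_one_left (by rw [← hsadd, neg_add_cancel, hs0])⟩ }
  have hle : ⁅(UU K m).comap σ, (UU K m).comap σ⁆ ≤ S := by
    refine Subgroup.commutator_le.2 fun p hp q hq => ?_
    obtain ⟨⟨t, a₁, a₂⟩, ha⟩ := (mem_UU_iff f hf hK).1 hp
    obtain ⟨⟨t', b₁, b₂⟩, hb⟩ := (mem_UU_iff f hf hK).1 hq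
    rw [cm_eq hsurj hc, ← ha, ← hb, uW_eq, uW_eq, cm_mul_right hsurj hc, habsorb]
    obtain ⟨y1, hy1⟩ := hTTW t t'
    obtain ⟨y3, hy3⟩ := hconjW t _ _ (hETW (a₁, a₂) t')
    obtain ⟨y4, hy4⟩ := hconjW t' _ _ (hcmW t (b₁, b₂))
    have hX : σ (cm hsurj (uT f hf hK t * uE f hf hK (a₁, a₂)) (uT f hf hK t')) =
        uE f hf hK (y3 + y1) := by rw [cm_mul_left hsurj hc, map_mul, hy3, hy1, uE_add]
    have h := hπmul _ _ _ _ hX hy4
    rw [hleft, hP1, hconj t' _ _ (hcmW t (b₁, b₂)), hTW, mul_one] at h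
    rw [hπ _ (y3 + y1 + y4) (by rw [map_mul, hX, hy4, ← uE_add])] at h
    exact ⟨_, (mul_inv_eq_one.1 h).symm⟩
  obtain ⟨x, rfl⟩ := hle hmem
  rw [hs, ← uE_zero f hf hK] at hz
  rw [uE_injective f hf hK hz, hs0]

/-- The preimage of a Sylow two-subgroup is commutative. -/
theorem sylow_two_lifts (hm : 1 ≤ m) (hel : ∀ z ∈ σ.ker, z * z = 1)
    (S : Sylow 2 ↥(twistedG2 K (3 ^ m))) :
    ∀ p ∈ (S : Subgroup ↥(twistedG2 K (3 ^ m))).comap σ,
      ∀ q ∈ (S : Subgroup ↥(twistedG2 K (3 ^ m))).comap σ, Commute p q := by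
  classical
  have H : Spor.Mult.TwoExt σ := ⟨hsurj, hc, hel⟩
  have hsq := sylow_two_exponent f hf hK S
  have hcomm : ∀ {x y : ↥G₁}, x ∈ S → y ∈ S → Commute x y := fun hx hy =>
    congrArg Subtype.val ((sylow_two_comm f hf hK S).is_comm.comm ⟨_, hx⟩ ⟨_, hy⟩)
  have h8 := card_sylow_two f hf hK S
  have pick : ∀ T : Finset ↥G₁, T.card < 8 → ∃ a ∈ S, a ∉ T := fun T hT => by
    by_contra hno
    push Not at hno
    have h := Set.ncard_le_ncard (s := ((S : Subgroup ↥G₁) : Set ↥G₁)) (t := (T : Set ↥G₁))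
      (fun a ha => hno a ha) T.finite_toSet
    rw [Set.ncard_coe_finset, ← Nat.card_coe_set_eq] at h
    simp only [SetLike.coe_sort_coe] at h
    omega
  obtain ⟨a, ha, ha'⟩ := pick {1} (by simp)
  obtain ⟨b, hb, hb'⟩ := pick {1, a} (Finset.card_le_two.trans_lt (by omega))
  obtain ⟨c, hc0, hc0'⟩ := pick {1, a, b, a * b} (Finset.card_le_four.trans_lt (by omega))
  simp only [Finset.mem_insert, Finset.mem_singleton, not_or] at ha' hb' hc0'
  obtain ⟨hb1, hba⟩ := hb'
  obtain ⟨hc1, hca, hcb, hcab⟩ := hc0'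
  have n1 : a * b ≠ 1 := fun e => hba (mul_left_cancel (e.trans (hsq a ha).symm))
  have n2 : a * c ≠ 1 := fun e => hca (mul_left_cancel (e.trans (hsq a ha).symm))
  have n3 : b * c ≠ 1 := fun e => hcb (mul_left_cancel (e.trans (hsq b hb).symm))
  have n4 : a * b * c ≠ 1 := fun e =>
    hcab (mul_left_cancel (e.trans (hsq _ (mul_mem ha hb)).symm))
  have hinv : ∀ x ∈ S, Spor.Mult.Inv1 σ x := by
    intro x hx
    by_cases h1 : x = 1
    · exact h1 ▸ H.inv1_one
    refine H.inv1_pure (hsq x hx) (hsq a ha) (hsq b hb) (hsq c hc0) (hcomm ha hb) (hcomm ha hc0)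
      (hcomm hb hc0) fun y hy => ?_
    have key : ∀ y ∈ S, y ≠ 1 → ∃ g, g * x = y * g := fun y hy hy1 => by
      obtain ⟨g, hg⟩ := exists_conj_iota f hf hK hm (hsq x hx) h1
      obtain ⟨g', hg'⟩ := exists_conj_iota f hf hK hm (hsq y hy) hy1
      refine ⟨g'⁻¹ * g, mul_left_cancel (a := g') ?_⟩
      rw [← hg', mul_inv_eq_iff_eq_mul] at hg
      calc g' * (g'⁻¹ * g * x) = g * x := by group
        _ = _ := by rw [hg]; group
    simp only [List.mem_cons, List.not_mem_nil, or_false] at hy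
    rcases hy with rfl | rfl | rfl | rfl | rfl | rfl | rfl
    · exact key _ ha ha'
    · exact key _ hb hb1
    · exact key _ hc0 hc1
    · exact key _ (mul_mem ha hb) n1
    · exact key _ (mul_mem ha hc0) n2
    · exact key _ (mul_mem hb hc0) n3
    · exact key _ (mul_mem (mul_mem ha hb) hc0) n4
  exact fun p hp q hq =>
    H.commute_lift (hinv _ hp) (hinv _ hq) (hinv _ (mul_mem hp hq)) rfl rfl

end Ree

/-- The Schur multiplier of a small Ree group is trivial. -/
theorem multiplier {K : Type u} [Field K] (f : K →+* K) [CharP K 3] [ExpChar K 3] [Fintype K]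
    {m : ℕ} (hf : ∀ t, f t = t ^ 3 ^ m) (hK : Fintype.card K = 3 ^ (2 * m + 1)) (hm : 1 ≤ m) :
    Cfsg.HasCyclicSchurMultiplier ↥(twistedG2 K (3 ^ m)) 1 := by
  classical
  refine Spor.Mult.trivial_of_prime fun p hp Δ _ _ σ hσ hexp =>
    Spor.Mult.ker_eq_bot σ hσ fun r hr hdvd => ?_
  haveI : Fact r.Prime := ⟨hr⟩
  obtain ⟨z₁, hz₁⟩ := exists_prime_orderOf_dvd_card' (G := σ.ker) r hdvd
  have hpp : r = p := by
    have h1 : orderOf z₁ ∣ p := orderOf_dvd_of_pow_eq_one (Subtype.ext (hexp _ z₁.2))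
    rw [hz₁] at h1
    exact (Nat.prime_dvd_prime_iff_eq hr hp).1 h1
  subst hpp
  rcases eq_or_ne r 3 with rfl | h3
  · refine ⟨UU K m, fun h => ?_, fun z hz hzo hmem => ?_⟩
    · have hci := Subgroup.card_mul_index (UU K m)
      rw [card_G f hf hK, card_UU f hf hK, mul_assoc] at hci
      have := Nat.eq_of_mul_eq_mul_left (by positivity) hci
      rw [this] at h
      obtain ⟨h8, h30⟩ := q_mod m
      rcases Nat.prime_three.dvd_mul.1 h with h | h
      · omega
      rcases Nat.prime_three.dvd_mul.1 h with h | h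
      · omega
      · exact absurd (phi_props m Nat.prime_three h).1 (lt_irrefl 3)
    · rw [sylow_three f hf hK hσ.1 hσ.2.1 hm hz hmem, orderOf_one] at hzo
      omega
  rcases eq_or_ne r 2 with rfl | h2
  · let S : Sylow 2 ↥(twistedG2 K (3 ^ m)) := default
    exact ⟨S, S.not_dvd_index, fun z _ hzo hmem => Spor.Mult.no_elt_of_comm _
      (sylow_two_lifts f hf hK hσ.1 hσ.2.1 hm
        (fun w hw => by rw [← sq]; exact hexp w hw) S) hr hzo hmem⟩
  · have hr3 : 3 < r := by have := hr.two_le; omega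
    let P : Sylow r ↥(twistedG2 K (3 ^ m)) := default
    obtain ⟨g, hg⟩ := (Subgroup.isCyclic_iff_exists_zpowers_eq_top
      (P : Subgroup ↥(twistedG2 K (3 ^ m)))).1 (sylow_cyclic f hf hK hm hr3 P)
    obtain ⟨a, ha⟩ := hσ.1 g
    refine ⟨P, P.not_dvd_index, fun z _ hzo hmem => ?_⟩
    rw [← hg, show Subgroup.zpowers g = Subgroup.closure (σ '' {a}) by
      rw [Set.image_singleton, ha, Subgroup.zpowers_eq_closure]] at hmem
    exact Spor.Mult.no_elt_of_comm _ (Spor.Mult.comm_of_gens σ hσ.2.1 _ (fun x hx y hy => by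
      rw [Set.mem_singleton_iff.1 hx, Set.mem_singleton_iff.1 hy])) hr hzo hmem

end Cfsg.Agent.Lie.Chev.G2.Mult
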