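import Cfsg.Agent.Lib.Lie.Chev.ReeConjCount

/-! Involutions, elements of order divisible by three and the split torus of a small Ree group. -/

set_option autoImplicit false
set_option maxRecDepth 4000

namespace Cfsg.Agent.Lie.Chev.G2

open Cfsg.Lie

section Abstract

variable {G : Type*} [Group G]

theorem orderOf_conj_eq (g x : G) : orderOf (g * x * g⁻¹) = orderOf x :=
  (MulAut.conj g).orderOf_eq x

theorem mul_self_ne_one {x : G} (h : 2 < orderOf x) : x * x ≠ 1 := fun e => by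
  have := Nat.le_of_dvd (by norm_num)
    (orderOf_dvd_of_pow_eq_one (x := x) (n := 2) (by rw [sq, e]))
  omega

end Abstract

variable {K : Type*} [Field K] (f : K →+* K) [CharP K 3] [ExpChar K 3]
variable [Fintype K] {m : ℕ} (hf : ∀ t, f t = t ^ 3 ^ m) (hK : Fintype.card K = 3 ^ (2 * m + 1))

include hf hK

local notation "G₁" => twistedG2 K (3 ^ m)

theorem q_card : Nat.card K = 3 ^ (2 * m + 1) := by rw [Nat.card_eq_fintype_card, hK]

theorem orderOf_iota : orderOf (iota f hf hK) = 2 :=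
  orderOf_eq_prime (by rw [sq]; exact iota_sq f hf hK) (iota_ne_one f hf hK)

theorem exists_conj_iota' (hm : 1 ≤ m) {x : ↥G₁} (hx : orderOf x = 2) :
    ∃ g, g * x * g⁻¹ = iota f hf hK :=
  exists_conj_iota f hf hK hm (by rw [← sq, ← hx, pow_orderOf_eq_one])
    (fun e => by rw [e, orderOf_one] at hx; omega)

/-- The number of involutions. -/
theorem card_order_two (hm : 1 ≤ m) :
    Nat.card {g : ↥G₁ // orderOf g = 2} =
      (3 ^ (2 * m + 1)) ^ 2 * ((3 ^ (2 * m + 1)) ^ 2 - 3 ^ (2 * m + 1) + 1) := by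
  have h := card_of_cover (fun g : ↥G₁ => orderOf g = 2) {iota f hf hK}
    (Subgroup.centralizer {iota f hf hK}) (fun g x hx => (orderOf_conj_eq g x).trans hx)
    (fun a ha => by rw [Set.mem_singleton_iff.1 ha]; exact orderOf_iota f hf hK)
    (fun x hx => exists_conj_iota' f hf hK hm hx)
    (fun n hn a ha => by
      rw [Set.mem_singleton_iff.1 ha, Subgroup.mem_centralizer_singleton_iff.1 hn,
        mul_inv_cancel_right]
      rfl)
    (fun g a ha h => by
      rw [Set.mem_singleton_iff.1 ha] at h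
      exact Subgroup.mem_centralizer_singleton_iff.2 (mul_inv_eq_iff_eq_mul.1 h))
  rw [Set.ncard_singleton, mul_one, card_centralizer_iota f hf hK, card_G f hf hK] at h
  have := q_large m hm
  refine Nat.eq_of_mul_eq_mul_right (m := 3 ^ (2 * m + 1) * (3 ^ (2 * m + 1) - 1) *
    (3 ^ (2 * m + 1) + 1)) (Nat.mul_pos (Nat.mul_pos (by omega) (by omega)) (by omega)) ?_
  rw [h]
  ring

theorem pow_nine_of_mem_UU {g : ↥G₁} (hg : g ∈ UU K m) : g ^ 9 = 1 := by
  obtain ⟨⟨t, u, v⟩, rfl⟩ := (mem_UU_iff f hf hK).1 hg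
  refine Subtype.ext ?_
  show ((reeWordU (3 ^ m) t u v).map fun p => certFullG2.xg p.1 p.2).prod ^ 9 = 1
  rw [show 9 = 3 * 3 from rfl, pow_mul, word_cube f hf,
    ((class_commute (K := K) pos_class (i := 9) (j := 11) (by simp) (by simp) _ _).pow_right 2).mul_pow,
    xg_cube, ← pow_mul, mul_comm 2, pow_mul, xg_cube, one_pow, mul_one]

theorem mem_centralizer_UU_iota {g : ↥G₁} :
    g ∈ UU K m ∧ g ∈ Subgroup.centralizer {iota f hf hK} ↔ ∃ u, uA f hf hK u = g := by
  constructor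
  · rintro ⟨hg, hc⟩
    obtain ⟨⟨t, u, v⟩, rfl⟩ := (mem_UU_iff f hf hK).1 hg
    obtain ⟨rfl, rfl⟩ := iota_comm_uW f hf hK (Subgroup.mem_centralizer_singleton_iff.1 hc).symm
    exact ⟨u, rfl⟩
  · rintro ⟨u, rfl⟩
    exact ⟨uA_mem f hf hK u,
      Subgroup.mem_centralizer_singleton_iff.2 (iota_comm_uA f hf hK u).symm⟩

theorem uA_cube (u : K) : uA f hf hK u ^ 3 = 1 := by
  rw [pow_succ, sq, ← uA_add, ← uA_add, show u + u + u = 0 by
    linear_combination u * (three_eq_zero (K := K)), uA_zero]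

theorem orderOf_uA {u : K} (hu : u ≠ 0) : orderOf (uA f hf hK u) = 3 :=
  haveI : Fact (Nat.Prime 3) := ⟨Nat.prime_three⟩
  orderOf_eq_prime (uA_cube f hf hK u)
    fun e => hu (uA_injective f hf hK (e.trans (uA_zero f hf hK).symm))

theorem exists_conj_uA {x : ↥G₁} {k : ℕ} (hx : x ^ 3 ^ k = 1)
    (hc : x ∈ Subgroup.centralizer {iota f hf hK}) :
    ∃ c ∈ Subgroup.centralizer {iota f hf hK}, c * x * c⁻¹ ∈ UU K m := by
    haveI : Fact (Nat.Prime 3) := ⟨Nat.prime_three⟩
    set C := Subgroup.centralizer {iota f hf hK} with hC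
    have hcard : Nat.card ↥((UU K m).subgroupOf C) = 3 ^ (2 * m + 1) := by
      rw [← q_card f hf hK]
      refine (Nat.card_congr (Equiv.ofBijective (fun u : K => (⟨⟨uA f hf hK u,
        ((mem_centralizer_UU_iota f hf hK).2 ⟨u, rfl⟩).2⟩, uA_mem f hf hK u⟩ :
          ↥((UU K m).subgroupOf C))) ⟨fun u v e => uA_injective f hf hK ?_, fun y => ?_⟩)).symm
      · exact congrArg (fun z : ↥((UU K m).subgroupOf C) => ((z : ↥C) : ↥G₁)) e
      · obtain ⟨u, hu⟩ := (mem_centralizer_UU_iota f hf hK).1 ⟨y.2, (y : ↥C).2⟩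
        exact ⟨u, Subtype.ext (Subtype.ext hu)⟩
    obtain ⟨c, hc'⟩ := exists_conj_mem_of_full ((UU K m).subgroupOf C) (p := 3) (k := k)
      (x := (⟨x, hc⟩ : ↥C)) (by
        rw [hcard, hC, card_centralizer_iota f hf hK]
        obtain ⟨-, h30⟩ := q_mod m
        have h1 : 1 ≤ 3 ^ (2 * m + 1) := Nat.one_le_pow _ _ (by norm_num)
        have hne : ¬ 3 ∣ (3 ^ (2 * m + 1) - 1) * (3 ^ (2 * m + 1) + 1) := fun h => by
          rcases Nat.prime_three.dvd_mul.1 h with h | h <;> omega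
        rw [mul_assoc, Nat.factorization_mul (by positivity)
          (fun e => hne (by rw [e]; exact dvd_zero _)), Finsupp.add_apply,
          Nat.factorization_eq_zero_of_not_dvd hne, add_zero]) (Subtype.ext hx)
    exact ⟨c, c.2, hc'⟩

/-- What centralises the involution and has 3-power order has order at most three. -/
theorem cube_of_centralizer_iota {x : ↥G₁} {k : ℕ} (hx : x ^ 3 ^ k = 1)
    (hc : x ∈ Subgroup.centralizer {iota f hf hK}) : x ^ 3 = 1 := by
  obtain ⟨c, hcC, hc'⟩ := exists_conj_uA f hf hK hx hc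
  obtain ⟨u, hu⟩ := (mem_centralizer_UU_iota f hf hK).1
    ⟨hc', mul_mem (mul_mem hcC hc) (inv_mem hcC)⟩
  have h := uA_cube f hf hK u
  rw [hu, conj_pow, conj_eq_one_iff] at h
  exact h

/-- Elements of order divisible by three have order three, six or nine. -/
theorem orderOf_three_dvd (hm : 1 ≤ m) {x : ↥G₁} (h3 : 3 ∣ orderOf x) :
    orderOf x = 3 ∨ orderOf x = 6 ∨ orderOf x = 9 := by
  set n := orderOf x with hn
  have hn0 : 0 < n := orderOf_pos x
  obtain ⟨i, hi⟩ := exists_prime_power (fun e => by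
    rw [hn, e, orderOf_one] at h3; norm_num at h3) Nat.prime_three h3
  have hcomm : x * x ^ i = x ^ i * x := (Commute.self_pow x i).eq
  have hdvd := orderOf_commute_three f hf hK hcomm hi
  -- only the primes two and three
  have hprimes : ∀ r : ℕ, r.Prime → r ∣ n → r = 2 ∨ r = 3 := by
    intro r hr hrn
    by_contra hne
    simp only [not_or] at hne
    obtain ⟨j, hj⟩ := exists_prime_power (fun e => by
      rw [hn, e, orderOf_one] at h3; norm_num at h3) hr hrn
    have hrq : r ∣ 3 ^ (2 * m + 1) - 1 := by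
      rcases hr.dvd_mul.1 (hrn.trans hdvd) with h | h
      · exact absurd (hr.dvd_of_dvd_pow h) (not_dvd_three m hr hne.2)
      · exact h
    have h := Subgroup.orderOf_dvd_natCard (s := Subgroup.centralizer {x ^ j})
      (x := x ^ i) (Subgroup.mem_centralizer_singleton_iff.2 (Commute.pow_pow_self x i j).eq)
    rw [hi, minus_card f hf hK hr hne.1 hrq hj] at h
    have := (q_mod m).2
    have : 1 ≤ 3 ^ (2 * m + 1) := Nat.one_le_pow _ _ (by norm_num)
    omega
  -- the 2-part and the 3-part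
  have h2 : ¬ 4 ∣ n := by
    rintro ⟨j, hj⟩
    refine orderOf_ne_four f hf hK (x ^ j) ?_
    have hj0 : j ≠ 0 := by omega
    rw [orderOf_pow' x hj0, ← hn, hj, Nat.gcd_eq_right (dvd_mul_left j 4),
      Nat.mul_div_cancel _ (Nat.pos_of_ne_zero hj0)]
  have h27 : ¬ 27 ∣ n := by
    rintro ⟨j, hj⟩
    have hj0 : j ≠ 0 := by omega
    have ho : orderOf (x ^ j) = 27 := by
      rw [orderOf_pow' x hj0, ← hn, hj, Nat.gcd_eq_right (dvd_mul_left j 27),
        Nat.mul_div_cancel _ (Nat.pos_of_ne_zero hj0)]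
    obtain ⟨c, hc⟩ := three_conj f hf hK (y := x ^ j) (k := 3)
      (show (x ^ j) ^ 27 = 1 by rw [← ho, pow_orderOf_eq_one])
    have h := orderOf_dvd_of_pow_eq_one (pow_nine_of_mem_UU f hf hK hc)
    rw [orderOf_conj_eq, ho] at h
    exact absurd (Nat.le_of_dvd (by norm_num) h) (by norm_num)
  have h18 : n ≠ 18 := by
    intro e
    have hx18 : x ^ 18 = 1 := by rw [← e, hn, pow_orderOf_eq_one]
    have ho9 : orderOf (x ^ 9) = 2 := by
      rw [orderOf_pow' x (by norm_num), ← hn, e]; norm_num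
    obtain ⟨g, hg⟩ := exists_conj_iota' f hf hK hm ho9
    have hc : g * x ^ 2 * g⁻¹ ∈ Subgroup.centralizer {iota f hf hK} := by
      rw [← hg]
      exact conj_mem_centralizer g
        (Subgroup.mem_centralizer_singleton_iff.2 (Commute.pow_pow_self x 2 9).eq)
    have h := cube_of_centralizer_iota f hf hK (k := 2)
      (by rw [conj_pow, ← pow_mul, show 2 * 3 ^ 2 = 18 from rfl, hx18, mul_one, mul_inv_cancel]) hc
    rw [conj_pow, conj_eq_one_iff, ← pow_mul] at h
    have := Nat.le_of_dvd (by norm_num) (orderOf_dvd_of_pow_eq_one h)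
    omega
  have hdiv : n ∣ 18 := by
    rw [← Nat.factorization_le_iff_dvd hn0.ne' (by norm_num)]
    intro r
    by_cases hr : r.Prime
    swap
    · simp [Nat.factorization_eq_zero_of_not_prime _ hr]
    by_cases hrn : r ∣ n
    swap
    · rw [Nat.factorization_eq_zero_of_not_dvd hrn]; exact Nat.zero_le _
    rcases hprimes r hr hrn with rfl | rfl
    · refine le_trans (?_ : _ ≤ 1) ((Nat.Prime.pow_dvd_iff_le_factorization Nat.prime_two
        (by norm_num)).1 (by norm_num))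
      by_contra hlt
      exact h2 ((show 4 ∣ 2 ^ n.factorization 2 from pow_dvd_pow 2 (show 2 ≤ _ by omega)).trans
        (Nat.ordProj_dvd n 2))
    · refine le_trans (?_ : _ ≤ 2) ((Nat.Prime.pow_dvd_iff_le_factorization Nat.prime_three
        (by norm_num)).1 (by norm_num))
      by_contra hlt
      exact h27 ((show 27 ∣ 3 ^ n.factorization 3 from pow_dvd_pow 3 (show 3 ≤ _ by omega)).trans
        (Nat.ordProj_dvd n 3))
  have : n ≤ 18 := Nat.le_of_dvd (by norm_num) hdiv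
  interval_cases n <;> omega

theorem card_UU_orderOf : Nat.card {a : ↥(UU K m) // orderOf (a : ↥G₁) = 3} =
      (3 ^ (2 * m + 1)) ^ 2 - 1 ∧
    Nat.card {a : ↥(UU K m) // orderOf (a : ↥G₁) = 9} =
      (3 ^ (2 * m + 1)) ^ 3 - (3 ^ (2 * m + 1)) ^ 2 := by
  classical
  have h3 : Nat.card {a : ↥(UU K m) // orderOf (a : ↥G₁) = 3} = (3 ^ (2 * m + 1)) ^ 2 - 1 := by
    rw [← card_order_three f hf hK]
    exact Nat.card_congr
      { toFun := fun a => ⟨⟨((a.1 : ↥G₁) : GL chevG2.Idx K), a.1.2, a.1.1.2⟩, by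
          rw [← Subgroup.orderOf_coe]; exact (Subgroup.orderOf_coe a.1.1).trans a.2⟩
        invFun := fun b => ⟨⟨⟨b.1, b.1.2.2⟩, b.1.2.1⟩, by
          rw [← Subgroup.orderOf_coe]; exact (Subgroup.orderOf_coe b.1).trans b.2⟩
        left_inv := fun _ => rfl
        right_inv := fun _ => rfl }
  refine ⟨h3, ?_⟩
  cases nonempty_fintype ↥(UU K m)
  have hall : ∀ a : ↥(UU K m),
      orderOf (a : ↥G₁) = 1 ∨ orderOf (a : ↥G₁) = 3 ∨ orderOf (a : ↥G₁) = 9 := fun a => by
    obtain ⟨i, hi, e⟩ := (Nat.dvd_prime_pow Nat.prime_three (m := 2)).1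
      (orderOf_dvd_of_pow_eq_one (pow_nine_of_mem_UU f hf hK a.2) : orderOf (a : ↥G₁) ∣ 3 ^ 2)
    interval_cases i <;> simp_all
  set s1 := Finset.univ.filter fun a : ↥(UU K m) => orderOf (a : ↥G₁) = 1
  set s3 := Finset.univ.filter fun a : ↥(UU K m) => orderOf (a : ↥G₁) = 3
  set s9 := Finset.univ.filter fun a : ↥(UU K m) => orderOf (a : ↥G₁) = 9
  have e9 : Nat.card {a : ↥(UU K m) // orderOf (a : ↥G₁) = 9} = s9.card := by
    rw [Nat.card_eq_fintype_card, Fintype.card_subtype]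
  have e3 : Nat.card {a : ↥(UU K m) // orderOf (a : ↥G₁) = 3} = s3.card := by
    rw [Nat.card_eq_fintype_card, Fintype.card_subtype]
  have e1 : s1 = {1} := by
    ext a
    simp only [s1, Finset.mem_filter, Finset.mem_univ, true_and, Finset.mem_singleton,
      orderOf_eq_one_iff, OneMemClass.coe_eq_one]
  have htot : s1.card + s3.card + s9.card = Nat.card ↥(UU K m) := by
    rw [← Finset.card_union_of_disjoint (by
        rw [Finset.disjoint_left]; intro a h1' h3'
        simp only [s1, s3, Finset.mem_filter] at h1' h3'; omega),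
      ← Finset.card_union_of_disjoint (by
        rw [Finset.disjoint_left]; intro a h1' h9'
        simp only [s1, s3, s9, Finset.mem_union, Finset.mem_filter] at h1' h9'; omega),
      Nat.card_eq_fintype_card, ← Finset.card_univ]
    congr 1
    ext a
    simp only [s1, s3, s9, Finset.mem_union, Finset.mem_filter, Finset.mem_univ, true_and, iff_true,
      or_assoc]
    exact hall a
  rw [e1, Finset.card_singleton, card_UU f hf hK] at htot
  have hq : 1 ≤ (3 ^ (2 * m + 1)) ^ 2 := Nat.one_le_pow _ _ (by positivity)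
  omega

theorem card_three_power {i : ℕ} {N : ℕ} (hi : i = 3 ∨ i = 9)
    (hN : Nat.card {a : ↥(UU K m) // orderOf (a : ↥G₁) = i} = N) :
    Nat.card {g : ↥G₁ // orderOf g = i} = N * ((3 ^ (2 * m + 1)) ^ 3 + 1) := by
  have h := card_of_cover (fun g : ↥G₁ => orderOf g = i) {a | a ∈ UU K m ∧ orderOf a = i}
    (BB K m) (fun g x hx => (orderOf_conj_eq g x).trans hx) (fun a ha => ha.2)
    (fun x hx => by
      obtain ⟨k, hk⟩ : ∃ k, i = 3 ^ k := by
        rcases hi with rfl | rfl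
        · exact ⟨1, rfl⟩
        · exact ⟨2, rfl⟩
      obtain ⟨c, hc⟩ := three_conj f hf hK (y := x) (k := k) (by rw [← hk, ← hx, pow_orderOf_eq_one])
      exact ⟨c, hc, (orderOf_conj_eq c x).trans hx⟩)
    (fun n hn a ha => ⟨BB_conj_UU f hf hK hn ha.1, (orderOf_conj_eq n a).trans ha.2⟩)
    (fun g a ha h => conj_mem_UU f hf hK ha.1 (fun e => by
      have := ha.2
      rw [e, orderOf_one] at this
      omega) h.1)
  rw [← Nat.card_coe_set_eq, card_BB f hf hK, card_G f hf hK] at h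
  have e : Nat.card ↥{a : ↥G₁ | a ∈ UU K m ∧ orderOf a = i} = N := by
    rw [← hN]
    exact Nat.card_congr (Equiv.subtypeSubtypeEquivSubtypeInter (· ∈ UU K m) fun a => orderOf a = i).symm
  rw [e] at h
  have hq : 3 ≤ 3 ^ (2 * m + 1) := le_self_pow₀ (by norm_num) (by omega)
  refine Nat.eq_of_mul_eq_mul_right (m := (3 ^ (2 * m + 1)) ^ 3 * (3 ^ (2 * m + 1) - 1))
    (Nat.mul_pos (by positivity) (by omega)) ?_
  rw [h, ← phi_mul m]
  ring

theorem card_orderOf_three : Nat.card {g : ↥G₁ // orderOf g = 3} =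
    ((3 ^ (2 * m + 1)) ^ 2 - 1) * ((3 ^ (2 * m + 1)) ^ 3 + 1) :=
  card_three_power f hf hK (Or.inl rfl) (card_UU_orderOf f hf hK).1

theorem card_orderOf_nine : Nat.card {g : ↥G₁ // orderOf g = 9} =
    (3 ^ (2 * m + 1)) ^ 2 * (3 ^ (2 * m + 1) - 1) * ((3 ^ (2 * m + 1)) ^ 3 + 1) := by
  rw [card_three_power f hf hK (Or.inr rfl) (card_UU_orderOf f hf hK).2]
  congr 1
  rw [Nat.mul_sub_one, ← pow_succ]

/-- The elements of order three centralising the involution. -/
theorem card_three_centralizer_iota (hm : 1 ≤ m) :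
    Nat.card {y : ↥(Subgroup.centralizer {iota f hf hK}) // orderOf y = 3} =
      (3 ^ (2 * m + 1)) ^ 2 - 1 := by
  classical
  set C := Subgroup.centralizer {iota f hf hK} with hC
  have hiC : ∀ h ∈ HH K m, h ∈ C := fun h hh =>
    Subgroup.mem_centralizer_singleton_iff.2 (HH_comm f hf hK hh (iota_mem f hf hK))
  have hB : Nat.card ↥((BB K m).subgroupOf C) =
      3 ^ (2 * m + 1) * (3 ^ (2 * m + 1) - 1) := by
    rw [← q_card f hf hK, show Nat.card K - 1 = Nat.card ↥(HH K m) by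
      rw [q_card f hf hK, card_HH f hf hK], ← Nat.card_prod]
    let φ : K × ↥(HH K m) → ↥((BB K m).subgroupOf C) := fun p =>
      ⟨⟨uA f hf hK p.1 * p.2, mul_mem ((mem_centralizer_UU_iota f hf hK).2 ⟨_, rfl⟩).2
        (hiC _ p.2.2)⟩, mul_mem (UU_le_BB (uA_mem f hf hK _)) (HH_le_BB p.2.2)⟩
    refine (Nat.card_eq_of_bijective φ ⟨fun p p' e => ?_, fun g => ?_⟩).symm
    · have e' : uA f hf hK p.1 * p.2 = uA f hf hK p'.1 * p'.2 :=
        congrArg (fun z : ↥((BB K m).subgroupOf C) => ((z : ↥C) : ↥G₁)) e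
      have h1 : (uA f hf hK p'.1)⁻¹ * uA f hf hK p.1 = p'.2 * (p.2 : ↥G₁)⁻¹ := by
        rw [eq_mul_inv_iff_mul_eq, mul_assoc, e', inv_mul_cancel_left]
      have h2 : (uA f hf hK p'.1)⁻¹ * uA f hf hK p.1 = 1 := UU_inf_HH f hf hK
        (mul_mem (inv_mem (uA_mem f hf hK _)) (uA_mem f hf hK _))
        (h1 ▸ mul_mem p'.2.2 (inv_mem p.2.2))
      rw [inv_mul_eq_one] at h2
      have e1 := uA_injective f hf hK h2
      rw [e1] at e'
      exact Prod.ext e1.symm (Subtype.ext (mul_left_cancel e'))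
    · obtain ⟨u, hu, h, hh, e⟩ := (mem_BB_iff f hf hK).1 g.2
      have hg' : ((g : ↥C) : ↥G₁) = u * h := e
      have huC : u ∈ C := by
        have := mul_mem (g : ↥C).2 (inv_mem (hiC h hh))
        rwa [hg', mul_inv_cancel_right] at this
      obtain ⟨v, rfl⟩ := (mem_centralizer_UU_iota f hf hK).1 ⟨hu, huC⟩
      exact ⟨(v, ⟨h, hh⟩), Subtype.ext (Subtype.ext hg'.symm)⟩
  have h := card_of_cover (fun y : ↥C => orderOf y = 3)
    {a | (a : ↥G₁) ∈ UU K m ∧ orderOf a = 3} ((BB K m).subgroupOf C)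
    (fun g x hx => (orderOf_conj_eq g x).trans hx) (fun a ha => ha.2)
    (fun x hx => by
      obtain ⟨c, hc, hc'⟩ := @exists_conj_uA _ _ f _ _ _ m hf hK x.1 1
        (by rw [pow_one]; exact orderOf_dvd_iff_pow_eq_one.1
              (by rw [Subgroup.orderOf_coe, hx])) x.2
      exact ⟨⟨c, hc⟩, hc', (orderOf_conj_eq (⟨c, hc⟩ : ↥C) x).trans hx⟩)
    (fun n hn a ha => ⟨BB_conj_UU f hf hK hn ha.1, (orderOf_conj_eq n a).trans ha.2⟩)
    (fun g a ha h => conj_mem_UU f hf hK ha.1 (fun e => by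
      have h3 := ha.2
      rw [← Subgroup.orderOf_coe, e, orderOf_one] at h3
      omega) h.1)
  have hS : ({a : ↥C | (a : ↥G₁) ∈ UU K m ∧ orderOf a = 3}).ncard + 1 = 3 ^ (2 * m + 1) := by
    rw [← q_card f hf hK, ← Set.ncard_univ]
    let ψ : K → ↥C := fun u => ⟨uA f hf hK u, ((mem_centralizer_UU_iota f hf hK).2 ⟨u, rfl⟩).2⟩
    have hψ : Function.Injective ψ := fun u v e =>
      uA_injective f hf hK (congrArg Subtype.val e)
    have e : {a : ↥C | (a : ↥G₁) ∈ UU K m ∧ orderOf a = 3} = ψ '' ({0}ᶜ) := by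
      ext a
      simp only [Set.mem_setOf_eq, Set.mem_image, Set.mem_compl_iff, Set.mem_singleton_iff]
      constructor
      · rintro ⟨ha, ho⟩
        obtain ⟨u, hu⟩ := (mem_centralizer_UU_iota f hf hK).1 ⟨ha, a.2⟩
        refine ⟨u, fun e => ?_, Subtype.ext hu⟩
        rw [← Subgroup.orderOf_coe, ← hu, e, uA_zero, orderOf_one] at ho
        omega
      · rintro ⟨u, hu, rfl⟩
        exact ⟨uA_mem f hf hK u, (Subgroup.orderOf_coe _).symm.trans (orderOf_uA f hf hK hu)⟩
    rw [e, Set.ncard_image_of_injective _ hψ, Set.ncard_univ,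
      ← Set.ncard_add_ncard_compl ({0} : Set K), Set.ncard_singleton, add_comm]
  rw [hB, card_centralizer_iota f hf hK] at h
  set n := Nat.card {y : ↥C // orderOf y = 3}
  have hq := q_large m hm
  have e : ({a : ↥C | (a : ↥G₁) ∈ UU K m ∧ orderOf a = 3}).ncard = 3 ^ (2 * m + 1) - 1 := by omega
  rw [e] at h
  refine Nat.eq_of_mul_eq_mul_right (m := 3 ^ (2 * m + 1) * (3 ^ (2 * m + 1) - 1))
    (Nat.mul_pos (by omega) (by omega)) ?_
  rw [h, show (3 ^ (2 * m + 1)) ^ 2 - 1 = (3 ^ (2 * m + 1) + 1) * (3 ^ (2 * m + 1) - 1) from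
    Nat.sq_sub_sq _ 1]
  ring

theorem card_orderOf_six (hm : 1 ≤ m) : Nat.card {g : ↥G₁ // orderOf g = 6} =
    (3 ^ (2 * m + 1)) ^ 2 * (3 ^ (2 * m + 1) - 1) * ((3 ^ (2 * m + 1)) ^ 3 + 1) := by
  set a₀ := iota f hf hK
  have hsq : a₀ * a₀ = 1 := iota_sq f hf hK
  have ho2 : orderOf a₀ = 2 := orderOf_iota f hf hK
  have h := card_of_cover (fun g : ↥G₁ => orderOf g = 6) {a | orderOf a = 6 ∧ a ^ 3 = a₀}
    (Subgroup.centralizer {a₀}) (fun g x hx => (orderOf_conj_eq g x).trans hx) (fun a ha => ha.1)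
    (fun x hx => by
      obtain ⟨c, hc⟩ := exists_conj_iota' f hf hK hm (x := x ^ 3)
        (by rw [orderOf_pow' x (by norm_num), hx]; norm_num)
      exact ⟨c, (orderOf_conj_eq c x).trans hx, by rw [conj_pow]; exact hc⟩)
    (fun n hn a ha => ⟨(orderOf_conj_eq n a).trans ha.1, by
      rw [conj_pow, ha.2, Subgroup.mem_centralizer_singleton_iff.1 hn, mul_inv_cancel_right]⟩)
    (fun g a ha h => Subgroup.mem_centralizer_singleton_iff.2 (by
      have e := h.2
      rw [conj_pow, ha.2] at e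
      exact mul_inv_eq_iff_eq_mul.1 e))
  have e : ({a | orderOf a = 6 ∧ a ^ 3 = a₀} : Set ↥G₁).ncard =
      (3 ^ (2 * m + 1)) ^ 2 - 1 := by
    rw [← card_three_centralizer_iota f hf hK hm, ← Nat.card_coe_set_eq]
    have hc : ∀ a : ↥G₁, a ^ 3 = a₀ → a * a₀ = a₀ * a := fun a e =>
      e ▸ (Commute.self_pow a 3).eq
    refine Nat.card_congr
      { toFun := fun a => ⟨⟨a₀ * a.1, Subgroup.mem_centralizer_singleton_iff.2 ?_⟩, ?_⟩
        invFun := fun y => ⟨a₀ * y.1.1, ?_⟩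
        left_inv := fun a => Subtype.ext ?_
        right_inv := fun y => Subtype.ext (Subtype.ext ?_) }
    · rw [mul_assoc, hc a.1 a.2.2]
    · haveI : Fact (Nat.Prime 3) := ⟨Nat.prime_three⟩
      rw [← Subgroup.orderOf_coe]
      refine orderOf_eq_prime ?_ fun e => ?_
      · show (a₀ * a.1) ^ 3 = 1
        rw [(show Commute a₀ a.1 from (hc a.1 a.2.2).symm).mul_pow, a.2.2, pow_succ, sq, hsq,
          one_mul, hsq]
      · have e' : (a.1 : ↥G₁) = a₀ := by
          have h' : a₀ * a.1 = a₀ * a₀ := e.trans hsq.symm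
          exact mul_left_cancel h'
        have h6 := a.2.1
        rw [e', ho2] at h6
        omega
    · have hy : orderOf (y.1 : ↥G₁) = 3 := (Subgroup.orderOf_coe y.1).trans y.2
      have hcm : Commute a₀ (y.1 : ↥G₁) :=
        (Subgroup.mem_centralizer_singleton_iff.1 y.1.2).symm
      refine ⟨?_, ?_⟩
      · show orderOf (a₀ * (y.1 : ↥G₁)) = 6
        rw [hcm.orderOf_mul_eq_mul_orderOf_of_coprime (by rw [ho2, hy]; decide), ho2, hy]
      · show (a₀ * (y.1 : ↥G₁)) ^ 3 = a₀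
        rw [hcm.mul_pow, show (y.1 : ↥G₁) ^ 3 = 1 from orderOf_dvd_iff_pow_eq_one.1 (by rw [hy]),
          mul_one, pow_succ, sq, hsq, one_mul]
    · show a₀ * (a₀ * a.1) = a.1
      rw [← mul_assoc, hsq, one_mul]
    · show a₀ * (a₀ * (y.1 : ↥G₁)) = y.1
      rw [← mul_assoc, hsq, one_mul]
  rw [e, card_centralizer_iota f hf hK, card_G f hf hK] at h
  have hq := q_large m hm
  refine Nat.eq_of_mul_eq_mul_right (m := 3 ^ (2 * m + 1) * (3 ^ (2 * m + 1) - 1) *
    (3 ^ (2 * m + 1) + 1)) (Nat.mul_pos (Nat.mul_pos (by omega) (by omega)) (by omega)) ?_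
  rw [h, show (3 ^ (2 * m + 1)) ^ 2 - 1 = (3 ^ (2 * m + 1) + 1) * (3 ^ (2 * m + 1) - 1) from
    Nat.sq_sub_sq _ 1, ← phi_mul m]
  ring

/-! ### The split torus -/

theorem HH_cyclic : IsCyclic ↥(HH K m) :=
  isCyclic_of_surjective ((hP f hf hK).codRestrict (HH K m) (hP_mem f hf hK)) fun g => by
    obtain ⟨x, hx⟩ := (mem_HH_iff f hf hK).1 g.2
    exact ⟨x, Subtype.ext hx⟩

theorem exists_HH_generator : ∃ g ∈ HH K m, orderOf g = 3 ^ (2 * m + 1) - 1 := by
  obtain ⟨g, hg⟩ := (HH_cyclic f hf hK).exists_ofOrder_eq_natCard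
  exact ⟨g, g.2, by rw [Subgroup.orderOf_coe, hg, card_HH f hf hK]⟩

theorem centralizer_of_mem_HH {h : ↥G₁} (hh : h ∈ HH K m) (h2 : 2 < orderOf h) :
    Subgroup.centralizer {h} = HH K m :=
  centralizer_HH f hf hK hh (mul_self_ne_one h2)

theorem HH_TI {g a : ↥G₁} (ha : a ∈ HH K m) (h2 : 2 < orderOf a) (hg : g * a * g⁻¹ ∈ HH K m) :
    g ∈ Subgroup.normalizer (HH K m : Set ↥G₁) :=
  mem_normalizer_of_centralizer (centralizer_of_mem_HH f hf hK ha h2)
    (centralizer_of_mem_HH f hf hK hg (by rwa [orderOf_conj_eq]))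

theorem minus_conj {x : ↥G₁} (h2 : 2 < orderOf x) (hd : orderOf x ∣ 3 ^ (2 * m + 1) - 1) :
    ∃ c, c * x * c⁻¹ ∈ HH K m := by
  obtain ⟨p, hp, hp2, hpd⟩ : ∃ p : ℕ, p.Prime ∧ p ≠ 2 ∧ p ∣ orderOf x := by
    by_contra hne
    simp only [not_exists, not_and] at hne
    have h4 : ∀ p : ℕ, p.Prime → p ∣ orderOf x → p = 2 := fun p hp hd =>
      by_contra fun h => hne p hp h hd
    obtain ⟨k, hk⟩ : ∃ k, orderOf x = 2 ^ k :=
      ⟨_, Nat.eq_prime_pow_of_unique_prime_dvd (orderOf_pos x).ne' fun {d} hd hdd => h4 d hd hdd⟩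
    rw [hk] at hd h2
    have : 4 ∣ 3 ^ (2 * m + 1) - 1 := by
      refine (show 4 ∣ 2 ^ k from ?_).trans hd
      rcases k with _ | _ | k
      · norm_num at h2
      · norm_num at h2
      · exact ⟨2 ^ k, by ring⟩
    have := (q_mod m).1
    omega
  obtain ⟨i, hi⟩ := exists_prime_power (fun e => by rw [e, orderOf_one] at h2; omega) hp hpd
  obtain ⟨c, -, hc⟩ := minus_centralizer f hf hK hp hp2 (hpd.trans hd) hi
  exact ⟨c, hc.le (conj_mem_centralizer c
    (Subgroup.mem_centralizer_singleton_iff.2 (Commute.self_pow x i).eq))⟩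

theorem mem_normalizer_HH (hm : 1 ≤ m) {g : ↥G₁}
    (hg : g ∈ Subgroup.normalizer (HH K m : Set ↥G₁)) :
    g ∈ HH K m ∨ g * nn f hf hK ∈ HH K m := by
  obtain ⟨h₀, hh₀, hord⟩ := exists_HH_generator f hf hK
  have hq := q_large m hm
  have h2 : 2 < orderOf h₀ := by omega
  have hfree : ∀ u ∈ UU K m, u * h₀ = h₀ * u → u = 1 := fun u hu e =>
    UU_inf_HH f hf hK hu ((centralizer_of_mem_HH f hf hK hh₀ h2).le
      (Subgroup.mem_centralizer_singleton_iff.2 e))
  by_cases hB : g ∈ BB K m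
  · left
    obtain ⟨u, hu, h, hh, rfl⟩ := (mem_BB_iff f hf hK).1 hB
    suffices u = 1 by rw [this, one_mul]; exact hh
    have h1 : u * h₀ * u⁻¹ ∈ HH K m := by
      have := (Subgroup.mem_normalizer_iff.1 hg h₀).1 hh₀
      rwa [mul_inv_rev, show u * h * h₀ * (h⁻¹ * u⁻¹) = u * (h * h₀ * h⁻¹) * u⁻¹ by group,
        HH_comm f hf hK hh hh₀, mul_inv_cancel_right] at this
    have h3 : u * (h₀ * u⁻¹ * h₀⁻¹) = 1 := UU_inf_HH f hf hK
      (mul_mem hu (HH_conj_UU f hf hK hh₀ (inv_mem hu)))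
      (by rw [show u * (h₀ * u⁻¹ * h₀⁻¹) = u * h₀ * u⁻¹ * h₀⁻¹ by group]
          exact mul_mem h1 (inv_mem hh₀))
    refine hfree u hu ?_
    calc u * h₀ = (u * (h₀ * u⁻¹ * h₀⁻¹)) * h₀ * u := by group
      _ = h₀ * u := by rw [h3, one_mul]
  · right
    obtain ⟨b, hb, u, hu, rfl⟩ := exists_big f hf hK hB
    set n := nn f hf hK with hn
    -- compare the two forms of `g * h₀`
    set h' := b * n * u * h₀ * (b * n * u)⁻¹ with hh'def
    have hh' : h' ∈ HH K m := (Subgroup.mem_normalizer_iff.1 hg h₀).1 hh₀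
    have hnh : n * h₀ * n⁻¹ = h₀⁻¹ := nn_conj_HH f hf hK hh₀
    have e : (b * h₀⁻¹) * n * (h₀⁻¹ * u * h₀) = (h' * b) * n * u := by
      calc (b * h₀⁻¹) * n * (h₀⁻¹ * u * h₀)
          = (b * (n * h₀ * n⁻¹)) * n * (h₀⁻¹ * u * h₀) := by rw [hnh]
        _ = b * n * u * h₀ := by group
        _ = _ := by rw [hh'def]; group
    obtain ⟨e1, e2⟩ := big_inj f hf hK (mul_mem hb (HH_le_BB (inv_mem hh₀)))
      (mul_mem (HH_le_BB hh') hb)
      (by simpa using HH_conj_UU f hf hK (inv_mem hh₀) hu) hu e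
    have hu1 : u = 1 := hfree u hu (by
      calc u * h₀ = h₀ * (h₀⁻¹ * u * h₀) := by group
        _ = h₀ * u := by rw [e2])
    obtain ⟨v, hv, k, hk, rfl⟩ := (mem_BB_iff f hf hK).1 hb
    have hv1 : v = 1 := by
      refine hfree v hv ?_
      have h3 : v⁻¹ * (h' * v * h'⁻¹) = k * h₀⁻¹ * (h' * k)⁻¹ := by
        have e' : h' * v * h'⁻¹ * (h' * k) = v * (k * h₀⁻¹) := by
          rw [← mul_assoc v, e1]; group
        rw [eq_mul_inv_iff_mul_eq, mul_assoc, e', inv_mul_cancel_left]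
      have h4 : v⁻¹ * (h' * v * h'⁻¹) = 1 := UU_inf_HH f hf hK
        (mul_mem (inv_mem hv) (HH_conj_UU f hf hK hh' hv))
        (h3 ▸ mul_mem (mul_mem hk (inv_mem hh₀)) (inv_mem (mul_mem hh' hk)))
      have hk' : h' = h₀⁻¹ := by
        have h5 : k * h₀⁻¹ * (h' * k)⁻¹ = 1 := h3 ▸ h4
        rw [mul_inv_eq_one, HH_comm f hf hK hh' hk] at h5
        exact (mul_left_cancel h5).symm
      rw [hk', inv_mul_eq_one, inv_inv] at h4
      calc v * h₀ = h₀ * (h₀⁻¹ * v * h₀) := by group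
        _ = h₀ * v := by rw [← h4]
    rw [hv1, hu1, one_mul, mul_one, mul_assoc, nn_sq f hf hK, mul_one]
    exact hk

theorem card_normalizer_HH (hm : 1 ≤ m) :
    Nat.card ↥(Subgroup.normalizer (HH K m : Set ↥G₁)) = 2 * (3 ^ (2 * m + 1) - 1) := by
  classical
  set N := Subgroup.normalizer (HH K m : Set ↥G₁) with hN
  set n := nn f hf hK with hn
  have hnN : n ∈ N := by
    rw [hN, Subgroup.mem_normalizer_iff]
    intro h
    refine ⟨fun hh => by rw [nn_conj_HH f hf hK hh]; exact inv_mem hh, fun hh => ?_⟩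
    have h' := nn_inv_conj_HH f hf hK hh
    rw [show n⁻¹ * (n * h * n⁻¹) * n = h by group] at h'
    rw [h']
    exact inv_mem hh
  have hle : HH K m ≤ N := Subgroup.le_normalizer
  have hnot : n ∉ HH K m := fun h => nn_not_mem f hf hK (HH_le_BB h)
  let φ : Bool × ↥(HH K m) → ↥N := fun p =>
    if p.1 then ⟨p.2 * n, mul_mem (hle p.2.2) hnN⟩ else ⟨p.2, hle p.2.2⟩
  have hb : Function.Bijective φ := by
    refine ⟨?_, fun g => ?_⟩
    · rintro ⟨i, a⟩ ⟨j, b⟩ e
      rcases i <;> rcases j <;> simp only [φ, Bool.false_eq_true, if_true, if_false,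
        Subtype.mk.injEq] at e
      · exact Prod.ext rfl (Subtype.ext e)
      · exact absurd (show n ∈ HH K m by
          rw [show n = (b : ↥G₁)⁻¹ * a by rw [e]; group]
          exact mul_mem (inv_mem b.2) a.2) hnot
      · exact absurd (show n ∈ HH K m by
          rw [show n = (a : ↥G₁)⁻¹ * b by rw [← e]; group]
          exact mul_mem (inv_mem a.2) b.2) hnot
      · exact Prod.ext rfl (Subtype.ext (mul_right_cancel e))
    · rcases mem_normalizer_HH f hf hK hm g.2 with h | h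
      · exact ⟨(false, ⟨g, h⟩), rfl⟩
      · exact ⟨(true, ⟨_, h⟩), Subtype.ext (by
          show (g : ↥G₁) * n * n = g
          rw [mul_assoc, nn_sq f hf hK, mul_one])⟩
  rw [← Nat.card_eq_of_bijective φ hb, Nat.card_prod, card_HH f hf hK,
    show Nat.card Bool = 2 by simp]

/-- The number of elements of a given order dividing `q - 1`. -/
theorem card_orderOf_minus (hm : 1 ≤ m) {i : ℕ} (hi : 2 < i) (hd : i ∣ 3 ^ (2 * m + 1) - 1) :
    Nat.card {g : ↥G₁ // orderOf g = i} * (2 * (3 ^ (2 * m + 1) - 1)) =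
      Nat.card ↥G₁ * i.totient := by
  rw [← card_normalizer_HH f hf hK hm, card_of_cover_subgroup (fun g : ↥G₁ => orderOf g = i) (HH K m)
    (fun g x hx => (orderOf_conj_eq g x).trans hx)
    (fun x hx => minus_conj f hf hK (hx ▸ hi) (hx ▸ hd))
    (fun g a ha hP h => HH_TI f hf hK ha (hP ▸ hi) h)]
  rw [card_orderOf_cyclic (HH_cyclic f hf hK) (card_HH f hf hK ▸ hd)]

/-- The number of the elements of order above two dividing `q - 1`. -/
theorem card_minus (hm : 1 ≤ m) :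
    Nat.card {g : ↥G₁ // 2 < orderOf g ∧ orderOf g ∣ 3 ^ (2 * m + 1) - 1} *
        (2 * (3 ^ (2 * m + 1) - 1)) =
      Nat.card ↥G₁ * (3 ^ (2 * m + 1) - 3) := by
  classical
  rw [← card_normalizer_HH f hf hK hm, card_of_cover_subgroup
    (fun g : ↥G₁ => 2 < orderOf g ∧ orderOf g ∣ 3 ^ (2 * m + 1) - 1) (HH K m)
    (fun g x hx => by rwa [orderOf_conj_eq])
    (fun x hx => minus_conj f hf hK hx.1 hx.2)
    (fun g a ha hP h => HH_TI f hf hK ha hP.1 h)]
  congr 1
  cases nonempty_fintype ↥(HH K m)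
  have e : (Finset.univ.filter fun a : ↥(HH K m) => ¬ 2 < orderOf (a : ↥G₁)) =
      {1, ⟨iota f hf hK, iota_mem f hf hK⟩} := by
    ext a
    simp only [Finset.mem_filter, Finset.mem_univ, true_and, Finset.mem_insert,
      Finset.mem_singleton]
    constructor
    · intro h
      have hp := orderOf_pos (a : ↥G₁)
      have h2 : (a : ↥G₁) * a = 1 := by
        rcases (show orderOf (a : ↥G₁) = 1 ∨ orderOf (a : ↥G₁) = 2 by omega) with e | e
        · rw [orderOf_eq_one_iff.1 e, one_mul]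
        · rw [← sq, ← e, pow_orderOf_eq_one]
      rcases eq_or_of_sq f hf hK a.2 h2 with e | e
      · exact Or.inl (Subtype.ext e)
      · exact Or.inr (Subtype.ext e)
    · rintro (rfl | rfl)
      · simp
      · simp [orderOf_iota f hf hK]
  have h2 : (Finset.univ.filter fun a : ↥(HH K m) => ¬ 2 < orderOf (a : ↥G₁)).card = 2 := by
    rw [e]
    exact Finset.card_pair fun h => iota_ne_one f hf hK (congrArg Subtype.val h).symm
  have h3 := Finset.card_filter_add_card_filter_not (s := (Finset.univ : Finset ↥(HH K m)))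
    (fun a => 2 < orderOf (a : ↥G₁))
  rw [h2, Finset.card_univ, ← Nat.card_eq_fintype_card, card_HH f hf hK] at h3
  rw [Nat.card_congr (Equiv.subtypeEquivRight (q := fun a : ↥(HH K m) => 2 < orderOf (a : ↥G₁))
    fun a => ⟨fun h => h.1, fun h => ⟨h, card_HH f hf hK ▸ Subgroup.orderOf_dvd_natCard _ a.2⟩⟩),
    Nat.card_eq_fintype_card, Fintype.card_subtype]
  omega

end Cfsg.Agent.Lie.Chev.G2
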