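import Cfsg.Agent.Lib.Lie.Chev.ReeAutBasic
import Cfsg.Agent.Lib.Lie.Chev.ReeSmallClasses
import Cfsg.Agent.Lib.Lie.Chev.AutOut
import Cfsg.Prelude.Def_KGroupFacts

/-! Every automorphism of a small Ree group is inner times a field automorphism. -/

set_option autoImplicit false
set_option maxRecDepth 4000

namespace Cfsg.Agent.Lie.Chev.G2

open Cfsg.Lie

variable {K : Type*} [Field K] (f : K →+* K) [CharP K 3] [ExpChar K 3]
variable [Fintype K] {m : ℕ} (hf : ∀ t, f t = t ^ 3 ^ m) (hK : Fintype.card K = 3 ^ (2 * m + 1))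

include hf hK

local notation "G₁" => twistedG2 K (3 ^ m)

theorem exists_UU_BB_odd (hm : 1 ≤ m) :
    ∃ p : ℕ, p.Prime ∧ p ≠ 2 ∧ p ∣ 3 ^ (2 * m + 1) - 1 := by
  obtain ⟨h8, -⟩ := q_mod m
  have hq := q_large m hm
  obtain ⟨p, hp, hpd⟩ := Nat.exists_prime_and_dvd
    (show (3 ^ (2 * m + 1) - 1) / 2 ≠ 1 by omega)
  refine ⟨p, hp, ?_, hpd.trans (Nat.div_dvd_of_dvd (by omega))⟩
  rintro rfl
  omega

/-- A cyclic subgroup of `B` of order `q - 1` is conjugate in `B` to the diagonal part. -/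
theorem exists_conj_HH_in_BB (hm : 1 ≤ m) {g : ↥G₁} (hg : g ∈ BB K m)
    (ho : orderOf g = 3 ^ (2 * m + 1) - 1) : ∃ b ∈ BB K m, b * g * b⁻¹ ∈ HH K m := by
  obtain ⟨p, hp, hp2, hpd⟩ := exists_UU_BB_odd f hf hK hm
  haveI := Fact.mk hp
  obtain ⟨h3, -, -⟩ := minus_props m hp hp2 hpd
  have hq := q_large m hm
  obtain ⟨i, hi⟩ := exists_prime_power (x := g) (fun e => by rw [e, orderOf_one] at ho; omega) hp
    (ho ▸ hpd)
  obtain ⟨b, hb⟩ := exists_conj_mem_of_full ((HH K m).subgroupOf (BB K m)) (p := p) (k := 1)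
    (x := (⟨g ^ i, pow_mem hg i⟩ : ↥(BB K m))) (by
      rw [card_BB f hf hK, Nat.card_congr (Subgroup.subgroupOfEquivOfLe HH_le_BB).toEquiv,
        card_HH f hf hK]
      have hne : ¬ p ∣ (3 ^ (2 * m + 1)) ^ 3 := fun h =>
        not_dvd_three m hp (by omega) (hp.dvd_of_dvd_pow h)
      rw [Nat.factorization_mul (by positivity) (by omega), Finsupp.add_apply,
        Nat.factorization_eq_zero_of_not_dvd hne, zero_add])
    (Subtype.ext (by
      show (g ^ i) ^ p ^ 1 = 1
      rw [pow_one, ← hi, pow_orderOf_eq_one]))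
  refine ⟨b, b.2, ?_⟩
  have hb' : (b : ↥G₁) * g ^ i * (b : ↥G₁)⁻¹ ∈ HH K m := hb
  rw [← centralizer_of_mem_HH f hf hK hb' (by
    rw [orderOf_conj_eq, hi]; omega)]
  exact conj_mem_centralizer (b : ↥G₁)
    (Subgroup.mem_centralizer_singleton_iff.2 (Commute.self_pow g i).eq)

theorem mem_HH_conj {y : ↥G₁} (hy : y ∈ HH K m) {g : ↥G₁} (hg : g ∈ HH K m) :
    g * y * g⁻¹ = y := by rw [HH_comm f hf hK hg hy, mul_inv_cancel_right]

theorem mem_iff_of_le {H : Subgroup ↥G₁} {φ : MulAut ↥G₁} (h : ∀ x ∈ H, φ x ∈ H) (x : ↥G₁) :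
    φ x ∈ H ↔ x ∈ H := by
  refine ⟨fun hx => ?_, h x⟩
  have e : H.map φ.toMonoidHom = H :=
    Subgroup.eq_of_le_of_card_ge (by rintro _ ⟨y, hy, rfl⟩; exact h y hy)
      (le_of_eq (Subgroup.card_map_of_injective φ.injective).symm)
  rw [← e] at hx
  obtain ⟨y, hy, e'⟩ := hx
  exact φ.injective e' ▸ hy

theorem hP_mem_BB (y : Kˣ) : hP f hf hK y ∈ BB K m := HH_le_BB (hP_mem f hf hK y)

theorem UU_cube {x : ↥G₁} (hx : x ∈ UU K m) (h3 : x ^ 3 = 1) : ∃ p, uE f hf hK p = x := by
  obtain ⟨⟨t, u, v⟩, rfl⟩ := (mem_UU_iff f hf hK).1 hx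
  rw [uW_cube, ← uE_zero f hf hK] at h3
  have h := congrArg Prod.snd (uE_injective f hf hK h3)
  simp only [Prod.snd_zero, neg_eq_zero] at h
  have ht : t = 0 := by
    rcases mul_eq_zero.1 h with e | e
    · exact (map_eq_zero f).1 (pow_eq_zero_iff (by norm_num) |>.1 e)
    · exact pow_eq_zero_iff (by norm_num) |>.1 e
  subst ht
  exact ⟨(u, v), rfl⟩

theorem uE_mem (p : K × K) : uE f hf hK p ∈ UU K m := (mem_UU_iff f hf hK).2 ⟨_, rfl⟩

theorem uE_cube (p : K × K) : uE f hf hK p ^ 3 = 1 := by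
  rw [pow_succ, sq, ← uE_add, ← uE_add, ← uE_zero f hf hK]
  congr 1
  refine Prod.ext ?_ ?_
  · show p.1 + p.1 + p.1 = 0
    linear_combination p.1 * three_eq_zero (K := K)
  · show p.2 + p.2 + p.2 = 0
    linear_combination p.2 * three_eq_zero (K := K)

theorem uT_mem (t : K) : uT f hf hK t ∈ UU K m := (mem_UU_iff f hf hK).2 ⟨_, rfl⟩

theorem uW_coords {t t' : K} {p p' : K × K}
    (e : uT f hf hK t * uE f hf hK p = uT f hf hK t' * uE f hf hK p') : t = t' ∧ p = p' := by
  rw [← uW_eq, ← uW_eq] at e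
  have h := uW_injective f hf hK e
  simp only [Prod.mk.injEq] at h
  exact ⟨h.1, Prod.ext h.2.1 h.2.2⟩

/-- An automorphism fixing the unipotent and the diagonal parts pointwise is trivial. -/
theorem eq_one_of_fix_borel (hm : 1 ≤ m) {ψ : MulAut ↥G₁} (hU : ∀ x ∈ UU K m, ψ x = x)
    (hH : ∀ x ∈ HH K m, ψ x = x) : ψ = 1 := by
  have hB : ∀ x ∈ BB K m, ψ x = x := fun x hx => by
    obtain ⟨u, hu, h, hh, rfl⟩ := (mem_BB_iff f hf hK).1 hx
    rw [map_mul, hU u hu, hH h hh]
  set n := nn f hf hK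
  have hn : n ∈ Subgroup.normalizer (HH K m : Set ↥G₁) := by
    rw [Subgroup.mem_normalizer_iff]
    intro h
    refine ⟨fun hh => by rw [nn_conj_HH f hf hK hh]; exact inv_mem hh, fun hh => ?_⟩
    have h' := nn_inv_conj_HH f hf hK hh
    rw [show n⁻¹ * (n * h * n⁻¹) * n = h by group] at h'
    rw [h']
    exact inv_mem hh
  obtain ⟨k, hk, hψn⟩ : ∃ k ∈ HH K m, ψ n = k * n := by
    have hmem : ψ n ∈ Subgroup.normalizer (HH K m : Set ↥G₁) := by
      refine mem_normalizer_of_centralizer (a := (exists_HH_generator f hf hK).choose) ?_ ?_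
      · exact centralizer_of_mem_HH f hf hK (exists_HH_generator f hf hK).choose_spec.1
          (by rw [(exists_HH_generator f hf hK).choose_spec.2]; have := q_large m hm; omega)
      · set h₀ := (exists_HH_generator f hf hK).choose
        have hh₀ : h₀ ∈ HH K m := (exists_HH_generator f hf hK).choose_spec.1
        rw [show ψ n * h₀ * (ψ n)⁻¹ = ψ (n * h₀ * n⁻¹) by
          rw [map_mul, map_mul, map_inv, hH h₀ hh₀], nn_conj_HH f hf hK hh₀,
          hH _ (inv_mem hh₀)]
        exact centralizer_of_mem_HH f hf hK (inv_mem hh₀)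
          (by rw [orderOf_inv, (exists_HH_generator f hf hK).choose_spec.2]
              have := q_large m hm; omega)
    rcases mem_normalizer_HH f hf hK hm hmem with h | h
    · exfalso
      have e : ψ n = n := by rw [← ψ.injective.eq_iff, hH _ h]
      rw [e] at h
      exact nn_not_mem f hf hK (HH_le_BB h)
    · exact ⟨_, h, by rw [mul_assoc, nn_sq f hf hK, mul_one]⟩
  -- one relation pins the diagonal factor down
  set a := uA f hf hK 1
  have hout : n * a * n ∉ BB K m := by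
    intro h
    have ha : n * a * n⁻¹ ∈ BB K m := by
      rwa [inv_eq_of_mul_eq_one_right (nn_sq f hf hK)]
    have h3 : n * a * n⁻¹ ∈ UU K m := mem_UU_of_three f hf hK ha (k := 1)
      (by rw [pow_one, conj_pow, uA_cube, mul_one, mul_inv_cancel])
    exact nn_not_mem f hf hK (conj_mem_UU f hf hK (uA_mem f hf hK 1)
      (fun e => one_ne_zero (α := K) (uA_injective f hf hK (e.trans (uA_zero f hf hK).symm))) h3)
  obtain ⟨b, hb, u, hu, e⟩ := exists_big f hf hK hout
  have hu1 : u ≠ 1 := by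
    intro e1
    rw [e1, mul_one] at e
    have : n * a = b := mul_right_cancel e
    have hnB : n ∈ BB K m := by
      rw [show n = b * a⁻¹ by rw [← this, mul_inv_cancel_right]]
      exact mul_mem hb (inv_mem (UU_le_BB (uA_mem f hf hK 1)))
    exact nn_not_mem f hf hK hnB
  have hnk : n * k⁻¹ = k * n := by
    rw [← mul_inv_eq_iff_eq_mul, nn_conj_HH f hf hK (inv_mem hk), inv_inv]
  have he := congrArg ψ e
  rw [map_mul, map_mul, map_mul, map_mul, hψn, hU a (uA_mem f hf hK 1), hB b hb, hU u hu] at he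
  have e1 : (k * b * k) * n * (k * u * k⁻¹) = (b * k) * n * u := by
    calc (k * b * k) * n * (k * u * k⁻¹) = k * b * (k * n) * (k * u * k⁻¹) := by group
      _ = k * b * (n * k⁻¹) * (k * u * k⁻¹) := by rw [hnk]
      _ = k * (b * n * u) * k⁻¹ := by group
      _ = k * (n * a * n) * k⁻¹ := by rw [e]
      _ = k * n * a * (n * k⁻¹) := by group
      _ = k * n * a * (k * n) := by rw [hnk]
      _ = b * (k * n) * u := he
      _ = _ := by group
  obtain ⟨e2, e3⟩ := big_inj f hf hK (mul_mem (mul_mem (HH_le_BB hk) hb) (HH_le_BB hk))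
    (mul_mem hb (HH_le_BB hk)) (HH_conj_UU f hf hK hk hu) hu e1
  have hk1 : k = 1 := by
    have hkb : k * b = b := mul_right_cancel e2
    exact mul_eq_right.1 hkb
  rw [hk1, one_mul] at hψn
  refine MulEquiv.ext fun g => ?_
  show ψ g = g
  by_cases hg : g ∈ BB K m
  · exact hB g hg
  · obtain ⟨b', hb', u', hu', rfl⟩ := exists_big f hf hK hg
    rw [map_mul, map_mul, hB b' hb', hψn, hU u' hu']

theorem fieldAutG_uE (σ : K ≃+* K) (p : K × K) :
    fieldAutG m σ (uE f hf hK p) = uE f hf hK (σ p.1, σ p.2) := by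
  rw [uE, fieldAutG_uW f hf hK σ, map_zero]
  rfl

theorem exists_normalized (hm : 1 ≤ m) (φ : MulAut ↥G₁) :
    ∃ (g : ↥G₁) (σ : K ≃+* K) (ψ : MulAut ↥G₁), φ = MulAut.conj g * fieldAutG m σ * ψ ∧
      (∀ x ∈ UU K m, ψ x ∈ UU K m) ∧ (∀ x ∈ HH K m, ψ x = x) ∧
      ∀ v : K, ψ (uE f hf hK (0, v)) = uE f hf hK (0, v) := by
  classical
  haveI : Fact (Nat.Prime 3) := ⟨Nat.prime_three⟩
  have hq := q_large m hm
  have hUU3 : IsPGroup 3 ↥(UU K m) :=
    IsPGroup.of_card (n := (2 * m + 1) * 3) (by rw [card_UU f hf hK, ← pow_mul])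
  -- fix the unipotent part
  have hfull : 3 ^ (Nat.card ↥G₁).factorization 3 = Nat.card ↥(UU K m) := by
    obtain ⟨h8, h30⟩ := q_mod m
    have hne : ¬ 3 ∣ (3 ^ (2 * m + 1) - 1) *
        ((3 ^ (2 * m + 1) + 1) * ((3 ^ (2 * m + 1)) ^ 2 - 3 ^ (2 * m + 1) + 1)) := by
      intro h
      rcases Nat.prime_three.dvd_mul.1 h with h | h
      · omega
      rcases Nat.prime_three.dvd_mul.1 h with h | h
      · omega
      · exact absurd (phi_props m Nat.prime_three h).1 (lt_irrefl 3)
    rw [card_G f hf hK, card_UU f hf hK, ← pow_mul, mul_assoc ((3 : ℕ) ^ _),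
      Nat.factorization_mul (by positivity) (fun e => hne (by rw [e]; exact dvd_zero _)),
      Finsupp.add_apply, Nat.factorization_eq_zero_of_not_dvd hne, add_zero,
      Nat.Prime.factorization_pow Nat.prime_three, Finsupp.single_eq_same]
  let P₀ : Sylow 3 ↥G₁ := Sylow.ofCard (UU K m) hfull.symm
  obtain ⟨P, hPle⟩ := (hUU3.map φ.toMonoidHom).exists_le_sylow
  obtain ⟨c, hc⟩ := MulAction.exists_smul_eq ↥G₁ P P₀
  set φ₁ : MulAut ↥G₁ := MulAut.conj c * φ with hφ₁
  have hU1 : ∀ x ∈ UU K m, φ₁ x ∈ UU K m := fun x hx => by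
    have : φ₁ x ∈ (P₀ : Subgroup ↥G₁) := by
      rw [← hc]
      exact ⟨φ x, hPle ⟨x, hx, rfl⟩, rfl⟩
    exact this
  have hB1 : ∀ x ∈ BB K m, φ₁ x ∈ BB K m := fun x hx => by
    have hy1 : uA f hf hK 1 ≠ 1 := fun e =>
      one_ne_zero (α := K) (uA_injective f hf hK (e.trans (uA_zero f hf hK).symm))
    refine conj_mem_UU f hf hK (hU1 _ (uA_mem f hf hK 1))
      (fun e => hy1 (φ₁.injective (e.trans (map_one φ₁).symm))) ?_
    rw [← map_inv, ← map_mul, ← map_mul]
    exact hU1 _ (BB_conj_UU f hf hK hx (uA_mem f hf hK 1))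
  -- fix the diagonal part
  obtain ⟨h₀, hh₀, hord⟩ := exists_HH_generator f hf hK
  obtain ⟨b, hb, hbH⟩ := exists_conj_HH_in_BB f hf hK hm (hB1 _ (HH_le_BB hh₀))
    (by rw [MulEquiv.orderOf_eq, hord])
  set φ₂ : MulAut ↥G₁ := MulAut.conj b * φ₁ with hφ₂
  have hU2 : ∀ x ∈ UU K m, φ₂ x ∈ UU K m := fun x hx => BB_conj_UU f hf hK hb (hU1 x hx)
  have hgen : Subgroup.zpowers h₀ = HH K m := Subgroup.eq_of_le_of_card_ge
    (Subgroup.zpowers_le.2 hh₀) (by rw [Nat.card_zpowers, hord, card_HH f hf hK])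
  have hH2 : ∀ x ∈ HH K m, φ₂ x ∈ HH K m := fun x hx => by
    obtain ⟨j, rfl⟩ := Subgroup.mem_zpowers_iff.1 (hgen.ge hx)
    rw [map_zpow]
    exact Subgroup.zpow_mem _ hbH j
  have hi2 : φ₂ (iota f hf hK) = iota f hf hK := by
    have h1 : φ₂ (iota f hf hK) * φ₂ (iota f hf hK) = 1 := by
      rw [← map_mul, iota_sq, map_one]
    rcases eq_or_of_sq f hf hK (hH2 _ (iota_mem f hf hK)) h1 with e | e
    · exact absurd (φ₂.injective (e.trans (map_one φ₂).symm)) (iota_ne_one f hf hK)
    · exact e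
  -- the centre of the unipotent part
  have hline : ∀ v : K, ∃ v', φ₂ (uE f hf hK (0, v)) = uE f hf hK (0, v') := by
    intro v
    obtain ⟨p, hp⟩ := UU_cube f hf hK (hU2 _ (uE_mem f hf hK (0, v)))
      (by rw [← map_pow, uE_cube, map_one])
    have hinv : iota f hf hK * uE f hf hK (0, v) * (iota f hf hK)⁻¹ * uE f hf hK (0, v) = 1 := by
      rw [neg_coord f hf hK, ← uE_add, ← uE_zero f hf hK]
      congr 1
      exact Prod.ext (add_zero 0) (neg_add_cancel v)
    have h := congrArg φ₂ hinv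
    rw [map_mul, map_mul, map_mul, map_inv, hi2, ← hp, neg_coord f hf hK, ← uE_add, map_one,
      ← uE_zero f hf hK] at h
    have h1 : p.1 + p.1 = 0 := congrArg Prod.fst (uE_injective f hf hK h)
    have hp1 : p.1 = 0 := by linear_combination p.1 * three_eq_zero (K := K) - h1
    exact ⟨p.2, by rw [← hp, show p = (0, p.2) from Prod.ext hp1 rfl]⟩
  obtain ⟨d, hd⟩ := hline 1
  have hd0 : d ≠ 0 := fun e => by
    rw [e] at hd
    have h1 : uE f hf hK (0, 1) = 1 := φ₂.injective (by
      rw [hd, map_one]; exact uE_zero f hf hK)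
    rw [← uE_zero f hf hK] at h1
    exact one_ne_zero (α := K) (congrArg Prod.snd (uE_injective f hf hK h1))
  set φ₃ : MulAut ↥G₁ := MulAut.conj (hP f hf hK (Units.mk0 d hd0)⁻¹) * φ₂ with hφ₃
  have hU3 : ∀ x ∈ UU K m, φ₃ x ∈ UU K m := fun x hx =>
    HH_conj_UU f hf hK (hP_mem f hf hK _) (hU2 x hx)
  have hH3 : ∀ x ∈ HH K m, φ₃ x ∈ HH K m := fun x hx => by
    show hP f hf hK _ * φ₂ x * (hP f hf hK _)⁻¹ ∈ HH K m
    rw [mem_HH_conj f hf hK (hH2 x hx) (hP_mem f hf hK _)]
    exact hH2 x hx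
  have hline3 : ∀ v : K, ∃ v', φ₃ (uE f hf hK (0, v)) = uE f hf hK (0, v') := fun v => by
    obtain ⟨v', hv'⟩ := hline v
    refine ⟨((Units.mk0 d hd0)⁻¹ : Kˣ) * v', ?_⟩
    show hP f hf hK _ * φ₂ (uE f hf hK (0, v)) * (hP f hf hK _)⁻¹ = _
    rw [hv', hP_conj_uE, mul_zero]
  choose β hβ using hline3
  have hβadd : ∀ x y, β (x + y) = β x + β y := by
    intro x y
    have h := map_mul φ₃ (uE f hf hK (0, x)) (uE f hf hK (0, y))
    rw [← uE_add, hβ x, hβ y, ← uE_add, Prod.mk_add_mk, add_zero, hβ, Prod.mk_add_mk,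
      add_zero] at h
    exact congrArg Prod.snd (uE_injective f hf hK h)
  have hβinj : Function.Injective β := fun x y e =>
    congrArg Prod.snd (uE_injective f hf hK (φ₃.injective ((hβ x).trans (e ▸ (hβ y).symm))))
  have hβone : β 1 = 1 := by
    have h := hβ 1
    have h' : φ₃ (uE f hf hK (0, 1)) =
        hP f hf hK (Units.mk0 d hd0)⁻¹ * φ₂ (uE f hf hK (0, 1)) *
          (hP f hf hK (Units.mk0 d hd0)⁻¹)⁻¹ := rfl
    rw [h', hd, hP_conj_uE, mul_zero] at h
    have h2 := congrArg Prod.snd (uE_injective f hf hK h)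
    simp only [Units.val_inv_eq_inv_val, Units.val_mk0, inv_mul_cancel₀ hd0] at h2
    exact h2.symm
  have hα : ∀ y : Kˣ, ∃ y', φ₃ (hP f hf hK y) = hP f hf hK y' := fun y => by
    obtain ⟨y', hy'⟩ := (mem_HH_iff f hf hK).1 (hH3 _ (hP_mem f hf hK y))
    exact ⟨y', hy'.symm⟩
  choose α hα using hα
  have hβsmul : ∀ (y : Kˣ) (v : K), β ((y : K) * v) = (α y : K) * β v := by
    intro y v
    have h := congrArg φ₃ (hP_conj_uE f hf hK y (0, v))
    rw [map_mul, map_mul, map_inv, hα, hβ, hP_conj_uE] at h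
    simp only [mul_zero] at h
    rw [hβ] at h
    exact (congrArg Prod.snd (uE_injective f hf hK h)).symm
  have hβmul : ∀ x v, β (x * v) = β x * β v := by
    intro x v
    by_cases hx : x = 0
    · have h0 : β 0 = 0 := by
        have := hβadd 0 0
        rw [add_zero] at this
        linear_combination -this
      rw [hx, zero_mul, h0, zero_mul]
    have h1 := hβsmul (Units.mk0 x hx) 1
    have h2 := hβsmul (Units.mk0 x hx) v
    rw [Units.val_mk0, mul_one, hβone, mul_one] at h1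
    rw [Units.val_mk0] at h2
    rw [h2, h1]
  let σ : K ≃+* K := RingEquiv.ofBijective
    ({ toFun := β, map_one' := hβone, map_mul' := hβmul,
       map_zero' := by have := hβadd 0 0; rw [add_zero] at this; linear_combination -this,
       map_add' := hβadd } : K →+* K) (Finite.injective_iff_bijective.1 hβinj)
  set ψ : MulAut ↥G₁ := (fieldAutG m σ)⁻¹ * φ₃ with hψ
  refine ⟨(hP f hf hK (Units.mk0 d hd0)⁻¹ * b * c)⁻¹, σ, ψ, ?_, ?_, ?_, ?_⟩
  · rw [hψ, hφ₃, hφ₂, hφ₁]
    simp only [map_inv, map_mul]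
    group
  · intro x hx
    obtain ⟨⟨t, u, v⟩, e⟩ := (mem_UU_iff f hf hK).1 (hU3 x hx)
    rw [hψ, MulAut.mul_apply, ← e, MulAut.inv_def,
      show uW f hf hK (t, u, v) = fieldAutG m σ (uW f hf hK (σ.symm t, σ.symm u, σ.symm v)) by
        rw [fieldAutG_uW f hf hK σ]; simp, MulEquiv.symm_apply_apply]
    exact (mem_UU_iff f hf hK).2 ⟨_, rfl⟩
  · intro x hx
    obtain ⟨y, rfl⟩ := (mem_HH_iff f hf hK).1 hx
    rw [hψ, MulAut.mul_apply, hα, MulAut.inv_def, MulEquiv.symm_apply_eq, fieldAutG_hP f hf hK σ]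
    congr 1
    refine Units.ext ?_
    have h1 := hβsmul y 1
    rw [mul_one, hβone, mul_one] at h1
    exact h1.symm
  · intro v
    rw [hψ, MulAut.mul_apply, hβ, MulAut.inv_def, MulEquiv.symm_apply_eq,
      fieldAutG_uE f hf hK σ, map_zero]
    rfl

/-- A normalised automorphism fixes the unipotent part. -/
theorem fix_UU_of_normalized (hm : 1 ≤ m) {ψ : MulAut ↥G₁}
    (hU : ∀ x ∈ UU K m, ψ x ∈ UU K m) (hH : ∀ x ∈ HH K m, ψ x = x)
    (hv : ∀ v : K, ψ (uE f hf hK (0, v)) = uE f hf hK (0, v)) :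
    ∀ x ∈ UU K m, ψ x = x := by
  classical
  have hi : ψ (iota f hf hK) = iota f hf hK := hH _ (iota_mem f hf hK)
  -- the second coordinate
  have hline : ∀ u : K, ∃ u', ψ (uE f hf hK (u, 0)) = uE f hf hK (u', 0) := by
    intro u
    obtain ⟨p, hp⟩ := UU_cube f hf hK (hU _ (uE_mem f hf hK (u, 0)))
      (by rw [← map_pow, uE_cube, map_one])
    have h := congrArg ψ (neg_coord f hf hK (u, 0))
    rw [neg_zero, map_mul, map_mul, map_inv, hi, ← hp, neg_coord f hf hK] at h
    have h2 : -p.2 = p.2 := congrArg Prod.snd (uE_injective f hf hK h)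
    have hp2 : p.2 = 0 := by linear_combination p.2 * three_eq_zero (K := K) + h2
    exact ⟨p.1, by rw [← hp, show p = (p.1, 0) from Prod.ext rfl hp2]⟩
  choose γ hγ using hline
  have hγE : ∀ u v, ψ (uE f hf hK (u, v)) = uE f hf hK (γ u, v) := fun u v => by
    rw [show ((u, v) : K × K) = (u, 0) + (0, v) by simp, uE_add, map_mul, hγ, hv, ← uE_add]
    simp
  have hγadd : ∀ x y, γ (x + y) = γ x + γ y := fun x y => by
    have h := map_mul ψ (uE f hf hK (x, 0)) (uE f hf hK (y, 0))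
    rw [← uE_add, hγ x, hγ y, ← uE_add, Prod.mk_add_mk, add_zero, hγ, Prod.mk_add_mk,
      add_zero] at h
    exact congrArg Prod.fst (uE_injective f hf hK h)
  have hγsmul : ∀ (y : Kˣ) (u : K), γ ((wu f y : K) * u) = (wu f y : K) * γ u := fun y u => by
    have h := congrArg ψ (hP_conj_uE f hf hK y (u, 0))
    rw [map_mul, map_mul, map_inv, hH _ (hP_mem f hf hK y), hγ, hP_conj_uE] at h
    simp only [mul_zero] at h
    rw [hγ] at h
    exact (congrArg Prod.fst (uE_injective f hf hK h)).symm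
  set F : K → K := fun t => f t ^ 3 with hF
  have hFadd : ∀ x y, F (x + y) = F x + F y := fun x y => by
    simp only [hF, map_add]
    linear_combination (f x ^ 2 * f y + f x * f y ^ 2) * three_eq_zero (K := K)
  have hFF : ∀ t, F (F t) = t ^ 3 := fun t => by
    simp only [hF]
    rw [map_pow, ff_cube f hf hK]
  have hγh : ∀ t : K, γ (F t * t) = F t * t * γ 1 := fun t => by
    rcases eq_or_ne t 0 with rfl | ht
    · have := hγadd 0 0
      rw [add_zero] at this
      simp only [mul_zero, zero_mul]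
      linear_combination -this
    · have h := hγsmul (gpar f (Units.mk0 t ht)) 1
      rw [wu_gpar f hf hK, Units.val_mk0, mul_one] at h
      exact h
  have hγlin : ∀ u, γ u = u * γ 1 := by
    have hsq : ∀ s : K, γ (s ^ 2) = s ^ 2 * γ 1 := fun s => by
      rcases eq_or_ne s 0 with rfl | hs
      · simpa [hF] using hγh 0
      · have hFs : F s ≠ 0 := pow_ne_zero _ fun e => hs ((map_eq_zero f).1 e)
        have e : F (F s / s) * (F s / s) = s ^ 2 := by
          have e0 : F (F s / s) = F (F s) / F s := by simp only [hF, map_div₀, div_pow]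
          rw [e0, hFF]
          field_simp
        rw [← e]
        exact hγh _
    have hneg : ∀ x, γ (-x) = -γ x := fun x => by
      have h0 : γ 0 = 0 := by
        have := hγadd 0 0
        rw [add_zero] at this
        linear_combination -this
      have := hγadd x (-x)
      rw [add_neg_cancel, h0] at this
      linear_combination -this
    intro u
    have e : u = (u + 1) ^ 2 + -((u - 1) ^ 2) := by
      linear_combination -u * three_eq_zero (K := K)
    conv_lhs => rw [e]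
    rw [hγadd, hneg, hsq, hsq]
    linear_combination (u * γ 1) * three_eq_zero (K := K)
  -- the first coordinate
  have hT : ∀ t : K, ∃ B C, ψ (uT f hf hK t) = uT f hf hK t * uE f hf hK (B, C) := by
    intro t
    obtain ⟨⟨a, B, C⟩, e⟩ := (mem_UU_iff f hf hK).1 (hU _ (uT_mem f hf hK t))
    have h := congrArg (· ^ 3) e
    rw [← map_pow, uT, uW_cube, uW_cube, hv] at h
    have h' : f a ^ 3 * a ^ 2 = f t ^ 3 * t ^ 2 := by
      simpa using congrArg Prod.snd (uE_injective f hf hK h)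
    have hat : a = t := by
      rcases eq_or_ne t 0 with rfl | ht
      · rw [map_zero, zero_pow (by norm_num), zero_mul, mul_eq_zero] at h'
        rcases h' with h' | h'
        · exact (map_eq_zero f).1 (pow_eq_zero_iff (by norm_num) |>.1 h')
        · exact pow_eq_zero_iff (by norm_num) |>.1 h'
      · have ha : a ≠ 0 := fun e0 => by
          rw [e0, map_zero] at h'
          simp only [zero_pow (by norm_num : 3 ≠ 0), zero_mul] at h'
          rcases mul_eq_zero.1 h'.symm with h' | h'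
          · exact ht ((map_eq_zero f).1 (pow_eq_zero_iff (by norm_num) |>.1 h'))
          · exact ht (pow_eq_zero_iff (by norm_num) |>.1 h')
        have hg : gpar f (Units.mk0 a ha) = gpar f (Units.mk0 t ht) :=
          Units.ext (by rw [gpar_val, gpar_val, Units.val_mk0, Units.val_mk0, h'])
        have := congrArg (fun y => (wt f y : K)) hg
        simpa [wt_gpar f hf hK] using this
    subst hat
    exact ⟨B, C, by rw [← e, uW_eq]⟩
  choose B C hBC using hT
  -- torus equivariance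
  have hBCeq : ∀ t : K, t ≠ 0 → B t = F t * t * B 1 ∧ C t = f t ^ 3 * t ^ 2 * C 1 := by
    intro t ht
    set y := gpar f (Units.mk0 t ht) with hy
    have h := congrArg ψ (hP_conj_uT f hf hK y 1)
    rw [mul_one, wt_gpar f hf hK, Units.val_mk0, map_mul, map_mul, map_inv,
      hH _ (hP_mem f hf hK y), hBC 1, hBC t,
      show hP f hf hK y * (uT f hf hK 1 * uE f hf hK (B 1, C 1)) * (hP f hf hK y)⁻¹ =
        (hP f hf hK y * uT f hf hK 1 * (hP f hf hK y)⁻¹) *
          (hP f hf hK y * uE f hf hK (B 1, C 1) * (hP f hf hK y)⁻¹) by group,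
      hP_conj_uT, hP_conj_uE, mul_one, wt_gpar f hf hK, Units.val_mk0] at h
    have h' := (uW_coords f hf hK h).2
    simp only [Prod.mk.injEq] at h'
    rw [hy, wu_gpar f hf hK, gpar_val, Units.val_mk0] at h'
    exact ⟨h'.1.symm, h'.2.symm⟩
  have h00 : B 0 = 0 ∧ C 0 = 0 := by
    have h := hBC 0
    rw [uT_zero, map_one, one_mul, ← uE_zero f hf hK] at h
    have h' := uE_injective f hf hK h
    exact ⟨(congrArg Prod.fst h').symm, (congrArg Prod.snd h').symm⟩
  have hB : ∀ t, B t = F t * t * B 1 := fun t => by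
    rcases eq_or_ne t 0 with rfl | ht
    · rw [h00.1]; ring
    · exact (hBCeq t ht).1
  have hC : ∀ t, C t = f t ^ 3 * t ^ 2 * C 1 := fun t => by
    rcases eq_or_ne t 0 with rfl | ht
    · rw [h00.2]; ring
    · exact (hBCeq t ht).2
  -- products of two elements
  have hmul : ∀ s t : K, B (s + t) + γ (-(F t * s)) = -(F t * s) + (B s + B t) ∧
      C (s + t) = C s + C t - t * B s := by
    intro s t
    have h := map_mul ψ (uT f hf hK s) (uT f hf hK t)
    rw [uT_mul f hf hK s t, map_mul, hBC, hγE, mul_assoc, ← uE_add, hBC s, hBC t,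
      show uT f hf hK s * uE f hf hK (B s, C s) * (uT f hf hK t * uE f hf hK (B t, C t)) =
        uT f hf hK s * (uE f hf hK (B s, C s) * uT f hf hK t) * uE f hf hK (B t, C t) by group,
      uE_mul_uT, ← mul_assoc (uT f hf hK s), uT_mul f hf hK s t] at h
    simp only [mul_assoc, ← uE_add] at h
    have h' := (uW_coords f hf hK h).2
    simp only [Prod.mk_add_mk, Prod.mk.injEq] at h'
    refine ⟨?_, ?_⟩
    · simp only [hF]
      linear_combination h'.1
    · linear_combination h'.2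
  obtain ⟨t₀, ht₀⟩ : ∃ t₀ : K, F t₀ ≠ t₀ := by
    by_contra hall
    simp only [not_exists, not_not] at hall
    have h3 : ∀ t : K, t ^ 3 = t := fun t => by
      have := hFF t
      rw [hall t, hall t] at this
      exact this.symm
    have hsub : (Finset.univ : Finset K) ⊆ {0, 1, -1} := fun t _ => by
      simp only [Finset.mem_insert, Finset.mem_singleton]
      have : t * ((t - 1) * (t + 1)) = 0 := by linear_combination h3 t
      rcases mul_eq_zero.1 this with e | e
      · exact Or.inl e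
      rcases mul_eq_zero.1 e with e | e
      · exact Or.inr (Or.inl (sub_eq_zero.1 e))
      · exact Or.inr (Or.inr (eq_neg_of_add_eq_zero_left e))
    have h := (Finset.card_le_card hsub).trans (Finset.card_le_three)
    rw [Finset.card_univ, hK] at h
    have := q_large m hm
    omega
  -- the parameters vanish
  have hδ : B 1 = 1 - γ 1 := by
    have h := (hmul 1 1).1
    rw [hγlin, hB (1 + 1), hF] at h
    simp only [map_one, map_add, one_pow] at h
    linear_combination -h + (5 * B 1) * three_eq_zero (K := K)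
  have hγ1 : γ 1 = 1 := by
    have h := (hmul t₀ 1).1
    rw [hγlin, hB (t₀ + 1), hB t₀, hδ, hFadd] at h
    have hF1 : F 1 = 1 := by simp [hF]
    rw [hF1] at h
    have h' : (1 - γ 1) * (F t₀ - t₀) = 0 := by
      linear_combination h - t₀ * (1 - γ 1) * three_eq_zero (K := K)
    rcases mul_eq_zero.1 h' with e | e
    · linear_combination -e
    · exact absurd (sub_eq_zero.1 e) ht₀
  have hB0 : ∀ t, B t = 0 := fun t => by rw [hB, hδ, hγ1]; ring
  have hC1 : C 1 = 0 := by
    by_contra hne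
    have key : ∀ t : K, (t - 1) * (F t - t) = 0 := fun t => by
      have h := (hmul t 1).2
      rw [hB0 t, hC (t + 1), hC t] at h
      simp only [map_add, map_one] at h
      refine mul_left_cancel₀ hne ?_
      simp only [hF]
      linear_combination (-1 : K) * h + (C 1 * (f t * t ^ 2 + f t ^ 2 * t ^ 2 + 2 * f t * t +
        2 * f t ^ 2 * t + f t + f t ^ 2 + f t ^ 3 * t) + C 1 * t) * three_eq_zero (K := K)
    rcases mul_eq_zero.1 (key t₀) with e | e
    · rw [sub_eq_zero] at e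
      exact ht₀ (by rw [e]; simp [hF])
    · exact ht₀ (sub_eq_zero.1 e)
  intro x hx
  obtain ⟨⟨t, u, v⟩, rfl⟩ := (mem_UU_iff f hf hK).1 hx
  rw [uW_eq, map_mul, hBC, hγE, hγlin, hγ1, mul_one, hB0 t, hC t, hC1, mul_zero,
    show ((0 : K), (0 : K)) = 0 from rfl, uE_zero, mul_one]

theorem exists_decomp (hm : 1 ≤ m) (φ : MulAut ↥G₁) :
    ∃ (g : ↥G₁) (σ : K ≃+* K), φ = MulAut.conj g * fieldAutG m σ := by
  obtain ⟨g, σ, ψ, rfl, hU, hH, hv⟩ := exists_normalized f hf hK hm φ
  refine ⟨g, σ, ?_⟩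
  rw [eq_one_of_fix_borel f hf hK hm (fix_UU_of_normalized f hf hK hm hU hH hv) hH, mul_one]

/-- Field automorphisms modulo inner ones. -/
noncomputable def toOutG (m : ℕ) (σ : K ≃+* K) : Cfsg.Out ↥(twistedG2 K (3 ^ m)) :=
  QuotientGroup.mk (fieldAutG m σ)

set_option maxHeartbeats 1600000 in
theorem toOutG_bijective (hm : 1 ≤ m) : Function.Bijective (toOutG (K := K) m) := by
  refine ⟨fun σ τ h => ?_, fun x => ?_⟩
  · obtain ⟨g, hg⟩ := QuotientGroup.eq.1 h
    have hg' : ∀ x, fieldAutG m τ x = fieldAutG m σ (g * x * g⁻¹) := fun x => by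
      have := DFunLike.congr_fun hg x
      rw [MulAut.mul_apply, MulAut.inv_def] at this
      show fieldAutG m τ x = _
      rw [show g * x * g⁻¹ = MulAut.conj g x from rfl, this, MulEquiv.apply_symm_apply]
    have h1 : uE f hf hK (0, 1) ≠ 1 := fun e => by
      rw [← uE_zero f hf hK] at e
      exact one_ne_zero (α := K) (congrArg Prod.snd (uE_injective f hf hK e))
    have hgy : g * uE f hf hK (0, 1) * g⁻¹ =
        uE f hf hK (σ.symm (τ 0), σ.symm (τ 1)) := by
      refine (fieldAutG m σ).injective ?_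
      rw [← hg', fieldAutG_uE f hf hK, fieldAutG_uE f hf hK, RingEquiv.apply_symm_apply,
        RingEquiv.apply_symm_apply]
    have hgB : g ∈ BB K m :=
      conj_mem_UU f hf hK (uE_mem f hf hK _) h1 (hgy ▸ uE_mem f hf hK _)
    obtain ⟨u, hu, h, hh, rfl⟩ := (mem_BB_iff f hf hK).1 hgB
    obtain ⟨y, rfl⟩ := (mem_HH_iff f hf hK).1 hh
    obtain ⟨⟨t, a, b⟩, rfl⟩ := (mem_UU_iff f hf hK).1 hu
    have key : ∀ v : K, σ ((y : K) * v) = τ v := fun v => by
      have h1 := hg' (uE f hf hK (0, v))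
      rw [show uW f hf hK (t, a, b) * hP f hf hK y * uE f hf hK (0, v) *
          (uW f hf hK (t, a, b) * hP f hf hK y)⁻¹ = uW f hf hK (t, a, b) *
          (hP f hf hK y * uE f hf hK (0, v) * (hP f hf hK y)⁻¹) * (uW f hf hK (t, a, b))⁻¹ by group,
        hP_conj_uE, mul_zero, uW_eq, ← central_comm, mul_inv_cancel_right,
        fieldAutG_uE f hf hK, fieldAutG_uE f hf hK] at h1
      exact (congrArg Prod.snd (uE_injective f hf hK h1)).symm
    have hy : (y : K) = 1 := by
      have h1 := key 1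
      rw [mul_one, map_one] at h1
      exact σ.injective (by rw [h1, map_one])
    exact RingEquiv.ext fun v => by have := key v; rwa [hy, one_mul] at this
  · obtain ⟨φ, rfl⟩ := QuotientGroup.mk_surjective x
    obtain ⟨g, σ, rfl⟩ := exists_decomp f hf hK hm φ
    refine ⟨σ, QuotientGroup.eq.2 ?_⟩
    exact ⟨(fieldAutG m σ)⁻¹ g, by
      ext x
      simp [MulAut.mul_apply, MulAut.inv_def]⟩

theorem card_OutG (hm : 1 ≤ m) : Nat.card (Cfsg.Out ↥G₁) = 2 * m + 1 := by
  haveI : Fact (Nat.Prime 3) := ⟨Nat.prime_three⟩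
  rw [← Nat.card_eq_of_bijective _ (toOutG_bijective f hf hK hm)]
  exact (card_ringAut_eq (F := K) hK).2

end Cfsg.Agent.Lie.Chev.G2
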