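import Cfsg.Agent.Lib.Lie.Chev.ReeToral

/-! Solvable subgroups of a small Ree group lie in local normalisers. -/

set_option autoImplicit false
set_option maxRecDepth 4000

namespace Cfsg.Agent.Lie.Chev.G2

open Cfsg.Lie

section Abstract

variable {G : Type*} [Group G] [Finite G]

/-- A finite non-trivial solvable group has a non-trivial normal `p`-subgroup. -/
theorem exists_normal_pGroup (hS : Group.IsSolvable G) (hne : Nontrivial G) :
    ∃ (p : ℕ) (M : Subgroup G), p.Prime ∧ M.Normal ∧ M ≠ ⊥ ∧ IsPGroup p ↥M := by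
  classical
  obtain ⟨n, hn⟩ := hS.solvable
  obtain ⟨i, hi, hi1⟩ : ∃ i, derivedSeries G i ≠ ⊥ ∧ derivedSeries G (i + 1) = ⊥ := by
    by_contra hne'
    have hall : ∀ i, derivedSeries G i ≠ ⊥ := by
      intro i
      induction i with
      | zero => rw [derivedSeries_zero]; exact top_ne_bot
      | succ i ih => exact fun h => hne' ⟨i, ih, h⟩
    exact hall n hn
  set D := derivedSeries G i with hD
  have hDn : D.Normal := derivedSeries_normal G i
  have hcomm : ∀ a ∈ D, ∀ b ∈ D, Commute a b := fun a ha b hb => by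
    rw [← commutatorElement_eq_one_iff_commute, ← Subgroup.mem_bot, ← hi1, derivedSeries_succ]
    exact Subgroup.commutator_mem_commutator ha hb
  obtain ⟨p, hp, hpd⟩ := Nat.exists_prime_and_dvd
    (show Nat.card ↥D ≠ 1 from fun e => hi (Subgroup.card_eq_one.1 e))
  haveI := Fact.mk hp
  let M : Subgroup G :=
    { carrier := {x | x ∈ D ∧ ∃ k : ℕ, x ^ p ^ k = 1}
      one_mem' := ⟨one_mem D, 0, one_pow _⟩
      mul_mem' := by
        rintro a b ⟨ha, k, hk⟩ ⟨hb, l, hl⟩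
        refine ⟨mul_mem ha hb, k + l, ?_⟩
        rw [(hcomm a ha b hb).mul_pow, pow_add, pow_mul, hk, one_pow, one_mul, mul_comm, pow_mul,
          hl, one_pow]
      inv_mem' := by
        rintro a ⟨ha, k, hk⟩
        exact ⟨inv_mem ha, k, by rw [inv_pow, hk, inv_one]⟩ }
  obtain ⟨z, hz⟩ := exists_prime_orderOf_dvd_card' p hpd
  rw [← Subgroup.orderOf_coe] at hz
  refine ⟨p, M, hp, ⟨fun a ha g => ⟨hDn.conj_mem a ha.1 g, ?_⟩⟩, fun e => ?_, fun a => ?_⟩
  · obtain ⟨-, k, hk⟩ := ha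
    exact ⟨k, by rw [conj_pow, hk, mul_one, mul_inv_cancel]⟩
  · have hzM : (z : G) ∈ M := ⟨z.2, 1, by rw [pow_one, ← hz, pow_orderOf_eq_one]⟩
    rw [e, Subgroup.mem_bot] at hzM
    rw [hzM, orderOf_one] at hz
    exact hp.ne_one hz.symm
  · obtain ⟨-, k, hk⟩ := a.2
    exact ⟨k, Subtype.ext (by rw [SubmonoidClass.coe_pow]; exact hk)⟩

theorem mem_normalizer_of_conj_le {W : Subgroup G} {n : G} (h : ∀ x ∈ W, n * x * n⁻¹ ∈ W) :
    n ∈ Subgroup.normalizer (W : Set G) := by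
  have e : W.map (MulAut.conj n).toMonoidHom = W :=
    Subgroup.eq_of_le_of_card_ge (by rintro _ ⟨x, hx, rfl⟩; exact h x hx)
      (le_of_eq (Subgroup.card_map_of_injective (MulAut.conj n).injective).symm)
  rw [Subgroup.mem_normalizer_iff]
  intro x
  conv_rhs => rw [← e]
  rw [map_conj_mem_iff, show n⁻¹ * (n * x * n⁻¹) * n = x by group]

theorem le_normalizer_map_conj {S A : Subgroup G} {c : G}
    (h : ∀ g ∈ S, c * g * c⁻¹ ∈ Subgroup.normalizer (A : Set G)) :
    S ≤ Subgroup.normalizer ((A.map (MulAut.conj c⁻¹).toMonoidHom : Subgroup G) : Set G) := by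
  intro g hg
  refine mem_normalizer_of_conj_le fun x hx => ?_
  rw [map_conj_mem_iff, inv_inv] at hx ⊢
  have := (Subgroup.mem_normalizer_iff.1 (h g hg) _).1 hx
  rwa [show c * g * c⁻¹ * (c * x * c⁻¹) * (c * g * c⁻¹)⁻¹ = c * (g * x * g⁻¹) * c⁻¹ by group] at this

end Abstract

variable {K : Type*} [Field K] (f : K →+* K) [CharP K 3] [ExpChar K 3]
variable [Fintype K] {m : ℕ} (hf : ∀ t, f t = t ^ 3 ^ m) (hK : Fintype.card K = 3 ^ (2 * m + 1))

include hf hK

local notation "G₁" => twistedG2 K (3 ^ m)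

variable (hm : 1 ≤ m)
include hm

/-- The odd part of the centraliser of a Klein four subgroup. -/
theorem four_torus {s : ↥G₁} (hsC : s ∈ Subgroup.centralizer {iota f hf hK}) (hs2 : s * s = 1)
    (hs1 : s ≠ 1) (hsi : s ≠ iota f hf hK) :
    ∃ W : Subgroup ↥G₁, IsCyclic ↥W ∧ Nat.card ↥W = qk m ∧
      (∀ x ∈ W, x * iota f hf hK = iota f hf hK * x ∧ x * s = s * x ∧ x ^ qk m = 1) ∧
      ∀ x, x * iota f hf hK = iota f hf hK * x → x * s = s * x → x ^ qk m = 1 → x ∈ W := by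
  classical
  haveI : Fact (Nat.Prime 3) := ⟨Nat.prime_three⟩
  obtain ⟨e⟩ := centralizer_iota_iso f hf hK
  set C := Subgroup.centralizer {iota f hf hK}
  set D := Dickson.pslData (F := K) 3
  set sC : ↥C := ⟨s, hsC⟩
  set t := (e sC).2 with ht
  obtain ⟨hk4, hkodd⟩ := qk_eq m
  have hk7 := qk_large m hm
  have hq := q_large m hm
  obtain ⟨hq8, -⟩ := q_mod m
  have ht2 : t * t = 1 := by
    have h : e sC * e sC = 1 := by rw [← map_mul, show sC * sC = 1 from Subtype.ext hs2, map_one]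
    exact congrArg Prod.snd h
  have ht1 : t ≠ 1 := by
    intro h1
    obtain ⟨h₀, hh₀, hord⟩ := exists_HH_generator f hf hK
    have hh₀C : h₀ ∈ C :=
      Subgroup.mem_centralizer_singleton_iff.2 (HH_comm f hf hK hh₀ (iota_mem f hf hK))
    have hc : sC * ⟨h₀, hh₀C⟩ = ⟨h₀, hh₀C⟩ * sC := e.injective (by
      rw [map_mul, map_mul]
      refine Prod.ext (mul_comm _ _) ?_
      show t * _ = _ * t
      rw [h1, one_mul, mul_one])
    have hsH : s ∈ HH K m := by
      rw [← centralizer_of_mem_HH f hf hK hh₀ (by omega)]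
      exact Subgroup.mem_centralizer_singleton_iff.2 (congrArg Subtype.val hc)
    rcases eq_or_of_sq f hf hK hsH hs2 with h | h
    · exact hs1 h
    · exact hsi h
  have hot : orderOf t = 2 := orderOf_eq_prime (by rw [sq, ht2]) ht1
  have ht3 : t ^ 3 ≠ 1 := fun h => by
    have := orderOf_dvd_of_pow_eq_one h
    rw [hot] at this
    omega
  have hcard : Nat.card ↥(Dickson.tor t) = 2 * qk m := by
    have hdel : Dickson.del K = 2 := by
      rw [Dickson.del, hK]
      exact Nat.gcd_eq_left (by omega)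
    have h2d : 2 ∣ Nat.card ↥(Dickson.tor t) := (dvd_of_eq hot.symm).trans (Subgroup.orderOf_dvd_natCard _ (D.self t))
    rcases Dickson.card_tor_semi 3 ht1 ht3 with h | h <;> rw [hdel, hK] at h <;> omega
  haveI hcyc : IsCyclic ↥(Dickson.tor t) := D.semi_cyclic ht1 ht3
  obtain ⟨u, hu⟩ := hcyc.exists_generator
  have hou : orderOf (u : Matrix.ProjectiveSpecialLinearGroup (Fin 2) K) = 2 * qk m := by
    rw [Subgroup.orderOf_coe, orderOf_eq_card_of_forall_mem_zpowers hu, hcard]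
  set z : ↥C := e.symm (1, (u : Matrix.ProjectiveSpecialLinearGroup (Fin 2) K) ^ 2) with hz
  have hez : e z = (1, (u : Matrix.ProjectiveSpecialLinearGroup (Fin 2) K) ^ 2) := by
    rw [hz, MulEquiv.apply_symm_apply]
  have hoz : orderOf z = qk m := by
    rw [← e.orderOf_eq, hez, Prod.orderOf, orderOf_one, Nat.lcm_one_left,
      orderOf_pow' _ (by norm_num), hou, Nat.gcd_eq_right (dvd_mul_right 2 (qk m)),
      Nat.mul_div_cancel_left _ (by norm_num)]
  have hzW : ∀ x ∈ Subgroup.zpowers (z : ↥G₁), x * iota f hf hK = iota f hf hK * x ∧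
      x * s = s * x ∧ x ^ qk m = 1 := by
    intro x hx
    obtain ⟨j, rfl⟩ := Subgroup.mem_zpowers_iff.1 hx
    have h1 : Commute (z : ↥G₁) (iota f hf hK) := Subgroup.mem_centralizer_singleton_iff.1 z.2
    have h2 : Commute (z : ↥G₁) s := by
      have : z * sC = sC * z := e.injective (by
        rw [map_mul, map_mul, hez]
        exact Prod.ext (mul_comm _ _) ((D.comm ht1 (pow_mem u.2 2) (D.self t)).eq))
      exact congrArg Subtype.val this
    refine ⟨(h1.zpow_left j).eq, (h2.zpow_left j).eq, ?_⟩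
    have hzk : (z : ↥G₁) ^ qk m = 1 := by
      rw [← SubmonoidClass.coe_pow, ← hoz, pow_orderOf_eq_one]
      rfl
    rw [← zpow_natCast, ← zpow_mul, mul_comm, zpow_mul, zpow_natCast, hzk, one_zpow]
  refine ⟨Subgroup.zpowers (z : ↥G₁), Subgroup.isCyclic_zpowers _,
    by rw [Nat.card_zpowers, Subgroup.orderOf_coe, hoz], hzW, fun x hxi hxs hxk => ?_⟩
  set xC : ↥C := ⟨x, Subgroup.mem_centralizer_singleton_iff.2 hxi⟩
  obtain ⟨j, hj⟩ : ∃ j, qk m = 2 * j + 1 := ⟨qk m / 2, by omega⟩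
  have hexk : e xC ^ qk m = 1 := by
    rw [← map_pow, show xC ^ qk m = 1 from Subtype.ext (by
      rw [SubmonoidClass.coe_pow]; exact hxk), map_one]
  have ha : (e xC).1 = 1 := by
    have h1 : (e xC).1 ^ qk m = 1 := congrArg Prod.fst hexk
    have h2 : (e xC).1 ^ 2 = 1 := by
      have := pow_card_eq_one' (x := (e xC).1)
      rwa [show Nat.card (Multiplicative (ZMod 2)) = 2 from Nat.card_zmod 2] at this
    rwa [hj, pow_succ, pow_mul, h2, one_pow, one_mul] at h1
  set g := (e xC).2 with hg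
  have hgk : g ^ qk m = 1 := congrArg Prod.snd hexk
  have hgt : g * t = t * g := by
    have := congrArg (fun w => (e w).2) (show xC * sC = sC * xC from Subtype.ext hxs)
    simpa [hg, ht] using this
  set N := Subgroup.normalizer (Dickson.tor t : Set (Matrix.ProjectiveSpecialLinearGroup (Fin 2) K))
  have hgN : g ∈ N := by
    show g ∈ Subgroup.normalizer (D.T t : Set _)
    rw [D.mem_normalizer_iff ht1, hgt, mul_inv_cancel_right]
    exact D.self t
  have hidx : ((Dickson.tor t).subgroupOf N).index = 2 := by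
    have h := Subgroup.card_mul_index ((Dickson.tor t).subgroupOf N)
    rw [Nat.card_congr (Subgroup.subgroupOfEquivOfLe Subgroup.le_normalizer).toEquiv,
      (Dickson.normalizer_tor 3 ht1 ht3).1, mul_comm 2] at h
    exact Nat.eq_of_mul_eq_mul_left Nat.card_pos h
  have hg2 : g * g ∈ Dickson.tor t := Subgroup.mul_self_mem_of_index_two hidx ⟨g, hgN⟩
  have hgT : g ∈ Dickson.tor t := by
    have : g = (g * g) ^ (j + 1) := by
      rw [← sq, ← pow_mul, show 2 * (j + 1) = qk m + 1 by omega, pow_succ, hgk, one_mul]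
    rw [this]
    exact pow_mem hg2 _
  obtain ⟨i, hi⟩ := mem_powers_iff_mem_zpowers.2 (hu ⟨g, hgT⟩)
  have hi' : (u : Matrix.ProjectiveSpecialLinearGroup (Fin 2) K) ^ i = g := congrArg Subtype.val hi
  have h2i : 2 ∣ i := by
    have h : orderOf (u : Matrix.ProjectiveSpecialLinearGroup (Fin 2) K) ∣ i * qk m :=
      orderOf_dvd_of_pow_eq_one (by rw [pow_mul, hi', hgk])
    rw [hou] at h
    exact Nat.dvd_of_mul_dvd_mul_right (by omega) h
  obtain ⟨l, rfl⟩ := h2i
  have : xC = z ^ l := e.injective (by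
    rw [map_pow, hez, Prod.pow_mk, one_pow, ← pow_mul, hi']
    exact Prod.ext ha rfl)
  refine Subgroup.mem_zpowers_iff.2 ⟨l, ?_⟩
  rw [zpow_natCast, ← SubmonoidClass.coe_pow, ← this]

/-- The wanted conclusion for a subgroup. -/
def InLocal (m : ℕ) (S : Subgroup ↥(twistedG2 K (3 ^ m))) : Prop :=
  ∃ A : Subgroup ↥(twistedG2 K (3 ^ m)), S ≤ Subgroup.normalizer (A : Set ↥(twistedG2 K (3 ^ m))) ∧
    ((∃ P : Sylow 2 ↥(twistedG2 K (3 ^ m)), A = P) ∨ (∃ P : Sylow 3 ↥(twistedG2 K (3 ^ m)), A = P) ∨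
      (IsCyclic A ∧ (Nat.card A = (3 ^ (2 * m + 1) - 1) / 2 ∨
        Nat.card A = (3 ^ (2 * m + 1) + 1) / 4 ∨
        Nat.card A = 3 ^ (2 * m + 1) - 3 ^ (m + 1) + 1 ∨
        Nat.card A = 3 ^ (2 * m + 1) + 3 ^ (m + 1) + 1)))

theorem inLocal_of_cyclic {S A : Subgroup ↥G₁} {c : ↥G₁} (hA : IsCyclic ↥A)
    (hcard : Nat.card ↥A = (3 ^ (2 * m + 1) - 1) / 2 ∨
      Nat.card ↥A = (3 ^ (2 * m + 1) + 1) / 4 ∨
      Nat.card ↥A = 3 ^ (2 * m + 1) - 3 ^ (m + 1) + 1 ∨
      Nat.card ↥A = 3 ^ (2 * m + 1) + 3 ^ (m + 1) + 1)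
    (h : ∀ g ∈ S, c * g * c⁻¹ ∈ Subgroup.normalizer (A : Set ↥G₁)) : InLocal m S := by
  refine ⟨_, le_normalizer_map_conj h, Or.inr (Or.inr ⟨?_, ?_⟩)⟩
  · exact isCyclic_of_surjective (A.equivMapOfInjective _ (MulAut.conj c⁻¹).injective)
      (MulEquiv.surjective _)
  · rw [Subgroup.card_map_of_injective (MulAut.conj c⁻¹).injective]
    exact hcard

theorem inLocal_of_four {S M : Subgroup ↥G₁} (hM2 : IsPGroup 2 ↥M) (hM : Nat.card ↥M = 4)
    (hSM : ∀ g ∈ S, ∀ x ∈ M, g * x * g⁻¹ ∈ M) : InLocal m S := by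
  classical
  haveI : Fact (Nat.Prime 2) := ⟨Nat.prime_two⟩
  obtain ⟨P, hP⟩ := hM2.exists_le_sylow
  have hsq : ∀ x ∈ M, x * x = 1 := fun x hx => sylow_two_exponent f hf hK P x (hP hx)
  obtain ⟨a, ha⟩ := exists_prime_orderOf_dvd_card' 2 (hM ▸ by norm_num : 2 ∣ Nat.card ↥M)
  rw [← Subgroup.orderOf_coe] at ha
  obtain ⟨c, hc⟩ := exists_conj_iota' f hf hK hm ha
  set i₀ := iota f hf hK with hi₀
  set M' := M.map (MulAut.conj c).toMonoidHom with hM'
  have hM'card : Nat.card ↥M' = 4 := by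
    rw [hM', Subgroup.card_map_of_injective (MulAut.conj c).injective, hM]
  have hiM : i₀ ∈ M' := by rw [← hc]; exact ⟨a, a.2, rfl⟩
  have hsq' : ∀ x ∈ M', x * x = 1 := by
    rintro _ ⟨x, hx, rfl⟩
    rw [← map_mul, hsq x hx, map_one]
  have hcommM : ∀ x ∈ M', ∀ y ∈ M', x * y = y * x := by
    rintro _ ⟨x, hx, rfl⟩ _ ⟨y, hy, rfl⟩
    rw [← map_mul, ← map_mul]
    exact congrArg _ (congrArg Subtype.val ((sylow_two_comm f hf hK P).is_comm.comm
      (⟨x, hP hx⟩ : ↥(P : Subgroup ↥G₁)) ⟨y, hP hy⟩))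
  obtain ⟨s, hs, hs1, hsi⟩ : ∃ s ∈ M', s ≠ 1 ∧ s ≠ i₀ := by
    by_contra hne
    simp only [not_exists, not_and, not_not] at hne
    have hsub : (M' : Set ↥G₁) ⊆ {1, i₀} := fun x hx => by
      rcases eq_or_ne x 1 with e | e
      · exact Or.inl e
      · exact Or.inr (hne x hx e)
    have h := (Set.ncard_le_ncard hsub (Set.toFinite _)).trans (Set.ncard_insert_le _ _)
    rw [Set.ncard_singleton, ← Nat.card_coe_set_eq, SetLike.coe_sort_coe, hM'card] at h
    omega
  have hi1 : i₀ ≠ 1 := iota_ne_one f hf hK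
  have hset : ({1, i₀, s, i₀ * s} : Set ↥G₁) = (M' : Set ↥G₁) := by
    refine Set.eq_of_subset_of_ncard_le ?_ ?_ (Set.toFinite _)
    · rintro x (rfl | rfl | rfl | rfl)
      exacts [one_mem M', hiM, hs, mul_mem hiM hs]
    · have h4 : ({1, i₀, s, i₀ * s} : Set ↥G₁).ncard = 4 := by
        have hsinv : ∀ {x : ↥G₁}, i₀ * x = 1 → x = i₀ := fun {x} h =>
          mul_left_cancel (h.trans (iota_sq f hf hK).symm)
        rw [Set.ncard_insert_of_notMem, Set.ncard_insert_of_notMem, Set.ncard_pair]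
        · exact fun h => hi1 (mul_eq_right.1 h.symm)
        · simp only [Set.mem_insert_iff, Set.mem_singleton_iff, not_or]
          exact ⟨hsi.symm, fun h => hs1 (mul_eq_left.1 h.symm)⟩
        · simp only [Set.mem_insert_iff, Set.mem_singleton_iff, not_or]
          exact ⟨hi1.symm, hs1.symm, fun h => hsi (hsinv h.symm)⟩
      rw [← Nat.card_coe_set_eq, SetLike.coe_sort_coe, hM'card, h4]
  obtain ⟨W, hWc, hWk, hW1, hW2⟩ := four_torus f hf hK hm
    (Subgroup.mem_centralizer_singleton_iff.2 (hcommM s hs i₀ hiM)) (hsq' s hs) hs1 hsi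
  have hcentW : ∀ x ∈ W, ∀ y ∈ M', Commute x y := by
    intro x hx y hy
    obtain ⟨h1, h2, -⟩ := hW1 x hx
    rcases (hset.ge hy : y ∈ ({1, i₀, s, i₀ * s} : Set ↥G₁)) with rfl | rfl | rfl | rfl
    exacts [Commute.one_right x, h1, h2, Commute.mul_right h1 h2]
  refine inLocal_of_cyclic f hf hK hm (c := c) hWc (Or.inr (Or.inl hWk)) fun g hg => ?_
  set n := c * g * c⁻¹ with hn
  have hnM : ∀ y ∈ M', n⁻¹ * y * n ∈ M' := by
    rintro _ ⟨y, hy, rfl⟩
    refine ⟨g⁻¹ * y * g, ?_, ?_⟩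
    · have := hSM g⁻¹ (inv_mem hg) y hy
      rwa [inv_inv] at this
    · show c * (g⁻¹ * y * g) * c⁻¹ = (c * g * c⁻¹)⁻¹ * (c * y * c⁻¹) * (c * g * c⁻¹)
      group
  refine mem_normalizer_of_conj_le fun x hx => ?_
  have hcom : ∀ y ∈ M', n * x * n⁻¹ * y = y * (n * x * n⁻¹) := fun y hy => by
    calc n * x * n⁻¹ * y = n * (x * (n⁻¹ * y * n)) * n⁻¹ := by group
      _ = n * ((n⁻¹ * y * n) * x) * n⁻¹ := by rw [(hcentW x hx _ (hnM y hy)).eq]
      _ = _ := by group
  refine hW2 _ (hcom i₀ hiM) (hcom s hs) ?_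
  rw [conj_pow, (hW1 x hx).2.2, mul_one, mul_inv_cancel]

/-- A normal non-trivial `p`-subgroup decides, unless it has order two. -/
theorem inLocal_of_pGroup {S M : Subgroup ↥G₁} {p : ℕ} (hp : p.Prime) (hM : IsPGroup p ↥M)
    (hne : M ≠ ⊥) (hSM : ∀ g ∈ S, ∀ x ∈ M, g * x * g⁻¹ ∈ M) :
    InLocal m S ∨ (p = 2 ∧ Nat.card ↥M = 2) := by
  classical
  haveI := Fact.mk hp
  obtain ⟨P, hP⟩ := hM.exists_le_sylow
  obtain ⟨n, hn⟩ := hM.exists_card_eq
  have hpd : p ∣ Nat.card ↥M := by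
    rw [hn]
    exact dvd_pow_self p fun e => hne (Subgroup.card_eq_one.1 (by rw [hn, e, pow_zero]))
  rcases eq_or_ne p 2 with rfl | hp2
  · have hd := Subgroup.card_dvd_of_le hP
    rw [card_sylow_two f hf hK P, hn, show (8 : ℕ) = 2 ^ 3 from rfl,
      Nat.pow_dvd_pow_iff_le_right (show 1 < 2 by norm_num)] at hd
    have hn0 : n ≠ 0 := fun e => hne (Subgroup.card_eq_one.1 (by rw [hn, e, pow_zero]))
    interval_cases n
    · exact absurd rfl hn0
    · exact Or.inr ⟨rfl, by rw [hn]; rfl⟩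
    · exact Or.inl (inLocal_of_four f hf hK hm hM (by rw [hn]; rfl) hSM)
    · left
      have e : M = (P : Subgroup ↥G₁) :=
        Subgroup.eq_of_le_of_card_ge hP (by rw [card_sylow_two f hf hK P, hn]; rfl)
      refine ⟨M, fun g hg => mem_normalizer_of_conj_le (hSM g hg), Or.inl ⟨P, e⟩⟩
  left
  rcases eq_or_ne p 3 with rfl | hp3
  · refine ⟨P, fun g hg => ?_, Or.inr (Or.inl ⟨P, rfl⟩)⟩
    refine Sylow.smul_eq_iff_mem_normalizer.1 ?_
    by_contra hne'
    refine hne ((Subgroup.eq_bot_iff_forall M).2 fun y hy => ?_)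
    have h := sylow_ti f hf hK (g • P) P hne'
    have hy1 : y ∈ ((g • P : Sylow 3 ↥G₁) : Subgroup ↥G₁) := by
      refine ⟨g⁻¹ * y * g, hP ?_, ?_⟩
      · have := hSM g⁻¹ (inv_mem hg) y hy
        rwa [inv_inv] at this
      · show g * (g⁻¹ * y * g) * g⁻¹ = y
        group
    exact (Subgroup.eq_bot_iff_forall _).1 h y ⟨hy1, hP hy⟩
  · have hp5 : 3 < p := by
      have := hp.two_le
      omega
    have hcyc : IsCyclic ↥(P : Subgroup ↥G₁) := sylow_cyclic f hf hK hm hp5 P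
    obtain ⟨y, hy⟩ := exists_prime_orderOf_dvd_card' p hpd
    rw [← Subgroup.orderOf_coe] at hy
    have hyne : (y : ↥G₁) ≠ 1 := fun e => by rw [e, orderOf_one] at hy; exact hp.ne_one hy.symm
    have key : ∀ g ∈ S, ∃ j : ℤ, g * y * g⁻¹ = (y : ↥G₁) ^ j := fun g hg => by
      have hmem := hSM g hg y y.2
      have e : Subgroup.zpowers (g * y * g⁻¹) = Subgroup.zpowers (y : ↥G₁) :=
        eq_of_card_eq_of_cyclic hcyc (Subgroup.zpowers_le.2 (hP hmem))
          (Subgroup.zpowers_le.2 (hP y.2))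
          (by rw [Nat.card_zpowers, Nat.card_zpowers, orderOf_conj_eq])
      obtain ⟨j, hj⟩ := Subgroup.mem_zpowers_iff.1 (e.le (Subgroup.mem_zpowers _))
      exact ⟨j, hj.symm⟩
    have main : ∀ (A : Subgroup ↥G₁) (k N : ℕ), IsToral A k N → p ∣ k →
        (k = (3 ^ (2 * m + 1) - 1) / 2 ∨ k = (3 ^ (2 * m + 1) + 1) / 4 ∨
          k = 3 ^ (2 * m + 1) - 3 ^ (m + 1) + 1 ∨ k = 3 ^ (2 * m + 1) + 3 ^ (m + 1) + 1) →
        InLocal m S := by
      intro A k N t hpk hk
      obtain ⟨c, hc⟩ := t.cover y hyne (hy ▸ hpk)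
      refine inLocal_of_cyclic f hf hK hm (c := c) t.cyclic (t.card.symm ▸ hk) fun g hg => ?_
      refine t.ti _ _ hc (fun e => hyne (conj_eq_one_iff.1 e)) ?_
      obtain ⟨j, hj⟩ := key g hg
      rw [show c * g * c⁻¹ * (c * y * c⁻¹) * (c * g * c⁻¹)⁻¹ = c * (g * y * g⁻¹) * c⁻¹ by group,
        hj, ← conj_zpow]
      exact Subgroup.zpow_mem _ hc j
    rcases prime_cases f hf hK hp (hy ▸ orderOf_dvd_natCard (y : ↥G₁)) with h | h | h | h
    · omega
    · obtain ⟨A, t⟩ := exists_toral_minus f hf hK hm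
      refine main A _ _ t ?_ (Or.inl rfl)
      have hev : 3 ^ (2 * m + 1) - 1 = 2 * ((3 ^ (2 * m + 1) - 1) / 2) := by
        have := (q_mod m).1
        omega
      rw [hev] at h
      exact (hp.dvd_mul.1 h).resolve_left fun h2 =>
        hp2 ((Nat.prime_dvd_prime_iff_eq hp Nat.prime_two).1 h2)
    · obtain ⟨A, t⟩ := exists_toral_plus f hf hK hm
      refine main A _ _ t ?_ (Or.inr (Or.inl rfl))
      rw [(qk_eq m).1] at h
      exact (hp.dvd_mul.1 h).resolve_left fun h2 =>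
        hp2 ((Nat.prime_dvd_prime_iff_eq hp Nat.prime_two).1
          (hp.dvd_of_dvd_pow (show p ∣ 2 ^ 2 from h2)))
    · obtain ⟨A, B, tA, tB, hprod, -⟩ := exists_toral_hall f hf hK hm
      rw [show (3 ^ (2 * m + 1)) ^ 2 - 3 ^ (2 * m + 1) + 1 = _ from hprod.symm] at h
      rcases hp.dvd_mul.1 h with h | h
      · exact main A _ _ tA h (Or.inr (Or.inr (Or.inl rfl)))
      · exact main B _ _ tB h (Or.inr (Or.inr (Or.inr rfl)))

theorem inLocal_of_normal {S : Subgroup ↥G₁} {M : Subgroup ↥S} (hn : M.Normal) {p : ℕ}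
    (hp : p.Prime) (hM : IsPGroup p ↥M) (hne : M ≠ ⊥) :
    InLocal m S ∨ (p = 2 ∧ Nat.card ↥M = 2) := by
  have hinj : Function.Injective (S.subtype : ↥S →* ↥G₁) := S.subtype_injective
  have hcard : Nat.card ↥(M.map S.subtype) = Nat.card ↥M := Subgroup.card_map_of_injective hinj
  have hM' : IsPGroup p ↥(M.map S.subtype) := hM.map S.subtype
  have hne' : M.map S.subtype ≠ ⊥ := fun e =>
    hne ((Subgroup.map_eq_bot_iff_of_injective M hinj).1 e)
  have hconj : ∀ g ∈ S, ∀ x ∈ M.map S.subtype, g * x * g⁻¹ ∈ M.map S.subtype := by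
    intro g hg x hx
    obtain ⟨y, hy, rfl⟩ := Subgroup.mem_map.1 hx
    exact Subgroup.mem_map.2 ⟨(⟨g, hg⟩ : ↥S) * y * (⟨g, hg⟩ : ↥S)⁻¹, hn.conj_mem y hy _,
      by simp only [map_mul, map_inv, Subgroup.coe_subtype]⟩
  rcases inLocal_of_pGroup f hf hK hm hp hM' hne' hconj with h | ⟨h1, h2⟩
  · exact Or.inl h
  · exact Or.inr ⟨h1, hcard ▸ h2⟩

theorem solvable_inLocal {S : Subgroup ↥G₁} (hS : Group.IsSolvable ↥S) : InLocal m S := by
  classical
  haveI : Fact (Nat.Prime 2) := ⟨Nat.prime_two⟩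
  have hpgroup : IsPGroup 2 ↥S → InLocal m S := fun h => by
    obtain ⟨P, hP⟩ := h.exists_le_sylow
    exact ⟨P, hP.trans Subgroup.le_normalizer, Or.inl ⟨P, rfl⟩⟩
  rcases subsingleton_or_nontrivial ↥S with hsub | hnt
  · exact hpgroup fun x => ⟨0, by rw [pow_zero, pow_one]; exact Subsingleton.elim _ _⟩
  obtain ⟨p, M, hp, hMn, hMne, hMp⟩ := exists_normal_pGroup hS hnt
  rcases inLocal_of_normal f hf hK hm hMn hp hMp hMne with h | ⟨rfl, hM2⟩
  · exact h
  haveI := hMn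
  rcases subsingleton_or_nontrivial (↥S ⧸ M) with hsub | hnt'
  · refine hpgroup (IsPGroup.of_card (n := 1) ?_)
    rw [Subgroup.card_eq_card_quotient_mul_card_subgroup M, Nat.card_unique, one_mul, hM2, pow_one]
  haveI := hS
  have hQs : Group.IsSolvable (↥S ⧸ M) :=
    Group.isSolvable_of_surjective (f := QuotientGroup.mk' M) (QuotientGroup.mk'_surjective M)
  obtain ⟨r, Qb, hr, hQn, hQne, hQr⟩ := exists_normal_pGroup hQs hnt'
  haveI := Fact.mk hr
  haveI := hQn
  set Q : Subgroup ↥S := Qb.comap (QuotientGroup.mk' M) with hQ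
  haveI hQnorm : Q.Normal := hQn.comap _
  obtain ⟨j, hj⟩ := hQr.exists_card_eq
  have hj0 : j ≠ 0 := fun e => hQne (Subgroup.card_eq_one.1 (by rw [hj, e, pow_zero]))
  have hQcard : Nat.card ↥Q = 2 * r ^ j := by
    have h1 := Subgroup.card_mul_index Q
    have h2 := Subgroup.card_mul_index Qb
    rw [hQ, Subgroup.index_comap_of_surjective _ (QuotientGroup.mk'_surjective M), ← hQ] at h1
    rw [Subgroup.card_eq_card_quotient_mul_card_subgroup M, ← h2, hM2, hj] at h1
    exact Nat.eq_of_mul_eq_mul_right (Nat.pos_of_ne_zero Qb.index_ne_zero_of_finite)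
      (h1.trans (by ring))
  rcases eq_or_ne r 2 with rfl | hr2
  · rcases inLocal_of_normal f hf hK hm hQnorm hr
      (IsPGroup.of_card (n := j + 1) (by rw [hQcard, pow_succ, mul_comm]))
      (fun e => by
        rw [e, Subgroup.card_bot] at hQcard
        have := Nat.two_pow_pos j
        omega) with h | ⟨-, h⟩
    · exact h
    · rw [hQcard] at h
      have : 2 ≤ 2 ^ j := le_self_pow₀ (by norm_num) hj0
      omega
  obtain ⟨P⟩ : Nonempty (Sylow r ↥Q) := inferInstance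
  have hPcard : Nat.card ↥(P : Subgroup ↥Q) = r ^ j := by
    have hr2' : (2 : ℕ).factorization r = 0 := Nat.factorization_eq_zero_of_not_dvd fun h =>
      hr2 ((Nat.prime_dvd_prime_iff_eq hr Nat.prime_two).1 h)
    rw [P.card_eq_multiplicity, hQcard, Nat.factorization_mul (by norm_num) (pow_ne_zero _ hr.ne_zero),
      Finsupp.add_apply, hr2', zero_add, hr.factorization_pow, Finsupp.single_eq_same]
  have hidx : (P : Subgroup ↥Q).index = 2 := by
    have h := Subgroup.card_mul_index (P : Subgroup ↥Q)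
    rw [hPcard, hQcard, mul_comm 2] at h
    exact Nat.eq_of_mul_eq_mul_left (pow_pos hr.pos j) h
  haveI hPn : (P : Subgroup ↥Q).Normal := Subgroup.normal_of_index_eq_two hidx
  haveI : (P : Subgroup ↥Q).Characteristic := Sylow.characteristic_of_normal P hPn
  rcases inLocal_of_normal f hf hK hm (M := (P : Subgroup ↥Q).map Q.subtype) inferInstance hr
    (P.2.map _) (fun e => by
      rw [Subgroup.map_eq_bot_iff_of_injective _ Q.subtype_injective] at e
      rw [e, Subgroup.card_bot] at hPcard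
      exact absurd hPcard.symm (Nat.one_lt_pow hj0 hr.one_lt).ne') with h | ⟨h, -⟩
  · exact h
  · exact absurd h hr2

end Cfsg.Agent.Lie.Chev.G2
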