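import Cfsg.Agent.Lib.Lie.Chev.ReeInvolution
import Cfsg.Agent.Lib.Lie.Chev.ReeCentralizers
import Cfsg.Agent.Lib.Lie.Chev.ReeSmallClasses
import Cfsg.Agent.Lib.Lie.ReeThreeCore

/-! ²G₂(3): the derived subgroup is simple of order 504. -/

set_option autoImplicit false
set_option maxRecDepth 4000

namespace Cfsg.Agent.Lie.Chev.G2Three

open Cfsg.Lie Matrix G2

/-- The base field. -/
abbrev K₃ : Type := ZMod 3

/- All the structure of the base field is taken from its field structure, as in the group's definition. -/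
noncomputable scoped instance (priority := 1100) commRingBase : CommRing K₃ :=
  (ZMod.instField 3).toCommRing

/-- The trivial twist of the base field. -/
abbrev f₀ : K₃ →+* K₃ := RingHom.id K₃

theorem hf₀ : ∀ t : K₃, f₀ t = t ^ 3 ^ 0 := fun t => by simp

theorem hK₀ : Fintype.card K₃ = 3 ^ (2 * 0 + 1) := by simp [ZMod.card]

scoped instance expChar₃ : ExpChar K₃ 3 := ExpChar.prime Nat.prime_three

/-- An element of order nine inverted by the diagonal involution. -/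
theorem inverted_word : certFullG2.T.checkWordMod 3
    ([(7, (1 : ℤ)), (6, 1), (8, 2), (9, 1), (10, 1), (11, 0)] ++
      [(7, -1), (6, -1), (8, 2), (9, -1), (10, 1), (11, 0)]) [] = true := by
  decide +kernel

theorem neg_of_pos : ∀ r < 6, certFullG2.T.wlT [0, 1, 0, 1, 0, 1] (11 - r) = r := by
  decide +kernel

/-- A root element whose conjugate is positive. -/
theorem xg_mem_conj {D : ChevalleyDatum} (c : CertFull D) {F : Type*} [Field F] {L : List ℕ}
    (hL : ∀ p ∈ L, p < D.rank) {r s : ℕ} (hs : c.Pos s) (hs' : s < D.nroots)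
    (hw : c.wl L s = r) (t : F) :
    c.xg r t ∈ (D.posUnipotent F).map (MulAut.conj (c.nw F L)).toMonoidHom := by
  refine ⟨c.xg s ((c.wsign L s : F) * t), c.xg_mem_U hs _, ?_⟩
  show c.nw F L * c.xg s _ * (c.nw F L)⁻¹ = _
  rw [c.nw_mul_xg hL hs', hw, mul_inv_cancel_right, ← mul_assoc, c.wsign_sq, one_mul]

/-- The negative root elements are conjugates of positive ones. -/
theorem xg_neg_mem {r : ℕ} (hr : r < 6) (c : K₃) :
    certFullG2.xg r c ∈ (chevG2.posUnipotent K₃).map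
      (MulAut.conj (certFullG2.nw K₃ [0, 1, 0, 1, 0, 1])).toMonoidHom :=
  xg_mem_conj certFullG2 (L := [0, 1, 0, 1, 0, 1]) (s := 11 - r) (F := K₃)
    (by rw [node_values.2.2.1]; simp) (by interval_cases r <;> exact ⟨by decide, by decide⟩)
    (by rw [node_values.2.2.2.1]; omega) ((certFullG2.wlT_eq _ _).symm.trans (neg_of_pos r hr)) c

theorem units_cases : ∀ x : (ZMod 3)ˣ, x = 1 ∨ x = -1 := by decide

theorem twistedG2_three_derived :
    Nat.card ↥(commutator ↥(twistedG2 K₃ (3 ^ 0))) = 504 ∧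
      IsSimpleGroup ↥(commutator ↥(twistedG2 K₃ (3 ^ 0))) := by
  have hcardG : Nat.card ↥(twistedG2 K₃ (3 ^ 0)) = 1512 := by
    rw [card_G f₀ hf₀ hK₀]
    norm_num
  obtain ⟨i, hi⟩ : ∃ i, i = iota f₀ hf₀ hK₀ := ⟨_, rfl⟩
  obtain ⟨y, hy⟩ : ∃ y, y = uW f₀ hf₀ hK₀ ((1 : K₃), (1 : K₃), (0 : K₃)) := ⟨_, rfl⟩
  obtain ⟨a, ha⟩ : ∃ a, a = uA f₀ hf₀ hK₀ (1 : K₃) := ⟨_, rfl⟩
  have hyU : y ∈ UU K₃ 0 := (mem_UU_iff f₀ hf₀ hK₀).2 ⟨_, hy.symm⟩
  have hcube : y ^ 3 ≠ 1 := by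
    intro e
    have e1 : ((y : GL chevG2.Idx K₃)) ^ 3 = 1 := by rw [← Subgroup.coe_pow, e, Subgroup.coe_one]
    rw [hy] at e1
    have e2 : uW f₀ hf₀ hK₀ ((0 : K₃), (0 : K₃), (2 : K₃)) = uW f₀ hf₀ hK₀ 0 := by
      rw [uW_zero]
      refine Subtype.ext ?_
      rw [Subgroup.coe_one, ← e1]
      show ((reeWordU (3 ^ 0) (0 : K₃) 0 2).map fun p => certFullG2.xg p.1 p.2).prod =
        (((reeWordU (3 ^ 0) (1 : K₃) 1 0).map fun p => certFullG2.xg p.1 p.2).prod) ^ 3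
      rw [word_cube f₀ hf₀, word_eq f₀ hf₀, sq (certFullG2.xg 11 _), ← certFullG2.xg_add]
      simp [certFullG2.xg_zero, one_add_one_eq_two]
    have h := congrArg (fun p : K₃ × K₃ × K₃ => p.2.2) (uW_injective f₀ hf₀ hK₀ e2)
    exact absurd h (by decide)
  have hy9 : orderOf y = 9 := by
    haveI := Fact.mk Nat.prime_three
    exact orderOf_eq_prime_pow (p := 3) (n := 1) (by rwa [pow_one])
      (pow_nine_of_mem_UU f₀ hf₀ hK₀ hyU)
  have hiy : i * y * i⁻¹ = y⁻¹ := by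
    rw [hi, hy, iota_conj_uW]
    refine eq_inv_of_mul_eq_one_right (Subtype.ext ?_)
    show ((reeWordU (3 ^ 0) (1 : K₃) 1 0).map fun p => certFullG2.xg p.1 p.2).prod *
      ((reeWordU (3 ^ 0) (-1 : K₃) 1 (-0)).map fun p => certFullG2.xg p.1 p.2).prod = 1
    have h := certFullG2.word_eq_of_checkWordMod (F := K₃) (p := 3) inverted_word
    simp only [List.map_cons, List.map_nil, List.cons_append, List.nil_append, List.prod_cons,
      List.prod_nil, mul_one] at h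
    rw [word_eq f₀ hf₀, word_eq f₀ hf₀, ← h]
    simp [mul_assoc, one_add_one_eq_two]
  have haU : a ∈ UU K₃ 0 := ha ▸ uA_mem f₀ hf₀ hK₀ _
  have ha1 : a ≠ 1 := fun e => by
    have h := uA_injective f₀ hf₀ hK₀ ((ha.symm.trans e).trans (uA_zero f₀ hf₀ hK₀).symm)
    exact absurd h (by decide)
  have hia : i * a * i⁻¹ = a := by
    rw [hi, ha, iota_comm_uA, mul_inv_cancel_right]
  have hB : ∀ b ∈ BB K₃ 0, ∃ u ∈ UU K₃ 0, b = u ∨ b = u * i := by
    intro b hb
    obtain ⟨u, hu, h, hh, rfl⟩ := (mem_BB_iff f₀ hf₀ hK₀).1 hb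
    obtain ⟨x, rfl⟩ := (mem_HH_iff f₀ hf₀ hK₀).1 hh
    refine ⟨u, hu, ?_⟩
    rcases units_cases x with e | e
    · left; rw [e, map_one, mul_one]
    · right; rw [hi, e]; rfl
  have hgen : ∀ M : Subgroup ↥(twistedG2 K₃ (3 ^ 0)),
      (∀ g, ∀ k : ℕ, g ^ 3 ^ k = 1 → g ∈ M) → M = ⊤ := by
    intro M hM
    haveI := Fact.mk Nat.prime_three
    have hle : twistedG2 K₃ (3 ^ 0) ≤ M.map (twistedG2 K₃ (3 ^ 0)).subtype := by
      refine (Subgroup.closure_le _).2 ?_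
      rintro g ⟨w, hw, hg⟩
      obtain rfl := eq_wordProd certFullG2 hg
      have hmem := wordProd_mem certFullG2 hw
      have hp : ∃ P : Subgroup (GL chevG2.Idx K₃), IsPGroup 3 ↥P ∧
          (w.map fun p => certFullG2.xg p.1 p.2).prod ∈ P := by
        obtain ⟨t, u, v, rfl | rfl⟩ := hw
        · refine ⟨chevG2.posUnipotent K₃, certFullG2.isPGroup_U, Subgroup.list_prod_mem _ ?_⟩
          intro x hx
          simp only [reeWordU, g2a, g2b, g2ab, g2aab, g2aaab, g2aaabb, List.map_cons, List.map_nil,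
            List.mem_cons, List.not_mem_nil, or_false] at hx
          rcases hx with rfl | rfl | rfl | rfl | rfl | rfl <;>
            exact certFullG2.xg_mem_U ⟨by decide, by decide⟩ _
        · refine ⟨_, (certFullG2.isPGroup_U (F := K₃) (ℓ := 3)).map
            (MulAut.conj (certFullG2.nw K₃ [0, 1, 0, 1, 0, 1])).toMonoidHom,
            Subgroup.list_prod_mem _ ?_⟩
          intro x hx
          rw [reeWordV_eq] at hx
          simp only [List.map_cons, List.map_nil, List.mem_cons, List.not_mem_nil, or_false] at hx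
          rcases hx with rfl | rfl | rfl | rfl | rfl | rfl <;> exact xg_neg_mem (by decide) _
      obtain ⟨P, hP, hgP⟩ := hp
      obtain ⟨k, hk⟩ := hP ⟨_, hgP⟩
      exact ⟨⟨_, hmem⟩, hM _ k (Subtype.ext (by simpa [Subtype.ext_iff] using hk)), rfl⟩
    rw [eq_top_iff]
    intro g _
    obtain ⟨m, hm, e⟩ := hle g.2
    rwa [show g = m from Subtype.ext e.symm]
  have hmax : ∀ M : Subgroup ↥(twistedG2 K₃ (3 ^ 0)), BB K₃ 0 ≤ M → M ≠ BB K₃ 0 → M = ⊤ := by
    intro M hle hne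
    obtain ⟨g, hgM, hgB⟩ := SetLike.exists_of_lt (hle.lt_of_ne (Ne.symm hne))
    obtain ⟨b, hb, u, hu, rfl⟩ := exists_big f₀ hf₀ hK₀ hgB
    have hn : nn f₀ hf₀ hK₀ ∈ M := by
      have h := mul_mem (mul_mem (inv_mem (hle hb)) hgM) (inv_mem (hle (UU_le_BB hu)))
      rwa [show b⁻¹ * (b * nn f₀ hf₀ hK₀ * u) * u⁻¹ = nn f₀ hf₀ hK₀ by group] at h
    rw [eq_top_iff]
    intro x _
    by_cases hx : x ∈ BB K₃ 0
    · exact hle hx
    obtain ⟨b', hb', u', hu', rfl⟩ := exists_big f₀ hf₀ hK₀ hx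
    exact mul_mem (mul_mem (hle hb') hn) (hle (UU_le_BB hu'))
  have hcore : ∀ N : Subgroup ↥(twistedG2 K₃ (3 ^ 0)), N.Normal → N ≤ BB K₃ 0 → N = ⊥ := by
    intro N hN hle
    rw [eq_bot_iff]
    intro x hx
    have hxH : x ∈ HH K₃ 0 := by
      have h := hle (hN.conj_mem x hx (nn f₀ hf₀ hK₀)⁻¹)
      rw [inv_inv] at h
      exact mem_H_of_conj f₀ hf₀ hK₀ (x := (x : GL chevG2.Idx K₃)) (hle hx) h
    rw [Subgroup.mem_bot]
    obtain ⟨z, rfl⟩ := (mem_HH_iff f₀ hf₀ hK₀).1 hxH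
    rcases units_cases z with e | e
    · rw [e, map_one]
    exfalso
    have hiN : i ∈ N := by rw [hi]; rw [e] at hx; exact hx
    have h1 : i * y * i⁻¹ * y⁻¹ ∈ N := by
      have h := mul_mem hiN (hN.conj_mem _ (inv_mem hiN) y)
      rwa [show i * (y * i⁻¹ * y⁻¹) = i * y * i⁻¹ * y⁻¹ by group] at h
    rw [hiy] at h1
    have hH : y⁻¹ * y⁻¹ ∈ HH K₃ 0 := by
      have h := hle (hN.conj_mem _ h1 (nn f₀ hf₀ hK₀)⁻¹)
      rw [inv_inv] at h
      exact mem_H_of_conj f₀ hf₀ hK₀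
        (x := ((y⁻¹ * y⁻¹ : ↥(twistedG2 K₃ (3 ^ 0))) : GL chevG2.Idx K₃)) (hle h1) h
    have hone := UU_inf_HH f₀ hf₀ hK₀ (mul_mem (inv_mem hyU) (inv_mem hyU)) hH
    have hd : orderOf y ∣ 2 := orderOf_dvd_of_pow_eq_one (by
      rw [sq, ← _root_.inv_inj, _root_.mul_inv_rev, hone, inv_one])
    rw [hy9] at hd
    exact absurd hd (by norm_num)
  have hU : Nat.card ↥(UU K₃ 0) = 27 := by rw [card_UU f₀ hf₀ hK₀]; norm_num
  exact ReeThreeCore.derived_simple_card hcardG hU UU_le_BB hB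
    (fun b hb u hu => BB_conj_UU f₀ hf₀ hK₀ hb hu) hyU hy9 hiy haU ha1 hia
    (fun x hx hx1 g hg => conj_mem_UU f₀ hf₀ hK₀ hx hx1 hg) hgen hmax hcore

end Cfsg.Agent.Lie.Chev.G2Three
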