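import Cfsg.Agent.Lib.Lie.Chev.ReeSmallClasses

/-! The abelian subgroups of order `q + 1` of a small Ree group and their normalisers. -/

set_option autoImplicit false
set_option maxRecDepth 4000

namespace Cfsg.Agent.Lie.Chev.G2

open Cfsg.Lie

section Arith

variable (m : ℕ)

/-- The odd number `(q + 1) / 4`. -/
abbrev qk : ℕ := (3 ^ (2 * m + 1) + 1) / 4

theorem qk_eq : 3 ^ (2 * m + 1) + 1 = 4 * qk m ∧ qk m % 2 = 1 := by
  have := (q_mod m).1
  unfold qk
  omega

theorem qk_large (hm : 1 ≤ m) : 7 ≤ qk m := by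
  have := q_large m hm
  unfold qk
  omega

theorem qk_dvd : qk m ∣ 3 ^ (2 * m + 1) + 1 := ⟨4, by rw [(qk_eq m).1]; ring⟩

end Arith

variable {K : Type*} [Field K] (f : K →+* K) [CharP K 3] [ExpChar K 3]
variable [Fintype K] {m : ℕ} (hf : ∀ t, f t = t ^ 3 ^ m) (hK : Fintype.card K = 3 ^ (2 * m + 1))

include hf hK

local notation "G₁" => twistedG2 K (3 ^ m)

theorem exists_ww (hm : 1 ≤ m) :
    ∃ w : ↥G₁, w ∈ Subgroup.centralizer {iota f hf hK} ∧ orderOf w = qk m := by
  classical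
  haveI : Fact (Nat.Prime 3) := ⟨Nat.prime_three⟩
  obtain ⟨e⟩ := centralizer_iota_iso f hf hK
  obtain ⟨a, ha, hap, hcard⟩ := Dickson.exists_tor_plus (F := K) 3
  obtain ⟨g, hg⟩ := ((Dickson.pslData (F := K) 3).semi_cyclic ha hap).exists_ofOrder_eq_natCard
  rw [← Subgroup.orderOf_coe] at hg
  set z : ↥(Subgroup.centralizer {iota f hf hK}) := e.symm (1, (g : _))
  have hz : orderOf z = (3 ^ (2 * m + 1) + 1) / 2 := by
    have hdel : Dickson.del K = 2 := by
      rw [Dickson.del, hK]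
      have := (q_mod m).1
      exact Nat.gcd_eq_left (by omega)
    rw [show z = e.symm (1, (g : _)) from rfl, e.symm.orderOf_eq, Prod.orderOf, orderOf_one,
      Nat.lcm_one_left]
    refine hg.trans (hcard.trans ?_)
    rw [hdel, hK]
  refine ⟨(z : ↥G₁) ^ 2, pow_mem z.2 2, ?_⟩
  rw [orderOf_pow' _ (by norm_num), Subgroup.orderOf_coe, hz]
  obtain ⟨h1, h2⟩ := qk_eq m
  rw [show (3 ^ (2 * m + 1) + 1) / 2 = 2 * qk m by omega,
    Nat.gcd_eq_right (dvd_mul_right 2 (qk m)), Nat.mul_div_cancel_left _ (by norm_num)]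

variable (hm : 1 ≤ m)

/-- A standard element of order `(q + 1) / 4`. -/
noncomputable def ww : ↥G₁ := (exists_ww f hf hK hm).choose

theorem ww_mem : ww f hf hK hm ∈ Subgroup.centralizer {iota f hf hK} :=
  (exists_ww f hf hK hm).choose_spec.1

theorem orderOf_ww : orderOf (ww f hf hK hm) = qk m := (exists_ww f hf hK hm).choose_spec.2

/-- The abelian subgroup of order `q + 1`. -/
noncomputable abbrev torG : Subgroup ↥G₁ := Subgroup.centralizer {ww f hf hK hm}

theorem card_zpowers_ww : Nat.card ↥(Subgroup.zpowers (ww f hf hK hm)) = qk m := by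
  rw [Nat.card_zpowers, orderOf_ww f hf hK hm]

theorem zpowers_ww_full {p : ℕ} (hp : p.Prime) (hp2 : p ≠ 2) (hd : p ∣ 3 ^ (2 * m + 1) + 1) :
    (Nat.card ↥G₁).factorization p ≤
      (Nat.card ↥(Subgroup.zpowers (ww f hf hK hm))).factorization p := by
  rw [card_zpowers_ww f hf hK hm, card_G f hf hK]
  obtain ⟨h3, h1, h2⟩ := plus_props m hp hp2 hd
  have hne : ¬ p ∣ (3 ^ (2 * m + 1)) ^ 3 * (3 ^ (2 * m + 1) - 1) *
      ((3 ^ (2 * m + 1)) ^ 2 - 3 ^ (2 * m + 1) + 1) * 4 := by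
    intro h
    rcases hp.dvd_mul.1 h with h | h
    · rcases hp.dvd_mul.1 h with h | h
      · rcases hp.dvd_mul.1 h with h | h
        · exact not_dvd_three m hp (by omega) (hp.dvd_of_dvd_pow h)
        · exact h1 h
      · exact h2 h
    · exact hp2 ((Nat.prime_dvd_prime_iff_eq hp Nat.prime_two).1
        (hp.dvd_of_dvd_pow (show p ∣ 2 ^ 2 from h)))
  rw [(qk_eq m).1, show ∀ a b c d : ℕ, a * b * (4 * c * d) = c * (a * b * d * 4) from
      fun a b c d => by ring,
    Nat.factorization_mul (by have := qk_large m hm; omega)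
      (fun e => hne (by rw [e]; exact dvd_zero _)),
    Finsupp.add_apply, Nat.factorization_eq_zero_of_not_dvd hne, add_zero]

theorem prime_pow_centralizer {x : ↥G₁} (hx : x ∈ Subgroup.zpowers (ww f hf hK hm)) (h1 : x ≠ 1) :
    Subgroup.centralizer {x} = torG f hf hK hm ∧
      Nat.card ↥(torG f hf hK hm) = 3 ^ (2 * m + 1) + 1 ∧
      IsMulCommutative ↥(torG f hf hK hm) := by
  set w := ww f hf hK hm with hw
  have hdvd : orderOf x ∣ qk m := card_zpowers_ww f hf hK hm ▸ Subgroup.orderOf_dvd_natCard _ hx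
  obtain ⟨p, hp, hpd⟩ := Nat.exists_prime_and_dvd (fun e => h1 (orderOf_eq_one_iff.1 e))
  have hp2 : p ≠ 2 := by
    rintro rfl
    have := (qk_eq m).2
    have := hpd.trans hdvd
    omega
  obtain ⟨i, hi⟩ := exists_prime_power h1 hp hpd
  obtain ⟨hcard, hcomm⟩ := plus_centralizer f hf hK hm hp hp2
    (hpd.trans (hdvd.trans (qk_dvd m))) hi
  have hle1 : Subgroup.centralizer {w} ≤ Subgroup.centralizer {x} := by
    intro g hg
    obtain ⟨l, rfl⟩ := hx
    rw [Subgroup.mem_centralizer_singleton_iff] at hg ⊢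
    exact ((show Commute g w from hg).zpow_right l).eq
  have hle2 : Subgroup.centralizer {x} ≤ Subgroup.centralizer {x ^ i} := fun g hg => by
    rw [Subgroup.mem_centralizer_singleton_iff] at hg ⊢
    exact ((show Commute g x from hg).pow_right i).eq
  have hwmem : w ∈ Subgroup.centralizer {x ^ i} :=
    hle2 (hle1 (Subgroup.mem_centralizer_singleton_iff.2 rfl))
  have hle3 : Subgroup.centralizer {x ^ i} ≤ Subgroup.centralizer {w} := fun g hg =>
    Subgroup.mem_centralizer_singleton_iff.2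
      (congrArg Subtype.val (hcomm.is_comm.comm ⟨g, hg⟩ ⟨w, hwmem⟩))
  have e : Subgroup.centralizer {x ^ i} = torG f hf hK hm :=
    le_antisymm hle3 (hle1.trans hle2)
  exact ⟨le_antisymm (hle2.trans hle3) hle1, e ▸ hcard, e ▸ hcomm⟩

theorem ww_ne_one : ww f hf hK hm ≠ 1 := fun e => by
  have h := orderOf_ww f hf hK hm
  rw [e, orderOf_one] at h
  have := qk_large m hm
  omega

theorem card_torG : Nat.card ↥(torG f hf hK hm) = 3 ^ (2 * m + 1) + 1 :=
  (prime_pow_centralizer f hf hK hm (Subgroup.mem_zpowers _) (ww_ne_one f hf hK hm)).2.1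

theorem pow_qk_of_mem_zpowers {x : ↥G₁} (hx : x ∈ Subgroup.zpowers (ww f hf hK hm)) :
    x ^ qk m = 1 := by
  have h := Subgroup.orderOf_dvd_natCard _ hx
  rw [card_zpowers_ww f hf hK hm] at h
  exact orderOf_dvd_iff_pow_eq_one.1 h

theorem torG_comm : IsMulCommutative ↥(torG f hf hK hm) :=
  (prime_pow_centralizer f hf hK hm (Subgroup.mem_zpowers _) (ww_ne_one f hf hK hm)).2.2

theorem torG_commute {a b : ↥G₁} (ha : a ∈ torG f hf hK hm) (hb : b ∈ torG f hf hK hm) :
    Commute a b :=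
  congrArg Subtype.val ((torG_comm f hf hK hm).is_comm.comm ⟨a, ha⟩ ⟨b, hb⟩)

theorem ww_mem_torG : ww f hf hK hm ∈ torG f hf hK hm :=
  Subgroup.mem_centralizer_singleton_iff.2 rfl

theorem zpowers_le_torG : Subgroup.zpowers (ww f hf hK hm) ≤ torG f hf hK hm :=
  Subgroup.zpowers_le.2 (ww_mem_torG f hf hK hm)

theorem orderOf_dvd_of_mem {a : ↥G₁} (ha : a ∈ torG f hf hK hm) : orderOf a ∣ 2 * qk m := by
  have h : orderOf a ∣ 4 * qk m :=
    (qk_eq m).1 ▸ card_torG f hf hK hm ▸ Subgroup.orderOf_dvd_natCard _ ha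
  obtain ⟨b, c, hb, hc, he⟩ := exists_dvd_and_dvd_of_dvd_mul h
  have hb' : b ∣ 2 := by
    have : b ≤ 4 := Nat.le_of_dvd (by norm_num) hb
    have hb4 : b ≠ 4 := by
      rintro rfl
      have hn := (orderOf_pos a).ne'
      rw [he] at hn
      refine orderOf_ne_four f hf hK (a ^ c) ?_
      rw [orderOf_pow' a (mul_ne_zero_iff.1 hn).2, he, Nat.gcd_eq_right (dvd_mul_left c 4),
        Nat.mul_div_cancel _ (Nat.pos_of_ne_zero (mul_ne_zero_iff.1 hn).2)]
    interval_cases b <;> first | (norm_num at hb; done) | (norm_num at hb4; done) | norm_num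
  rw [he]
  exact mul_dvd_mul hb' hc

/-- The elements of odd order of `T` are the powers of the standard element. -/
theorem mem_zpowers_of_pow {a : ↥G₁} (ha : a ∈ torG f hf hK hm) (h : a ^ qk m = 1) :
    a ∈ Subgroup.zpowers (ww f hf hK hm) := by
  set T := torG f hf hK hm
  set W := Subgroup.zpowers (ww f hf hK hm) with hW
  haveI hn : (W.subgroupOf T).Normal := ⟨fun n hn g => by
    have : g * n * g⁻¹ = n := Subtype.ext (by
      show (g : ↥G₁) * n * (g : ↥G₁)⁻¹ = n
      rw [(torG_commute f hf hK hm g.2 n.2).eq, mul_inv_cancel_right])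
    rwa [this]⟩
  have hidx : (W.subgroupOf T).index = 4 := by
    have h1 := Subgroup.card_mul_index (W.subgroupOf T)
    rw [Nat.card_congr (Subgroup.subgroupOfEquivOfLe (zpowers_le_torG f hf hK hm)).toEquiv,
      card_zpowers_ww f hf hK hm, card_torG f hf hK hm, (qk_eq m).1, mul_comm 4] at h1
    exact Nat.eq_of_mul_eq_mul_left (by have := qk_large m hm; omega) h1
  have h4 := Subgroup.pow_index_mem (W.subgroupOf T) (⟨a, ha⟩ : ↥T)
  rw [hidx, Subgroup.mem_subgroupOf] at h4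
  have hcop : Nat.Coprime 4 (orderOf a) := by
    have hd := orderOf_dvd_of_pow_eq_one h
    have := (qk_eq m).2
    exact ((Nat.Prime.coprime_iff_not_dvd Nat.prime_two).2 (by omega) |>.pow_left 2).coprime_dvd_right hd
  obtain ⟨t, ht⟩ := exists_pow_eq_self_of_coprime hcop
  rw [← ht]
  exact pow_mem h4 t

theorem qk_succ_mem {a : ↥G₁} (ha : a ∈ torG f hf hK hm) :
    a ^ (qk m + 1) ∈ Subgroup.zpowers (ww f hf hK hm) ∧ (a ^ qk m) ^ 2 = 1 ∧
      a ^ qk m * a ^ (qk m + 1) = a := by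
  have h2 : a ^ (2 * qk m) = 1 := orderOf_dvd_iff_pow_eq_one.1 (orderOf_dvd_of_mem f hf hK hm ha)
  refine ⟨mem_zpowers_of_pow f hf hK hm (pow_mem ha _) ?_,
    by rw [← pow_mul, mul_comm]; exact h2, ?_⟩
  · obtain ⟨j, hj⟩ : 2 ∣ qk m + 1 := by have := (qk_eq m).2; omega
    rw [hj, ← pow_mul, show 2 * j * qk m = 2 * qk m * j by ring, pow_mul, h2, one_pow]
  · rw [← pow_add, show qk m + (qk m + 1) = 2 * qk m + 1 by ring, pow_succ, h2, one_mul]

theorem centralizer_of_mem {a : ↥G₁} (ha : a ∈ torG f hf hK hm) (h2 : 2 < orderOf a) :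
    Subgroup.centralizer {a} = torG f hf hK hm := by
  refine le_antisymm ?_ fun g hg =>
    Subgroup.mem_centralizer_singleton_iff.2 (torG_commute f hf hK hm hg ha).eq
  have h := prime_pow_centralizer f hf hK hm (x := a ^ 2) (mem_zpowers_of_pow f hf hK hm (pow_mem ha 2)
    (by rw [← pow_mul]; exact orderOf_dvd_iff_pow_eq_one.1 (orderOf_dvd_of_mem f hf hK hm ha)))
    (fun e => mul_self_ne_one h2 (by rwa [sq] at e))
  rw [← h.1]
  intro g hg
  rw [Subgroup.mem_centralizer_singleton_iff] at hg ⊢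
  exact ((show Commute g a from hg).pow_right 2).eq

theorem torG_TI {g a : ↥G₁} (ha : a ∈ torG f hf hK hm) (h2 : 2 < orderOf a)
    (hg : g * a * g⁻¹ ∈ torG f hf hK hm) :
    g ∈ Subgroup.normalizer (torG f hf hK hm : Set ↥G₁) :=
  mem_normalizer_of_centralizer (centralizer_of_mem f hf hK hm ha h2)
    (centralizer_of_mem f hf hK hm hg (by rwa [orderOf_conj_eq]))

theorem two_lt_of_mem_zpowers {x : ↥G₁} (hx : x ∈ Subgroup.zpowers (ww f hf hK hm)) (h1 : x ≠ 1) :
    2 < orderOf x := by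
  have hd := card_zpowers_ww f hf hK hm ▸ Subgroup.orderOf_dvd_natCard _ hx
  have h0 := orderOf_pos x
  have hne : orderOf x ≠ 1 := fun e => h1 (orderOf_eq_one_iff.1 e)
  have := (qk_eq m).2
  rcases Nat.lt_or_ge 2 (orderOf x) with h | h
  · exact h
  · have : orderOf x = 2 := by omega
    rw [this] at hd
    omega

/-- The normaliser of `T` is that of its odd part. -/
theorem normalizer_zpowers :
    Subgroup.normalizer (Subgroup.zpowers (ww f hf hK hm) : Set ↥G₁) =
      Subgroup.normalizer (torG f hf hK hm : Set ↥G₁) := by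
  refine le_antisymm (fun n hn => ?_) (fun n hn => ?_)
  · refine torG_TI f hf hK hm (ww_mem_torG f hf hK hm)
      (two_lt_of_mem_zpowers f hf hK hm (Subgroup.mem_zpowers _) (ww_ne_one f hf hK hm)) ?_
    exact zpowers_le_torG f hf hK hm ((Subgroup.mem_normalizer_iff.1 hn _).1 (Subgroup.mem_zpowers _))
  · have key : ∀ n ∈ Subgroup.normalizer (torG f hf hK hm : Set ↥G₁),
        ∀ x ∈ Subgroup.zpowers (ww f hf hK hm), n * x * n⁻¹ ∈ Subgroup.zpowers (ww f hf hK hm) :=
      fun n hn x hx => mem_zpowers_of_pow f hf hK hm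
        ((Subgroup.mem_normalizer_iff.1 hn x).1 (zpowers_le_torG f hf hK hm hx)) (by
          rw [conj_pow, pow_qk_of_mem_zpowers f hf hK hm hx, mul_one, mul_inv_cancel])
    rw [Subgroup.mem_normalizer_iff]
    intro x
    refine ⟨key n hn x, fun h => ?_⟩
    have := key n⁻¹ (inv_mem hn) _ h
    rwa [show n⁻¹ * (n * x * n⁻¹) * n⁻¹⁻¹ = x by group] at this

/-- An element of order above two dividing `(q + 1) / 2` is conjugate into `T`. -/
theorem plus_conj {x : ↥G₁} (h2 : 2 < orderOf x) (hd : orderOf x ∣ 2 * qk m) :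
    ∃ c, c * x * c⁻¹ ∈ torG f hf hK hm := by
  obtain ⟨p, hp, hpd, hp2⟩ : ∃ p : ℕ, p.Prime ∧ p ∣ orderOf x ∧ p ≠ 2 := by
    by_contra hne
    simp only [not_exists, not_and, not_not] at hne
    obtain ⟨k, hk⟩ : ∃ k, orderOf x = 2 ^ k :=
      ⟨_, Nat.eq_prime_pow_of_unique_prime_dvd (orderOf_pos x).ne' fun {d} hd hdd => hne d hd hdd⟩
    rw [hk] at hd h2
    have : 4 ∣ 2 * qk m := by
      refine (show 4 ∣ 2 ^ k from ?_).trans hd
      rcases k with _ | _ | k
      · norm_num at h2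
      · norm_num at h2
      · exact ⟨2 ^ k, by ring⟩
    have := (qk_eq m).2
    omega
  haveI := Fact.mk hp
  have hpq : p ∣ 3 ^ (2 * m + 1) + 1 := by
    refine (hpd.trans hd).trans ⟨2, ?_⟩
    rw [(qk_eq m).1]; ring
  obtain ⟨i, hi⟩ := exists_prime_power (fun e => by rw [e, orderOf_one] at h2; omega) hp hpd
  obtain ⟨c, hc⟩ := exists_conj_mem_of_full (Subgroup.zpowers (ww f hf hK hm)) (p := p) (k := 1)
    (x := x ^ i) (zpowers_ww_full f hf hK hm hp hp2 hpq)
    (by rw [pow_one, ← hi, pow_orderOf_eq_one])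
  refine ⟨c, ?_⟩
  rw [← (prime_pow_centralizer f hf hK hm hc
    (fun e => by rw [conj_eq_one_iff] at e; rw [e, orderOf_one] at hi; exact hp.ne_one hi.symm)).1]
  exact conj_mem_centralizer c (Subgroup.mem_centralizer_singleton_iff.2 (Commute.self_pow x i).eq)

theorem iota_mem_torG : iota f hf hK ∈ torG f hf hK hm :=
  mem_centralizer_comm.1 (ww_mem f hf hK hm)

/-- `T` has exactly four elements of square one. -/
theorem card_sq_one :
    Nat.card {a : ↥(torG f hf hK hm) // (a : ↥G₁) * a = 1} = 4 := by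
  classical
  set T := torG f hf hK hm
  set W := Subgroup.zpowers (ww f hf hK hm)
  let φ : {a : ↥T // (a : ↥G₁) * a = 1} × ↥W → ↥T := fun p =>
    ⟨p.1.1 * p.2, mul_mem p.1.1.2 (zpowers_le_torG f hf hK hm p.2.2)⟩
  have hb : Function.Bijective φ := by
    refine ⟨fun p p' e => ?_, fun a => ?_⟩
    · have e' : (p.1.1 : ↥G₁) * p.2 = p'.1.1 * p'.2 := congrArg Subtype.val e
      have hk : ∀ p : {a : ↥T // (a : ↥G₁) * a = 1} × ↥W,
          ((p.1.1 : ↥G₁) * p.2) ^ qk m = p.1.1 := by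
        intro p
        rw [(torG_commute f hf hK hm p.1.1.2 (zpowers_le_torG f hf hK hm p.2.2)).mul_pow,
          pow_qk_of_mem_zpowers f hf hK hm p.2.2, mul_one]
        obtain ⟨j, hj⟩ : ∃ j, qk m = 2 * j + 1 := ⟨qk m / 2, by have := (qk_eq m).2; omega⟩
        rw [hj, pow_succ, pow_mul, sq, p.1.2, one_pow, one_mul]
      have h1 : (p.1.1 : ↥G₁) = p'.1.1 := by rw [← hk p, e', hk p']
      rw [h1] at e'
      exact Prod.ext (Subtype.ext (Subtype.ext h1)) (Subtype.ext (mul_left_cancel e'))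
    · obtain ⟨h1, h2, h3⟩ := qk_succ_mem f hf hK hm a.2
      exact ⟨(⟨⟨(a : ↥G₁) ^ qk m, pow_mem a.2 _⟩, by rw [← sq]; exact h2⟩, ⟨_, h1⟩), Subtype.ext h3⟩
  have h := Nat.card_eq_of_bijective φ hb
  rw [Nat.card_prod, card_zpowers_ww f hf hK hm, card_torG f hf hK hm, (qk_eq m).1] at h
  exact Nat.eq_of_mul_eq_mul_right (by have := qk_large m hm; omega) h

/-- The three involutions of `T`. -/
theorem card_involutions_torG :
    Nat.card {a : ↥(torG f hf hK hm) // orderOf (a : ↥G₁) = 2} = 3 := by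
  classical
  cases nonempty_fintype ↥(torG f hf hK hm)
  have e : (Finset.univ.filter fun a : ↥(torG f hf hK hm) => (a : ↥G₁) * a = 1) =
      insert 1 (Finset.univ.filter fun a : ↥(torG f hf hK hm) => orderOf (a : ↥G₁) = 2) := by
    ext a
    simp only [Finset.mem_filter, Finset.mem_univ, true_and, Finset.mem_insert]
    refine ⟨fun h => ?_, ?_⟩
    · rcases eq_or_ne a 1 with h1 | h1
      · exact Or.inl h1
      · exact Or.inr (orderOf_eq_prime (by rw [sq, h]) fun e => h1 (Subtype.ext e))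
    · rintro (rfl | h)
      · simp
      · rw [← sq, ← h, pow_orderOf_eq_one]
  have h := card_sq_one f hf hK hm
  rw [Nat.card_eq_fintype_card, Fintype.card_subtype, e,
    Finset.card_insert_of_notMem (by simp)] at h
  rw [Nat.card_eq_fintype_card, Fintype.card_subtype]
  omega

/-- The part of the normaliser centralising the standard involution. -/
theorem card_normalizer_inf :
    Nat.card ↥((Subgroup.normalizer (torG f hf hK hm : Set ↥G₁)).subgroupOf
      (Subgroup.centralizer {iota f hf hK})) = 2 * (3 ^ (2 * m + 1) + 1) := by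
  classical
  haveI : Fact (Nat.Prime 3) := ⟨Nat.prime_three⟩
  obtain ⟨e⟩ := centralizer_iota_iso f hf hK
  set C := Subgroup.centralizer {iota f hf hK}
  set D := Dickson.pslData (F := K) 3
  set N := Subgroup.normalizer (torG f hf hK hm : Set ↥G₁) with hN
  set wC : ↥C := ⟨ww f hf hK hm, ww_mem f hf hK hm⟩
  set y := (e wC).2 with hy
  have hoC : orderOf wC = qk m := by rw [← Subgroup.orderOf_coe]; exact orderOf_ww f hf hK hm
  obtain ⟨hk4, hkodd⟩ := qk_eq m
  have hk7 := qk_large m hm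
  have hz : (e wC).1 = 1 := by
    have ha := (orderOf_map_dvd (MonoidHom.fst _ _) (e wC)).trans (dvd_of_eq (e.orderOf_eq wC))
    rw [hoC] at ha
    have hb : orderOf (e wC).1 ∣ 2 := by
      have := orderOf_dvd_natCard (e wC).1
      rwa [show Nat.card (Multiplicative (ZMod 2)) = 2 from Nat.card_zmod 2] at this
    exact orderOf_eq_one_iff.1 (Nat.eq_one_of_dvd_coprimes
      ((Nat.Prime.coprime_iff_not_dvd Nat.prime_two).2 (by omega)).symm ha hb)
  have hoy : orderOf y = qk m := by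
    have : e wC = (1, y) := Prod.ext hz rfl
    rw [← hoC, ← e.orderOf_eq, this, Prod.orderOf, orderOf_one, Nat.lcm_one_left]
  have hy1 : y ≠ 1 := fun h => by rw [h, orderOf_one] at hoy; omega
  have hy3 : y ^ 3 ≠ 1 := fun h => by
    have := Nat.le_of_dvd (by norm_num) (hoy ▸ orderOf_dvd_of_pow_eq_one h)
    omega
  have htor : ∀ g, g * y = y * g ↔ g ∈ Dickson.tor y := by
    intro g
    refine ⟨fun h => ?_, fun h => (D.comm hy1 h (D.self y)).eq⟩
    by_contra hg
    have hconj : g * y * g⁻¹ = y := by rw [h, mul_inv_cancel_right]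
    have h2 := ((D.semi_flip hy1 hy3 (by rw [hconj]; exact D.self y) hg).2 y (D.self y)).symm
    rw [hconj, inv_eq_iff_mul_eq_one, ← sq] at h2
    have := Nat.le_of_dvd (by norm_num) (hoy ▸ orderOf_dvd_of_pow_eq_one h2)
    omega
  have hdel : Dickson.del K = 2 := by
    rw [Dickson.del, hK]
    exact Nat.gcd_eq_left (by omega)
  have hcard : Nat.card ↥(Dickson.tor y) = (3 ^ (2 * m + 1) + 1) / 2 := by
    have hpd : qk m ∣ Nat.card ↥(Dickson.tor y) := hoy ▸ Subgroup.orderOf_dvd_natCard _ (D.self y)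
    rcases Dickson.card_tor_semi 3 hy1 hy3 with h | h <;> rw [hdel, hK] at h
    · exfalso
      rw [h] at hpd
      have h5 := Nat.dvd_sub (qk_dvd m) (hpd.trans (Nat.div_dvd_of_dvd (by omega)))
      rw [show 3 ^ (2 * m + 1) + 1 - (3 ^ (2 * m + 1) - 1) = 2 by omega] at h5
      have := Nat.le_of_dvd (by norm_num) h5
      omega
    · exact h
  have hmem : ∀ z : ↥C, (z : ↥G₁) ∈ torG f hf hK hm ↔ (e z).2 ∈ Dickson.tor y := by
    intro z
    rw [← htor, Subgroup.mem_centralizer_singleton_iff]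
    constructor
    · intro h
      have := congrArg (fun v => (e v).2) (show z * wC = wC * z from Subtype.ext h)
      simpa using this
    · intro h
      have : z * wC = wC * z := by
        refine e.injective ?_
        rw [map_mul, map_mul]
        exact Prod.ext (mul_comm (e z).1 (e wC).1) h
      exact congrArg Subtype.val this
  have hset : N.subgroupOf C = ((⊤ : Subgroup (Multiplicative (ZMod 2))).prod
      (Subgroup.normalizer (Dickson.tor y : Set (Matrix.ProjectiveSpecialLinearGroup (Fin 2) K)))).map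
        e.symm.toMonoidHom := by
    ext g
    rw [Subgroup.mem_map_equiv, MulEquiv.symm_symm, Subgroup.mem_prod, Subgroup.mem_subgroupOf]
    simp only [Subgroup.mem_top, true_and]
    show _ ↔ (e g).2 ∈ Subgroup.normalizer (D.T y : Set (Matrix.ProjectiveSpecialLinearGroup (Fin 2) K))
    rw [D.mem_normalizer_iff hy1]
    have hg : (g * wC * g⁻¹ : ↥C) = ⟨(g : ↥G₁) * ww f hf hK hm * (g : ↥G₁)⁻¹, (g * wC * g⁻¹).2⟩ := rfl
    have h' : (g : ↥G₁) * ww f hf hK hm * (g : ↥G₁)⁻¹ ∈ torG f hf hK hm ↔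
        (e g).2 * y * (e g).2⁻¹ ∈ Dickson.tor y := by
      rw [← (show (e (g * wC * g⁻¹)).2 = (e g).2 * y * (e g).2⁻¹ by simp [hy])]
      exact hmem (g * wC * g⁻¹)
    refine Iff.trans ?_ h'
    exact ⟨fun hn => (Subgroup.mem_normalizer_iff.1 hn _).1 (ww_mem_torG f hf hK hm),
      fun h => torG_TI f hf hK hm (ww_mem_torG f hf hK hm)
        (two_lt_of_mem_zpowers f hf hK hm (Subgroup.mem_zpowers _) (ww_ne_one f hf hK hm)) h⟩
  rw [hset, Subgroup.card_map_of_injective e.symm.injective,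
    Nat.card_congr (Subgroup.prodEquiv _ _).toEquiv, Nat.card_prod, Subgroup.card_top,
    show Nat.card (Multiplicative (ZMod 2)) = 2 from Nat.card_zmod 2,
    (Dickson.normalizer_tor 3 hy1 hy3).1, hcard]
  omega

/-- The normaliser of `T` has order `6 (q + 1)`. -/
theorem card_normalizer_torG :
    Nat.card ↥(Subgroup.normalizer (torG f hf hK hm : Set ↥G₁)) =
      6 * (3 ^ (2 * m + 1) + 1) := by
  classical
  set T := torG f hf hK hm
  set N := Subgroup.normalizer (T : Set ↥G₁) with hN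
  set a := iota f hf hK
  set C := Subgroup.centralizer {a}
  set M := C.subgroupOf N
  have hrel : ∀ n n' : ↥N, n⁻¹ * n' ∈ M ↔ (n : ↥G₁) * a * (n : ↥G₁)⁻¹ = n' * a * (n' : ↥G₁)⁻¹ := by
    intro n n'
    rw [Subgroup.mem_subgroupOf, Subgroup.mem_centralizer_singleton_iff, Subgroup.coe_mul,
      Subgroup.coe_inv]
    constructor
    · intro h
      calc (n : ↥G₁) * a * (n : ↥G₁)⁻¹
          = n * (a * ((n : ↥G₁)⁻¹ * n')) * (n' : ↥G₁)⁻¹ := by group
        _ = n * (((n : ↥G₁)⁻¹ * n') * a) * (n' : ↥G₁)⁻¹ := by rw [h]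
        _ = _ := by group
    · intro h
      calc (n : ↥G₁)⁻¹ * n' * a = (n : ↥G₁)⁻¹ * (n' * a * (n' : ↥G₁)⁻¹) * n' := by group
        _ = (n : ↥G₁)⁻¹ * (n * a * (n : ↥G₁)⁻¹) * n' := by rw [h]
        _ = _ := by group
  let F : ↥N ⧸ M → {s : ↥T // orderOf (s : ↥G₁) = 2} :=
    Quotient.lift (fun n : ↥N => ⟨⟨(n : ↥G₁) * a * (n : ↥G₁)⁻¹,
        (Subgroup.mem_normalizer_iff.1 n.2 a).1 (iota_mem_torG f hf hK hm)⟩,
        (orderOf_conj_eq _ _).trans (orderOf_iota f hf hK)⟩)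
      fun n n' h => Subtype.ext (Subtype.ext ((hrel n n').1 (QuotientGroup.leftRel_apply.1 h)))
  have hinj : Function.Injective F := by
    intro q₁ q₂
    induction q₁ using Quotient.inductionOn' with | h n => ?_
    induction q₂ using Quotient.inductionOn' with | h n' => ?_
    intro e
    exact QuotientGroup.eq.2 ((hrel n n').2 (congrArg (fun s => ((s.1 : ↥T) : ↥G₁)) e))
  have hsurj : Function.Surjective F := by
    rintro ⟨⟨s, hsT⟩, hs⟩
    obtain ⟨g, hg⟩ := exists_conj_iota' f hf hK hm hs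
    replace hg : g * s * g⁻¹ = a := hg
    set h := g⁻¹
    have hhs : h * a * h⁻¹ = s := by rw [← hg]; simp only [h]; group
    set w := ww f hf hK hm with hw
    set Cs := Subgroup.centralizer {s} with hCs
    have hwCs : w ∈ Cs := Subgroup.mem_centralizer_singleton_iff.2
      (torG_commute f hf hK hm (ww_mem_torG f hf hK hm) hsT).eq
    obtain ⟨p, hp, hpd⟩ := Nat.exists_prime_and_dvd (n := qk m) (by have := qk_large m hm; omega)
    have hp2 : p ≠ 2 := by rintro rfl; have := (qk_eq m).2; omega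
    haveI := Fact.mk hp
    obtain ⟨i, hi⟩ := exists_prime_power (ww_ne_one f hf hK hm) hp
      (by rw [orderOf_ww f hf hK hm]; exact hpd)
    have hxC : h * w ^ i * h⁻¹ ∈ Cs := by
      rw [hCs, ← hhs]
      exact conj_mem_centralizer h (pow_mem (ww_mem f hf hK hm) i)
    obtain ⟨c, hc⟩ := exists_conj_mem_of_full ((Subgroup.zpowers w).subgroupOf Cs) (p := p) (k := 1)
      (x := (⟨h * w ^ i * h⁻¹, hxC⟩ : ↥Cs)) (by
        refine le_trans ?_ (le_of_le_of_eq (zpowers_ww_full f hf hK hm hp hp2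
          (hpd.trans (qk_dvd m))) ?_)
        · exact (Nat.factorization_le_iff_dvd Nat.card_pos.ne' Nat.card_pos.ne').2
            (Subgroup.card_subgroup_dvd_card Cs) p
        · rw [Nat.card_congr (Subgroup.subgroupOfEquivOfLe (Subgroup.zpowers_le.2 hwCs)).toEquiv])
      (Subtype.ext (by
        show (h * w ^ i * h⁻¹) ^ p ^ 1 = 1
        rw [pow_one, conj_pow, ← hi, pow_orderOf_eq_one, mul_one, mul_inv_cancel]))
    have hc' : (c : ↥G₁) * h * w ^ i * ((c : ↥G₁) * h)⁻¹ ∈ Subgroup.zpowers w := by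
      have hh : (c : ↥G₁) * (h * w ^ i * h⁻¹) * (c : ↥G₁)⁻¹ ∈ Subgroup.zpowers w := hc
      rwa [show (c : ↥G₁) * (h * w ^ i * h⁻¹) * (c : ↥G₁)⁻¹ =
        (c : ↥G₁) * h * w ^ i * ((c : ↥G₁) * h)⁻¹ by group] at hh
    have hmemN : (c : ↥G₁) * h ∈ N := by
      refine torG_TI f hf hK hm (pow_mem (ww_mem_torG f hf hK hm) i) ?_
        (zpowers_le_torG f hf hK hm hc')
      rw [← hw, hi]
      have := hp.two_le
      omega
    refine ⟨Quotient.mk'' ⟨(c : ↥G₁) * h, hmemN⟩, Subtype.ext (Subtype.ext ?_)⟩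
    show (c : ↥G₁) * h * a * ((c : ↥G₁) * h)⁻¹ = s
    rw [show (c : ↥G₁) * h * a * ((c : ↥G₁) * h)⁻¹ = (c : ↥G₁) * (h * a * h⁻¹) * (c : ↥G₁)⁻¹ by
      group, hhs, Subgroup.mem_centralizer_singleton_iff.1 c.2, mul_inv_cancel_right]
  have hidx : Nat.card (↥N ⧸ M) = 3 := by
    rw [Nat.card_eq_of_bijective F ⟨hinj, hsurj⟩, card_involutions_torG f hf hK hm]
  have hM : Nat.card ↥M = 2 * (3 ^ (2 * m + 1) + 1) := by
    rw [← card_normalizer_inf f hf hK hm]
    exact Nat.card_congr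
      { toFun := fun x => ⟨⟨x.1.1, x.2⟩, x.1.2⟩
        invFun := fun x => ⟨⟨x.1.1, x.2⟩, x.1.2⟩
        left_inv := fun _ => rfl
        right_inv := fun _ => rfl }
  rw [Subgroup.card_eq_card_quotient_mul_card_subgroup M, hidx, hM]
  ring

/-! ### Counts -/

theorem card_torG_orderOf {i : ℕ} (hd : i ∣ qk m) :
    Nat.card {a : ↥(torG f hf hK hm) // orderOf (a : ↥G₁) = i} = i.totient := by
  rw [← card_orderOf_cyclic (A := Subgroup.zpowers (ww f hf hK hm)) (Subgroup.isCyclic_zpowers _)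
    (card_zpowers_ww f hf hK hm ▸ hd)]
  exact Nat.card_congr
    { toFun := fun a => ⟨⟨a.1.1, mem_zpowers_of_pow f hf hK hm a.1.2
        (orderOf_dvd_iff_pow_eq_one.1 (by rw [a.2]; exact hd))⟩, a.2⟩
      invFun := fun a => ⟨⟨a.1.1, zpowers_le_torG f hf hK hm a.1.2⟩, a.2⟩
      left_inv := fun _ => rfl
      right_inv := fun _ => rfl }

theorem card_torG_two_mul {i : ℕ} (hd : i ∣ qk m) :
    Nat.card {a : ↥(torG f hf hK hm) // orderOf (a : ↥G₁) = 2 * i} = 3 * i.totient := by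
  classical
  set T := torG f hf hK hm
  refine Eq.trans ?_ (congrArg₂ (· * ·) (card_involutions_torG f hf hK hm)
    (card_torG_orderOf f hf hK hm hd))
  rw [← Nat.card_prod]
  have hodd : i % 2 = 1 := by
    obtain ⟨j, hj⟩ := hd
    have h := (qk_eq m).2
    rw [hj, Nat.mul_mod] at h
    rcases Nat.mod_two_eq_zero_or_one i with e | e
    · rw [e] at h; norm_num at h
    · exact e
  have hcop : Nat.Coprime 2 i := (Nat.Prime.coprime_iff_not_dvd Nat.prime_two).2 (by omega)
  let φ : {s : ↥T // orderOf (s : ↥G₁) = 2} × {z : ↥T // orderOf (z : ↥G₁) = i} →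
      {a : ↥T // orderOf (a : ↥G₁) = 2 * i} := fun p => ⟨p.1.1 * p.2.1, by
    rw [Subgroup.coe_mul, (torG_commute f hf hK hm p.1.1.2 p.2.1.2).orderOf_mul_eq_mul_orderOf_of_coprime
      (by rw [p.1.2, p.2.2]; exact hcop), p.1.2, p.2.2]⟩
  refine (Nat.card_eq_of_bijective φ ⟨fun p p' e => ?_, fun a => ?_⟩).symm
  · have e' : (p.1.1 : ↥G₁) * p.2.1 = p'.1.1 * p'.2.1 :=
      congrArg (fun a => ((a.1 : ↥T) : ↥G₁)) e
    have hk : ∀ p : {s : ↥T // orderOf (s : ↥G₁) = 2} × {z : ↥T // orderOf (z : ↥G₁) = i},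
        ((p.1.1 : ↥G₁) * p.2.1) ^ i = p.1.1 := by
      intro p
      rw [(torG_commute f hf hK hm p.1.1.2 p.2.1.2).mul_pow,
        show (p.2.1 : ↥G₁) ^ i = 1 from orderOf_dvd_iff_pow_eq_one.1 (by rw [p.2.2]), mul_one]
      obtain ⟨j, hj⟩ : ∃ j, i = 2 * j + 1 := ⟨i / 2, by omega⟩
      calc (p.1.1 : ↥G₁) ^ i = (p.1.1 : ↥G₁) ^ (2 * j + 1) := congrArg _ hj
        _ = _ := by
          rw [pow_succ, pow_mul, show (p.1.1 : ↥G₁) ^ 2 = 1 from
            orderOf_dvd_iff_pow_eq_one.1 (by rw [p.1.2]), one_pow, one_mul]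
    have h1 : (p.1.1 : ↥G₁) = p'.1.1 := by rw [← hk p, e', hk p']
    rw [h1] at e'
    exact Prod.ext (Subtype.ext (Subtype.ext h1)) (Subtype.ext (Subtype.ext (mul_left_cancel e')))
  · have hi0 : i ≠ 0 := by omega
    have ho := a.2
    refine ⟨(⟨⟨(a.1 : ↥G₁) ^ i, pow_mem a.1.2 i⟩, ?_⟩, ⟨⟨(a.1 : ↥G₁) ^ (i + 1), pow_mem a.1.2 _⟩, ?_⟩),
      Subtype.ext (Subtype.ext ?_)⟩
    · rw [orderOf_pow' _ hi0, ho, Nat.gcd_eq_right (dvd_mul_left i 2),
        Nat.mul_div_cancel _ (Nat.pos_of_ne_zero hi0)]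
    · obtain ⟨j, hj⟩ : 2 ∣ i + 1 := by omega
      have hg : Nat.gcd (2 * i) (i + 1) = 2 := by
        rw [hj, Nat.gcd_mul_left]
        have : Nat.Coprime i (2 * j) := by rw [← hj]; exact Nat.coprime_self_add_right.2 (Nat.coprime_one_right i)
        rw [(this.coprime_dvd_right (dvd_mul_left j 2)).gcd_eq_one, mul_one]
      rw [orderOf_pow' _ (by omega), ho, hg, Nat.mul_div_cancel_left _ (by norm_num)]
    · show (a.1 : ↥G₁) ^ i * (a.1 : ↥G₁) ^ (i + 1) = a.1
      rw [← pow_add, show i + (i + 1) = 2 * i + 1 by ring, pow_succ,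
        show (a.1 : ↥G₁) ^ (2 * i) = 1 from orderOf_dvd_iff_pow_eq_one.1 (by rw [ho]), one_mul]

theorem card_torG_two_lt :
    Nat.card {a : ↥(torG f hf hK hm) // 2 < orderOf (a : ↥G₁)} + 4 = 3 ^ (2 * m + 1) + 1 := by
  classical
  cases nonempty_fintype ↥(torG f hf hK hm)
  have h3 := Finset.card_filter_add_card_filter_not (s := (Finset.univ : Finset ↥(torG f hf hK hm)))
    (fun a => 2 < orderOf (a : ↥G₁))
  have h4 : (Finset.univ.filter fun a : ↥(torG f hf hK hm) => ¬ 2 < orderOf (a : ↥G₁)).card = 4 := by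
    rw [← card_sq_one f hf hK hm, Nat.card_eq_fintype_card, Fintype.card_subtype]
    congr 1
    ext a
    simp only [Finset.mem_filter, Finset.mem_univ, true_and]
    refine ⟨fun h => ?_, fun h => ?_⟩
    · have hp := orderOf_pos (a : ↥G₁)
      rcases (show orderOf (a : ↥G₁) = 1 ∨ orderOf (a : ↥G₁) = 2 by omega) with e | e
      · rw [orderOf_eq_one_iff.1 e, one_mul]
      · rw [← sq, ← e, pow_orderOf_eq_one]
    · exact fun h2 => mul_self_ne_one h2 h
  rw [h4, Finset.card_univ, ← Nat.card_eq_fintype_card, card_torG f hf hK hm] at h3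
  rw [Nat.card_eq_fintype_card, Fintype.card_subtype]
  exact h3

theorem card_orderOf_plus {i : ℕ} (h2 : 2 < i) (hd : i ∣ 2 * qk m) :
    Nat.card {g : ↥G₁ // orderOf g = i} * (6 * (3 ^ (2 * m + 1) + 1)) =
      Nat.card ↥G₁ * Nat.card {a : ↥(torG f hf hK hm) // orderOf (a : ↥G₁) = i} := by
  rw [← card_normalizer_torG f hf hK hm]
  exact card_of_cover_subgroup (fun g : ↥G₁ => orderOf g = i) (torG f hf hK hm)
    (fun g x hx => (orderOf_conj_eq g x).trans hx)
    (fun x hx => plus_conj f hf hK hm (hx ▸ h2) (hx ▸ hd))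
    (fun g a ha hP h => torG_TI f hf hK hm ha (hP ▸ h2) h)

include hm in
theorem card_plus :
    Nat.card {g : ↥G₁ // 2 < orderOf g ∧ orderOf g ∣ 2 * qk m} * (6 * (3 ^ (2 * m + 1) + 1)) =
      Nat.card ↥G₁ * (3 ^ (2 * m + 1) - 3) := by
  rw [← card_normalizer_torG f hf hK hm, card_of_cover_subgroup
    (fun g : ↥G₁ => 2 < orderOf g ∧ orderOf g ∣ 2 * qk m) (torG f hf hK hm)
    (fun g x hx => by rwa [orderOf_conj_eq])
    (fun x hx => plus_conj f hf hK hm hx.1 hx.2)
    (fun g a ha hP h => torG_TI f hf hK hm ha hP.1 h)]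
  congr 1
  rw [Nat.card_congr (Equiv.subtypeEquivRight
    (q := fun a : ↥(torG f hf hK hm) => 2 < orderOf (a : ↥G₁))
    fun a => ⟨fun h => h.1, fun h => ⟨h, orderOf_dvd_of_mem f hf hK hm a.2⟩⟩)]
  have := card_torG_two_lt f hf hK hm
  omega

end Cfsg.Agent.Lie.Chev.G2
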