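import Cfsg.Agent.Lib.Lie.Chev.ReeAutBasic

/-! A small Ree group is generated by a generator of its diagonal part and one further element. -/

set_option autoImplicit false
set_option maxRecDepth 4000

namespace Cfsg.Agent.Lie.Chev.G2

open Cfsg.Lie

variable {K : Type*} [Field K] (f : K →+* K) [CharP K 3] [ExpChar K 3]
variable [Fintype K] {m : ℕ} (hf : ∀ t, f t = t ^ 3 ^ m) (hK : Fintype.card K = 3 ^ (2 * m + 1))

include hf hK

local notation "G₁" => twistedG2 K (3 ^ m)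

theorem ree_two_generators (hm : 1 ≤ m) :
    ∃ a b : ↥G₁, Subgroup.closure ({a, b} : Set ↥G₁) = ⊤ := by
  classical
  obtain ⟨ζ, hζ⟩ := IsCyclic.exists_generator (α := Kˣ)
  refine ⟨hP f hf hK ζ, uT f hf hK 1 * nn f hf hK, ?_⟩
  set M := Subgroup.closure ({hP f hf hK ζ, uT f hf hK 1 * nn f hf hK} : Set ↥G₁)
  have hh : hP f hf hK ζ ∈ M := Subgroup.subset_closure (by simp)
  have hg : uT f hf hK 1 * nn f hf hK ∈ M := Subgroup.subset_closure (by simp)
  have hH : ∀ z, hP f hf hK z ∈ M := fun z => by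
    obtain ⟨k, rfl⟩ := Subgroup.mem_zpowers_iff.1 (hζ z)
    rw [map_zpow]
    exact zpow_mem hh k
  have hmulU : ∀ (t t' : K) (x x' : K × K),
      uT f hf hK t * uE f hf hK x * (uT f hf hK t' * uE f hf hK x') =
        uT f hf hK (t + t') * uE f hf hK ((-(f t' ^ 3 * t), f t' ^ 3 * t * t' - f t' ^ 3 * t ^ 2) +
          ((x.1, x.2 - t' * x.1) + x')) := fun t t' x x' => by
    rw [uE_add, uE_add, mul_assoc, ← mul_assoc (uE f hf hK x), uE_mul_uT]
    simp only [← mul_assoc]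
    rw [uT_mul]
  have hconj : ∀ (y : Kˣ) (t : K) (x : K × K),
      hP f hf hK y * (uT f hf hK t * uE f hf hK x) * (hP f hf hK y)⁻¹ =
        uT f hf hK ((wt f y : K) * t) * uE f hf hK ((wu f y : K) * x.1, (y : K) * x.2) :=
    fun y t x => by rw [← hP_conj_uT f hf hK y t, ← hP_conj_uE f hf hK y x]; group
  obtain ⟨t₀, x₀, ht₀, hm₀⟩ : ∃ (t₀ : K) (x₀ : K × K), t₀ ≠ 0 ∧
      uT f hf hK t₀ * uE f hf hK x₀ ∈ M := by
    set y := gpar f (-1 : Kˣ)
    have h1 : uT f hf hK 1 * nn f hf hK * (hP f hf hK y)⁻¹ * (uT f hf hK 1 * nn f hf hK)⁻¹ *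
        (hP f hf hK y)⁻¹ ∈ M :=
      mul_mem (mul_mem (mul_mem hg (inv_mem (hH y))) (inv_mem hg)) (inv_mem (hH y))
    have hn := nn_conj_HH f hf hK (inv_mem (hP_mem f hf hK y))
    rw [inv_inv] at hn
    have hi : (uT f hf hK 1)⁻¹ = uT f hf hK (-1) *
        uE f hf hK (-(-(f (-1 : K) ^ 3 * 1),
          f (-1 : K) ^ 3 * 1 * (-1) - f (-1 : K) ^ 3 * 1 ^ 2)) := by
      refine inv_eq_of_mul_eq_one_right ?_
      rw [← mul_assoc, uT_mul, add_neg_cancel, uT_zero, one_mul, ← uE_add, add_neg_cancel, uE_zero]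
    rw [show uT f hf hK 1 * nn f hf hK * (hP f hf hK y)⁻¹ * (uT f hf hK 1 * nn f hf hK)⁻¹ *
        (hP f hf hK y)⁻¹ = uT f hf hK 1 * ((nn f hf hK * (hP f hf hK y)⁻¹ * (nn f hf hK)⁻¹) *
          (uT f hf hK 1)⁻¹ * (hP f hf hK y)⁻¹) by group, hn, hi, hconj,
      ← mul_one (uT f hf hK 1), ← uE_zero f hf hK, hmulU] at h1
    refine ⟨_, _, ?_, h1⟩
    rw [wt_gpar f hf hK, Units.val_neg, Units.val_one]
    intro e
    exact one_ne_zero (α := K) (by linear_combination -e + three_eq_zero (K := K))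
  have hall : ∀ t : K, ∃ x, uT f hf hK t * uE f hf hK x ∈ M := fun t => by
    rcases eq_or_ne t 0 with rfl | ht
    · exact ⟨0, by rw [uT_zero, uE_zero, mul_one]; exact one_mem M⟩
    · have h1 := mul_mem (mul_mem (hH (gpar f (Units.mk0 (t / t₀) (div_ne_zero ht ht₀)))) hm₀)
        (inv_mem (hH (gpar f (Units.mk0 (t / t₀) (div_ne_zero ht ht₀)))))
      rw [hconj, wt_gpar f hf hK, Units.val_mk0, div_mul_cancel₀ _ ht₀] at h1
      exact ⟨_, h1⟩
  have hv : ∀ v : K, uE f hf hK (0, v) ∈ M := fun v => by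
    rcases eq_or_ne v 0 with rfl | hv0
    · exact (show uE f hf hK 0 = 1 from uE_zero f hf hK) ▸ one_mem M
    obtain ⟨x, hx⟩ := hall 1
    have h1 := pow_mem hx 3
    rw [← uW_eq, uW_cube, map_one, one_pow, one_pow, one_mul] at h1
    have h2 := mul_mem (mul_mem (hH (Units.mk0 (-v) (neg_ne_zero.2 hv0))) h1)
      (inv_mem (hH (Units.mk0 (-v) (neg_ne_zero.2 hv0))))
    rw [hP_conj_uE, mul_zero, Units.val_mk0, neg_mul_neg, mul_one] at h2
    exact h2
  set F : K → K := fun t => f t ^ 3 with hF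
  have hFF : ∀ t, F (F t) = t ^ 3 := fun t => by
    simp only [hF]
    rw [map_pow, ff_cube f hf hK]
  have hadd : ∀ u u', (∃ v, uE f hf hK (u, v) ∈ M) → (∃ v, uE f hf hK (u', v) ∈ M) →
      ∃ v, uE f hf hK (u + u', v) ∈ M := by
    rintro u u' ⟨v, h⟩ ⟨v', h'⟩
    refine ⟨v + v', ?_⟩
    rw [show ((u + u', v + v') : K × K) = (u, v) + (u', v') from rfl, uE_add]
    exact mul_mem h h'
  have hsq : ∀ s u, (∃ v, uE f hf hK (u, v) ∈ M) → ∃ v, uE f hf hK (s ^ 2 * u, v) ∈ M := by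
    rintro s u ⟨v, h⟩
    rcases eq_or_ne s 0 with rfl | hs
    · exact ⟨0, by simpa using hv 0⟩
    have hfs : f s ≠ 0 := fun e => hs ((map_eq_zero f).1 e)
    have hFs : F s ≠ 0 := pow_ne_zero _ hfs
    set w := gpar f (Units.mk0 (F s / s) (div_ne_zero hFs hs))
    have e : (wu f w : K) = s ^ 2 := by
      rw [wu_gpar f hf hK, Units.val_mk0, show f (F s / s) ^ 3 = F (F s / s) from rfl]
      have e0 : F (F s / s) = F (F s) / F s := by simp only [hF, map_div₀, div_pow]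
      rw [e0, hFF]
      field_simp
    refine ⟨(w : K) * v, ?_⟩
    have h2 := mul_mem (mul_mem (hH w) h) (inv_mem (hH w))
    rw [hP_conj_uE, e] at h2
    exact h2
  obtain ⟨u₀, hu₀, hu₀M⟩ : ∃ u₀ : K, u₀ ≠ 0 ∧ ∃ v, uE f hf hK (u₀, v) ∈ M := by
    obtain ⟨s, hs⟩ : ∃ s : K, F s ≠ s := by
      by_contra! hc
      have hz : ∀ s : K, s ^ 3 = s := fun s => by rw [← hFF s, hc, hc]
      have hz2 : ∀ s : Kˣ, s ^ 2 = 1 := fun s => by
        refine Units.ext (mul_left_cancel₀ s.ne_zero ?_)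
        rw [Units.val_pow_eq_pow_val, Units.val_one, mul_one, ← pow_succ', hz]
      have hd : Fintype.card K - 1 ∣ 2 := (FiniteField.forall_pow_eq_one_iff K 2).1 hz2
      have h2 := Nat.le_of_dvd two_pos hd
      have : 3 ^ 3 ≤ 3 ^ (2 * m + 1) := Nat.pow_le_pow_right (by norm_num) (by omega)
      omega
    obtain ⟨x, hx⟩ := hall 1
    obtain ⟨x', hx'⟩ := hall s
    have h1 := mul_mem hx hx'
    have h2 := mul_mem hx' hx
    rw [hmulU] at h1 h2
    have h3 := mul_mem (inv_mem h2) h1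
    rw [add_comm s 1, mul_inv_rev, mul_assoc, inv_mul_cancel_left] at h3
    set A : K × K := (-(f s ^ 3 * 1), f s ^ 3 * 1 * s - f s ^ 3 * 1 ^ 2) + ((x.1, x.2 - s * x.1) + x')
    set B : K × K := (-(f 1 ^ 3 * s), f 1 ^ 3 * s * 1 - f 1 ^ 3 * s ^ 2) +
      ((x'.1, x'.2 - 1 * x'.1) + x)
    have hAB : (uE f hf hK B)⁻¹ * uE f hf hK A = uE f hf hK (A - B) := by
      rw [inv_mul_eq_iff_eq_mul, ← uE_add, add_sub_cancel]
    rw [hAB] at h3
    refine ⟨(A - B).1, ?_, (A - B).2, by rwa [Prod.mk.eta]⟩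
    simp only [A, B, Prod.fst_sub, Prod.fst_add, map_one, one_pow, mul_one, one_mul]
    intro e
    exact hs (by simp only [hF]; linear_combination -e)
  have hu : ∀ u : K, ∃ v, uE f hf hK (u, v) ∈ M := fun u => by
    set c := u / u₀
    have hc := hadd _ _ (hsq (c + 1) u₀ hu₀M) (hsq (c - 1) (-u₀)
      (by obtain ⟨v, h⟩ := hu₀M
          refine ⟨-v, ?_⟩
          have e : uE f hf hK (-u₀, -v) = (uE f hf hK (u₀, v))⁻¹ := by
            refine eq_inv_of_mul_eq_one_left ?_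
            rw [← uE_add, ← uE_zero f hf hK]
            simp only [Prod.mk_add_mk, neg_add_cancel]
            rfl
          rw [e]; exact inv_mem h))
    have e : (c + 1) ^ 2 * u₀ + (c - 1) ^ 2 * -u₀ = u := by
      have : c * u₀ = u := div_mul_cancel₀ _ hu₀
      linear_combination this + (c * u₀) * three_eq_zero (K := K)
    rwa [e] at hc
  have hE : ∀ x, uE f hf hK x ∈ M := fun x => by
    obtain ⟨v, h⟩ := hu x.1
    rw [show x = (x.1, v) + (0, x.2 - v) from Prod.ext (add_zero _).symm (add_sub_cancel v x.2).symm, uE_add]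
    exact mul_mem h (hv _)
  have hT : ∀ t, uT f hf hK t ∈ M := fun t => by
    obtain ⟨x, h⟩ := hall t
    rw [← mul_inv_cancel_right (uT f hf hK t) (uE f hf hK x)]
    exact mul_mem h (inv_mem (hE x))
  have hU : UU K m ≤ M := fun g hg' => by
    obtain ⟨⟨t, u, v⟩, rfl⟩ := (mem_UU_iff f hf hK).1 hg'
    rw [uW_eq]
    exact mul_mem (hT t) (hE _)
  have hn : nn f hf hK ∈ M := by
    rw [← inv_mul_cancel_left (uT f hf hK 1) (nn f hf hK)]
    exact mul_mem (inv_mem (hT 1)) hg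
  have hB : BB K m ≤ M := fun g hg' => by
    obtain ⟨u, hu', k, hk, rfl⟩ := (mem_BB_iff f hf hK).1 hg'
    obtain ⟨z, rfl⟩ := (mem_HH_iff f hf hK).1 hk
    exact mul_mem (hU hu') (hH z)
  refine eq_top_iff.2 fun g _ => ?_
  by_cases hgB : g ∈ BB K m
  · exact hB hgB
  · obtain ⟨b, hb, u, hu', rfl⟩ := exists_big f hf hK hgB
    exact mul_mem (mul_mem (hB hb) hn) (hU hu')

end Cfsg.Agent.Lie.Chev.G2
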