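import Cfsg.Agent.Lib.Lie.Chev.RootEigen

/-! A lower bound for the degree of a representation of a simply-laced Chevalley group, read off
from a certificate on the tables: for every positive root `r`, in a fixed order, the vectors fixed
by the earlier roots and with a non-trivial character on `r` span at least `q ^ (ht r - 1)`
dimensions. -/

set_option autoImplicit false
set_option linter.unusedSectionVars false

namespace Cfsg.Agent.Lie.Chev

open Cfsg.Lie Module Cfsg.Agent.Grp.EigenSplit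

/-- A step in closing up the stabiliser of a line: the root `s` normalises the line, or it is the
commutator of two roots which do. -/
inductive LineStep where
  | scal (s : ℕ)
  | fix (s s₁ s₂ : ℕ)

/-- The data at a simple root. -/
structure SimpleData where
  root : ℕ
  node : ℕ
  word : List ℕ
  pairs : List (ℕ × ℕ)
  steps : List LineStep

/-- The data at a positive root. -/
structure RootData where
  root : ℕ
  base : ℕ
  word : List ℕ
  pairs : List (ℕ × ℕ)

/-- The roots fixing the line. -/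
def closeFix : List LineStep → List ℕ → List ℕ
  | [], F => F
  | .scal _ :: L, F => closeFix L F
  | .fix s _ _ :: L, F => closeFix L (s :: F)

namespace Tables

variable (T : Tables)

/-- The check of the closing steps. -/
def closeOK (A : List ℕ) : List LineStep → List ℕ → List ℕ → Bool
  | [], _, _ => true
  | .scal s :: L, S, F => Nat.blt s T.n && A.all (T.rootMoves s F) && closeOK A L (s :: S) F
  | .fix s s₁ s₂ :: L, S, F => Nat.blt s T.n && Nat.blt s₁ T.n && Nat.blt s₂ T.n &&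
      T.joins s₁ s₂ s && (S ++ A).contains s₁ && (S ++ A).contains s₂ && closeOK A L S (s :: F)

/-- The check at a simple root. -/
def simpleOK (base : ℕ) (n₀ : ℕ) (d : SimpleData) : Bool :=
  Nat.blt d.root T.n && Nat.blt d.node T.l && T.cartan d.node d.root == -1 &&
    d.word.all (Nat.blt · T.l) && Nat.beq (T.wlT d.word base) d.root &&
    Nat.beq (T.wlT d.word.reverse d.root) base && T.pairsOK [] d.root d.pairs &&
    Nat.beq d.pairs.length n₀ && (d.pairs.all fun p => Nat.blt p.1 T.n && Nat.blt p.2 T.n) &&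
    T.closeOK (d.root :: d.pairs.map Prod.snd) d.steps [] (d.pairs.map Prod.snd)

/-- The check along the list of positive roots. -/
def orderOK (Ss : List SimpleData) : List ℕ → List RootData → Bool
  | _, [] => true
  | pre, e :: E => Nat.blt e.root T.n && pre.all (T.rootMoves e.root pre) &&
      T.pairsOK pre e.root e.pairs && (e.pairs.all fun p => Nat.blt p.1 T.n && Nat.blt p.2 T.n) &&
      e.word.all (Nat.blt · T.l) &&
      (match Ss[e.base]? with
      | none => false
      | some d => Nat.beq (T.wlT e.word d.root) e.root &&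
        (pre ++ e.pairs.map Prod.snd).all fun x =>
          let y := T.wlT e.word.reverse x
          Nat.blt y T.n && Nat.beq (T.wlT e.word y) x &&
            (closeFix d.steps (d.pairs.map Prod.snd)).contains y) &&
      orderOK Ss (e.root :: pre) E

theorem orderOK_append (Ss : List SimpleData) : ∀ (pre : List ℕ) (A B : List RootData),
    T.orderOK Ss pre (A ++ B) =
      (T.orderOK Ss pre A && T.orderOK Ss ((A.map RootData.root).reverse ++ pre) B)
  | _, [], _ => by simp [orderOK]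
  | pre, e :: A, B => by
    simp only [List.cons_append, orderOK, orderOK_append Ss (e.root :: pre) A B, List.map_cons,
      List.reverse_cons, List.append_assoc, List.nil_append, Bool.and_assoc]

end Tables

namespace CertFull

variable {D : ChevalleyDatum} (c : CertFull D) {F : Type*} [Field F] [Fintype F]
  {V : Type*} [AddCommGroup V] [Module ℂ V] [FiniteDimensional ℂ V]
  (ρ : ↥(D.group F) →* End ℂ V)

theorem lt_of_blt {s : ℕ} (h : Nat.blt s c.T.n = true) : s < D.nroots := by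
  rw [Nat.blt_eq] at h
  simpa [Tables.n, c.nroots_eq] using h

theorem rank_of_blt {p : ℕ} (h : Nat.blt p c.T.l = true) : p < D.rank := by
  rw [Nat.blt_eq] at h
  simpa [c.rank_eq] using h

theorem list_lt {L : List ℕ} (h : L.all (Nat.blt · c.T.l) = true) : ∀ p ∈ L, p < D.rank :=
  fun p hp => rank_of_blt c (List.all_eq_true.1 h p hp)

theorem line_fixed {W : Submodule ℂ V} (hW : finrank ℂ W = 1) {α : ℕ} {B : List ℕ} {ζ : F}
    (hα : α < D.nroots) (hB : ∀ x ∈ B, x < D.nroots)
    (hWdef : W = rEig c ρ α ζ ⊓ rFix c ρ B) :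
    ∀ (L : List LineStep) (S G : List ℕ),
      c.T.closeOK (α :: B) L S G = true → W ≤ rFix c ρ G →
      (∀ s ∈ S, ∀ t, ∃ μ : ℂ, ∀ v ∈ W, rop c ρ s t v = μ • v) →
      W ≤ rFix c ρ (closeFix L G)
  | [], _, _, _, hG, _ => hG
  | .scal s :: L, S, G, h, hG, hS => by
    simp only [Tables.closeOK, Bool.and_eq_true, List.all_eq_true] at h
    obtain ⟨⟨hs, hm⟩, hrec⟩ := h
    refine line_fixed hW hα hB hWdef L (s :: S) G hrec hG fun s' hs' t => ?_
    rcases List.mem_cons.1 hs' with rfl | hs''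
    · have hst : ∀ v ∈ W, rop c ρ s' t v ∈ W := fun v hv => by
        have hvG := hG hv
        rw [hWdef] at hv ⊢
        exact ⟨moves_eig c ρ (lt_of_blt c hs) hα (hm α (by simp)) hvG hv.1 t,
          moves_fix c ρ (lt_of_blt c hs) hB (fun x hx => hm x (by simp [hx])) hvG hv.2 t⟩
      obtain ⟨v, hv0, hspan⟩ := finrank_eq_one_iff'.1 hW
      obtain ⟨μ, hμ⟩ := hspan ⟨rop c ρ s' t v, hst v v.2⟩
      refine ⟨μ, fun w hw => ?_⟩
      obtain ⟨a, ha⟩ := hspan ⟨w, hw⟩
      have e : (w : V) = a • (v : V) := (congrArg Subtype.val ha).symm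
      have e' : rop c ρ s' t v = μ • (v : V) := (congrArg Subtype.val hμ).symm
      rw [e, map_smul, e', smul_comm]
    · exact hS s' hs'' t
  | .fix s s₁ s₂ :: L, S, G, h, hG, hS => by
    simp only [Tables.closeOK, Bool.and_eq_true, List.contains_iff_mem] at h
    obtain ⟨⟨⟨⟨⟨⟨-, h1⟩, h2⟩, hj⟩, hm1⟩, hm2⟩, hrec⟩ := h
    refine line_fixed hW hα hB hWdef L S (s :: G) hrec (fun v hv => ?_) hS
    have hsc : ∀ x ∈ S ++ α :: B, ∀ t, ∃ μ : ℂ, ∀ v ∈ W, rop c ρ x t v = μ • v := by
      intro x hx t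
      rcases List.mem_append.1 hx with hx | hx
      · exact hS x hx t
      rcases List.mem_cons.1 hx with rfl | hx
      · exact ⟨_, fun v hv => by rw [hWdef] at hv; exact (mem_rEig c ρ).1 hv.1 t⟩
      · exact ⟨1, fun v hv => by
          rw [hWdef] at hv; rw [one_smul]; exact (mem_rFix c ρ).1 hv.2 x hx t⟩
    refine (mem_rFix c ρ).2 fun x hx y => ?_
    rcases List.mem_cons.1 hx with rfl | hx
    · obtain ⟨k, hk, hswap⟩ := joins_apply c ρ (lt_of_blt c h1) (lt_of_blt c h2) hj
      obtain ⟨μ, hμ⟩ := hsc s₁ hm1 (k⁻¹ * y)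
      obtain ⟨ν, hν⟩ := hsc s₂ hm2 1
      have e := hswap (k⁻¹ * y) 1 v
      rw [mul_one, mul_inv_cancel_left₀ hk, hμ v hv, map_smul, hν v hv, smul_comm,
        ← hμ v hv, ← map_smul, ← hν v hv] at e
      exact (rop_injective c ρ s₂ 1 (rop_injective c ρ s₁ _ e)).symm
    · exact (mem_rFix c ρ).1 (hG hv) x hx y

theorem tchar_single {i u : ℕ} (hi : i < D.rank) (h : c.T.cartan i u = -1) (t : Fˣ) :
    c.tchar (fun j => if j = i then t else 1) u = t⁻¹ := by
  rw [Cert.tchar, Finset.prod_eq_single i (fun j _ hj => by simp [hj])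
    (fun hn => absurd (Finset.mem_range.2 hi) hn), if_pos rfl, h, zpow_neg_one]

theorem rEig_le_of_word {L : List ℕ} (hL : ∀ p ∈ L, p < D.rank) {r s : ℕ} (hr : r < D.nroots)
    (h : c.wl L r = s) (ζ : F) : ∃ ζ' : F, (ζ ≠ 0 → ζ' ≠ 0) ∧
      finrank ℂ (rEig c ρ r ζ) ≤ finrank ℂ (rEig c ρ s ζ') :=
  ⟨ζ * (c.wsign L r : F), fun h0 => mul_ne_zero h0 (c.wsign_ne_zero L r),
    finrank_le_of_maps (rho_injective (D := D) ρ _) fun v hv => h ▸ nw_maps c ρ hL hr hv⟩

/-- All the root eigenspaces at the simple roots have one dimension. -/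
theorem simple_dim {base n₀ : ℕ} (hbase : base < D.nroots) {b₀ : SimpleData}
    (hb₀ : c.T.simpleOK base n₀ b₀ = true) {d : SimpleData}
    (hd : c.T.simpleOK base n₀ d = true) {ζ η : F} (hζ : ζ ≠ 0) (hη : η ≠ 0) :
    finrank ℂ (rEig c ρ d.root ζ) = finrank ℂ (rEig c ρ b₀.root η) := by
  have scale : ∀ {e : SimpleData}, c.T.simpleOK base n₀ e = true → ∀ {a b : F}, a ≠ 0 → b ≠ 0 →
      finrank ℂ (rEig c ρ e.root a) ≤ finrank ℂ (rEig c ρ e.root b) := by
    intro e he a b ha hb
    simp only [Tables.simpleOK, Bool.and_eq_true, beq_iff_eq] at he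
    obtain ⟨⟨⟨⟨⟨⟨⟨⟨⟨hr, hn⟩, hc⟩, -⟩, -⟩, -⟩, -⟩, -⟩, -⟩, -⟩ := he
    set z : ℕ → Fˣ :=
      fun j => if j = e.node then Units.mk0 (b * a⁻¹) (mul_ne_zero hb (inv_ne_zero ha)) else 1
    refine finrank_le_of_maps (T := ρ ⟨c.torus z, c.B_le_group (c.H_le_B (c.torus_mem z))⟩)
      (rho_injective (D := D) ρ _) fun v hv => ?_
    have h := torus_maps c ρ z (lt_of_blt c hr) hv
    rw [tchar_single c (rank_of_blt c hn) hc, inv_inv, Units.val_mk0, mul_comm b,
      mul_inv_cancel_left₀ ha] at h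
    exact h
  have link : ∀ {e : SimpleData}, c.T.simpleOK base n₀ e = true →
      e.root < D.nroots ∧ (∀ a : F, ∃ a', (a ≠ 0 → a' ≠ 0) ∧
        finrank ℂ (rEig c ρ base a) ≤ finrank ℂ (rEig c ρ e.root a')) ∧
      (∀ a : F, ∃ a', (a ≠ 0 → a' ≠ 0) ∧
        finrank ℂ (rEig c ρ e.root a) ≤ finrank ℂ (rEig c ρ base a')) := by
    intro e he
    simp only [Tables.simpleOK, Bool.and_eq_true, beq_iff_eq, Nat.beq_eq] at he
    obtain ⟨⟨⟨⟨⟨⟨⟨⟨⟨hr, -⟩, -⟩, hw⟩, hf⟩, hb⟩, -⟩, -⟩, -⟩, -⟩ := he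
    have hw' : ∀ p ∈ e.word.reverse, p < D.rank := fun p hp =>
      list_lt c hw p (List.mem_reverse.1 hp)
    exact ⟨lt_of_blt c hr,
      fun a => rEig_le_of_word c ρ (list_lt c hw) hbase (by rw [← c.wlT_eq, hf]) a,
      fun a => rEig_le_of_word c ρ hw' (lt_of_blt c hr) (by rw [← c.wlT_eq, hb]) a⟩
  have le : ∀ {e e' : SimpleData}, c.T.simpleOK base n₀ e = true →
      c.T.simpleOK base n₀ e' = true → ∀ {a b : F}, a ≠ 0 → b ≠ 0 →
      finrank ℂ (rEig c ρ e.root a) ≤ finrank ℂ (rEig c ρ e'.root b) := by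
    intro e e' he he' a b ha hb
    obtain ⟨a₁, h1, l1⟩ := (link he).2.2 a
    obtain ⟨a₂, h2, l2⟩ := (link he').2.1 a₁
    exact l1.trans (l2.trans (scale he' (h2 (h1 ha)) hb))
  exact le_antisymm (le hd hb₀ hζ hη) (le hb₀ hd hη hζ)

/-- The multiplicity at a simple root. -/
noncomputable def lineDim (d : SimpleData) (ζ : F) : ℕ :=
  finrank ℂ ↥(rEig c ρ d.root ζ ⊓ rFix c ρ (d.pairs.map Prod.snd))

theorem simple_split {base n₀ : ℕ} {d : SimpleData} (hd : c.T.simpleOK base n₀ d = true) {ζ : F}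
    (hζ : ζ ≠ 0) : finrank ℂ (rEig c ρ d.root ζ) = Fintype.card F ^ n₀ * lineDim c ρ d ζ := by
  simp only [Tables.simpleOK, Bool.and_eq_true, beq_iff_eq, Nat.beq_eq, List.all_eq_true] at hd
  obtain ⟨⟨⟨⟨⟨⟨⟨⟨⟨hr, -⟩, -⟩, -⟩, -⟩, -⟩, hP⟩, hn⟩, hlt⟩, -⟩ := hd
  have h := pairs_split c ρ (lt_of_blt c hr) (pre := []) (by simp) hζ hP fun p hp =>
    ⟨lt_of_blt c (hlt p hp).1, lt_of_blt c (hlt p hp).2⟩
  rw [rFix, top_inf_eq] at h
  rw [h, hn]
  rfl

theorem order_bound {base n₀ : ℕ} (hbase : base < D.nroots)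
    {Ss : List SimpleData} (hSs : Ss.all (c.T.simpleOK base n₀) = true)
    (hm : ∀ d, c.T.simpleOK base n₀ d = true → ∀ ζ : F, ζ ≠ 0 → lineDim c ρ d ζ = 1) :
    ∀ (pre : List ℕ) (E : List RootData), c.T.orderOK Ss pre E = true →
      (∀ x ∈ pre, x < D.nroots) →
      (Fintype.card F - 1) * (E.map fun e => Fintype.card F ^ e.pairs.length).sum ≤
        finrank ℂ (rFix c ρ pre)
  | _, [], _, _ => by simp
  | pre, e :: E, h, hpre => by
    classical
    simp only [Tables.orderOK, Bool.and_eq_true, List.all_eq_true, Nat.beq_eq,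
      List.contains_iff_mem] at h
    obtain ⟨⟨⟨⟨⟨⟨hr, hmv⟩, hP⟩, hPlt⟩, hw⟩, hmatch⟩, hrec⟩ := h
    obtain ⟨d, hd', hwr, himg⟩ : ∃ d, d ∈ Ss ∧ c.T.wlT e.word d.root = e.root ∧
        ∀ x ∈ pre ++ e.pairs.map Prod.snd,
          (Nat.blt (c.T.wlT e.word.reverse x) c.T.n = true ∧
            c.T.wlT e.word (c.T.wlT e.word.reverse x) = x) ∧
          c.T.wlT e.word.reverse x ∈ closeFix d.steps (d.pairs.map Prod.snd) := by
      cases hg : Ss[e.base]? with
      | none => rw [hg] at hmatch; exact absurd hmatch (by simp)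
      | some d =>
        rw [hg] at hmatch
        simp only [Bool.and_eq_true, List.all_eq_true, Nat.beq_eq, List.contains_iff_mem] at hmatch
        exact ⟨d, List.mem_of_getElem? hg, hmatch.1, hmatch.2⟩
    have hb : c.T.simpleOK base n₀ d = true := List.all_eq_true.1 hSs d hd' 
    have hr' := lt_of_blt c hr
    have hw' : ∀ p ∈ e.word, p < D.rank := fun p hp => rank_of_blt c (hw p hp)
    have hPlt' : ∀ p ∈ e.pairs, p.1 < D.nroots ∧ p.2 < D.nroots := fun p hp =>
      ⟨lt_of_blt c (hPlt p hp).1, lt_of_blt c (hPlt p hp).2⟩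
    have key : ∀ ζ : F, ζ ≠ 0 →
        Fintype.card F ^ e.pairs.length ≤ finrank ℂ ↥(rFix c ρ pre ⊓ rEig c ρ e.root ζ) := by
      intro ζ hζ
      rw [pairs_split c ρ hr' hpre hζ hP hPlt']
      refine Nat.le_mul_of_pos_right _ ?_
      have hd := hb
      simp only [Tables.simpleOK, Bool.and_eq_true, beq_iff_eq, Nat.beq_eq, List.all_eq_true] at hd
      obtain ⟨⟨⟨⟨⟨⟨⟨⟨⟨hbr, -⟩, -⟩, -⟩, -⟩, -⟩, -⟩, -⟩, hblt⟩, hclose⟩ := hd
      set ζ' := ζ * (c.wsign e.word d.root : F) with hζ'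
      have hζ0 : ζ' ≠ 0 := mul_ne_zero hζ (c.wsign_ne_zero _ _)
      have h1 : finrank ℂ ↥(rEig c ρ d.root ζ' ⊓
          rFix c ρ (d.pairs.map Prod.snd)) = 1 := hm _ hb ζ' hζ0
      have hBlt : ∀ x ∈ d.pairs.map Prod.snd, x < D.nroots := fun x hx => by
        obtain ⟨q, hq, rfl⟩ := List.mem_map.1 hx
        exact lt_of_blt c (hblt q hq).2
      have hfix := line_fixed c ρ h1 (lt_of_blt c hbr) hBlt rfl _ [] _ hclose inf_le_right
        (by simp)
      obtain ⟨v, hv, hv0⟩ := Submodule.exists_mem_ne_zero_of_ne_bot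
        (fun e0 => by rw [e0, finrank_bot] at h1; exact zero_ne_one h1 :
          rEig c ρ d.root ζ' ⊓ rFix c ρ (d.pairs.map Prod.snd) ≠ ⊥)
      set n := (⟨c.nw F e.word, c.nw_mem_group hw'⟩ : ↥(D.group F))
      have hmem : ρ n v ∈ rEig c ρ e.root ζ := by
        have := nw_maps c ρ hw' (lt_of_blt c hbr) hv.1
        rw [← c.wlT_eq, hwr, hζ', mul_assoc, c.wsign_sq, mul_one] at this
        exact this
      have hall : ∀ x ∈ pre ++ e.pairs.map Prod.snd, ∀ t, rop c ρ x t (ρ n v) = ρ n v := by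
        intro x hx t
        obtain ⟨⟨hy, hyx⟩, hmemy⟩ := himg x hx
        set y := c.T.wlT e.word.reverse x
        have hvy := (mem_rEig_zero c ρ).2 fun t => (mem_rFix c ρ).1 (hfix hv) y hmemy t
        have := nw_maps c ρ hw' (lt_of_blt c hy) hvy
        rw [zero_mul, ← c.wlT_eq, hyx, mem_rEig_zero] at this
        exact this t
      refine Submodule.one_le_finrank_iff.2 fun e0 => ?_
      have : ρ n v ∈ (⊥ : Submodule ℂ V) := e0 ▸
        ⟨⟨(mem_rFix c ρ).2 fun x hx => hall x (by simp [hx]), hmem⟩,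
          (mem_rFix c ρ).2 fun x hx => hall x (List.mem_append_right _ hx)⟩
      exact hv0 (rho_injective (D := D) ρ n (by rw [(Submodule.mem_bot ℂ).1 this, map_zero]))
    have hst : ∀ t, Stable (rop c ρ e.root t) (rFix c ρ pre) := fun t v hv =>
      moves_fix c ρ hr' hpre hmv hv hv t
    rw [← sum_rEig c ρ hst, ← Finset.add_sum_erase _ _ (Finset.mem_univ (0 : F))]
    have hrest := order_bound hbase hSs hm (e.root :: pre) E hrec (by
      intro x hx
      rcases List.mem_cons.1 hx with rfl | hx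
      exacts [hr', hpre x hx])
    rw [rFix, inf_comm] at hrest
    rw [List.map_cons, List.sum_cons, mul_add, add_comm]
    refine add_le_add hrest (le_trans ?_ (Finset.sum_le_sum fun ζ hζ =>
      key ζ (Finset.ne_of_mem_erase hζ)))
    simp [Finset.card_erase_of_mem]

/-- The degree bound. -/
theorem degree_bound {base n₀ : ℕ} (hbase : base < D.nroots) {b₀ : SimpleData} {a₁ b₁ : ℕ}
    {P₁ : List (ℕ × ℕ)} (hP₁ : b₀.pairs = (a₁, b₁) :: P₁) {L : List ℕ}
    (hLb : (L.all (Nat.blt · c.T.l) && Nat.beq (c.T.wlT L base) b₁ &&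
      c.T.rootMoves b₀.root [] b₁ && c.T.pairsOK [] b₀.root [(a₁, b₁)]) = true)
    {Ss : List SimpleData} (hSs : Ss.all (c.T.simpleOK base n₀) = true) (hmem : b₀ ∈ Ss)
    (hb₀' : b₀.root = base) {E : List RootData}
    (hE : c.T.orderOK Ss [] E = true) (hne : ∃ t : F, rop c ρ base t ≠ 1) :
    2 * ((Fintype.card F - 1) * (Fintype.card F + 1) * Fintype.card F ^ (n₀ - 1)) ≤ finrank ℂ V ∨
      ((Fintype.card F - 1) * (E.map fun e => Fintype.card F ^ e.pairs.length).sum ≤ finrank ℂ V ∧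
        ∀ ζ : F, ζ ≠ 0 → finrank ℂ (rEig c ρ base ζ) = Fintype.card F ^ n₀) := by
  classical
  have hb₀ : c.T.simpleOK base n₀ b₀ = true := List.all_eq_true.1 hSs b₀ hmem
  set q := Fintype.card F with hq
  set m := lineDim c ρ b₀ (1 : F) with hmdef
  have hd : ∀ {d}, c.T.simpleOK base n₀ d = true → ∀ {ζ : F}, ζ ≠ 0 →
      finrank ℂ (rEig c ρ d.root ζ) = q ^ n₀ * m := fun h ζ hζ => by
    rw [simple_dim c ρ hbase hb₀ h hζ one_ne_zero, simple_split c ρ hb₀ one_ne_zero]
  have htop : ∀ r, ∑ ζ : F, finrank ℂ ↥((⊤ : Submodule ℂ V) ⊓ rEig c ρ r ζ) = finrank ℂ V :=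
    fun r => by rw [sum_rEig c ρ fun t => stable_top _, finrank_top]
  have hmpos : 0 < m := by
    rcases Nat.eq_zero_or_pos m with h0 | h0
    · exfalso
      obtain ⟨t, ht⟩ := hne
      refine ht (LinearMap.ext fun v => ?_)
      have h := htop base
      rw [← Finset.add_sum_erase _ _ (Finset.mem_univ (0 : F)),
        Finset.sum_eq_zero fun ζ hζ => by
          rw [top_inf_eq, ← hb₀', hd hb₀ (Finset.ne_of_mem_erase hζ), h0, mul_zero],
        add_zero, top_inf_eq, ← finrank_top ℂ V] at h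
      have hv : v ∈ rEig c ρ base 0 := by
        rw [Submodule.eq_of_le_of_finrank_eq le_top h]; trivial
      exact (mem_rEig_zero c ρ).1 hv t
    · exact h0
  rcases Nat.lt_or_ge m 2 with hm | hm
  · right
    have hm1 : m = 1 := by omega
    constructor
    · have := order_bound c ρ hbase hSs (fun d h ζ hζ => ?_) [] E hE (by simp)
      · rwa [rFix, finrank_top] at this
      · have e := hd h hζ
        rw [simple_split c ρ h hζ, hm1] at e
        exact Nat.eq_of_mul_eq_mul_left (pow_pos Fintype.card_pos _) e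
    · intro ζ hζ
      rw [← hb₀', hd hb₀ hζ, hm1, mul_one]
  · left
    simp only [Bool.and_eq_true, Nat.beq_eq] at hLb
    obtain ⟨⟨⟨hLr, hLw⟩, hmv⟩, hj⟩ := hLb
    have hroot : b₀.root < D.nroots := hb₀' ▸ hbase
    have hpair : a₁ < D.nroots ∧ b₁ < D.nroots := by
      have h := hb₀
      simp only [Tables.simpleOK, Bool.and_eq_true, List.all_eq_true] at h
      have := h.1.2 (a₁, b₁) (by rw [hP₁]; simp)
      exact ⟨lt_of_blt c this.1, lt_of_blt c this.2⟩
    set x := q ^ (n₀ - 1) * m with hxdef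
    have hn₀ : n₀ = n₀ - 1 + 1 := by
      have h := hb₀
      simp only [Tables.simpleOK, Bool.and_eq_true, Nat.beq_eq] at h
      have := h.1.1.2
      rw [hP₁, List.length_cons] at this
      omega
    have hqx : q ^ n₀ * m = q * x := by rw [hxdef, hn₀, pow_succ, Nat.add_sub_cancel]; ring
    have hhalf : ∀ ζ γ : F, ζ ≠ 0 →
        finrank ℂ ↥(rEig c ρ b₀.root ζ ⊓ rEig c ρ b₁ γ) = x := by
      intro ζ γ hζ
      simp only [Tables.pairsOK, Bool.and_eq_true, List.all_eq_true] at hj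
      obtain ⟨⟨⟨⟨-, hj⟩, -⟩, -⟩, hmov⟩ := hj
      have hst : ∀ s, s < D.nroots → c.T.rootMoves s [] b₀.root = true →
          ∀ t, Stable (rop c ρ s t) (rEig c ρ b₀.root ζ) := fun s hs h t v hv =>
        moves_eig c ρ hs hroot h (by simp [rFix]) hv t
      have := pair_split c ρ hpair.1 hpair.2 hj hζ (W := rEig c ρ b₀.root ζ) le_rfl
        (hst _ hpair.1 (hmov _ (by simp)).1) (hst _ hpair.2 (hmov _ (by simp)).2) γ
      rw [hd hb₀ hζ, hqx] at this
      exact (Nat.eq_of_mul_eq_mul_left Fintype.card_pos this).symm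
    have hfix : ∀ γ : F, γ ≠ 0 → x ≤ finrank ℂ ↥(rEig c ρ b₀.root 0 ⊓ rEig c ρ b₁ γ) := by
      intro γ hγ
      have h := sum_rEig c ρ (r := b₀.root) (W := rEig c ρ b₁ γ) fun t v hv =>
        moves_eig c ρ hroot hpair.2 hmv (by simp [rFix]) hv t
      rw [← Finset.add_sum_erase _ _ (Finset.mem_univ (0 : F)),
        Finset.sum_congr rfl fun ζ hζ => by rw [inf_comm, hhalf ζ γ (Finset.ne_of_mem_erase hζ)],
        inf_comm] at h
      simp only [Finset.sum_const, Finset.card_erase_of_mem (Finset.mem_univ _), Finset.card_univ,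
        smul_eq_mul] at h
      -- the dimension at the partner root is at least the one at the base
      have hb₁ : q * x ≤ finrank ℂ (rEig c ρ b₁ γ) := by
        obtain ⟨δ, hδ⟩ : ∃ δ : F, δ = γ * (c.wsign L base : F) := ⟨_, rfl⟩
        have hδ0 : δ ≠ 0 := hδ ▸ mul_ne_zero hγ (c.wsign_ne_zero _ _)
        have h2 : finrank ℂ (rEig c ρ base δ) ≤ finrank ℂ (rEig c ρ b₁ γ) :=
          finrank_le_of_maps (rho_injective (D := D) ρ _) fun v hv => by
            have := nw_maps c ρ (list_lt c hLr) hbase hv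
            rw [← c.wlT_eq, hLw, hδ, mul_assoc, c.wsign_sq, mul_one] at this
            exact this
        rwa [← hb₀', hd hb₀ hδ0, hqx] at h2
      have e : q * x = x + (q - 1) * x := by
        obtain ⟨n, hn⟩ : ∃ n, q = n + 1 :=
          ⟨q - 1, by have := Fintype.card_pos (α := F); omega⟩
        rw [hn, Nat.add_sub_cancel]; ring
      rw [← hq] at h
      omega
    have hC : (q - 1) * x ≤ finrank ℂ (rEig c ρ b₀.root 0) := by
      rw [← sum_rEig c ρ (r := b₁) (W := rEig c ρ b₀.root 0) fun t v hv =>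
        (mem_rEig c ρ).2 fun u => ?_]
      · calc (q - 1) * x = ∑ _γ ∈ Finset.univ.erase (0 : F), x := by
              simp [Finset.card_erase_of_mem, q]
          _ ≤ ∑ γ ∈ Finset.univ.erase (0 : F),
              finrank ℂ ↥(rEig c ρ b₀.root 0 ⊓ rEig c ρ b₁ γ) :=
            Finset.sum_le_sum fun γ hγ => hfix γ (Finset.ne_of_mem_erase hγ)
          _ ≤ _ := Finset.sum_le_sum_of_subset (Finset.erase_subset _ _)
      · rw [← rop_swap_fix c ρ hroot hpair.2 hmv (by simp [rFix]) u t, (mem_rEig c ρ).1 hv,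
          map_smul]
    have hk := htop b₀.root
    rw [← Finset.add_sum_erase _ _ (Finset.mem_univ (0 : F)),
      Finset.sum_congr rfl fun ζ hζ => by
        rw [top_inf_eq, hd hb₀ (Finset.ne_of_mem_erase hζ), hqx],
      top_inf_eq] at hk
    simp only [Finset.sum_const, Finset.card_erase_of_mem (Finset.mem_univ _), Finset.card_univ,
      smul_eq_mul] at hk
    have hx2 : 2 * q ^ (n₀ - 1) ≤ x := by rw [hxdef, mul_comm 2]; exact Nat.mul_le_mul_left _ hm
    calc 2 * ((q - 1) * (q + 1) * q ^ (n₀ - 1)) = (q - 1) * (q + 1) * (2 * q ^ (n₀ - 1)) := by ring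
      _ ≤ (q - 1) * (q + 1) * x := Nat.mul_le_mul_left _ hx2
      _ = (q - 1) * x + (q - 1) * (q * x) := by ring
      _ ≤ finrank ℂ V := by rw [← hq] at hk; omega

end CertFull

end Cfsg.Agent.Lie.Chev
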