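import Cfsg.Agent.Lib.Lie.Chev.RootDegreeDataE8

/-! The certificate of type E8 passes the checks. -/

set_option autoImplicit false
set_option maxRecDepth 40000

namespace Cfsg.Agent.Lie.Chev

theorem degE8Simples_ok : degE8Simples.all (certFullE8.T.simpleOK degE8S0.root 28) = true := by
  decide +kernel

theorem degE8Roots0_ok :
    certFullE8.T.orderOK degE8Simples [] degE8Roots0 = true := by
  decide +kernel

theorem degE8Roots1_ok :
    certFullE8.T.orderOK degE8Simples ((degE8Roots0.map RootData.root).reverse) degE8Roots1 = true := by
  decide +kernel

theorem degE8Roots2_ok :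
    certFullE8.T.orderOK degE8Simples ((degE8Roots1.map RootData.root).reverse ++ (degE8Roots0.map RootData.root).reverse) degE8Roots2 = true := by
  decide +kernel

theorem degE8Roots3_ok :
    certFullE8.T.orderOK degE8Simples ((degE8Roots2.map RootData.root).reverse ++ (degE8Roots1.map RootData.root).reverse ++ (degE8Roots0.map RootData.root).reverse) degE8Roots3 = true := by
  decide +kernel

theorem degE8Roots4_ok :
    certFullE8.T.orderOK degE8Simples ((degE8Roots3.map RootData.root).reverse ++ (degE8Roots2.map RootData.root).reverse ++ (degE8Roots1.map RootData.root).reverse ++ (degE8Roots0.map RootData.root).reverse) degE8Roots4 = true := by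
  decide +kernel

theorem degE8Roots5_ok :
    certFullE8.T.orderOK degE8Simples ((degE8Roots4.map RootData.root).reverse ++ (degE8Roots3.map RootData.root).reverse ++ (degE8Roots2.map RootData.root).reverse ++ (degE8Roots1.map RootData.root).reverse ++ (degE8Roots0.map RootData.root).reverse) degE8Roots5 = true := by
  decide +kernel

theorem degE8Roots_ok : certFullE8.T.orderOK degE8Simples [] degE8Roots = true := by
  simp only [degE8Roots, Tables.orderOK_append, List.map_append, List.reverse_append,
    List.append_nil, List.append_assoc, Bool.and_eq_true]
  exact ⟨degE8Roots0_ok, degE8Roots1_ok, degE8Roots2_ok,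
    by simpa only [List.append_assoc] using degE8Roots3_ok,
    by simpa only [List.append_assoc] using degE8Roots4_ok,
    by simpa only [List.append_assoc] using degE8Roots5_ok⟩

end Cfsg.Agent.Lie.Chev
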