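/- The certificate for the bound on the degrees of the representations of type E6. -/
import Cfsg.Agent.Lib.Lie.Chev.RootDegree
import Cfsg.Agent.Lib.Lie.Chev.CertsFull

set_option autoImplicit false
set_option maxRecDepth 20000

namespace Cfsg.Agent.Lie.Chev

open Cfsg.Lie

/-- The data at the simple root 0. -/
def degE6S0 : SimpleData where
  root := 56
  node := 2
  word := []
  pairs := [(29, 57), (28, 58), (27, 59), (26, 60), (21, 61), (20, 62), (19, 63), (18, 64), (17, 65), (16, 66)]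
  steps := [.scal 22, .scal 23, .scal 24, .scal 25, .scal 30, .scal 31, .scal 32, .scal 33, .scal 34, .scal 35, .scal 36, .scal 37, .scal 38, .scal 39, .scal 40, .scal 41, .scal 46, .scal 47, .scal 48, .scal 49, .scal 67, .scal 68, .scal 69, .scal 70, .scal 71, .fix 22 23 35, .fix 23 22 36, .fix 24 22 38, .fix 25 22 41, .fix 30 22 46, .fix 31 23 46, .fix 32 24 46, .fix 33 22 47, .fix 34 23 47, .fix 35 22 48, .fix 36 23 49, .fix 37 24 48, .fix 38 24 49, .fix 39 25 47, .fix 40 25 48, .fix 41 25 49, .fix 46 30 49, .fix 47 33 49, .fix 48 35 49, .fix 49 36 48, .fix 67 22 71, .fix 68 23 71, .fix 69 24 71, .fix 70 25 71, .fix 71 46 70, .scal 42, .scal 43, .scal 44, .scal 45, .scal 50, .scal 51, .scal 52, .scal 53, .scal 54, .scal 55, .fix 42 22 52, .fix 43 22 54, .fix 44 22 55, .fix 45 23 55, .fix 50 30 54, .fix 51 30 55, .fix 52 31 55, .fix 53 33 55, .fix 54 34 55, .fix 55 37 54]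

/-- The data at the simple root 1. -/
def degE6S1 : SimpleData where
  root := 46
  node := 3
  word := [3, 2, 1, 3, 0, 2]
  pairs := [(32, 47), (31, 48), (30, 49), (28, 50), (27, 51), (26, 52), (13, 61), (12, 62), (11, 63), (1, 71)]
  steps := [.scal 14, .scal 15, .scal 29, .scal 33, .scal 34, .scal 35, .scal 36, .scal 37, .scal 38, .scal 42, .scal 53, .scal 54, .scal 55, .scal 56, .scal 57, .scal 64, .scal 65, .scal 66, .scal 67, .scal 68, .scal 69, .scal 70, .fix 14 15 29, .fix 15 14 42, .fix 29 14 56, .fix 33 34 35, .fix 34 33 36, .fix 35 33 37, .fix 36 34 38, .fix 37 35 38, .fix 38 36 37, .fix 42 15 57, .fix 53 14 67, .fix 54 14 68, .fix 55 14 69, .fix 56 29 57, .fix 57 42 56, .fix 64 29 67, .fix 65 29 68, .fix 66 29 69, .fix 67 33 69, .fix 68 34 69, .fix 69 37 68, .scal 39, .scal 40, .scal 41, .scal 43, .scal 44, .scal 45, .scal 58, .scal 59, .scal 60, .fix 39 14 58, .fix 40 14 59, .fix 41 14 60, .fix 43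 15 58, .fix 44 15 59, .fix 45 15 60, .fix 58 33 60, .fix 59 35 60, .fix 60 36 59, .fix 70 39 69]

/-- The data at the simple root 2. -/
def degE6S2 : SimpleData where
  root := 42
  node := 0
  word := [0, 2]
  pairs := [(32, 43), (31, 44), (30, 45), (24, 50), (23, 51), (22, 52), (15, 57), (7, 67), (6, 68), (5, 69)]
  steps := [.scal 25, .scal 33, .scal 34, .scal 35, .scal 36, .scal 37, .scal 38, .scal 46, .scal 53, .scal 54, .scal 55, .scal 58, .scal 59, .scal 60, .scal 61, .scal 62, .scal 63, .scal 70, .scal 71, .fix 33 34 35, .fix 34 33 36, .fix 35 33 37, .fix 36 34 38, .fix 37 35 38, .fix 38 36 37, .fix 53 33 55, .fix 54 34 55, .fix 55 37 54, .fix 58 25 61, .fix 59 25 62, .fix 60 25 63, .fix 61 33 63, .fix 62 35 63, .fix 63 36 62, .fix 70 71 25, .fix 71 70 46, .scal 39, .scal 40, .scal 41, .scal 47, .scal 48, .scal 49, .scal 56, .scal 64, .scal 65, .scal 66, .fix 39 25 47, .fix 40 25 48, .fix 41 25 49, .fix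 47 33 49, .fix 48 35 49, .fix 49 36 48, .fix 64 33 66, .fix 65 34 66, .fix 66 37 65]

/-- The data at the simple root 3. -/
def degE6S3 : SimpleData where
  root := 39
  node := 1
  word := [2, 3, 0, 2]
  pairs := [(34, 40), (33, 41), (29, 43), (25, 47), (20, 53), (19, 54), (14, 58), (9, 64), (8, 65), (2, 70)]
  steps := [.scal 15, .scal 35, .scal 36, .scal 44, .scal 45, .scal 48, .scal 49, .scal 50, .scal 55, .scal 56, .scal 59, .scal 60, .scal 61, .scal 66, .scal 67, .scal 68, .scal 71, .fix 44 15 59, .fix 45 15 60, .fix 48 35 49, .fix 49 36 48, .fix 50 15 61, .fix 55 66 15, .fix 59 35 60, .fix 60 36 59, .fix 61 50 56, .fix 66 48 60, .fix 67 68 35, .fix 68 67 36, .fix 71 66 50, .scal 37, .scal 38, .scal 42, .scal 46, .scal 51, .scal 52, .scal 57, .scal 62, .scal 63, .scal 69, .fix 37 35 38, .fix 38 36 37, .fix 42 15 57, .fix 51 15 62, .fix 52 15 63, .fix 57 42 56, .fix 62 35 63, .fix 63 36 62, .fix 69 37 68]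

/-- The data at the simple root 4. -/
def degE6S4 : SimpleData where
  root := 37
  node := 3
  word := [3, 4, 2, 3, 0, 2]
  pairs := [(35, 38), (32, 40), (28, 44), (24, 48), (21, 51), (17, 55), (13, 59), (10, 62), (6, 66), (3, 69)]
  steps := [.scal 14, .scal 15, .scal 25, .scal 29, .scal 41, .scal 42, .scal 45, .scal 46, .scal 49, .scal 52, .scal 53, .scal 56, .scal 57, .scal 60, .scal 63, .scal 64, .scal 67, .scal 70, .scal 71, .fix 14 15 29, .fix 15 14 42, .fix 29 14 56, .fix 41 14 60, .fix 42 15 57, .fix 45 15 60, .fix 49 14 63, .fix 52 15 63, .fix 53 64 15, .fix 56 29 57, .fix 57 42 56, .fix 60 25 63, .fix 63 46 60, .fix 64 67 29, .fix 67 64 42, .fix 70 64 45, .fix 71 64 52, .scal 36, .scal 39, .scal 43, .scal 47, .scal 50, .scal 54, .scal 58, .scal 61, .scal 65, .scal 68, .fix 39 14 58, .fix 43 15 58, .fix 47 14 61, .fix 50 15 61, .fix 54 14 68, .fix 58 25 61, .fix 61 46 58, .fix 65 29 68, .fix 68 36 67]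

/-- The data at the simple root 5. -/
def degE6S5 : SimpleData where
  root := 36
  node := 4
  word := [4, 5, 3, 4, 2, 3, 0, 2]
  pairs := [(34, 38), (31, 41), (27, 45), (23, 49), (20, 52), (18, 54), (12, 60), (9, 63), (7, 65), (4, 68)]
  steps := [.scal 10, .scal 13, .scal 14, .scal 15, .scal 21, .scal 24, .scal 25, .scal 28, .scal 29, .scal 32, .scal 39, .scal 42, .scal 43, .scal 46, .scal 47, .scal 50, .scal 55, .scal 56, .scal 57, .scal 58, .scal 61, .scal 66, .scal 69, .scal 70, .scal 71, .fix 10 13 25, .fix 13 10 46, .fix 14 10 47, .fix 15 10 50, .fix 21 10 56, .fix 24 10 57, .fix 25 10 58, .fix 28 13 56, .fix 29 14 56, .fix 32 13 57, .fix 39 14 58, .fix 42 15 57, .fix 43 15 58, .fix 46 13 61, .fix 47 14 61, .fix 50 15 61, .fix 55 10 71, .fix 56 21 61, .fix 57 24 61, .fix 58 25 61, .fix 61 46 58, .fix 66 21 71, .fix 69 24 71, .fix 70 25 71, .fix 71 46 70, .scal 37, .scal 40, .scal 44, .scal 48, .scal 51,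 .scal 53, .scal 59, .scal 62, .scal 64, .scal 67, .fix 37 10 62, .fix 40 10 64, .fix 44 10 67, .fix 48 13 64, .fix 51 13 67, .fix 53 14 67, .fix 59 21 67, .fix 62 28 67, .fix 64 29 67, .fix 67 42 64]

/-- The data at the simple roots. -/
def degE6Simples : List SimpleData :=
  [degE6S0, degE6S1, degE6S2, degE6S3, degE6S4, degE6S5]

/-- Part 0 of the data at the positive roots. -/
def degE6Roots0 : List RootData :=
  [ ⟨71, 0, [1, 3, 4, 5, 2, 3, 4, 1, 3, 2], [(46, 70), (47, 69), (48, 68), (49, 67), (50, 66), (51, 65), (52, 64), (53, 63), (54, 62), (55, 61)]⟩,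
    ⟨70, 0, [3, 4, 5, 2, 3, 4, 1, 3, 2], [(39, 69), (40, 68), (41, 67), (43, 66), (44, 65), (45, 64), (53, 60), (54, 59), (55, 58)]⟩,
    ⟨69, 0, [4, 5, 2, 3, 4, 1, 3, 2], [(37, 68), (38, 67), (42, 66), (44, 63), (45, 62), (51, 60), (52, 59), (55, 57)]⟩,
    ⟨66, 0, [4, 5, 3, 4, 1, 3, 2], [(37, 65), (38, 64), (40, 63), (41, 62), (48, 60), (49, 59), (55, 56)]⟩,
    ⟨68, 0, [5, 2, 3, 4, 1, 3, 2], [(36, 67), (42, 65), (43, 63), (45, 61), (50, 60), (52, 58), (54, 57)]⟩,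
    ⟨55, 1, [4, 5, 3, 4, 2, 3], [(37, 54), (38, 53), (40, 52), (41, 51), (44, 49), (45, 48)]⟩,
    ⟨65, 0, [5, 3, 4, 1, 3, 2], [(36, 64), (39, 63), (41, 61), (47, 60), (49, 58), (54, 56)]⟩,
    ⟨67, 0, [2, 3, 4, 1, 3, 2], [(42, 64), (43, 62), (44, 61), (50, 59), (51, 58), (53, 57)]⟩,
    ⟨54, 1, [5, 3, 4, 2, 3], [(36, 53), (39, 52), (41, 50), (43, 49), (45, 47)]⟩,
    ⟨63, 0, [5, 4, 1, 3, 2], [(36, 62), (38, 61), (46, 60), (49, 57), (52, 56)]⟩,
    ⟨64, 0, [3, 4, 1, 3, 2], [(39, 62), (40, 61), (47, 59), (48, 58), (53, 56)]⟩,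
    ⟨52, 1, [5, 4, 2, 3], [(36, 51), (38, 50), (42, 49), (45, 46)]⟩,
    ⟨53, 1, [3, 4, 2, 3], [(39, 51), (40, 50), (43, 48), (44, 47)]⟩,
    ⟨60, 0, [5, 4, 3, 2], [(36, 59), (38, 58), (41, 57), (45, 56)]⟩,
    ⟨62, 0, [4, 1, 3, 2], [(37, 61), (46, 59), (48, 57), (51, 56)]⟩,
    ⟨45, 2, [5, 4, 3], [(36, 44), (38, 43), (41, 42)]⟩,
    ⟨49, 1, [5, 4, 3], [(36, 48), (38, 47), (41, 46)]⟩,
    ⟨51, 1, [4, 2, 3], [(37, 50), (42, 48), (44, 46)]⟩,
    ⟨59, 0, [4, 3, 2], [(37, 58), (40, 57), (44, 56)]⟩,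
    ⟨61, 0, [1, 3, 2], [(46, 58), (47, 57), (50, 56)]⟩ ]

/-- Part 1 of the data at the positive roots. -/
def degE6Roots1 : List RootData :=
  [ ⟨41, 3, [5, 4], [(36, 40), (38, 39)]⟩,
    ⟨44, 2, [4, 3], [(37, 43), (40, 42)]⟩,
    ⟨48, 1, [4, 3], [(37, 47), (40, 46)]⟩,
    ⟨50, 1, [2, 3], [(42, 47), (43, 46)]⟩,
    ⟨58, 0, [3, 2], [(39, 57), (43, 56)]⟩,
    ⟨38, 4, [5], [(36, 37)]⟩,
    ⟨40, 4, [3], [(39, 37)]⟩,
    ⟨43, 2, [3], [(39, 42)]⟩,
    ⟨47, 1, [3], [(39, 46)]⟩,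
    ⟨57, 0, [2], [(42, 56)]⟩,
    ⟨39, 3, [], []⟩,
    ⟨42, 2, [], []⟩,
    ⟨37, 4, [], []⟩,
    ⟨56, 0, [], []⟩,
    ⟨46, 1, [], []⟩,
    ⟨36, 5, [], []⟩ ]

/-- The data at the positive roots. -/
def degE6Roots : List RootData :=
  degE6Roots0 ++ degE6Roots1

end Cfsg.Agent.Lie.Chev
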