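import Mathlib

/-! Removing factors from a divisibility by Bezout identities. -/

set_option autoImplicit false

namespace Cfsg.Agent.Lie.Chev.DegDiv

theorem strip {f Φ L a b : ℤ} (e : a * f + b * Φ = L) :
    ∀ {m : ℕ} {Y C : ℤ}, f ∣ Φ ^ m * Y * C → f ∣ Y * (L ^ m * C)
  | 0, Y, C, h => by simpa using h
  | m + 1, Y, C, h => by
    have h' : f ∣ Φ ^ m * Y * (L * C) := by
      rw [show Φ ^ m * Y * (L * C) = f * (a * (Φ ^ m * Y * C)) + b * (Φ ^ (m + 1) * Y * C) by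
        rw [← e]; ring]
      exact dvd_add (dvd_mul_right _ _) (dvd_mul_of_dvd_right h _)
    have := strip e h'
    rwa [show Y * (L ^ (m + 1) * C) = Y * (L ^ m * (L * C)) by ring]

theorem strip_keep {g Φ L a b C : ℤ} {n : ℕ} (e : a * g + b * Φ = L) (hne : Φ * g ≠ 0)
    (h : Φ * g ∣ Φ ^ (n + 1) * 1 * C) : g ∣ L ^ n * C := by
  have h1 : g ∣ Φ ^ n * 1 * C := by
    refine (mul_dvd_mul_iff_left (left_ne_zero_of_mul hne)).1 ?_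
    rwa [show Φ * (Φ ^ n * 1 * C) = Φ ^ (n + 1) * 1 * C by ring]
  simpa using strip e h1

theorem qpart {q N f M j w : ℕ} (hq : IsPrimePow q) (hj : 0 < j) (hjq : j < q)
    (e : f + j = q * w) (h : f ∣ q ^ N * M) : f ∣ j * M := by
  obtain ⟨p, a, hp, -, rfl⟩ := (isPrimePow_nat_iff _).1 hq
  obtain ⟨c, -, hc⟩ := (Nat.dvd_prime_pow hp).1
    (show f.gcd ((p ^ a) ^ N) ∣ p ^ (a * N) by rw [pow_mul]; exact Nat.gcd_dvd_right _ _)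
  have hgf : p ^ c ∣ f := hc ▸ Nat.gcd_dvd_left _ _
  have hgj : p ^ c ∣ j := by
    rcases Nat.lt_or_ge c a with hca | hca
    · exact (Nat.dvd_add_right hgf).1 (e ▸ Dvd.dvd.mul_right (pow_dvd_pow p hca.le) w)
    · have h1 : p ^ a ∣ f := (pow_dvd_pow p hca).trans hgf
      have h2 : p ^ a ∣ j := (Nat.dvd_add_right h1).1 (e ▸ dvd_mul_right _ _)
      exact absurd (Nat.le_of_dvd hj h2) (by omega)
  have h3 : f ∣ f.gcd ((p ^ a) ^ N) * M := (dvd_gcd_mul_iff_dvd_mul).2 h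
  exact h3.trans (hc ▸ Nat.mul_dvd_mul_right hgj M)

theorem f_ge_E6 (x : ℤ) (hx : 2 ≤ x) (j : ℤ) (hj : j ≤ 8) :
    x ^ 11 ≤ x ^ 11 + x ^ 8 + x ^ 7 + x ^ 5 + x ^ 4 + x - j := by
  have h8 : (2 : ℤ) ^ 8 ≤ x ^ 8 := pow_le_pow_left₀ (by norm_num) hx 8
  have : 0 ≤ x ^ 7 + x ^ 5 + x ^ 4 + x := by positivity
  linarith

theorem f_pos_E6 (x : ℤ) (hx : 2 ≤ x) (j : ℤ) (hj : j ≤ 8) :
    0 < x ^ 11 + x ^ 8 + x ^ 7 + x ^ 5 + x ^ 4 + x - j :=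
  lt_of_lt_of_le (by positivity) (f_ge_E6 x hx j hj)

theorem f_ge_E8 (x : ℤ) (hx : 2 ≤ x) (j : ℤ) (hj : j ≤ 8) :
    x ^ 29 ≤ x ^ 29 + x ^ 23 + x ^ 19 + x ^ 17 + x ^ 13 + x ^ 11 + x ^ 7 + x - j := by
  have h8 : (2 : ℤ) ^ 7 ≤ x ^ 7 := pow_le_pow_left₀ (by norm_num) hx 7
  have : 0 ≤ x ^ 23 + x ^ 19 + x ^ 17 + x ^ 13 + x ^ 11 + x := by positivity
  linarith

theorem f_pos_E8 (x : ℤ) (hx : 2 ≤ x) (j : ℤ) (hj : j ≤ 8) :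
    0 < x ^ 29 + x ^ 23 + x ^ 19 + x ^ 17 + x ^ 13 + x ^ 11 + x ^ 7 + x - j :=
  lt_of_lt_of_le (by positivity) (f_ge_E8 x hx j hj)

theorem phi1_pos (x : ℤ) (hx : 2 ≤ x) : 0 < x - 1 := by omega
theorem phi1_le (x : ℤ) (hx : 2 ≤ x) : x - 1 ≤ 2 * x ^ 1 := by rw [pow_one]; omega
theorem phi4_pos (x : ℤ) (_hx : 2 ≤ x) : 0 < x ^ 2 + 1 := by positivity
theorem phi4_le (x : ℤ) (hx : 2 ≤ x) : x ^ 2 + 1 ≤ 2 * x ^ 2 := by nlinarith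
theorem phi6_pos (x : ℤ) (hx : 2 ≤ x) : 0 < x ^ 2 - x + 1 := by nlinarith
theorem phi6_le (x : ℤ) (hx : 2 ≤ x) : x ^ 2 - x + 1 ≤ 2 * x ^ 2 := by nlinarith

theorem phi10_pos (x : ℤ) (hx : 2 ≤ x) : 0 < x ^ 4 - x ^ 3 + x ^ 2 - x + 1 := by
  have h3 : 0 ≤ x ^ 3 * (x - 1) := mul_nonneg (by positivity) (by omega)
  have h1 : 0 ≤ x * (x - 1) := mul_nonneg (by omega) (by omega)
  nlinarith

theorem phi10_le (x : ℤ) (hx : 2 ≤ x) : x ^ 4 - x ^ 3 + x ^ 2 - x + 1 ≤ 2 * x ^ 4 := by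
  have h3 : 0 ≤ x ^ 3 := by positivity
  have h2 : 0 ≤ x ^ 2 * (x ^ 2 - 1) := mul_nonneg (by positivity) (by nlinarith)
  nlinarith

theorem phi15_pos (x : ℤ) (hx : 2 ≤ x) :
    0 < x ^ 8 - x ^ 7 + x ^ 5 - x ^ 4 + x ^ 3 - x + 1 := by
  have h7 : 0 ≤ x ^ 7 * (x - 1) := mul_nonneg (by positivity) (by omega)
  have h4 : 0 ≤ x ^ 4 * (x - 1) := mul_nonneg (by positivity) (by omega)
  have h1 : 0 ≤ x * (x ^ 2 - 1) := mul_nonneg (by omega) (by nlinarith)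
  nlinarith

theorem phi15_le (x : ℤ) (hx : 2 ≤ x) :
    x ^ 8 - x ^ 7 + x ^ 5 - x ^ 4 + x ^ 3 - x + 1 ≤ 2 * x ^ 8 := by
  have a : (2 : ℤ) ^ 3 ≤ x ^ 3 := pow_le_pow_left₀ (by norm_num) hx 3
  have h0 : 0 ≤ x ^ 7 + x ^ 4 + x := by positivity
  have e5 : x ^ 5 * 8 ≤ x ^ 8 := by
    rw [show x ^ 8 = x ^ 5 * x ^ 3 by ring]
    exact mul_le_mul_of_nonneg_left (by linarith) (by positivity)
  have e3 : x ^ 3 ≤ x ^ 5 := pow_le_pow_right₀ (by omega) (by norm_num)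
  linarith

end Cfsg.Agent.Lie.Chev.DegDiv
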