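import Cfsg.Agent.Lib.Lie.Chev.RootDegreeDivide

/-! The numbers just below the smallest degree of type E6 do not divide the order. -/

set_option autoImplicit false
set_option linter.unusedVariables false
set_option maxHeartbeats 1000000
set_option maxRecDepth 20000

namespace Cfsg.Agent.Lie.Chev.DegDiv

theorem factorE6 (x : ℤ) : (x ^ 2 - 1) * (x ^ 5 - 1) * (x ^ 6 - 1) * (x ^ 8 - 1) * (x ^ 9 - 1) * (x ^ 12 - 1) =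
    (x - 1) ^ 6 * (x + 1) ^ 4 * (x ^ 2 + x + 1) ^ 3 * (x ^ 2 + 1) ^ 2 * (x ^ 4 + x ^ 3 + x ^ 2 + x + 1) ^ 1 * (x ^ 2 - x + 1) ^ 2 * (x ^ 4 + 1) ^ 1 * (x ^ 6 + x ^ 3 + 1) ^ 1 * (x ^ 4 - x ^ 2 + 1) ^ 1 := by
  rw [show x ^ 2 - 1 = (x - 1) * (x + 1) by ring]
  rw [show x ^ 5 - 1 = (x - 1) * (x ^ 4 + x ^ 3 + x ^ 2 + x + 1) by ring]
  rw [show x ^ 6 - 1 = (x - 1) * (x + 1) * (x ^ 2 + x + 1) * (x ^ 2 - x + 1) by ring]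
  rw [show x ^ 8 - 1 = (x - 1) * (x + 1) * (x ^ 2 + 1) * (x ^ 4 + 1) by ring]
  rw [show x ^ 9 - 1 = (x - 1) * (x ^ 2 + x + 1) * (x ^ 6 + x ^ 3 + 1) by ring]
  rw [show x ^ 12 - 1 = (x - 1) * (x + 1) * (x ^ 2 + x + 1) * (x ^ 2 + 1) * (x ^ 2 - x + 1) * (x ^ 4 - x ^ 2 + 1) by ring]
  generalize (x - 1) = p1
  generalize (x + 1) = p2
  generalize (x ^ 2 + x + 1) = p3
  generalize (x ^ 2 + 1) = p4
  generalize (x ^ 4 + x ^ 3 + x ^ 2 + x + 1) = p5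
  generalize (x ^ 2 - x + 1) = p6
  generalize (x ^ 4 + 1) = p8
  generalize (x ^ 6 + x ^ 3 + 1) = p9
  generalize (x ^ 4 - x ^ 2 + 1) = p12
  ring

theorem boundE6_1 (x : ℤ) (hx : 2 ≤ x)
    (h : (x ^ 11 + x ^ 8 + x ^ 7 + x ^ 5 + x ^ 4 + x - 1) ∣ 1 * ((x ^ 2 - 1) * (x ^ 5 - 1) * (x ^ 6 - 1) * (x ^ 8 - 1) * (x ^ 9 - 1) * (x ^ 12 - 1))) :
    (x ^ 11 + x ^ 8 + x ^ 7 + x ^ 5 + x ^ 4 + x - 1) ≤ (x ^ 2 - x + 1) * 3240000000 := by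
  have h1 : (x ^ 11 + x ^ 8 + x ^ 7 + x ^ 5 + x ^ 4 + x - 1) ∣ ((x - 1) ^ 6 * ((x + 1) ^ 4 * ((x ^ 2 + x + 1) ^ 3 * ((x ^ 2 + 1) ^ 2 * ((x ^ 4 + x ^ 3 + x ^ 2 + x + 1) ^ 1 * ((x ^ 4 + 1) ^ 1 * ((x ^ 6 + x ^ 3 + 1) ^ 1 * ((x ^ 4 - x ^ 2 + 1) ^ 1 * ((x ^ 2 - x + 1) ^ 2 * 1))))))))) * 1 := by
    rw [factorE6] at h
    generalize (x - 1) = p1 at h ⊢
    generalize (x + 1) = p2 at h ⊢
    generalize (x ^ 2 + x + 1) = p3 at h ⊢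
    generalize (x ^ 2 + 1) = p4 at h ⊢
    generalize (x ^ 4 + x ^ 3 + x ^ 2 + x + 1) = p5 at h ⊢
    generalize (x ^ 2 - x + 1) = p6 at h ⊢
    generalize (x ^ 4 + 1) = p8 at h ⊢
    generalize (x ^ 6 + x ^ 3 + 1) = p9 at h ⊢
    generalize (x ^ 4 - x ^ 2 + 1) = p12 at h ⊢
    convert h using 1
    ring
  have h1 := strip (a := 1) (b := -x ^ 10 - x ^ 9 - x ^ 8 - 2 * x ^ 7 - 3 * x ^ 6 - 3 * x ^ 5 - 4 * x ^ 4 - 5 * x ^ 3 - 5 * x ^ 2 - 5 * x - 6) (L := 5) (by ring) h1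
  have h1 := strip (a := -1) (b := x ^ 10 - x ^ 9 + x ^ 8 + x ^ 6 - x ^ 5 + 2 * x ^ 4 - x ^ 3 + x ^ 2 - x + 2) (L := 3) (by ring) h1
  have h1 := strip (a := -1) (b := x ^ 9 - x ^ 8 + 2 * x ^ 6 - x ^ 5 - x ^ 4 + 3 * x ^ 3 - x ^ 2 - 2 * x + 3) (L := 4) (by ring) h1
  have h1 := strip (a := 1) (b := -x ^ 9 + x ^ 7 - x ^ 6 - 2 * x ^ 5 + x ^ 4 + x ^ 3 - 2 * x ^ 2 - x + 2) (L := 1) (by ring) h1
  have h1 := strip (a := -x ^ 3 - 2 * x ^ 2 - 3 * x - 4) (b := x ^ 10 + x ^ 9 + x ^ 8 + 2 * x ^ 7 - 2 * x ^ 6 + 3 * x ^ 5 + 4 * x ^ 4 + 1) (L := 5) (by ring) h1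
  have h1 := strip (a := -1) (b := x ^ 7 + x ^ 4 + x) (L := 1) (by ring) h1
  have h1 := strip (a := -1) (b := x ^ 5 + x) (L := 1) (by ring) h1
  have h1 := strip (a := -1) (b := x ^ 7 + x ^ 5 + x ^ 4 + x ^ 3 + x ^ 2 + x + 1) (L := 2) (by ring) h1
  have hpos : 0 < (x ^ 11 + x ^ 8 + x ^ 7 + x ^ 5 + x ^ 4 + x - 1) := f_pos_E6 x hx 1 (by norm_num)
  have hf : (x ^ 11 + x ^ 8 + x ^ 7 + x ^ 5 + x ^ 4 + x - 1) = (x ^ 2 - x + 1) * (x ^ 9 + x ^ 8 + x ^ 5 + x ^ 4 + x ^ 3 + x ^ 2 - 1) := by ring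
  rw [hf] at h1 hpos ⊢
  have h2 := strip_keep (a := -1) (b := x ^ 7 + 2 * x ^ 6 + x ^ 5 - x ^ 4 - x ^ 3 + x ^ 2 + 3 * x + 3) (L := 4) (n := 1) (by ring)
    (ne_of_gt hpos) h1
  have hP : 0 < (x ^ 2 - x + 1) := phi6_pos x hx
  refine mul_le_mul_of_nonneg_left (le_trans (Int.le_of_dvd (by positivity) h2) ?_) hP.le
  norm_num

theorem smallE6_1 : ((List.range 13).all fun q => Nat.ble q 1 ||
    (q ^ 36 * ((q ^ 2 - 1) * (q ^ 5 - 1) * (q ^ 6 - 1) * (q ^ 8 - 1) * (q ^ 9 - 1) * (q ^ 12 - 1))) % (q ^ 11 + q ^ 8 + q ^ 7 + q ^ 5 + q ^ 4 + q - 1) != 0) = true := by decide +kernel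

theorem not_dvdE6_1 (q : ℕ) (hq : IsPrimePow q) :
    ¬ (q ^ 11 + q ^ 8 + q ^ 7 + q ^ 5 + q ^ 4 + q - 1) ∣ q ^ 36 * ((q ^ 2 - 1) * (q ^ 5 - 1) * (q ^ 6 - 1) * (q ^ 8 - 1) * (q ^ 9 - 1) * (q ^ 12 - 1)) := by
  intro h
  have h2 := hq.two_le
  rcases Nat.lt_or_ge q 13 with hs | hl
  · have := List.all_eq_true.1 smallE6_1 q (List.mem_range.2 hs)
    simp only [Bool.or_eq_true, bne_iff_ne, Nat.ble_eq, beq_iff_eq] at this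
    have hm := Nat.mod_eq_zero_of_dvd h
    omega
  · have hle : 1 ≤ q ^ 11 + q ^ 8 + q ^ 7 + q ^ 5 + q ^ 4 + q := le_trans (by omega) (Nat.le_add_left q _)
    have h' := qpart (j := 1) (w := q ^ 10 + q ^ 7 + q ^ 6 + q ^ 4 + q ^ 3 + 1) hq (by norm_num) (by omega)
      (by rw [Nat.sub_add_cancel hle]; ring) h
    have h1 : ∀ n : ℕ, 1 ≤ q ^ n := fun n => Nat.one_le_pow _ _ (by omega)
    have hz := Int.natCast_dvd_natCast.2 h'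
    simp only [Nat.cast_mul, Nat.cast_sub (h1 _), Nat.cast_sub hle, Nat.cast_add, Nat.cast_pow, Nat.cast_ofNat,
      Nat.cast_one] at hz
    generalize hx : (q : ℤ) = x at hz
    have hb := boundE6_1 x (by omega) hz
    have hxl : (13 : ℤ) ≤ x := by omega
    have hp := pow_le_pow_left₀ (by norm_num : (0 : ℤ) ≤ 13) hxl 9
    have hlow := f_ge_E6 x (by omega) 1 (by norm_num)
    have hP := phi6_le x (by omega)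
    have hxd : (0 : ℤ) < x ^ 2 := by positivity
    refine absurd (le_trans hlow (le_trans hb (mul_le_mul_of_nonneg_right hP (by norm_num)))) (not_le.2 ?_)
    rw [show x ^ 11 = x ^ 2 * x ^ 9 by ring, show 2 * x ^ 2 * 3240000000 = x ^ 2 * 6480000000 by ring]
    exact mul_lt_mul_of_pos_left (lt_of_lt_of_le (by norm_num) hp) hxd

theorem boundE6_2 (x : ℤ) (hx : 2 ≤ x)
    (h : (x ^ 11 + x ^ 8 + x ^ 7 + x ^ 5 + x ^ 4 + x - 2) ∣ 2 * ((x ^ 2 - 1) * (x ^ 5 - 1) * (x ^ 6 - 1) * (x ^ 8 - 1) * (x ^ 9 - 1) * (x ^ 12 - 1))) :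
    (x ^ 11 + x ^ 8 + x ^ 7 + x ^ 5 + x ^ 4 + x - 2) ≤ (x ^ 2 + 1) * 1170210816000 := by
  have h1 : (x ^ 11 + x ^ 8 + x ^ 7 + x ^ 5 + x ^ 4 + x - 2) ∣ ((x - 1) ^ 6 * ((x + 1) ^ 4 * ((x ^ 2 + x + 1) ^ 3 * ((x ^ 4 + x ^ 3 + x ^ 2 + x + 1) ^ 1 * ((x ^ 2 - x + 1) ^ 2 * ((x ^ 4 + 1) ^ 1 * ((x ^ 6 + x ^ 3 + 1) ^ 1 * ((x ^ 4 - x ^ 2 + 1) ^ 1 * ((x ^ 2 + 1) ^ 2 * 1))))))))) * 2 := by
    rw [factorE6] at h
    generalize (x - 1) = p1 at h ⊢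
    generalize (x + 1) = p2 at h ⊢
    generalize (x ^ 2 + x + 1) = p3 at h ⊢
    generalize (x ^ 2 + 1) = p4 at h ⊢
    generalize (x ^ 4 + x ^ 3 + x ^ 2 + x + 1) = p5 at h ⊢
    generalize (x ^ 2 - x + 1) = p6 at h ⊢
    generalize (x ^ 4 + 1) = p8 at h ⊢
    generalize (x ^ 6 + x ^ 3 + 1) = p9 at h ⊢
    generalize (x ^ 4 - x ^ 2 + 1) = p12 at h ⊢
    convert h using 1
    ring
  have h1 := strip (a := 1) (b := -x ^ 10 - x ^ 9 - x ^ 8 - 2 * x ^ 7 - 3 * x ^ 6 - 3 * x ^ 5 - 4 * x ^ 4 - 5 * x ^ 3 - 5 * x ^ 2 - 5 * x - 6) (L := 4) (by ring) h1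
  have h1 := strip (a := -1) (b := x ^ 10 - x ^ 9 + x ^ 8 + x ^ 6 - x ^ 5 + 2 * x ^ 4 - x ^ 3 + x ^ 2 - x + 2) (L := 4) (by ring) h1
  have h1 := strip (a := -1) (b := x ^ 9 - x ^ 8 + 2 * x ^ 6 - x ^ 5 - x ^ 4 + 3 * x ^ 3 - x ^ 2 - 2 * x + 3) (L := 5) (by ring) h1
  have h1 := strip (a := -x ^ 3 - 3 * x ^ 2 - 7 * x - 15) (b := x ^ 10 + 2 * x ^ 9 + 4 * x ^ 8 + 9 * x ^ 7 - 12 * x ^ 6 + 7 * x ^ 5 + 15 * x ^ 4 + 1) (L := 31) (by ring) h1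
  have h1 := strip (a := -1) (b := x ^ 9 + x ^ 8 + x ^ 5 + x ^ 4 + x ^ 3 + x ^ 2 - 1) (L := 1) (by ring) h1
  have h1 := strip (a := -1) (b := x ^ 7 + x ^ 4 + x) (L := 2) (by ring) h1
  have h1 := strip (a := -1) (b := x ^ 5 + x) (L := 2) (by ring) h1
  have h1 := strip (a := -1) (b := x ^ 7 + x ^ 5 + x ^ 4 + x ^ 3 + x ^ 2 + x + 1) (L := 3) (by ring) h1
  have hpos : 0 < (x ^ 11 + x ^ 8 + x ^ 7 + x ^ 5 + x ^ 4 + x - 2) := f_pos_E6 x hx 2 (by norm_num)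
  have hf : (x ^ 11 + x ^ 8 + x ^ 7 + x ^ 5 + x ^ 4 + x - 2) = (x ^ 2 + 1) * (x ^ 9 - x ^ 7 + x ^ 6 + 2 * x ^ 5 - x ^ 4 - x ^ 3 + 2 * x ^ 2 + x - 2) := by ring
  rw [hf] at h1 hpos ⊢
  have h2 := strip_keep (a := -x - 1) (b := x ^ 8 + x ^ 7 - 2 * x ^ 6 - x ^ 5 + 5 * x ^ 4 + 2 * x ^ 3 - 7 * x ^ 2 - x + 10) (L := 12) (n := 1) (by ring)
    (ne_of_gt hpos) h1
  have hP : 0 < (x ^ 2 + 1) := phi4_pos x hx
  refine mul_le_mul_of_nonneg_left (le_trans (Int.le_of_dvd (by positivity) h2) ?_) hP.le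
  norm_num

theorem smallE6_2 : ((List.range 24).all fun q => Nat.ble q 1 || q == 2 ||
    (q ^ 36 * ((q ^ 2 - 1) * (q ^ 5 - 1) * (q ^ 6 - 1) * (q ^ 8 - 1) * (q ^ 9 - 1) * (q ^ 12 - 1))) % (q ^ 11 + q ^ 8 + q ^ 7 + q ^ 5 + q ^ 4 + q - 2) != 0) = true := by decide +kernel

theorem not_dvdE6_2 (q : ℕ) (hq : IsPrimePow q) (hex : q ≠ 2) :
    ¬ (q ^ 11 + q ^ 8 + q ^ 7 + q ^ 5 + q ^ 4 + q - 2) ∣ q ^ 36 * ((q ^ 2 - 1) * (q ^ 5 - 1) * (q ^ 6 - 1) * (q ^ 8 - 1) * (q ^ 9 - 1) * (q ^ 12 - 1)) := by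
  intro h
  have h2 := hq.two_le
  rcases Nat.lt_or_ge q 24 with hs | hl
  · have := List.all_eq_true.1 smallE6_2 q (List.mem_range.2 hs)
    simp only [Bool.or_eq_true, bne_iff_ne, Nat.ble_eq, beq_iff_eq] at this
    have hm := Nat.mod_eq_zero_of_dvd h
    omega
  · have hle : 2 ≤ q ^ 11 + q ^ 8 + q ^ 7 + q ^ 5 + q ^ 4 + q := le_trans (by omega) (Nat.le_add_left q _)
    have h' := qpart (j := 2) (w := q ^ 10 + q ^ 7 + q ^ 6 + q ^ 4 + q ^ 3 + 1) hq (by norm_num) (by omega)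
      (by rw [Nat.sub_add_cancel hle]; ring) h
    have h1 : ∀ n : ℕ, 1 ≤ q ^ n := fun n => Nat.one_le_pow _ _ (by omega)
    have hz := Int.natCast_dvd_natCast.2 h'
    simp only [Nat.cast_mul, Nat.cast_sub (h1 _), Nat.cast_sub hle, Nat.cast_add, Nat.cast_pow, Nat.cast_ofNat,
      Nat.cast_one] at hz
    generalize hx : (q : ℤ) = x at hz
    have hb := boundE6_2 x (by omega) hz
    have hxl : (24 : ℤ) ≤ x := by omega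
    have hp := pow_le_pow_left₀ (by norm_num : (0 : ℤ) ≤ 24) hxl 9
    have hlow := f_ge_E6 x (by omega) 2 (by norm_num)
    have hP := phi4_le x (by omega)
    have hxd : (0 : ℤ) < x ^ 2 := by positivity
    refine absurd (le_trans hlow (le_trans hb (mul_le_mul_of_nonneg_right hP (by norm_num)))) (not_le.2 ?_)
    rw [show x ^ 11 = x ^ 2 * x ^ 9 by ring, show 2 * x ^ 2 * 1170210816000 = x ^ 2 * 2340421632000 by ring]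
    exact mul_lt_mul_of_pos_left (lt_of_lt_of_le (by norm_num) hp) hxd

theorem boundE6_3 (x : ℤ) (hx : 2 ≤ x)
    (h : (x ^ 11 + x ^ 8 + x ^ 7 + x ^ 5 + x ^ 4 + x - 3) ∣ 3 * ((x ^ 2 - 1) * (x ^ 5 - 1) * (x ^ 6 - 1) * (x ^ 8 - 1) * (x ^ 9 - 1) * (x ^ 12 - 1))) :
    (x ^ 11 + x ^ 8 + x ^ 7 + x ^ 5 + x ^ 4 + x - 3) ≤ 5144348880000 := by
  have h1 : (x ^ 11 + x ^ 8 + x ^ 7 + x ^ 5 + x ^ 4 + x - 3) ∣ ((x - 1) ^ 6 * ((x + 1) ^ 4 * ((x ^ 2 + x + 1) ^ 3 * ((x ^ 2 + 1) ^ 2 * ((x ^ 4 + x ^ 3 + x ^ 2 + x + 1) ^ 1 * ((x ^ 2 - x + 1) ^ 2 * ((x ^ 4 + 1) ^ 1 * ((x ^ 6 + x ^ 3 + 1) ^ 1 * ((x ^ 4 - x ^ 2 + 1) ^ 1 * 1))))))))) * 3 := by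
    rw [factorE6] at h
    generalize (x - 1) = p1 at h ⊢
    generalize (x + 1) = p2 at h ⊢
    generalize (x ^ 2 + x + 1) = p3 at h ⊢
    generalize (x ^ 2 + 1) = p4 at h ⊢
    generalize (x ^ 4 + x ^ 3 + x ^ 2 + x + 1) = p5 at h ⊢
    generalize (x ^ 2 - x + 1) = p6 at h ⊢
    generalize (x ^ 4 + 1) = p8 at h ⊢
    generalize (x ^ 6 + x ^ 3 + 1) = p9 at h ⊢
    generalize (x ^ 4 - x ^ 2 + 1) = p12 at h ⊢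
    convert h using 1
    ring
  have h1 := strip (a := 1) (b := -x ^ 10 - x ^ 9 - x ^ 8 - 2 * x ^ 7 - 3 * x ^ 6 - 3 * x ^ 5 - 4 * x ^ 4 - 5 * x ^ 3 - 5 * x ^ 2 - 5 * x - 6) (L := 3) (by ring) h1
  have h1 := strip (a := -1) (b := x ^ 10 - x ^ 9 + x ^ 8 + x ^ 6 - x ^ 5 + 2 * x ^ 4 - x ^ 3 + x ^ 2 - x + 2) (L := 5) (by ring) h1
  have h1 := strip (a := -1) (b := x ^ 9 - x ^ 8 + 2 * x ^ 6 - x ^ 5 - x ^ 4 + 3 * x ^ 3 - x ^ 2 - 2 * x + 3) (L := 6) (by ring) h1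
  have h1 := strip (a := -1) (b := x ^ 9 - x ^ 7 + x ^ 6 + 2 * x ^ 5 - x ^ 4 - x ^ 3 + 2 * x ^ 2 + x - 2) (L := 1) (by ring) h1
  have h1 := strip (a := -x ^ 3 - 4 * x ^ 2 - 13 * x - 40) (b := x ^ 10 + 3 * x ^ 9 + 9 * x ^ 8 + 28 * x ^ 7 - 36 * x ^ 6 + 13 * x ^ 5 + 40 * x ^ 4 + 1) (L := 121) (by ring) h1
  have h1 := strip (a := -1) (b := x ^ 9 + x ^ 8 + x ^ 5 + x ^ 4 + x ^ 3 + x ^ 2 - 1) (L := 2) (by ring) h1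
  have h1 := strip (a := -1) (b := x ^ 7 + x ^ 4 + x) (L := 3) (by ring) h1
  have h1 := strip (a := -1) (b := x ^ 5 + x) (L := 3) (by ring) h1
  have h1 := strip (a := -1) (b := x ^ 7 + x ^ 5 + x ^ 4 + x ^ 3 + x ^ 2 + x + 1) (L := 4) (by ring) h1
  have hpos : 0 < (x ^ 11 + x ^ 8 + x ^ 7 + x ^ 5 + x ^ 4 + x - 3) := f_pos_E6 x hx 3 (by norm_num)
  refine le_trans (Int.le_of_dvd (by norm_num) h1) ?_
  norm_num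

theorem smallE6_3 : ((List.range 15).all fun q => Nat.ble q 1 ||
    (q ^ 36 * ((q ^ 2 - 1) * (q ^ 5 - 1) * (q ^ 6 - 1) * (q ^ 8 - 1) * (q ^ 9 - 1) * (q ^ 12 - 1))) % (q ^ 11 + q ^ 8 + q ^ 7 + q ^ 5 + q ^ 4 + q - 3) != 0) = true := by decide +kernel

theorem not_dvdE6_3 (q : ℕ) (hq : IsPrimePow q) :
    ¬ (q ^ 11 + q ^ 8 + q ^ 7 + q ^ 5 + q ^ 4 + q - 3) ∣ q ^ 36 * ((q ^ 2 - 1) * (q ^ 5 - 1) * (q ^ 6 - 1) * (q ^ 8 - 1) * (q ^ 9 - 1) * (q ^ 12 - 1)) := by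
  intro h
  have h2 := hq.two_le
  rcases Nat.lt_or_ge q 15 with hs | hl
  · have := List.all_eq_true.1 smallE6_3 q (List.mem_range.2 hs)
    simp only [Bool.or_eq_true, bne_iff_ne, Nat.ble_eq, beq_iff_eq] at this
    have hm := Nat.mod_eq_zero_of_dvd h
    omega
  · have hle : 3 ≤ q ^ 11 + q ^ 8 + q ^ 7 + q ^ 5 + q ^ 4 + q := le_trans (by omega) (Nat.le_add_left q _)
    have h' := qpart (j := 3) (w := q ^ 10 + q ^ 7 + q ^ 6 + q ^ 4 + q ^ 3 + 1) hq (by norm_num) (by omega)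
      (by rw [Nat.sub_add_cancel hle]; ring) h
    have h1 : ∀ n : ℕ, 1 ≤ q ^ n := fun n => Nat.one_le_pow _ _ (by omega)
    have hz := Int.natCast_dvd_natCast.2 h'
    simp only [Nat.cast_mul, Nat.cast_sub (h1 _), Nat.cast_sub hle, Nat.cast_add, Nat.cast_pow, Nat.cast_ofNat,
      Nat.cast_one] at hz
    generalize hx : (q : ℤ) = x at hz
    have hb := boundE6_3 x (by omega) hz
    have hxl : (15 : ℤ) ≤ x := by omega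
    have hp := pow_le_pow_left₀ (by norm_num : (0 : ℤ) ≤ 15) hxl 11
    have hlow := f_ge_E6 x (by omega) 3 (by norm_num)
    exact absurd (le_trans hlow hb) (not_le.2 (lt_of_lt_of_le (by norm_num) hp))

theorem boundE6_4 (x : ℤ) (hx : 2 ≤ x)
    (h : (x ^ 11 + x ^ 8 + x ^ 7 + x ^ 5 + x ^ 4 + x - 4) ∣ 4 * ((x ^ 2 - 1) * (x ^ 5 - 1) * (x ^ 6 - 1) * (x ^ 8 - 1) * (x ^ 9 - 1) * (x ^ 12 - 1))) :
    (x ^ 11 + x ^ 8 + x ^ 7 + x ^ 5 + x ^ 4 + x - 4) ≤ 111759886909440 := by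
  have h1 : (x ^ 11 + x ^ 8 + x ^ 7 + x ^ 5 + x ^ 4 + x - 4) ∣ ((x - 1) ^ 6 * ((x + 1) ^ 4 * ((x ^ 2 + x + 1) ^ 3 * ((x ^ 2 + 1) ^ 2 * ((x ^ 4 + x ^ 3 + x ^ 2 + x + 1) ^ 1 * ((x ^ 2 - x + 1) ^ 2 * ((x ^ 4 + 1) ^ 1 * ((x ^ 6 + x ^ 3 + 1) ^ 1 * ((x ^ 4 - x ^ 2 + 1) ^ 1 * 1))))))))) * 4 := by
    rw [factorE6] at h
    generalize (x - 1) = p1 at h ⊢
    generalize (x + 1) = p2 at h ⊢
    generalize (x ^ 2 + x + 1) = p3 at h ⊢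
    generalize (x ^ 2 + 1) = p4 at h ⊢
    generalize (x ^ 4 + x ^ 3 + x ^ 2 + x + 1) = p5 at h ⊢
    generalize (x ^ 2 - x + 1) = p6 at h ⊢
    generalize (x ^ 4 + 1) = p8 at h ⊢
    generalize (x ^ 6 + x ^ 3 + 1) = p9 at h ⊢
    generalize (x ^ 4 - x ^ 2 + 1) = p12 at h ⊢
    convert h using 1
    ring
  have h1 := strip (a := 1) (b := -x ^ 10 - x ^ 9 - x ^ 8 - 2 * x ^ 7 - 3 * x ^ 6 - 3 * x ^ 5 - 4 * x ^ 4 - 5 * x ^ 3 - 5 * x ^ 2 - 5 * x - 6) (L := 2) (by ring) h1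
  have h1 := strip (a := -1) (b := x ^ 10 - x ^ 9 + x ^ 8 + x ^ 6 - x ^ 5 + 2 * x ^ 4 - x ^ 3 + x ^ 2 - x + 2) (L := 6) (by ring) h1
  have h1 := strip (a := -1) (b := x ^ 9 - x ^ 8 + 2 * x ^ 6 - x ^ 5 - x ^ 4 + 3 * x ^ 3 - x ^ 2 - 2 * x + 3) (L := 7) (by ring) h1
  have h1 := strip (a := -1) (b := x ^ 9 - x ^ 7 + x ^ 6 + 2 * x ^ 5 - x ^ 4 - x ^ 3 + 2 * x ^ 2 + x - 2) (L := 2) (by ring) h1
  have h1 := strip (a := -x ^ 3 - 5 * x ^ 2 - 21 * x - 85) (b := x ^ 10 + 4 * x ^ 9 + 16 * x ^ 8 + 65 * x ^ 7 - 80 * x ^ 6 + 21 * x ^ 5 + 85 * x ^ 4 + 1) (L := 341) (by ring) h1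
  have h1 := strip (a := -1) (b := x ^ 9 + x ^ 8 + x ^ 5 + x ^ 4 + x ^ 3 + x ^ 2 - 1) (L := 3) (by ring) h1
  have h1 := strip (a := -1) (b := x ^ 7 + x ^ 4 + x) (L := 4) (by ring) h1
  have h1 := strip (a := -1) (b := x ^ 5 + x) (L := 4) (by ring) h1
  have h1 := strip (a := -1) (b := x ^ 7 + x ^ 5 + x ^ 4 + x ^ 3 + x ^ 2 + x + 1) (L := 5) (by ring) h1
  have hpos : 0 < (x ^ 11 + x ^ 8 + x ^ 7 + x ^ 5 + x ^ 4 + x - 4) := f_pos_E6 x hx 4 (by norm_num)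
  refine le_trans (Int.le_of_dvd (by norm_num) h1) ?_
  norm_num

theorem smallE6_4 : ((List.range 19).all fun q => Nat.ble q 1 || q == 4 ||
    (q ^ 36 * ((q ^ 2 - 1) * (q ^ 5 - 1) * (q ^ 6 - 1) * (q ^ 8 - 1) * (q ^ 9 - 1) * (q ^ 12 - 1))) % (q ^ 11 + q ^ 8 + q ^ 7 + q ^ 5 + q ^ 4 + q - 4) != 0) = true := by decide +kernel

theorem not_dvdE6_4 (q : ℕ) (hq : IsPrimePow q) (hex : q ≠ 4) :
    ¬ (q ^ 11 + q ^ 8 + q ^ 7 + q ^ 5 + q ^ 4 + q - 4) ∣ q ^ 36 * ((q ^ 2 - 1) * (q ^ 5 - 1) * (q ^ 6 - 1) * (q ^ 8 - 1) * (q ^ 9 - 1) * (q ^ 12 - 1)) := by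
  intro h
  have h2 := hq.two_le
  rcases Nat.lt_or_ge q 19 with hs | hl
  · have := List.all_eq_true.1 smallE6_4 q (List.mem_range.2 hs)
    simp only [Bool.or_eq_true, bne_iff_ne, Nat.ble_eq, beq_iff_eq] at this
    have hm := Nat.mod_eq_zero_of_dvd h
    omega
  · have hle : 4 ≤ q ^ 11 + q ^ 8 + q ^ 7 + q ^ 5 + q ^ 4 + q := le_trans (by omega) (Nat.le_add_left q _)
    have h' := qpart (j := 4) (w := q ^ 10 + q ^ 7 + q ^ 6 + q ^ 4 + q ^ 3 + 1) hq (by norm_num) (by omega)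
      (by rw [Nat.sub_add_cancel hle]; ring) h
    have h1 : ∀ n : ℕ, 1 ≤ q ^ n := fun n => Nat.one_le_pow _ _ (by omega)
    have hz := Int.natCast_dvd_natCast.2 h'
    simp only [Nat.cast_mul, Nat.cast_sub (h1 _), Nat.cast_sub hle, Nat.cast_add, Nat.cast_pow, Nat.cast_ofNat,
      Nat.cast_one] at hz
    generalize hx : (q : ℤ) = x at hz
    have hb := boundE6_4 x (by omega) hz
    have hxl : (19 : ℤ) ≤ x := by omega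
    have hp := pow_le_pow_left₀ (by norm_num : (0 : ℤ) ≤ 19) hxl 11
    have hlow := f_ge_E6 x (by omega) 4 (by norm_num)
    exact absurd (le_trans hlow hb) (not_le.2 (lt_of_lt_of_le (by norm_num) hp))

theorem boundE6_5 (x : ℤ) (hx : 2 ≤ x)
    (h : (x ^ 11 + x ^ 8 + x ^ 7 + x ^ 5 + x ^ 4 + x - 5) ∣ 5 * ((x ^ 2 - 1) * (x ^ 5 - 1) * (x ^ 6 - 1) * (x ^ 8 - 1) * (x ^ 9 - 1) * (x ^ 12 - 1))) :
    (x ^ 11 + x ^ 8 + x ^ 7 + x ^ 5 + x ^ 4 + x - 5) ≤ 103690008576000 := by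
  have h1 : (x ^ 11 + x ^ 8 + x ^ 7 + x ^ 5 + x ^ 4 + x - 5) ∣ ((x - 1) ^ 6 * ((x + 1) ^ 4 * ((x ^ 2 + x + 1) ^ 3 * ((x ^ 2 + 1) ^ 2 * ((x ^ 4 + x ^ 3 + x ^ 2 + x + 1) ^ 1 * ((x ^ 2 - x + 1) ^ 2 * ((x ^ 4 + 1) ^ 1 * ((x ^ 6 + x ^ 3 + 1) ^ 1 * ((x ^ 4 - x ^ 2 + 1) ^ 1 * 1))))))))) * 5 := by
    rw [factorE6] at h
    generalize (x - 1) = p1 at h ⊢
    generalize (x + 1) = p2 at h ⊢
    generalize (x ^ 2 + x + 1) = p3 at h ⊢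
    generalize (x ^ 2 + 1) = p4 at h ⊢
    generalize (x ^ 4 + x ^ 3 + x ^ 2 + x + 1) = p5 at h ⊢
    generalize (x ^ 2 - x + 1) = p6 at h ⊢
    generalize (x ^ 4 + 1) = p8 at h ⊢
    generalize (x ^ 6 + x ^ 3 + 1) = p9 at h ⊢
    generalize (x ^ 4 - x ^ 2 + 1) = p12 at h ⊢
    convert h using 1
    ring
  have h1 := strip (a := 1) (b := -x ^ 10 - x ^ 9 - x ^ 8 - 2 * x ^ 7 - 3 * x ^ 6 - 3 * x ^ 5 - 4 * x ^ 4 - 5 * x ^ 3 - 5 * x ^ 2 - 5 * x - 6) (L := 1) (by ring) h1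
  have h1 := strip (a := -1) (b := x ^ 10 - x ^ 9 + x ^ 8 + x ^ 6 - x ^ 5 + 2 * x ^ 4 - x ^ 3 + x ^ 2 - x + 2) (L := 7) (by ring) h1
  have h1 := strip (a := -1) (b := x ^ 9 - x ^ 8 + 2 * x ^ 6 - x ^ 5 - x ^ 4 + 3 * x ^ 3 - x ^ 2 - 2 * x + 3) (L := 8) (by ring) h1
  have h1 := strip (a := -1) (b := x ^ 9 - x ^ 7 + x ^ 6 + 2 * x ^ 5 - x ^ 4 - x ^ 3 + 2 * x ^ 2 + x - 2) (L := 3) (by ring) h1
  have h1 := strip (a := -x ^ 3 - 6 * x ^ 2 - 31 * x - 156) (b := x ^ 10 + 5 * x ^ 9 + 25 * x ^ 8 + 126 * x ^ 7 - 150 * x ^ 6 + 31 * x ^ 5 + 156 * x ^ 4 + 1) (L := 781) (by ring) h1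
  have h1 := strip (a := -1) (b := x ^ 9 + x ^ 8 + x ^ 5 + x ^ 4 + x ^ 3 + x ^ 2 - 1) (L := 4) (by ring) h1
  have h1 := strip (a := -1) (b := x ^ 7 + x ^ 4 + x) (L := 5) (by ring) h1
  have h1 := strip (a := -1) (b := x ^ 5 + x) (L := 5) (by ring) h1
  have h1 := strip (a := -1) (b := x ^ 7 + x ^ 5 + x ^ 4 + x ^ 3 + x ^ 2 + x + 1) (L := 6) (by ring) h1
  have hpos : 0 < (x ^ 11 + x ^ 8 + x ^ 7 + x ^ 5 + x ^ 4 + x - 5) := f_pos_E6 x hx 5 (by norm_num)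
  refine le_trans (Int.le_of_dvd (by norm_num) h1) ?_
  norm_num

theorem smallE6_5 : ((List.range 19).all fun q => Nat.ble q 1 ||
    (q ^ 36 * ((q ^ 2 - 1) * (q ^ 5 - 1) * (q ^ 6 - 1) * (q ^ 8 - 1) * (q ^ 9 - 1) * (q ^ 12 - 1))) % (q ^ 11 + q ^ 8 + q ^ 7 + q ^ 5 + q ^ 4 + q - 5) != 0) = true := by decide +kernel

theorem not_dvdE6_5 (q : ℕ) (hq : IsPrimePow q) :
    ¬ (q ^ 11 + q ^ 8 + q ^ 7 + q ^ 5 + q ^ 4 + q - 5) ∣ q ^ 36 * ((q ^ 2 - 1) * (q ^ 5 - 1) * (q ^ 6 - 1) * (q ^ 8 - 1) * (q ^ 9 - 1) * (q ^ 12 - 1)) := by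
  intro h
  have h2 := hq.two_le
  rcases Nat.lt_or_ge q 19 with hs | hl
  · have := List.all_eq_true.1 smallE6_5 q (List.mem_range.2 hs)
    simp only [Bool.or_eq_true, bne_iff_ne, Nat.ble_eq, beq_iff_eq] at this
    have hm := Nat.mod_eq_zero_of_dvd h
    omega
  · have hle : 5 ≤ q ^ 11 + q ^ 8 + q ^ 7 + q ^ 5 + q ^ 4 + q := le_trans (by omega) (Nat.le_add_left q _)
    have h' := qpart (j := 5) (w := q ^ 10 + q ^ 7 + q ^ 6 + q ^ 4 + q ^ 3 + 1) hq (by norm_num) (by omega)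
      (by rw [Nat.sub_add_cancel hle]; ring) h
    have h1 : ∀ n : ℕ, 1 ≤ q ^ n := fun n => Nat.one_le_pow _ _ (by omega)
    have hz := Int.natCast_dvd_natCast.2 h'
    simp only [Nat.cast_mul, Nat.cast_sub (h1 _), Nat.cast_sub hle, Nat.cast_add, Nat.cast_pow, Nat.cast_ofNat,
      Nat.cast_one] at hz
    generalize hx : (q : ℤ) = x at hz
    have hb := boundE6_5 x (by omega) hz
    have hxl : (19 : ℤ) ≤ x := by omega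
    have hp := pow_le_pow_left₀ (by norm_num : (0 : ℤ) ≤ 19) hxl 11
    have hlow := f_ge_E6 x (by omega) 5 (by norm_num)
    exact absurd (le_trans hlow hb) (not_le.2 (lt_of_lt_of_le (by norm_num) hp))

theorem boundE6_6 (x : ℤ) (hx : 2 ≤ x)
    (h : (x ^ 11 + x ^ 8 + x ^ 7 + x ^ 5 + x ^ 4 + x - 6) ∣ 6 * ((x ^ 2 - 1) * (x ^ 5 - 1) * (x ^ 6 - 1) * (x ^ 8 - 1) * (x ^ 9 - 1) * (x ^ 12 - 1))) :
    (x ^ 11 + x ^ 8 + x ^ 7 + x ^ 5 + x ^ 4 + x - 6) ≤ (x - 1) * 169801747712364773376000 := by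
  have h1 : (x ^ 11 + x ^ 8 + x ^ 7 + x ^ 5 + x ^ 4 + x - 6) ∣ ((x + 1) ^ 4 * ((x ^ 2 + x + 1) ^ 3 * ((x ^ 2 + 1) ^ 2 * ((x ^ 4 + x ^ 3 + x ^ 2 + x + 1) ^ 1 * ((x ^ 2 - x + 1) ^ 2 * ((x ^ 4 + 1) ^ 1 * ((x ^ 6 + x ^ 3 + 1) ^ 1 * ((x ^ 4 - x ^ 2 + 1) ^ 1 * ((x - 1) ^ 6 * 1))))))))) * 6 := by
    rw [factorE6] at h
    generalize (x - 1) = p1 at h ⊢
    generalize (x + 1) = p2 at h ⊢
    generalize (x ^ 2 + x + 1) = p3 at h ⊢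
    generalize (x ^ 2 + 1) = p4 at h ⊢
    generalize (x ^ 4 + x ^ 3 + x ^ 2 + x + 1) = p5 at h ⊢
    generalize (x ^ 2 - x + 1) = p6 at h ⊢
    generalize (x ^ 4 + 1) = p8 at h ⊢
    generalize (x ^ 6 + x ^ 3 + 1) = p9 at h ⊢
    generalize (x ^ 4 - x ^ 2 + 1) = p12 at h ⊢
    convert h using 1
    ring
  have h1 := strip (a := -1) (b := x ^ 10 - x ^ 9 + x ^ 8 + x ^ 6 - x ^ 5 + 2 * x ^ 4 - x ^ 3 + x ^ 2 - x + 2) (L := 8) (by ring) h1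
  have h1 := strip (a := -1) (b := x ^ 9 - x ^ 8 + 2 * x ^ 6 - x ^ 5 - x ^ 4 + 3 * x ^ 3 - x ^ 2 - 2 * x + 3) (L := 9) (by ring) h1
  have h1 := strip (a := -1) (b := x ^ 9 - x ^ 7 + x ^ 6 + 2 * x ^ 5 - x ^ 4 - x ^ 3 + 2 * x ^ 2 + x - 2) (L := 4) (by ring) h1
  have h1 := strip (a := -x ^ 3 - 7 * x ^ 2 - 43 * x - 259) (b := x ^ 10 + 6 * x ^ 9 + 36 * x ^ 8 + 217 * x ^ 7 - 252 * x ^ 6 + 43 * x ^ 5 + 259 * x ^ 4 + 1) (L := 1555) (by ring) h1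
  have h1 := strip (a := -1) (b := x ^ 9 + x ^ 8 + x ^ 5 + x ^ 4 + x ^ 3 + x ^ 2 - 1) (L := 5) (by ring) h1
  have h1 := strip (a := -1) (b := x ^ 7 + x ^ 4 + x) (L := 6) (by ring) h1
  have h1 := strip (a := -1) (b := x ^ 5 + x) (L := 6) (by ring) h1
  have h1 := strip (a := -1) (b := x ^ 7 + x ^ 5 + x ^ 4 + x ^ 3 + x ^ 2 + x + 1) (L := 7) (by ring) h1
  have hpos : 0 < (x ^ 11 + x ^ 8 + x ^ 7 + x ^ 5 + x ^ 4 + x - 6) := f_pos_E6 x hx 6 (by norm_num)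
  have hf : (x ^ 11 + x ^ 8 + x ^ 7 + x ^ 5 + x ^ 4 + x - 6) = (x - 1) * (x ^ 10 + x ^ 9 + x ^ 8 + 2 * x ^ 7 + 3 * x ^ 6 + 3 * x ^ 5 + 4 * x ^ 4 + 5 * x ^ 3 + 5 * x ^ 2 + 5 * x + 6) := by ring
  rw [hf] at h1 hpos ⊢
  have h2 := strip_keep (a := 1) (b := -x ^ 9 - 2 * x ^ 8 - 3 * x ^ 7 - 5 * x ^ 6 - 8 * x ^ 5 - 11 * x ^ 4 - 15 * x ^ 3 - 20 * x ^ 2 - 25 * x - 30) (L := 36) (n := 5) (by ring)
    (ne_of_gt hpos) h1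
  have hP : 0 < (x - 1) := phi1_pos x hx
  refine mul_le_mul_of_nonneg_left (le_trans (Int.le_of_dvd (by positivity) h2) ?_) hP.le
  norm_num

theorem smallE6_6 : ((List.range 226).all fun q => Nat.ble q 1 ||
    (q ^ 36 * ((q ^ 2 - 1) * (q ^ 5 - 1) * (q ^ 6 - 1) * (q ^ 8 - 1) * (q ^ 9 - 1) * (q ^ 12 - 1))) % (q ^ 11 + q ^ 8 + q ^ 7 + q ^ 5 + q ^ 4 + q - 6) != 0) = true := by decide +kernel

theorem not_dvdE6_6 (q : ℕ) (hq : IsPrimePow q) :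
    ¬ (q ^ 11 + q ^ 8 + q ^ 7 + q ^ 5 + q ^ 4 + q - 6) ∣ q ^ 36 * ((q ^ 2 - 1) * (q ^ 5 - 1) * (q ^ 6 - 1) * (q ^ 8 - 1) * (q ^ 9 - 1) * (q ^ 12 - 1)) := by
  intro h
  have h2 := hq.two_le
  rcases Nat.lt_or_ge q 226 with hs | hl
  · have := List.all_eq_true.1 smallE6_6 q (List.mem_range.2 hs)
    simp only [Bool.or_eq_true, bne_iff_ne, Nat.ble_eq, beq_iff_eq] at this
    have hm := Nat.mod_eq_zero_of_dvd h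
    omega
  · have hle : 6 ≤ q ^ 11 + q ^ 8 + q ^ 7 + q ^ 5 + q ^ 4 + q := le_trans (by omega) (Nat.le_add_left q _)
    have h' := qpart (j := 6) (w := q ^ 10 + q ^ 7 + q ^ 6 + q ^ 4 + q ^ 3 + 1) hq (by norm_num) (by omega)
      (by rw [Nat.sub_add_cancel hle]; ring) h
    have h1 : ∀ n : ℕ, 1 ≤ q ^ n := fun n => Nat.one_le_pow _ _ (by omega)
    have hz := Int.natCast_dvd_natCast.2 h'
    simp only [Nat.cast_mul, Nat.cast_sub (h1 _), Nat.cast_sub hle, Nat.cast_add, Nat.cast_pow, Nat.cast_ofNat,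
      Nat.cast_one] at hz
    generalize hx : (q : ℤ) = x at hz
    have hb := boundE6_6 x (by omega) hz
    have hxl : (226 : ℤ) ≤ x := by omega
    have hp := pow_le_pow_left₀ (by norm_num : (0 : ℤ) ≤ 226) hxl 10
    have hlow := f_ge_E6 x (by omega) 6 (by norm_num)
    have hP := phi1_le x (by omega)
    have hxd : (0 : ℤ) < x ^ 1 := by positivity
    refine absurd (le_trans hlow (le_trans hb (mul_le_mul_of_nonneg_right hP (by norm_num)))) (not_le.2 ?_)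
    rw [show x ^ 11 = x ^ 1 * x ^ 10 by ring, show 2 * x ^ 1 * 169801747712364773376000 = x ^ 1 * 339603495424729546752000 by ring]
    exact mul_lt_mul_of_pos_left (lt_of_lt_of_le (by norm_num) hp) hxd

end Cfsg.Agent.Lie.Chev.DegDiv
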