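import Cfsg.Agent.Lib.Lie.Chev.RootDegreeDivide

/-! The numbers just below the smallest degree of type E8 do not divide the order. -/

set_option autoImplicit false
set_option linter.unusedVariables false
set_option maxHeartbeats 1000000
set_option maxRecDepth 20000

namespace Cfsg.Agent.Lie.Chev.DegDiv

theorem factorE8 (x : ℤ) : (x ^ 2 - 1) * (x ^ 8 - 1) * (x ^ 12 - 1) * (x ^ 14 - 1) * (x ^ 18 - 1) * (x ^ 20 - 1) * (x ^ 24 - 1) * (x ^ 30 - 1) =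
    (x - 1) ^ 8 * (x + 1) ^ 8 * (x ^ 2 + x + 1) ^ 4 * (x ^ 2 + 1) ^ 4 * (x ^ 4 + x ^ 3 + x ^ 2 + x + 1) ^ 2 * (x ^ 2 - x + 1) ^ 4 * (x ^ 6 + x ^ 5 + x ^ 4 + x ^ 3 + x ^ 2 + x + 1) ^ 1 * (x ^ 4 + 1) ^ 2 * (x ^ 6 + x ^ 3 + 1) ^ 1 * (x ^ 4 - x ^ 3 + x ^ 2 - x + 1) ^ 2 * (x ^ 4 - x ^ 2 + 1) ^ 2 * (x ^ 6 - x ^ 5 + x ^ 4 - x ^ 3 + x ^ 2 - x + 1) ^ 1 * (x ^ 8 - x ^ 7 + x ^ 5 - x ^ 4 + x ^ 3 - x + 1) ^ 1 * (x ^ 6 - x ^ 3 + 1) ^ 1 * (x ^ 8 - x ^ 6 + x ^ 4 - x ^ 2 + 1) ^ 1 * (x ^ 8 - x ^ 4 + 1) ^ 1 * (x ^ 8 + x ^ 7 - x ^ 5 - x ^ 4 - x ^ 3 + x + 1) ^ 1 := by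
  rw [show x ^ 2 - 1 = (x - 1) * (x + 1) by ring]
  rw [show x ^ 8 - 1 = (x - 1) * (x + 1) * (x ^ 2 + 1) * (x ^ 4 + 1) by ring]
  rw [show x ^ 12 - 1 = (x - 1) * (x + 1) * (x ^ 2 + x + 1) * (x ^ 2 + 1) * (x ^ 2 - x + 1) * (x ^ 4 - x ^ 2 + 1) by ring]
  rw [show x ^ 14 - 1 = (x - 1) * (x + 1) * (x ^ 6 + x ^ 5 + x ^ 4 + x ^ 3 + x ^ 2 + x + 1) * (x ^ 6 - x ^ 5 + x ^ 4 - x ^ 3 + x ^ 2 - x + 1) by ring]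
  rw [show x ^ 18 - 1 = (x - 1) * (x + 1) * (x ^ 2 + x + 1) * (x ^ 2 - x + 1) * (x ^ 6 + x ^ 3 + 1) * (x ^ 6 - x ^ 3 + 1) by ring]
  rw [show x ^ 20 - 1 = (x - 1) * (x + 1) * (x ^ 2 + 1) * (x ^ 4 + x ^ 3 + x ^ 2 + x + 1) * (x ^ 4 - x ^ 3 + x ^ 2 - x + 1) * (x ^ 8 - x ^ 6 + x ^ 4 - x ^ 2 + 1) by ring]
  rw [show x ^ 24 - 1 = (x - 1) * (x + 1) * (x ^ 2 + x + 1) * (x ^ 2 + 1) * (x ^ 2 - x + 1) * (x ^ 4 + 1) * (x ^ 4 - x ^ 2 + 1) * (x ^ 8 - x ^ 4 + 1) by ring]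
  rw [show x ^ 30 - 1 = (x - 1) * (x + 1) * (x ^ 2 + x + 1) * (x ^ 4 + x ^ 3 + x ^ 2 + x + 1) * (x ^ 2 - x + 1) * (x ^ 4 - x ^ 3 + x ^ 2 - x + 1) * (x ^ 8 - x ^ 7 + x ^ 5 - x ^ 4 + x ^ 3 - x + 1) * (x ^ 8 + x ^ 7 - x ^ 5 - x ^ 4 - x ^ 3 + x + 1) by ring]
  generalize (x - 1) = p1
  generalize (x + 1) = p2
  generalize (x ^ 2 + x + 1) = p3
  generalize (x ^ 2 + 1) = p4
  generalize (x ^ 4 + x ^ 3 + x ^ 2 + x + 1) = p5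
  generalize (x ^ 2 - x + 1) = p6
  generalize (x ^ 6 + x ^ 5 + x ^ 4 + x ^ 3 + x ^ 2 + x + 1) = p7
  generalize (x ^ 4 + 1) = p8
  generalize (x ^ 6 + x ^ 3 + 1) = p9
  generalize (x ^ 4 - x ^ 3 + x ^ 2 - x + 1) = p10
  generalize (x ^ 4 - x ^ 2 + 1) = p12
  generalize (x ^ 6 - x ^ 5 + x ^ 4 - x ^ 3 + x ^ 2 - x + 1) = p14
  generalize (x ^ 8 - x ^ 7 + x ^ 5 - x ^ 4 + x ^ 3 - x + 1) = p15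
  generalize (x ^ 6 - x ^ 3 + 1) = p18
  generalize (x ^ 8 - x ^ 6 + x ^ 4 - x ^ 2 + 1) = p20
  generalize (x ^ 8 - x ^ 4 + 1) = p24
  generalize (x ^ 8 + x ^ 7 - x ^ 5 - x ^ 4 - x ^ 3 + x + 1) = p30
  ring

theorem boundE8_1 (x : ℤ) (hx : 2 ≤ x)
    (h : (x ^ 29 + x ^ 23 + x ^ 19 + x ^ 17 + x ^ 13 + x ^ 11 + x ^ 7 + x - 1) ∣ 1 * ((x ^ 2 - 1) * (x ^ 8 - 1) * (x ^ 12 - 1) * (x ^ 14 - 1) * (x ^ 18 - 1) * (x ^ 20 - 1) * (x ^ 24 - 1) * (x ^ 30 - 1))) :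
    (x ^ 29 + x ^ 23 + x ^ 19 + x ^ 17 + x ^ 13 + x ^ 11 + x ^ 7 + x - 1) ≤ (x ^ 8 - x ^ 7 + x ^ 5 - x ^ 4 + x ^ 3 - x + 1) * 90226649952742625988750 := by
  have h1 : (x ^ 29 + x ^ 23 + x ^ 19 + x ^ 17 + x ^ 13 + x ^ 11 + x ^ 7 + x - 1) ∣ ((x - 1) ^ 8 * ((x + 1) ^ 8 * ((x ^ 2 + x + 1) ^ 4 * ((x ^ 2 + 1) ^ 4 * ((x ^ 4 + x ^ 3 + x ^ 2 + x + 1) ^ 2 * ((x ^ 2 - x + 1) ^ 4 * ((x ^ 6 + x ^ 5 + x ^ 4 + x ^ 3 + x ^ 2 + x + 1) ^ 1 * ((x ^ 4 + 1) ^ 2 * ((x ^ 6 + x ^ 3 + 1) ^ 1 * ((x ^ 4 - x ^ 3 + x ^ 2 - x + 1) ^ 2 * ((x ^ 4 - x ^ 2 + 1) ^ 2 * ((x ^ 6 - x ^ 5 + x ^ 4 - x ^ 3 + x ^ 2 - x + 1) ^ 1 * ((x ^ 6 - x ^ 3 + 1) ^ 1 * ((x ^ 8 - x ^ 6 + x ^ 4 - x ^ 2 + 1) ^ 1 * ((x ^ 8 - x ^ 4 + 1) ^ 1 * ((x ^ 8 + x ^ 7 - x ^ 5 - x ^ 4 - x ^ 3 + x + 1) ^ 1 * ((x ^ 8 - x ^ 7 +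 x ^ 5 - x ^ 4 + x ^ 3 - x + 1) ^ 1 * 1))))))))))))))))) * 1 := by
    rw [factorE8] at h
    generalize (x - 1) = p1 at h ⊢
    generalize (x + 1) = p2 at h ⊢
    generalize (x ^ 2 + x + 1) = p3 at h ⊢
    generalize (x ^ 2 + 1) = p4 at h ⊢
    generalize (x ^ 4 + x ^ 3 + x ^ 2 + x + 1) = p5 at h ⊢
    generalize (x ^ 2 - x + 1) = p6 at h ⊢
    generalize (x ^ 6 + x ^ 5 + x ^ 4 + x ^ 3 + x ^ 2 + x + 1) = p7 at h ⊢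
    generalize (x ^ 4 + 1) = p8 at h ⊢
    generalize (x ^ 6 + x ^ 3 + 1) = p9 at h ⊢
    generalize (x ^ 4 - x ^ 3 + x ^ 2 - x + 1) = p10 at h ⊢
    generalize (x ^ 4 - x ^ 2 + 1) = p12 at h ⊢
    generalize (x ^ 6 - x ^ 5 + x ^ 4 - x ^ 3 + x ^ 2 - x + 1) = p14 at h ⊢
    generalize (x ^ 8 - x ^ 7 + x ^ 5 - x ^ 4 + x ^ 3 - x + 1) = p15 at h ⊢
    generalize (x ^ 6 - x ^ 3 + 1) = p18 at h ⊢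
    generalize (x ^ 8 - x ^ 6 + x ^ 4 - x ^ 2 + 1) = p20 at h ⊢
    generalize (x ^ 8 - x ^ 4 + 1) = p24 at h ⊢
    generalize (x ^ 8 + x ^ 7 - x ^ 5 - x ^ 4 - x ^ 3 + x + 1) = p30 at h ⊢
    convert h using 1
    ring
  have h1 := strip (a := 1) (b := -x ^ 28 - x ^ 27 - x ^ 26 - x ^ 25 - x ^ 24 - x ^ 23 - 2 * x ^ 22 - 2 * x ^ 21 - 2 * x ^ 20 - 2 * x ^ 19 - 3 * x ^ 18 - 3 * x ^ 17 - 4 * x ^ 16 - 4 * x ^ 15 - 4 * x ^ 14 - 4 * x ^ 13 - 5 * x ^ 12 - 5 * x ^ 11 - 6 * x ^ 10 - 6 * x ^ 9 - 6 * x ^ 8 - 6 * x ^ 7 - 7 * x ^ 6 - 7 * x ^ 5 - 7 * x ^ 4 - 7 * x ^ 3 - 7 * x ^ 2 - 7 * x - 8) (L := 7) (by ring) h1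
  have h1 := strip (a := -1) (b := x ^ 28 - x ^ 27 + x ^ 26 - x ^ 25 + x ^ 24 - x ^ 23 + 2 * x ^ 22 - 2 * x ^ 21 + 2 * x ^ 20 - 2 * x ^ 19 + 3 * x ^ 18 - 3 * x ^ 17 + 4 * x ^ 16 - 4 * x ^ 15 + 4 * x ^ 14 - 4 * x ^ 13 + 5 * x ^ 12 - 5 * x ^ 11 + 6 * x ^ 10 - 6 * x ^ 9 + 6 * x ^ 8 - 6 * x ^ 7 + 7 * x ^ 6 - 7 * x ^ 5 + 7 * x ^ 4 - 7 * x ^ 3 + 7 * x ^ 2 - 7 * x + 8) (L := 9) (by ring) h1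
  have h1 := strip (a := -1) (b := x ^ 27 - x ^ 26 + x ^ 24 - x ^ 23 + 2 * x ^ 21 - 2 * x ^ 20 + 2 * x ^ 18 - x ^ 17 - x ^ 16 + 3 * x ^ 15 - 2 * x ^ 14 - x ^ 13 + 3 * x ^ 12 - x ^ 11 - 2 * x ^ 10 + 4 * x ^ 9 - 2 * x ^ 8 - 2 * x ^ 7 + 4 * x ^ 6 - x ^ 5 - 3 * x ^ 4 + 4 * x ^ 3 - x ^ 2 - 3 * x + 4) (L := 5) (by ring) h1
  have h1 := strip (a := -1) (b := x ^ 27 - x ^ 25 + x ^ 23 + x ^ 17 + x ^ 11 + x ^ 5 - x ^ 3 + x) (L := 1) (by ring) h1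
  have h1 := strip (a := -1) (b := x ^ 25 - x ^ 24 + x ^ 20 - x ^ 18 + 2 * x ^ 15 - x ^ 14 - x ^ 12 + 2 * x ^ 10 - x ^ 8 - x ^ 6 + 2 * x ^ 5 - x ^ 2 - x + 2) (L := 3) (by ring) h1
  have h1 := strip (a := 1) (b := -x ^ 27 - x ^ 26 + x ^ 24 + x ^ 23 - 2 * x ^ 21 - 2 * x ^ 20 + 2 * x ^ 18 + x ^ 17 - x ^ 16 - 3 * x ^ 15 - 2 * x ^ 14 + x ^ 13 + 3 * x ^ 12 + x ^ 11 - 2 * x ^ 10 - 4 * x ^ 9 - 2 * x ^ 8 + 2 * x ^ 7 + 4 * x ^ 6 + x ^ 5 - 3 * x ^ 4 - 4 * x ^ 3 - x ^ 2 + 3 * x + 4) (L := 3) (by ring) h1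
  have h1 := strip (a := -x ^ 5 - 2 * x ^ 4 - 3 * x ^ 3 - 4 * x ^ 2 - 5 * x - 6) (b := x ^ 28 + x ^ 27 + x ^ 26 + x ^ 25 + x ^ 24 + x ^ 23 - 5 * x ^ 22 + 2 * x ^ 21 + 2 * x ^ 20 + 2 * x ^ 19 + 3 * x ^ 18 + 3 * x ^ 17 - 3 * x ^ 16 - 3 * x ^ 15 + 4 * x ^ 14 + 4 * x ^ 13 - 2 * x ^ 12 + 5 * x ^ 11 - x ^ 10 - x ^ 9 - x ^ 8 + 6 * x ^ 7 + 1) (L := 7) (by ring) h1
  have h1 := strip (a := -1) (b := x ^ 25 - x ^ 21 + x ^ 19 + x ^ 17 + x ^ 9 + x ^ 7 - x ^ 5 + x) (L := 1) (by ring) h1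
  have h1 := strip (a := -6 * x ^ 5 - 5 * x ^ 4 - x ^ 3 - 10 * x ^ 2 - 2 * x - 8) (b := 6 * x ^ 28 + 5 * x ^ 27 + x ^ 26 + 4 * x ^ 25 - 3 * x ^ 24 + 7 * x ^ 23 - 4 * x ^ 22 + 3 * x ^ 21 - 7 * x ^ 20 + 10 * x ^ 19 + 8 * x ^ 18 + 13 * x ^ 17 + x ^ 16 + 4 * x ^ 15 - 3 * x ^ 14 + 7 * x ^ 13 - 4 * x ^ 12 + 3 * x ^ 11 - x ^ 10 + 15 * x ^ 9 + 3 * x ^ 8 + 12 * x ^ 7 - 3 * x ^ 6 + 7 * x ^ 5 - 10 * x ^ 4 - 2 * x ^ 3 - 8 * x ^ 2 + 6 * x + 11) (L := 19) (by ring) h1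
  have h1 := strip (a := 1) (b := -x ^ 25 - x ^ 24 + x ^ 20 - x ^ 18 - 2 * x ^ 15 - x ^ 14 - x ^ 12 + 2 * x ^ 10 - x ^ 8 - x ^ 6 - 2 * x ^ 5 - x ^ 2 + x + 2) (L := 1) (by ring) h1
  have h1 := strip (a := -1) (b := x ^ 25 + x ^ 23 + x ^ 15 + 2 * x ^ 13 + x ^ 11 + x ^ 3 + x) (L := 1) (by ring) h1
  have h1 := strip (a := -x ^ 5 - x ^ 3 - x) (b := x ^ 28 + x ^ 27 + x ^ 26 + x ^ 25 + x ^ 24 + x ^ 23 + x ^ 22 + x ^ 18 + x ^ 17 + x ^ 16 + x ^ 15 + 2 * x ^ 14 + 2 * x ^ 13 + 2 * x ^ 12 + x ^ 11 + x ^ 10 + x ^ 9 + x ^ 8 + 1) (L := 1) (by ring) h1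
  have h1 := strip (a := x ^ 4 + x ^ 3 - 2 * x - 2) (b := -x ^ 27 - x ^ 26 + x ^ 24 + x ^ 23 + x ^ 21 + x ^ 20 + 2 * x ^ 18 + x ^ 17 - x ^ 16 + x ^ 14 + x ^ 13 + x ^ 11 + x ^ 10 - x ^ 9 + x ^ 8 + 2 * x ^ 7 + x ^ 6 + x ^ 5 + 2 * x ^ 3 + 2 * x ^ 2 + 1) (L := 3) (by ring) h1
  have h1 := strip (a := -1) (b := x ^ 21 + x ^ 19 + x ^ 15 + x ^ 13 + x ^ 9 + x ^ 7 + x ^ 3 + x) (L := 1) (by ring) h1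
  have h1 := strip (a := -1) (b := x ^ 21 + x ^ 17 + x ^ 15 + 2 * x ^ 11 + x ^ 7 + x ^ 5 + x) (L := 1) (by ring) h1
  have h1 := strip (a := -1) (b := x ^ 21 - x ^ 20 + x ^ 19 + x ^ 16 + x ^ 13 + x ^ 11 + x ^ 9 + x ^ 7 + x ^ 5 + x ^ 3 + 1) (L := 2) (by ring) h1
  have hpos : 0 < (x ^ 29 + x ^ 23 + x ^ 19 + x ^ 17 + x ^ 13 + x ^ 11 + x ^ 7 + x - 1) := f_pos_E8 x hx 1 (by norm_num)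
  have hf : (x ^ 29 + x ^ 23 + x ^ 19 + x ^ 17 + x ^ 13 + x ^ 11 + x ^ 7 + x - 1) = (x ^ 8 - x ^ 7 + x ^ 5 - x ^ 4 + x ^ 3 - x + 1) * (x ^ 21 + x ^ 20 + x ^ 19 - x ^ 16 + x ^ 13 + x ^ 11 + x ^ 9 + x ^ 7 + x ^ 5 + x ^ 3 - 1) := by ring
  rw [hf] at h1 hpos ⊢
  have h2 := strip_keep (a := -129 * x ^ 7 - 600 * x ^ 6 - 1239 * x ^ 5 + 1476 * x ^ 4 - 7309 * x ^ 3 + 5904 * x ^ 2 + 1089 * x - 9496) (b := 129 * x ^ 20 + 858 * x ^ 19 + 2826 * x ^ 18 + 3060 * x ^ 17 + 9403 * x ^ 16 + 7106 * x ^ 15 + 5730 * x ^ 14 - 2046 * x ^ 13 + 7932 * x ^ 12 + 4660 * x ^ 11 + 12836 * x ^ 10 + 3684 * x ^ 9 + 5886 * x ^ 8 - 18378 * x ^ 7 - 14074 * x ^ 6 - 16418 * x ^ 5 + 8478 * x ^ 4 + 9180 * x ^ 3 + 28338 * x ^ 2 + 22434 * x + 21345) (L := 30841) (n := 0) (by ring)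
    (ne_of_gt hpos) h1
  have hP : 0 < (x ^ 8 - x ^ 7 + x ^ 5 - x ^ 4 + x ^ 3 - x + 1) := phi15_pos x hx
  refine mul_le_mul_of_nonneg_left (le_trans (Int.le_of_dvd (by positivity) h2) ?_) hP.le
  norm_num

theorem smallE8_1 : ((List.range 13).all fun q => Nat.ble q 1 ||
    (q ^ 120 * ((q ^ 2 - 1) * (q ^ 8 - 1) * (q ^ 12 - 1) * (q ^ 14 - 1) * (q ^ 18 - 1) * (q ^ 20 - 1) * (q ^ 24 - 1) * (q ^ 30 - 1))) % (q ^ 29 + q ^ 23 + q ^ 19 + q ^ 17 + q ^ 13 + q ^ 11 + q ^ 7 + q - 1) != 0) = true := by decide +kernel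

theorem not_dvdE8_1 (q : ℕ) (hq : IsPrimePow q) :
    ¬ (q ^ 29 + q ^ 23 + q ^ 19 + q ^ 17 + q ^ 13 + q ^ 11 + q ^ 7 + q - 1) ∣ q ^ 120 * ((q ^ 2 - 1) * (q ^ 8 - 1) * (q ^ 12 - 1) * (q ^ 14 - 1) * (q ^ 18 - 1) * (q ^ 20 - 1) * (q ^ 24 - 1) * (q ^ 30 - 1)) := by
  intro h
  have h2 := hq.two_le
  rcases Nat.lt_or_ge q 13 with hs | hl
  · have := List.all_eq_true.1 smallE8_1 q (List.mem_range.2 hs)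
    simp only [Bool.or_eq_true, bne_iff_ne, Nat.ble_eq, beq_iff_eq] at this
    have hm := Nat.mod_eq_zero_of_dvd h
    omega
  · have hle : 1 ≤ q ^ 29 + q ^ 23 + q ^ 19 + q ^ 17 + q ^ 13 + q ^ 11 + q ^ 7 + q := le_trans (by omega) (Nat.le_add_left q _)
    have h' := qpart (j := 1) (w := q ^ 28 + q ^ 22 + q ^ 18 + q ^ 16 + q ^ 12 + q ^ 10 + q ^ 6 + 1) hq (by norm_num) (by omega)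
      (by rw [Nat.sub_add_cancel hle]; ring) h
    have h1 : ∀ n : ℕ, 1 ≤ q ^ n := fun n => Nat.one_le_pow _ _ (by omega)
    have hz := Int.natCast_dvd_natCast.2 h'
    simp only [Nat.cast_mul, Nat.cast_sub (h1 _), Nat.cast_sub hle, Nat.cast_add, Nat.cast_pow, Nat.cast_ofNat,
      Nat.cast_one] at hz
    generalize hx : (q : ℤ) = x at hz
    have hb := boundE8_1 x (by omega) hz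
    have hxl : (13 : ℤ) ≤ x := by omega
    have hp := pow_le_pow_left₀ (by norm_num : (0 : ℤ) ≤ 13) hxl 21
    have hlow := f_ge_E8 x (by omega) 1 (by norm_num)
    have hP := phi15_le x (by omega)
    have hxd : (0 : ℤ) < x ^ 8 := by positivity
    refine absurd (le_trans hlow (le_trans hb (mul_le_mul_of_nonneg_right hP (by norm_num)))) (not_le.2 ?_)
    rw [show x ^ 29 = x ^ 8 * x ^ 21 by ring, show 2 * x ^ 8 * 90226649952742625988750 = x ^ 8 * 180453299905485251977500 by ring]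
    exact mul_lt_mul_of_pos_left (lt_of_lt_of_le (by norm_num) hp) hxd

theorem boundE8_2 (x : ℤ) (hx : 2 ≤ x)
    (h : (x ^ 29 + x ^ 23 + x ^ 19 + x ^ 17 + x ^ 13 + x ^ 11 + x ^ 7 + x - 2) ∣ 2 * ((x ^ 2 - 1) * (x ^ 8 - 1) * (x ^ 12 - 1) * (x ^ 14 - 1) * (x ^ 18 - 1) * (x ^ 20 - 1) * (x ^ 24 - 1) * (x ^ 30 - 1))) :
    (x ^ 29 + x ^ 23 + x ^ 19 + x ^ 17 + x ^ 13 + x ^ 11 + x ^ 7 + x - 2) ≤ (x ^ 4 - x ^ 3 + x ^ 2 - x + 1) * 162419502598242706862899200000000 := by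
  have h1 : (x ^ 29 + x ^ 23 + x ^ 19 + x ^ 17 + x ^ 13 + x ^ 11 + x ^ 7 + x - 2) ∣ ((x - 1) ^ 8 * ((x + 1) ^ 8 * ((x ^ 2 + x + 1) ^ 4 * ((x ^ 2 + 1) ^ 4 * ((x ^ 4 + x ^ 3 + x ^ 2 + x + 1) ^ 2 * ((x ^ 2 - x + 1) ^ 4 * ((x ^ 6 + x ^ 5 + x ^ 4 + x ^ 3 + x ^ 2 + x + 1) ^ 1 * ((x ^ 4 + 1) ^ 2 * ((x ^ 6 + x ^ 3 + 1) ^ 1 * ((x ^ 4 - x ^ 2 + 1) ^ 2 * ((x ^ 6 - x ^ 5 + x ^ 4 - x ^ 3 + x ^ 2 - x + 1) ^ 1 * ((x ^ 8 - x ^ 7 + x ^ 5 - x ^ 4 + x ^ 3 - x + 1) ^ 1 * ((x ^ 6 - x ^ 3 + 1) ^ 1 * ((x ^ 8 - x ^ 6 + x ^ 4 - x ^ 2 + 1) ^ 1 * ((x ^ 8 - x ^ 4 + 1) ^ 1 * ((x ^ 8 + x ^ 7 - x ^ 5 - x ^ 4 - x ^ 3 + x + 1) ^ 1 * ((x ^ 4 - x ^ 3 + x ^ 2 - x + 1) ^ 2 * 1))))))))))))))))) * 2 := by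
    rw [factorE8] at h
    generalize (x - 1) = p1 at h ⊢
    generalize (x + 1) = p2 at h ⊢
    generalize (x ^ 2 + x + 1) = p3 at h ⊢
    generalize (x ^ 2 + 1) = p4 at h ⊢
    generalize (x ^ 4 + x ^ 3 + x ^ 2 + x + 1) = p5 at h ⊢
    generalize (x ^ 2 - x + 1) = p6 at h ⊢
    generalize (x ^ 6 + x ^ 5 + x ^ 4 + x ^ 3 + x ^ 2 + x + 1) = p7 at h ⊢
    generalize (x ^ 4 + 1) = p8 at h ⊢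
    generalize (x ^ 6 + x ^ 3 + 1) = p9 at h ⊢
    generalize (x ^ 4 - x ^ 3 + x ^ 2 - x + 1) = p10 at h ⊢
    generalize (x ^ 4 - x ^ 2 + 1) = p12 at h ⊢
    generalize (x ^ 6 - x ^ 5 + x ^ 4 - x ^ 3 + x ^ 2 - x + 1) = p14 at h ⊢
    generalize (x ^ 8 - x ^ 7 + x ^ 5 - x ^ 4 + x ^ 3 - x + 1) = p15 at h ⊢
    generalize (x ^ 6 - x ^ 3 + 1) = p18 at h ⊢
    generalize (x ^ 8 - x ^ 6 + x ^ 4 - x ^ 2 + 1) = p20 at h ⊢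
    generalize (x ^ 8 - x ^ 4 + 1) = p24 at h ⊢
    generalize (x ^ 8 + x ^ 7 - x ^ 5 - x ^ 4 - x ^ 3 + x + 1) = p30 at h ⊢
    convert h using 1
    ring
  have h1 := strip (a := 1) (b := -x ^ 28 - x ^ 27 - x ^ 26 - x ^ 25 - x ^ 24 - x ^ 23 - 2 * x ^ 22 - 2 * x ^ 21 - 2 * x ^ 20 - 2 * x ^ 19 - 3 * x ^ 18 - 3 * x ^ 17 - 4 * x ^ 16 - 4 * x ^ 15 - 4 * x ^ 14 - 4 * x ^ 13 - 5 * x ^ 12 - 5 * x ^ 11 - 6 * x ^ 10 - 6 * x ^ 9 - 6 * x ^ 8 - 6 * x ^ 7 - 7 * x ^ 6 - 7 * x ^ 5 - 7 * x ^ 4 - 7 * x ^ 3 - 7 * x ^ 2 - 7 * x - 8) (L := 6) (by ring) h1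
  have h1 := strip (a := -1) (b := x ^ 28 - x ^ 27 + x ^ 26 - x ^ 25 + x ^ 24 - x ^ 23 + 2 * x ^ 22 - 2 * x ^ 21 + 2 * x ^ 20 - 2 * x ^ 19 + 3 * x ^ 18 - 3 * x ^ 17 + 4 * x ^ 16 - 4 * x ^ 15 + 4 * x ^ 14 - 4 * x ^ 13 + 5 * x ^ 12 - 5 * x ^ 11 + 6 * x ^ 10 - 6 * x ^ 9 + 6 * x ^ 8 - 6 * x ^ 7 + 7 * x ^ 6 - 7 * x ^ 5 + 7 * x ^ 4 - 7 * x ^ 3 + 7 * x ^ 2 - 7 * x + 8) (L := 10) (by ring) h1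
  have h1 := strip (a := -1) (b := x ^ 27 - x ^ 26 + x ^ 24 - x ^ 23 + 2 * x ^ 21 - 2 * x ^ 20 + 2 * x ^ 18 - x ^ 17 - x ^ 16 + 3 * x ^ 15 - 2 * x ^ 14 - x ^ 13 + 3 * x ^ 12 - x ^ 11 - 2 * x ^ 10 + 4 * x ^ 9 - 2 * x ^ 8 - 2 * x ^ 7 + 4 * x ^ 6 - x ^ 5 - 3 * x ^ 4 + 4 * x ^ 3 - x ^ 2 - 3 * x + 4) (L := 6) (by ring) h1
  have h1 := strip (a := -1) (b := x ^ 27 - x ^ 25 + x ^ 23 + x ^ 17 + x ^ 11 + x ^ 5 - x ^ 3 + x) (L := 2) (by ring) h1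
  have h1 := strip (a := -1) (b := x ^ 25 - x ^ 24 + x ^ 20 - x ^ 18 + 2 * x ^ 15 - x ^ 14 - x ^ 12 + 2 * x ^ 10 - x ^ 8 - x ^ 6 + 2 * x ^ 5 - x ^ 2 - x + 2) (L := 4) (by ring) h1
  have h1 := strip (a := 1) (b := -x ^ 27 - x ^ 26 + x ^ 24 + x ^ 23 - 2 * x ^ 21 - 2 * x ^ 20 + 2 * x ^ 18 + x ^ 17 - x ^ 16 - 3 * x ^ 15 - 2 * x ^ 14 + x ^ 13 + 3 * x ^ 12 + x ^ 11 - 2 * x ^ 10 - 4 * x ^ 9 - 2 * x ^ 8 + 2 * x ^ 7 + 4 * x ^ 6 + x ^ 5 - 3 * x ^ 4 - 4 * x ^ 3 - x ^ 2 + 3 * x + 4) (L := 2) (by ring) h1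
  have h1 := strip (a := -x ^ 5 - 3 * x ^ 4 - 7 * x ^ 3 - 15 * x ^ 2 - 31 * x - 63) (b := x ^ 28 + 2 * x ^ 27 + 4 * x ^ 26 + 8 * x ^ 25 + 16 * x ^ 24 + 32 * x ^ 23 - 62 * x ^ 22 + 3 * x ^ 21 + 6 * x ^ 20 + 12 * x ^ 19 + 25 * x ^ 18 + 50 * x ^ 17 - 26 * x ^ 16 - 52 * x ^ 15 + 23 * x ^ 14 + 46 * x ^ 13 - 34 * x ^ 12 + 59 * x ^ 11 - 8 * x ^ 10 - 16 * x ^ 9 - 32 * x ^ 8 + 63 * x ^ 7 + 1) (L := 127) (by ring) h1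
  have h1 := strip (a := -1) (b := x ^ 25 - x ^ 21 + x ^ 19 + x ^ 17 + x ^ 9 + x ^ 7 - x ^ 5 + x) (L := 2) (by ring) h1
  have h1 := strip (a := -6 * x ^ 5 - 7 * x ^ 4 - 5 * x ^ 3 - 15 * x ^ 2 - 8 * x - 22) (b := 6 * x ^ 28 + 7 * x ^ 27 + 5 * x ^ 26 + 9 * x ^ 25 + x ^ 24 + 17 * x ^ 23 - 9 * x ^ 22 - x ^ 21 - 17 * x ^ 20 + 15 * x ^ 19 + 14 * x ^ 18 + 29 * x ^ 17 + 5 * x ^ 16 + 9 * x ^ 15 + x ^ 14 + 17 * x ^ 13 - 9 * x ^ 12 - x ^ 11 - 11 * x ^ 10 + 22 * x ^ 9 + 13 * x ^ 8 + 31 * x ^ 7 + x ^ 6 + 17 * x ^ 5 - 15 * x ^ 4 - 8 * x ^ 3 - 22 * x ^ 2 + 6 * x + 13) (L := 57) (by ring) h1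
  have h1 := strip (a := -1) (b := x ^ 25 + x ^ 23 + x ^ 15 + 2 * x ^ 13 + x ^ 11 + x ^ 3 + x) (L := 2) (by ring) h1
  have h1 := strip (a := -x ^ 5 - x ^ 4 - 3 * x ^ 3 - 5 * x ^ 2 - 11 * x - 21) (b := x ^ 28 + 2 * x ^ 27 + 4 * x ^ 26 + 8 * x ^ 25 + 16 * x ^ 24 + 32 * x ^ 23 + 22 * x ^ 22 + x ^ 21 + 2 * x ^ 20 + 4 * x ^ 19 + 9 * x ^ 18 + 18 * x ^ 17 - 6 * x ^ 16 - 12 * x ^ 15 + 19 * x ^ 14 + 38 * x ^ 13 + 34 * x ^ 12 + 25 * x ^ 11 + 8 * x ^ 10 + 16 * x ^ 9 + 32 * x ^ 8 + 21 * x ^ 7 + 1) (L := 43) (by ring) h1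
  have h1 := strip (a := -1) (b := x ^ 21 + x ^ 20 + x ^ 19 - x ^ 16 + x ^ 13 + x ^ 11 + x ^ 9 + x ^ 7 + x ^ 5 + x ^ 3 - 1) (L := 1) (by ring) h1
  have h1 := strip (a := -6 * x ^ 5 + 5 * x ^ 4 + 17 * x ^ 3 + 13 * x ^ 2 - 32 * x - 58) (b := 6 * x ^ 28 - 5 * x ^ 27 - 17 * x ^ 26 - 7 * x ^ 25 + 27 * x ^ 24 + 41 * x ^ 23 - 7 * x ^ 22 + 27 * x ^ 21 + 41 * x ^ 20 - 13 * x ^ 19 + 38 * x ^ 18 + 53 * x ^ 17 - 17 * x ^ 16 - 7 * x ^ 15 + 27 * x ^ 14 + 41 * x ^ 13 - 7 * x ^ 12 + 27 * x ^ 11 + 47 * x ^ 10 - 18 * x ^ 9 + 15 * x ^ 8 + 51 * x ^ 7 + 27 * x ^ 6 + 41 * x ^ 5 - 13 * x ^ 4 + 32 * x ^ 3 + 58 * x ^ 2 - 6 * x + 11) (L := 127) (by ring) h1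
  have h1 := strip (a := -1) (b := x ^ 21 + x ^ 19 + x ^ 15 + x ^ 13 + x ^ 9 + x ^ 7 + x ^ 3 + x) (L := 2) (by ring) h1
  have h1 := strip (a := -1) (b := x ^ 21 + x ^ 17 + x ^ 15 + 2 * x ^ 11 + x ^ 7 + x ^ 5 + x) (L := 2) (by ring) h1
  have h1 := strip (a := -1) (b := x ^ 21 - x ^ 20 + x ^ 19 + x ^ 16 + x ^ 13 + x ^ 11 + x ^ 9 + x ^ 7 + x ^ 5 + x ^ 3 + 1) (L := 3) (by ring) h1
  have hpos : 0 < (x ^ 29 + x ^ 23 + x ^ 19 + x ^ 17 + x ^ 13 + x ^ 11 + x ^ 7 + x - 2) := f_pos_E8 x hx 2 (by norm_num)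
  have hf : (x ^ 29 + x ^ 23 + x ^ 19 + x ^ 17 + x ^ 13 + x ^ 11 + x ^ 7 + x - 2) = (x ^ 4 - x ^ 3 + x ^ 2 - x + 1) * (x ^ 25 + x ^ 24 - x ^ 20 + x ^ 18 + 2 * x ^ 15 + x ^ 14 + x ^ 12 - 2 * x ^ 10 + x ^ 8 + x ^ 6 + 2 * x ^ 5 + x ^ 2 - x - 2) := by ring
  rw [hf] at h1 hpos ⊢
  have h2 := strip_keep (a := -1) (b := x ^ 21 + 2 * x ^ 20 + x ^ 19 - 2 * x ^ 16 - 3 * x ^ 15 + x ^ 13 + 4 * x ^ 11 + 6 * x ^ 10 + x ^ 9 + x ^ 7 - 6 * x ^ 6 - 8 * x ^ 5 + x ^ 3 + 9 * x + 10) (L := 12) (n := 1) (by ring)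
    (ne_of_gt hpos) h1
  have hP : 0 < (x ^ 4 - x ^ 3 + x ^ 2 - x + 1) := phi10_pos x hx
  refine mul_le_mul_of_nonneg_left (le_trans (Int.le_of_dvd (by positivity) h2) ?_) hP.le
  norm_num

theorem smallE8_2 : ((List.range 20).all fun q => Nat.ble q 1 ||
    (q ^ 120 * ((q ^ 2 - 1) * (q ^ 8 - 1) * (q ^ 12 - 1) * (q ^ 14 - 1) * (q ^ 18 - 1) * (q ^ 20 - 1) * (q ^ 24 - 1) * (q ^ 30 - 1))) % (q ^ 29 + q ^ 23 + q ^ 19 + q ^ 17 + q ^ 13 + q ^ 11 + q ^ 7 + q - 2) != 0) = true := by decide +kernel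

theorem not_dvdE8_2 (q : ℕ) (hq : IsPrimePow q) :
    ¬ (q ^ 29 + q ^ 23 + q ^ 19 + q ^ 17 + q ^ 13 + q ^ 11 + q ^ 7 + q - 2) ∣ q ^ 120 * ((q ^ 2 - 1) * (q ^ 8 - 1) * (q ^ 12 - 1) * (q ^ 14 - 1) * (q ^ 18 - 1) * (q ^ 20 - 1) * (q ^ 24 - 1) * (q ^ 30 - 1)) := by
  intro h
  have h2 := hq.two_le
  rcases Nat.lt_or_ge q 20 with hs | hl
  · have := List.all_eq_true.1 smallE8_2 q (List.mem_range.2 hs)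
    simp only [Bool.or_eq_true, bne_iff_ne, Nat.ble_eq, beq_iff_eq] at this
    have hm := Nat.mod_eq_zero_of_dvd h
    omega
  · have hle : 2 ≤ q ^ 29 + q ^ 23 + q ^ 19 + q ^ 17 + q ^ 13 + q ^ 11 + q ^ 7 + q := le_trans (by omega) (Nat.le_add_left q _)
    have h' := qpart (j := 2) (w := q ^ 28 + q ^ 22 + q ^ 18 + q ^ 16 + q ^ 12 + q ^ 10 + q ^ 6 + 1) hq (by norm_num) (by omega)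
      (by rw [Nat.sub_add_cancel hle]; ring) h
    have h1 : ∀ n : ℕ, 1 ≤ q ^ n := fun n => Nat.one_le_pow _ _ (by omega)
    have hz := Int.natCast_dvd_natCast.2 h'
    simp only [Nat.cast_mul, Nat.cast_sub (h1 _), Nat.cast_sub hle, Nat.cast_add, Nat.cast_pow, Nat.cast_ofNat,
      Nat.cast_one] at hz
    generalize hx : (q : ℤ) = x at hz
    have hb := boundE8_2 x (by omega) hz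
    have hxl : (20 : ℤ) ≤ x := by omega
    have hp := pow_le_pow_left₀ (by norm_num : (0 : ℤ) ≤ 20) hxl 25
    have hlow := f_ge_E8 x (by omega) 2 (by norm_num)
    have hP := phi10_le x (by omega)
    have hxd : (0 : ℤ) < x ^ 4 := by positivity
    refine absurd (le_trans hlow (le_trans hb (mul_le_mul_of_nonneg_right hP (by norm_num)))) (not_le.2 ?_)
    rw [show x ^ 29 = x ^ 4 * x ^ 25 by ring, show 2 * x ^ 4 * 162419502598242706862899200000000 = x ^ 4 * 324839005196485413725798400000000 by ring]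
    exact mul_lt_mul_of_pos_left (lt_of_lt_of_le (by norm_num) hp) hxd

theorem boundE8_3 (x : ℤ) (hx : 2 ≤ x)
    (h : (x ^ 29 + x ^ 23 + x ^ 19 + x ^ 17 + x ^ 13 + x ^ 11 + x ^ 7 + x - 3) ∣ 3 * ((x ^ 2 - 1) * (x ^ 8 - 1) * (x ^ 12 - 1) * (x ^ 14 - 1) * (x ^ 18 - 1) * (x ^ 20 - 1) * (x ^ 24 - 1) * (x ^ 30 - 1))) :
    (x ^ 29 + x ^ 23 + x ^ 19 + x ^ 17 + x ^ 13 + x ^ 11 + x ^ 7 + x - 3) ≤ 4714024002223600272116090074921875000 := by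
  have h1 : (x ^ 29 + x ^ 23 + x ^ 19 + x ^ 17 + x ^ 13 + x ^ 11 + x ^ 7 + x - 3) ∣ ((x - 1) ^ 8 * ((x + 1) ^ 8 * ((x ^ 2 + x + 1) ^ 4 * ((x ^ 2 + 1) ^ 4 * ((x ^ 4 + x ^ 3 + x ^ 2 + x + 1) ^ 2 * ((x ^ 2 - x + 1) ^ 4 * ((x ^ 6 + x ^ 5 + x ^ 4 + x ^ 3 + x ^ 2 + x + 1) ^ 1 * ((x ^ 4 + 1) ^ 2 * ((x ^ 6 + x ^ 3 + 1) ^ 1 * ((x ^ 4 - x ^ 3 + x ^ 2 - x + 1) ^ 2 * ((x ^ 4 - x ^ 2 + 1) ^ 2 * ((x ^ 6 - x ^ 5 + x ^ 4 - x ^ 3 + x ^ 2 - x + 1) ^ 1 * ((x ^ 8 - x ^ 7 + x ^ 5 - x ^ 4 + x ^ 3 - x + 1) ^ 1 * ((x ^ 6 - x ^ 3 + 1) ^ 1 * ((x ^ 8 - x ^ 6 + x ^ 4 - x ^ 2 + 1) ^ 1 * ((x ^ 8 - x ^ 4 + 1) ^ 1 * ((x ^ 8 + x ^ 7 - x ^ 5 - x ^ 4 - x ^ 3 + x + 1) ^ 1 * 1))))))))))))))))) * 3 := by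
    rw [factorE8] at h
    generalize (x - 1) = p1 at h ⊢
    generalize (x + 1) = p2 at h ⊢
    generalize (x ^ 2 + x + 1) = p3 at h ⊢
    generalize (x ^ 2 + 1) = p4 at h ⊢
    generalize (x ^ 4 + x ^ 3 + x ^ 2 + x + 1) = p5 at h ⊢
    generalize (x ^ 2 - x + 1) = p6 at h ⊢
    generalize (x ^ 6 + x ^ 5 + x ^ 4 + x ^ 3 + x ^ 2 + x + 1) = p7 at h ⊢
    generalize (x ^ 4 + 1) = p8 at h ⊢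
    generalize (x ^ 6 + x ^ 3 + 1) = p9 at h ⊢
    generalize (x ^ 4 - x ^ 3 + x ^ 2 - x + 1) = p10 at h ⊢
    generalize (x ^ 4 - x ^ 2 + 1) = p12 at h ⊢
    generalize (x ^ 6 - x ^ 5 + x ^ 4 - x ^ 3 + x ^ 2 - x + 1) = p14 at h ⊢
    generalize (x ^ 8 - x ^ 7 + x ^ 5 - x ^ 4 + x ^ 3 - x + 1) = p15 at h ⊢
    generalize (x ^ 6 - x ^ 3 + 1) = p18 at h ⊢
    generalize (x ^ 8 - x ^ 6 + x ^ 4 - x ^ 2 + 1) = p20 at h ⊢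
    generalize (x ^ 8 - x ^ 4 + 1) = p24 at h ⊢
    generalize (x ^ 8 + x ^ 7 - x ^ 5 - x ^ 4 - x ^ 3 + x + 1) = p30 at h ⊢
    convert h using 1
    ring
  have h1 := strip (a := 1) (b := -x ^ 28 - x ^ 27 - x ^ 26 - x ^ 25 - x ^ 24 - x ^ 23 - 2 * x ^ 22 - 2 * x ^ 21 - 2 * x ^ 20 - 2 * x ^ 19 - 3 * x ^ 18 - 3 * x ^ 17 - 4 * x ^ 16 - 4 * x ^ 15 - 4 * x ^ 14 - 4 * x ^ 13 - 5 * x ^ 12 - 5 * x ^ 11 - 6 * x ^ 10 - 6 * x ^ 9 - 6 * x ^ 8 - 6 * x ^ 7 - 7 * x ^ 6 - 7 * x ^ 5 - 7 * x ^ 4 - 7 * x ^ 3 - 7 * x ^ 2 - 7 * x - 8) (L := 5) (by ring) h1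
  have h1 := strip (a := -1) (b := x ^ 28 - x ^ 27 + x ^ 26 - x ^ 25 + x ^ 24 - x ^ 23 + 2 * x ^ 22 - 2 * x ^ 21 + 2 * x ^ 20 - 2 * x ^ 19 + 3 * x ^ 18 - 3 * x ^ 17 + 4 * x ^ 16 - 4 * x ^ 15 + 4 * x ^ 14 - 4 * x ^ 13 + 5 * x ^ 12 - 5 * x ^ 11 + 6 * x ^ 10 - 6 * x ^ 9 + 6 * x ^ 8 - 6 * x ^ 7 + 7 * x ^ 6 - 7 * x ^ 5 + 7 * x ^ 4 - 7 * x ^ 3 + 7 * x ^ 2 - 7 * x + 8) (L := 11) (by ring) h1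
  have h1 := strip (a := -1) (b := x ^ 27 - x ^ 26 + x ^ 24 - x ^ 23 + 2 * x ^ 21 - 2 * x ^ 20 + 2 * x ^ 18 - x ^ 17 - x ^ 16 + 3 * x ^ 15 - 2 * x ^ 14 - x ^ 13 + 3 * x ^ 12 - x ^ 11 - 2 * x ^ 10 + 4 * x ^ 9 - 2 * x ^ 8 - 2 * x ^ 7 + 4 * x ^ 6 - x ^ 5 - 3 * x ^ 4 + 4 * x ^ 3 - x ^ 2 - 3 * x + 4) (L := 7) (by ring) h1
  have h1 := strip (a := -1) (b := x ^ 27 - x ^ 25 + x ^ 23 + x ^ 17 + x ^ 11 + x ^ 5 - x ^ 3 + x) (L := 3) (by ring) h1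
  have h1 := strip (a := -1) (b := x ^ 25 - x ^ 24 + x ^ 20 - x ^ 18 + 2 * x ^ 15 - x ^ 14 - x ^ 12 + 2 * x ^ 10 - x ^ 8 - x ^ 6 + 2 * x ^ 5 - x ^ 2 - x + 2) (L := 5) (by ring) h1
  have h1 := strip (a := 1) (b := -x ^ 27 - x ^ 26 + x ^ 24 + x ^ 23 - 2 * x ^ 21 - 2 * x ^ 20 + 2 * x ^ 18 + x ^ 17 - x ^ 16 - 3 * x ^ 15 - 2 * x ^ 14 + x ^ 13 + 3 * x ^ 12 + x ^ 11 - 2 * x ^ 10 - 4 * x ^ 9 - 2 * x ^ 8 + 2 * x ^ 7 + 4 * x ^ 6 + x ^ 5 - 3 * x ^ 4 - 4 * x ^ 3 - x ^ 2 + 3 * x + 4) (L := 1) (by ring) h1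
  have h1 := strip (a := -x ^ 5 - 4 * x ^ 4 - 13 * x ^ 3 - 40 * x ^ 2 - 121 * x - 364) (b := x ^ 28 + 3 * x ^ 27 + 9 * x ^ 26 + 27 * x ^ 25 + 81 * x ^ 24 + 243 * x ^ 23 - 363 * x ^ 22 + 4 * x ^ 21 + 12 * x ^ 20 + 36 * x ^ 19 + 109 * x ^ 18 + 327 * x ^ 17 - 111 * x ^ 16 - 333 * x ^ 15 + 94 * x ^ 14 + 282 * x ^ 13 - 246 * x ^ 12 + 355 * x ^ 11 - 27 * x ^ 10 - 81 * x ^ 9 - 243 * x ^ 8 + 364 * x ^ 7 + 1) (L := 1093) (by ring) h1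
  have h1 := strip (a := -1) (b := x ^ 25 - x ^ 21 + x ^ 19 + x ^ 17 + x ^ 9 + x ^ 7 - x ^ 5 + x) (L := 3) (by ring) h1
  have h1 := strip (a := -36 * x ^ 5 - 55 * x ^ 4 - 53 * x ^ 3 - 148 * x ^ 2 - 102 * x - 342) (b := 36 * x ^ 28 + 55 * x ^ 27 + 53 * x ^ 26 + 112 * x ^ 25 + 47 * x ^ 24 + 289 * x ^ 23 - 112 * x ^ 22 - 47 * x ^ 21 - 289 * x ^ 20 + 148 * x ^ 19 + 138 * x ^ 18 + 397 * x ^ 17 + 53 * x ^ 16 + 112 * x ^ 15 + 47 * x ^ 14 + 289 * x ^ 13 - 112 * x ^ 12 - 47 * x ^ 11 - 253 * x ^ 10 + 203 * x ^ 9 + 155 * x ^ 8 + 454 * x ^ 7 + 47 * x ^ 6 + 289 * x ^ 5 - 148 * x ^ 4 - 102 * x ^ 3 - 342 * x ^ 2 + 36 * x + 91) (L := 1117) (by ring) h1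
  have h1 := strip (a := -1) (b := x ^ 25 + x ^ 24 - x ^ 20 + x ^ 18 + 2 * x ^ 15 + x ^ 14 + x ^ 12 - 2 * x ^ 10 + x ^ 8 + x ^ 6 + 2 * x ^ 5 + x ^ 2 - x - 2) (L := 1) (by ring) h1
  have h1 := strip (a := -1) (b := x ^ 25 + x ^ 23 + x ^ 15 + 2 * x ^ 13 + x ^ 11 + x ^ 3 + x) (L := 3) (by ring) h1
  have h1 := strip (a := -x ^ 5 - 2 * x ^ 4 - 7 * x ^ 3 - 20 * x ^ 2 - 61 * x - 182) (b := x ^ 28 + 3 * x ^ 27 + 9 * x ^ 26 + 27 * x ^ 25 + 81 * x ^ 24 + 243 * x ^ 23 + 183 * x ^ 22 + 2 * x ^ 21 + 6 * x ^ 20 + 18 * x ^ 19 + 55 * x ^ 18 + 165 * x ^ 17 - 51 * x ^ 16 - 153 * x ^ 15 + 88 * x ^ 14 + 264 * x ^ 13 + 246 * x ^ 12 + 191 * x ^ 11 + 27 * x ^ 10 + 81 * x ^ 9 + 243 * x ^ 8 + 182 * x ^ 7 + 1) (L := 547) (by ring) h1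
  have h1 := strip (a := -1) (b := x ^ 21 + x ^ 20 + x ^ 19 - x ^ 16 + x ^ 13 + x ^ 11 + x ^ 9 + x ^ 7 + x ^ 5 + x ^ 3 - 1) (L := 2) (by ring) h1
  have h1 := strip (a := -18 * x ^ 5 + x ^ 4 + 55 * x ^ 3 + 70 * x ^ 2 - 114 * x - 324) (b := 18 * x ^ 28 - x ^ 27 - 55 * x ^ 26 - 52 * x ^ 25 + 113 * x ^ 24 + 269 * x ^ 23 - 52 * x ^ 22 + 113 * x ^ 21 + 269 * x ^ 20 - 70 * x ^ 19 + 132 * x ^ 18 + 323 * x ^ 17 - 55 * x ^ 16 - 52 * x ^ 15 + 113 * x ^ 14 + 269 * x ^ 13 - 52 * x ^ 12 + 113 * x ^ 11 + 287 * x ^ 10 - 71 * x ^ 9 + 59 * x ^ 8 + 272 * x ^ 7 + 113 * x ^ 6 + 269 * x ^ 5 - 70 * x ^ 4 + 114 * x ^ 3 + 324 * x ^ 2 - 18 * x + 19) (L := 991) (by ring) h1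
  have h1 := strip (a := -1) (b := x ^ 21 + x ^ 19 + x ^ 15 + x ^ 13 + x ^ 9 + x ^ 7 + x ^ 3 + x) (L := 3) (by ring) h1
  have h1 := strip (a := -1) (b := x ^ 21 + x ^ 17 + x ^ 15 + 2 * x ^ 11 + x ^ 7 + x ^ 5 + x) (L := 3) (by ring) h1
  have h1 := strip (a := -1) (b := x ^ 21 - x ^ 20 + x ^ 19 + x ^ 16 + x ^ 13 + x ^ 11 + x ^ 9 + x ^ 7 + x ^ 5 + x ^ 3 + 1) (L := 4) (by ring) h1
  have hpos : 0 < (x ^ 29 + x ^ 23 + x ^ 19 + x ^ 17 + x ^ 13 + x ^ 11 + x ^ 7 + x - 3) := f_pos_E8 x hx 3 (by norm_num)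
  refine le_trans (Int.le_of_dvd (by norm_num) h1) ?_
  norm_num

theorem smallE8_3 : ((List.range 19).all fun q => Nat.ble q 1 ||
    (q ^ 120 * ((q ^ 2 - 1) * (q ^ 8 - 1) * (q ^ 12 - 1) * (q ^ 14 - 1) * (q ^ 18 - 1) * (q ^ 20 - 1) * (q ^ 24 - 1) * (q ^ 30 - 1))) % (q ^ 29 + q ^ 23 + q ^ 19 + q ^ 17 + q ^ 13 + q ^ 11 + q ^ 7 + q - 3) != 0) = true := by decide +kernel

theorem not_dvdE8_3 (q : ℕ) (hq : IsPrimePow q) :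
    ¬ (q ^ 29 + q ^ 23 + q ^ 19 + q ^ 17 + q ^ 13 + q ^ 11 + q ^ 7 + q - 3) ∣ q ^ 120 * ((q ^ 2 - 1) * (q ^ 8 - 1) * (q ^ 12 - 1) * (q ^ 14 - 1) * (q ^ 18 - 1) * (q ^ 20 - 1) * (q ^ 24 - 1) * (q ^ 30 - 1)) := by
  intro h
  have h2 := hq.two_le
  rcases Nat.lt_or_ge q 19 with hs | hl
  · have := List.all_eq_true.1 smallE8_3 q (List.mem_range.2 hs)
    simp only [Bool.or_eq_true, bne_iff_ne, Nat.ble_eq, beq_iff_eq] at this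
    have hm := Nat.mod_eq_zero_of_dvd h
    omega
  · have hle : 3 ≤ q ^ 29 + q ^ 23 + q ^ 19 + q ^ 17 + q ^ 13 + q ^ 11 + q ^ 7 + q := le_trans (by omega) (Nat.le_add_left q _)
    have h' := qpart (j := 3) (w := q ^ 28 + q ^ 22 + q ^ 18 + q ^ 16 + q ^ 12 + q ^ 10 + q ^ 6 + 1) hq (by norm_num) (by omega)
      (by rw [Nat.sub_add_cancel hle]; ring) h
    have h1 : ∀ n : ℕ, 1 ≤ q ^ n := fun n => Nat.one_le_pow _ _ (by omega)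
    have hz := Int.natCast_dvd_natCast.2 h'
    simp only [Nat.cast_mul, Nat.cast_sub (h1 _), Nat.cast_sub hle, Nat.cast_add, Nat.cast_pow, Nat.cast_ofNat,
      Nat.cast_one] at hz
    generalize hx : (q : ℤ) = x at hz
    have hb := boundE8_3 x (by omega) hz
    have hxl : (19 : ℤ) ≤ x := by omega
    have hp := pow_le_pow_left₀ (by norm_num : (0 : ℤ) ≤ 19) hxl 29
    have hlow := f_ge_E8 x (by omega) 3 (by norm_num)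
    exact absurd (le_trans hlow hb) (not_le.2 (lt_of_lt_of_le (by norm_num) hp))

theorem boundE8_4 (x : ℤ) (hx : 2 ≤ x)
    (h : (x ^ 29 + x ^ 23 + x ^ 19 + x ^ 17 + x ^ 13 + x ^ 11 + x ^ 7 + x - 4) ∣ 4 * ((x ^ 2 - 1) * (x ^ 8 - 1) * (x ^ 12 - 1) * (x ^ 14 - 1) * (x ^ 18 - 1) * (x ^ 20 - 1) * (x ^ 24 - 1) * (x ^ 30 - 1))) :
    (x ^ 29 + x ^ 23 + x ^ 19 + x ^ 17 + x ^ 13 + x ^ 11 + x ^ 7 + x - 4) ≤ (x ^ 2 - x + 1) * 10008603999387365506002240909238578960138240000 := by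
  have h1 : (x ^ 29 + x ^ 23 + x ^ 19 + x ^ 17 + x ^ 13 + x ^ 11 + x ^ 7 + x - 4) ∣ ((x - 1) ^ 8 * ((x + 1) ^ 8 * ((x ^ 2 + x + 1) ^ 4 * ((x ^ 2 + 1) ^ 4 * ((x ^ 4 + x ^ 3 + x ^ 2 + x + 1) ^ 2 * ((x ^ 6 + x ^ 5 + x ^ 4 + x ^ 3 + x ^ 2 + x + 1) ^ 1 * ((x ^ 4 + 1) ^ 2 * ((x ^ 6 + x ^ 3 + 1) ^ 1 * ((x ^ 4 - x ^ 3 + x ^ 2 - x + 1) ^ 2 * ((x ^ 4 - x ^ 2 + 1) ^ 2 * ((x ^ 6 - x ^ 5 + x ^ 4 - x ^ 3 + x ^ 2 - x + 1) ^ 1 * ((x ^ 8 - x ^ 7 + x ^ 5 - x ^ 4 + x ^ 3 - x + 1) ^ 1 * ((x ^ 6 - x ^ 3 + 1) ^ 1 * ((x ^ 8 - x ^ 6 + x ^ 4 - x ^ 2 + 1) ^ 1 * ((x ^ 8 - x ^ 4 + 1) ^ 1 * ((x ^ 8 + x ^ 7 - x ^ 5 - x ^ 4 - x ^ 3 + x + 1) ^ 1 * ((x ^ 2 - x + 1) ^ 4 * 1))))))))))))))))) * 4 := by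
    rw [factorE8] at h
    generalize (x - 1) = p1 at h ⊢
    generalize (x + 1) = p2 at h ⊢
    generalize (x ^ 2 + x + 1) = p3 at h ⊢
    generalize (x ^ 2 + 1) = p4 at h ⊢
    generalize (x ^ 4 + x ^ 3 + x ^ 2 + x + 1) = p5 at h ⊢
    generalize (x ^ 2 - x + 1) = p6 at h ⊢
    generalize (x ^ 6 + x ^ 5 + x ^ 4 + x ^ 3 + x ^ 2 + x + 1) = p7 at h ⊢
    generalize (x ^ 4 + 1) = p8 at h ⊢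
    generalize (x ^ 6 + x ^ 3 + 1) = p9 at h ⊢
    generalize (x ^ 4 - x ^ 3 + x ^ 2 - x + 1) = p10 at h ⊢
    generalize (x ^ 4 - x ^ 2 + 1) = p12 at h ⊢
    generalize (x ^ 6 - x ^ 5 + x ^ 4 - x ^ 3 + x ^ 2 - x + 1) = p14 at h ⊢
    generalize (x ^ 8 - x ^ 7 + x ^ 5 - x ^ 4 + x ^ 3 - x + 1) = p15 at h ⊢
    generalize (x ^ 6 - x ^ 3 + 1) = p18 at h ⊢
    generalize (x ^ 8 - x ^ 6 + x ^ 4 - x ^ 2 + 1) = p20 at h ⊢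
    generalize (x ^ 8 - x ^ 4 + 1) = p24 at h ⊢
    generalize (x ^ 8 + x ^ 7 - x ^ 5 - x ^ 4 - x ^ 3 + x + 1) = p30 at h ⊢
    convert h using 1
    ring
  have h1 := strip (a := 1) (b := -x ^ 28 - x ^ 27 - x ^ 26 - x ^ 25 - x ^ 24 - x ^ 23 - 2 * x ^ 22 - 2 * x ^ 21 - 2 * x ^ 20 - 2 * x ^ 19 - 3 * x ^ 18 - 3 * x ^ 17 - 4 * x ^ 16 - 4 * x ^ 15 - 4 * x ^ 14 - 4 * x ^ 13 - 5 * x ^ 12 - 5 * x ^ 11 - 6 * x ^ 10 - 6 * x ^ 9 - 6 * x ^ 8 - 6 * x ^ 7 - 7 * x ^ 6 - 7 * x ^ 5 - 7 * x ^ 4 - 7 * x ^ 3 - 7 * x ^ 2 - 7 * x - 8) (L := 4) (by ring) h1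
  have h1 := strip (a := -1) (b := x ^ 28 - x ^ 27 + x ^ 26 - x ^ 25 + x ^ 24 - x ^ 23 + 2 * x ^ 22 - 2 * x ^ 21 + 2 * x ^ 20 - 2 * x ^ 19 + 3 * x ^ 18 - 3 * x ^ 17 + 4 * x ^ 16 - 4 * x ^ 15 + 4 * x ^ 14 - 4 * x ^ 13 + 5 * x ^ 12 - 5 * x ^ 11 + 6 * x ^ 10 - 6 * x ^ 9 + 6 * x ^ 8 - 6 * x ^ 7 + 7 * x ^ 6 - 7 * x ^ 5 + 7 * x ^ 4 - 7 * x ^ 3 + 7 * x ^ 2 - 7 * x + 8) (L := 12) (by ring) h1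
  have h1 := strip (a := -1) (b := x ^ 27 - x ^ 26 + x ^ 24 - x ^ 23 + 2 * x ^ 21 - 2 * x ^ 20 + 2 * x ^ 18 - x ^ 17 - x ^ 16 + 3 * x ^ 15 - 2 * x ^ 14 - x ^ 13 + 3 * x ^ 12 - x ^ 11 - 2 * x ^ 10 + 4 * x ^ 9 - 2 * x ^ 8 - 2 * x ^ 7 + 4 * x ^ 6 - x ^ 5 - 3 * x ^ 4 + 4 * x ^ 3 - x ^ 2 - 3 * x + 4) (L := 8) (by ring) h1
  have h1 := strip (a := -1) (b := x ^ 27 - x ^ 25 + x ^ 23 + x ^ 17 + x ^ 11 + x ^ 5 - x ^ 3 + x) (L := 4) (by ring) h1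
  have h1 := strip (a := -1) (b := x ^ 25 - x ^ 24 + x ^ 20 - x ^ 18 + 2 * x ^ 15 - x ^ 14 - x ^ 12 + 2 * x ^ 10 - x ^ 8 - x ^ 6 + 2 * x ^ 5 - x ^ 2 - x + 2) (L := 6) (by ring) h1
  have h1 := strip (a := -x ^ 5 - 5 * x ^ 4 - 21 * x ^ 3 - 85 * x ^ 2 - 341 * x - 1365) (b := x ^ 28 + 4 * x ^ 27 + 16 * x ^ 26 + 64 * x ^ 25 + 256 * x ^ 24 + 1024 * x ^ 23 - 1364 * x ^ 22 + 5 * x ^ 21 + 20 * x ^ 20 + 80 * x ^ 19 + 321 * x ^ 18 + 1284 * x ^ 17 - 324 * x ^ 16 - 1296 * x ^ 15 + 277 * x ^ 14 + 1108 * x ^ 13 - 1028 * x ^ 12 + 1349 * x ^ 11 - 64 * x ^ 10 - 256 * x ^ 9 - 1024 * x ^ 8 + 1365 * x ^ 7 + 1) (L := 5461) (by ring) h1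
  have h1 := strip (a := -1) (b := x ^ 25 - x ^ 21 + x ^ 19 + x ^ 17 + x ^ 9 + x ^ 7 - x ^ 5 + x) (L := 4) (by ring) h1
  have h1 := strip (a := -60 * x ^ 5 - 113 * x ^ 4 - 127 * x ^ 3 - 385 * x ^ 2 - 296 * x - 1244) (b := 60 * x ^ 28 + 113 * x ^ 27 + 127 * x ^ 26 + 325 * x ^ 25 + 183 * x ^ 24 + 1117 * x ^ 23 - 325 * x ^ 22 - 183 * x ^ 21 - 1117 * x ^ 20 + 385 * x ^ 19 + 356 * x ^ 18 + 1357 * x ^ 17 + 127 * x ^ 16 + 325 * x ^ 15 + 183 * x ^ 14 + 1117 * x ^ 13 - 325 * x ^ 12 - 183 * x ^ 11 - 1057 * x ^ 10 + 498 * x ^ 9 + 423 * x ^ 8 + 1569 * x ^ 7 + 183 * x ^ 6 + 1117 * x ^ 5 - 385 * x ^ 4 - 296 * x ^ 3 - 1244 * x ^ 2 + 60 * x + 173) (L := 5149) (by ring) h1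
  have h1 := strip (a := -1) (b := x ^ 25 + x ^ 24 - x ^ 20 + x ^ 18 + 2 * x ^ 15 + x ^ 14 + x ^ 12 - 2 * x ^ 10 + x ^ 8 + x ^ 6 + 2 * x ^ 5 + x ^ 2 - x - 2) (L := 2) (by ring) h1
  have h1 := strip (a := -1) (b := x ^ 25 + x ^ 23 + x ^ 15 + 2 * x ^ 13 + x ^ 11 + x ^ 3 + x) (L := 4) (by ring) h1
  have h1 := strip (a := -x ^ 5 - 3 * x ^ 4 - 13 * x ^ 3 - 51 * x ^ 2 - 205 * x - 819) (b := x ^ 28 + 4 * x ^ 27 + 16 * x ^ 26 + 64 * x ^ 25 + 256 * x ^ 24 + 1024 * x ^ 23 + 820 * x ^ 22 + 3 * x ^ 21 + 12 * x ^ 20 + 48 * x ^ 19 + 193 * x ^ 18 + 772 * x ^ 17 - 188 * x ^ 16 - 752 * x ^ 15 + 269 * x ^ 14 + 1076 * x ^ 13 + 1028 * x ^ 12 + 835 * x ^ 11 + 64 * x ^ 10 + 256 * x ^ 9 + 1024 * x ^ 8 + 819 * x ^ 7 + 1) (L := 3277) (by ring) h1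
  have h1 := strip (a := -1) (b := x ^ 21 + x ^ 20 + x ^ 19 - x ^ 16 + x ^ 13 + x ^ 11 + x ^ 9 + x ^ 7 + x ^ 5 + x ^ 3 - 1) (L := 3) (by ring) h1
  have h1 := strip (a := -12 * x ^ 5 - 5 * x ^ 4 + 43 * x ^ 3 + 75 * x ^ 2 - 104 * x - 404) (b := 12 * x ^ 28 + 5 * x ^ 27 - 43 * x ^ 26 - 63 * x ^ 25 + 109 * x ^ 24 + 361 * x ^ 23 - 63 * x ^ 22 + 109 * x ^ 21 + 361 * x ^ 20 - 75 * x ^ 19 + 116 * x ^ 18 + 409 * x ^ 17 - 43 * x ^ 16 - 63 * x ^ 15 + 109 * x ^ 14 + 361 * x ^ 13 - 63 * x ^ 12 + 109 * x ^ 11 + 373 * x ^ 10 - 70 * x ^ 9 + 61 * x ^ 8 + 341 * x ^ 7 + 109 * x ^ 6 + 361 * x ^ 5 - 75 * x ^ 4 + 104 * x ^ 3 + 404 * x ^ 2 - 12 * x + 7) (L := 1623) (by ring) h1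
  have h1 := strip (a := -1) (b := x ^ 21 + x ^ 19 + x ^ 15 + x ^ 13 + x ^ 9 + x ^ 7 + x ^ 3 + x) (L := 4) (by ring) h1
  have h1 := strip (a := -1) (b := x ^ 21 + x ^ 17 + x ^ 15 + 2 * x ^ 11 + x ^ 7 + x ^ 5 + x) (L := 4) (by ring) h1
  have h1 := strip (a := -1) (b := x ^ 21 - x ^ 20 + x ^ 19 + x ^ 16 + x ^ 13 + x ^ 11 + x ^ 9 + x ^ 7 + x ^ 5 + x ^ 3 + 1) (L := 5) (by ring) h1
  have hpos : 0 < (x ^ 29 + x ^ 23 + x ^ 19 + x ^ 17 + x ^ 13 + x ^ 11 + x ^ 7 + x - 4) := f_pos_E8 x hx 4 (by norm_num)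
  have hf : (x ^ 29 + x ^ 23 + x ^ 19 + x ^ 17 + x ^ 13 + x ^ 11 + x ^ 7 + x - 4) = (x ^ 2 - x + 1) * (x ^ 27 + x ^ 26 - x ^ 24 - x ^ 23 + 2 * x ^ 21 + 2 * x ^ 20 - 2 * x ^ 18 - x ^ 17 + x ^ 16 + 3 * x ^ 15 + 2 * x ^ 14 - x ^ 13 - 3 * x ^ 12 - x ^ 11 + 2 * x ^ 10 + 4 * x ^ 9 + 2 * x ^ 8 - 2 * x ^ 7 - 4 * x ^ 6 - x ^ 5 + 3 * x ^ 4 + 4 * x ^ 3 + x ^ 2 - 3 * x - 4) := by ring
  rw [hf] at h1 hpos ⊢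
  have h2 := strip_keep (a := -1) (b := x ^ 25 + 2 * x ^ 24 + x ^ 23 - 2 * x ^ 22 - 4 * x ^ 21 - 2 * x ^ 20 + 4 * x ^ 19 + 8 * x ^ 18 + 4 * x ^ 17 - 6 * x ^ 16 - 11 * x ^ 15 - 4 * x ^ 14 + 10 * x ^ 13 + 16 * x ^ 12 + 5 * x ^ 11 - 14 * x ^ 10 - 20 * x ^ 9 - 4 * x ^ 8 + 20 * x ^ 7 + 26 * x ^ 6 + 4 * x ^ 5 - 26 * x ^ 4 - 31 * x ^ 3 - 2 * x ^ 2 + 33 * x + 36) (L := 40) (n := 3) (by ring)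
    (ne_of_gt hpos) h1
  have hP : 0 < (x ^ 2 - x + 1) := phi6_pos x hx
  refine mul_le_mul_of_nonneg_left (le_trans (Int.le_of_dvd (by positivity) h2) ?_) hP.le
  norm_num

theorem smallE8_4 : ((List.range 52).all fun q => Nat.ble q 1 ||
    (q ^ 120 * ((q ^ 2 - 1) * (q ^ 8 - 1) * (q ^ 12 - 1) * (q ^ 14 - 1) * (q ^ 18 - 1) * (q ^ 20 - 1) * (q ^ 24 - 1) * (q ^ 30 - 1))) % (q ^ 29 + q ^ 23 + q ^ 19 + q ^ 17 + q ^ 13 + q ^ 11 + q ^ 7 + q - 4) != 0) = true := by decide +kernel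

theorem not_dvdE8_4 (q : ℕ) (hq : IsPrimePow q) :
    ¬ (q ^ 29 + q ^ 23 + q ^ 19 + q ^ 17 + q ^ 13 + q ^ 11 + q ^ 7 + q - 4) ∣ q ^ 120 * ((q ^ 2 - 1) * (q ^ 8 - 1) * (q ^ 12 - 1) * (q ^ 14 - 1) * (q ^ 18 - 1) * (q ^ 20 - 1) * (q ^ 24 - 1) * (q ^ 30 - 1)) := by
  intro h
  have h2 := hq.two_le
  rcases Nat.lt_or_ge q 52 with hs | hl
  · have := List.all_eq_true.1 smallE8_4 q (List.mem_range.2 hs)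
    simp only [Bool.or_eq_true, bne_iff_ne, Nat.ble_eq, beq_iff_eq] at this
    have hm := Nat.mod_eq_zero_of_dvd h
    omega
  · have hle : 4 ≤ q ^ 29 + q ^ 23 + q ^ 19 + q ^ 17 + q ^ 13 + q ^ 11 + q ^ 7 + q := le_trans (by omega) (Nat.le_add_left q _)
    have h' := qpart (j := 4) (w := q ^ 28 + q ^ 22 + q ^ 18 + q ^ 16 + q ^ 12 + q ^ 10 + q ^ 6 + 1) hq (by norm_num) (by omega)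
      (by rw [Nat.sub_add_cancel hle]; ring) h
    have h1 : ∀ n : ℕ, 1 ≤ q ^ n := fun n => Nat.one_le_pow _ _ (by omega)
    have hz := Int.natCast_dvd_natCast.2 h'
    simp only [Nat.cast_mul, Nat.cast_sub (h1 _), Nat.cast_sub hle, Nat.cast_add, Nat.cast_pow, Nat.cast_ofNat,
      Nat.cast_one] at hz
    generalize hx : (q : ℤ) = x at hz
    have hb := boundE8_4 x (by omega) hz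
    have hxl : (52 : ℤ) ≤ x := by omega
    have hp := pow_le_pow_left₀ (by norm_num : (0 : ℤ) ≤ 52) hxl 27
    have hlow := f_ge_E8 x (by omega) 4 (by norm_num)
    have hP := phi6_le x (by omega)
    have hxd : (0 : ℤ) < x ^ 2 := by positivity
    refine absurd (le_trans hlow (le_trans hb (mul_le_mul_of_nonneg_right hP (by norm_num)))) (not_le.2 ?_)
    rw [show x ^ 29 = x ^ 2 * x ^ 27 by ring, show 2 * x ^ 2 * 10008603999387365506002240909238578960138240000 = x ^ 2 * 20017207998774731012004481818477157920276480000 by ring]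
    exact mul_lt_mul_of_pos_left (lt_of_lt_of_le (by norm_num) hp) hxd

theorem boundE8_5 (x : ℤ) (hx : 2 ≤ x)
    (h : (x ^ 29 + x ^ 23 + x ^ 19 + x ^ 17 + x ^ 13 + x ^ 11 + x ^ 7 + x - 5) ∣ 5 * ((x ^ 2 - 1) * (x ^ 8 - 1) * (x ^ 12 - 1) * (x ^ 14 - 1) * (x ^ 18 - 1) * (x ^ 20 - 1) * (x ^ 24 - 1) * (x ^ 30 - 1))) :
    (x ^ 29 + x ^ 23 + x ^ 19 + x ^ 17 + x ^ 13 + x ^ 11 + x ^ 7 + x - 5) ≤ 483257667000796160790406114665561476953125000 := by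
  have h1 : (x ^ 29 + x ^ 23 + x ^ 19 + x ^ 17 + x ^ 13 + x ^ 11 + x ^ 7 + x - 5) ∣ ((x - 1) ^ 8 * ((x + 1) ^ 8 * ((x ^ 2 + x + 1) ^ 4 * ((x ^ 2 + 1) ^ 4 * ((x ^ 4 + x ^ 3 + x ^ 2 + x + 1) ^ 2 * ((x ^ 2 - x + 1) ^ 4 * ((x ^ 6 + x ^ 5 + x ^ 4 + x ^ 3 + x ^ 2 + x + 1) ^ 1 * ((x ^ 4 + 1) ^ 2 * ((x ^ 6 + x ^ 3 + 1) ^ 1 * ((x ^ 4 - x ^ 3 + x ^ 2 - x + 1) ^ 2 * ((x ^ 4 - x ^ 2 + 1) ^ 2 * ((x ^ 6 - x ^ 5 + x ^ 4 - x ^ 3 + x ^ 2 - x + 1) ^ 1 * ((x ^ 8 - x ^ 7 + x ^ 5 - x ^ 4 + x ^ 3 - x + 1) ^ 1 * ((x ^ 6 - x ^ 3 + 1) ^ 1 * ((x ^ 8 - x ^ 6 + x ^ 4 - x ^ 2 + 1) ^ 1 * ((x ^ 8 - x ^ 4 + 1) ^ 1 * ((x ^ 8 + x ^ 7 - x ^ 5 - x ^ 4 - x ^ 3 + x + 1) ^ 1 * 1))))))))))))))))) * 5 := by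
    rw [factorE8] at h
    generalize (x - 1) = p1 at h ⊢
    generalize (x + 1) = p2 at h ⊢
    generalize (x ^ 2 + x + 1) = p3 at h ⊢
    generalize (x ^ 2 + 1) = p4 at h ⊢
    generalize (x ^ 4 + x ^ 3 + x ^ 2 + x + 1) = p5 at h ⊢
    generalize (x ^ 2 - x + 1) = p6 at h ⊢
    generalize (x ^ 6 + x ^ 5 + x ^ 4 + x ^ 3 + x ^ 2 + x + 1) = p7 at h ⊢
    generalize (x ^ 4 + 1) = p8 at h ⊢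
    generalize (x ^ 6 + x ^ 3 + 1) = p9 at h ⊢
    generalize (x ^ 4 - x ^ 3 + x ^ 2 - x + 1) = p10 at h ⊢
    generalize (x ^ 4 - x ^ 2 + 1) = p12 at h ⊢
    generalize (x ^ 6 - x ^ 5 + x ^ 4 - x ^ 3 + x ^ 2 - x + 1) = p14 at h ⊢
    generalize (x ^ 8 - x ^ 7 + x ^ 5 - x ^ 4 + x ^ 3 - x + 1) = p15 at h ⊢
    generalize (x ^ 6 - x ^ 3 + 1) = p18 at h ⊢
    generalize (x ^ 8 - x ^ 6 + x ^ 4 - x ^ 2 + 1) = p20 at h ⊢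
    generalize (x ^ 8 - x ^ 4 + 1) = p24 at h ⊢
    generalize (x ^ 8 + x ^ 7 - x ^ 5 - x ^ 4 - x ^ 3 + x + 1) = p30 at h ⊢
    convert h using 1
    ring
  have h1 := strip (a := 1) (b := -x ^ 28 - x ^ 27 - x ^ 26 - x ^ 25 - x ^ 24 - x ^ 23 - 2 * x ^ 22 - 2 * x ^ 21 - 2 * x ^ 20 - 2 * x ^ 19 - 3 * x ^ 18 - 3 * x ^ 17 - 4 * x ^ 16 - 4 * x ^ 15 - 4 * x ^ 14 - 4 * x ^ 13 - 5 * x ^ 12 - 5 * x ^ 11 - 6 * x ^ 10 - 6 * x ^ 9 - 6 * x ^ 8 - 6 * x ^ 7 - 7 * x ^ 6 - 7 * x ^ 5 - 7 * x ^ 4 - 7 * x ^ 3 - 7 * x ^ 2 - 7 * x - 8) (L := 3) (by ring) h1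
  have h1 := strip (a := -1) (b := x ^ 28 - x ^ 27 + x ^ 26 - x ^ 25 + x ^ 24 - x ^ 23 + 2 * x ^ 22 - 2 * x ^ 21 + 2 * x ^ 20 - 2 * x ^ 19 + 3 * x ^ 18 - 3 * x ^ 17 + 4 * x ^ 16 - 4 * x ^ 15 + 4 * x ^ 14 - 4 * x ^ 13 + 5 * x ^ 12 - 5 * x ^ 11 + 6 * x ^ 10 - 6 * x ^ 9 + 6 * x ^ 8 - 6 * x ^ 7 + 7 * x ^ 6 - 7 * x ^ 5 + 7 * x ^ 4 - 7 * x ^ 3 + 7 * x ^ 2 - 7 * x + 8) (L := 13) (by ring) h1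
  have h1 := strip (a := -1) (b := x ^ 27 - x ^ 26 + x ^ 24 - x ^ 23 + 2 * x ^ 21 - 2 * x ^ 20 + 2 * x ^ 18 - x ^ 17 - x ^ 16 + 3 * x ^ 15 - 2 * x ^ 14 - x ^ 13 + 3 * x ^ 12 - x ^ 11 - 2 * x ^ 10 + 4 * x ^ 9 - 2 * x ^ 8 - 2 * x ^ 7 + 4 * x ^ 6 - x ^ 5 - 3 * x ^ 4 + 4 * x ^ 3 - x ^ 2 - 3 * x + 4) (L := 9) (by ring) h1
  have h1 := strip (a := -1) (b := x ^ 27 - x ^ 25 + x ^ 23 + x ^ 17 + x ^ 11 + x ^ 5 - x ^ 3 + x) (L := 5) (by ring) h1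
  have h1 := strip (a := -1) (b := x ^ 25 - x ^ 24 + x ^ 20 - x ^ 18 + 2 * x ^ 15 - x ^ 14 - x ^ 12 + 2 * x ^ 10 - x ^ 8 - x ^ 6 + 2 * x ^ 5 - x ^ 2 - x + 2) (L := 7) (by ring) h1
  have h1 := strip (a := -1) (b := x ^ 27 + x ^ 26 - x ^ 24 - x ^ 23 + 2 * x ^ 21 + 2 * x ^ 20 - 2 * x ^ 18 - x ^ 17 + x ^ 16 + 3 * x ^ 15 + 2 * x ^ 14 - x ^ 13 - 3 * x ^ 12 - x ^ 11 + 2 * x ^ 10 + 4 * x ^ 9 + 2 * x ^ 8 - 2 * x ^ 7 - 4 * x ^ 6 - x ^ 5 + 3 * x ^ 4 + 4 * x ^ 3 + x ^ 2 - 3 * x - 4) (L := 1) (by ring) h1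
  have h1 := strip (a := -x ^ 5 - 6 * x ^ 4 - 31 * x ^ 3 - 156 * x ^ 2 - 781 * x - 3906) (b := x ^ 28 + 5 * x ^ 27 + 25 * x ^ 26 + 125 * x ^ 25 + 625 * x ^ 24 + 3125 * x ^ 23 - 3905 * x ^ 22 + 6 * x ^ 21 + 30 * x ^ 20 + 150 * x ^ 19 + 751 * x ^ 18 + 3755 * x ^ 17 - 755 * x ^ 16 - 3775 * x ^ 15 + 656 * x ^ 14 + 3280 * x ^ 13 - 3130 * x ^ 12 + 3881 * x ^ 11 - 125 * x ^ 10 - 625 * x ^ 9 - 3125 * x ^ 8 + 3906 * x ^ 7 + 1) (L := 19531) (by ring) h1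
  have h1 := strip (a := -1) (b := x ^ 25 - x ^ 21 + x ^ 19 + x ^ 17 + x ^ 9 + x ^ 7 - x ^ 5 + x) (L := 5) (by ring) h1
  have h1 := strip (a := -30 * x ^ 5 - 67 * x ^ 4 - 83 * x ^ 3 - 282 * x ^ 2 - 230 * x - 1180) (b := 30 * x ^ 28 + 67 * x ^ 27 + 83 * x ^ 26 + 252 * x ^ 25 + 163 * x ^ 24 + 1097 * x ^ 23 - 252 * x ^ 22 - 163 * x ^ 21 - 1097 * x ^ 20 + 282 * x ^ 19 + 260 * x ^ 18 + 1247 * x ^ 17 + 83 * x ^ 16 + 252 * x ^ 15 + 163 * x ^ 14 + 1097 * x ^ 13 - 252 * x ^ 12 - 163 * x ^ 11 - 1067 * x ^ 10 + 349 * x ^ 9 + 313 * x ^ 8 + 1432 * x ^ 7 + 163 * x ^ 6 + 1097 * x ^ 5 - 282 * x ^ 4 - 230 * x ^ 3 - 1180 * x ^ 2 + 30 * x + 97) (L := 5997) (by ring) h1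
  have h1 := strip (a := -1) (b := x ^ 25 + x ^ 24 - x ^ 20 + x ^ 18 + 2 * x ^ 15 + x ^ 14 + x ^ 12 - 2 * x ^ 10 + x ^ 8 + x ^ 6 + 2 * x ^ 5 + x ^ 2 - x - 2) (L := 3) (by ring) h1
  have h1 := strip (a := -1) (b := x ^ 25 + x ^ 23 + x ^ 15 + 2 * x ^ 13 + x ^ 11 + x ^ 3 + x) (L := 5) (by ring) h1
  have h1 := strip (a := -x ^ 5 - 4 * x ^ 4 - 21 * x ^ 3 - 104 * x ^ 2 - 521 * x - 2604) (b := x ^ 28 + 5 * x ^ 27 + 25 * x ^ 26 + 125 * x ^ 25 + 625 * x ^ 24 + 3125 * x ^ 23 + 2605 * x ^ 22 + 4 * x ^ 21 + 20 * x ^ 20 + 100 * x ^ 19 + 501 * x ^ 18 + 2505 * x ^ 17 - 495 * x ^ 16 - 2475 * x ^ 15 + 646 * x ^ 14 + 3230 * x ^ 13 + 3130 * x ^ 12 + 2629 * x ^ 11 + 125 * x ^ 10 + 625 * x ^ 9 + 3125 * x ^ 8 + 2604 * x ^ 7 + 1) (L := 13021) (by ring) h1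
  have h1 := strip (a := -1) (b := x ^ 21 + x ^ 20 + x ^ 19 - x ^ 16 + x ^ 13 + x ^ 11 + x ^ 9 + x ^ 7 + x ^ 5 + x ^ 3 - 1) (L := 4) (by ring) h1
  have h1 := strip (a := -60 * x ^ 5 - 49 * x ^ 4 + 251 * x ^ 3 + 556 * x ^ 2 - 710 * x - 3490) (b := 60 * x ^ 28 + 49 * x ^ 27 - 251 * x ^ 26 - 496 * x ^ 25 + 759 * x ^ 24 + 3239 * x ^ 23 - 496 * x ^ 22 + 759 * x ^ 21 + 3239 * x ^ 20 - 556 * x ^ 19 + 770 * x ^ 18 + 3539 * x ^ 17 - 251 * x ^ 16 - 496 * x ^ 15 + 759 * x ^ 14 + 3239 * x ^ 13 - 496 * x ^ 12 + 759 * x ^ 11 + 3299 * x ^ 10 - 507 * x ^ 9 + 459 * x ^ 8 + 2994 * x ^ 7 + 759 * x ^ 6 + 3239 * x ^ 5 - 556 * x ^ 4 + 710 * x ^ 3 + 3490 * x ^ 2 - 60 * x + 11) (L := 17461) (by ring) h1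
  have h1 := strip (a := -1) (b := x ^ 21 + x ^ 19 + x ^ 15 + x ^ 13 + x ^ 9 + x ^ 7 + x ^ 3 + x) (L := 5) (by ring) h1
  have h1 := strip (a := -1) (b := x ^ 21 + x ^ 17 + x ^ 15 + 2 * x ^ 11 + x ^ 7 + x ^ 5 + x) (L := 5) (by ring) h1
  have h1 := strip (a := -1) (b := x ^ 21 - x ^ 20 + x ^ 19 + x ^ 16 + x ^ 13 + x ^ 11 + x ^ 9 + x ^ 7 + x ^ 5 + x ^ 3 + 1) (L := 6) (by ring) h1
  have hpos : 0 < (x ^ 29 + x ^ 23 + x ^ 19 + x ^ 17 + x ^ 13 + x ^ 11 + x ^ 7 + x - 5) := f_pos_E8 x hx 5 (by norm_num)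
  refine le_trans (Int.le_of_dvd (by norm_num) h1) ?_
  norm_num

theorem smallE8_5 : ((List.range 35).all fun q => Nat.ble q 1 ||
    (q ^ 120 * ((q ^ 2 - 1) * (q ^ 8 - 1) * (q ^ 12 - 1) * (q ^ 14 - 1) * (q ^ 18 - 1) * (q ^ 20 - 1) * (q ^ 24 - 1) * (q ^ 30 - 1))) % (q ^ 29 + q ^ 23 + q ^ 19 + q ^ 17 + q ^ 13 + q ^ 11 + q ^ 7 + q - 5) != 0) = true := by decide +kernel

theorem not_dvdE8_5 (q : ℕ) (hq : IsPrimePow q) :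
    ¬ (q ^ 29 + q ^ 23 + q ^ 19 + q ^ 17 + q ^ 13 + q ^ 11 + q ^ 7 + q - 5) ∣ q ^ 120 * ((q ^ 2 - 1) * (q ^ 8 - 1) * (q ^ 12 - 1) * (q ^ 14 - 1) * (q ^ 18 - 1) * (q ^ 20 - 1) * (q ^ 24 - 1) * (q ^ 30 - 1)) := by
  intro h
  have h2 := hq.two_le
  rcases Nat.lt_or_ge q 35 with hs | hl
  · have := List.all_eq_true.1 smallE8_5 q (List.mem_range.2 hs)
    simp only [Bool.or_eq_true, bne_iff_ne, Nat.ble_eq, beq_iff_eq] at this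
    have hm := Nat.mod_eq_zero_of_dvd h
    omega
  · have hle : 5 ≤ q ^ 29 + q ^ 23 + q ^ 19 + q ^ 17 + q ^ 13 + q ^ 11 + q ^ 7 + q := le_trans (by omega) (Nat.le_add_left q _)
    have h' := qpart (j := 5) (w := q ^ 28 + q ^ 22 + q ^ 18 + q ^ 16 + q ^ 12 + q ^ 10 + q ^ 6 + 1) hq (by norm_num) (by omega)
      (by rw [Nat.sub_add_cancel hle]; ring) h
    have h1 : ∀ n : ℕ, 1 ≤ q ^ n := fun n => Nat.one_le_pow _ _ (by omega)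
    have hz := Int.natCast_dvd_natCast.2 h'
    simp only [Nat.cast_mul, Nat.cast_sub (h1 _), Nat.cast_sub hle, Nat.cast_add, Nat.cast_pow, Nat.cast_ofNat,
      Nat.cast_one] at hz
    generalize hx : (q : ℤ) = x at hz
    have hb := boundE8_5 x (by omega) hz
    have hxl : (35 : ℤ) ≤ x := by omega
    have hp := pow_le_pow_left₀ (by norm_num : (0 : ℤ) ≤ 35) hxl 29
    have hlow := f_ge_E8 x (by omega) 5 (by norm_num)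
    exact absurd (le_trans hlow hb) (not_le.2 (lt_of_lt_of_le (by norm_num) hp))

theorem boundE8_6 (x : ℤ) (hx : 2 ≤ x)
    (h : (x ^ 29 + x ^ 23 + x ^ 19 + x ^ 17 + x ^ 13 + x ^ 11 + x ^ 7 + x - 6) ∣ 6 * ((x ^ 2 - 1) * (x ^ 8 - 1) * (x ^ 12 - 1) * (x ^ 14 - 1) * (x ^ 18 - 1) * (x ^ 20 - 1) * (x ^ 24 - 1) * (x ^ 30 - 1))) :
    (x ^ 29 + x ^ 23 + x ^ 19 + x ^ 17 + x ^ 13 + x ^ 11 + x ^ 7 + x - 6) ≤ 4553421590637141963192527145382798598917324800000 := by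
  have h1 : (x ^ 29 + x ^ 23 + x ^ 19 + x ^ 17 + x ^ 13 + x ^ 11 + x ^ 7 + x - 6) ∣ ((x - 1) ^ 8 * ((x + 1) ^ 8 * ((x ^ 2 + x + 1) ^ 4 * ((x ^ 2 + 1) ^ 4 * ((x ^ 4 + x ^ 3 + x ^ 2 + x + 1) ^ 2 * ((x ^ 2 - x + 1) ^ 4 * ((x ^ 6 + x ^ 5 + x ^ 4 + x ^ 3 + x ^ 2 + x + 1) ^ 1 * ((x ^ 4 + 1) ^ 2 * ((x ^ 6 + x ^ 3 + 1) ^ 1 * ((x ^ 4 - x ^ 3 + x ^ 2 - x + 1) ^ 2 * ((x ^ 4 - x ^ 2 + 1) ^ 2 * ((x ^ 6 - x ^ 5 + x ^ 4 - x ^ 3 + x ^ 2 - x + 1) ^ 1 * ((x ^ 8 - x ^ 7 + x ^ 5 - x ^ 4 + x ^ 3 - x + 1) ^ 1 * ((x ^ 6 - x ^ 3 + 1) ^ 1 * ((x ^ 8 - x ^ 6 + x ^ 4 - x ^ 2 + 1) ^ 1 * ((x ^ 8 - x ^ 4 + 1) ^ 1 * ((x ^ 8 + x ^ 7 - x ^ 5 - x ^ 4 - x ^ 3 + x + 1) ^ 1 * 1))))))))))))))))) * 6 := by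
    rw [factorE8] at h
    generalize (x - 1) = p1 at h ⊢
    generalize (x + 1) = p2 at h ⊢
    generalize (x ^ 2 + x + 1) = p3 at h ⊢
    generalize (x ^ 2 + 1) = p4 at h ⊢
    generalize (x ^ 4 + x ^ 3 + x ^ 2 + x + 1) = p5 at h ⊢
    generalize (x ^ 2 - x + 1) = p6 at h ⊢
    generalize (x ^ 6 + x ^ 5 + x ^ 4 + x ^ 3 + x ^ 2 + x + 1) = p7 at h ⊢
    generalize (x ^ 4 + 1) = p8 at h ⊢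
    generalize (x ^ 6 + x ^ 3 + 1) = p9 at h ⊢
    generalize (x ^ 4 - x ^ 3 + x ^ 2 - x + 1) = p10 at h ⊢
    generalize (x ^ 4 - x ^ 2 + 1) = p12 at h ⊢
    generalize (x ^ 6 - x ^ 5 + x ^ 4 - x ^ 3 + x ^ 2 - x + 1) = p14 at h ⊢
    generalize (x ^ 8 - x ^ 7 + x ^ 5 - x ^ 4 + x ^ 3 - x + 1) = p15 at h ⊢
    generalize (x ^ 6 - x ^ 3 + 1) = p18 at h ⊢
    generalize (x ^ 8 - x ^ 6 + x ^ 4 - x ^ 2 + 1) = p20 at h ⊢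
    generalize (x ^ 8 - x ^ 4 + 1) = p24 at h ⊢
    generalize (x ^ 8 + x ^ 7 - x ^ 5 - x ^ 4 - x ^ 3 + x + 1) = p30 at h ⊢
    convert h using 1
    ring
  have h1 := strip (a := 1) (b := -x ^ 28 - x ^ 27 - x ^ 26 - x ^ 25 - x ^ 24 - x ^ 23 - 2 * x ^ 22 - 2 * x ^ 21 - 2 * x ^ 20 - 2 * x ^ 19 - 3 * x ^ 18 - 3 * x ^ 17 - 4 * x ^ 16 - 4 * x ^ 15 - 4 * x ^ 14 - 4 * x ^ 13 - 5 * x ^ 12 - 5 * x ^ 11 - 6 * x ^ 10 - 6 * x ^ 9 - 6 * x ^ 8 - 6 * x ^ 7 - 7 * x ^ 6 - 7 * x ^ 5 - 7 * x ^ 4 - 7 * x ^ 3 - 7 * x ^ 2 - 7 * x - 8) (L := 2) (by ring) h1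
  have h1 := strip (a := -1) (b := x ^ 28 - x ^ 27 + x ^ 26 - x ^ 25 + x ^ 24 - x ^ 23 + 2 * x ^ 22 - 2 * x ^ 21 + 2 * x ^ 20 - 2 * x ^ 19 + 3 * x ^ 18 - 3 * x ^ 17 + 4 * x ^ 16 - 4 * x ^ 15 + 4 * x ^ 14 - 4 * x ^ 13 + 5 * x ^ 12 - 5 * x ^ 11 + 6 * x ^ 10 - 6 * x ^ 9 + 6 * x ^ 8 - 6 * x ^ 7 + 7 * x ^ 6 - 7 * x ^ 5 + 7 * x ^ 4 - 7 * x ^ 3 + 7 * x ^ 2 - 7 * x + 8) (L := 14) (by ring) h1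
  have h1 := strip (a := -1) (b := x ^ 27 - x ^ 26 + x ^ 24 - x ^ 23 + 2 * x ^ 21 - 2 * x ^ 20 + 2 * x ^ 18 - x ^ 17 - x ^ 16 + 3 * x ^ 15 - 2 * x ^ 14 - x ^ 13 + 3 * x ^ 12 - x ^ 11 - 2 * x ^ 10 + 4 * x ^ 9 - 2 * x ^ 8 - 2 * x ^ 7 + 4 * x ^ 6 - x ^ 5 - 3 * x ^ 4 + 4 * x ^ 3 - x ^ 2 - 3 * x + 4) (L := 10) (by ring) h1
  have h1 := strip (a := -1) (b := x ^ 27 - x ^ 25 + x ^ 23 + x ^ 17 + x ^ 11 + x ^ 5 - x ^ 3 + x) (L := 6) (by ring) h1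
  have h1 := strip (a := -1) (b := x ^ 25 - x ^ 24 + x ^ 20 - x ^ 18 + 2 * x ^ 15 - x ^ 14 - x ^ 12 + 2 * x ^ 10 - x ^ 8 - x ^ 6 + 2 * x ^ 5 - x ^ 2 - x + 2) (L := 8) (by ring) h1
  have h1 := strip (a := -1) (b := x ^ 27 + x ^ 26 - x ^ 24 - x ^ 23 + 2 * x ^ 21 + 2 * x ^ 20 - 2 * x ^ 18 - x ^ 17 + x ^ 16 + 3 * x ^ 15 + 2 * x ^ 14 - x ^ 13 - 3 * x ^ 12 - x ^ 11 + 2 * x ^ 10 + 4 * x ^ 9 + 2 * x ^ 8 - 2 * x ^ 7 - 4 * x ^ 6 - x ^ 5 + 3 * x ^ 4 + 4 * x ^ 3 + x ^ 2 - 3 * x - 4) (L := 2) (by ring) h1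
  have h1 := strip (a := -x ^ 5 - 7 * x ^ 4 - 43 * x ^ 3 - 259 * x ^ 2 - 1555 * x - 9331) (b := x ^ 28 + 6 * x ^ 27 + 36 * x ^ 26 + 216 * x ^ 25 + 1296 * x ^ 24 + 7776 * x ^ 23 - 9330 * x ^ 22 + 7 * x ^ 21 + 42 * x ^ 20 + 252 * x ^ 19 + 1513 * x ^ 18 + 9078 * x ^ 17 - 1518 * x ^ 16 - 9108 * x ^ 15 + 1339 * x ^ 14 + 8034 * x ^ 13 - 7782 * x ^ 12 + 9295 * x ^ 11 - 216 * x ^ 10 - 1296 * x ^ 9 - 7776 * x ^ 8 + 9331 * x ^ 7 + 1) (L := 55987) (by ring) h1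
  have h1 := strip (a := -1) (b := x ^ 25 - x ^ 21 + x ^ 19 + x ^ 17 + x ^ 9 + x ^ 7 - x ^ 5 + x) (L := 6) (by ring) h1
  have h1 := strip (a := -126 * x ^ 5 - 325 * x ^ 4 - 431 * x ^ 3 - 1645 * x ^ 2 - 1392 * x - 8478) (b := 126 * x ^ 28 + 325 * x ^ 27 + 431 * x ^ 26 + 1519 * x ^ 25 + 1067 * x ^ 24 + 8047 * x ^ 23 - 1519 * x ^ 22 - 1067 * x ^ 21 - 8047 * x ^ 20 + 1645 * x ^ 19 + 1518 * x ^ 18 + 8803 * x ^ 17 + 431 * x ^ 16 + 1519 * x ^ 15 + 1067 * x ^ 14 + 8047 * x ^ 13 - 1519 * x ^ 12 - 1067 * x ^ 11 - 7921 * x ^ 10 + 1970 * x ^ 9 + 1823 * x ^ 8 + 9997 * x ^ 7 + 1067 * x ^ 6 + 8047 * x ^ 5 - 1645 * x ^ 4 - 1392 * x ^ 3 - 8478 * x ^ 2 + 126 * x + 451) (L := 51319) (by ring) h1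
  have h1 := strip (a := -1) (b := x ^ 25 + x ^ 24 - x ^ 20 + x ^ 18 + 2 * x ^ 15 + x ^ 14 + x ^ 12 - 2 * x ^ 10 + x ^ 8 + x ^ 6 + 2 * x ^ 5 + x ^ 2 - x - 2) (L := 4) (by ring) h1
  have h1 := strip (a := -1) (b := x ^ 25 + x ^ 23 + x ^ 15 + 2 * x ^ 13 + x ^ 11 + x ^ 3 + x) (L := 6) (by ring) h1
  have h1 := strip (a := -x ^ 5 - 5 * x ^ 4 - 31 * x ^ 3 - 185 * x ^ 2 - 1111 * x - 6665) (b := x ^ 28 + 6 * x ^ 27 + 36 * x ^ 26 + 216 * x ^ 25 + 1296 * x ^ 24 + 7776 * x ^ 23 + 6666 * x ^ 22 + 5 * x ^ 21 + 30 * x ^ 20 + 180 * x ^ 19 + 1081 * x ^ 18 + 6486 * x ^ 17 - 1074 * x ^ 16 - 6444 * x ^ 15 + 1327 * x ^ 14 + 7962 * x ^ 13 + 7782 * x ^ 12 + 6701 * x ^ 11 + 216 * x ^ 10 + 1296 * x ^ 9 + 7776 * x ^ 8 + 6665 * x ^ 7 + 1) (L := 39991) (by ring) h1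
  have h1 := strip (a := -1) (b := x ^ 21 + x ^ 20 + x ^ 19 - x ^ 16 + x ^ 13 + x ^ 11 + x ^ 9 + x ^ 7 + x ^ 5 + x ^ 3 - 1) (L := 5) (by ring) h1
  have h1 := strip (a := -90 * x ^ 5 - 107 * x ^ 4 + 433 * x ^ 3 + 1165 * x ^ 2 - 1416 * x - 8406) (b := 90 * x ^ 28 + 107 * x ^ 27 - 433 * x ^ 26 - 1075 * x ^ 25 + 1523 * x ^ 24 + 7973 * x ^ 23 - 1075 * x ^ 22 + 1523 * x ^ 21 + 7973 * x ^ 20 - 1165 * x ^ 19 + 1506 * x ^ 18 + 8513 * x ^ 17 - 433 * x ^ 16 - 1075 * x ^ 15 + 1523 * x ^ 14 + 7973 * x ^ 13 - 1075 * x ^ 12 + 1523 * x ^ 11 + 8063 * x ^ 10 - 1058 * x ^ 9 + 983 * x ^ 8 + 7331 * x ^ 7 + 1523 * x ^ 6 + 7973 * x ^ 5 - 1165 * x ^ 4 + 1416 * x ^ 3 + 8406 * x ^ 2 - 90 * x - 17) (L := 50419) (by ring) h1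
  have h1 := strip (a := -1) (b := x ^ 21 + x ^ 19 + x ^ 15 + x ^ 13 + x ^ 9 + x ^ 7 + x ^ 3 + x) (L := 6) (by ring) h1
  have h1 := strip (a := -1) (b := x ^ 21 + x ^ 17 + x ^ 15 + 2 * x ^ 11 + x ^ 7 + x ^ 5 + x) (L := 6) (by ring) h1
  have h1 := strip (a := -1) (b := x ^ 21 - x ^ 20 + x ^ 19 + x ^ 16 + x ^ 13 + x ^ 11 + x ^ 9 + x ^ 7 + x ^ 5 + x ^ 3 + 1) (L := 7) (by ring) h1
  have hpos : 0 < (x ^ 29 + x ^ 23 + x ^ 19 + x ^ 17 + x ^ 13 + x ^ 11 + x ^ 7 + x - 6) := f_pos_E8 x hx 6 (by norm_num)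
  refine le_trans (Int.le_of_dvd (by norm_num) h1) ?_
  norm_num

theorem smallE8_6 : ((List.range 48).all fun q => Nat.ble q 1 ||
    (q ^ 120 * ((q ^ 2 - 1) * (q ^ 8 - 1) * (q ^ 12 - 1) * (q ^ 14 - 1) * (q ^ 18 - 1) * (q ^ 20 - 1) * (q ^ 24 - 1) * (q ^ 30 - 1))) % (q ^ 29 + q ^ 23 + q ^ 19 + q ^ 17 + q ^ 13 + q ^ 11 + q ^ 7 + q - 6) != 0) = true := by decide +kernel

theorem not_dvdE8_6 (q : ℕ) (hq : IsPrimePow q) :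
    ¬ (q ^ 29 + q ^ 23 + q ^ 19 + q ^ 17 + q ^ 13 + q ^ 11 + q ^ 7 + q - 6) ∣ q ^ 120 * ((q ^ 2 - 1) * (q ^ 8 - 1) * (q ^ 12 - 1) * (q ^ 14 - 1) * (q ^ 18 - 1) * (q ^ 20 - 1) * (q ^ 24 - 1) * (q ^ 30 - 1)) := by
  intro h
  have h2 := hq.two_le
  rcases Nat.lt_or_ge q 48 with hs | hl
  · have := List.all_eq_true.1 smallE8_6 q (List.mem_range.2 hs)
    simp only [Bool.or_eq_true, bne_iff_ne, Nat.ble_eq, beq_iff_eq] at this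
    have hm := Nat.mod_eq_zero_of_dvd h
    omega
  · have hle : 6 ≤ q ^ 29 + q ^ 23 + q ^ 19 + q ^ 17 + q ^ 13 + q ^ 11 + q ^ 7 + q := le_trans (by omega) (Nat.le_add_left q _)
    have h' := qpart (j := 6) (w := q ^ 28 + q ^ 22 + q ^ 18 + q ^ 16 + q ^ 12 + q ^ 10 + q ^ 6 + 1) hq (by norm_num) (by omega)
      (by rw [Nat.sub_add_cancel hle]; ring) h
    have h1 : ∀ n : ℕ, 1 ≤ q ^ n := fun n => Nat.one_le_pow _ _ (by omega)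
    have hz := Int.natCast_dvd_natCast.2 h'
    simp only [Nat.cast_mul, Nat.cast_sub (h1 _), Nat.cast_sub hle, Nat.cast_add, Nat.cast_pow, Nat.cast_ofNat,
      Nat.cast_one] at hz
    generalize hx : (q : ℤ) = x at hz
    have hb := boundE8_6 x (by omega) hz
    have hxl : (48 : ℤ) ≤ x := by omega
    have hp := pow_le_pow_left₀ (by norm_num : (0 : ℤ) ≤ 48) hxl 29
    have hlow := f_ge_E8 x (by omega) 6 (by norm_num)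
    exact absurd (le_trans hlow hb) (not_le.2 (lt_of_lt_of_le (by norm_num) hp))

theorem boundE8_7 (x : ℤ) (hx : 2 ≤ x)
    (h : (x ^ 29 + x ^ 23 + x ^ 19 + x ^ 17 + x ^ 13 + x ^ 11 + x ^ 7 + x - 7) ∣ 7 * ((x ^ 2 - 1) * (x ^ 8 - 1) * (x ^ 12 - 1) * (x ^ 14 - 1) * (x ^ 18 - 1) * (x ^ 20 - 1) * (x ^ 24 - 1) * (x ^ 30 - 1))) :
    (x ^ 29 + x ^ 23 + x ^ 19 + x ^ 17 + x ^ 13 + x ^ 11 + x ^ 7 + x - 7) ≤ 43190409861426870132100671911890695905164218750000 := by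
  have h1 : (x ^ 29 + x ^ 23 + x ^ 19 + x ^ 17 + x ^ 13 + x ^ 11 + x ^ 7 + x - 7) ∣ ((x - 1) ^ 8 * ((x + 1) ^ 8 * ((x ^ 2 + x + 1) ^ 4 * ((x ^ 2 + 1) ^ 4 * ((x ^ 4 + x ^ 3 + x ^ 2 + x + 1) ^ 2 * ((x ^ 2 - x + 1) ^ 4 * ((x ^ 6 + x ^ 5 + x ^ 4 + x ^ 3 + x ^ 2 + x + 1) ^ 1 * ((x ^ 4 + 1) ^ 2 * ((x ^ 6 + x ^ 3 + 1) ^ 1 * ((x ^ 4 - x ^ 3 + x ^ 2 - x + 1) ^ 2 * ((x ^ 4 - x ^ 2 + 1) ^ 2 * ((x ^ 6 - x ^ 5 + x ^ 4 - x ^ 3 + x ^ 2 - x + 1) ^ 1 * ((x ^ 8 - x ^ 7 + x ^ 5 - x ^ 4 + x ^ 3 - x + 1) ^ 1 * ((x ^ 6 - x ^ 3 + 1) ^ 1 * ((x ^ 8 - x ^ 6 + x ^ 4 - x ^ 2 + 1) ^ 1 * ((x ^ 8 - x ^ 4 + 1) ^ 1 * ((x ^ 8 + x ^ 7 - x ^ 5 - x ^ 4 - x ^ 3 + x + 1) ^ 1 * 1))))))))))))))))) * 7 := by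
    rw [factorE8] at h
    generalize (x - 1) = p1 at h ⊢
    generalize (x + 1) = p2 at h ⊢
    generalize (x ^ 2 + x + 1) = p3 at h ⊢
    generalize (x ^ 2 + 1) = p4 at h ⊢
    generalize (x ^ 4 + x ^ 3 + x ^ 2 + x + 1) = p5 at h ⊢
    generalize (x ^ 2 - x + 1) = p6 at h ⊢
    generalize (x ^ 6 + x ^ 5 + x ^ 4 + x ^ 3 + x ^ 2 + x + 1) = p7 at h ⊢
    generalize (x ^ 4 + 1) = p8 at h ⊢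
    generalize (x ^ 6 + x ^ 3 + 1) = p9 at h ⊢
    generalize (x ^ 4 - x ^ 3 + x ^ 2 - x + 1) = p10 at h ⊢
    generalize (x ^ 4 - x ^ 2 + 1) = p12 at h ⊢
    generalize (x ^ 6 - x ^ 5 + x ^ 4 - x ^ 3 + x ^ 2 - x + 1) = p14 at h ⊢
    generalize (x ^ 8 - x ^ 7 + x ^ 5 - x ^ 4 + x ^ 3 - x + 1) = p15 at h ⊢
    generalize (x ^ 6 - x ^ 3 + 1) = p18 at h ⊢
    generalize (x ^ 8 - x ^ 6 + x ^ 4 - x ^ 2 + 1) = p20 at h ⊢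
    generalize (x ^ 8 - x ^ 4 + 1) = p24 at h ⊢
    generalize (x ^ 8 + x ^ 7 - x ^ 5 - x ^ 4 - x ^ 3 + x + 1) = p30 at h ⊢
    convert h using 1
    ring
  have h1 := strip (a := 1) (b := -x ^ 28 - x ^ 27 - x ^ 26 - x ^ 25 - x ^ 24 - x ^ 23 - 2 * x ^ 22 - 2 * x ^ 21 - 2 * x ^ 20 - 2 * x ^ 19 - 3 * x ^ 18 - 3 * x ^ 17 - 4 * x ^ 16 - 4 * x ^ 15 - 4 * x ^ 14 - 4 * x ^ 13 - 5 * x ^ 12 - 5 * x ^ 11 - 6 * x ^ 10 - 6 * x ^ 9 - 6 * x ^ 8 - 6 * x ^ 7 - 7 * x ^ 6 - 7 * x ^ 5 - 7 * x ^ 4 - 7 * x ^ 3 - 7 * x ^ 2 - 7 * x - 8) (L := 1) (by ring) h1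
  have h1 := strip (a := -1) (b := x ^ 28 - x ^ 27 + x ^ 26 - x ^ 25 + x ^ 24 - x ^ 23 + 2 * x ^ 22 - 2 * x ^ 21 + 2 * x ^ 20 - 2 * x ^ 19 + 3 * x ^ 18 - 3 * x ^ 17 + 4 * x ^ 16 - 4 * x ^ 15 + 4 * x ^ 14 - 4 * x ^ 13 + 5 * x ^ 12 - 5 * x ^ 11 + 6 * x ^ 10 - 6 * x ^ 9 + 6 * x ^ 8 - 6 * x ^ 7 + 7 * x ^ 6 - 7 * x ^ 5 + 7 * x ^ 4 - 7 * x ^ 3 + 7 * x ^ 2 - 7 * x + 8) (L := 15) (by ring) h1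
  have h1 := strip (a := -1) (b := x ^ 27 - x ^ 26 + x ^ 24 - x ^ 23 + 2 * x ^ 21 - 2 * x ^ 20 + 2 * x ^ 18 - x ^ 17 - x ^ 16 + 3 * x ^ 15 - 2 * x ^ 14 - x ^ 13 + 3 * x ^ 12 - x ^ 11 - 2 * x ^ 10 + 4 * x ^ 9 - 2 * x ^ 8 - 2 * x ^ 7 + 4 * x ^ 6 - x ^ 5 - 3 * x ^ 4 + 4 * x ^ 3 - x ^ 2 - 3 * x + 4) (L := 11) (by ring) h1
  have h1 := strip (a := -1) (b := x ^ 27 - x ^ 25 + x ^ 23 + x ^ 17 + x ^ 11 + x ^ 5 - x ^ 3 + x) (L := 7) (by ring) h1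
  have h1 := strip (a := -1) (b := x ^ 25 - x ^ 24 + x ^ 20 - x ^ 18 + 2 * x ^ 15 - x ^ 14 - x ^ 12 + 2 * x ^ 10 - x ^ 8 - x ^ 6 + 2 * x ^ 5 - x ^ 2 - x + 2) (L := 9) (by ring) h1
  have h1 := strip (a := -1) (b := x ^ 27 + x ^ 26 - x ^ 24 - x ^ 23 + 2 * x ^ 21 + 2 * x ^ 20 - 2 * x ^ 18 - x ^ 17 + x ^ 16 + 3 * x ^ 15 + 2 * x ^ 14 - x ^ 13 - 3 * x ^ 12 - x ^ 11 + 2 * x ^ 10 + 4 * x ^ 9 + 2 * x ^ 8 - 2 * x ^ 7 - 4 * x ^ 6 - x ^ 5 + 3 * x ^ 4 + 4 * x ^ 3 + x ^ 2 - 3 * x - 4) (L := 3) (by ring) h1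
  have h1 := strip (a := -x ^ 5 - 8 * x ^ 4 - 57 * x ^ 3 - 400 * x ^ 2 - 2801 * x - 19608) (b := x ^ 28 + 7 * x ^ 27 + 49 * x ^ 26 + 343 * x ^ 25 + 2401 * x ^ 24 + 16807 * x ^ 23 - 19607 * x ^ 22 + 8 * x ^ 21 + 56 * x ^ 20 + 392 * x ^ 19 + 2745 * x ^ 18 + 19215 * x ^ 17 - 2751 * x ^ 16 - 19257 * x ^ 15 + 2458 * x ^ 14 + 17206 * x ^ 13 - 16814 * x ^ 12 + 19559 * x ^ 11 - 343 * x ^ 10 - 2401 * x ^ 9 - 16807 * x ^ 8 + 19608 * x ^ 7 + 1) (L := 137257) (by ring) h1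
  have h1 := strip (a := -1) (b := x ^ 25 - x ^ 21 + x ^ 19 + x ^ 17 + x ^ 9 + x ^ 7 - x ^ 5 + x) (L := 7) (by ring) h1
  have h1 := strip (a := -168 * x ^ 5 - 491 * x ^ 4 - 685 * x ^ 3 - 2920 * x ^ 2 - 2534 * x - 17906) (b := 168 * x ^ 28 + 491 * x ^ 27 + 685 * x ^ 26 + 2752 * x ^ 25 + 2043 * x ^ 24 + 17221 * x ^ 23 - 2752 * x ^ 22 - 2043 * x ^ 21 - 17221 * x ^ 20 + 2920 * x ^ 19 + 2702 * x ^ 18 + 18397 * x ^ 17 + 685 * x ^ 16 + 2752 * x ^ 15 + 2043 * x ^ 14 + 17221 * x ^ 13 - 2752 * x ^ 12 - 2043 * x ^ 11 - 17053 * x ^ 10 + 3411 * x ^ 9 + 3219 * x ^ 8 + 20658 * x ^ 7 + 2043 * x ^ 6 + 17221 * x ^ 5 - 2920 * x ^ 4 - 2534 * x ^ 3 - 17906 * x ^ 2 + 168 * x + 659) (L := 126001) (by ring) h1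
  have h1 := strip (a := -1) (b := x ^ 25 + x ^ 24 - x ^ 20 + x ^ 18 + 2 * x ^ 15 + x ^ 14 + x ^ 12 - 2 * x ^ 10 + x ^ 8 + x ^ 6 + 2 * x ^ 5 + x ^ 2 - x - 2) (L := 5) (by ring) h1
  have h1 := strip (a := -1) (b := x ^ 25 + x ^ 23 + x ^ 15 + 2 * x ^ 13 + x ^ 11 + x ^ 3 + x) (L := 7) (by ring) h1
  have h1 := strip (a := -x ^ 5 - 6 * x ^ 4 - 43 * x ^ 3 - 300 * x ^ 2 - 2101 * x - 14706) (b := x ^ 28 + 7 * x ^ 27 + 49 * x ^ 26 + 343 * x ^ 25 + 2401 * x ^ 24 + 16807 * x ^ 23 + 14707 * x ^ 22 + 6 * x ^ 21 + 42 * x ^ 20 + 294 * x ^ 19 + 2059 * x ^ 18 + 14413 * x ^ 17 - 2051 * x ^ 16 - 14357 * x ^ 15 + 2444 * x ^ 14 + 17108 * x ^ 13 + 16814 * x ^ 12 + 14755 * x ^ 11 + 343 * x ^ 10 + 2401 * x ^ 9 + 16807 * x ^ 8 + 14706 * x ^ 7 + 1) (L := 102943) (by ring) h1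
  have h1 := strip (a := -1) (b := x ^ 21 + x ^ 20 + x ^ 19 - x ^ 16 + x ^ 13 + x ^ 11 + x ^ 9 + x ^ 7 + x ^ 5 + x ^ 3 - 1) (L := 6) (by ring) h1
  have h1 := strip (a := -42 * x ^ 5 - 65 * x ^ 4 + 229 * x ^ 3 + 726 * x ^ 2 - 854 * x - 5936) (b := 42 * x ^ 28 + 65 * x ^ 27 - 229 * x ^ 26 - 684 * x ^ 25 + 919 * x ^ 24 + 5707 * x ^ 23 - 684 * x ^ 22 + 919 * x ^ 21 + 5707 * x ^ 20 - 726 * x ^ 19 + 896 * x ^ 18 + 6001 * x ^ 17 - 229 * x ^ 16 - 684 * x ^ 15 + 919 * x ^ 14 + 5707 * x ^ 13 - 684 * x ^ 12 + 919 * x ^ 11 + 5749 * x ^ 10 - 661 * x ^ 9 + 625 * x ^ 8 + 5252 * x ^ 7 + 919 * x ^ 6 + 5707 * x ^ 5 - 726 * x ^ 4 + 854 * x ^ 3 + 5936 * x ^ 2 - 42 * x - 23) (L := 41529) (by ring) h1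
  have h1 := strip (a := -1) (b := x ^ 21 + x ^ 19 + x ^ 15 + x ^ 13 + x ^ 9 + x ^ 7 + x ^ 3 + x) (L := 7) (by ring) h1
  have h1 := strip (a := -1) (b := x ^ 21 + x ^ 17 + x ^ 15 + 2 * x ^ 11 + x ^ 7 + x ^ 5 + x) (L := 7) (by ring) h1
  have h1 := strip (a := -1) (b := x ^ 21 - x ^ 20 + x ^ 19 + x ^ 16 + x ^ 13 + x ^ 11 + x ^ 9 + x ^ 7 + x ^ 5 + x ^ 3 + 1) (L := 8) (by ring) h1
  have hpos : 0 < (x ^ 29 + x ^ 23 + x ^ 19 + x ^ 17 + x ^ 13 + x ^ 11 + x ^ 7 + x - 7) := f_pos_E8 x hx 7 (by norm_num)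
  refine le_trans (Int.le_of_dvd (by norm_num) h1) ?_
  norm_num

theorem smallE8_7 : ((List.range 52).all fun q => Nat.ble q 1 ||
    (q ^ 120 * ((q ^ 2 - 1) * (q ^ 8 - 1) * (q ^ 12 - 1) * (q ^ 14 - 1) * (q ^ 18 - 1) * (q ^ 20 - 1) * (q ^ 24 - 1) * (q ^ 30 - 1))) % (q ^ 29 + q ^ 23 + q ^ 19 + q ^ 17 + q ^ 13 + q ^ 11 + q ^ 7 + q - 7) != 0) = true := by decide +kernel

theorem not_dvdE8_7 (q : ℕ) (hq : IsPrimePow q) :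
    ¬ (q ^ 29 + q ^ 23 + q ^ 19 + q ^ 17 + q ^ 13 + q ^ 11 + q ^ 7 + q - 7) ∣ q ^ 120 * ((q ^ 2 - 1) * (q ^ 8 - 1) * (q ^ 12 - 1) * (q ^ 14 - 1) * (q ^ 18 - 1) * (q ^ 20 - 1) * (q ^ 24 - 1) * (q ^ 30 - 1)) := by
  intro h
  have h2 := hq.two_le
  rcases Nat.lt_or_ge q 52 with hs | hl
  · have := List.all_eq_true.1 smallE8_7 q (List.mem_range.2 hs)
    simp only [Bool.or_eq_true, bne_iff_ne, Nat.ble_eq, beq_iff_eq] at this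
    have hm := Nat.mod_eq_zero_of_dvd h
    omega
  · have hle : 7 ≤ q ^ 29 + q ^ 23 + q ^ 19 + q ^ 17 + q ^ 13 + q ^ 11 + q ^ 7 + q := le_trans (by omega) (Nat.le_add_left q _)
    have h' := qpart (j := 7) (w := q ^ 28 + q ^ 22 + q ^ 18 + q ^ 16 + q ^ 12 + q ^ 10 + q ^ 6 + 1) hq (by norm_num) (by omega)
      (by rw [Nat.sub_add_cancel hle]; ring) h
    have h1 : ∀ n : ℕ, 1 ≤ q ^ n := fun n => Nat.one_le_pow _ _ (by omega)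
    have hz := Int.natCast_dvd_natCast.2 h'
    simp only [Nat.cast_mul, Nat.cast_sub (h1 _), Nat.cast_sub hle, Nat.cast_add, Nat.cast_pow, Nat.cast_ofNat,
      Nat.cast_one] at hz
    generalize hx : (q : ℤ) = x at hz
    have hb := boundE8_7 x (by omega) hz
    have hxl : (52 : ℤ) ≤ x := by omega
    have hp := pow_le_pow_left₀ (by norm_num : (0 : ℤ) ≤ 52) hxl 29
    have hlow := f_ge_E8 x (by omega) 7 (by norm_num)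
    exact absurd (le_trans hlow hb) (not_le.2 (lt_of_lt_of_le (by norm_num) hp))

theorem boundE8_8 (x : ℤ) (hx : 2 ≤ x)
    (h : (x ^ 29 + x ^ 23 + x ^ 19 + x ^ 17 + x ^ 13 + x ^ 11 + x ^ 7 + x - 8) ∣ 8 * ((x ^ 2 - 1) * (x ^ 8 - 1) * (x ^ 12 - 1) * (x ^ 14 - 1) * (x ^ 18 - 1) * (x ^ 20 - 1) * (x ^ 24 - 1) * (x ^ 30 - 1))) :
    (x ^ 29 + x ^ 23 + x ^ 19 + x ^ 17 + x ^ 13 + x ^ 11 + x ^ 7 + x - 8) ≤ (x - 1) * 28009925955822300300835428468428827124991634414993158438912000000000 := by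
  have h1 : (x ^ 29 + x ^ 23 + x ^ 19 + x ^ 17 + x ^ 13 + x ^ 11 + x ^ 7 + x - 8) ∣ ((x + 1) ^ 8 * ((x ^ 2 + x + 1) ^ 4 * ((x ^ 2 + 1) ^ 4 * ((x ^ 4 + x ^ 3 + x ^ 2 + x + 1) ^ 2 * ((x ^ 2 - x + 1) ^ 4 * ((x ^ 6 + x ^ 5 + x ^ 4 + x ^ 3 + x ^ 2 + x + 1) ^ 1 * ((x ^ 4 + 1) ^ 2 * ((x ^ 6 + x ^ 3 + 1) ^ 1 * ((x ^ 4 - x ^ 3 + x ^ 2 - x + 1) ^ 2 * ((x ^ 4 - x ^ 2 + 1) ^ 2 * ((x ^ 6 - x ^ 5 + x ^ 4 - x ^ 3 + x ^ 2 - x + 1) ^ 1 * ((x ^ 8 - x ^ 7 + x ^ 5 - x ^ 4 + x ^ 3 - x + 1) ^ 1 * ((x ^ 6 - x ^ 3 + 1) ^ 1 * ((x ^ 8 - x ^ 6 + x ^ 4 - x ^ 2 + 1) ^ 1 * ((x ^ 8 - x ^ 4 + 1) ^ 1 * ((x ^ 8 + x ^ 7 - x ^ 5 - x ^ 4 - x ^ 3 + x + 1) ^ 1 * ((x - 1) ^ 8 * 1))))))))))))))))) * 8 := by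
    rw [factorE8] at h
    generalize (x - 1) = p1 at h ⊢
    generalize (x + 1) = p2 at h ⊢
    generalize (x ^ 2 + x + 1) = p3 at h ⊢
    generalize (x ^ 2 + 1) = p4 at h ⊢
    generalize (x ^ 4 + x ^ 3 + x ^ 2 + x + 1) = p5 at h ⊢
    generalize (x ^ 2 - x + 1) = p6 at h ⊢
    generalize (x ^ 6 + x ^ 5 + x ^ 4 + x ^ 3 + x ^ 2 + x + 1) = p7 at h ⊢
    generalize (x ^ 4 + 1) = p8 at h ⊢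
    generalize (x ^ 6 + x ^ 3 + 1) = p9 at h ⊢
    generalize (x ^ 4 - x ^ 3 + x ^ 2 - x + 1) = p10 at h ⊢
    generalize (x ^ 4 - x ^ 2 + 1) = p12 at h ⊢
    generalize (x ^ 6 - x ^ 5 + x ^ 4 - x ^ 3 + x ^ 2 - x + 1) = p14 at h ⊢
    generalize (x ^ 8 - x ^ 7 + x ^ 5 - x ^ 4 + x ^ 3 - x + 1) = p15 at h ⊢
    generalize (x ^ 6 - x ^ 3 + 1) = p18 at h ⊢
    generalize (x ^ 8 - x ^ 6 + x ^ 4 - x ^ 2 + 1) = p20 at h ⊢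
    generalize (x ^ 8 - x ^ 4 + 1) = p24 at h ⊢
    generalize (x ^ 8 + x ^ 7 - x ^ 5 - x ^ 4 - x ^ 3 + x + 1) = p30 at h ⊢
    convert h using 1
    ring
  have h1 := strip (a := -1) (b := x ^ 28 - x ^ 27 + x ^ 26 - x ^ 25 + x ^ 24 - x ^ 23 + 2 * x ^ 22 - 2 * x ^ 21 + 2 * x ^ 20 - 2 * x ^ 19 + 3 * x ^ 18 - 3 * x ^ 17 + 4 * x ^ 16 - 4 * x ^ 15 + 4 * x ^ 14 - 4 * x ^ 13 + 5 * x ^ 12 - 5 * x ^ 11 + 6 * x ^ 10 - 6 * x ^ 9 + 6 * x ^ 8 - 6 * x ^ 7 + 7 * x ^ 6 - 7 * x ^ 5 + 7 * x ^ 4 - 7 * x ^ 3 + 7 * x ^ 2 - 7 * x + 8) (L := 16) (by ring) h1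
  have h1 := strip (a := -1) (b := x ^ 27 - x ^ 26 + x ^ 24 - x ^ 23 + 2 * x ^ 21 - 2 * x ^ 20 + 2 * x ^ 18 - x ^ 17 - x ^ 16 + 3 * x ^ 15 - 2 * x ^ 14 - x ^ 13 + 3 * x ^ 12 - x ^ 11 - 2 * x ^ 10 + 4 * x ^ 9 - 2 * x ^ 8 - 2 * x ^ 7 + 4 * x ^ 6 - x ^ 5 - 3 * x ^ 4 + 4 * x ^ 3 - x ^ 2 - 3 * x + 4) (L := 12) (by ring) h1
  have h1 := strip (a := -1) (b := x ^ 27 - x ^ 25 + x ^ 23 + x ^ 17 + x ^ 11 + x ^ 5 - x ^ 3 + x) (L := 8) (by ring) h1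
  have h1 := strip (a := -1) (b := x ^ 25 - x ^ 24 + x ^ 20 - x ^ 18 + 2 * x ^ 15 - x ^ 14 - x ^ 12 + 2 * x ^ 10 - x ^ 8 - x ^ 6 + 2 * x ^ 5 - x ^ 2 - x + 2) (L := 10) (by ring) h1
  have h1 := strip (a := -1) (b := x ^ 27 + x ^ 26 - x ^ 24 - x ^ 23 + 2 * x ^ 21 + 2 * x ^ 20 - 2 * x ^ 18 - x ^ 17 + x ^ 16 + 3 * x ^ 15 + 2 * x ^ 14 - x ^ 13 - 3 * x ^ 12 - x ^ 11 + 2 * x ^ 10 + 4 * x ^ 9 + 2 * x ^ 8 - 2 * x ^ 7 - 4 * x ^ 6 - x ^ 5 + 3 * x ^ 4 + 4 * x ^ 3 + x ^ 2 - 3 * x - 4) (L := 4) (by ring) h1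
  have h1 := strip (a := -x ^ 5 - 9 * x ^ 4 - 73 * x ^ 3 - 585 * x ^ 2 - 4681 * x - 37449) (b := x ^ 28 + 8 * x ^ 27 + 64 * x ^ 26 + 512 * x ^ 25 + 4096 * x ^ 24 + 32768 * x ^ 23 - 37448 * x ^ 22 + 9 * x ^ 21 + 72 * x ^ 20 + 576 * x ^ 19 + 4609 * x ^ 18 + 36872 * x ^ 17 - 4616 * x ^ 16 - 36928 * x ^ 15 + 4169 * x ^ 14 + 33352 * x ^ 13 - 32776 * x ^ 12 + 37385 * x ^ 11 - 512 * x ^ 10 - 4096 * x ^ 9 - 32768 * x ^ 8 + 37449 * x ^ 7 + 1) (L := 299593) (by ring) h1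
  have h1 := strip (a := -1) (b := x ^ 25 - x ^ 21 + x ^ 19 + x ^ 17 + x ^ 9 + x ^ 7 - x ^ 5 + x) (L := 8) (by ring) h1
  have h1 := strip (a := -72 * x ^ 5 - 235 * x ^ 4 - 341 * x ^ 3 - 1611 * x ^ 2 - 1424 * x - 11464) (b := 72 * x ^ 28 + 235 * x ^ 27 + 341 * x ^ 26 + 1539 * x ^ 25 + 1189 * x ^ 24 + 11123 * x ^ 23 - 1539 * x ^ 22 - 1189 * x ^ 21 - 11123 * x ^ 20 + 1611 * x ^ 19 + 1496 * x ^ 18 + 11699 * x ^ 17 + 341 * x ^ 16 + 1539 * x ^ 15 + 1189 * x ^ 14 + 11123 * x ^ 13 - 1539 * x ^ 12 - 1189 * x ^ 11 - 11051 * x ^ 10 + 1846 * x ^ 9 + 1765 * x ^ 8 + 13003 * x ^ 7 + 1189 * x ^ 6 + 11123 * x ^ 5 - 1611 * x ^ 4 - 1424 * x ^ 3 - 11464 * x ^ 2 + 72 * x + 307) (L := 92019) (by ring) h1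
  have h1 := strip (a := -1) (b := x ^ 25 + x ^ 24 - x ^ 20 + x ^ 18 + 2 * x ^ 15 + x ^ 14 + x ^ 12 - 2 * x ^ 10 + x ^ 8 + x ^ 6 + 2 * x ^ 5 + x ^ 2 - x - 2) (L := 6) (by ring) h1
  have h1 := strip (a := -1) (b := x ^ 25 + x ^ 23 + x ^ 15 + 2 * x ^ 13 + x ^ 11 + x ^ 3 + x) (L := 8) (by ring) h1
  have h1 := strip (a := -x ^ 5 - 7 * x ^ 4 - 57 * x ^ 3 - 455 * x ^ 2 - 3641 * x - 29127) (b := x ^ 28 + 8 * x ^ 27 + 64 * x ^ 26 + 512 * x ^ 25 + 4096 * x ^ 24 + 32768 * x ^ 23 + 29128 * x ^ 22 + 7 * x ^ 21 + 56 * x ^ 20 + 448 * x ^ 19 + 3585 * x ^ 18 + 28680 * x ^ 17 - 3576 * x ^ 16 - 28608 * x ^ 15 + 4153 * x ^ 14 + 33224 * x ^ 13 + 32776 * x ^ 12 + 29191 * x ^ 11 + 512 * x ^ 10 + 4096 * x ^ 9 + 32768 * x ^ 8 + 29127 * x ^ 7 + 1) (L := 233017) (by ring) h1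
  have h1 := strip (a := -1) (b := x ^ 21 + x ^ 20 + x ^ 19 - x ^ 16 + x ^ 13 + x ^ 11 + x ^ 9 + x ^ 7 + x ^ 5 + x ^ 3 - 1) (L := 7) (by ring) h1
  have h1 := strip (a := -168 * x ^ 5 - 319 * x ^ 4 + 1025 * x ^ 3 + 3745 * x ^ 2 - 4304 * x - 34264) (b := 168 * x ^ 28 + 319 * x ^ 27 - 1025 * x ^ 26 - 3577 * x ^ 25 + 4623 * x ^ 24 + 33239 * x ^ 23 - 3577 * x ^ 22 + 4623 * x ^ 21 + 33239 * x ^ 20 - 3745 * x ^ 19 + 4472 * x ^ 18 + 34583 * x ^ 17 - 1025 * x ^ 16 - 3577 * x ^ 15 + 4623 * x ^ 14 + 33239 * x ^ 13 - 3577 * x ^ 12 + 4623 * x ^ 11 + 33407 * x ^ 10 - 3426 * x ^ 9 + 3279 * x ^ 8 + 30687 * x ^ 7 + 4623 * x ^ 6 + 33239 * x ^ 5 - 3745 * x ^ 4 + 4304 * x ^ 3 + 34264 * x ^ 2 - 168 * x - 151) (L := 273961) (by ring) h1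
  have h1 := strip (a := -1) (b := x ^ 21 + x ^ 19 + x ^ 15 + x ^ 13 + x ^ 9 + x ^ 7 + x ^ 3 + x) (L := 8) (by ring) h1
  have h1 := strip (a := -1) (b := x ^ 21 + x ^ 17 + x ^ 15 + 2 * x ^ 11 + x ^ 7 + x ^ 5 + x) (L := 8) (by ring) h1
  have h1 := strip (a := -1) (b := x ^ 21 - x ^ 20 + x ^ 19 + x ^ 16 + x ^ 13 + x ^ 11 + x ^ 9 + x ^ 7 + x ^ 5 + x ^ 3 + 1) (L := 9) (by ring) h1
  have hpos : 0 < (x ^ 29 + x ^ 23 + x ^ 19 + x ^ 17 + x ^ 13 + x ^ 11 + x ^ 7 + x - 8) := f_pos_E8 x hx 8 (by norm_num)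
  have hf : (x ^ 29 + x ^ 23 + x ^ 19 + x ^ 17 + x ^ 13 + x ^ 11 + x ^ 7 + x - 8) = (x - 1) * (x ^ 28 + x ^ 27 + x ^ 26 + x ^ 25 + x ^ 24 + x ^ 23 + 2 * x ^ 22 + 2 * x ^ 21 + 2 * x ^ 20 + 2 * x ^ 19 + 3 * x ^ 18 + 3 * x ^ 17 + 4 * x ^ 16 + 4 * x ^ 15 + 4 * x ^ 14 + 4 * x ^ 13 + 5 * x ^ 12 + 5 * x ^ 11 + 6 * x ^ 10 + 6 * x ^ 9 + 6 * x ^ 8 + 6 * x ^ 7 + 7 * x ^ 6 + 7 * x ^ 5 + 7 * x ^ 4 + 7 * x ^ 3 + 7 * x ^ 2 + 7 * x + 8) := by ring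
  rw [hf] at h1 hpos ⊢
  have h2 := strip_keep (a := 1) (b := -x ^ 27 - 2 * x ^ 26 - 3 * x ^ 25 - 4 * x ^ 24 - 5 * x ^ 23 - 6 * x ^ 22 - 8 * x ^ 21 - 10 * x ^ 20 - 12 * x ^ 19 - 14 * x ^ 18 - 17 * x ^ 17 - 20 * x ^ 16 - 24 * x ^ 15 - 28 * x ^ 14 - 32 * x ^ 13 - 36 * x ^ 12 - 41 * x ^ 11 - 46 * x ^ 10 - 52 * x ^ 9 - 58 * x ^ 8 - 64 * x ^ 7 - 70 * x ^ 6 - 77 * x ^ 5 - 84 * x ^ 4 - 91 * x ^ 3 - 98 * x ^ 2 - 105 * x - 112) (L := 120) (n := 7) (by ring)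
    (ne_of_gt hpos) h1
  have hP : 0 < (x - 1) := phi1_pos x hx
  refine mul_le_mul_of_nonneg_left (le_trans (Int.le_of_dvd (by positivity) h2) ?_) hP.le
  norm_num

theorem smallE8_8 : ((List.range 263).all fun q => Nat.ble q 1 ||
    (q ^ 120 * ((q ^ 2 - 1) * (q ^ 8 - 1) * (q ^ 12 - 1) * (q ^ 14 - 1) * (q ^ 18 - 1) * (q ^ 20 - 1) * (q ^ 24 - 1) * (q ^ 30 - 1))) % (q ^ 29 + q ^ 23 + q ^ 19 + q ^ 17 + q ^ 13 + q ^ 11 + q ^ 7 + q - 8) != 0) = true := by decide +kernel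

theorem not_dvdE8_8 (q : ℕ) (hq : IsPrimePow q) :
    ¬ (q ^ 29 + q ^ 23 + q ^ 19 + q ^ 17 + q ^ 13 + q ^ 11 + q ^ 7 + q - 8) ∣ q ^ 120 * ((q ^ 2 - 1) * (q ^ 8 - 1) * (q ^ 12 - 1) * (q ^ 14 - 1) * (q ^ 18 - 1) * (q ^ 20 - 1) * (q ^ 24 - 1) * (q ^ 30 - 1)) := by
  intro h
  have h2 := hq.two_le
  rcases Nat.lt_or_ge q 263 with hs | hl
  · have := List.all_eq_true.1 smallE8_8 q (List.mem_range.2 hs)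
    simp only [Bool.or_eq_true, bne_iff_ne, Nat.ble_eq, beq_iff_eq] at this
    have hm := Nat.mod_eq_zero_of_dvd h
    omega
  · have hle : 8 ≤ q ^ 29 + q ^ 23 + q ^ 19 + q ^ 17 + q ^ 13 + q ^ 11 + q ^ 7 + q := le_trans (by omega) (Nat.le_add_left q _)
    have h' := qpart (j := 8) (w := q ^ 28 + q ^ 22 + q ^ 18 + q ^ 16 + q ^ 12 + q ^ 10 + q ^ 6 + 1) hq (by norm_num) (by omega)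
      (by rw [Nat.sub_add_cancel hle]; ring) h
    have h1 : ∀ n : ℕ, 1 ≤ q ^ n := fun n => Nat.one_le_pow _ _ (by omega)
    have hz := Int.natCast_dvd_natCast.2 h'
    simp only [Nat.cast_mul, Nat.cast_sub (h1 _), Nat.cast_sub hle, Nat.cast_add, Nat.cast_pow, Nat.cast_ofNat,
      Nat.cast_one] at hz
    generalize hx : (q : ℤ) = x at hz
    have hb := boundE8_8 x (by omega) hz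
    have hxl : (263 : ℤ) ≤ x := by omega
    have hp := pow_le_pow_left₀ (by norm_num : (0 : ℤ) ≤ 263) hxl 28
    have hlow := f_ge_E8 x (by omega) 8 (by norm_num)
    have hP := phi1_le x (by omega)
    have hxd : (0 : ℤ) < x ^ 1 := by positivity
    refine absurd (le_trans hlow (le_trans hb (mul_le_mul_of_nonneg_right hP (by norm_num)))) (not_le.2 ?_)
    rw [show x ^ 29 = x ^ 1 * x ^ 28 by ring, show 2 * x ^ 1 * 28009925955822300300835428468428827124991634414993158438912000000000 = x ^ 1 * 56019851911644600601670856936857654249983268829986316877824000000000 by ring]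
    exact mul_lt_mul_of_pos_left (lt_of_lt_of_le (by norm_num) hp) hxd

end Cfsg.Agent.Lie.Chev.DegDiv
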