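import Cfsg.Agent.Lib.Lie.Chev.RootDegreeDataE6
import Cfsg.Agent.Lib.Lie.Chev.AutBorel

/-! In characteristic two, an element of order divisible by 31 commutes with a root element of
type E6: five root vectors span a natural module of a subsystem of type A4. -/

set_option autoImplicit false
set_option maxRecDepth 20000

namespace Cfsg.Agent.Lie.Chev.E6Deg

open Cfsg.Lie Matrix

/-- The roots of the element, each with the move it makes on the five root vectors. -/
def moveData : List (ℕ × ℕ × ℕ) := [(33, 4, 2), (49, 0, 4), (25, 1, 0), (37, 2, 3), (31, 3, 1)]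

/-- The action of one root element on the coordinates. -/
def stepVec (a b : ℕ) (v : ℕ) : ℕ := bif v.testBit a then v ^^^ (2 ^ b) else v

/-- The action of the element on the coordinates. -/
def moveVec (v : ℕ) : ℕ := moveData.foldr (fun m w => stepVec m.2.1 m.2.2 w) v

theorem moveVec_facts : moveVec^[31] 1 = 1 ∧ moveVec 1 ≠ 1 ∧
    (List.range 32).all (fun v => Nat.blt (moveVec v) 32) = true := by
  decide +kernel

theorem data_ok : (moveData.all fun m => Nat.blt m.1 72 && Nat.blt m.2.1 5 && Nat.blt m.2.2 5 &&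
    !(Nat.beq m.2.1 m.2.2) &&
    certFullE6.T.rootMoves m.1 [] degE6S0.root &&
    (List.range 5).all fun i => !(Nat.beq i m.1) && !(Nat.beq i (certFullE6.T.neg m.1)) &&
      bif Nat.beq i m.2.1 then
        decide (certFullE6.T.entry m.1 i = [(m.2.2, 1)]) || decide (certFullE6.T.entry m.1 i = [(m.2.2, -1)])
      else (certFullE6.T.entry m.1 i).isEmpty) = true := by
  decide +kernel

theorem flip_ok : ((List.range 32).all fun v => (List.range 5).all fun a => (List.range 5).all fun b =>
    (List.range 5).all fun i =>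
      (stepVec a b v).testBit i == (v.testBit i ^^ (Nat.beq i b && v.testBit a)) &&
        Nat.blt (stepVec a b v) 32) = true := by
  decide +kernel

variable {F : Type*} [Field F] [CharP F 2]

/-- The vector with given coordinates. -/
noncomputable def vecOf (v : ℕ) : chevE6.Idx → F :=
  ∑ i ∈ Finset.range 5, (if v.testBit i then (1 : F) else 0) • evec chevE6 F i

theorem vecOf_one_ne {v : ℕ} (hv : v < 32) (h : vecOf (F := F) v = vecOf 1) : v = 1 := by
  have key : ∀ w < 32, ∀ i < 5, (vecOf (F := F) w) (Sum.inr ⟨i % 72, Nat.mod_lt _ (by norm_num)⟩) =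
      if w.testBit i then 1 else 0 := by
    intro w _ i hi
    simp only [vecOf, Finset.sum_apply, Pi.smul_apply, evec, Sum.elim_inr, smul_eq_mul,
      Nat.mod_eq_of_lt (show i < 72 by omega), mul_ite, mul_one, mul_zero]
    rw [Finset.sum_ite_eq, if_pos (Finset.mem_range.2 hi)]
  have hb : ∀ i < 5, v.testBit i = (1 : ℕ).testBit i := fun i hi => by
    have e := key v hv i hi
    rw [h, key 1 (by norm_num) i hi] at e
    revert e
    cases v.testBit i <;> cases (1 : ℕ).testBit i <;> simp
  refine Nat.eq_of_testBit_eq fun i => ?_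
  rcases Nat.lt_or_ge i 5 with hi | hi
  · exact hb i hi
  · rw [Nat.testBit_eq_false_of_lt, Nat.testBit_eq_false_of_lt]
    · exact lt_of_lt_of_le (by norm_num) (Nat.pow_le_pow_right (by norm_num) hi)
    · exact lt_of_lt_of_le hv (Nat.pow_le_pow_right (by norm_num) hi : 2 ^ 5 ≤ 2 ^ i)

theorem xg_vecOf {m : ℕ × ℕ × ℕ} (hm : m ∈ moveData) {v : ℕ} (hv : v < 32) :
    stepVec m.2.1 m.2.2 v < 32 ∧
    (certFullE6.xg m.1 (1 : F) : Matrix chevE6.Idx chevE6.Idx F) *ᵥ vecOf v =
      vecOf (stepVec m.2.1 m.2.2 v) := by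
  have h := List.all_eq_true.1 data_ok m hm
  simp only [Bool.and_eq_true, Nat.blt_eq, List.all_eq_true, List.mem_range,
    Bool.not_eq_true'] at h
  obtain ⟨⟨⟨⟨⟨hr, ha⟩, hb⟩, hab⟩, -⟩, hcol⟩ := h
  have hflip := flip_ok
  simp only [List.all_eq_true, List.mem_range, Bool.and_eq_true, beq_iff_eq, Nat.blt_eq] at hflip
  have hfl := hflip v hv m.2.1 ha m.2.2 hb
  refine ⟨(hfl 0 (by norm_num)).2, ?_⟩
  have hcols : ∀ i < 5, (certFullE6.xg m.1 (1 : F) : Matrix chevE6.Idx chevE6.Idx F) *ᵥ
      evec chevE6 F i = evec chevE6 F i + if i = m.2.1 then evec chevE6 F m.2.2 else 0 := by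
    intro i hi
    obtain ⟨⟨h1, h2⟩, h3⟩ := hcol i hi
    have hr' : m.1 < chevE6.nroots := hr
    have n1 : i ≠ m.1 := fun e => by
      rw [show Nat.beq i m.1 = true by rw [Nat.beq_eq, e]] at h1; exact Bool.noConfusion h1
    have n2 : i ≠ chevE6.neg m.1 := fun e => by
      rw [certFullE6.neg_eq hr'] at e
      rw [show Nat.beq i (certFullE6.T.neg m.1) = true by rw [Nat.beq_eq, e]] at h2
      exact Bool.noConfusion h2
    rw [Cert.xg_val, certFullE6.x_evec hr' (show i < 72 by omega) n1 n2]
    by_cases e : i = m.2.1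
    · rw [if_pos e]
      rw [show Nat.beq i m.2.1 = true by rw [Nat.beq_eq, e], cond_true, Bool.or_eq_true,
        decide_eq_true_eq, decide_eq_true_eq] at h3
      rcases h3 with h3 | h3 <;> rw [h3] <;> simp [chainVec, CharTwo.neg_eq]
    · rw [if_neg e]
      rw [show Nat.beq i m.2.1 = false from Bool.eq_false_iff.2 fun e' => e (Nat.beq_eq ▸ e' : _),
        cond_false, List.isEmpty_iff] at h3
      simp [h3, chainVec]
  simp only [vecOf, Matrix.mulVec_sum, Matrix.mulVec_smul]
  rw [Finset.sum_congr rfl fun i hi => by rw [hcols i (Finset.mem_range.1 hi), smul_add]]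
  rw [Finset.sum_add_distrib]
  simp only [smul_ite, smul_zero]
  rw [Finset.sum_ite_eq', if_pos (Finset.mem_range.2 ha),
    Finset.sum_congr rfl (g := fun i => (if (stepVec m.2.1 m.2.2 v).testBit i then (1 : F) else 0) •
      evec chevE6 F i) (s₂ := Finset.range 5) (fun i _ => rfl)]
  rw [show (if v.testBit m.2.1 then (1 : F) else 0) • evec chevE6 F m.2.2 =
      ∑ i ∈ Finset.range 5, (if i = m.2.2 then (if v.testBit m.2.1 then (1 : F) else 0) •
        evec chevE6 F i else 0) by rw [Finset.sum_ite_eq', if_pos (Finset.mem_range.2 hb)],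
    ← Finset.sum_add_distrib]
  refine Finset.sum_congr rfl fun i hi => ?_
  rw [(hfl i (Finset.mem_range.1 hi)).1]
  by_cases e : i = m.2.2
  · rw [if_pos e, show Nat.beq i m.2.2 = true by rw [Nat.beq_eq, e], Bool.true_and, ← add_smul]
    congr 1
    cases v.testBit i <;> cases v.testBit m.2.1 <;> simp [CharTwo.add_self_eq_zero]
  · rw [if_neg e, add_zero,
      show Nat.beq i m.2.2 = false from Bool.eq_false_iff.2 fun e' => e (Nat.beq_eq ▸ e' : _),
      Bool.false_and, Bool.xor_false]

theorem prod_vecOf : ∀ (L : List (ℕ × ℕ × ℕ)), (∀ m ∈ L, m ∈ moveData) → ∀ v < 32,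
    L.foldr (fun m w => stepVec m.2.1 m.2.2 w) v < 32 ∧
    ((L.map fun m => certFullE6.xg m.1 (1 : F)).prod : GL chevE6.Idx F).val *ᵥ vecOf v =
      vecOf (L.foldr (fun m w => stepVec m.2.1 m.2.2 w) v)
  | [], _, v, hv => by simp [hv]
  | m :: L, hL, v, hv => by
    obtain ⟨h1, h2⟩ := prod_vecOf L (fun k hk => hL k (by simp [hk])) v hv
    obtain ⟨h3, h4⟩ := xg_vecOf (F := F) (hL m (by simp)) h1
    refine ⟨h3, ?_⟩
    rw [List.map_cons, List.prod_cons, Units.val_mul, ← Matrix.mulVec_mulVec, h2, h4]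
    rfl

/-- An element of order divisible by 31 commuting with the root element. -/
theorem exists_element [Fintype F] : ∃ g : ↥(chevE6.group F), 31 ∣ orderOf g ∧
    Commute g ⟨certFullE6.xg degE6S0.root 1, certFullE6.xg_mem_group_all _ _⟩ := by
  classical
  set G := (moveData.map fun m => certFullE6.xg m.1 (1 : F)).prod with hG
  have hmem : G ∈ chevE6.group F := Subgroup.list_prod_mem _ fun k hk => by
    obtain ⟨z, -, rfl⟩ := List.mem_map.1 hk
    exact certFullE6.xg_mem_group_all _ _
  refine ⟨⟨G, hmem⟩, ?_, Subtype.ext ?_⟩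
  · set n := orderOf (⟨G, hmem⟩ : ↥(chevE6.group F)) with hn
    have hGn : G ^ n = 1 := congrArg Subtype.val (pow_orderOf_eq_one (⟨G, hmem⟩ : ↥(chevE6.group F)))
    have hiter : ∀ k, moveVec^[k] 1 < 32 ∧
        ((G ^ k : GL chevE6.Idx F)).val *ᵥ vecOf (F := F) 1 = vecOf (moveVec^[k] 1) := by
      intro k
      induction k with
      | zero => simp
      | succ k ih =>
        obtain ⟨h3, h4⟩ := prod_vecOf (F := F) moveData (fun m hm => hm) _ ih.1
        rw [Function.iterate_succ_apply']
        refine ⟨h3, ?_⟩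
        rw [pow_succ', Units.val_mul, ← Matrix.mulVec_mulVec, ih.2, hG, h4]
        rfl
    have hper : Function.IsPeriodicPt moveVec n 1 := by
      have h := (hiter n).2
      rw [hGn, Units.val_one, Matrix.one_mulVec] at h
      exact vecOf_one_ne (hiter n).1 h.symm
    by_contra hnd
    have h1 := hper.gcd (show Function.IsPeriodicPt moveVec 31 1 from moveVec_facts.1)
    rw [((Nat.Prime.coprime_iff_not_dvd (by norm_num)).2 hnd).symm] at h1
    exact moveVec_facts.2.1 h1
  · show G * _ = _ * G
    refine (Commute.list_prod_left _ _ fun k hk => ?_).eq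
    obtain ⟨m, hm, rfl⟩ := List.mem_map.1 hk
    have h := List.all_eq_true.1 data_ok m hm
    simp only [Bool.and_eq_true, Nat.blt_eq] at h
    obtain ⟨⟨⟨⟨⟨hr, -⟩, -⟩, -⟩, hmv⟩, -⟩ := h
    simp only [Tables.rootMoves, Bool.or_eq_true, Bool.and_eq_true, Bool.not_eq_true'] at hmv
    rcases hmv with e | ⟨e1, e2⟩
    · rw [Nat.beq_eq] at e; rw [e]; exact Commute.refl _
    · have hnil : certFullE6.T.commTerms m.1 degE6S0.root = [] := by
        rw [List.all_eq_true] at e2
        exact List.eq_nil_iff_forall_not_mem.2 fun y hy => by simpa using e2 y hy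
      refine certFullE6.xg_commute hr (show degE6S0.root < 72 by decide) (fun e => ?_) (fun e => ?_)
        hnil _ _
      · have : ∀ q ∈ moveData, q.1 ≠ degE6S0.root := by decide
        exact this m hm e.symm
      · rw [certFullE6.neg_eq (show m.1 < chevE6.nroots from hr)] at e
        rw [show Nat.beq degE6S0.root (certFullE6.T.neg m.1) = true by rw [Nat.beq_eq, e]] at e1
        exact Bool.noConfusion e1

end Cfsg.Agent.Lie.Chev.E6Deg
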