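import Cfsg.Agent.Lib.Lie.Chev.RootEigen
import Cfsg.Agent.Lib.Char.Integral

/-! The value of a character on a root element from the dimensions of the eigenspaces. -/

set_option autoImplicit false
set_option linter.unusedSectionVars false

namespace Cfsg.Agent.Lie.Chev.CertFull

open Cfsg.Lie Module Cfsg.Agent.Grp Cfsg.Agent.Grp.EigenSplit

variable {D : ChevalleyDatum} (c : CertFull D) {F : Type*} [Field F] [Fintype F]
  {V : Type*} [AddCommGroup V] [Module ℂ V] [FiniteDimensional ℂ V]
  (ρ : ↥(D.group F) →* End ℂ V)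

theorem trace_rop {r d : ℕ} (hd : ∀ ζ : F, ζ ≠ 0 → finrank ℂ (rEig c ρ r ζ) = d) :
    LinearMap.trace ℂ V (rop c ρ r 1) =
        (finrank ℂ V : ℂ) - (Fintype.card F : ℂ) * (d : ℂ) := by
  classical
  have hact := rop_act c ρ r
  have hb : Function.Bijective (rootChar (F := F)) :=
    (Fintype.bijective_iff_injective_and_card _).2 ⟨rootChar_injective, AddChar.card_eq.symm⟩
  have hproj : ∀ μ : AddChar F ℂ, LinearMap.IsProj (eig (rop c ρ r) μ) (EigenSplit.proj (rop c ρ r) μ) :=
    fun μ => ⟨fun v y => apply_proj hact μ y v, fun v hv => by rw [proj_of_mem μ μ hv, if_pos rfl]⟩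
  have hsum : rop c ρ r 1 = ∑ μ : AddChar F ℂ, μ 1 • EigenSplit.proj (rop c ρ r) μ := by
    refine LinearMap.ext fun v => ?_
    conv_lhs => rw [← sum_proj hact v, map_sum]
    simp only [LinearMap.sum_apply, LinearMap.smul_apply, apply_proj hact]
  have htop : (d : ℂ) * (Fintype.card F - 1 : ℂ) + (finrank ℂ (rEig c ρ r 0) : ℂ) =
      (finrank ℂ V : ℂ) := by
    have h := sum_rEig c ρ (r := r) (W := ⊤) fun t => stable_top _
    rw [← Finset.add_sum_erase _ _ (Finset.mem_univ (0 : F)),
      Finset.sum_congr rfl fun ζ hζ => by rw [top_inf_eq, hd ζ (Finset.ne_of_mem_erase hζ)],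
      top_inf_eq, finrank_top] at h
    rw [← h]
    simp [Finset.card_erase_of_mem, Nat.cast_sub (Fintype.card_pos (α := F))]
    ring
  have hpsi : ∑ ζ ∈ Finset.univ.erase (0 : F), rootPsi F ζ = -1 := by
    have h := AddChar.sum_mulShift (1 : F)
      (AddChar.FiniteField.primitiveChar_to_Complex_isPrimitive F)
    rw [if_neg one_ne_zero, Nat.cast_zero, ← Finset.add_sum_erase _ _ (Finset.mem_univ (0 : F)),
      zero_mul, AddChar.map_zero_eq_one] at h
    simp only [mul_one] at h
    exact eq_neg_of_add_eq_zero_right h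
  rw [hsum, map_sum, ← hb.sum_comp (fun μ => LinearMap.trace ℂ V (μ 1 • EigenSplit.proj (rop c ρ r) μ)),
    ← Finset.add_sum_erase _ _ (Finset.mem_univ (0 : F))]
  simp only [map_smul, (hproj _).trace, smul_eq_mul, rootChar_apply, mul_one]
  rw [AddChar.map_zero_eq_one, one_mul,
    Finset.sum_congr rfl fun ζ hζ => by
      rw [show eig (rop c ρ r) (rootChar ζ) = rEig c ρ r ζ from rfl,
        hd ζ (Finset.ne_of_mem_erase hζ)],
    ← Finset.sum_mul, hpsi]
  show (finrank ℂ (rEig c ρ r 0) : ℂ) + _ = _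
  linear_combination htop

/-- A prime not dividing the class of the root element forces a congruence on the degree. -/
theorem dvd_degree_congr [Representation.IsIrreducible ρ] {r d p : ℕ} (hp : p.Prime)
    (hd : ∀ ζ : F, ζ ≠ 0 → finrank ℂ (rEig c ρ r ζ) = d) (hdeg : p ∣ finrank ℂ V)
    (hle : Fintype.card F * d ≤ finrank ℂ V) {g : ↥(D.group F)} (hg : p ∣ orderOf g)
    (hcomm : Commute g ⟨c.xg r 1, c.xg_mem_group_all r 1⟩)
    (hG : ¬ p ^ 2 ∣ Nat.card ↥(D.group F)) : p ∣ Fintype.card F * d := by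
  classical
  haveI : Finite ↥(D.group F) := Subtype.finite
  set z : ↥(D.group F) := ⟨c.xg r 1, c.xg_mem_group_all r 1⟩
  have hC : p ∣ Nat.card (Subgroup.centralizer ({z} : Set ↥(D.group F))) :=
    hg.trans (Subgroup.orderOf_dvd_natCard _ (Subgroup.mem_centralizer_singleton_iff.2 hcomm.eq))
  have hidx : ¬ p ∣ (Subgroup.centralizer ({z} : Set ↥(D.group F))).index := fun h => hG (by
    rw [← (Subgroup.centralizer ({z} : Set ↥(D.group F))).card_mul_index, sq]
    exact Nat.mul_dvd_mul hC h)
  have h := Cfsg.Agent.Char.isIntegral_centralChar_rep ρ z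
  have htr : Representation.character ρ z =
      ((finrank ℂ V - Fintype.card F * d : ℕ) : ℂ) := by
    show LinearMap.trace ℂ V (rop c ρ r 1) = _
    rw [trace_rop c ρ hd, Nat.cast_sub hle, Nat.cast_mul]
  rw [htr, ← Nat.cast_mul] at h
  have h2 := Cfsg.Agent.Char.nat_dvd_of_isIntegral_div
    (Cfsg.Agent.Char.finrank_pos_of_irreducible ρ).ne' h
  have h3 := ((hp.dvd_mul).1 (hdeg.trans h2)).resolve_left hidx
  have h4 : p ∣ finrank ℂ V - (finrank ℂ V - Fintype.card F * d) := Nat.dvd_sub hdeg h3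
  rwa [Nat.sub_sub_self hle] at h4

end Cfsg.Agent.Lie.Chev.CertFull

namespace Cfsg.Agent.Lie.Chev

open Module in
/-- A representation of degree at least two of a simple group, if irreducible, is faithful. -/
theorem injective_of_irreducible_two {G : Type*} [Group G] [IsSimpleGroup G] {k : ℕ}
    (ρ : Representation ℂ G (Fin k → ℂ)) [ρ.IsIrreducible] (hk : 2 ≤ k) : Function.Injective ρ := by
  rcases Subgroup.Normal.eq_bot_or_eq_top (inferInstance : (MonoidHom.ker ρ).Normal) with h | h
  · exact (MonoidHom.ker_eq_bot_iff ρ).1 h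
  · exfalso
    have htriv : ∀ g v, ρ g v = v := fun g v => by
      have : g ∈ MonoidHom.ker ρ := h ▸ Subgroup.mem_top g
      rw [MonoidHom.mem_ker.1 this]
      rfl
    let e0 : Fin k → ℂ := Pi.single (⟨0, by omega⟩ : Fin k) 1
    let W : Subrepresentation ρ := ⟨ℂ ∙ e0, fun g v hv => by rw [htriv]; exact hv⟩
    rcases eq_bot_or_eq_top W with h | h
    · have h' := congrArg Subrepresentation.toSubmodule h
      have : (Pi.single (⟨0, by omega⟩ : Fin k) (1 : ℂ) : Fin k → ℂ) = 0 :=
        Submodule.span_singleton_eq_bot.1 h'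
      simpa using congrFun this ⟨0, by omega⟩
    · have h' := congrArg Subrepresentation.toSubmodule h
      have hfr : Module.finrank ℂ (ℂ ∙ e0) = k := by
        rw [show (ℂ ∙ e0) = ⊤ from h']; simp
      rw [finrank_span_singleton (show e0 ≠ 0 by simp [e0])] at hfr
      omega

end Cfsg.Agent.Lie.Chev
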