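import Cfsg.Agent.Lib.Lie.Chev.RootDegreeDivideE6
import Cfsg.Agent.Lib.Lie.Chev.RootTrace
import Cfsg.Agent.Lib.Lie.Chev.TorusOrders
import Cfsg.Agent.Lib.Lie.Chev.SimpleCerts
import Cfsg.Agent.Lib.Lie.Chev.RootDegreeE6Element

/-! The smallest degree of a non-trivial complex representation of E6(q). -/

set_option autoImplicit false
set_option maxRecDepth 40000

namespace Cfsg.Agent.Lie.Chev.E6Deg

open Cfsg.Lie Module

theorem simples_ok : degE6Simples.all (certFullE6.T.simpleOK degE6S0.root 10) = true := by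
  decide +kernel

theorem roots_ok : certFullE6.T.orderOK degE6Simples [] degE6Roots = true := by decide +kernel

theorem pair_ok : (([2] : List ℕ).all (Nat.blt · certFullE6.T.l) &&
    Nat.beq (certFullE6.T.wlT [2] degE6S0.root) 57 && certFullE6.T.rootMoves degE6S0.root [] 57 &&
    certFullE6.T.pairsOK [] degE6S0.root [degE6S0.pairs.headD (0, 0)]) = true := by
  decide +kernel

theorem lengths : degE6Roots.map (fun e => e.pairs.length) =
    [10, 9, 8, 7, 7, 6, 6, 6, 5, 5, 5, 4, 4, 4, 4, 3, 3, 3, 3, 3, 2, 2, 2, 2, 2, 1, 1, 1, 1, 1, 0, 0, 0, 0, 0, 0] := by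
  decide +kernel

variable {F : Type*} [Field F] [Fintype F]

/-- The degrees `2480` for `q = 2` and `4277504` for `q = 4` do not occur. -/
theorem exceptional (k : ℕ) (ρ : Representation ℂ (chevE6.group F) (Fin k → ℂ))
    (hirr : ρ.IsIrreducible)
    (hd : ∀ ζ : F, ζ ≠ 0 →
      finrank ℂ (CertFull.rEig certFullE6 ρ degE6S0.root ζ) = Fintype.card F ^ 10)
    (hk : k = if Fintype.card F = 2 then 2480 else 4277504)
    (hq : Fintype.card F = 2 ∨ Fintype.card F = 4) : False := by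
  haveI := hirr
  obtain ⟨p, hp⟩ := CharP.exists F
  obtain ⟨n, hpp, hn⟩ := FiniteField.card F p
  obtain rfl : p = 2 := by
    have h2 : p ∣ 2 ^ 2 := by
      have h : p ∣ Fintype.card F := hn ▸ dvd_pow_self p n.ne_zero
      rcases hq with e | e <;> rw [e] at h <;> exact h.trans (by norm_num)
    exact (Nat.prime_dvd_prime_iff_eq hpp Nat.prime_two).1 (hpp.dvd_of_dvd_pow h2)
  obtain ⟨g, hg, hc⟩ := exists_element (F := F)
  have hcard := certFullE6.card_group_formula (F := F) chainE6_ok chainE6_len chainE6_poly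
    (torusOrderE6 F)
  have hG : ¬ 31 ^ 2 ∣ Nat.card ↥(chevE6.group F) := fun h => by
    have h' := h.trans (Dvd.intro_left _ hcard)
    rcases hq with e | e <;> rw [e] at h' <;> revert h' <;> decide +kernel
  have h31 := CertFull.dvd_degree_congr certFullE6 ρ (p := 31) (by norm_num) hd
    (by rw [finrank_fin_fun, hk]; rcases hq with e | e <;> rw [e] <;> norm_num)
    (by rw [finrank_fin_fun, hk]; rcases hq with e | e <;> rw [e] <;> norm_num) hg hc hG
  rcases hq with e | e <;> rw [e] at h31 <;> norm_num at h31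

theorem min_degree (k : ℕ) (ρ : Representation ℂ (chevE6.group F) (Fin k → ℂ))
    (hirr : ρ.IsIrreducible) (hk : 2 ≤ k) :
    Fintype.card F * (Fintype.card F ^ 6 + Fintype.card F ^ 3 + 1) * (Fintype.card F ^ 4 + 1) ≤ k := by
  classical
  haveI := hirr
  haveI := (certFullE6.simple (F := F) connE6 (certFullE6.perfect perfectE6)).1
  have hinj := injective_of_irreducible_two ρ hk
  have hne : ∃ t : F, CertFull.rop certFullE6 ρ degE6S0.root t ≠ 1 := by
    refine ⟨1, fun e => ?_⟩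
    have h1 := congrArg Subtype.val (hinj (e.trans (map_one ρ).symm))
    exact one_ne_zero ((certFullE6.xg_eq_one_iff (show degE6S0.root < chevE6.nroots by decide +kernel) _).1 h1)
  have hb := CertFull.degree_bound certFullE6 ρ (base := degE6S0.root) (n₀ := 10)
    (show degE6S0.root < chevE6.nroots by decide +kernel) (b₀ := degE6S0) rfl (L := [2])
    pair_ok (Ss := degE6Simples) simples_ok (List.mem_cons_self ..) rfl roots_ok hne
  rw [finrank_fin_fun] at hb
  set q := Fintype.card F with hq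
  have hq2 : 2 ≤ q := Fintype.one_lt_card
  have hqp : IsPrimePow q := FiniteField.isPrimePow_card F
  have htgt : Fintype.card F * (Fintype.card F ^ 6 + Fintype.card F ^ 3 + 1) * (Fintype.card F ^ 4 + 1) = q ^ 11 + q ^ 8 + q ^ 7 + q ^ 5 + q ^ 4 + q := by ring
  rw [htgt]
  rcases hb with hb | ⟨hb, hd⟩
  · refine le_trans ?_ hb
    rw [show (q - 1) * (q + 1) = q * q - 1 by
      obtain ⟨n, hn⟩ : ∃ n, q = n + 1 := ⟨q - 1, by omega⟩
      rw [hn, Nat.add_sub_cancel]; exact (Nat.sub_eq_of_eq_add (by ring)).symm]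
    have h4 : 4 ≤ q * q := Nat.mul_le_mul hq2 hq2
    have hA : 3 * (q * q) ≤ 4 * (q * q - 1) := by omega
    have hB := Nat.mul_le_mul_right (q ^ (10 - 1)) hA
    have h8 : q ^ 8 * 2 ^ 3 ≤ q ^ 11 := by
      rw [show q ^ 11 = q ^ 8 * q ^ 3 by ring]; gcongr
    have h7 : q ^ 7 * 2 ^ 4 ≤ q ^ 11 := by
      rw [show q ^ 11 = q ^ 7 * q ^ 4 by ring]; gcongr
    have h5 : q ^ 5 * 2 ^ 6 ≤ q ^ 11 := by
      rw [show q ^ 11 = q ^ 5 * q ^ 6 by ring]; gcongr
    have h4' : q ^ 4 * 2 ^ 7 ≤ q ^ 11 := by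
      rw [show q ^ 11 = q ^ 4 * q ^ 7 by ring]; gcongr
    have h1 : q * 2 ^ 10 ≤ q ^ 11 := by
      rw [show q ^ 11 = q * q ^ 10 by ring]; gcongr
    norm_num at *
    nlinarith
  · have hsum : (q - 1) * (degE6Roots.map fun e => q ^ e.pairs.length).sum + 6 = q ^ 11 + q ^ 8 + q ^ 7 + q ^ 5 + q ^ 4 + q := by
      rw [show (degE6Roots.map fun e => q ^ e.pairs.length) =
        (degE6Roots.map fun e => e.pairs.length).map (q ^ ·) by rw [List.map_map]; rfl, lengths]
      obtain ⟨n, hn⟩ : ∃ n, q = n + 1 := ⟨q - 1, by omega⟩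
      simp only [List.map_cons, List.map_nil, List.sum_cons, List.sum_nil, hn, Nat.add_sub_cancel]
      ring
    by_contra hlt
    push Not at hlt
    obtain ⟨j, hj1, hj2, hjk⟩ : ∃ j, 1 ≤ j ∧ j ≤ 6 ∧ k = q ^ 11 + q ^ 8 + q ^ 7 + q ^ 5 + q ^ 4 + q - j :=
      ⟨q ^ 11 + q ^ 8 + q ^ 7 + q ^ 5 + q ^ 4 + q - k, by omega, by omega, by omega⟩
    have hdvd : k ∣ q ^ 36 * ((q ^ 2 - 1) * (q ^ 5 - 1) * (q ^ 6 - 1) * (q ^ 8 - 1) * (q ^ 9 - 1) * (q ^ 12 - 1)) := by
      have h := Cfsg.Agent.Char.degree_dvd_card ρ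
      rw [finrank_fin_fun] at h
      have hG := certFullE6.card_group_formula (F := F) chainE6_ok chainE6_len chainE6_poly (torusOrderE6 F)
      have e := h.trans (Dvd.intro_left _ hG)
      simpa [Cfsg.Lie.chevE6, mul_assoc] using e
    rw [hjk] at hdvd
    rcases (show j = 1 ∨ j = 2 ∨ j = 3 ∨ j = 4 ∨ j = 5 ∨ j = 6 by omega) with rfl | rfl | rfl | rfl | rfl | rfl
    · exact DegDiv.not_dvdE6_1 q hqp hdvd
    · by_cases hex : q = 2
      · exact exceptional k ρ hirr hd (by rw [hjk, ← hq, hex]; norm_num) (Or.inl hex)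
      · exact DegDiv.not_dvdE6_2 q hqp hex hdvd
    · exact DegDiv.not_dvdE6_3 q hqp hdvd
    · by_cases hex : q = 4
      · exact exceptional k ρ hirr hd (by rw [hjk, ← hq, hex]; norm_num) (Or.inr hex)
      · exact DegDiv.not_dvdE6_4 q hqp hex hdvd
    · exact DegDiv.not_dvdE6_5 q hqp hdvd
    · exact DegDiv.not_dvdE6_6 q hqp hdvd

end Cfsg.Agent.Lie.Chev.E6Deg
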