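import Cfsg.Agent.Lib.Lie.Chev.RootDegreeDivideE8
import Cfsg.Agent.Lib.Lie.Chev.RootTrace
import Cfsg.Agent.Lib.Lie.Chev.TorusOrders
import Cfsg.Agent.Lib.Lie.Chev.SimpleCerts
import Cfsg.Agent.Lib.Lie.Chev.RootDegreeChecksE8

/-! The smallest degree of a non-trivial complex representation of E8(q). -/

set_option autoImplicit false
set_option maxRecDepth 40000

namespace Cfsg.Agent.Lie.Chev.E8Deg

open Cfsg.Lie Module

theorem simples_ok : degE8Simples.all (certFullE8.T.simpleOK degE8S0.root 28) = true :=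
  degE8Simples_ok

theorem roots_ok : certFullE8.T.orderOK degE8Simples [] degE8Roots = true := degE8Roots_ok

theorem pair_ok : (([2] : List ℕ).all (Nat.blt · certFullE8.T.l) &&
    Nat.beq (certFullE8.T.wlT [2] degE8S0.root) 163 && certFullE8.T.rootMoves degE8S0.root [] 163 &&
    certFullE8.T.pairsOK [] degE8S0.root [degE8S0.pairs.headD (0, 0)]) = true := by
  decide +kernel

theorem lengths : degE8Roots.map (fun e => e.pairs.length) =
    [28, 27, 26, 25, 24, 23, 22, 22, 21, 21, 20, 20, 19, 19, 18, 18, 18, 17, 17, 17, 16, 16, 16, 16, 15, 15, 15, 15, 14, 14, 14, 14, 13, 13, 13, 13, 12, 12, 12, 12, 12, 11, 11, 11, 11, 11, 10, 10, 10, 10, 10, 10, 9, 9, 9, 9, 9, 9, 8, 8, 8, 8, 8, 8, 7, 7, 7, 7, 7, 7, 6, 6, 6, 6, 6, 6, 6, 5, 5, 5, 5, 5, 5, 5, 4, 4, 4, 4, 4, 4, 4, 3, 3, 3, 3, 3, 3, 3, 2, 2, 2, 2, 2, 2, 2, 1, 1, 1, 1, 1, 1, 1, 0, 0, 0, 0, 0, 0, 0, 0] := by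
  decide +kernel

variable {F : Type*} [Field F] [Fintype F]

theorem min_degree (k : ℕ) (ρ : Representation ℂ (chevE8.group F) (Fin k → ℂ))
    (hirr : ρ.IsIrreducible) (hk : 2 ≤ k) :
    Fintype.card F * (Fintype.card F ^ 12 + 1) * (Fintype.card F ^ 10 + 1) * (Fintype.card F ^ 6 + 1) ≤ k := by
  classical
  haveI := hirr
  haveI := (certFullE8.simple (F := F) connE8 (certFullE8.perfect perfectE8)).1
  have hinj := injective_of_irreducible_two ρ hk
  have hne : ∃ t : F, CertFull.rop certFullE8 ρ degE8S0.root t ≠ 1 := by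
    refine ⟨1, fun e => ?_⟩
    have h1 := congrArg Subtype.val (hinj (e.trans (map_one ρ).symm))
    exact one_ne_zero ((certFullE8.xg_eq_one_iff (show degE8S0.root < chevE8.nroots by decide +kernel) _).1 h1)
  have hb := CertFull.degree_bound certFullE8 ρ (base := degE8S0.root) (n₀ := 28)
    (show degE8S0.root < chevE8.nroots by decide +kernel) (b₀ := degE8S0) rfl (L := [2])
    pair_ok (Ss := degE8Simples) simples_ok (List.mem_cons_self ..) rfl roots_ok hne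
  rw [finrank_fin_fun] at hb
  set q := Fintype.card F with hq
  have hq2 : 2 ≤ q := Fintype.one_lt_card
  have hqp : IsPrimePow q := FiniteField.isPrimePow_card F
  have htgt : Fintype.card F * (Fintype.card F ^ 12 + 1) * (Fintype.card F ^ 10 + 1) * (Fintype.card F ^ 6 + 1) = q ^ 29 + q ^ 23 + q ^ 19 + q ^ 17 + q ^ 13 + q ^ 11 + q ^ 7 + q := by ring
  rw [htgt]
  rcases hb with hb | ⟨hb, hd⟩
  · refine le_trans ?_ hb
    rw [show (q - 1) * (q + 1) = q * q - 1 by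
      obtain ⟨n, hn⟩ : ∃ n, q = n + 1 := ⟨q - 1, by omega⟩
      rw [hn, Nat.add_sub_cancel]; exact (Nat.sub_eq_of_eq_add (by ring)).symm]
    have h4 : 4 ≤ q * q := Nat.mul_le_mul hq2 hq2
    have hA : 3 * (q * q) ≤ 4 * (q * q - 1) := by omega
    have hB := Nat.mul_le_mul_right (q ^ (28 - 1)) hA
    have h23 : q ^ 23 * 2 ^ 6 ≤ q ^ 29 := by
      rw [show q ^ 29 = q ^ 23 * q ^ 6 by ring]; gcongr
    have h19 : q ^ 19 ≤ q ^ 23 := Nat.pow_le_pow_right (by omega) (by norm_num)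
    have h17 : q ^ 17 ≤ q ^ 23 := Nat.pow_le_pow_right (by omega) (by norm_num)
    have h13 : q ^ 13 ≤ q ^ 23 := Nat.pow_le_pow_right (by omega) (by norm_num)
    have h11 : q ^ 11 ≤ q ^ 23 := Nat.pow_le_pow_right (by omega) (by norm_num)
    have h7 : q ^ 7 ≤ q ^ 23 := Nat.pow_le_pow_right (by omega) (by norm_num)
    have h1 : q ≤ q ^ 23 := Nat.le_self_pow (by norm_num) q
    norm_num at *
    nlinarith
  · have hsum : (q - 1) * (degE8Roots.map fun e => q ^ e.pairs.length).sum + 8 = q ^ 29 + q ^ 23 + q ^ 19 + q ^ 17 + q ^ 13 + q ^ 11 + q ^ 7 + q := by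
      rw [show (degE8Roots.map fun e => q ^ e.pairs.length) =
        (degE8Roots.map fun e => e.pairs.length).map (q ^ ·) by rw [List.map_map]; rfl, lengths]
      obtain ⟨n, hn⟩ : ∃ n, q = n + 1 := ⟨q - 1, by omega⟩
      simp only [List.map_cons, List.map_nil, List.sum_cons, List.sum_nil, hn, Nat.add_sub_cancel]
      ring
    by_contra hlt
    push Not at hlt
    obtain ⟨j, hj1, hj2, hjk⟩ : ∃ j, 1 ≤ j ∧ j ≤ 8 ∧ k = q ^ 29 + q ^ 23 + q ^ 19 + q ^ 17 + q ^ 13 + q ^ 11 + q ^ 7 + q - j :=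
      ⟨q ^ 29 + q ^ 23 + q ^ 19 + q ^ 17 + q ^ 13 + q ^ 11 + q ^ 7 + q - k, by omega, by omega, by omega⟩
    have hdvd : k ∣ q ^ 120 * ((q ^ 2 - 1) * (q ^ 8 - 1) * (q ^ 12 - 1) * (q ^ 14 - 1) * (q ^ 18 - 1) * (q ^ 20 - 1) * (q ^ 24 - 1) * (q ^ 30 - 1)) := by
      have h := Cfsg.Agent.Char.degree_dvd_card ρ
      rw [finrank_fin_fun] at h
      have hG := certFullE8.card_group_formula (F := F) chainE8_ok chainE8_len chainE8_poly (torusOrderE8 F)
      have e := h.trans (Dvd.intro_left _ hG)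
      simpa [Cfsg.Lie.chevE8, mul_assoc] using e
    rw [hjk] at hdvd
    rcases (show j = 1 ∨ j = 2 ∨ j = 3 ∨ j = 4 ∨ j = 5 ∨ j = 6 ∨ j = 7 ∨ j = 8 by omega) with rfl | rfl | rfl | rfl | rfl | rfl | rfl | rfl
    · exact DegDiv.not_dvdE8_1 q hqp hdvd
    · exact DegDiv.not_dvdE8_2 q hqp hdvd
    · exact DegDiv.not_dvdE8_3 q hqp hdvd
    · exact DegDiv.not_dvdE8_4 q hqp hdvd
    · exact DegDiv.not_dvdE8_5 q hqp hdvd
    · exact DegDiv.not_dvdE8_6 q hqp hdvd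
    · exact DegDiv.not_dvdE8_7 q hqp hdvd
    · exact DegDiv.not_dvdE8_8 q hqp hdvd

end Cfsg.Agent.Lie.Chev.E8Deg
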