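import Cfsg.Agent.Lib.Lie.Chev.Props

/-! Coefficients of roots and positivity. -/

set_option autoImplicit false

namespace Cfsg.Agent.Lie.Chev

open Cfsg.Lie

namespace Cert

variable {D : ChevalleyDatum} (c : Cert D)
include c

/-- A root index is positive. -/
def Pos (r : ℕ) : Prop := c.T.h ≤ r ∧ r < D.nroots

theorem posRoot_iff {r : ℕ} : D.IsPosRoot r ↔ c.Pos r := c.isPosRoot_iff

theorem h_add_h : D.nroots = c.T.h + c.T.h := by
  rw [c.nroots_eq_two_mul]; ring

theorem neg_val {r : ℕ} (hr : r < D.nroots) : D.neg r = D.nroots - 1 - r := by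
  rw [c.neg_eq hr, c.nroots_eq]; rfl

theorem code_neg {r : ℕ} (hr : r < D.nroots) : c.T.code (D.neg r) = - c.T.code r :=
  (c.linear_root hr).2.1

theorem pos_iff_code {r : ℕ} (hr : r < D.nroots) : c.Pos r ↔ 0 < c.T.code r := by
  rw [c.code_pos_iff hr]; exact ⟨And.left, fun h => ⟨h, hr⟩⟩

theorem not_pos_iff {r : ℕ} (hr : r < D.nroots) : ¬ c.Pos r ↔ c.Pos (D.neg r) := by
  have := c.h_add_h
  rw [Pos, Pos, c.neg_val hr]
  omega

theorem pos_simple {p : ℕ} (hp : p < D.rank) : c.Pos (D.simple p) :=
  ⟨c.h_le_simple hp, c.simple_lt hp⟩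

theorem simple_inj {p q : ℕ} (hp : p < D.rank) (hq : q < D.rank) (h : D.simple p = D.simple q) :
    p = q := by
  have h1 := c.vec_simple hp hp
  rw [h, c.vec_simple hq hp, if_pos rfl] at h1
  by_contra hne
  rw [if_neg hne] at h1
  omega

theorem vec_neg {r j : ℕ} (hr : r < D.nroots) (hj : j < D.rank) :
    c.T.vec (D.neg r) j = - c.T.vec r j := by
  have hn := c.neg_lt hr
  have h := c.code_neg hr
  have := c.vec_of_code (k := -2) hn hr hr (by omega) (fun i _ => by
    have := c.T.vec_bound (D.neg r) i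
    have := c.T.vec_bound r i
    rw [abs_lt]; omega) j hj
  omega

theorem vec_w {p s j : ℕ} (hp : p < D.rank) (hs : s < D.nroots) (hj : j < D.rank) :
    c.T.vec (c.w p s) j = c.T.vec s j - if j = p then D.cartan p s else 0 := by
  have hw := c.w_lt hp hs
  have hα := c.simple_lt hp
  have h2 := (c.refl_root hp hs).2.1
  have := c.vec_of_code (k := -D.cartan p s) hw hs hα (by rw [h2]; ring) (fun i hi => by
      have := c.T.vec_bound (c.w p s) i
      have := c.T.vec_bound s i
      have := c.T.cartan_bound p s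
      rw [c.cartan_eq hp hs, c.vec_simple hp hi, abs_lt]
      split_ifs <;> omega) j hj
  rw [this, c.vec_simple hp hj]
  split_ifs <;> ring

theorem vec_add {u a b j : ℕ} (hu : u < D.nroots) (ha : a < D.nroots) (hb : b < D.nroots)
    (h : c.T.code u = c.T.code a + c.T.code b) (hj : j < D.rank) :
    c.T.vec u j = c.T.vec a j + c.T.vec b j := by
  have := c.vec_of_code (k := 1) hu ha hb (by omega) (fun i _ => by
    have := c.T.vec_bound u i
    have := c.T.vec_bound a i
    have := c.T.vec_bound b i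
    rw [abs_lt]; omega) j hj
  omega

theorem chainRoot_vec {r s i u j : ℕ} (hr : r < D.nroots) (hs : s < D.nroots) (hi : 1 ≤ i)
    (h : c.T.chainRoot r s i = some u) (hj : j < D.rank) :
    c.T.vec u j = c.T.vec s j + (i : ℕ) * c.T.vec r j := by
  have hu := c.chainRoot_lt hr hs h
  have hlen : i ≤ 3 := by
    by_contra h4
    rw [c.chainRoot_none_ge hr hs (by omega)] at h
    cases h
  have hne : c.T.entry r s ≠ [] := by
    intro e; rw [Tables.chainRoot, e] at h; simp at h
  have hsh := (c.grading_row hr (c.mem_keys_of_entry_ne hr hs hne)).2.2.2.1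
  have step : ∀ {a k : ℕ}, a < D.nroots → c.T.chainRoot r a 1 = some k →
      c.T.vec k j = c.T.vec a j + c.T.vec r j := fun {a k} ha hk => by
    refine c.vec_add (c.chainRoot_lt hr ha hk) ha hr ?_ hj
    rw [c.chainRoot_code hr ha le_rfl hk]; simp
  have hlt := c.entry_lt hr hs
  match hi2 : i, hi, hlen with
  | 1, _, _ => rw [step hs h]; simp
  | 2, _, _ =>
    match hL : c.T.entry r s with
    | [] => exact absurd hL hne
    | [a] => rw [Tables.chainRoot, hL] at h; simp at h
    | [a, b] =>
      rw [hL] at hsh hlt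
      rw [Tables.chainRoot, hL] at h
      simp only [Nat.add_one_sub_one, List.getElem?_cons_succ, List.getElem?_cons_zero,
        Option.map_some, Option.some.injEq] at h
      subst h
      rw [step (hlt a (by simp)) hsh,
        step hs (show c.T.chainRoot r s 1 = some a.1 by simp [Tables.chainRoot, hL])]
      push_cast; ring
    | [a, b, d] =>
      rw [hL] at hsh hlt
      rw [Tables.chainRoot, hL] at h
      simp only [Nat.add_one_sub_one, List.getElem?_cons_succ, List.getElem?_cons_zero,
        Option.map_some, Option.some.injEq] at h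
      subst h
      rw [step (hlt a (by simp)) hsh.1,
        step hs (show c.T.chainRoot r s 1 = some a.1 by simp [Tables.chainRoot, hL])]
      push_cast; ring
    | a :: b :: d :: e :: L =>
      have := c.entry_length hr hs
      rw [hL] at this
      simp at this
      omega
  | 3, _, _ =>
    match hL : c.T.entry r s with
    | [] => exact absurd hL hne
    | [a] => rw [Tables.chainRoot, hL] at h; simp at h
    | [a, b] => rw [Tables.chainRoot, hL] at h; simp at h
    | [a, b, d] =>
      rw [hL] at hsh hlt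
      rw [Tables.chainRoot, hL] at h
      simp only [Nat.add_one_sub_one, List.getElem?_cons_succ, List.getElem?_cons_zero,
        Option.map_some, Option.some.injEq] at h
      subst h
      rw [step (hlt b (by simp)) hsh.2, step (hlt a (by simp)) hsh.1,
        step hs (show c.T.chainRoot r s 1 = some a.1 by simp [Tables.chainRoot, hL])]
      push_cast; ring
    | a :: b :: d :: e :: L =>
      have := c.entry_length hr hs
      rw [hL] at this
      simp at this
      omega

theorem commTerms_vec {r s j : ℕ} (hr : r < D.nroots) (hs : s < D.nroots) (hj : j < D.rank)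
    {x : ℕ × ℤ × ℕ × ℕ} (hx : x ∈ c.T.commTerms r s) :
    c.T.vec x.1 j = (x.2.2.1 : ℕ) * c.T.vec r j + (x.2.2.2 : ℕ) * c.T.vec s j := by
  simp only [Tables.commTerms, List.mem_filterMap, List.mem_cons, List.not_mem_nil, or_false,
    Option.map_eq_some_iff] at hx
  obtain ⟨y, hy, k, hk, rfl⟩ := hx
  rcases hy with rfl | rfl | rfl | rfl | rfl | rfl | rfl
  all_goals simp only at hk ⊢
  · rw [c.chainRoot_vec hr hs le_rfl hk hj]; push_cast; ring
  · rw [c.chainRoot_vec hr hs (by omega) hk hj]; push_cast; ring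
  · rw [c.chainRoot_vec hs hr (by omega) hk hj]; push_cast; ring
  · rw [c.chainRoot_vec hr hs (by omega) hk hj]; push_cast; ring
  · rw [c.chainRoot_vec hs hr (by omega) hk hj]; push_cast; ring
  · obtain ⟨m, hm, hk⟩ := Option.bind_eq_some_iff.1 hk
    rw [c.chainRoot_vec (c.chainRoot_lt hr hs hm) hs le_rfl hk hj,
      c.chainRoot_vec hr hs (by omega) hm hj]
    push_cast; ring
  · obtain ⟨m, hm, hk⟩ := Option.bind_eq_some_iff.1 hk
    rw [c.chainRoot_vec (c.chainRoot_lt hs hr hm) hr le_rfl hk hj,
      c.chainRoot_vec hs hr (by omega) hm hj]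
    push_cast; ring

/-- Terms for two positive roots are beyond both roots. -/
theorem commTerms_gt {r s : ℕ} (hr : c.Pos r) (hs : c.Pos s) {x : ℕ × ℤ × ℕ × ℕ}
    (hx : x ∈ c.T.commTerms r s) : c.Pos x.1 ∧ r < x.1 ∧ s < x.1 := by
  obtain ⟨h1, hi, hj, hcode⟩ := c.mem_commTerms hr.2 hs.2 hx
  have hr' := (c.pos_iff_code hr.2).1 hr
  have hs' := (c.pos_iff_code hs.2).1 hs
  have e1 : c.T.code r ≤ (x.2.2.1 : ℕ) * c.T.code r :=
    le_mul_of_one_le_left hr'.le (by exact_mod_cast hi)
  have e2 : c.T.code s ≤ (x.2.2.2 : ℕ) * c.T.code s :=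
    le_mul_of_one_le_left hs'.le (by exact_mod_cast hj)
  refine ⟨(c.pos_iff_code h1).2 (by omega), ?_, ?_⟩
  · by_contra hle
    have := (c.code_le_iff h1 hr.2).2 (by omega)
    omega
  · by_contra hle
    have := (c.code_le_iff h1 hs.2).2 (by omega)
    omega

end Cert

namespace CertFull

variable {D : ChevalleyDatum} (c : CertFull D)
include c

/-- A root with a positive coefficient is positive. -/
theorem pos_of_vec_pos {s j : ℕ} (hs : s < D.nroots) (hj : j < D.rank) (h : 0 < c.T.vec s j) :
    c.Pos s := by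
  by_contra hn
  rw [c.not_pos_iff hs] at hn
  have := (c.vec_nonneg hn.2 hn.1).1 j hj
  rw [c.vec_neg hs hj] at this
  omega

theorem pos_w {p s : ℕ} (hp : p < D.rank) (hs : c.Pos s) (hne : s ≠ D.simple p) :
    c.Pos (c.w p s) ∧ c.w p s ≠ D.simple p := by
  obtain ⟨k, hk, hkp, hv⟩ := (c.vec_nonneg hs.2 hs.1).2 p hp hne
  have hw := c.w_lt hp hs.2
  have : 0 < c.T.vec (c.w p s) k := by
    rw [c.vec_w hp hs.2 hk, if_neg hkp]; omega
  refine ⟨c.pos_of_vec_pos hw hk this, fun e => ?_⟩
  rw [e, c.vec_simple hp hk, if_neg hkp] at this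
  omega

/-- Terms for a positive root other than `α_p` and `±α_p` are positive and different from
`α_p`. -/
theorem commTerms_pos {p r s : ℕ} (hp : p < D.rank) (hr : r = D.simple p ∨ r = D.neg (D.simple p))
    (hs : c.Pos s) (hne : s ≠ D.simple p) {x : ℕ × ℤ × ℕ × ℕ}
    (hx : x ∈ c.T.commTerms r s ∨ x ∈ c.T.commTerms s r) :
    c.Pos x.1 ∧ x.1 ≠ D.simple p := by
  have hα := c.simple_lt hp
  have hr' : r < D.nroots := by rcases hr with rfl | rfl; exacts [hα, c.neg_lt hα]
  obtain ⟨k, hk, hkp, hv⟩ := (c.vec_nonneg hs.2 hs.1).2 p hp hne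
  have hrk : c.T.vec r k = 0 := by
    rcases hr with rfl | rfl
    · rw [c.vec_simple hp hk, if_neg hkp]
    · rw [c.vec_neg hα hk, c.vec_simple hp hk, if_neg hkp, neg_zero]
  have h : x.1 < D.nroots ∧ 0 < c.T.vec x.1 k := by
    rcases hx with hx | hx
    · refine ⟨(c.mem_commTerms hr' hs.2 hx).1, ?_⟩
      rw [c.commTerms_vec hr' hs.2 hk hx, hrk, mul_zero, zero_add]
      have := (c.mem_commTerms hr' hs.2 hx).2.2.1
      positivity
    · refine ⟨(c.mem_commTerms hs.2 hr' hx).1, ?_⟩
      rw [c.commTerms_vec hs.2 hr' hk hx, hrk, mul_zero, add_zero]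
      have := (c.mem_commTerms hs.2 hr' hx).2.1
      positivity
  refine ⟨c.pos_of_vec_pos h.1 hk h.2, fun e => ?_⟩
  rw [e, c.vec_simple hp hk, if_neg hkp] at h
  omega

end CertFull

end Cfsg.Agent.Lie.Chev
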