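import Cfsg.Agent.Lib.Lie.Chev.SLTwo
import Cfsg.Agent.Lib.Lie.Chev.StTorusStart
import Cfsg.Agent.Lib.Lie.Chev.SteinbergFinite
import Cfsg.Agent.Lib.Lie.Chev.TwelveTori

/-! Changing the twisting word by a reflection, through three commuting copies of SL₂ that the
Frobenius permutes cyclically. -/

set_option autoImplicit false
set_option maxRecDepth 4000

namespace Cfsg.Agent.Lie.Chev

open Cfsg.Lie Matrix
open scoped MatrixGroups

namespace CertFull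

variable {D : ChevalleyDatum} (c : CertFull D) {L : Type*} [Field L]
include c

theorem tchar_negRoot (z : ℕ → Lˣ) {s : ℕ} (hs : s < D.nroots) :
    c.tchar z (D.neg s) = (c.tchar z s)⁻¹ := by
  rw [c.tchar_eq_chi z (c.neg_lt hs), c.tchar_eq_chi z hs, ← Finset.prod_inv_distrib]
  exact Finset.prod_congr rfl fun j _ => by rw [c.vec_neg hs j.2, _root_.zpow_neg]

/-- The homomorphism onto a pair of fundamental root subgroups, on all standard elements. -/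
theorem exists_sl_pair {p : ℕ} (hp : p < D.rank) : ∃ φ : SL(2, L) →* GL D.Idx L,
    (∀ t, φ (upSL t) = c.xg (D.simple p) t) ∧ (∀ t, φ (loSL t) = c.xg (D.neg (D.simple p)) t) ∧
    φ wSL = c.np L p ∧ ∀ (t : L) (ht : t ≠ 0), φ (dSL t ht) ∈ D.diagonalSubgroup L := by
  obtain ⟨φ, hu, hw⟩ := c.exists_sl_simple (F := L) hp
  have hα := c.simple_lt hp
  have hlo : ∀ t, φ (loSL t) = c.xg (D.neg (D.simple p)) t := fun t => by
    have e : (loSL t : SL(2, L)) * wSL = wSL * upSL (-t) := by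
      refine ext_two ?_ ?_ ?_ ?_ <;> simp [mul_val, loSL_val, upSL_val, wSL_val]
    have h := congrArg φ e
    rw [map_mul, map_mul, hw, hu, Cert.np, c.ng_conj hp hα, c.eta_simple hp, c.w_simple hp,
      neg_one_mul, neg_neg] at h
    exact mul_right_cancel h
  refine ⟨φ, hu, hlo, hw, fun t ht => ?_⟩
  have e : (dSL t ht : SL(2, L)) = upSL t * loSL (-t⁻¹) * upSL t *
      (upSL (-1) * loSL (-(-1 : L)⁻¹) * upSL (-1)) := by
    refine ext_two ?_ ?_ ?_ ?_ <;>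
      simp only [mul_val, upSL_val, loSL_val, dSL_val] <;>
      simp [Matrix.mul_apply, Fin.sum_univ_two, ht]
  rw [e]
  simp only [map_mul, hu, hlo]
  exact c.hg_mem hα ht

end CertFull

theorem sl_two_twist {L : Type*} [Field L] (μ ν ε : L) (hε : ε * (μ - ν) = 1) (h0 : ε ≠ 0) :
    (loSL ν * upSL ε : SL(2, L)) = loSL μ * upSL (-ε) * (dSL ε h0 * wSL) := by
  refine ext_two ?_ ?_ ?_ ?_ <;>
    simp only [mul_val, upSL_val, loSL_val, dSL_val, wSL_val] <;>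
    simp [Matrix.mul_apply, Fin.sum_univ_two]
  all_goals field_simp
  all_goals first | ring1 | linear_combination hε | linear_combination (-1 : L) * hε

/-- In a cyclic group of order `(Q - 1)m` the `m`-th roots of unity are `(Q - 1)`-th powers. -/
theorem exists_root_of_pow {G : Type*} [CommGroup G] [Finite G] [IsCyclic G] {d m : ℕ}
    (hG : Nat.card G = d * m) {x : G} (hx : x ^ m = 1) : ∃ y : G, y ^ d = x := by
  obtain ⟨g, hg⟩ := IsCyclic.exists_ofOrder_eq_natCard (α := G)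
  have hz : Subgroup.zpowers g = ⊤ :=
    Subgroup.eq_top_of_card_eq _ (by rw [Nat.card_zpowers, hg])
  obtain ⟨e, rfl⟩ := Subgroup.mem_zpowers_iff.1 (hz ▸ Subgroup.mem_top x)
  have hm : (m : ℤ) ≠ 0 := by
    intro h
    have : Nat.card G = 0 := by rw [hG, Int.natCast_eq_zero.1 h, mul_zero]
    exact (Nat.card_pos (α := G)).ne' this
  rw [← zpow_natCast, ← _root_.zpow_mul, ← orderOf_dvd_iff_zpow_eq_one, hg, hG, Nat.cast_mul,
    mul_dvd_mul_iff_right hm] at hx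
  obtain ⟨k, rfl⟩ := hx
  exact ⟨g ^ k, by rw [← zpow_natCast, ← _root_.zpow_mul, mul_comm]⟩

namespace CertFull

variable {D : ChevalleyDatum} (c : CertFull D) {L : Type*} [Field L]
include c

set_option maxHeartbeats 1000000 in
/-- The twist. -/
theorem exists_twist_three [Fintype L] {φ : L →+* L} {q : ℕ} (hq : 1 < q)
    (hφ : ∀ t, φ t = t ^ q) (hL : Fintype.card L = q ^ 12) {W : List ℕ}
    (hW : ∀ p ∈ W, p < D.rank) {p₁ p₂ p₃ : ℕ} (h₁ : p₁ < D.rank) (h₂ : p₂ < D.rank)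
    (h₃ : p₃ < D.rank) (e₁ : c.wl W.reverse (D.simple p₁) = D.simple p₂)
    (e₂ : c.wl W.reverse (D.simple p₂) = D.simple p₃)
    (e₃ : c.wl W.reverse (D.simple p₃) = D.simple p₁)
    (hcomm : ∀ a ∈ [p₁, p₂, p₃], ∀ b ∈ [p₁, p₂, p₃], a ≠ b →
      ∀ r ∈ [D.simple a, D.neg (D.simple a)], ∀ s ∈ [D.simple b, D.neg (D.simple b)],
        s ≠ r ∧ s ≠ D.neg r ∧ c.T.commTerms r s = [])
    (hne : p₁ ≠ p₂ ∧ p₂ ≠ p₃ ∧ p₁ ≠ p₃)
    {g : GL D.Idx L} (hg : g ∈ D.group L) {t : ℕ → Lˣ}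
    (hk : Matrix.GeneralLinearGroup.map φ g * g⁻¹ = c.nw L W * c.torus t) :
    ∃ a ∈ D.group L, ∃ h ∈ D.diagonalSubgroup L,
      Matrix.GeneralLinearGroup.map φ (a * g) * (a * g)⁻¹ = c.nw L (W ++ [p₁]) * h := by
  classical
  obtain ⟨σ, hσ⟩ : ∃ m : GL D.Idx L →* GL D.Idx L,
      m = Matrix.GeneralLinearGroup.map φ := ⟨_, rfl⟩
  rw [← hσ] at hk
  obtain ⟨k, hkdef⟩ : ∃ k, k = c.nw L W * c.torus t := ⟨_, rfl⟩
  rw [← hkdef] at hk
  obtain ⟨Ψ, hΨ⟩ : ∃ m : GL D.Idx L →* GL D.Idx L,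
      m = (MulAut.conj k⁻¹).toMonoidHom.comp σ := ⟨_, rfl⟩
  have hΨy : ∀ y, Ψ y = k⁻¹ * σ y * k := fun y => by
    rw [hΨ]
    show k⁻¹ * σ y * k⁻¹⁻¹ = _
    rw [inv_inv]
  -- the root elements
  have hroot : ∀ s < D.nroots, ∀ v : L, Ψ (c.xg s v) = c.xg (c.wl W.reverse s)
      ((((c.tchar t (c.wl W.reverse s))⁻¹ : Lˣ) : L) * (c.wsign W (c.wl W.reverse s) : L) *
        v ^ q) := by
    intro s hs v
    have hr : ∀ p ∈ W.reverse, p < D.rank := fun p hp => hW p (List.mem_reverse.1 hp)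
    have hβ := c.wl_lt hr hs
    obtain ⟨β, hβdef⟩ : ∃ β, β = c.wl W.reverse s := ⟨_, rfl⟩
    rw [← hβdef] at hβ ⊢
    have hs' : c.wl W β = s := hβdef ▸ c.wl_reverse hW hs
    have e : c.xg s (v ^ q) = c.nw L W * c.xg β ((c.wsign W β : L) * v ^ q) * (c.nw L W)⁻¹ := by
      rw [← c.xg_wl hW hβ, hs']
    rw [hΨy, hσ, c.xg_map, hφ, e, hkdef]
    calc (c.nw L W * c.torus t)⁻¹ * (c.nw L W * c.xg β ((c.wsign W β : L) * v ^ q) *
          (c.nw L W)⁻¹) * (c.nw L W * c.torus t)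
        = (c.torus t)⁻¹ * c.xg β ((c.wsign W β : L) * v ^ q) * ((c.torus t)⁻¹)⁻¹ := by group
      _ = _ := by
        rw [← map_inv c.torus, c.torus_conj_xg _ hβ]
        congr 1
        rw [show c.tchar t⁻¹ β = (c.tchar t β)⁻¹ by
          rw [Cert.tchar, Cert.tchar, ← Finset.prod_inv_distrib]
          simp [_root_.inv_zpow]]
        ring
  have hpair : ∀ a b : ℕ, a < D.rank → b < D.rank → c.wl W.reverse (D.simple a) = D.simple b →
      ∃ κ : Lˣ, (∀ v, Ψ (c.xg (D.simple a) v) = c.xg (D.simple b) ((κ : L) * v ^ q)) ∧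
        ∀ v, Ψ (c.xg (D.neg (D.simple a)) v) =
          c.xg (D.neg (D.simple b)) (((κ⁻¹ : Lˣ) : L) * v ^ q) := by
    intro a b ha hb hab
    have hr : ∀ p ∈ W.reverse, p < D.rank := fun p hp => hW p (List.mem_reverse.1 hp)
    have hα := c.simple_lt ha
    have hsign : (c.wsign W (D.simple b) : L) * (c.wsign W (D.simple b) : L) = 1 := c.wsign_sq _ _
    obtain ⟨s, hs⟩ : ∃ s : Lˣ, (s : L) = (c.wsign W (D.simple b) : L) :=
      ⟨Units.mk0 _ (c.wsign_ne_zero _ _), rfl⟩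
    have hsinv : s⁻¹ = s := inv_eq_of_mul_eq_one_right (Units.ext (by
      rw [Units.val_mul, hs, hsign, Units.val_one]))
    refine ⟨(c.tchar t (D.simple b))⁻¹ * s, fun v => ?_, fun v => ?_⟩
    · rw [hroot _ hα, hab, Units.val_mul, hs]
    · rw [hroot _ (c.neg_lt hα), c.wl_neg hr hα, hab, c.tchar_negRoot _ (c.simple_lt hb),
        c.wsign_neg hW (c.simple_lt hb), mul_inv, hsinv, inv_inv, Units.val_mul, hs]
  obtain ⟨κ₁, hu₁, hl₁⟩ := hpair p₁ p₂ h₁ h₂ e₁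
  obtain ⟨κ₂, hu₂, hl₂⟩ := hpair p₂ p₃ h₂ h₃ e₂
  obtain ⟨κ₃, hu₃, hl₃⟩ := hpair p₃ p₁ h₃ h₁ e₃
  obtain ⟨Q, hQ⟩ : ∃ Q, Q = q ^ 3 := ⟨_, rfl⟩
  obtain ⟨κ, hκ⟩ : ∃ κ : Lˣ, κ = κ₃ * κ₂ ^ q * κ₁ ^ (q ^ 2) := ⟨_, rfl⟩
  have hup : ∀ v, Ψ (Ψ (Ψ (c.xg (D.simple p₁) v))) =
      c.xg (D.simple p₁) ((κ : L) * v ^ Q) := fun v => by
    rw [hu₁, hu₂, hu₃, hκ, hQ, Units.val_mul, Units.val_mul, Units.val_pow_eq_pow_val,
      Units.val_pow_eq_pow_val]
    congr 1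
    ring
  have hdn : ∀ v, Ψ (Ψ (Ψ (c.xg (D.neg (D.simple p₁)) v))) =
      c.xg (D.neg (D.simple p₁)) (((κ⁻¹ : Lˣ) : L) * v ^ Q) := fun v => by
    rw [hl₁, hl₂, hl₃, hκ, hQ]
    congr 1
    simp only [_root_.mul_inv_rev, Units.val_mul, Units.val_pow_eq_pow_val, ← inv_pow]
    ring
  -- twelve steps are the identity
  have h12 : ∀ m : ℕ, ∀ y, (Ψ^[m]) y = g * (σ^[m]) (g⁻¹ * y * g) * g⁻¹ := by
    intro m
    induction m with
    | zero => intro y; simp [mul_assoc]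
    | succ m ih =>
      intro y
      rw [Function.iterate_succ_apply', Function.iterate_succ_apply', ih, hΨy, ← hk]
      simp only [map_mul, map_inv]
      group
  have hσ12 : ∀ y, (σ^[12]) y = y := by
    intro y
    have hm : ∀ (m : ℕ) (y : GL D.Idx L) (i j : D.Idx),
        ((σ^[m]) y : Matrix D.Idx D.Idx L) i j = (y : Matrix D.Idx D.Idx L) i j ^ q ^ m := by
      intro m
      induction m with
      | zero => intro y i j; simp
      | succ m ih =>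
        intro y i j
        rw [Function.iterate_succ_apply', hσ]
        show φ _ = _
        rw [← hσ, ih, hφ, ← pow_mul, ← pow_succ]
    exact Units.ext (Matrix.ext fun i j => by rw [hm, ← hL, FiniteField.pow_card])
  have hnorm : κ ^ (1 + Q + Q ^ 2 + Q ^ 3) = 1 := by
    have h := h12 12 (c.xg (D.simple p₁) 1)
    rw [hσ12, show g * (g⁻¹ * c.xg (D.simple p₁) 1 * g) * g⁻¹ = c.xg (D.simple p₁) 1 by group] at h
    simp only [show (12 : ℕ) = ((((((((((((0 + 1) + 1) + 1) + 1) + 1) + 1) + 1) + 1) + 1) + 1) + 1) + 1) from rfl,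
      Function.iterate_succ_apply', Function.iterate_zero_apply, hup] at h
    have h' := c.xg_inj (c.simple_lt h₁) h
    refine Units.ext ?_
    rw [Units.val_pow_eq_pow_val, Units.val_one]
    conv_rhs => rw [← h']
    ring
  -- the basis
  have hQ1 : 1 < Q := hQ ▸ Nat.one_lt_pow (by norm_num) hq
  have hcard : Nat.card Lˣ = (Q - 1) * (1 + Q + Q ^ 2 + Q ^ 3) := by
    rw [Nat.card_units, Nat.card_eq_fintype_card, hL, show q ^ 12 = Q ^ 4 by rw [hQ, ← pow_mul],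
      Nat.sub_one_mul]
    rw [show Q * (1 + Q + Q ^ 2 + Q ^ 3) = Q ^ 4 + (Q + Q ^ 2 + Q ^ 3) by ring]
    omega
  obtain ⟨γ, hγ⟩ := exists_root_of_pow hcard (x := κ⁻¹) (by rw [inv_pow, hnorm, inv_one])
  have hγQ : κ * γ ^ Q = γ := by
    rw [show Q = Q - 1 + 1 by omega, pow_succ, hγ, mul_inv_cancel_left]
  obtain ⟨ν, hν⟩ : ∃ ν : Lˣ, orderOf ν = Q ^ 2 - 1 := by
    obtain ⟨ω, hω⟩ := IsCyclic.exists_ofOrder_eq_natCard (α := Lˣ)
    have hd : Q ^ 2 - 1 ∣ Nat.card Lˣ := by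
      rw [Nat.card_units, Nat.card_eq_fintype_card, hL, show q ^ 12 = (Q ^ 2) ^ 2 by
        rw [hQ, ← pow_mul, ← pow_mul]]
      simpa using Nat.sub_dvd_pow_sub_pow (Q ^ 2) 1 2
    exact ⟨_, orderOf_pow_orderOf_div (hω ▸ (Nat.card_pos (α := Lˣ)).ne') (hω ▸ hd)⟩
  have hQQ : 2 * Q ≤ Q ^ 2 := by rw [sq]; exact Nat.mul_le_mul_right _ hQ1
  have hν2 : ((ν : L)) ^ (Q * Q) = (ν : L) := by
    rw [← Units.val_pow_eq_pow_val, show Q * Q = (Q ^ 2 - 1) + 1 by rw [sq] at hQQ ⊢; omega, pow_succ,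
      ← hν, pow_orderOf_eq_one, one_mul]
  have hν1 : (ν : L) ^ Q - ν ≠ 0 := fun h => by
    rw [sub_eq_zero, ← Units.val_pow_eq_pow_val] at h
    have h1 : ν ^ (Q - 1) = 1 := mul_eq_right.1 (show ν ^ (Q - 1) * ν = ν by
      rw [← pow_succ, show Q - 1 + 1 = Q by omega, Units.ext h])
    have := Nat.le_of_dvd (by omega) (orderOf_dvd_of_pow_eq_one h1)
    rw [hν] at this
    omega
  obtain ⟨ε, hεdef⟩ : ∃ ε : L, ε = ((ν : L) ^ Q - ν)⁻¹ := ⟨_, rfl⟩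
  have hε0 : ε ≠ 0 := hεdef ▸ inv_ne_zero hν1
  have hεQ : ε ^ Q = -ε := by
    obtain ⟨p, hp⟩ := CharP.exists L
    haveI : Fact p.Prime := ⟨CharP.char_is_prime L p⟩
    obtain ⟨n, hn⟩ : ∃ n, Q = p ^ n := by
      obtain ⟨N, -, hN⟩ := FiniteField.card L p
      have hd : Q ∣ p ^ (N : ℕ) := by
        rw [← hN, hL, hQ, show q ^ 12 = q ^ 3 * q ^ 9 by rw [← pow_add]]
        exact dvd_mul_right _ _
      obtain ⟨n, -, hn⟩ := (Nat.dvd_prime_pow (Fact.out : p.Prime)).1 hd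
      exact ⟨n, hn⟩
    have hsub : ((ν : L) ^ Q - ν) ^ Q = ((ν : L) ^ Q) ^ Q - (ν : L) ^ Q := by
      rw [hn]; exact sub_pow_char_pow _ _ _
    rw [hεdef, inv_pow, hsub, ← pow_mul, hν2, ← inv_neg, neg_sub]
  -- the homomorphism
  obtain ⟨f, hfu, hfl, hfw, hfd⟩ := c.exists_sl_pair (L := L) h₁
  obtain ⟨b, hb⟩ : ∃ b : SL(2, L), b = loSL ((ν : L) / γ) * upSL ((γ : L) * ε) := ⟨_, rfl⟩
  obtain ⟨b', hb'⟩ : ∃ b' : SL(2, L),
      b' = loSL ((ν : L) ^ Q / γ) * upSL (-((γ : L) * ε)) := ⟨_, rfl⟩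
  have hgε : (γ : L) * ε ≠ 0 := mul_ne_zero γ.ne_zero hε0
  have hbb : b = b' * (dSL ((γ : L) * ε) hgε * wSL) := by
    rw [hb, hb']
    refine sl_two_twist _ _ _ ?_ hgε
    rw [hεdef]
    field_simp
  have hΨb : Ψ (Ψ (Ψ (f b))) = f b' := by
    rw [hb, hb', map_mul, map_mul, map_mul, map_mul, map_mul, hfu, hfl, hfu, hfl, hup, hdn]
    have hg1 : (κ : L) * (γ : L) ^ Q = γ := by
      rw [← Units.val_pow_eq_pow_val, ← Units.val_mul, hγQ]
    congr 2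
    · rw [div_pow, Units.val_inv_eq_inv_val]
      conv_rhs => rw [← hg1]
      field_simp
    · rw [mul_pow, hεQ, ← mul_assoc, hg1, mul_neg]
  -- the element
  obtain ⟨a₁, ha₁⟩ : ∃ a, a = (f b)⁻¹ := ⟨_, rfl⟩
  obtain ⟨a₂, ha₂⟩ : ∃ a, a = Ψ a₁ := ⟨_, rfl⟩
  obtain ⟨a₃, ha₃⟩ : ∃ a, a = Ψ a₂ := ⟨_, rfl⟩
  let S : ℕ → Subgroup (GL D.Idx L) := fun p => Subgroup.closure
    (Set.range (c.xg (D.simple p)) ∪ Set.range (c.xg (D.neg (D.simple p))))
  have hS : ∀ a ∈ [p₁, p₂, p₃], ∀ b ∈ [p₁, p₂, p₃], a ≠ b → a < D.rank → b < D.rank →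
      ∀ x ∈ S a, ∀ y ∈ S b, Commute x y := by
    intro a ha b hb hab har hbr x hx y hy
    have hgen : ∀ r ∈ [D.simple a, D.neg (D.simple a)], ∀ s ∈ [D.simple b, D.neg (D.simple b)],
        ∀ u v : L, Commute (c.xg r u) (c.xg s v) := by
      intro r hr s hs u v
      obtain ⟨n1, n2, n3⟩ := hcomm a ha b hb hab r hr s hs
      have hrlt : r < D.nroots := by
        simp only [List.mem_cons, List.not_mem_nil, or_false] at hr
        rcases hr with rfl | rfl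
        exacts [c.simple_lt har, c.neg_lt (c.simple_lt har)]
      have hslt : s < D.nroots := by
        simp only [List.mem_cons, List.not_mem_nil, or_false] at hs
        rcases hs with rfl | rfl
        exacts [c.simple_lt hbr, c.neg_lt (c.simple_lt hbr)]
      have h := c.xg_comm hrlt hslt n1 n2 u v
      rw [n3, List.map_nil, List.prod_nil] at h
      show c.xg r u * c.xg s v = c.xg s v * c.xg r u
      simpa using h.symm
    have h1 : ∀ r ∈ [D.simple a, D.neg (D.simple a)], ∀ u : L, Commute (c.xg r u) y := by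
      intro r hr u
      induction hy using Subgroup.closure_induction with
      | mem y hy =>
        rcases hy with ⟨v, rfl⟩ | ⟨v, rfl⟩
        exacts [hgen r hr _ (by simp) u v, hgen r hr _ (by simp) u v]
      | one => exact Commute.one_right _
      | mul y z _ _ ha hb => exact ha.mul_right hb
      | inv y _ ha => exact ha.inv_right
    induction hx using Subgroup.closure_induction with
    | mem x hx =>
      rcases hx with ⟨v, rfl⟩ | ⟨v, rfl⟩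
      exacts [h1 _ (by simp) v, h1 _ (by simp) v]
    | one => exact Commute.one_left _
    | mul y z _ _ ha hb => exact ha.mul_left hb
    | inv y _ ha => exact ha.inv_left
  have ha₁S : a₁ ∈ S p₁ := by
    rw [ha₁, hb, map_mul, hfu, hfl]
    exact inv_mem (mul_mem (Subgroup.subset_closure (Or.inr ⟨_, rfl⟩))
      (Subgroup.subset_closure (Or.inl ⟨_, rfl⟩)))
  have hmap : ∀ (p p' : ℕ) (κ : Lˣ),
      (∀ v, Ψ (c.xg (D.simple p) v) = c.xg (D.simple p') ((κ : L) * v ^ q)) →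
      (∀ v, Ψ (c.xg (D.neg (D.simple p)) v) =
        c.xg (D.neg (D.simple p')) (((κ⁻¹ : Lˣ) : L) * v ^ q)) →
      ∀ x ∈ S p, Ψ x ∈ S p' := by
    intro p p' κ hu hl x hx
    have : S p ≤ (S p').comap Ψ := by
      refine (Subgroup.closure_le _).2 ?_
      rintro _ (⟨v, rfl⟩ | ⟨v, rfl⟩) <;> rw [SetLike.mem_coe, Subgroup.mem_comap]
      · rw [hu]; exact Subgroup.subset_closure (Or.inl ⟨_, rfl⟩)
      · rw [hl]; exact Subgroup.subset_closure (Or.inr ⟨_, rfl⟩)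
    exact this hx
  have ha₂S : a₂ ∈ S p₂ := ha₂ ▸ hmap p₁ p₂ κ₁ hu₁ hl₁ _ ha₁S
  have ha₃S : a₃ ∈ S p₃ := ha₃ ▸ hmap p₂ p₃ κ₂ hu₂ hl₂ _ ha₂S
  have hSle : ∀ p, p < D.rank → S p ≤ D.group L := fun p hp => by
    refine (Subgroup.closure_le _).2 ?_
    rintro _ (⟨v, rfl⟩ | ⟨v, rfl⟩)
    exacts [c.xg_mem_group (c.simple_lt hp) v, c.xg_mem_group (c.neg_lt (c.simple_lt hp)) v]
  obtain ⟨hd, hhd⟩ : ∃ hd, hd = f (dSL ((γ : L) * ε) hgε) := ⟨_, rfl⟩
  have hd1 : Ψ a₃ = hd * c.np L p₁ * a₁ := by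
    rw [ha₃, ha₂, ha₁, map_inv, map_inv, map_inv, hΨb, hhd]
    have h : f b = f b' * (f (dSL ((γ : L) * ε) hgε) * c.np L p₁) := by
      rw [hbb, map_mul, map_mul, hfw]
    rw [h]
    group
  have c12 : Commute a₁ a₂ :=
    hS p₁ (by simp) p₂ (by simp) hne.1 h₁ h₂ _ ha₁S _ ha₂S
  have c23 : Commute a₂ a₃ :=
    hS p₂ (by simp) p₃ (by simp) hne.2.1 h₂ h₃ _ ha₂S _ ha₃S
  have c13 : Commute a₁ a₃ :=
    hS p₁ (by simp) p₃ (by simp) hne.2.2 h₁ h₃ _ ha₁S _ ha₃S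
  refine ⟨a₃ * a₂ * a₁, mul_mem (mul_mem (hSle _ h₃ ha₃S) (hSle _ h₂ ha₂S)) (hSle _ h₁ ha₁S),
    ?_⟩
  have hσa : σ (a₃ * a₂ * a₁) = k * Ψ (a₃ * a₂ * a₁) * k⁻¹ := by rw [hΨy]; group
  have key : Ψ (a₃ * a₂ * a₁) * (a₃ * a₂ * a₁)⁻¹ = hd * c.np L p₁ := by
    rw [map_mul, map_mul, hd1, ← ha₃, ← ha₂]
    have h : a₁ * a₃ * a₂ = a₃ * a₂ * a₁ := by
      rw [c13.eq, mul_assoc, c12.eq, ← mul_assoc]
    calc hd * c.np L p₁ * a₁ * a₃ * a₂ * (a₃ * a₂ * a₁)⁻¹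
        = hd * c.np L p₁ * ((a₁ * a₃ * a₂) * (a₃ * a₂ * a₁)⁻¹) := by group
      _ = _ := by rw [h, mul_inv_cancel, mul_one]
  obtain ⟨u, hudef⟩ : ∃ u, u = c.torus t * hd := ⟨_, rfl⟩
  have hu : u ∈ D.diagonalSubgroup L := hudef ▸ mul_mem (c.torus_mem t) (hhd ▸ hfd _ hgε)
  refine ⟨(c.np L p₁)⁻¹ * u * c.np L p₁, ?_, ?_⟩
  · have := c.N_conj_H (inv_mem (c.nw_mem_N (F := L) (L := [p₁]) (by simpa using h₁))) hu
    simpa [Cert.nw_cons, Cert.nw_nil] using this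
  · rw [← hσ, map_mul, _root_.mul_inv_rev, hσa, c.nw_append, Cert.nw_cons, Cert.nw_nil, mul_one]
    calc k * Ψ (a₃ * a₂ * a₁) * k⁻¹ * σ g * (g⁻¹ * (a₃ * a₂ * a₁)⁻¹)
        = k * Ψ (a₃ * a₂ * a₁) * k⁻¹ * (σ g * g⁻¹) * (a₃ * a₂ * a₁)⁻¹ := by group
      _ = k * (Ψ (a₃ * a₂ * a₁) * (a₃ * a₂ * a₁)⁻¹) := by rw [hk]; group
      _ = _ := by rw [key, hkdef, hudef]; group

end CertFull

end Cfsg.Agent.Lie.Chev
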