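import Cfsg.Agent.Lib.Lie.Chev.SteinbergCentre
import Cfsg.Agent.Lib.Lie.Chev.CycTori

/-! Maps between Steinberg groups: along field homomorphisms and embeddings of root systems.
The fixed points of a field automorphism in a simply connected group. -/

set_option autoImplicit false

namespace Cfsg.Agent.Lie.Chev

open Cfsg.Lie

/-- A map of roots respecting negation and the structure constants. -/
structure RootEmb {D E : ChevalleyDatum} (c : CertFull D) (d : CertFull E) (io : ℕ → ℕ) : Prop where
  lt : ∀ r < D.nroots, io r < E.nroots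
  neg : ∀ r < D.nroots, io (D.neg r) = E.neg (io r)
  comm : ∀ r < D.nroots, ∀ s < D.nroots, s ≠ r → s ≠ D.neg r →
    io s ≠ io r ∧ io s ≠ E.neg (io r) ∧
      d.T.commTerms (io r) (io s) = (c.T.commTerms r s).map fun x => (io x.1, x.2)
  rank_le : D.rank ≤ E.rank
  simple : ∀ i < D.rank, io (D.simple i) = E.simple i

theorem rootEmb_id {D : ChevalleyDatum} (c : CertFull D) : RootEmb c c id where
  lt _ h := h
  neg _ _ := rfl
  comm r _ s _ h1 h2 := ⟨h1, h2, (List.map_id _).symm⟩
  rank_le := le_rfl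
  simple _ _ := rfl

theorem rootEmb_of_check {D E : ChevalleyDatum} (c : CertFull D) (d : CertFull E) {io : List ℕ}
    (hchk : c.T.checkEmb d.T io = true) : RootEmb c d (fun r => io.getD r 0) := by
  simp only [Tables.checkEmb, List.all_eq_true, List.mem_range, Bool.and_eq_true, Bool.or_eq_true,
    Nat.beq_eq, Nat.ble_eq, Nat.blt_eq, Bool.not_eq_true'] at hchk
  obtain ⟨⟨hl, hsimple⟩, hroot⟩ := hchk
  have hrk : D.rank ≤ E.rank := by rw [c.rank_eq, d.rank_eq]; exact hl
  refine ⟨fun r hr => ?_, fun r hr => ?_, fun r hr s hs h1 h2 => ?_, hrk, fun i hi => ?_⟩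
  · rw [d.nroots_eq]
    exact (hroot r (c.nroots_eq ▸ hr)).1.1
  · obtain ⟨⟨ha, hn⟩, -⟩ := hroot r (c.nroots_eq ▸ hr)
    rw [← d.nroots_eq] at ha
    show io.getD (D.neg r) 0 = E.neg (io.getD r 0)
    rw [c.neg_eq hr, d.neg_eq ha, hn]
  · obtain ⟨⟨ha, -⟩, hpair⟩ := hroot r (c.nroots_eq ▸ hr)
    rw [← d.nroots_eq] at ha
    have hh := hpair s (c.nroots_eq ▸ hs)
    rw [← c.neg_eq hr, ← d.neg_eq ha] at hh
    obtain ⟨⟨b1, b2⟩, b3⟩ := hh.resolve_left (by rintro (e | e); exacts [h1 e, h2 e])
    exact ⟨Nat.ne_of_beq_eq_false b1, Nat.ne_of_beq_eq_false b2, termsBeq_iff b3⟩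
  · show io.getD (D.simple i) 0 = E.simple i
    rw [c.simple_eq hi, d.simple_eq (by omega), hsimple i (c.rank_eq ▸ hi)]

/-- The homomorphism of Steinberg groups along an embedding and a field homomorphism. -/
theorem exists_stMap {D E : ChevalleyDatum} {c : CertFull D} {d : CertFull E} {io : ℕ → ℕ}
    (he : RootEmb c d io) {F L : Type*} [Field F] [Field L] (φ : F →+* L) :
    ∃ m : D.SteinbergGroup F →* E.SteinbergGroup L, ∀ r < D.nroots, ∀ t : F,
      m ((c.stGroupData F).X r t) = (d.stGroupData L).X (io r) (φ t) := by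
  let v : Fin D.nroots × F → E.SteinbergGroup L := fun x => (d.stGroupData L).X (io x.1) (φ x.2)
  have hX : ∀ r < D.nroots, ∀ t : F,
      FreeGroup.lift v (D.stX r t) = (d.stGroupData L).X (io r) (φ t) := by
    intro r hr t
    rw [ChevalleyDatum.stX, dif_pos hr, FreeGroup.lift_apply_of]
  have hH : ∀ r < D.nroots, ∀ t : F,
      FreeGroup.lift v (D.stH r t) = (d.stGroupData L).h (io r) (φ t) := by
    intro r hr t
    rw [ChevalleyDatum.stH, ChevalleyDatum.stWord, ChevalleyDatum.hWord, ChevalleyDatum.nWord,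
      ChevalleyDatum.nWord]
    simp only [List.cons_append, List.nil_append, List.map_cons, List.map_nil, List.prod_cons,
      List.prod_nil, map_mul, map_one, mul_one, hX r hr, hX _ (c.neg_lt hr), he.neg r hr,
      StData.h, StData.n, map_neg, map_inv₀, mul_assoc]
  have hval : ∀ g ∈ D.steinbergRels F, FreeGroup.lift v g = 1 := by
    rintro g ((⟨r, t, u, hr, rfl⟩ | ⟨r, s, t, u, hr, hs, e1, e2, rfl⟩) |
      ⟨r, t, u, hr, ht, hu, rfl⟩)
    · simp only [map_mul, map_inv, hX r hr, map_add]
      rw [(d.stGroupData L).add _ (he.lt r hr), mul_inv_cancel]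
    · obtain ⟨b1, b2, b3⟩ := he.comm r hr s hs e1 e2
      have hw : FreeGroup.lift v (D.stWord (D.commWord F r s t u)) =
          ((d.T.commTerms (io r) (io s)).map fun x => (d.stGroupData L).X x.1
            ((x.2.1 : L) * (-φ t) ^ x.2.2.1 * φ u ^ x.2.2.2)).prod := by
        rw [b3, ChevalleyDatum.stWord, ChevalleyDatum.commWord, c.commTerms_eq hr hs,
          map_list_prod, List.map_map, List.map_map, List.map_map]
        exact congrArg List.prod (List.map_congr_left fun x hx => by
          refine (hX _ (c.mem_commTerms hr hs hx).1 _).trans ?_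
          simp only [Function.comp_apply, map_mul, map_pow, map_neg, map_intCast])
      simp only [map_mul, map_inv, hX r hr, hX s hs, hw]
      rw [mul_inv_eq_one]
      have h := (d.stGroupData L).comm _ (he.lt r hr) _ (he.lt s hs) b1 b2 (φ t) (φ u)
      rw [mul_assoc _ ((d.stGroupData L).X (io s) (φ u)), h]
      group
    · simp only [map_mul, map_inv, hH r hr, d.stGroup_h]
      rw [← map_inv, ← map_mul, ← map_mul]
      exact PresentedGroup.one_of_mem
        (Or.inr ⟨io r, φ t, φ u, he.lt r hr, (map_ne_zero φ).2 ht, (map_ne_zero φ).2 hu, rfl⟩)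
  refine ⟨PresentedGroup.toGroup hval, fun r hr t => ?_⟩
  exact hX r hr t

section Emb

variable {D E : ChevalleyDatum} {c : CertFull D} {d : CertFull E} {io : ℕ → ℕ}
  (he : RootEmb c d io) {F L : Type*} [Field F] [Field L] {φ : F →+* L}
  {m : D.SteinbergGroup F →* E.SteinbergGroup L}
  (hm : ∀ r < D.nroots, ∀ t : F,
    m ((c.stGroupData F).X r t) = (d.stGroupData L).X (io r) (φ t))

include he hm

theorem stMap_h {i : ℕ} (hi : i < D.rank) (t : F) :
    m ((c.stGroupData F).h (D.simple i) t) = (d.stGroupData L).h (E.simple i) (φ t) := by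
  have hr := c.simple_lt hi
  simp only [StData.h, StData.n, map_mul, hm _ hr, hm _ (c.neg_lt hr), he.neg _ hr,
    he.simple i hi, map_neg, map_inv₀, map_one]

theorem stMap_nw {W : List ℕ} (hW : ∀ p ∈ W, p < D.rank) :
    m ((c.stGroupData F).nw W) = (d.stGroupData L).nw W := by
  induction W with
  | nil => simp
  | cons p W ih =>
    have hp : p < D.rank := hW p (by simp)
    have hr := c.simple_lt hp
    rw [StData.nw_cons, StData.nw_cons, map_mul, ih fun q hq => hW q (by simp [hq])]
    simp only [StData.np, StData.n, map_mul, hm _ hr, hm _ (c.neg_lt hr), he.neg _ hr,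
      he.simple p hp, map_neg, map_inv₀, map_one]

end Emb

namespace CertFull

variable {D : ChevalleyDatum} (c : CertFull D) {F L : Type*} [Field F] [Field L]
include c

theorem θ_stMap {φ : F →+* L} {m : D.SteinbergGroup F →* D.SteinbergGroup L}
    (hm : ∀ r < D.nroots, ∀ t : F,
      m ((c.stGroupData F).X r t) = (c.stGroupData L).X r (φ t)) (y : D.SteinbergGroup F) :
    (c.stGroupData L).θ (m y) = Matrix.GeneralLinearGroup.map φ ((c.stGroupData F).θ y) := by
  refine DFunLike.congr_fun (f := (c.stGroupData L).θ.comp m)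
    (g := (Matrix.GeneralLinearGroup.map φ).comp (c.stGroupData F).θ) ?_ y
  refine MonoidHom.eq_of_eqOn_dense (c.stGroupData F).gen ?_
  rintro x ⟨r, hr, t, rfl⟩
  simp only [MonoidHom.comp_apply, hm r hr, (c.stGroupData F).θX r hr,
    (c.stGroupData L).θX r hr, c.xg_mapHom]

end CertFull

end Cfsg.Agent.Lie.Chev
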