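import Cfsg.Agent.Lib.Lie.Chev.SubfieldTools

/-! Subfield data of `B₂`: the coordinates at the short roots of grade one lie in the subfield. -/

set_option autoImplicit false
set_option maxRecDepth 20000
set_option synthInstance.maxSize 1024

namespace Cfsg.Agent.Lie.Chev.B2Sub

open Cfsg.Lie Matrix Cfsg.Agent.Grp.SL2

local notation "X" => Cert.xg certFullB2.toCert

variable {K : Type*} [Field K]

theorem terms_ok :
    certFullB2.T.commTerms 2 7 = [(6, 1, 1, 1), (4, -1, 2, 1)] ∧
    certFullB2.T.commTerms 5 4 = [(6, -1, 1, 1), (7, -1, 2, 1)] ∧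
    certFullB2.T.commTerms 4 5 = [(6, 1, 1, 1), (7, -1, 1, 2)] ∧
    certFullB2.T.commTerms 5 6 = [(7, 2, 1, 1)] ∧ certFullB2.T.commTerms 2 6 = [(4, -2, 1, 1)] ∧
    certFullB2.T.commTerms 0 6 = [(2, -1, 1, 1), (4, 1, 1, 2)] ∧
    certFullB2.T.commTerms 7 2 = [(6, -1, 1, 1), (4, -1, 1, 2)] ∧
    ([(4, 6), (4, 2), (4, 7), (6, 7), (5, 7), (0, 2), (0, 4), (7, 4), (2, 0)].all fun p =>
      (certFullB2.T.commTerms p.1 p.2).isEmpty) = true ∧
    certFullB2.T.checkGrade 0 = true ∧ certFullB2.T.checkCoord 0 = true ∧ certFullB2.T.checkDoublet 6 2 (-1) = true ∧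
    certFullB2.T.checkSwap 0 [1] = true ∧ certFullB2.T.entry 5 0 = [(1, -1), (3, -1)] ∧
    certFullB2.T.entry 6 0 = [(2, 1), (4, 1)] ∧
    ([(2, 4), (6, 4), (7, 4), (0, 4), (4, 6), (4, 2)].all fun p =>
      (certFullB2.T.entry p.1 p.2).isEmpty) = true ∧
    certFullB2.T.entry 6 2 = [(4, 2)] ∧ certFullB2.T.entry 2 6 = [(4, -2)] ∧
    certFullB2.T.pairing 7 4 = 0 ∧ certFullB2.T.pairing 7 6 = 1 ∧ certFullB2.T.pairing 7 7 = 2 ∧ certFullB2.T.n = 8 := by
  decide +kernel

theorem lt_eight {r : ℕ} (h : r < 8) : r < chevB2.nroots := by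
  rw [certFullB2.nroots_eq, terms_ok.2.2.2.2.2.2.2.2.2.2.2.2.2.2.2.2.2.2.2.2]; exact h

theorem neg_val {r : ℕ} : certFullB2.T.neg r = 7 - r := by
  rw [Tables.neg, terms_ok.2.2.2.2.2.2.2.2.2.2.2.2.2.2.2.2.2.2.2.2]

theorem top_val : certFullB2.top = 7 := by
  rw [CertFull.top, terms_ok.2.2.2.2.2.2.2.2.2.2.2.2.2.2.2.2.2.2.2.2]

theorem commute_pair {r s : ℕ} (h : (r, s) ∈ [(4, 6), (4, 2), (4, 7), (6, 7), (5, 7), (0, 2),
    (0, 4), (7, 4), (2, 0)]) (t u : K) : Commute (X r t) (X s u) := by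
  have he := terms_ok.2.2.2.2.2.2.2.1
  simp only [List.all_eq_true, List.isEmpty_iff] at he
  have h0 := he _ h
  simp only [List.mem_cons, List.not_mem_nil, or_false, Prod.mk.injEq] at h
  refine certFullB2.xg_commute (lt_eight (by omega)) (lt_eight (by omega)) (by omega) ?_ h0 t u
  rw [certFullB2.neg_eq (lt_eight (by omega)), neg_val]
  omega

theorem c27 (a u : K) :
    X 2 a * X 7 u * (X 2 a)⁻¹ = X 7 u * (X 6 (a * u) * X 4 (-(a ^ 2 * u))) := by
  rw [certFullB2.conj_terms (lt_eight (by omega)) (lt_eight (by omega)) (by omega)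
    (by rw [neg_val]; omega), terms_ok.1]
  simp

theorem c54 (a u : K) :
    X 5 a * X 4 u * (X 5 a)⁻¹ = X 4 u * (X 6 (-(a * u)) * X 7 (-(a ^ 2 * u))) := by
  rw [certFullB2.conj_terms (lt_eight (by omega)) (lt_eight (by omega)) (by omega)
    (by rw [neg_val]; omega), terms_ok.2.1]
  simp

theorem c45 (a u : K) :
    X 4 a * X 5 u * (X 4 a)⁻¹ = X 5 u * (X 6 (a * u) * X 7 (-(a * u ^ 2))) := by
  rw [certFullB2.conj_terms (lt_eight (by omega)) (lt_eight (by omega)) (by omega)
    (by rw [neg_val]; omega), terms_ok.2.2.1]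
  simp

theorem c56 (a u : K) : X 5 a * X 6 u * (X 5 a)⁻¹ = X 6 u * X 7 (2 * a * u) := by
  rw [certFullB2.conj_terms (lt_eight (by omega)) (lt_eight (by omega)) (by omega)
    (by rw [neg_val]; omega), terms_ok.2.2.2.1]
  simp

theorem c26 (a u : K) : X 2 a * X 6 u * (X 2 a)⁻¹ = X 6 u * X 4 (-(2 * a * u)) := by
  rw [certFullB2.conj_terms (lt_eight (by omega)) (lt_eight (by omega)) (by omega)
    (by rw [neg_val]; omega), terms_ok.2.2.2.2.1]
  simp

theorem c06 (a u : K) :
    X 0 a * X 6 u * (X 0 a)⁻¹ = X 6 u * (X 2 (-(a * u)) * X 4 (a * u ^ 2)) := by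
  rw [certFullB2.conj_terms (lt_eight (by omega)) (lt_eight (by omega)) (by omega)
    (by rw [neg_val]; omega), terms_ok.2.2.2.2.2.1]
  simp

theorem c72 (a u : K) :
    X 7 a * X 2 u * (X 7 a)⁻¹ = X 2 u * (X 6 (-(a * u)) * X 4 (-(a * u ^ 2))) := by
  rw [certFullB2.conj_terms (lt_eight (by omega)) (lt_eight (by omega)) (by omega)
    (by rw [neg_val]; omega), terms_ok.2.2.2.2.2.2.1]
  simp

/-- An element of the unipotent group of the three roots orthogonal or next to `b`. -/
def tri (l f s : K) : GL chevB2.Idx K := X 4 l * X 6 f * X 7 s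

theorem tri_mul (l f s l' f' s' : K) :
    tri l f s * tri l' f' s' = tri (l + l') (f + f') (s + s') := by
  have h1 := (commute_pair (r := 4) (s := 6) (by simp) l' f).eq
  have h2 := (commute_pair (r := 4) (s := 7) (by simp) l' s).eq
  have h3 := (commute_pair (r := 6) (s := 7) (by simp) f' s).eq
  simp only [tri]
  calc X 4 l * X 6 f * X 7 s * (X 4 l' * X 6 f' * X 7 s')
      = X 4 l * X 6 f * (X 7 s * X 4 l') * X 6 f' * X 7 s' := by group
    _ = X 4 l * (X 6 f * X 4 l') * (X 7 s * X 6 f') * X 7 s' := by rw [← h2]; group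
    _ = (X 4 l * X 4 l') * (X 6 f * X 6 f') * (X 7 s * X 7 s') := by rw [← h1, ← h3]; group
    _ = _ := by rw [← Cert.xg_add, ← Cert.xg_add, ← Cert.xg_add]

theorem tri_four (l : K) : X 4 l = tri l 0 0 := by simp [tri, Cert.xg_zero]

theorem tri_six (f : K) : X 6 f = tri 0 f 0 := by simp [tri, Cert.xg_zero]

theorem tri_seven (s : K) : X 7 s = tri 0 0 s := by simp [tri, Cert.xg_zero]

theorem tri_inv (l f s : K) : (tri l f s)⁻¹ = tri (-l) (-f) (-s) :=
  inv_eq_of_mul_eq_one_right (by
    rw [tri_mul, add_neg_cancel, add_neg_cancel, add_neg_cancel]; simp [tri, Cert.xg_zero])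

theorem five_tri (a l f s : K) : X 5 a * tri l f s * (X 5 a)⁻¹ =
    tri l (f - a * l) (s + 2 * a * f - a ^ 2 * l) := by
  have h7 : X 5 a * X 7 s * (X 5 a)⁻¹ = X 7 s := by
    rw [(commute_pair (by simp) a s).eq, mul_inv_cancel_right]
  rw [tri, show X 5 a * (X 4 l * X 6 f * X 7 s) * (X 5 a)⁻¹ = (X 5 a * X 4 l * (X 5 a)⁻¹) *
    (X 5 a * X 6 f * (X 5 a)⁻¹) * (X 5 a * X 7 s * (X 5 a)⁻¹) by group, c54, c56, h7]
  simp only [tri_four, tri_six, tri_seven, tri_mul]
  congr 1 <;> ring

theorem two_tri (a l f s : K) : X 2 a * tri l f s * (X 2 a)⁻¹ =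
    tri (l - 2 * a * f - a ^ 2 * s) (f + a * s) s := by
  have h4 : X 2 a * X 4 l * (X 2 a)⁻¹ = X 4 l := by
    rw [(commute_pair (by simp) l a).symm.eq, mul_inv_cancel_right]
  rw [tri, show X 2 a * (X 4 l * X 6 f * X 7 s) * (X 2 a)⁻¹ = (X 2 a * X 4 l * (X 2 a)⁻¹) *
    (X 2 a * X 6 f * (X 2 a)⁻¹) * (X 2 a * X 7 s * (X 2 a)⁻¹) by group, h4, c26, c27]
  simp only [tri_four, tri_six, tri_seven, tri_mul]
  congr 1 <;> ring

variable {φ : K →+* K} {H : Subgroup (GL chevB2.Idx K)}

/-- Elements of the three-root group in the group lie in the subfield group. -/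
theorem tri_fixed (hO : Over certFullB2 φ H) {l f s : K} (h : tri l f s ∈ H) :
    φ l = l ∧ φ f = f ∧ φ s = s := by
  have h2t : φ (2 : K) = 2 := map_ofNat φ 2
  have hroot : ∀ r < 8, ∀ t, φ t = t → X r t ∈ H := fun r hr => hO.root r (lt_eight hr)
  have hlong : ∀ u, X 7 u ∈ H → φ u = u := fun u hu => hO.long u (by rw [top_val]; exact hu)
  have hcomm5 : ∀ {l f s : K}, tri l f s ∈ H → tri 0 (-l) (2 * f - l) ∈ H := by
    intro l f s h
    have hx := hroot 5 (by omega) 1 (map_one φ)
    have h1 := mul_mem (inv_mem h) (mul_mem (mul_mem hx h) (inv_mem hx))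
    rw [five_tri, tri_inv, tri_mul] at h1
    convert h1 using 2 <;> ring
  have hstep : ∀ {l f s : K}, tri l f s ∈ H → φ l = l → φ f = f → φ s = s := by
    intro l f s h hl hf
    refine hlong s ?_
    have := mul_mem (inv_mem (mul_mem (hroot 4 (by omega) l hl) (hroot 6 (by omega) f hf))) h
    rwa [tri, inv_mul_cancel_left] at this
  have key : φ l = l ∧ φ f = f := by
    by_cases h2 : (2 : K) = 0
    swap
    · have h1 := hcomm5 h
      have h3 := hcomm5 h1
      rw [neg_zero, sub_zero, ← tri_seven] at h3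
      have hl : φ l = l := by
        have := hlong _ h3
        rw [map_mul, map_neg, h2t] at this
        exact neg_injective (mul_left_cancel₀ h2 this)
      have h4 := hstep h1 (map_zero φ) (by rw [map_neg, hl])
      rw [map_sub, map_mul, h2t, hl] at h4
      exact ⟨hl, mul_left_cancel₀ h2 (sub_left_inj.1 h4)⟩
    have hneg : ∀ x : K, -x = x := fun x => by linear_combination -x * h2
    have hsq : ∀ {x : K}, φ (x ^ 2) = x ^ 2 → φ x = x := fun {x} hx => by
      rw [map_pow] at hx
      have : (φ x - x) ^ 2 = 0 := by linear_combination hx - (φ x * x - x ^ 2) * h2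
      exact sub_eq_zero.1 (pow_eq_zero_iff two_ne_zero |>.1 this)
    have hσ : ∀ L r, (certFullB2.wsign L r : K) = 1 := fun L r => by
      rcases mul_self_eq_one_iff.1 (certFullB2.wsign_sq (F := K) L r) with e | e <;> rw [e]
      exact hneg 1
    have hnw : ∀ p < 2, ∀ x ∈ H,
        certFullB2.nw K [p] * x * (certFullB2.nw K [p])⁻¹ ∈ H := by
      intro p hp x hx
      have hn : certFullB2.nw K [p] ∈ H := by
        have hle : fixedRootGroup chevB2 φ ≤ H := (Subgroup.closure_le _).2 fun g ⟨s, t, ht, hg⟩ => by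
          obtain rfl := certFullB2.eq_xg_iff.1 hg
          by_cases hs : s < chevB2.nroots
          · exact hO.root s hs t ht
          · have e : X s t = 1 := Units.ext (by simp [ChevalleyDatum.x, hs])
            rw [e]; exact one_mem _
        exact hle (certFullB2.nw_mem_fixed φ [p])
      exact mul_mem (mul_mem hn hx) (inv_mem hn)
    have hrank : ∀ p < 2, ∀ q ∈ [p], q < chevB2.rank := fun p hp q hq => by
      obtain rfl := List.mem_singleton.1 hq
      rw [certFullB2.rank_eq, show certFullB2.T.l = 2 by decide +kernel]; exact hp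
    have himg : ∀ p < 2, ∀ r < 8, ∀ u : K, certFullB2.nw K [p] * X r u * (certFullB2.nw K [p])⁻¹ =
        X (certFullB2.T.wlT [p] r) u := fun p hp r hr u => by
      rw [certFullB2.nw_mul_xg (hrank p hp) (lt_eight hr), mul_inv_cancel_right, hσ, one_mul,
        certFullB2.wlT_eq]
    have hw : certFullB2.T.wlT [1] 6 = 5 ∧ certFullB2.T.wlT [1] 7 = 7 ∧ certFullB2.T.wlT [0] 6 = 6 ∧
        certFullB2.T.wlT [0] 7 = 4 := by decide +kernel
    have hb : ∀ f s : K, tri 0 f s ∈ H → X 5 f * X 7 s ∈ H := fun f s h => by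
      have := hnw 1 (by omega) _ h
      rw [tri, Cert.xg_zero, one_mul, show ∀ n a b : GL chevB2.Idx K, n * (a * b) * n⁻¹ =
        (n * a * n⁻¹) * (n * b * n⁻¹) from fun n a b => by group, himg 1 (by omega) 6 (by omega),
        himg 1 (by omega) 7 (by omega), hw.1, hw.2.1] at this
      exact this
    have ha : ∀ f s : K, tri 0 f s ∈ H → tri s f 0 ∈ H := fun f s h => by
      have := hnw 0 (by omega) _ h
      rw [tri, Cert.xg_zero, one_mul, show ∀ n a b : GL chevB2.Idx K, n * (a * b) * n⁻¹ =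
        (n * a * n⁻¹) * (n * b * n⁻¹) from fun n a b => by group, himg 0 (by omega) 6 (by omega),
        himg 0 (by omega) 7 (by omega), hw.2.2.1, hw.2.2.2, tri_six, tri_four, tri_mul] at this
      convert this using 2 <;> simp
    have hP : ∀ l : K, tri 0 l l ∈ H → φ l = l := by
      intro l hP
      have hQ := hb l l hP
      have hR := ha l l hP
      have hc : ∀ e : K, X 4 e ∈ H → tri 0 (e * l) (-(e * l ^ 2)) ∈ H := fun e he => by
        have h1 := mul_mem (inv_mem hQ) (mul_mem (mul_mem he hQ) (inv_mem he))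
        convert h1 using 1
        rw [show ∀ a b d : GL chevB2.Idx K, (a * b)⁻¹ * (d * (a * b) * d⁻¹) =
          b⁻¹ * (a⁻¹ * (d * a * d⁻¹)) * (d * b * d⁻¹) from fun a b d => by group, c45,
          inv_mul_cancel_left, (commute_pair (by simp) e l).eq, mul_inv_cancel_right]
        simp only [tri_four, tri_six, tri_seven, tri_mul, tri_inv]
        congr 1 <;> ring
      have h1 := hc 1 (hroot 4 (by omega) 1 (map_one φ))
      set δ : K := l ^ 2 - l
      have hδ : φ δ = δ := by
        refine hlong δ ?_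
        have := mul_mem (inv_mem hP) h1
        rw [tri_inv, tri_mul] at this
        convert this using 1
        rw [tri_seven]
        congr 1
        · ring
        · ring
        · linear_combination l ^ 2 * h2
      -- conjugating by the image under the reflection in `a`
      have h3 : tri 0 (l ^ 2) (-(l ^ 3)) ∈ H := by
        have h1 := mul_mem (inv_mem hQ) (mul_mem (mul_mem hR hQ) (inv_mem hR))
        convert h1 using 1
        have hc6 : X 6 l * (X 5 l * X 7 l) * (X 6 l)⁻¹ = X 5 l * X 7 l := by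
          have e56 : Commute (X 6 l) (X 5 l) := by
            have := c56 l l
            rw [show (2 : K) * l * l = 0 by rw [h2]; ring, Cert.xg_zero, mul_one,
              mul_inv_eq_iff_eq_mul] at this
            exact this.symm
          rw [(e56.mul_right (commute_pair (by simp) l l)).eq, mul_inv_cancel_right]
        rw [show tri l l 0 = X 4 l * X 6 l by simp [tri, Cert.xg_zero],
          show ∀ a b d e : GL chevB2.Idx K, (a * b)⁻¹ * (d * e * (a * b) * (d * e)⁻¹) =
          (a * b)⁻¹ * (d * (e * (a * b) * e⁻¹) * d⁻¹) from fun a b d e => by group, hc6,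
          show ∀ a b d : GL chevB2.Idx K, (a * b)⁻¹ * (d * (a * b) * d⁻¹) =
          b⁻¹ * (a⁻¹ * (d * a * d⁻¹)) * (d * b * d⁻¹) from fun a b d => by group, c45,
          inv_mul_cancel_left, (commute_pair (by simp) l l).eq, mul_inv_cancel_right]
        simp only [tri_four, tri_six, tri_seven, tri_mul, tri_inv]
        congr 1 <;> ring
      have h4 : φ (δ + δ * l) = δ + δ * l := by
        refine hlong _ ?_
        have := mul_mem (inv_mem (mul_mem (hroot 6 (by omega) δ hδ) hP)) h3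
        rw [tri_six, tri_mul, tri_inv, tri_mul] at this
        convert this using 1
        rw [tri_seven]
        congr 1
        · ring
        · simp only [δ]; ring
        · simp only [δ]; linear_combination l ^ 3 * h2
      rw [map_add, map_mul, hδ, add_right_inj] at h4
      rcases eq_or_ne δ 0 with h0 | h0
      · have : l * (l - 1) = 0 := by simp only [δ] at h0; linear_combination h0
        rcases mul_eq_zero.1 this with e | e
        · rw [e, map_zero]
        · rw [sub_eq_zero.1 e, map_one]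
      · exact mul_left_cancel₀ h0 h4
    have h1 := hcomm5 h
    rw [hneg, show 2 * f - l = l by linear_combination (f - l) * h2] at h1
    have hl := hP l h1
    have h6 : tri 0 f s ∈ H := by
      have := mul_mem (inv_mem (hroot 4 (by omega) l hl)) h
      rw [tri_four, tri_inv, tri_mul] at this
      convert this using 2 <;> ring
    have hs : φ s = s := by
      have := hcomm5 (ha f s h6)
      rw [hneg, show 2 * f - s = s by linear_combination (f - s) * h2] at this
      exact hP s this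
    refine ⟨hl, hsq ?_⟩
    have h7 : X 6 f ∈ H := by
      have := mul_mem h6 (inv_mem (hroot 7 (by omega) s hs))
      rw [tri_seven, tri_inv, tri_mul] at this
      rw [tri_six]
      convert this using 2 <;> ring
    have h8 : X 5 f ∈ H := by simpa [Cert.xg_zero] using hb f 0 (tri_six f ▸ h7)
    have h9 := mul_mem (inv_mem h8) (mul_mem (mul_mem (hroot 4 (by omega) 1 (map_one φ)) h8)
      (inv_mem (hroot 4 (by omega) 1 (map_one φ))))
    rw [c45, inv_mul_cancel_left, one_mul, one_mul] at h9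
    have := hlong _ (((H.mul_mem_cancel_left h7).1 h9))
    rwa [map_neg, neg_inj] at this
  exact ⟨key.1, key.2, hstep h key.1 key.2⟩

/-- The roots normalised by the pairs. -/
def RR (K : Type*) [Field K] : Subgroup (GL chevB2.Idx K) :=
  certFullB2.rootsGroup K [4, 6, 2]

theorem RR_form {r : GL chevB2.Idx K} (hr : r ∈ RR K) :
    ∃ b d a : K, r = X 4 b * X 6 d * X 2 a := by
  induction hr using Subgroup.closure_induction_left with
  | one => exact ⟨0, 0, 0, by simp [Cert.xg_zero]⟩
  | mul_left x hx y _ hy =>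
    obtain ⟨s, hs, u, rfl⟩ := hx
    obtain ⟨b, d, a, rfl⟩ := hy
    simp only [List.mem_cons, List.not_mem_nil, or_false] at hs
    rcases hs with rfl | rfl | rfl
    · exact ⟨u + b, d, a, by rw [Cert.xg_add]; group⟩
    · refine ⟨b, u + d, a, ?_⟩
      rw [← mul_assoc, ← mul_assoc, ← (commute_pair (by simp) b u).eq, Cert.xg_add]
      group
    · refine ⟨b + -(2 * u * d), d, u + a, ?_⟩
      have h := c26 u d
      rw [mul_inv_eq_iff_eq_mul] at h
      rw [show X 2 u * (X 4 b * X 6 d * X 2 a) = (X 2 u * X 4 b) * X 6 d * X 2 a by group,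
        (commute_pair (by simp) b u).symm.eq,
        show X 4 b * X 2 u * X 6 d * X 2 a = X 4 b * (X 2 u * X 6 d) * X 2 a by group, h,
        (commute_pair (r := 4) (s := 6) (by simp) _ d).symm.eq, Cert.xg_add, Cert.xg_add]
      group
  | inv_mul_cancel x hx y _ hy =>
    obtain ⟨s, hs, u, rfl⟩ := hx
    obtain ⟨b, d, a, rfl⟩ := hy
    rw [Cert.xg_inv]
    simp only [List.mem_cons, List.not_mem_nil, or_false] at hs
    rcases hs with rfl | rfl | rfl
    · exact ⟨-u + b, d, a, by rw [Cert.xg_add]; group⟩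
    · refine ⟨b, -u + d, a, ?_⟩
      rw [← mul_assoc, ← mul_assoc, ← (commute_pair (by simp) b (-u)).eq, Cert.xg_add]
      group
    · refine ⟨b + -(2 * -u * d), d, -u + a, ?_⟩
      have h := c26 (-u) d
      rw [mul_inv_eq_iff_eq_mul] at h
      rw [show X 2 (-u) * (X 4 b * X 6 d * X 2 a) = (X 2 (-u) * X 4 b) * X 6 d * X 2 a by group,
        (commute_pair (by simp) b (-u)).symm.eq,
        show X 4 b * X 2 (-u) * X 6 d * X 2 a = X 4 b * (X 2 (-u) * X 6 d) * X 2 a by group, h,
        (commute_pair (r := 4) (s := 6) (by simp) _ d).symm.eq, Cert.xg_add (t := b),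
        Cert.xg_add]
      group

theorem norm_ok : certFullB2.T.checkNorm 7 [4, 6, 2] = true ∧ certFullB2.T.checkNorm 0 [4, 6, 2] = true := by
  decide +kernel

theorem RR_conj {P : GL chevB2.Idx K × Matrix.SpecialLinearGroup (Fin 2) K}
    (hP : P ∈ certFullB2.rootPairs K) : ∀ r ∈ RR K, P.1 * r * P.1⁻¹ ∈ RR K := by
  induction hP using Subgroup.closure_induction'' with
  | mem P hP =>
    rcases hP with ⟨s, rfl⟩ | ⟨s, rfl⟩
    · rw [top_val]; exact fun r hr => certFullB2.norm_rootsGroup norm_ok.1 s hr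
    · exact fun r hr => certFullB2.norm_rootsGroup norm_ok.2 s hr
  | inv_mem P hP =>
    rcases hP with ⟨s, rfl⟩ | ⟨s, rfl⟩
    · rw [Prod.fst_inv, Cert.xg_inv, top_val]
      exact fun r hr => certFullB2.norm_rootsGroup norm_ok.1 (-s) hr
    · rw [Prod.fst_inv, Cert.xg_inv]
      exact fun r hr => certFullB2.norm_rootsGroup norm_ok.2 (-s) hr
  | one => exact fun r hr => by simpa using hr
  | mul P Q _ _ hP hQ =>
    intro r hr
    have := hP _ (hQ r hr)
    simpa [mul_assoc] using this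

/-- Pairs multiplied by the normalised group. -/
noncomputable def lifts (K : Type*) [Field K] :
    Subgroup (GL chevB2.Idx K × Matrix.SpecialLinearGroup (Fin 2) K) where
  carrier := {P | ∃ r ∈ RR K, ∃ x, (x, P.2) ∈ certFullB2.rootPairs K ∧ P.1 = r * x}
  one_mem' := ⟨1, one_mem _, 1, one_mem _, by simp⟩
  mul_mem' := by
    rintro P Q ⟨r, hr, x, hx, hP⟩ ⟨r', hr', x', hx', hQ⟩
    refine ⟨r * (x * r' * x⁻¹), mul_mem hr (RR_conj hx r' hr'), x * x', mul_mem hx hx', ?_⟩
    rw [Prod.fst_mul, hP, hQ]; group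
  inv_mem' := by
    rintro P ⟨r, hr, x, hx, hP⟩
    show ∃ r ∈ RR K, ∃ y, (y, P.2⁻¹) ∈ certFullB2.rootPairs K ∧ P⁻¹.1 = r * y
    refine ⟨x⁻¹ * r⁻¹ * x, ?_, x⁻¹, inv_mem hx, ?_⟩
    · have := RR_conj (inv_mem hx) r⁻¹ (inv_mem hr)
      simpa using this
    · rw [Prod.fst_inv, hP]; group

/-- The fixed vectors. -/
def W (K : Type*) [Field K] : Submodule K (chevB2.Idx → K) :=
  Submodule.span K {evec chevB2 K 4}

theorem lifts_acts {P : GL chevB2.Idx K × Matrix.SpecialLinearGroup (Fin 2) K}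
    (hP : P ∈ lifts K) : certFullB2.Acts (W K) 6 2 (-1) P.1 P.2 := by
  obtain ⟨hT, he, h62, h26⟩ : certFullB2.T.checkDoublet 6 2 (-1) = true ∧
      ([(2, 4), (6, 4), (7, 4), (0, 4), (4, 6), (4, 2)].all fun p =>
        (certFullB2.T.entry p.1 p.2).isEmpty) = true ∧ certFullB2.T.entry 6 2 = [(4, 2)] ∧
        certFullB2.T.entry 2 6 = [(4, -2)] := by decide +kernel
  have hgr := terms_ok.2.2.2.2.2.2.2.2.1
  simp only [List.all_eq_true, List.isEmpty_iff] at he
  have hfix : ∀ r s, (r, s) ∈ [(2, 4), (6, 4), (7, 4), (0, 4), (4, 6), (4, 2)] → ∀ t : K,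
      chevB2.x K r t *ᵥ evec chevB2 K s = evec chevB2 K s := by
    intro r s h t
    have h0 := he _ h
    simp only [List.mem_cons, List.not_mem_nil, or_false, Prod.mk.injEq] at h
    rw [certFullB2.x_evec (lt_eight (by omega)) (lt_eight (by omega)) (by omega)
      (by rw [certFullB2.neg_eq (lt_eight (by omega)), neg_val]; omega), h0]
    simp [chainVec]
  have hW : ∀ r ∈ [7, 0, 4, 6, 2], ∀ w ∈ W K, ∀ t : K, chevB2.x K r t *ᵥ w = w := by
    intro r hr w hw t
    obtain ⟨q, rfl⟩ := Submodule.mem_span_singleton.1 hw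
    rw [Matrix.mulVec_smul]
    congr 1
    simp only [List.mem_cons, List.not_mem_nil, or_false] at hr
    rcases hr with rfl | rfl | rfl | rfl | rfl
    · exact hfix 7 4 (by simp) t
    · exact hfix 0 4 (by simp) t
    · exact certFullB2.x_evec_self (lt_eight (by omega)) t
    · exact hfix 6 4 (by simp) t
    · exact hfix 2 4 (by simp) t
  obtain ⟨r, hr, x, hx, hP⟩ := hP
  have hxA : certFullB2.Acts (W K) 6 2 (-1) x P.2 := by
    refine certFullB2.acts_closure (P := (x, P.2)) ?_ hx
    rintro Q (⟨s, rfl⟩ | ⟨s, rfl⟩)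
    · exact certFullB2.acts_top hgr hT (fun w hw s => by rw [top_val]; exact hW 7 (by simp) w hw s) s
    · exact certFullB2.acts_zero hgr hT (fun w hw s => hW 0 (by simp) w hw s) s
  have hrA : certFullB2.Acts (W K) 6 2 (-1) r 1 := by
    have key : ∀ Q : GL chevB2.Idx K × Matrix.SpecialLinearGroup (Fin 2) K,
        Q ∈ Subgroup.closure {Q : GL chevB2.Idx K × Matrix.SpecialLinearGroup (Fin 2) K |
          ∃ s ∈ [4, 6, 2], ∃ t : K, Q = (X s t, 1)} →
        certFullB2.Acts (W K) 6 2 (-1) Q.1 Q.2 := fun Q hQ => by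
      refine certFullB2.acts_closure ?_ hQ
      rintro Q ⟨s, hs, t, rfl⟩
      have hw4 : ∀ q : K, q • evec chevB2 K 4 ∈ W K := fun q =>
        Submodule.smul_mem _ _ (Submodule.mem_span_singleton_self _)
      refine ⟨fun w hw => ?_, ?_, ?_⟩
      · rw [Cert.xg_val]; exact hW s (by simp only [List.mem_cons] at hs ⊢; tauto) w hw t
      all_goals
        simp only [List.mem_cons, List.not_mem_nil, or_false] at hs
        rw [Cert.xg_val]
        rcases hs with rfl | rfl | rfl
      · rw [Matrix.mulVec_smul, hfix 4 6 (by simp) t]; simp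
      · rw [Matrix.mulVec_smul, certFullB2.x_evec_self (lt_eight (by omega)) t]; simp
      · rw [Matrix.mulVec_smul, certFullB2.x_evec (lt_eight (by omega)) (lt_eight (by omega))
          (by omega) (by rw [certFullB2.neg_eq (lt_eight (by omega)), neg_val]; omega), h26]
        have := hw4 (2 * t)
        convert this using 1
        simp [chainVec]
        try module
      · rw [hfix 4 2 (by simp) t]; simp
      · rw [certFullB2.x_evec (lt_eight (by omega)) (lt_eight (by omega))
          (by omega) (by rw [certFullB2.neg_eq (lt_eight (by omega)), neg_val]; omega), h62]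
        have := hw4 (2 * t)
        convert this using 1
        simp [chainVec]
        try module
      · rw [certFullB2.x_evec_self (lt_eight (by omega)) t]; simp
    refine key (r, 1) ?_
    have hmap : (r, (1 : Matrix.SpecialLinearGroup (Fin 2) K)) ∈
        (RR K).map (MonoidHom.inl _ _) := Subgroup.mem_map_of_mem _ hr
    rw [RR, CertFull.rootsGroup, MonoidHom.map_closure] at hmap
    refine Subgroup.closure_mono ?_ hmap
    rintro _ ⟨g, ⟨s, hs, t, rfl⟩, rfl⟩
    exact ⟨s, hs, t, rfl⟩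
  rw [hP, ← one_mul P.2]
  exact certFullB2.acts_mul hrA hxA

variable (p : ℕ) [Fact p.Prime] [CharP K p]

include p in
/-- The parameter of the simple short root lies in the subfield. -/
theorem five_fixed (hO : Over certFullB2 φ H) {t e f k : K} (hk : k ≠ 0)
    (hy : (X 5 t * X 6 e * X 7 f) * X 0 k * (X 5 t * X 6 e * X 7 f)⁻¹ ∈ H) : φ t = t := by
  classical
  haveI := hO.fin
  obtain ⟨-, -, -, -, -, -, -, -, hgr, -, hd, -, -, -, -, -, -, hp4, hp6, hp7, -⟩ := terms_ok
  -- one step at a given parameter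
  have step : ∀ (t e f : K), (X 5 t * X 6 e * X 7 f) * X 0 k * (X 5 t * X 6 e * X 7 f)⁻¹ ∈ H →
      ∀ μ, φ μ ≠ μ → (∃ l g, tri l g μ ∈ H.comap (MulAut.conj (X 5 t * X 6 e * X 7 f)).toMonoidHom) →
      ∀ z, z ≠ 0 → (z = μ ∨ ∀ L : Subfield K, μ ∈ L → z ∈ L) →
      ∃ α : K, φ (α ^ 2 * z ^ 2) = α ^ 2 * z ^ 2 ∧
        φ (z ^ 2 * (1 + α * t) ^ 2) = z ^ 2 * (1 + α * t) ^ 2 ∧
        φ (1 - α ^ 2 * (z ^ 2 * -(t ^ 2)) - 2 * α * (z * t)) =
          1 - α ^ 2 * (z ^ 2 * -(t ^ 2)) - 2 * α * (z * t) ∧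
        φ (2 * α * z - 2 * t * (α * z) ^ 2) = 2 * α * z - 2 * t * (α * z) ^ 2 := by
    intro t e f hy μ hμ hμmem z hz hzL
    set v := X 5 t * X 6 e * X 7 f
    set Hc := H.comap (MulAut.conj v).toMonoidHom
    have hmem : ∀ x, x ∈ Hc ↔ v * x * v⁻¹ ∈ H := fun x => Iff.rfl
    have hvtri : ∀ l g s : K, v * tri l g s * v⁻¹ =
        tri l (g - t * l) (s + 2 * t * g - t ^ 2 * l) := by
      intro l g s
      have e1 : v = X 5 t * tri 0 e f := by simp [v, tri, Cert.xg_zero, mul_assoc]
      rw [e1, show ∀ a b d : GL chevB2.Idx K, a * b * d * (a * b)⁻¹ = a * (b * d * b⁻¹) * a⁻¹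
        from fun a b d => by group, tri_inv, tri_mul, tri_mul, five_tri]
      congr 1 <;> ring
    have hfact : ∀ l g s : K, tri l g s ∈ Hc → φ l = l ∧ φ (g - t * l) = g - t * l ∧
        φ (s + 2 * t * g - t ^ 2 * l) = s + 2 * t * g - t ^ 2 * l := fun l g s h => by
      rw [hmem, hvtri] at h
      exact tri_fixed hO h
    have hback : ∀ l g s : K, φ l = l → φ g = g → φ s = s →
        tri l (g + t * l) (s - 2 * t * g - t ^ 2 * l) ∈ Hc := fun l g s hl hg hs => by
      rw [hmem, hvtri, show g + t * l - t * l = g by ring,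
        show s - 2 * t * g - t ^ 2 * l + 2 * t * (g + t * l) - t ^ 2 * l = s by ring, tri]
      exact mul_mem (mul_mem (hO.root 4 (lt_eight (by omega)) l hl)
        (hO.root 6 (lt_eight (by omega)) g hg)) (hO.root 7 (lt_eight (by omega)) s hs)
    set J := lifts K ⊓ Hc.comap (MonoidHom.fst _ _)
    set DD := J.map (MonoidHom.snd _ _)
    haveI : Finite DD := by
      have hch : ∀ A : DD, ∃ x : H, ∃ P ∈ J, P.2 = A.1 ∧ v * P.1 * v⁻¹ = x.1 := fun A => by
        obtain ⟨P, hP, e⟩ := Subgroup.mem_map.1 A.2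
        exact ⟨⟨_, hP.2⟩, P, hP, e, rfl⟩
      choose F P hPJ hP2 hP1 using hch
      refine Finite.of_injective F fun A B h => Subtype.ext ?_
      have e : (P A).1 = (P B).1 :=
        mul_left_cancel (mul_right_cancel ((hP1 A).trans ((congrArg Subtype.val h).trans (hP1 B).symm)))
      rw [← hP2 A, ← hP2 B]
      refine certFullB2.acts_unique (lt_eight (by omega)) (lt_eight (by omega)) (by omega)
        (by simp) (fun w hw => ?_) (lifts_acts (hPJ A).1) (by rw [e]; exact lifts_acts (hPJ B).1)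
      obtain ⟨q, rfl⟩ := Submodule.mem_span_singleton.1 hw
      simp [evec]
    have hlift : ∀ (r : GL chevB2.Idx K), r ∈ RR K → ∀ s : K,
        r * X 7 s ∈ Hc → up s ∈ DD := fun r hr s h =>
      ⟨(r * X 7 s, up s), ⟨⟨r, hr, X 7 s, by
        have := certFullB2.pairs_top hgr s; rwa [top_val] at this, rfl⟩, h⟩, rfl⟩
    have h1 : up (1 : K) ∈ DD := hlift 1 (one_mem _) 1 (by
      rw [one_mul, tri_seven]
      simpa using hback 0 0 1 (map_zero φ) (map_zero φ) (map_one φ))
    have hμD : up μ ∈ DD := by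
      obtain ⟨l, g, h⟩ := hμmem
      exact hlift (X 4 l * X 6 g) (mul_mem (certFullB2.xg_rootsGroup (by simp) l)
        (certFullB2.xg_rootsGroup (by simp) g)) μ h
    have hlow : low k ∈ DD :=
      ⟨(X 0 k, low k), ⟨⟨1, one_mem _, X 0 k, certFullB2.pairs_zero hgr k, by simp⟩, hy⟩, rfl⟩
    obtain ⟨L, -, hLs, -, hLD⟩ := Cfsg.Agent.Grp.UpperLower.exists_subfield p DD hk h1 hμD
      (fun n e => hμ (by rw [e, map_natCast])) hlow
    have hzL' : z ∈ L := by
      rcases hzL with rfl | h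
      · exact hLs _ hμD
      · exact h L (hLs _ hμD)
    obtain ⟨P, ⟨⟨r, hr, x, hx, hP⟩, hH⟩, e⟩ := hLD (CertFull.dia z) fun i l => by
      rw [CertFull.dia_coe hz]; fin_cases i <;> fin_cases l <;> simp [hzL', L.inv_mem hzL']
    have he : P.2 = CertFull.dia z := e
    rw [he] at hx
    have hx' : x = certFullB2.hg 7 z := by
      have := (certFullB2.pairs_normal hgr hd hx).1 (by simp [CertFull.dia_coe hz])
      simpa [CertFull.dia_coe hz, Cert.xg_zero, top_val] using this
    have hdH : r * certFullB2.hg 7 z ∈ Hc := by rw [← hx', ← hP]; exact hH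
    obtain ⟨b, d, α, rfl⟩ := RR_form hr
    have hh7 : ∀ l g s : K, certFullB2.hg 7 z * tri l g s * (certFullB2.hg 7 z)⁻¹ =
        tri l (z * g) (z ^ 2 * s) := by
      intro l g s
      rw [tri, show ∀ h a b d : GL chevB2.Idx K, h * (a * b * d) * h⁻¹ =
        (h * a * h⁻¹) * (h * b * h⁻¹) * (h * d * h⁻¹) from fun h a b d => by group,
        certFullB2.hg_conj (lt_eight (by omega)) (lt_eight (by omega)) hz,
        certFullB2.hg_conj (lt_eight (by omega)) (lt_eight (by omega)) hz,
        certFullB2.hg_conj (lt_eight (by omega)) (lt_eight (by omega)) hz, hp4, hp6, hp7]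
      simp [tri, sq]
    have hd' : ∀ l g s : K, tri l g s ∈ Hc →
        tri (l - 2 * α * (z * g) - α ^ 2 * (z ^ 2 * s)) (z * g + α * (z ^ 2 * s)) (z ^ 2 * s) ∈
          Hc := by
      intro l g s h
      have h2 := mul_mem (mul_mem hdH h) (inv_mem hdH)
      convert h2 using 1
      rw [show X 4 b * X 6 d * X 2 α = tri b d 0 * X 2 α by simp [tri, Cert.xg_zero],
        show ∀ a b h q : GL chevB2.Idx K, a * b * h * q * (a * b * h)⁻¹ =
        a * (b * (h * q * h⁻¹) * b⁻¹) * a⁻¹ from fun a b h q => by group, hh7, two_tri,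
        tri_inv, tri_mul, tri_mul]
      congr 1 <;> ring
    obtain ⟨fA, -, fC⟩ := hfact _ _ _ (hd' _ _ _ (hback 0 0 1 (map_zero φ) (map_zero φ) (map_one φ)))
    obtain ⟨fZ, -, -⟩ := hfact _ _ _ (hd' _ _ _ (hback 1 0 0 (map_one φ) (map_zero φ) (map_zero φ)))
    obtain ⟨fY, -, -⟩ := hfact _ _ _ (hd' _ _ _ (hback 0 1 0 (map_zero φ) (map_one φ) (map_zero φ)))
    refine ⟨α, ?_, ?_, ?_, ?_⟩
    · have e : α ^ 2 * z ^ 2 =
          -(0 - 2 * α * (z * (0 + t * 0)) - α ^ 2 * (z ^ 2 * (1 - 2 * t * 0 - t ^ 2 * 0))) := by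
        ring
      rw [e, map_neg, fA]
    · convert fC using 1 <;> [congr 1; skip] <;> ring
    · convert fZ using 1 <;> [congr 1; skip] <;> ring
    · have e : 2 * α * z - 2 * t * (α * z) ^ 2 =
          -(0 - 2 * α * (z * (1 + t * 0)) - α ^ 2 * (z ^ 2 * (0 - 2 * t * 1 - t ^ 2 * 0))) := by
        ring
      rw [e, map_neg, fY]
  -- the vectors of the radical conjugate
  have htri : ∀ t e f l g s : K, (X 5 t * X 6 e * X 7 f) * tri l g s *
      (X 5 t * X 6 e * X 7 f)⁻¹ = tri l (g - t * l) (s + 2 * t * g - t ^ 2 * l) := by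
    intro t e f l g s
    rw [show X 5 t * X 6 e * X 7 f = X 5 t * tri 0 e f by simp [tri, Cert.xg_zero, mul_assoc],
      show ∀ a b d : GL chevB2.Idx K, a * b * d * (a * b)⁻¹ = a * (b * d * b⁻¹) * a⁻¹
      from fun a b d => by group, tri_inv, tri_mul, tri_mul, five_tri]
    congr 1 <;> ring
  by_cases h2 : (2 : K) = 0
  · by_contra ht
    set μ : K := -(t ^ 2) with hμdef
    have hμ : φ μ ≠ μ := fun e => ht <| by
      rw [map_neg, neg_inj, map_pow] at e
      have : (φ t - t) ^ 2 = 0 := by linear_combination e - (φ t * t - t ^ 2) * h2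
      exact sub_eq_zero.1 (pow_eq_zero_iff two_ne_zero |>.1 this)
    have hμ0 : μ ≠ 0 := fun e => hμ (by rw [e, map_zero])
    obtain ⟨α, hA, hC, hZ, -⟩ := step t e f hy μ hμ ⟨1, t, by
      show _ * tri 1 t μ * _ ∈ H
      rw [htri, hμdef, show -(t ^ 2) + 2 * t * t - t ^ 2 * 1 = (0 : K) by ring,
        show t - t * 1 = (0 : K) by ring]
      rw [← tri_four]
      exact hO.root 4 (lt_eight (by omega)) 1 (map_one φ)⟩ μ hμ0 (Or.inl rfl)
    set A := α ^ 2 * μ ^ 2
    have hAμ : φ (A * μ) = A * μ := by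
      have e : 1 - α ^ 2 * (μ ^ 2 * -(t ^ 2)) - 2 * α * (μ * t) = 1 - A * μ := by
        simp only [A, hμdef]; linear_combination (-(α * (μ * t))) * h2
      rw [e, map_sub, map_one, sub_right_inj] at hZ
      exact hZ
    have hA0 : A = 0 := by
      by_contra h0
      refine hμ ?_
      rw [map_mul, hA] at hAμ
      exact mul_left_cancel₀ h0 hAμ
    have hα : α = 0 := by
      rcases mul_eq_zero.1 hA0 with e | e
      · exact pow_eq_zero_iff two_ne_zero |>.1 e
      · exact absurd (pow_eq_zero_iff two_ne_zero |>.1 e) hμ0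
    rw [hα, zero_mul, add_zero, one_pow, mul_one, map_pow] at hC
    refine hμ ?_
    have : (φ μ - μ) ^ 2 = 0 := by linear_combination hC - (φ μ * μ - μ ^ 2) * h2
    exact sub_eq_zero.1 (pow_eq_zero_iff two_ne_zero |>.1 this)
  -- odd characteristic
  have h2t : φ (2 : K) = 2 := map_ofNat φ 2
  have hstep : ∀ (t e f : K), (X 5 t * X 6 e * X 7 f) * X 0 k * (X 5 t * X 6 e * X 7 f)⁻¹ ∈ H →
      φ t ≠ t → ∀ z, (∀ L : Subfield K, t ∈ L → z ∈ L) → φ (z ^ 2) ≠ z ^ 2 →
      ∃ α : K, α ≠ 0 ∧ φ (α ^ 2 * z ^ 2) = α ^ 2 * z ^ 2 ∧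
        φ (α * z - t * (α * z) ^ 2) = α * z - t * (α * z) ^ 2 ∧
        ∃ w, φ w = w ∧ z ^ 2 * (1 + α * t) ^ 2 = w := by
    intro t e f hy ht z hzL hz2
    have hz : z ≠ 0 := fun h => hz2 (by rw [h, zero_pow two_ne_zero, map_zero])
    set μ : K := -(2 * t)
    have hμ : φ μ ≠ μ := fun e => ht <| by
      rw [map_neg, neg_inj, map_mul, h2t] at e
      exact mul_left_cancel₀ h2 e
    obtain ⟨α, hA, hC, -, hY⟩ := step t e f hy μ hμ ⟨0, 1, by
      show _ * tri 0 1 μ * _ ∈ H
      rw [htri, show 1 - t * 0 = (1 : K) by ring,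
        show μ + 2 * t * 1 - t ^ 2 * 0 = (0 : K) by simp only [μ]; ring, ← tri_six]
      exact hO.root 6 (lt_eight (by omega)) 1 (map_one φ)⟩ z hz (Or.inr fun L hL => hzL L (by
        have := L.div_mem (L.neg_mem hL) (natCast_mem L 2)
        simpa [μ, h2] using this))
    refine ⟨α, fun h0 => hz2 ?_, hA, ?_, _, hC, rfl⟩
    · rw [h0] at hC; simpa using hC
    · rw [show 2 * α * z - 2 * t * (α * z) ^ 2 = 2 * (α * z - t * (α * z) ^ 2) by ring, map_mul,
        h2t] at hY
      exact mul_left_cancel₀ h2 hY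
  by_contra ht
  have hquad : ∃ c, φ c = c ∧ φ ((t + c) ^ 2) = (t + c) ^ 2 := by
    by_cases hsq : φ (t ^ 2) = t ^ 2
    · exact ⟨0, map_zero φ, by rwa [add_zero]⟩
    obtain ⟨α, hα, hA, hY, -, -, -⟩ := hstep t e f hy ht t (fun L h => h) hsq
    set A := α ^ 2 * t ^ 2
    set u := α * t - t * (α * t) ^ 2
    have hA0 : A ≠ 0 := mul_ne_zero (pow_ne_zero _ hα) fun h => hsq (by rw [h, map_zero])
    refine ⟨u / A, by rw [map_div₀, hY, hA], ?_⟩
    have e : (t + u / A) ^ 2 = 1 / A := by
      field_simp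
      simp only [A, u]
      ring
    rw [e, map_div₀, map_one, hA]
  obtain ⟨c, hc, hc2⟩ := hquad
  set t0 := t + c
  have ht0 : φ t0 ≠ t0 := fun e => ht <| by
    rw [map_add, hc, add_left_inj] at e; exact e
  obtain ⟨e', f', hy0⟩ : ∃ e' f', (X 5 t0 * X 6 e' * X 7 f') * X 0 k *
      (X 5 t0 * X 6 e' * X 7 f')⁻¹ ∈ H := by
    refine ⟨e, f, ?_⟩
    have hx := hO.root 5 (lt_eight (by omega)) c hc
    have := mul_mem (mul_mem hx hy) (inv_mem hx)
    convert this using 1
    simp only [t0]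
    rw [add_comm t c, Cert.xg_add]
    group
  set z : K := 1 + t0
  have hz2 : φ (z ^ 2) ≠ z ^ 2 := fun h => ht0 <| by
    have e : z ^ 2 = 1 + 2 * t0 + t0 ^ 2 := by simp only [z]; ring
    rw [e, map_add, map_add, map_mul, hc2, map_one, h2t, add_left_inj, add_right_inj] at h
    exact mul_left_cancel₀ h2 h
  obtain ⟨α, hα, hA, hY, w, hw, hC⟩ := hstep t0 e' f' hy0 ht0 z
    (fun L hL => L.add_mem L.one_mem hL) hz2
  set A := α ^ 2 * z ^ 2
  set u := α * z - t0 * (α * z) ^ 2
  have hA0 : A ≠ 0 :=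
    mul_ne_zero (pow_ne_zero _ hα) fun h => hz2 (by rw [h, map_zero])
  have hu : u = 0 := by
    by_contra hu0
    have e : 2 * u * A * t0 = A - u ^ 2 - A ^ 2 * t0 ^ 2 := by simp only [u, A]; ring
    have h := congrArg φ e
    rw [map_mul, map_mul, map_mul, h2t, hY, hA, map_sub, map_sub, map_pow, hY, map_mul φ (A ^ 2),
      map_pow φ A, hA, hc2, ← e] at h
    exact ht0 (mul_left_cancel₀ (mul_ne_zero (mul_ne_zero h2 hu0) hA0) h)
  have hw1 : α * z = A * t0 := by simp only [u] at hu; simp only [A]; linear_combination hu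
  have ht02 : A * t0 ^ 2 = 1 := by
    refine mul_left_cancel₀ hA0 ?_
    linear_combination -(α * z + A * t0) * hw1
  -- the third relation pins `z`
  have hB : (z + A * t0 ^ 2) ^ 2 = w := by
    rw [← hC]
    have : z * (1 + α * t0) = z + A * t0 ^ 2 := by linear_combination t0 * hw1
    rw [← this]; ring
  rw [ht02] at hB
  refine ht0 ?_
  have e : w = 4 + 4 * t0 + t0 ^ 2 := by rw [← hB]; simp only [z]; ring
  have h := congrArg φ e
  rw [hw, map_add, map_add, map_mul, hc2, map_ofNat, e, add_left_inj, add_right_inj] at h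
  refine (mul_left_cancel₀ (a := (4 : K)) ?_ h).symm
  rw [show (4 : K) = 2 * 2 by norm_num]
  exact mul_ne_zero h2 h2

/-- The data for `B₂`. -/
def reachB2 : ReachData where
  L₀ := [0, 1, 0]
  roots := [([], some 5), ([0], none)]
  gens := [([1, 0], some (2, 7, [])), ([0], none)]

theorem reach_ok : certFullB2.T.checkReach reachB2 = true := by decide +kernel

include p in
/-- Radical conjugates of the lowest root elements in the group have coordinates in the subfield. -/
theorem coord_fixed (hO : Over certFullB2 φ H) {v : GL chevB2.Idx K}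
    (hv : v ∈ certFullB2.rad K 0) {k : K} (hk : k ≠ 0) (hy : v * X 0 k * v⁻¹ ∈ H) {u : ℕ}
    (hu : u < chevB2.nroots) (hgu : certFullB2.T.vec u 0 = -1) : φ (coord0 v u) = coord0 v u := by
  obtain ⟨-, -, -, -, -, -, -, -, hgr, -, -, hsw, hE5, hE6, -⟩ := terms_ok
  have hone : ∀ (v : GL chevB2.Idx K), v ∈ certFullB2.rad K 0 → ∀ k : K, k ≠ 0 →
      v * X 0 k * v⁻¹ ∈ H → φ (coord0 v 1) = coord0 v 1 := by
    intro v hv k hk hy
    obtain ⟨t, ht, rfl⟩ := certFullB2.exists_oprod_KS (certFullB2.radS_closed hgr) _ certFullB2.T.h rfl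
      le_rfl v hv
    have ht4 : t 4 = 0 := ht 4 fun h => by
      have := h.2
      rw [show certFullB2.T.vec 4 0 = 0 by decide +kernel] at this
      omega
    have e : certFullB2.oprod certFullB2.T.h t = X 5 (t 5) * X 6 (t 6) * X 7 (t 7) := by
      have hl : List.range' certFullB2.T.h (chevB2.nroots - certFullB2.T.h) = [4, 5, 6, 7] := by
        rw [certFullB2.nroots_eq]; decide +kernel
      rw [Cert.oprod, hl]
      simp [ht4, Cert.xg_zero, mul_assoc]
    rw [e] at hy ⊢
    have hfix := five_fixed p hO hk hy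
    have hS : ∀ r, r < 8 → 0 < certFullB2.T.vec r 0 → r ∈ certFullB2.radS 0 := fun r hr h =>
      ⟨lt_eight hr, h⟩
    have h5 : (5 : ℕ) ∈ certFullB2.radS 0 := hS 5 (by omega) (by decide +kernel)
    have h6 : (6 : ℕ) ∈ certFullB2.radS 0 := hS 6 (by omega) (by decide +kernel)
    have h7 : (7 : ℕ) ∈ certFullB2.radS 0 := hS 7 (by omega) (by decide +kernel)
    have hg1 : certFullB2.T.vec 1 0 = -1 := by decide +kernel
    have hl1 : (1 : ℕ) < chevB2.nroots := lt_eight (by omega)
    rw [certFullB2.coord_mul hgr (mul_mem (certFullB2.xg_mem_rad hgr h5 _)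
        (certFullB2.xg_mem_rad hgr h6 _)) (certFullB2.xg_mem_rad hgr h7 _) hl1 hg1,
      certFullB2.coord_mul hgr (certFullB2.xg_mem_rad hgr h5 _)
        (certFullB2.xg_mem_rad hgr h6 _) hl1 hg1,
      certFullB2.coord_xg hgr h5 hl1 hg1, certFullB2.coord_xg hgr h6 hl1 hg1,
      certFullB2.coord_xg hgr h7 hl1 hg1, if_pos top_val.symm, if_neg (by rw [top_val]; omega),
      if_neg (by rw [top_val]; omega), hE5, hE6]
    simp [chainVec, evec, hfix]
  have hcases : ∀ u < 8, certFullB2.T.vec u 0 = -1 → u = 1 ∨ u = 2 := by decide +kernel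
  rcases hcases u (by rwa [certFullB2.nroots_eq, terms_ok.2.2.2.2.2.2.2.2.2.2.2.2.2.2.2.2.2.2.2.2]
    at hu) hgu with rfl | rfl
  · exact hone v hv k hk hy
  · obtain ⟨v', hv', k', hk', hy', h⟩ := certFullB2.swap_frame hgr hsw hO hv hk hy
    refine h 2 hu ?_
    rw [show certFullB2.T.wlT [1] 2 = 1 by decide +kernel]
    exact hone v' hv' k' hk' hy'

end B2Sub

open Cfsg.Lie

open B2Sub in
/-- Subfield data for `B₂`. -/
noncomputable def subfieldDataB2 {K : Type*} [Field K] (p : ℕ) [Fact p.Prime] [CharP K p] :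
    SubfieldData certFullB2 K where
  j := 0
  grade := terms_ok.2.2.2.2.2.2.2.2.1
  reachData := reachB2
  reach := reach_ok
  a := 6
  g := 2
  C := -1
  doublet := terms_ok.2.2.2.2.2.2.2.2.2.2.1
  rad := fun φ H hO v hv k hk hy => by
    obtain ⟨-, -, -, -, -, -, -, -, hgr, hco, -, -, -, hE6, -⟩ := terms_ok
    have hL₀ := certFullB2.checkWord_spec (w := reachB2.L₀) (x := 0) (by
      have := reach_ok
      simp only [Tables.checkReach, Bool.and_eq_true] at this
      exact this.1)
    refine certFullB2.rad_fixed hgr hO hL₀ hco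
      (fun v hv k hk hy u hu hgu => coord_fixed p hO hv hk hy hu hgu) (fun e k hk hy => ?_) hv hk hy
    rw [top_val] at hy
    have hx := hO.root 2 (lt_eight (by omega)) 1 (map_one φ)
    have h := mul_mem (mul_mem hx hy) (inv_mem hx)
    set w : GL chevB2.Idx K := certFullB2.xg 7 e * certFullB2.xg 6 e
    have hw : w ∈ certFullB2.rad K 0 :=
      mul_mem (certFullB2.xg_mem_rad hgr ⟨lt_eight (by omega), by decide +kernel⟩ e)
        (certFullB2.xg_mem_rad hgr ⟨lt_eight (by omega), by decide +kernel⟩ e)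
    have hwy : w * certFullB2.xg 0 k * w⁻¹ ∈ H := by
      convert h using 1
      have e1 := (commute_pair (K := K) (r := 2) (s := 0) (by simp) 1 k).eq
      have e2 := c27 (K := K) 1 e
      rw [one_mul, one_pow, one_mul, mul_inv_eq_iff_eq_mul] at e2
      have e3 : Commute (certFullB2.xg 4 (-e)) (certFullB2.xg 0 k) :=
        (commute_pair (by simp) k (-e)).symm
      rw [show certFullB2.xg 2 (1 : K) * (certFullB2.xg 7 e * certFullB2.xg 0 k *
          (certFullB2.xg 7 e)⁻¹) * (certFullB2.xg 2 1)⁻¹ =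
        (certFullB2.xg 2 1 * certFullB2.xg 7 e) * certFullB2.xg 0 k *
          (certFullB2.xg 2 1 * certFullB2.xg 7 e)⁻¹ by group, e2]
      calc w * certFullB2.xg 0 k * w⁻¹
          = w * (certFullB2.xg 4 (-e) * certFullB2.xg 0 k * (certFullB2.xg 4 (-e))⁻¹) * w⁻¹ := by
            rw [e3.eq, mul_inv_cancel_right]
        _ = w * (certFullB2.xg 4 (-e) * (certFullB2.xg 2 1 * certFullB2.xg 0 k *
            (certFullB2.xg 2 1)⁻¹) * (certFullB2.xg 4 (-e))⁻¹) * w⁻¹ := by
            rw [e1, mul_inv_cancel_right]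
        _ = _ := by simp only [w]; group
    have hg2 : certFullB2.T.vec 2 0 = -1 := by decide +kernel
    have h7 : (7 : ℕ) ∈ certFullB2.radS 0 := ⟨lt_eight (by omega), by decide +kernel⟩
    have h6 : (6 : ℕ) ∈ certFullB2.radS 0 := ⟨lt_eight (by omega), by decide +kernel⟩
    have hfix := coord_fixed p hO hw hk hwy (lt_eight (r := 2) (by omega)) hg2
    rw [certFullB2.coord_mul hgr (certFullB2.xg_mem_rad hgr h7 _) (certFullB2.xg_mem_rad hgr h6 _)
      (lt_eight (by omega)) hg2, certFullB2.coord_xg hgr h7 (lt_eight (by omega)) hg2,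
      certFullB2.coord_xg hgr h6 (lt_eight (by omega)) hg2, if_pos top_val.symm,
      if_neg (by rw [top_val]; omega), hE6] at hfix
    simpa [chainVec, evec] using hfix

end Cfsg.Agent.Lie.Chev
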