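import Cfsg.Agent.Lib.Lie.Chev.SubfieldPencil

/-! Coordinates at pairs of long roots, and radical conjugates with all coordinates in the
subfield. -/

set_option autoImplicit false

namespace Cfsg.Agent.Lie.Chev

open Cfsg.Lie Matrix

namespace Tables

variable (T : Tables)

/-- Two long roots of grade one differing by a positive root of grade zero. -/
def checkLong (j : ℕ) (x : ℕ × ℕ × ℕ × ℕ × ℕ) : Bool :=
  match x with
  | (m, a, m', a', s) =>
    T.checkPencil j m a && T.checkPencil j m' a' && !(Nat.beq m' m) && T.checkCross m a a' &&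
      T.checkCross m' a' a && T.checkMove j s (T.neg a) (T.neg a')

/-- The first entry of a chain reaches a coordinate of grade `-1` with a sign. -/
def coordAt (j : ℕ) : List (ℕ × ℤ) → Bool
  | (u, C) :: rest => intBeq (T.vec u j) (-1) && (intBeq C 1 || intBeq C (-1)) &&
      rest.all fun q => !(Nat.beq q.1 u)
  | [] => false

/-- Every root of grade one has its coordinate. -/
def checkCoord (j : ℕ) : Bool :=
  (List.range T.n).all fun w => !(intBeq (T.vec w j) 1) || T.coordAt j (T.entry w 0)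

end Tables

theorem intBeq_self (x : ℤ) : intBeq x x = true := by
  cases x <;> simp [intBeq]

namespace CertFull

variable {D : ChevalleyDatum} (c : CertFull D) {F : Type*} [Field F]

include c

variable {j : ℕ} (hj : c.T.checkGrade j = true)

include hj

/-- The coordinates after conjugation by a positive root element of grade zero. -/
theorem shift_coord {s : ℕ} (hs : c.Pos s) (hs0 : c.T.vec s j = 0) (t : F) (v : GL D.Idx F)
    {u : ℕ} (hu : u < D.nroots) (hne : u ≠ s) :
    coord0 (c.xg s t * v * (c.xg s t)⁻¹) u = coord0 v u +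
      ((c.T.rowCols s u).map fun x => if h : x < D.nroots then
        coord0 v x * chainVec D F t 1 (c.T.entry s x) (Sum.inr ⟨u, hu⟩) else 0).sum := by
  have hfix : ((c.xg s t)⁻¹ : GL D.Idx F).val *ᵥ evec D F 0 = evec D F 0 := by
    rw [c.xg_inv, Cert.xg_val]; exact (c.commute_zero hj hs.2 hs0 (-t) 0).2
  rw [coord0, dif_pos hu, Units.val_mul, ← Matrix.mulVec_mulVec, hfix, Units.val_mul,
    ← Matrix.mulVec_mulVec, Cert.xg_val, c.mulVec_inr hs.2 hu hne, coord0, dif_pos hu]
  congr 2
  refine List.map_congr_left fun x _ => ?_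
  split
  · rename_i hx
    rw [coord0, dif_pos hx]
  · rfl

variable (p : ℕ) [Fact p.Prime] [CharP F p] {φ : F →+* F} {H : Subgroup (GL D.Idx F)}
  (hO : Over c φ H)

include hO

include p in
/-- Both coordinates of such a pair lie in the subfield. -/
theorem pair_fixed {m a m' a' s : ℕ} (hL : c.T.checkLong j (m, a, m', a', s) = true)
    {v : GL D.Idx F} (hv : v ∈ c.rad F j) {k : F} (hk : k ≠ 0)
    (hy : v * c.xg 0 k * v⁻¹ ∈ H) :
    φ (coord0 v (D.neg a)) = coord0 v (D.neg a) ∧
      φ (coord0 v (D.neg a')) = coord0 v (D.neg a') := by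
  simp only [Tables.checkLong, Bool.and_eq_true, Bool.not_eq_true'] at hL
  obtain ⟨⟨⟨⟨⟨hp, hp'⟩, hne⟩, hx⟩, hx'⟩, hmv⟩ := hL
  have hne' := ne_of_beq_false hne
  obtain ⟨-, ha, -, -, -, -, -, -, -, hu, -, ena⟩ := c.pencil_spec hj hp
  obtain ⟨-, ha', -, -, -, -, -, -, -, hu', -, ena'⟩ := c.pencil_spec hj hp'
  by_cases h1 : φ (coord0 v (D.neg a')) = coord0 v (D.neg a')
  · exact ⟨c.fixed_of_cross hj hp p hO hv hk hy hp' hne' hx h1, h1⟩
  by_cases h0 : φ (coord0 v (D.neg a)) = coord0 v (D.neg a)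
  · exact absurd (c.fixed_of_cross hj hp' p hO hv hk hy hp hne'.symm hx' h0) h1
  exfalso
  rcases c.pencil_or hj hp p hO hv hk hy with h | ⟨q1, -, h2, -⟩
  · exact h0 h
  rcases c.pencil_or hj hp' p hO hv hk hy with h | ⟨q2, -, -, -⟩
  · exact h1 h
  simp only [Tables.checkMove, ena, ena', Bool.and_eq_true, Bool.not_eq_true', Nat.ble_eq,
    Nat.blt_eq, List.isEmpty_iff] at hmv
  obtain ⟨⟨⟨⟨⟨⟨⟨hs0, hsh⟩, hsn⟩, hus'⟩, hus⟩, hent⟩, hrow⟩, hrow'⟩ := hmv
  have hs : c.Pos s := ⟨hsh, c.nroots_eq ▸ hsn⟩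
  have hsz := of_intBeq hs0
  obtain ⟨hv', hy'⟩ := c.shift_mem hj hO hs hsz (map_one φ) hv hy
  set v' := c.xg s (1 : F) * v * (c.xg s 1)⁻¹ with hv'def
  have e1 : coord0 v' (D.neg a) = coord0 v (D.neg a) := by
    rw [hv'def, c.shift_coord hj hs hsz 1 v (c.neg_lt ha) (ne_of_beq_false hus), hrow]
    simp
  have e2 : coord0 v' (D.neg a') = coord0 v (D.neg a') + coord0 v (D.neg a) := by
    obtain ⟨C, hC, hE⟩ := oneEntry_spec hent
    have hrow'' : c.T.rowCols s (D.neg a') = [D.neg a] := by
      match hr : c.T.rowCols s (D.neg a'), hrow' with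
      | [x], h => rw [Nat.beq_eq] at h; rw [h]
    rw [hv'def, c.shift_coord hj hs hsz 1 v (c.neg_lt ha') (ne_of_beq_false hus'), hrow'']
    simp [hE, chainVec, evec, c.neg_lt ha]
    rcases hC with rfl | rfl
    · simp
    · push_cast; linear_combination -coord0 v (D.neg a) * h2
  have h3 : φ (coord0 v' (D.neg a')) = coord0 v' (D.neg a') := by
    rw [e2]
    have : (coord0 v (D.neg a') + coord0 v (D.neg a)) *
        (coord0 v (D.neg a') + coord0 v (D.neg a) + 1) = 0 := by
      linear_combination q1 + q2 +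
        (coord0 v (D.neg a) * coord0 v (D.neg a') - 1) * h2
    rcases mul_eq_zero.1 this with h | h
    · rw [h, map_zero]
    · rw [eq_neg_of_add_eq_zero_left h, map_neg, map_one]
  have h4 := c.fixed_of_cross hj hp p hO hv' hk hy' hp' hne' hx h3
  rw [e1] at h4
  exact h0 h4

omit p [Fact p.Prime] [CharP F p]

/-- The highest root parameter of a stripped conjugate. -/
theorem top_fixed {m a : ℕ} (hp : c.T.checkPencil j m a = true) (hc : c.T.checkCoord j = true)
    (hcoord : ∀ v ∈ c.rad F j, ∀ k : F, k ≠ 0 → v * c.xg 0 k * v⁻¹ ∈ H → ∀ u, u < D.nroots →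
      c.T.vec u j = -1 → φ (coord0 v u) = coord0 v u)
    {e k : F} (hk : k ≠ 0) (hy : c.xg c.top e * c.xg 0 k * (c.xg c.top e)⁻¹ ∈ H) : φ e = e := by
  obtain ⟨hm, ha, hg, -, haS, e3, e4, -, -, -, -, -⟩ := c.pencil_spec hj hp
  obtain ⟨-, ⟨ε, hε, hTg⟩, -, hag, -⟩ := c.pencil_conj hj hp (F := F)
  have hT := (c.grade_spec hj).2.1
  have hjr := (c.grade_spec hj).1
  have h0 := c.zero_lt hj
  simp only [Tables.checkCoord, List.all_eq_true, List.mem_range, Bool.or_eq_true,
    Bool.not_eq_true'] at hc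
  have hw : c.T.coordAt j (c.T.entry a 0) = true :=
    (hc a (c.nroots_eq ▸ ha)).resolve_left (by rw [e4]; decide)
  rcases hE : c.T.entry a 0 with _ | ⟨⟨u, C⟩, rest⟩
  · rw [hE] at hw; simp [Tables.coordAt] at hw
  rw [hE] at hw
  simp only [Tables.coordAt, Bool.and_eq_true, Bool.or_eq_true, List.all_eq_true,
    Bool.not_eq_true'] at hw
  obtain ⟨⟨hu1, hC⟩, hrest⟩ := hw
  have hul : u < D.nroots := c.entry_lt ha h0 (u, C) (by rw [hE]; simp)
  have hu := of_intBeq hu1
  set g := D.neg m
  have hcg : ∀ t : F, Commute (c.xg g (1 : F)) (c.xg 0 t) := fun t =>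
    c.commute_grade hj hg h0 (Or.inr (by
      rw [c.vec_zero hj, show c.T.vec g j = -1 by rw [c.vec_neg hm hjr, e3]]; omega)) 1 t
  set v' := c.xg a (-(ε * e)) * c.xg c.top e
  have hconj : c.xg g 1 * c.xg c.top e * (c.xg g 1)⁻¹ = v' := by
    have h := hTg e 1
    rw [mul_one] at h
    have hcT : Commute (c.xg c.top e) (c.xg a (-(ε * e))) :=
      c.commute_grade hj (c.top_lt hj) ha (Or.inl ⟨by omega, by omega, by omega⟩) _ _
    calc c.xg g 1 * c.xg c.top e * (c.xg g 1)⁻¹
        = c.xg g 1 * ((c.xg c.top e * c.xg g 1 * (c.xg c.top e)⁻¹)⁻¹ * c.xg c.top e) := by group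
      _ = c.xg g 1 * ((c.xg g 1 * c.xg a (ε * e))⁻¹ * c.xg c.top e) := by rw [h]
      _ = c.xg g 1 * (c.xg a (ε * e))⁻¹ * (c.xg g 1)⁻¹ * c.xg c.top e := by group
      _ = _ := by
        rw [c.xg_inv a, ← (hag (-(ε * e)) 1).eq, mul_inv_cancel_right]
  have hy' : v' * c.xg 0 k * v'⁻¹ ∈ H := by
    have hx := hO.root g hg 1 (map_one φ)
    have h := mul_mem (mul_mem hx hy) (inv_mem hx)
    convert h using 1
    rw [← hconj, show ∀ x a z : GL D.Idx F, x * a * x⁻¹ * z * (x * a * x⁻¹)⁻¹ =
      x * (a * (x⁻¹ * z * x) * a⁻¹) * x⁻¹ from fun x a z => by group]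
    congr 4
    rw [mul_assoc, ← (hcg k).eq, inv_mul_cancel_left]
  have hTS : c.top ∈ c.radS j := ⟨c.top_lt hj, by rw [hT]; omega⟩
  have h5 := hcoord v' (mul_mem (c.xg_mem_rad hj haS _) (c.xg_mem_rad hj hTS _)) k hk hy' u hul hu
  have haT : a ≠ c.top := fun h => by rw [h, hT] at e4; omega
  rw [c.coord_mul hj (c.xg_mem_rad hj haS _) (c.xg_mem_rad hj hTS _) hul hu,
    c.coord_xg hj hTS hul hu, if_pos rfl, add_zero, c.coord_xg hj haS hul hu, if_neg haT, hE,
    chainVec, Pi.add_apply,
    c.chainVec_eq_zero hul _ _ rest (fun q hq => ne_of_beq_false (hrest q hq)), add_zero] at h5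
  simp [evec, map_mul, map_unit φ hε] at h5
  rcases hC with h | h <;> rw [of_intBeq h] at h5 <;>
    · simp at h5
      rcases h5 with h5 | h5
      · exact h5
      · exact absurd h5 (left_ne_zero_of_mul (hε.trans_ne one_ne_zero))

/-- A radical conjugate with all coordinates in the subfield is fixed. -/
theorem rad_fixed {L₀ : List ℕ} (hL₀ : (∀ q ∈ L₀, q < D.rank) ∧ c.wl L₀ c.top = 0)
    (hc : c.T.checkCoord j = true)
    (hcoord : ∀ v ∈ c.rad F j, ∀ k : F, k ≠ 0 → v * c.xg 0 k * v⁻¹ ∈ H → ∀ u, u < D.nroots →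
      c.T.vec u j = -1 → φ (coord0 v u) = coord0 v u)
    (htop : ∀ e k : F, k ≠ 0 → c.xg c.top e * c.xg 0 k * (c.xg c.top e)⁻¹ ∈ H → φ e = e)
    {v : GL D.Idx F} (hv : v ∈ c.rad F j) {k : F} (hk : k ≠ 0)
    (hy : v * c.xg 0 k * v⁻¹ ∈ H) :
    Matrix.GeneralLinearGroup.map φ (v * c.xg 0 k * v⁻¹) = v * c.xg 0 k * v⁻¹ := by
  classical
  have hh := c.h_add_h
  have hTl := c.top_lt hj
  have h0 := c.zero_lt hj
  have hcl := c.radS_closed hj
  obtain ⟨t, ht, rfl⟩ := c.exists_oprod_KS hcl _ c.T.h rfl le_rfl v hv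
  -- coordinates of an ordered product
  have hmemr : ∀ r, c.xg r (t r) ∈ c.rad F j := fun r => by
    by_cases hr : r ∈ c.radS j
    · exact c.xg_mem_rad hj hr _
    · rw [ht r hr, c.xg_zero]; exact one_mem _
  have hsum : ∀ (L : List ℕ) (u : ℕ), u < D.nroots → c.T.vec u j = -1 →
      (L.map fun r => c.xg r (t r)).prod ∈ c.rad F j ∧
        coord0 (L.map fun r => c.xg r (t r)).prod u =
          (L.map fun r => coord0 (c.xg r (t r)) u).sum := by
    intro L u hu hgu
    induction L with
    | nil => exact ⟨one_mem _, by simp [c.coord_one hj hu hgu]⟩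
    | cons r L ih =>
      simp only [List.map_cons, List.prod_cons, List.sum_cons]
      exact ⟨mul_mem (hmemr r) ih.1, by rw [c.coord_mul hj (hmemr r) ih.1 hu hgu, ih.2]⟩
  have hrange : c.oprod c.T.h t =
      ((List.range' c.T.h (D.nroots - c.T.h)).map fun r => c.xg r (t r)).prod := by
    rw [Cert.oprod]
  have hfix : ∀ r < D.nroots, r ≠ c.top → φ (t r) = t r := by
    intro w hw hne
    by_cases hwS : w ∈ c.radS j
    swap
    · rw [ht w hwS, map_zero]
    have hw1 : c.T.vec w j = 1 := by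
      obtain ⟨-, g2, g3, -⟩ := (c.grade_spec hj).2.2.2.2.2 w hw
      have := hwS.2
      by_contra h
      exact hne (g3 (by omega))
    have hc' := hc
    simp only [Tables.checkCoord, List.all_eq_true, List.mem_range, Bool.or_eq_true,
      Bool.not_eq_true'] at hc'
    have hat := (hc' w (c.nroots_eq ▸ hw)).resolve_left (by rw [hw1, intBeq_self]; simp)
    rcases hE : c.T.entry w 0 with _ | ⟨⟨u, C⟩, rest⟩
    · rw [hE] at hat; simp [Tables.coordAt] at hat
    rw [hE] at hat
    simp only [Tables.coordAt, Bool.and_eq_true, Bool.or_eq_true, List.all_eq_true,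
      Bool.not_eq_true'] at hat
    obtain ⟨⟨hu1, hC⟩, hrest⟩ := hat
    have hul : u < D.nroots := c.entry_lt hw h0 (u, C) (by rw [hE]; simp)
    have hu := of_intBeq hu1
    have hother : ∀ r, r ≠ w → coord0 (c.xg r (t r)) u = 0 := by
      intro r hr
      by_cases hrS : r ∈ c.radS j
      swap
      · rw [ht r hrS, c.xg_zero]; exact c.coord_one hj hul hu
      rw [c.coord_xg hj hrS hul hu]
      split
      · rfl
      refine c.chainVec_eq_zero _ _ 1 _ fun q hq e => hr ?_
      obtain ⟨i, hi⟩ := List.getElem?_of_mem hq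
      have hroot : c.T.chainRoot r 0 (i + 1) = some q.1 := by
        rw [Tables.chainRoot, Nat.add_sub_cancel, hi]; rfl
      have hjr := (c.grade_spec hj).1
      have hv1 := c.chainRoot_vec hrS.1 h0 (by omega) hroot hjr
      have hc1 := c.chainRoot_code hrS.1 h0 (by omega) hroot
      have hroot' : c.T.chainRoot w 0 1 = some u := by rw [Tables.chainRoot, hE]; rfl
      have hc2 := c.chainRoot_code hw h0 le_rfl hroot'
      rw [e, hu, c.vec_zero hj] at hv1
      rw [e] at hc1
      have h2 := hrS.2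
      have hi1 : ((i + 1 : ℕ) : ℤ) = 1 := by
        by_contra hcon
        have : (2 : ℤ) ≤ ((i + 1 : ℕ) : ℤ) := by omega
        nlinarith
      rw [hi1] at hc1
      exact c.code_inj hrS.1 hw (by push_cast at hc1 hc2; linarith)
    have hself : coord0 (c.xg w (t w)) u = (C : F) * t w := by
      rw [c.coord_xg hj hwS hul hu, if_neg hne, hE, chainVec, Pi.add_apply,
        c.chainVec_eq_zero hul _ _ rest (fun q hq => ne_of_beq_false (hrest q hq)), add_zero]
      simp [evec]
    have hval : coord0 (c.oprod c.T.h t) u = (C : F) * t w := by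
      rw [hrange, (hsum _ u hul hu).2, List.sum_map_eq_nsmul_single w _ fun r hr _ => hother r hr,
        List.count_eq_one_of_mem List.nodup_range' (by
          rw [List.mem_range'_1]
          have := (c.radS_pos hj hwS).1
          omega), one_nsmul, hself]
    have h := hcoord _ hv k hk hy u hul hu
    rw [hval, map_mul, map_intCast] at h
    refine mul_left_cancel₀ ?_ h
    rcases hC with e | e <;> rw [of_intBeq e] <;> simp
  -- stripping
  have hsplit : List.range' c.T.h (D.nroots - c.T.h) =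
      List.range' c.T.h (c.top - c.T.h) ++ [c.top] := by
    have hp := c.pos_top hj
    have e1 : c.top = D.nroots - 1 := c.top_eq hj
    have hp1 : c.T.h ≤ c.top := hp.1
    rw [show D.nroots - c.T.h = (c.top - c.T.h) + 1 by omega, List.range'_1_concat,
      show c.T.h + (c.top - c.T.h) = c.top by omega]
  set P := ((List.range' c.T.h (c.top - c.T.h)).map fun r => c.xg r (t r)).prod with hP
  have hPsplit : c.oprod c.T.h t = P * c.xg c.top (t c.top) := by
    rw [hrange, hsplit, List.map_append, List.prod_append]; simp [P]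
  have hPprop : Matrix.GeneralLinearGroup.map φ P = P ∧ P ∈ H := by
    have hall : ∀ r ∈ List.range' c.T.h (c.top - c.T.h), r < D.nroots ∧ r ≠ c.top := fun r hr => by
      rw [List.mem_range'_1] at hr
      omega
    constructor
    · rw [hP, map_list_prod, List.map_map]
      congr 1
      refine List.map_congr_left fun r hr => ?_
      rw [Function.comp_apply, c.xg_map, hfix r (hall r hr).1 (hall r hr).2]
    · refine Subgroup.list_prod_mem _ fun g hg => ?_
      obtain ⟨r, hr, rfl⟩ := List.mem_map.1 hg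
      exact hO.root r (hall r hr).1 _ (hfix r (hall r hr).1 (hall r hr).2)
  rw [hPsplit] at hy ⊢
  have hz : c.xg c.top (t c.top) * c.xg 0 k * (c.xg c.top (t c.top))⁻¹ ∈ H := by
    have := mul_mem (mul_mem (inv_mem hPprop.2) hy) hPprop.2
    convert this using 1
    group
  have he := htop _ _ hk hz
  have hxT := hO.root _ hTl _ he
  have h0k : c.xg 0 k ∈ H := by
    have := mul_mem (mul_mem (inv_mem hxT) hz) hxT
    convert this using 1
    group
  have hk' : φ k = k := by
    have hn : c.nw F L₀ ∈ H := by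
      have hle : fixedRootGroup D φ ≤ H := (Subgroup.closure_le _).2 fun g ⟨s, x, hx, hg⟩ => by
        obtain rfl := c.eq_xg_iff.1 hg
        by_cases hs : s < D.nroots
        · exact hO.root s hs x hx
        · have e : c.xg s x = 1 := Units.ext (by simp [ChevalleyDatum.x, hs])
          rw [e]; exact one_mem _
      exact hle (c.nw_mem_fixed φ L₀)
    set σ : F := (c.wsign L₀ c.top : F)
    have hσ : σ * σ = 1 := c.wsign_sq _ _
    have hmem : c.xg c.top (σ * k) ∈ H := by
      have h := mul_mem (mul_mem (inv_mem hn) h0k) hn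
      convert h using 1
      rw [mul_assoc, eq_inv_mul_iff_mul_eq, c.nw_mul_xg hL₀.1 hTl, hL₀.2, ← mul_assoc σ, hσ,
        one_mul]
    have h := hO.long _ hmem
    rw [map_mul, map_unit φ hσ] at h
    exact mul_left_cancel₀ (left_ne_zero_of_mul (hσ.trans_ne one_ne_zero)) h
  rw [map_mul, map_mul, map_inv, map_mul, hPprop.1, c.xg_map, c.xg_map, he, hk']

end CertFull

end Cfsg.Agent.Lie.Chev
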