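import Cfsg.Agent.Lib.Lie.Chev.SubfieldFrame
import Cfsg.Agent.Lib.Lie.Chev.SubfieldLong
import Cfsg.Agent.Lib.Lie.Chev.TwistSimple
import Cfsg.Agent.Lib.Lie.Chev.Order

/-! The field of a finite group over a subfield group, and the elements of such a group. -/

set_option autoImplicit false

namespace Cfsg.Agent.Lie.Chev

open Cfsg.Lie Matrix Cfsg.Agent.Grp.SL2

/-- Words carrying the highest root to the lowest and to the fundamental ones: for each node a word
from the highest root or from a root of grade one, and a word from the highest root or from the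
first root of a commutator. -/
structure ReachData where
  L₀ : List ℕ
  roots : List (List ℕ × Option ℕ)
  gens : List (List ℕ × Option (ℕ × ℕ × List ℕ))

namespace Tables

variable (T : Tables)

/-- A word of nodes moves the highest root to `x`. -/
def checkWord (w : List ℕ) (x : ℕ) : Bool :=
  w.all (fun p => Nat.blt p T.l) && Nat.beq (T.wlT w (T.n - 1)) x

/-- A fundamental root is reached from the highest root or a root of grade one. -/
def checkRoot (p : ℕ) (x : List ℕ × Option ℕ) : Bool :=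
  x.1.all (fun q => Nat.blt q T.l) &&
    match x.2 with
    | none => Nat.beq (T.wlT x.1 (T.n - 1)) (T.simple p)
    | some s => Nat.blt s T.n && intBeq (T.pairing (T.n - 1) s) 1 &&
        Nat.beq (T.wlT x.1 s) (T.simple p)

/-- A fundamental root is reached from the highest root or from a commutator whose other terms
become positive. -/
def checkGen (p : ℕ) (x : List ℕ × Option (ℕ × ℕ × List ℕ)) : Bool :=
  x.1.all (fun q => Nat.blt q T.l) &&
    match x.2 with
    | none => Nat.beq (T.wlT x.1 (T.n - 1)) (T.simple p)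
    | some (s, l, lw) => Nat.blt s T.n && Nat.blt l T.n && !(Nat.beq l s) &&
        !(Nat.beq l (T.neg s)) && T.checkWord lw l &&
        match T.commTerms s l with
        | (w, C, _, _) :: rest => (intBeq C 1 || intBeq C (-1)) &&
            Nat.beq (T.wlT x.1 w) (T.simple p) &&
            rest.all fun y => Nat.ble T.h (T.wlT x.1 y.1) &&
              !(Nat.beq (T.wlT x.1 y.1) (T.simple p))
        | [] => false

/-- All fundamental roots are reached. -/
def checkReach (d : ReachData) : Bool :=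
  T.checkWord d.L₀ 0 &&
    (List.range T.l).all fun p => d.roots.any (T.checkRoot p) && d.gens.any (T.checkGen p)

end Tables

namespace CertFull

variable {D : ChevalleyDatum} (c : CertFull D) {F : Type*} [Field F]

include c

theorem checkWord_spec {w : List ℕ} {x : ℕ} (h : c.T.checkWord w x = true) :
    (∀ p ∈ w, p < D.rank) ∧ c.wl w c.top = x := by
  simp only [Tables.checkWord, Bool.and_eq_true, List.all_eq_true, Nat.blt_eq, Nat.beq_eq] at h
  exact ⟨fun p hp => c.rank_eq ▸ h.1 p hp, by rw [← c.wlT_eq]; exact h.2⟩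

/-- Groups normalised by the root elements at `±1` are normalised by the words of nodes. -/
theorem nw_conj_mem (X : Subgroup (GL D.Idx F))
    (hs : ∀ s < D.nroots, ∀ e : F, (e = 1 ∨ e = -1) → ∀ x ∈ X,
      c.xg s e * x * (c.xg s e)⁻¹ ∈ X) :
    ∀ L : List ℕ, (∀ p ∈ L, p < D.rank) → ∀ x ∈ X, c.nw F L * x * (c.nw F L)⁻¹ ∈ X := by
  intro L
  induction L with
  | nil => intro _ x hx; simpa [Cert.nw] using hx
  | cons p L ih =>
    intro hL x hx
    have hp := c.simple_lt (hL p (by simp))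
    have h1 := ih (fun q hq => hL q (by simp [hq])) x hx
    have h2 := hs _ hp 1 (Or.inl rfl) _ h1
    have h3 := hs _ (c.neg_lt hp) (-1) (Or.inr rfl) _ h2
    have h4 := hs _ hp 1 (Or.inl rfl) _ h3
    have e : c.nw F (p :: L) = c.np F p * c.nw F L := by simp [Cert.nw]
    rw [e, Cert.np, Cert.ng, inv_one]
    convert h4 using 1
    group

theorem moved_mem (X : Subgroup (GL D.Idx F))
    (hn : ∀ L : List ℕ, (∀ p ∈ L, p < D.rank) → ∀ x ∈ X, c.nw F L * x * (c.nw F L)⁻¹ ∈ X)
    (A : Subfield F) {L : List ℕ} (hL : ∀ p ∈ L, p < D.rank) {r : ℕ} (hr : r < D.nroots)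
    (h : ∀ t ∈ A, c.xg r t ∈ X) : ∀ t ∈ A, c.xg (c.wl L r) t ∈ X := by
  intro t ht
  have := hn L hL _ (h _ (A.mul_mem (intCast_mem A (c.wsign L r)) ht))
  rwa [c.nw_mul_xg hL hr, mul_inv_cancel_right, ← mul_assoc, c.wsign_sq, one_mul] at this

/-- Root subgroups over a subfield from those of the highest root and of the roots of grade one. -/
theorem reach {d : ReachData} (hd : c.T.checkReach d = true) (htop : c.top < D.nroots)
    (A : Subfield F) (X : Subgroup (GL D.Idx F)) (hT : ∀ t ∈ A, c.xg c.top t ∈ X)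
    (hone : ∀ s < D.nroots, c.T.pairing c.top s = 1 → ∀ t ∈ A, c.xg s t ∈ X)
    (hn : ∀ L : List ℕ, (∀ p ∈ L, p < D.rank) → ∀ x ∈ X, c.nw F L * x * (c.nw F L)⁻¹ ∈ X) :
    ∀ r < D.nroots, ∀ t ∈ A, c.xg r t ∈ X := by
  refine c.root_induction (P := fun r => ∀ t ∈ A, c.xg r t ∈ X) (fun p hp => ?_)
    fun p hp r hr h => c.moved_mem X hn A (L := [p]) (by simpa using hp) hr h
  simp only [Tables.checkReach, Bool.and_eq_true, List.all_eq_true, List.any_eq_true,
    List.mem_range] at hd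
  obtain ⟨⟨⟨w, o⟩, -, hx⟩, -⟩ := hd.2 p (c.rank_eq ▸ hp)
  rw [c.simple_eq hp]
  rcases o with _ | s
  · simp only [Tables.checkRoot, Bool.and_eq_true, List.all_eq_true, Nat.blt_eq, Nat.beq_eq] at hx
    rw [← hx.2, c.wlT_eq]
    exact c.moved_mem X hn A (fun q hq => c.rank_eq ▸ hx.1 q hq) htop hT
  · simp only [Tables.checkRoot, Bool.and_eq_true, List.all_eq_true, Nat.blt_eq, Nat.beq_eq] at hx
    obtain ⟨hw, ⟨hs, hpair⟩, he⟩ := hx
    rw [← c.nroots_eq] at hs
    rw [← he, c.wlT_eq]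
    exact c.moved_mem X hn A (fun q hq => c.rank_eq ▸ hw q hq) hs (hone s hs (of_intBeq hpair))

/-- A group holding the highest root element at `±1` and normalised by the root elements at `±1`
has an element with each fundamental coefficient. -/
theorem gens_mem {d : ReachData} (hd : c.T.checkReach d = true) (htop : c.top < D.nroots)
    (X : Subgroup (GL D.Idx F)) (hT : ∀ t : F, (t = 1 ∨ t = -1) → c.xg c.top t ∈ X)
    (hs : ∀ s < D.nroots, ∀ e : F, (e = 1 ∨ e = -1) → ∀ x ∈ X,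
      c.xg s e * x * (c.xg s e)⁻¹ ∈ X) :
    ∀ p < D.rank, ∃ k ∈ Up D F p, ∃ e : F, e ≠ 0 ∧ c.xg (D.simple p) e * k ∈ X := by
  intro p hp
  simp only [Tables.checkReach, Bool.and_eq_true, List.all_eq_true, List.any_eq_true,
    List.mem_range] at hd
  obtain ⟨-, ⟨w, o⟩, -, hx⟩ := hd.2 p (c.rank_eq ▸ hp)
  have hn := c.nw_conj_mem X hs
  have hσ1 : ∀ L r, (c.wsign L r : F) = 1 ∨ (c.wsign L r : F) = -1 := fun L r =>
    mul_self_eq_one_iff.1 (c.wsign_sq L r)
  have hlong : ∀ L : List ℕ, (∀ q ∈ L, q < D.rank) → ∀ t : F, (t = 1 ∨ t = -1) →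
      c.xg (c.wl L c.top) t ∈ X := by
    intro L hL t ht
    have := hn L hL _ (hT ((c.wsign L c.top : F) * t) (by
      rcases hσ1 L c.top with e | e <;> rw [e] <;> rcases ht with rfl | rfl <;> simp))
    rwa [c.nw_mul_xg hL htop, mul_inv_cancel_right, ← mul_assoc, c.wsign_sq, one_mul] at this
  rcases o with _ | ⟨s, l, lw⟩
  · simp only [Tables.checkGen, Bool.and_eq_true, List.all_eq_true, Nat.blt_eq, Nat.beq_eq] at hx
    refine ⟨1, one_mem _, 1, one_ne_zero, ?_⟩
    rw [mul_one, c.simple_eq hp, ← hx.2, c.wlT_eq]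
    exact hlong w (fun q hq => c.rank_eq ▸ hx.1 q hq) 1 (Or.inl rfl)
  simp only [Tables.checkGen, Bool.and_eq_true, Bool.not_eq_true', List.all_eq_true,
    Nat.blt_eq] at hx
  obtain ⟨hw, ⟨⟨⟨⟨hsn, hln⟩, hne⟩, hnn⟩, hlw⟩, hm⟩ := hx
  obtain ⟨hlwL, hle⟩ := c.checkWord_spec hlw
  rw [← c.nroots_eq] at hsn hln
  have hw' : ∀ q ∈ w, q < D.rank := fun q hq => c.rank_eq ▸ hw q hq
  rcases hE : c.T.commTerms s l with _ | ⟨⟨x, C, i, i'⟩, rest⟩
  · rw [hE] at hm; simp at hm
  rw [hE] at hm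
  simp only [Bool.and_eq_true, Bool.or_eq_true, Bool.not_eq_true', Nat.beq_eq, Nat.ble_eq,
    List.all_eq_true] at hm
  obtain ⟨⟨hC, hxp⟩, hrest⟩ := hm
  have hxl : c.xg l 1 ∈ X := hle ▸ hlong lw hlwL 1 (Or.inl rfl)
  have h := mul_mem (inv_mem hxl) (hs s hsn (-1) (Or.inr rfl) _ hxl)
  have e := c.xg_comm hsn hln (ne_of_beq_false hne)
    (by rw [c.neg_eq hsn]; exact ne_of_beq_false hnn) (1 : F) 1
  rw [c.xg_inv, c.xg_inv, neg_neg, mul_assoc (c.xg s (-1)), e, ← mul_assoc, ← mul_assoc,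
    ← mul_assoc,
    show c.xg l (-1 : F) * c.xg s (-1) * c.xg s 1 = c.xg l (-1) by
      rw [mul_assoc, ← c.xg_add, neg_add_cancel, c.xg_zero, mul_one],
    ← c.xg_add, neg_add_cancel, c.xg_zero, one_mul] at h
  have hlt : ∀ y ∈ c.T.commTerms s l, y.1 < D.nroots := fun y hy => (c.mem_commTerms hsn hln hy).1
  have h2 := hn w hw' _ h
  have hconj : ∀ (L : List (ℕ × F)), (∀ y ∈ L, y.1 < D.nroots) →
      c.nw F w * (L.map fun y => c.xg y.1 y.2).prod * (c.nw F w)⁻¹ =
        (L.map fun y => c.xg (c.wl w y.1) ((c.wsign w y.1 : F) * y.2)).prod := by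
    intro L hL
    induction L with
    | nil => simp
    | cons y L ih =>
      rw [List.map_cons, List.prod_cons, List.map_cons, List.prod_cons,
        ← ih fun z hz => hL z (by simp [hz]),
        ← mul_inv_cancel_right (c.xg (c.wl w y.1) ((c.wsign w y.1 : F) * y.2)) (c.nw F w),
        ← c.nw_mul_xg hw' (hL y (by simp))]
      group
  have h3 := hconj ((c.T.commTerms s l).map fun y =>
    (y.1, (y.2.1 : F) * (-1) ^ y.2.2.1 * 1 ^ y.2.2.2)) (fun y hy => by
      obtain ⟨z, hz, rfl⟩ := List.mem_map.1 hy; exact hlt z hz)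
  simp only [List.map_map, Function.comp_def] at h3
  rw [h3, hE, List.map_cons, List.prod_cons, ← c.wlT_eq w x, hxp, ← c.simple_eq hp] at h2
  refine ⟨_, ?_, _, ?_, h2⟩
  · refine Subgroup.list_prod_mem _ fun g hg => ?_
    obtain ⟨y, hy, rfl⟩ := List.mem_map.1 hg
    obtain ⟨hpos, hnp⟩ := hrest y hy
    rw [c.wlT_eq] at hpos hnp
    exact c.xg_mem_Up ⟨hpos, c.wl_lt hw' (hlt y (by rw [hE]; simp [hy]))⟩
      (by rw [c.simple_eq hp]; exact ne_of_beq_false hnp) _
  · refine mul_ne_zero (c.wsign_ne_zero _ _) (mul_ne_zero (mul_ne_zero ?_ ?_) ?_)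
    · rcases hC with h | h <;> rw [of_intBeq h] <;> simp
    · exact pow_ne_zero _ (by simp)
    · exact pow_ne_zero _ one_ne_zero

/-- An element of the group commuting with elements having each fundamental coefficient, in a set
normalised by the words of nodes, is trivial. -/
theorem eq_one_of_gens {g : GL D.Idx F} (hg : g ∈ D.group F) (X : Subgroup (GL D.Idx F))
    (hcomm : ∀ x ∈ X, Commute g x)
    (hn : ∀ L : List ℕ, (∀ p ∈ L, p < D.rank) → ∀ x ∈ X, c.nw F L * x * (c.nw F L)⁻¹ ∈ X)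
    (hgen : ∀ p < D.rank, ∃ k ∈ Up D F p, ∃ e : F, e ≠ 0 ∧ c.xg (D.simple p) e * k ∈ X) :
    g = 1 := by
  have hB : ∀ y : GL D.Idx F, y ∈ D.group F → (∀ x ∈ X, Commute y x) →
      y ∈ D.borelSubgroup F := by
    intro y hy hyc
    obtain ⟨b, hb, a, ha, L, hL, u, hu, rfl⟩ := c.bruhat_exists hy
    by_cases hq : ∀ q < D.rank, c.Pos (c.wl L (D.simple q))
    · exact mul_mem (mul_mem hb (c.H_le_B (c.mem_H_of_wl ha hL hq)))
        (Subgroup.mem_sup_left (c.KS_invSet_le_U hL hu))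
    exfalso
    push Not at hq
    obtain ⟨q, hq, hneg⟩ := hq
    obtain ⟨k₀, hk₀, e₀, he₀, hmem⟩ := hgen q hq
    have hα := c.simple_lt hq
    set x := c.xg (D.simple q) e₀ * k₀ with hxdef
    have hxU : x ∈ D.posUnipotent F :=
      mul_mem (c.xg_mem_U (c.pos_simple hq) e₀) (c.Up_le_U q hk₀)
    have huU := c.KS_invSet_le_U hL hu
    have hux : u * x ∈ c.K F c.T.h := by rw [← c.posUnipotent_eq]; exact mul_mem huU hxU
    obtain ⟨v, hv, w, hw, e⟩ := c.exists_mul_KS (c.keepSet_closed hL) (c.invSet_closed hL)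
      (fun r hr => by by_cases h : c.Pos (c.wl L r); exacts [Or.inl ⟨hr, h⟩, Or.inr ⟨hr, h⟩])
      _ c.T.h rfl le_rfl _ hux
    have hcm := (hyc x hmem).eq
    rw [mul_assoc, e] at hcm
    set n := a * c.nw F L with hn'
    obtain ⟨-, hwu⟩ := c.bruhat_unique_factors ha hL
      (mul_mem hb (Subgroup.mem_sup_left (c.conj_keep_mem_U ha hL hv)))
      (mul_mem (Subgroup.mem_sup_left hxU) hb) hw hu
      (show b * (n * v * n⁻¹) * n * w = x * b * n * u by
        calc b * (n * v * n⁻¹) * n * w = b * n * (v * w) := by group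
          _ = x * (b * n * u) := hcm
          _ = _ := by group)
    rw [hwu] at e
    have hvUp : v ∈ Up D F q := by
      refine (Subgroup.closure_le _).2 ?_ hv
      rintro _ ⟨r, t, hr, -, rfl⟩
      exact c.xg_mem_Up hr.1 (fun e => hneg (e ▸ hr.2)) t
    obtain ⟨k, hk, t, hkt⟩ := c.exists_Up_mul hq huU
    have hx' : c.xg (D.simple q) t * x * (c.xg (D.simple q) t)⁻¹ ∈ Up D F q := by
      have e3 : v = u * x * u⁻¹ := by rw [e]; group
      have e4 : c.xg (D.simple q) t * x * (c.xg (D.simple q) t)⁻¹ = k⁻¹ * v * k := by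
        rw [e3, hkt]; group
      rw [e4]; exact mul_mem (mul_mem (inv_mem hk) hvUp) hk
    refine he₀ (c.xg_simple_mem_Up hq ?_)
    have h5 := mul_mem hx' (inv_mem (c.xg_conj_Up hq (Or.inl rfl) t hk₀))
    convert h5 using 1
    have hc : c.xg (D.simple q) t * c.xg (D.simple q) e₀ =
        c.xg (D.simple q) e₀ * c.xg (D.simple q) t := by
      rw [← c.xg_add, ← c.xg_add, add_comm]
    rw [hxdef, show ∀ T E k : GL D.Idx F, T * (E * k) * T⁻¹ * (T * k * T⁻¹)⁻¹ = T * E * T⁻¹
      from fun T E k => by group, hc, mul_inv_cancel_right]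
  obtain ⟨L, hL, hlong⟩ := c.exists_longest
  set n := c.nw F L with hn'
  have hnN := c.nw_mem_N (F := F) hL
  have hnG : n ∈ D.group F := c.N_le_group hnN
  obtain ⟨u, hu, t, ht, e⟩ := c.mem_borel_iff.1
    (hB _ (mul_mem (mul_mem (inv_mem hnG) hg) hnG) fun x hx => by
      have := (hcomm _ (hn L hL x hx)).eq
      calc n⁻¹ * g * n * x = n⁻¹ * (g * (n * x * n⁻¹)) * n := by group
        _ = n⁻¹ * (n * x * n⁻¹ * g) * n := by rw [this]
        _ = _ := by group)
  have huV : n * u * n⁻¹ ∈ D.negUnipotent F := by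
    have hle : (D.posUnipotent F).map (MulAut.conj n).toMonoidHom ≤ D.negUnipotent F := by
      rw [ChevalleyDatum.posUnipotent, MonoidHom.map_closure, Subgroup.closure_le]
      rintro x ⟨y, ⟨r, s, hr, hy⟩, rfl⟩
      obtain rfl := c.eq_xg_iff.1 hy
      have hr' := c.posRoot_iff.1 hr
      show n * c.xg r s * n⁻¹ ∈ D.negUnipotent F
      rw [hn', c.nw_mul_xg hL hr'.2, mul_inv_cancel_right]
      exact c.xg_mem_V (c.wl_lt hL hr'.2) (hlong r hr') _
    exact hle ⟨u, hu, rfl⟩
  have hgH : g ∈ D.diagonalSubgroup F := by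
    refine c.borel_inf_negUnipotent.2.le (Subgroup.mem_inf.2 ⟨hB g hg hcomm, ?_⟩)
    rw [show g = (n * u * n⁻¹) * (n * t * n⁻¹) by
      calc g = n * (n⁻¹ * g * n) * n⁻¹ := by group
        _ = _ := by rw [e]; group]
    exact mul_mem (Subgroup.mem_sup_left huV) (Subgroup.mem_sup_right (c.N_conj_H hnN ht))
  obtain ⟨z, hz⟩ := c.diagonalSubgroup_eq.le hgH
  rw [← hz]
  have hchar : ∀ p < D.rank, c.tchar z (D.simple p) = 1 := by
    intro p hp
    obtain ⟨k, hk, e, he, hm⟩ := hgen p hp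
    have h1 := (hcomm _ hm).eq
    rw [← hz] at h1
    set z' := c.torus z
    have h2 : c.xg (D.simple p) ((c.tchar z (D.simple p) : F) * e) * (z' * k * z'⁻¹) =
        c.xg (D.simple p) e * k := by
      rw [← c.torus_conj_xg z (c.simple_lt hp)]
      calc _ = z' * (c.xg (D.simple p) e * k) * z'⁻¹ := by simp only [z']; group
        _ = _ := by rw [h1, mul_inv_cancel_right]
    have h3 : c.xg (D.simple p) (((c.tchar z (D.simple p) : F) - 1) * e) =
        k * (z' * k * z'⁻¹)⁻¹ := by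
      rw [sub_mul, one_mul, sub_eq_neg_add, c.xg_add, ← c.xg_inv, eq_mul_inv_iff_mul_eq,
        mul_assoc, h2, inv_mul_cancel_left]
    have h4 := mul_mem hk (inv_mem (c.torus_conj_Up z hk))
    rw [← h3] at h4
    exact Units.ext (sub_eq_zero.1
      ((mul_eq_zero.1 (c.xg_simple_mem_Up hp h4)).resolve_right he))
  rw [Cert.torus_apply, ← map_one (dg D F)]
  refine (dg_eq_iff D F).2 fun s hs => ?_
  show c.tchar z s = 1
  rw [c.tchar_eq_prod z hs]
  exact Finset.prod_eq_one fun i hi => by rw [hchar i (Finset.mem_range.1 hi), _root_.one_zpow]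

variable {j : ℕ} (hj : c.T.checkGrade j = true)

include hj

/-- A finite group over the subfield group, with all radical conjugates of the lowest root
subgroup fixed, is fixed. -/
theorem over_fixed {d : ReachData} (hd : c.T.checkReach d = true) {φ : F →+* F}
    {H : Subgroup (GL D.Idx F)} (hO : Over c φ H)
    (hmain : ∀ v ∈ c.rad F j, ∀ k : F, k ≠ 0 → v * c.xg 0 k * v⁻¹ ∈ H →
      fixedBy φ (v * c.xg 0 k * v⁻¹))
    {h : GL D.Idx F} (hh : h ∈ H) : Matrix.GeneralLinearGroup.map φ h = h := by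
  have hL₀ := c.checkWord_spec (w := d.L₀) (x := 0) (by
    simp only [Tables.checkReach, Bool.and_eq_true] at hd
    exact hd.1)
  set Φ := Matrix.GeneralLinearGroup.map (n := D.Idx) φ
  let X : Subgroup (GL D.Idx F) :=
    { carrier := {x | ∀ g ∈ H, Φ (g * x * g⁻¹) = g * x * g⁻¹}
      one_mem' := fun g _ => by simp
      mul_mem' := fun {x y} hx hy g hg => by
        rw [show g * (x * y) * g⁻¹ = (g * x * g⁻¹) * (g * y * g⁻¹) by group, map_mul, hx g hg,
          hy g hg]
      inv_mem' := fun {x} hx g hg => by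
        rw [show g * x⁻¹ * g⁻¹ = (g * x * g⁻¹)⁻¹ by group, map_inv, hx g hg] }
  have hsX : ∀ s < D.nroots, ∀ e : F, (e = 1 ∨ e = -1) → ∀ x ∈ X,
      c.xg s e * x * (c.xg s e)⁻¹ ∈ X := fun s hs e he x hx g hg => by
    have hm : c.xg s e ∈ H := hO.root s hs e (by rcases he with rfl | rfl <;> simp)
    rw [show g * (c.xg s e * x * (c.xg s e)⁻¹) * g⁻¹ =
      (g * c.xg s e) * x * (g * c.xg s e)⁻¹ by group]
    exact hx _ (mul_mem hg hm)
  have hgens := c.gens_mem hd (c.top_lt hj) X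
    (fun t ht g hg => c.top_core hj hL₀ hO hmain hg (by rcases ht with rfl | rfl <;> simp)) hsX
  have hG := hO.le hh
  have h1 := c.eq_one_of_gens (g := h⁻¹ * Φ h)
    (mul_mem (inv_mem hG) (c.group_map φ hG)) X (fun x hx => by
      have h2 : Φ x = x := by
        have := hx 1 (one_mem H)
        rwa [one_mul, inv_one, mul_one] at this
      have h1 := hx h hh
      rw [map_mul, map_mul, map_inv, h2] at h1
      show h⁻¹ * Φ h * x = x * (h⁻¹ * Φ h)
      calc h⁻¹ * Φ h * x = h⁻¹ * (Φ h * x * (Φ h)⁻¹) * Φ h := by group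
        _ = _ := by rw [h1]; group) (c.nw_conj_mem X hsX) hgens
  exact (inv_mul_eq_one.1 h1).symm

/-- The parameters of the highest root elements in a finite group over a subfield group form a
finite subfield, and all root elements over it belong to the group. -/
theorem over_field (p : ℕ) [Fact p.Prime] [CharP F p] {d : ReachData}
    (hd : c.T.checkReach d = true) {a g : ℕ} {C : ℤ} (hdb : c.T.checkDoublet a g C = true)
    (A₀ : Subfield F) [Finite A₀] {H : Subgroup (GL D.Idx F)} [Finite H]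
    (hroot : ∀ r < D.nroots, ∀ t ∈ A₀, c.xg r t ∈ H) :
    ∃ L : Subfield F, Finite L ∧ A₀ ≤ L ∧ (∀ s, c.xg c.top s ∈ H → s ∈ L) ∧
      ∀ r < D.nroots, ∀ t ∈ L, c.xg r t ∈ H := by
  classical
  have hT := c.top_lt hj
  have fin_of : ∀ L : Subfield F, (∀ t ∈ L, c.xg c.top t ∈ H) →
      ∀ r < D.nroots, ∀ t ∈ L, c.xg r t ∈ H := by
    intro L hL
    have hn := c.nw_conj_mem H fun s hs e he x hx => by
      have : c.xg s e ∈ H := hroot s hs e (by
        rcases he with rfl | rfl
        exacts [A₀.one_mem, A₀.neg_mem A₀.one_mem])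
      exact mul_mem (mul_mem this hx) (inv_mem this)
    obtain ⟨hw0, e0⟩ := c.checkWord_spec (w := d.L₀) (x := 0) (by
      simp only [Tables.checkReach, Bool.and_eq_true] at hd
      exact hd.1)
    have h0 : ∀ t ∈ L, c.xg 0 t ∈ H := e0 ▸ c.moved_mem H hn L hw0 hT hL
    refine c.reach hd hT L H hL (fun s hs hp t ht => ?_) hn
    by_cases ht0 : t = 0
    · subst ht0; rw [c.xg_zero]; exact one_mem _
    have hng : ∀ z ∈ L, z ≠ 0 → c.ng c.top z ∈ H := fun z hz _ => by
      rw [Cert.ng, c.neg_top hj]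
      exact mul_mem (mul_mem (hL z hz) (h0 _ (L.neg_mem (L.inv_mem hz)))) (hL z hz)
    have hh : c.hg c.top t ∈ H :=
      mul_mem (hng t ht ht0) (hng _ (L.neg_mem L.one_mem) (by simp))
    have h := mul_mem (mul_mem hh (hroot s hs 1 A₀.one_mem)) (inv_mem hh)
    have e := c.hg_mul_xg hT hs (Units.mk0 t ht0) (1 : F)
    rw [hp, zpow_one, mul_one, Units.val_mk0] at e
    rwa [e, mul_inv_cancel_right] at h
  by_cases hμ : ∃ μ, c.xg c.top μ ∈ H ∧ ∀ n : ℕ, μ ≠ n
  swap
  · push Not at hμ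
    refine ⟨A₀, inferInstance, le_rfl, fun s hs => ?_, hroot⟩
    obtain ⟨n, rfl⟩ := hμ s hs
    exact natCast_mem A₀ n
  obtain ⟨μ, hμ, hμn⟩ := hμ
  set DD := (c.rootPairs F ⊓ H.comap (MonoidHom.fst _ _)).map (MonoidHom.snd _ _)
  haveI : Finite DD := by
    have hch : ∀ A : DD, ∃ x : H, (x.1, A.1) ∈ c.rootPairs F := fun A => by
      obtain ⟨P, hP, e⟩ := Subgroup.mem_map.1 A.2
      refine ⟨⟨P.1, hP.2⟩, ?_⟩
      rw [← show P.2 = A.1 from e]
      exact hP.1
    choose f hf using hch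
    refine Finite.of_injective f fun A B h => Subtype.ext ?_
    have hA := hf A
    rw [h] at hA
    exact c.pairs_unique hj hdb hA (hf B)
  have hin : ∀ s, c.xg c.top s ∈ H → up s ∈ DD := fun s hs =>
    ⟨(c.xg c.top s, up s), ⟨c.pairs_top hj s, hs⟩, rfl⟩
  obtain ⟨L, hLfin, hLs, -, hLD⟩ := Cfsg.Agent.Grp.UpperLower.exists_subfield p DD (μ := μ)
    (k := (1 : F)) one_ne_zero (hin 1 (hroot _ hT 1 A₀.one_mem)) (hin μ hμ) hμn
    ⟨(c.xg 0 1, low 1), ⟨c.pairs_zero hj 1, hroot 0 (c.zero_lt hj) 1 A₀.one_mem⟩, rfl⟩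
  refine ⟨L, hLfin, fun t ht => hLs t (hin t (hroot _ hT t ht)), fun s hs => hLs s (hin s hs),
    fin_of L fun t ht => ?_⟩
  obtain ⟨P, ⟨hP1, hP2⟩, e⟩ := hLD (up t) fun i l => by
    rw [up_coe]; fin_cases i <;> fin_cases l <;> simp [ht]
  have e' : P.2 = up t := e
  have hn : P.1 = c.hg c.top (P.2.1 0 0) * c.xg c.top (P.2.1 0 1 / P.2.1 0 0) :=
    (c.pairs_normal hj hdb hP1).1 (by simp [e', up_coe])
  have hP : P.1 ∈ H := hP2
  rw [hn, e'] at hP
  simpa [up_coe, c.hg_top_one hj] using hP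

end CertFull

end Cfsg.Agent.Lie.Chev
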