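import Cfsg.Agent.Lib.Lie.Chev.SubfieldSimply

/-! Subfield data of `F₄`: the coordinates at short roots, moved to long ones in odd characteristic
and read from a grade-zero coordinate in characteristic two. -/

set_option autoImplicit false
set_option maxRecDepth 20000

namespace Cfsg.Agent.Lie.Chev

open Cfsg.Lie Matrix

namespace Tables

variable (T : Tables)

/-- The coordinates of listed pairs. -/
def longCoords (Ls : List (ℕ × ℕ × ℕ × ℕ × ℕ)) : List ℕ :=
  Ls.flatMap fun x => [T.neg x.2.1, T.neg x.2.2.2.1]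

/-- The roots of listed pairs. -/
def longRoots (Ls : List (ℕ × ℕ × ℕ × ℕ × ℕ)) : List ℕ := Ls.flatMap fun x => [x.1, x.2.2.1]

/-- `s` moves the coordinate `uw` doubled to `u`, other contributions coming from `LU`. -/
def checkDouble (j : ℕ) (LU : List ℕ) (uw s u : ℕ) : Bool :=
  Nat.ble T.h s && Nat.blt s T.n && intBeq (T.vec s j) 0 && !(Nat.beq u s) && Nat.blt u T.n &&
    LU.any (Nat.beq u) && (T.rowCols s u).any (Nat.beq uw) &&
    (T.rowCols s u).all (fun x => Nat.beq x uw || LU.any (Nat.beq x)) &&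
    match T.entry s uw with
    | (x, C) :: rest => Nat.beq x u && (intBeq C 2 || intBeq C (-2)) &&
        rest.all fun q => !(Nat.beq q.1 u)
    | [] => false

/-- The coefficient at `b` of a chain is even. -/
def evenAt (L : List (ℕ × ℤ)) (b : ℕ) : Bool :=
  L.all fun q => !(Nat.beq q.1 b) || intBeq (q.2 % 2) 0

/-- The coordinate at `b` reads the square of the parameter of `w`. -/
def checkSquare (j : ℕ) (LM : List ℕ) (w b : ℕ) : Bool :=
  Nat.blt b T.n && !(Nat.beq b 0) && (match T.entry w 0 with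
    | (x, _) :: (y, C) :: rest => !(Nat.beq x b) && Nat.beq y b && (intBeq C 1 || intBeq C (-1)) &&
        rest.all fun q => !(Nat.beq q.1 b)
    | _ => false) &&
    (List.range T.n).all fun r => !(decide (0 < T.vec r j)) || LM.any (Nat.beq r) ||
      (!(Nat.beq b r) && (T.rowCols r b).all fun x => (Nat.beq r w && Nat.beq x 0) ||
        evenAt (T.entry r x) b) && (!(Nat.beq r w) || (T.rowCols r b).any (Nat.beq 0))

/-- The frame carrying the coordinates `u₁` and `b` to the lowest one and one in `LU`. -/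
def checkFrame (j : ℕ) (LU : List ℕ) (b m₀ u₁ : ℕ) (L : List ℕ) : Bool :=
  L.all (fun p => Nat.blt p T.l) && Nat.blt m₀ T.n && intBeq (T.vec m₀ j) 1 &&
    !(Nat.beq u₁ m₀) && !(Nat.beq b m₀) && Nat.blt u₁ T.n && LU.any (Nat.beq u₁) &&
    oneEntry (T.entry m₀ 0) u₁ && (match T.rowCols m₀ u₁ with | [x] => Nat.beq x 0 | _ => false) &&
    (T.rowCols m₀ b).all (fun x => LU.any (Nat.beq x)) &&
    Nat.beq (T.wlT L u₁) 0 && LU.any (Nat.beq (T.wlT L b))

/-- The checks for one short root. -/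
def checkShortCoord (j : ℕ) (Ls : List (ℕ × ℕ × ℕ × ℕ × ℕ))
    (x : ℕ × ℕ × ℕ × ℕ × ℕ × ℕ × ℕ × List ℕ) : Bool :=
  match x with
  | (w, uw, s, u, b, m₀, u₁, L) =>
    T.checkDouble j (T.longCoords Ls) uw s u && T.checkSquare j (longRoots Ls) w b &&
      T.checkFrame j (T.longCoords Ls) b m₀ u₁ L && Nat.blt w T.n && intBeq (T.vec w j) 1 &&
      T.coordAt j (T.entry w 0) && (match T.entry w 0 with | (y, _) :: _ => Nat.beq y uw | _ => false)

end Tables

theorem cast_even {F : Type*} [Field F] (h2 : (2 : F) = 0) {C : ℤ} (hC : C % 2 = 0) :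
    (C : F) = 0 := by
  rw [show C = 2 * (C / 2) by omega, Int.cast_mul]
  simp [h2]

theorem chainVec_even {D : ChevalleyDatum} {F : Type*} [Field F] (h2 : (2 : F) = 0) (τ : F)
    {b : ℕ} (hb : b < D.nroots) : ∀ (i : ℕ) (L : List (ℕ × ℤ)),
    Tables.evenAt L b = true → chainVec D F τ i L (Sum.inr ⟨b, hb⟩) = 0 := by
  intro i L
  induction L generalizing i with
  | nil => intro _; rfl
  | cons q L ih =>
    intro h
    simp only [Tables.evenAt, List.all_cons, Bool.and_eq_true, Bool.or_eq_true,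
      Bool.not_eq_true'] at h
    rw [chainVec, Pi.add_apply, Pi.smul_apply, ih (i + 1) h.2, add_zero]
    rcases h.1 with e | e
    · simp [evec, Ne.symm (ne_of_beq_false e)]
    · rw [cast_even h2 (of_intBeq e)]; simp

namespace CertFull

variable {D : ChevalleyDatum} (c : CertFull D) {F : Type*} [Field F]

include c

variable {j : ℕ} (hj : c.T.checkGrade j = true)

include hj

/-- The coordinate of a root of grade one sees no other root element. -/
theorem coord_xg_first {w : ℕ} (hw : w < D.nroots) {u : ℕ} {C : ℤ} {rest : List (ℕ × ℤ)}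
    (hE : c.T.entry w 0 = (u, C) :: rest) (hu : c.T.vec u j = -1)
    (hrest : ∀ q ∈ rest, q.1 ≠ u) {r : ℕ} (hr : r ∈ c.radS j) (t : F) (hne : w ≠ c.top) :
    ∃ hul : u < D.nroots, coord0 (c.xg r t) u = if r = w then (C : F) * t else 0 := by
  have h0 := c.zero_lt hj
  have hul : u < D.nroots := c.entry_lt hw h0 (u, C) (by rw [hE]; simp)
  refine ⟨hul, ?_⟩
  rw [c.coord_xg hj hr hul hu]
  by_cases hrw : r = w
  · subst hrw
    rw [if_pos rfl, if_neg hne, hE, chainVec, Pi.add_apply,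
      c.chainVec_eq_zero hul _ _ rest hrest, add_zero]
    simp [evec]
  rw [if_neg hrw]
  split
  · rfl
  refine c.chainVec_eq_zero _ _ 1 _ fun q hq e => hrw ?_
  obtain ⟨i, hi⟩ := List.getElem?_of_mem hq
  have hroot : c.T.chainRoot r 0 (i + 1) = some q.1 := by
    rw [Tables.chainRoot, Nat.add_sub_cancel, hi]; rfl
  have hjr := (c.grade_spec hj).1
  have hv1 := c.chainRoot_vec hr.1 h0 (by omega) hroot hjr
  have hc1 := c.chainRoot_code hr.1 h0 (by omega) hroot
  have hroot' : c.T.chainRoot w 0 1 = some u := by rw [Tables.chainRoot, hE]; rfl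
  have hc2 := c.chainRoot_code hw h0 le_rfl hroot'
  rw [e, hu, c.vec_zero hj] at hv1
  rw [e] at hc1
  have h2 := hr.2
  have hi1 : ((i + 1 : ℕ) : ℤ) = 1 := by
    by_contra hcon
    have : (2 : ℤ) ≤ ((i + 1 : ℕ) : ℤ) := by omega
    nlinarith
  rw [hi1] at hc1
  exact c.code_inj hr.1 hw (by push_cast at hc1 hc2; linarith)

variable (p : ℕ) [Fact p.Prime] [CharP F p] {φ : F →+* F} {H : Subgroup (GL D.Idx F)}
  (hO : Over c φ H) {Ls : List (ℕ × ℕ × ℕ × ℕ × ℕ)} (hL : Ls.all (c.T.checkLong j) = true)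

include hO hL

omit hO in
/-- The members of the listed pairs. -/
theorem long_mem {r : ℕ} (hr : r ∈ (Tables.longRoots Ls)) : ∃ a, c.T.checkPencil j r a = true ∧
    D.neg a ∈ c.T.longCoords Ls := by
  simp only [Tables.longRoots, List.mem_flatMap] at hr
  obtain ⟨⟨m, a, m', a', s⟩, hx, hr⟩ := hr
  have hck := List.all_eq_true.1 hL _ hx
  simp only [Tables.checkLong, Bool.and_eq_true] at hck
  obtain ⟨-, ha, -, -, -, -, -, -, -, -, -, e⟩ := c.pencil_spec hj hck.1.1.1.1.1
  obtain ⟨-, ha', -, -, -, -, -, -, -, -, -, e'⟩ := c.pencil_spec hj hck.1.1.1.1.2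
  simp only [List.mem_cons, List.not_mem_nil, or_false] at hr
  rcases hr with rfl | rfl
  · exact ⟨a, hck.1.1.1.1.1, List.mem_flatMap.2 ⟨_, hx, by simp [e]⟩⟩
  · exact ⟨a', hck.1.1.1.1.2, List.mem_flatMap.2 ⟨_, hx, by simp [e']⟩⟩

include p in
theorem longCoord_fixed {v : GL D.Idx F} (hv : v ∈ c.rad F j) {k : F} (hk : k ≠ 0)
    (hy : v * c.xg 0 k * v⁻¹ ∈ H) {u : ℕ} (hu : u ∈ c.T.longCoords Ls) :
    φ (coord0 v u) = coord0 v u ∧ u < D.nroots ∧ c.T.vec u j = -1 := by
  simp only [Tables.longCoords, List.mem_flatMap] at hu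
  obtain ⟨⟨m, a, m', a', s⟩, hx, hu⟩ := hu
  simp only [List.mem_cons, List.not_mem_nil, or_false] at hu
  have hck := List.all_eq_true.1 hL _ hx
  simp only [Tables.checkLong, Bool.and_eq_true] at hck
  obtain ⟨-, ha, -, -, -, -, -, -, -, g, -, e⟩ := c.pencil_spec hj hck.1.1.1.1.1
  obtain ⟨-, ha', -, -, -, -, -, -, -, g', -, e'⟩ := c.pencil_spec hj hck.1.1.1.1.2
  refine ⟨c.covered_fixed p hj hL hO hv hk hy ⟨_, hx, hu⟩, ?_⟩
  rcases hu with rfl | rfl
  · rw [e]; exact ⟨c.neg_lt ha, g⟩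
  · rw [e']; exact ⟨c.neg_lt ha', g'⟩

include p in
/-- A conjugate with the long coordinates stripped. -/
theorem exists_stripped {v : GL D.Idx F} (hv : v ∈ c.rad F j) {k : F} (hk : k ≠ 0)
    (hy : v * c.xg 0 k * v⁻¹ ∈ H) : ∀ R : List ℕ, R.Nodup → (∀ r ∈ R, r ∈ (Tables.longRoots Ls)) →
    ∃ v' ∈ c.rad F j, v' * c.xg 0 k * v'⁻¹ ∈ H ∧
      (∀ r ∈ R, ∀ a, c.T.checkPencil j r a = true → coord0 v' (D.neg a) = 0) ∧
      ∀ u < D.nroots, c.T.vec u j = -1 →
        (∀ r ∈ R, ∀ t : F, coord0 (c.xg r t) u = 0) → coord0 v' u = coord0 v u := by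
  intro R
  induction R with
  | nil => intro _ _; exact ⟨v, hv, hy, by simp, fun u _ _ _ => rfl⟩
  | cons r R ih =>
    intro hnd hmem
    obtain ⟨hrR, hnd'⟩ := List.nodup_cons.1 hnd
    obtain ⟨v', hv', hy', hz, hsame⟩ := ih hnd' fun x hx => hmem x (by simp [hx])
    obtain ⟨a, hp, hin⟩ := c.long_mem hj hL (hmem r (by simp))
    obtain ⟨hm, ha, -, hmS, -, e3, -, -, -, hu, -, -⟩ := c.pencil_spec hj hp
    obtain ⟨hfix, -, -⟩ := c.longCoord_fixed hj p hO hL hv' hk hy' hin
    obtain ⟨E, hE, hEt⟩ := c.coord_xg_self hj hp (1 : F)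
    set t : F := -(E * coord0 v' (D.neg a))
    have ht : φ t = t := by rw [map_neg, map_mul, map_unit φ hE, hfix]
    obtain ⟨hv'', hy''⟩ := c.strip_mem hj hO hmS ht hv' hy'
    obtain ⟨E', hE', hEt'⟩ := c.coord_xg_self hj hp t
    refine ⟨_, hv'', hy'', fun x hx b hb => ?_, fun u hul hgu h => ?_⟩
    · obtain ⟨-, hb', -, -, -, -, -, -, -, hub, -, -⟩ := c.pencil_spec hj hb
      rw [c.coord_mul hj (c.xg_mem_rad hj hmS t) hv' (c.neg_lt hb') hub]
      rcases List.mem_cons.1 hx with rfl | hx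
      · obtain ⟨-, -, -, -, ⟨Ea, -, ea⟩, -⟩ := c.pencil_conj hj hp (F := F)
        obtain ⟨-, -, -, -, ⟨Eb, -, eb⟩, -⟩ := c.pencil_conj hj hb (F := F)
        rw [ea] at eb
        have : D.neg a = D.neg b := congrArg Prod.fst (List.cons.inj eb).1
        rw [← this]
        have hEa : E = (Ea : F) ∧ E' * t = (Ea : F) * t := by
          constructor
          · rw [c.coord_xg hj hmS (c.neg_lt ha) hu, if_neg fun e => by
              rw [e, (c.grade_spec hj).2.1] at e3; omega, ea] at hEt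
            simpa [chainVec, evec] using hEt.symm
          · rw [← hEt', c.coord_xg hj hmS (c.neg_lt ha) hu, if_neg fun e => by
              rw [e, (c.grade_spec hj).2.1] at e3; omega, ea]
            simp [chainVec, evec]
        rw [hEt', hEa.2, ← hEa.1]
        simp only [t]
        linear_combination -(coord0 v' (D.neg a)) * hE
      · rw [c.coord_xg_other hj hb hmS (fun e : r = x => hrR (e ▸ hx)) t, zero_add]
        exact hz x hx b hb
    · rw [c.coord_mul hj (c.xg_mem_rad hj hmS t) hv' hul hgu, h r (by simp), zero_add]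
      exact hsame u hul hgu fun x hx => h x (by simp [hx])

include p in
/-- A short coordinate lies in the subfield. -/
theorem short_fixed {x : ℕ × ℕ × ℕ × ℕ × ℕ × ℕ × ℕ × List ℕ}
    (hck : c.T.checkShortCoord j Ls x = true) (hnd : ((Tables.longRoots Ls)).Nodup) {L₀ : List ℕ}
    (hL₀ : (∀ q ∈ L₀, q < D.rank) ∧ c.wl L₀ c.top = 0)
    {v : GL D.Idx F} (hv : v ∈ c.rad F j) {k : F} (hk : k ≠ 0)
    (hy : v * c.xg 0 k * v⁻¹ ∈ H) : φ (coord0 v x.2.1) = coord0 v x.2.1 := by
  obtain ⟨w, uw, s, u, b, m₀, u₁, L⟩ := x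
  simp only [Tables.checkShortCoord, Bool.and_eq_true, Nat.blt_eq] at hck
  obtain ⟨⟨⟨⟨⟨⟨hD, hS⟩, hF⟩, hwn⟩, hwv⟩, hat⟩, hfst⟩ := hck
  show φ (coord0 v uw) = coord0 v uw
  rw [← c.nroots_eq] at hwn
  have hwS : w ∈ c.radS j := ⟨hwn, by rw [of_intBeq hwv]; omega⟩
  have hwT : w ≠ c.top := fun e => by
    have := of_intBeq hwv; rw [e, (c.grade_spec hj).2.1] at this; omega
  rcases hE : c.T.entry w 0 with _ | ⟨⟨y, C⟩, rest⟩
  · rw [hE] at hat; simp [Tables.coordAt] at hat
  rw [hE] at hat hfst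
  simp only [Nat.beq_eq] at hfst
  subst y
  simp only [Tables.coordAt, Bool.and_eq_true, Bool.or_eq_true, List.all_eq_true,
    Bool.not_eq_true'] at hat
  obtain ⟨⟨hu1, hC⟩, hrest⟩ := hat
  have huw := of_intBeq hu1
  obtain ⟨hwl, -⟩ := c.coord_xg_first hj hwn hE huw (fun q hq => ne_of_beq_false (hrest q hq))
    hwS (1 : F) hwT
  have hC2 : (C : F) * C = 1 := unit_sq (hC.imp of_intBeq of_intBeq)
  by_cases h2 : (2 : F) = 0
  swap
  · -- odd characteristic
    simp only [Tables.checkDouble, Bool.and_eq_true, Bool.or_eq_true, Bool.not_eq_true',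
      Nat.ble_eq, Nat.blt_eq, List.any_eq_true, List.all_eq_true, Nat.beq_eq] at hD
    obtain ⟨⟨⟨⟨⟨⟨⟨⟨hsh, hsn⟩, hs0⟩, hus⟩, hun⟩, ⟨u', huL, hue⟩⟩, ⟨x0, hx0, hxe⟩⟩, hall⟩, hm⟩ := hD
    subst u'; subst x0
    rcases hE2 : c.T.entry s uw with _ | ⟨⟨z, C'⟩, rest'⟩
    · rw [hE2] at hm; simp at hm
    rw [hE2] at hm
    simp only [Bool.and_eq_true, Bool.or_eq_true, Nat.beq_eq, List.all_eq_true,
      Bool.not_eq_true'] at hm
    obtain ⟨⟨hze, hC'⟩, hrest'⟩ := hm
    subst z
    have hs : c.Pos s := ⟨hsh, c.nroots_eq ▸ hsn⟩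
    have hul : u < D.nroots := c.nroots_eq ▸ hun
    obtain ⟨hv', hy'⟩ := c.shift_mem hj hO hs (of_intBeq hs0) (map_one φ) hv hy
    have h1 := (c.longCoord_fixed hj p hO hL hv' hk hy' huL).1
    have h3 := (c.longCoord_fixed hj p hO hL hv hk hy huL).1
    rw [c.shift_coord hj hs (of_intBeq hs0) 1 v hul (ne_of_beq_false hus), map_add, h3,
      add_right_inj] at h1
    -- split off the doubled column
    set g : ℕ → F := fun x => if h : x < D.nroots then
      coord0 v x * chainVec D F 1 1 (c.T.entry s x) (Sum.inr ⟨u, hul⟩) else 0 with hg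
    have hnd2 : (c.T.rowCols s u).Nodup := List.Nodup.filter _ List.nodup_range
    rw [← List.sum_toFinset g hnd2, ← Finset.add_sum_erase _ g (List.mem_toFinset.2 hx0),
      map_add, map_sum] at h1
    have hrest2 : ∀ z ∈ (c.T.rowCols s u).toFinset.erase uw, φ (g z) = g z := by
      intro z hz
      obtain ⟨hzne, hz⟩ := Finset.mem_erase.1 hz
      rcases hall z (List.mem_toFinset.1 hz) with e | ⟨z', hz', e⟩
      · exact absurd e hzne
      obtain rfl : z = z' := e
      obtain ⟨hfz, hzl, -⟩ := c.longCoord_fixed hj p hO hL hv hk hy hz'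
      simp only [hg, dif_pos hzl, map_mul, hfz]
      congr 1
      have : ∀ (i : ℕ) (L : List (ℕ × ℤ)), φ (chainVec D F 1 i L (Sum.inr ⟨u, hul⟩)) =
          chainVec D F 1 i L (Sum.inr ⟨u, hul⟩) := by
        intro i L
        induction L generalizing i with
        | nil => simp [chainVec]
        | cons q L ih =>
          rw [chainVec, Pi.add_apply, Pi.smul_apply, map_add, ih]
          by_cases hq : q.1 = u <;> simp [evec, hq, Ne.symm]
      exact this 1 _
    rw [Finset.sum_congr rfl hrest2, add_left_inj] at h1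
    simp only [hg, dif_pos hwl, hE2, chainVec, Pi.add_apply,
      c.chainVec_eq_zero hul _ _ rest' (fun q hq => ne_of_beq_false (hrest' q hq))] at h1
    simp [evec] at h1
    rcases h1 with h1 | h1
    · exact h1
    · exfalso
      rcases hC' with e | e <;> rw [of_intBeq e] at h1 <;> simp [h2] at h1
  -- characteristic two
  simp only [Tables.checkFrame, Bool.and_eq_true, Bool.not_eq_true', List.any_eq_true,
    List.all_eq_true, Nat.blt_eq, Nat.beq_eq] at hF
  obtain ⟨⟨⟨⟨⟨⟨⟨⟨⟨⟨⟨hLw, hm0⟩, hm0v⟩, hu1m⟩, hbm⟩, hu1n⟩, u1', hu1L, hu1e⟩, hent⟩, hrow1⟩, hrowb⟩,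
    hwl1⟩, u', huL, hub⟩ := hF
  simp only [Tables.checkSquare, Bool.and_eq_true, Bool.or_eq_true, Bool.not_eq_true',
    Nat.blt_eq, List.all_eq_true, List.any_eq_true, List.mem_range, decide_eq_false_iff_not,
    not_lt, Nat.beq_eq] at hS
  obtain ⟨⟨⟨hbn, hb0⟩, hsq⟩, hev⟩ := hS
  rw [← c.nroots_eq] at hm0 hu1n hbn
  subst u1'
  have h0 := c.zero_lt hj
  -- strip the long coordinates
  obtain ⟨v', hv', hy', hzero, hsame⟩ := c.exists_stripped hj p hO hL hv hk hy
    ((Tables.longRoots Ls)) hnd fun _ h => h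
  have hvv : coord0 v' uw = coord0 v uw := hsame uw hwl huw fun r hr t => by
    obtain ⟨a, hp, -⟩ := c.long_mem hj hL hr
    obtain ⟨hrn, -, -, hrS, -, -, -, -, -, -, -, -⟩ := c.pencil_spec hj hp
    obtain ⟨-, e⟩ := c.coord_xg_first hj hwn hE huw (fun q hq => ne_of_beq_false (hrest q hq))
      hrS t hwT
    rw [e, if_neg]
    intro hrw
    subst hrw
    obtain ⟨-, -, -, -, ⟨Ea, -, ea⟩, -⟩ := c.pencil_conj hj hp (F := F)
    rcases rest with _ | ⟨q, rest⟩
    · rw [hE] at hsq; simp at hsq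
    · rw [ea] at hE; simp at hE
  have hzU : ∀ z ∈ c.T.longCoords Ls, coord0 v' z = 0 := by
    intro z hz
    simp only [Tables.longCoords, List.mem_flatMap] at hz
    obtain ⟨⟨m, a, m', a', s'⟩, hx, hz⟩ := hz
    have hck := List.all_eq_true.1 hL _ hx
    simp only [Tables.checkLong, Bool.and_eq_true] at hck
    obtain ⟨-, -, -, -, -, -, -, -, -, -, -, e⟩ := c.pencil_spec hj hck.1.1.1.1.1
    obtain ⟨-, -, -, -, -, -, -, -, -, -, -, e'⟩ := c.pencil_spec hj hck.1.1.1.1.2
    simp only [List.mem_cons, List.not_mem_nil, or_false] at hz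
    rcases hz with rfl | rfl
    · rw [e]; exact hzero m (List.mem_flatMap.2 ⟨_, hx, by simp⟩) a hck.1.1.1.1.1
    · rw [e']; exact hzero m' (List.mem_flatMap.2 ⟨_, hx, by simp⟩) a' hck.1.1.1.1.2
  -- the grade zero coordinate is the square
  obtain ⟨t, ht, rfl⟩ := c.exists_oprod_KS (c.radS_closed hj) _ c.T.h rfl le_rfl v' hv'
  set R := List.range' c.T.h (D.nroots - c.T.h) with hR
  have hoprod : c.oprod c.T.h t = (R.map fun r => c.xg r (t r)).prod := by rw [Cert.oprod]
  have hmemr : ∀ r, c.xg r (t r) ∈ c.rad F j := fun r => by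
    by_cases hr : r ∈ c.radS j
    · exact c.xg_mem_rad hj hr _
    · rw [ht r hr, c.xg_zero]; exact one_mem _
  have hcoordsum : ∀ u, u < D.nroots → c.T.vec u j = -1 → ∀ L : List ℕ,
      (L.map fun r => c.xg r (t r)).prod ∈ c.rad F j ∧
      coord0 (L.map fun r => c.xg r (t r)).prod u =
        (L.map fun r => coord0 (c.xg r (t r)) u).sum := by
    intro u hu hgu L
    induction L with
    | nil => exact ⟨one_mem _, by simp [c.coord_one hj hu hgu]⟩
    | cons r L ih =>
      simp only [List.map_cons, List.prod_cons, List.sum_cons]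
      exact ⟨mul_mem (hmemr r) ih.1, by rw [c.coord_mul hj (hmemr r) ih.1 hu hgu, ih.2]⟩
  have hwmem : w ∈ R := by
    rw [hR, List.mem_range'_1]
    have := (c.radS_pos hj hwS).1
    have := c.h_add_h
    omega
  have hval : coord0 (c.oprod c.T.h t) uw = (C : F) * t w := by
    rw [hoprod, (hcoordsum uw hwl huw R).2, List.sum_map_eq_nsmul_single w _ fun r hr _ => by
      by_cases hrS : r ∈ c.radS j
      · obtain ⟨-, e⟩ := c.coord_xg_first hj hwn hE huw
          (fun q hq => ne_of_beq_false (hrest q hq)) hrS (t r) hwT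
        rw [e, if_neg hr]
      · rw [ht r hrS, c.xg_zero]; exact c.coord_one hj hwl huw,
      List.count_eq_one_of_mem List.nodup_range' hwmem, one_nsmul]
    obtain ⟨-, e⟩ := c.coord_xg_first hj hwn hE huw (fun q hq => ne_of_beq_false (hrest q hq))
      hwS (t w) hwT
    rw [e, if_pos rfl]
  have htlong : ∀ r ∈ (Tables.longRoots Ls), t r = 0 := by
    intro r hr
    obtain ⟨a, hp, -⟩ := c.long_mem hj hL hr
    obtain ⟨hrn, ha, -, hrS, -, -, -, -, -, hua, -, -⟩ := c.pencil_spec hj hp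
    have h := hzero r hr a hp
    obtain ⟨E, hE2, e⟩ := c.coord_xg_self hj hp (t r)
    rw [hoprod, (hcoordsum _ (c.neg_lt ha) hua R).2,
      List.sum_map_eq_nsmul_single r _ fun x hx _ => by
        by_cases hxS : x ∈ c.radS j
        · exact c.coord_xg_other hj hp hxS hx _
        · rw [ht x hxS, c.xg_zero]; exact c.coord_one hj (c.neg_lt ha) hua,
      List.count_eq_one_of_mem List.nodup_range' (by
        rw [List.mem_range'_1]
        have := (c.radS_pos hj hrS).1
        have := c.h_add_h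
        omega), one_nsmul, e] at h
    exact (mul_eq_zero.1 h).resolve_left (left_ne_zero_of_mul (hE2.trans_ne one_ne_zero))
  have hstep : ∀ r, ∀ z : D.Idx → F,
      ((c.xg r (t r) : GL D.Idx F) : Matrix D.Idx D.Idx F).mulVec z (Sum.inr ⟨b, hbn⟩) =
        z (Sum.inr ⟨b, hbn⟩) +
          (if r = w then t w ^ 2 else 0) * z (Sum.inr ⟨0, h0⟩) := by
    intro r z
    by_cases hrS : r ∈ c.radS j
    swap
    · have hrw : r ≠ w := fun e => hrS (e ▸ hwS)
      rw [ht r hrS, c.xg_zero, if_neg hrw]; simp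
    rcases hev r (c.nroots_eq ▸ hrS.1) with (h | ⟨x, hx, e⟩) | ⟨⟨hbr, hcols⟩, hw0⟩
    · exact absurd hrS.2 (by omega)
    · obtain rfl : r = x := e
      have hrw : r ≠ w := by
        intro e
        subst e
        obtain ⟨a, hp, -⟩ := c.long_mem hj hL hx
        obtain ⟨-, -, -, -, ⟨Ea, -, ea⟩, -⟩ := c.pencil_conj hj hp (F := F)
        rw [ea] at hsq; simp at hsq
      rw [htlong r hx, c.xg_zero, if_neg hrw]; simp
    have hbr' := ne_of_beq_false hbr
    rw [Cert.xg_val, c.mulVec_inr hrS.1 hbn hbr']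
    congr 1
    set g : ℕ → F := fun x => if h : x < D.nroots then
      z (Sum.inr ⟨x, h⟩) * chainVec D F (t r) 1 (c.T.entry r x) (Sum.inr ⟨b, hbn⟩) else 0 with hg
    have hz : ∀ x ∈ c.T.rowCols r b, ¬(r = w ∧ x = 0) → g x = 0 := by
      intro x hx hno
      rcases hcols x hx with h | h
      · exact absurd h hno
      · simp only [hg]
        split
        · rw [chainVec_even h2 _ hbn 1 _ h, mul_zero]
        · rfl
    by_cases hrw : r = w
    · subst hrw
      obtain ⟨x0, hx0, e⟩ := hw0.resolve_left (by simp)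
      obtain rfl : (0 : ℕ) = x0 := e
      rw [List.sum_map_eq_nsmul_single 0 _ fun x hx hm => hz x hm (fun h => hx h.2),
        List.count_eq_one_of_mem
          (show (c.T.rowCols r b).Nodup from List.Nodup.filter _ List.nodup_range) hx0, one_nsmul, if_pos rfl]
      simp only [hg, dif_pos h0]
      rw [hE] at hsq ⊢
      rcases rest with _ | ⟨⟨y2, C2⟩, rest⟩
      · simp at hsq
      simp only [Bool.and_eq_true, Bool.or_eq_true, Bool.not_eq_true', Nat.beq_eq,
        List.all_eq_true] at hsq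
      obtain ⟨⟨⟨hyb, rfl⟩, hC2'⟩, hrest2⟩ := hsq
      rw [chainVec, Pi.add_apply, chainVec, Pi.add_apply,
        c.chainVec_eq_zero hbn _ _ rest (fun q hq => ne_of_beq_false (hrest2 q hq))]
      simp [evec, Ne.symm (ne_of_beq_false hyb)]
      rcases hC2' with e | e <;> rw [of_intBeq e]
      · push_cast; ring
      · push_cast; linear_combination -(t r ^ 2 * z (Sum.inr ⟨0, h0⟩)) * h2
    · rw [if_neg hrw, zero_mul]
      refine List.sum_eq_zero fun y hy => ?_
      obtain ⟨x, hx, rfl⟩ := List.mem_map.1 hy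
      exact hz x hx fun h => hrw h.1
  have hfun : ∀ L : List ℕ, ∀ z : D.Idx → F,
      ((L.map fun r => c.xg r (t r)).prod : GL D.Idx F).val.mulVec z (Sum.inr ⟨0, h0⟩) =
          z (Sum.inr ⟨0, h0⟩) ∧
      ((L.map fun r => c.xg r (t r)).prod : GL D.Idx F).val.mulVec z (Sum.inr ⟨b, hbn⟩) =
        z (Sum.inr ⟨b, hbn⟩) +
          (L.map fun r => if r = w then t w ^ 2 else 0).sum * z (Sum.inr ⟨0, h0⟩) := by
    intro L
    induction L with
    | nil => intro z; simp
    | cons r L ih =>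
      intro z
      simp only [List.map_cons, List.prod_cons, List.sum_cons, Units.val_mul,
        ← Matrix.mulVec_mulVec]
      rw [hstep, (ih z).1, (ih z).2, c.U_zero_row hj (c.not_pos_zero hj)
        (c.rad_le_U hj (hmemr r)), (ih z).1]
      refine ⟨rfl, ?_⟩
      ring
  have hbval : coord0 (c.oprod c.T.h t) b = t w ^ 2 := by
    rw [coord0, dif_pos hbn, hoprod, (hfun R _).2,
      List.sum_map_eq_nsmul_single w _ fun r hr _ => if_neg hr,
      List.count_eq_one_of_mem List.nodup_range' hwmem, one_nsmul, if_pos rfl]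
    simp [evec, ne_of_beq_false hb0]
  have hB : coord0 (c.oprod c.T.h t) 0 = 1 := by
    rw [coord0, dif_pos h0, hoprod, (hfun R _).1]
    simp [evec]
  -- the frame
  set v' := c.oprod c.T.h t
  have hM : ∀ q ∈ L, q < D.rank := fun q hq => c.rank_eq ▸ hLw q hq
  set n := c.nw F L
  set n₀ := c.nw F L₀
  have hin : ∀ Lw : List ℕ, c.nw F Lw ∈ H := fun Lw => by
    have hle : fixedRootGroup D φ ≤ H := (Subgroup.closure_le _).2 fun g ⟨s, t, ht, hg⟩ => by
      obtain rfl := c.eq_xg_iff.1 hg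
      by_cases hs : s < D.nroots
      · exact hO.root s hs t ht
      · have e : c.xg s t = 1 := Units.ext (by simp [ChevalleyDatum.x, hs])
        rw [e]; exact one_mem _
    exact hle (c.nw_mem_fixed φ Lw)
  have hT := c.top_lt hj
  have hxm := hO.root m₀ hm0 1 (map_one φ)
  set h := n * c.xg m₀ (1 : F) * v' * n₀
  have hhG : h ∈ D.group F :=
    mul_mem (mul_mem (mul_mem (hO.le (hin L)) (hO.le hxm))
      (c.B_le_group (Subgroup.mem_sup_left (c.rad_le_U hj hv')))) (hO.le (hin L₀))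
  set σ₀ : F := (c.wsign L₀ c.top : F)
  have hσ₀ : σ₀ * σ₀ = 1 := c.wsign_sq _ _
  have hn₀ : n₀ * c.xg c.top (σ₀ * k) * n₀⁻¹ = c.xg 0 k := by
    rw [c.nw_mul_xg hL₀.1 hT, mul_inv_cancel_right, hL₀.2, ← mul_assoc, hσ₀, one_mul]
  have hzv : ∀ z, ((h : GL D.Idx F) : Matrix D.Idx D.Idx F) *ᵥ evec D F c.top = z →
      ∀ (y : ℕ) (hy : y < D.nroots), y ≠ m₀ → z (Sum.inr ⟨c.wl L y, c.wl_lt hM hy⟩) =
        (c.wsign L y : F) * (σ₀ * (coord0 v' y + ((c.T.rowCols m₀ y).map fun x =>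
          if hx : x < D.nroots then coord0 v' x *
            chainVec D F 1 1 (c.T.entry m₀ x) (Sum.inr ⟨y, hy⟩) else 0).sum)) := by
    intro z hz y hy hym
    rw [← hz]
    simp only [h, n₀, Units.val_mul, ← Matrix.mulVec_mulVec]
    rw [c.nw_coord hM hy, c.nw_evec hL₀.1 hT, hL₀.2]
    simp only [Matrix.mulVec_smul, Pi.smul_apply, smul_eq_mul, σ₀]
    congr 2
    rw [Cert.xg_val, c.mulVec_inr hm0 hy hym, coord0, dif_pos hy]
    congr 2
    refine List.map_congr_left fun x _ => ?_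
    split
    · rename_i hx; rw [coord0, dif_pos hx]
    · rfl
  have hrow1' : c.T.rowCols m₀ u₁ = [0] := by
    match hr : c.T.rowCols m₀ u₁, hrow1 with
    | [x], h => rw [Nat.beq_eq] at h; rw [h]
  obtain ⟨E0, hE0, hEeq⟩ := oneEntry_spec hent
  have hwl0 : c.wl L u₁ = 0 := by rw [← c.wlT_eq]; exact hwl1
  have hz0 : ((h : GL D.Idx F) : Matrix D.Idx D.Idx F).mulVec (evec D F c.top)
      (Sum.inr ⟨0, h0⟩) = (c.wsign L u₁ : F) * (σ₀ * E0) := by
    have e := hzv _ rfl u₁ hu1n (ne_of_beq_false hu1m)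
    simp only [hrow1', hzU u₁ hu1L, hwl0] at e
    rw [e]
    simp [hB, h0, hEeq, chainVec, evec]
  have hσne : σ₀ ≠ 0 := left_ne_zero_of_mul (hσ₀.trans_ne one_ne_zero)
  have hE0ne : (E0 : F) ≠ 0 := left_ne_zero_of_mul ((unit_sq hE0).trans_ne one_ne_zero)
  obtain ⟨v₁, hv₁, k₁, hk₁, e₁, hco⟩ := c.exists_frame hj hhG
    (κ := σ₀ * k) (mul_ne_zero hσne hk) (by
      rw [hz0]; exact mul_ne_zero (c.wsign_ne_zero _ _) (mul_ne_zero hσne hE0ne))
  have hy₁ : v₁ * c.xg 0 k₁ * v₁⁻¹ ∈ H := by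
    rw [← e₁]
    have := mul_mem (mul_mem (mul_mem (hin L) hxm) hy')
      (inv_mem (mul_mem (hin L) hxm))
    convert this using 1
    rw [← hn₀]
    simp only [h, n₀, n]
    group
  obtain rfl : c.T.wlT L b = u' := hub
  obtain ⟨hfu, hul', hgu'⟩ := c.longCoord_fixed hj p hO hL hv₁ hk₁ hy₁ huL
  have hz2 := hzv _ rfl b hbn (ne_of_beq_false hbm)
  have hcols0 : ((c.T.rowCols m₀ b).map fun x => if hx : x < D.nroots then coord0 v' x *
      chainVec D F 1 1 (c.T.entry m₀ x) (Sum.inr ⟨b, hbn⟩) else 0).sum = 0 := by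
    refine List.sum_eq_zero fun y hy => ?_
    obtain ⟨x, hx, rfl⟩ := List.mem_map.1 hy
    obtain ⟨x', hx', e⟩ := hrowb x hx
    obtain rfl : x = x' := e
    split
    · rw [hzU x hx', zero_mul]
    · rfl
  rw [hcols0, add_zero, hbval] at hz2
  have e5 := hco (c.T.wlT L b) hul' hgu'
  have hidx : (⟨c.T.wlT L b, hul'⟩ : Fin D.nroots) = ⟨c.wl L b, c.wl_lt hM hbn⟩ :=
    Fin.ext (c.wlT_eq L b)
  rw [hidx, hz2, hz0] at e5
  have hsq' : φ (t w ^ 2) = t w ^ 2 := by
    have e6 : t w ^ 2 = coord0 v₁ (c.T.wlT L b) *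
        ((c.wsign L b : F) * (c.wsign L u₁ : F) * E0) := by
      refine mul_left_cancel₀ (mul_ne_zero (c.wsign_ne_zero (F := F) L b) hσne) ?_
      rw [mul_assoc, e5]
      linear_combination -(coord0 v₁ (c.T.wlT L b) * σ₀ * (c.wsign L u₁ : F) * E0) *
        c.wsign_sq (F := F) L b
    rw [e6, map_mul, hfu]
    simp
  have hfix : φ (t w) = t w := by
    rw [map_pow] at hsq'
    have : (φ (t w) - t w) ^ 2 = 0 := by linear_combination hsq' - (φ (t w) * t w - t w ^ 2) * h2
    exact sub_eq_zero.1 (pow_eq_zero_iff two_ne_zero |>.1 this)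
  rw [← hvv, hval, map_mul, map_intCast, hfix]

end CertFull

/-- The data for `F₄`. -/
def reachF4 : ReachData where
  L₀ := [3, 2, 1, 2, 0, 1, 2, 3, 2, 1, 2, 0, 1, 2, 3]
  roots := [([1, 2, 3], some 36), ([2, 3], some 29), ([3, 1, 2, 0, 1, 2, 3], none),
    ([2, 1, 2, 0, 1, 2, 3], none)]
  gens := [([1, 2, 3, 1, 2, 0, 1, 2, 3], some (11, 47, [])),
    ([2, 3, 1, 2, 0, 1, 2, 3], some (9, 47, [])),
    ([3, 1, 2, 0, 1, 2, 3], none), ([2, 1, 2, 0, 1, 2, 3], none)]

/-- The long pairs of `F₄`. -/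
def longF4 : List (ℕ × ℕ × ℕ × ℕ × ℕ) :=
  [(24, 46, 26, 45, 25), (31, 43, 32, 42, 25), (42, 32, 43, 31, 25), (45, 26, 46, 24, 25)]

/-- The short roots of grade one of `F₄`. -/
def shortF4 : List (ℕ × ℕ × ℕ × ℕ × ℕ × ℕ × ℕ × List ℕ) :=
  [(29, 3, 27, 4, 6, 24, 1, [3]), (36, 7, 34, 15, 17, 24, 1, [3]),
    (38, 8, 33, 15, 22, 24, 1, [3]), (39, 9, 33, 16, 25, 26, 2, [3, 2]),
    (40, 11, 34, 21, 30, 31, 4, [3, 2, 1]), (44, 18, 27, 21, 41, 42, 15, [3, 2, 1, 0])]

theorem subfieldF4_ok : certFullF4.T.checkGrade 3 = true ∧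
    certFullF4.T.checkReach reachF4 = true ∧ longF4.all (certFullF4.T.checkLong 3) = true ∧
    certFullF4.T.checkCoord 3 = true ∧ certFullF4.T.checkPencil 3 24 46 = true ∧
    shortF4.all (certFullF4.T.checkShortCoord 3 longF4) = true ∧
    ((List.range certFullF4.T.n).all fun u => !(intBeq (certFullF4.T.vec u 3) (-1)) ||
      (certFullF4.T.longCoords longF4).any (Nat.beq u) ||
      shortF4.any fun x => Nat.beq x.2.1 u) = true ∧
    (certFullF4.T.checkDoublet 46 (certFullF4.T.neg 24) 1 ||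
      certFullF4.T.checkDoublet 46 (certFullF4.T.neg 24) (-1)) = true ∧
    (Tables.longRoots longF4).Nodup := by
  decide +kernel

/-- Subfield data for `F₄`. -/
noncomputable def subfieldDataF4 {K : Type*} [Field K] (p : ℕ) [Fact p.Prime] [CharP K p] :
    SubfieldData certFullF4 K :=
  have h := subfieldF4_ok
  { j := 3
    grade := h.1
    reachData := reachF4
    reach := h.2.1
    a := 46
    g := certFullF4.T.neg 24
    C := if certFullF4.T.checkDoublet 46 (certFullF4.T.neg 24) 1 then 1 else -1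
    doublet := by
      have := h.2.2.2.2.2.2.2.1
      by_cases e : certFullF4.T.checkDoublet 46 (certFullF4.T.neg 24) 1 = true
      · rw [if_pos e]; exact e
      · rw [if_neg e]; simpa [e] using this
    rad := fun φ H hO v hv k hk hy => by
      have hL₀ := certFullF4.checkWord_spec (w := reachF4.L₀) (x := 0) (by
        have := h.2.1
        simp only [Tables.checkReach, Bool.and_eq_true] at this
        exact this.1)
      have hcoord : ∀ v ∈ certFullF4.rad K 3, ∀ k : K, k ≠ 0 →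
          v * certFullF4.xg 0 k * v⁻¹ ∈ H → ∀ u, u < chevF4.nroots →
          certFullF4.T.vec u 3 = -1 → φ (coord0 v u) = coord0 v u := by
        intro v hv k hk hy u hu hgu
        have hc := h.2.2.2.2.2.2.1
        simp only [List.all_eq_true, List.mem_range, Bool.or_eq_true, List.any_eq_true,
          Nat.beq_eq, Bool.not_eq_true'] at hc
        rcases hc u (certFullF4.nroots_eq ▸ hu) with (e | ⟨x, hx, e⟩) | ⟨x, hx, e⟩
        · rw [hgu, intBeq_self] at e; exact Bool.noConfusion e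
        · obtain rfl : u = x := e
          exact (certFullF4.longCoord_fixed h.1 p hO h.2.2.1 hv hk hy hx).1
        · rw [← e]
          exact certFullF4.short_fixed h.1 p hO h.2.2.1
            (List.all_eq_true.1 h.2.2.2.2.2.1 x hx) h.2.2.2.2.2.2.2.2 hL₀ hv hk hy
      exact certFullF4.rad_fixed h.1 hO hL₀ h.2.2.2.1 hcoord
        (fun e k hk hy => certFullF4.top_fixed h.1 hO h.2.2.2.2.1 h.2.2.2.1 hcoord hk hy) hv hk hy }

end Cfsg.Agent.Lie.Chev
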