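import Cfsg.Agent.Lib.Lie.Chev.SubfieldPencil

/-! Conjugates of the highest root subgroup as radical conjugates of the lowest one. -/

set_option autoImplicit false

namespace Cfsg.Agent.Lie.Chev

open Cfsg.Lie Matrix

/-- The elements fixed by a field endomorphism. -/
def fixedBy {D : ChevalleyDatum} {F : Type*} [Field F] (φ : F →+* F) (g : GL D.Idx F) : Prop :=
  Matrix.GeneralLinearGroup.map φ g = g

namespace CertFull

variable {D : ChevalleyDatum} (c : CertFull D) {F : Type*} [Field F]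

include c

/-- The monomial elements permute the root coordinates. -/
theorem np_coord {p s : ℕ} (hp : p < D.rank) (hs : s < D.nroots) (z : D.Idx → F) :
    (D.nMat F (D.simple p) 1 *ᵥ z) (Sum.inr ⟨c.w p s, c.w_lt hp hs⟩) =
      (c.T.eta p s : F) * z (Sum.inr ⟨s, hs⟩) := by
  classical
  set u : D.Idx := Sum.inr ⟨c.w p s, c.w_lt hp hs⟩
  have hcol : ∀ i, D.nMat F (D.simple p) 1 u i =
      (D.nMat F (D.simple p) 1 *ᵥ (Pi.single i 1 : D.Idx → F)) u := fun i => by
    rw [Matrix.mulVec_single_one]; rfl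
  rw [Matrix.mulVec, dotProduct, Finset.sum_eq_single (Sum.inr ⟨s, hs⟩ : D.Idx)]
  · rw [hcol, single_inr, c.n_evec hp hs]
    simp [u, evec]
  · rintro (i | x) - hne
    · rw [hcol, single_inl, c.n_hvec hp i.isLt]
      simp [u, hvec]
    · rw [hcol, single_inr, c.n_evec hp x.isLt]
      have : c.w p s ≠ c.w p x := fun e => hne (by
        rw [show x = ⟨s, hs⟩ from Fin.ext (c.w_inj hp hs x.isLt e).symm])
      simp [u, evec, this]
  · exact fun h => absurd (Finset.mem_univ _) h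

theorem nw_coord {L : List ℕ} (hL : ∀ p ∈ L, p < D.rank) {s : ℕ} (hs : s < D.nroots)
    (z : D.Idx → F) :
    ((c.nw F L : GL D.Idx F) : Matrix D.Idx D.Idx F).mulVec z
        (Sum.inr ⟨c.wl L s, c.wl_lt hL hs⟩) = (c.wsign L s : F) * z (Sum.inr ⟨s, hs⟩) := by
  induction L with
  | nil => simp [Cert.nw, Cert.wsign, Cert.wl]
  | cons p L ih =>
    have hL' : ∀ q ∈ L, q < D.rank := fun q hq => hL q (by simp [hq])
    have e : c.nw F (p :: L) = c.np F p * c.nw F L := by simp [Cert.nw]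
    rw [e, Units.val_mul, ← Matrix.mulVec_mulVec, Cert.np, Cert.ng_val]
    refine (c.np_coord (hL p (by simp)) (c.wl_lt hL' hs) _).trans ?_
    rw [ih hL']
    simp [Cert.wsign, mul_assoc]

variable {j : ℕ} (hj : c.T.checkGrade j = true)

include hj

/-- A positive root element other than the highest commutes with it and fixes its vector. -/
theorem top_nil {r : ℕ} (hr : c.Pos r) (hne : r ≠ c.top) :
    c.T.commTerms r c.top = [] ∧ c.T.entry r c.top = [] := by
  obtain ⟨hjr, hT, -, -, -, hall⟩ := c.grade_spec hj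
  have hTl := c.top_lt hj
  have h0 := (c.vec_nonneg hr.2 hr.1).1 j hjr
  have hcr : 0 < c.T.code r := (c.pos_iff_code hr.2).1 hr
  refine ⟨List.eq_nil_iff_forall_not_mem.2 fun x hx => ?_,
    List.eq_nil_iff_forall_not_mem.2 fun q hq => ?_⟩
  · obtain ⟨hx1, hi, hk, hcode⟩ := c.mem_commTerms hr.2 hTl hx
    have hv := c.commTerms_vec hr.2 hTl hjr hx
    rw [hT] at hv
    obtain ⟨-, g2, g3, -⟩ := hall x.1 hx1
    have hk' : (1 : ℤ) ≤ (x.2.2.2 : ℕ) := by exact_mod_cast hk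
    have hi' : (1 : ℤ) ≤ (x.2.2.1 : ℕ) := by exact_mod_cast hi
    have hp := mul_nonneg (Int.natCast_nonneg x.2.2.1) h0
    have hk1 : (x.2.2.2 : ℤ) = 1 := by omega
    rw [hk1, g3 (by omega)] at hcode
    nlinarith
  · obtain ⟨i, hi⟩ := List.getElem?_of_mem hq
    have hroot : c.T.chainRoot r c.top (i + 1) = some q.1 := by
      rw [Tables.chainRoot, Nat.add_sub_cancel, hi]; rfl
    have hq1 := c.entry_lt hr.2 hTl q hq
    have hv := c.chainRoot_vec hr.2 hTl (by omega) hroot hjr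
    have hcode := c.chainRoot_code hr.2 hTl (by omega) hroot
    rw [hT] at hv
    obtain ⟨-, g2, g3, -⟩ := hall q.1 hq1
    have hp : (0 : ℤ) ≤ ((i + 1 : ℕ) : ℤ) * c.T.vec r j := mul_nonneg (Int.natCast_nonneg _) h0
    rw [g3 (by omega)] at hcode
    push_cast at hcode
    nlinarith

/-- The unipotent subgroup fixes the highest root vector and centralises its root subgroup. -/
theorem U_top {u : GL D.Idx F} (hu : u ∈ D.posUnipotent F) :
    (∀ s : F, Commute u (c.xg c.top s)) ∧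
      (u : Matrix D.Idx D.Idx F) *ᵥ evec D F c.top = evec D F c.top := by
  induction hu using Subgroup.closure_induction with
  | mem g hg =>
    obtain ⟨r, t, hr, hg⟩ := hg
    obtain rfl := c.eq_xg_iff.1 hg
    have hr' := c.posRoot_iff.1 hr
    by_cases hne : r = c.top
    · subst hne
      exact ⟨fun s => by rw [Commute, SemiconjBy, ← c.xg_add, ← c.xg_add, add_comm],
        by rw [Cert.xg_val, c.x_evec_self hr'.2]⟩
    obtain ⟨e1, e2⟩ := c.top_nil hj hr' hne
    have hn : c.top ≠ D.neg r := fun e => (c.not_pos_iff hr'.2).2 (e ▸ c.pos_top hj) hr'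
    refine ⟨fun s => c.commute_of_nil hr'.2 (c.top_lt hj) (Ne.symm hne) hn e1 t s, ?_⟩
    rw [Cert.xg_val, c.x_evec hr'.2 (c.top_lt hj) (Ne.symm hne) hn, e2]
    simp [chainVec]
  | one => exact ⟨fun s => Commute.one_left _, by simp⟩
  | mul a b _ _ ha hb =>
    exact ⟨fun s => (ha.1 s).mul_left (hb.1 s), by
      rw [Units.val_mul, ← Matrix.mulVec_mulVec, hb.2, ha.2]⟩
  | inv a _ ha =>
    refine ⟨fun s => (ha.1 s).inv_left, ?_⟩
    conv_lhs => rw [← ha.2]
    rw [Matrix.mulVec_mulVec, ← Units.val_mul, inv_mul_cancel]; simp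

/-- The unipotent subgroup keeps the coordinate at the lowest root. -/
theorem U_zero_row (hneg : ¬ c.Pos 0) {u : GL D.Idx F}
    (hu : u ∈ D.posUnipotent F) (z : D.Idx → F) :
    ((u : Matrix D.Idx D.Idx F) *ᵥ z) (Sum.inr ⟨0, c.zero_lt hj⟩) =
      z (Sum.inr ⟨0, c.zero_lt hj⟩) := by
  have h0 := c.zero_lt hj
  induction hu using Subgroup.closure_induction generalizing z with
  | mem g hg =>
    obtain ⟨r, t, hr, hg⟩ := hg
    obtain rfl := c.eq_xg_iff.1 hg
    have hr' := c.posRoot_iff.1 hr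
    have hne : (0 : ℕ) ≠ r := fun e => hneg (e ▸ hr')
    rw [Cert.xg_val, c.mulVec_inr hr'.2 h0 hne]
    suffices c.T.rowCols r 0 = [] by simp [this]
    refine List.eq_nil_iff_forall_not_mem.2 fun s hs => ?_
    simp only [Tables.rowCols, List.mem_filter, List.mem_range, Bool.and_eq_true,
      List.any_eq_true, Nat.beq_eq] at hs
    obtain ⟨hs, -, q, hq, hq0⟩ := hs
    have hs' : s < D.nroots := c.nroots_eq ▸ hs
    obtain ⟨i, hi⟩ := List.getElem?_of_mem hq
    have hroot : c.T.chainRoot r s (i + 1) = some q.1 := by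
      rw [Tables.chainRoot, Nat.add_sub_cancel, hi]; rfl
    have hcode := c.chainRoot_code hr'.2 hs' (by omega) hroot
    rw [hq0] at hcode
    have hcr : 0 < c.T.code r := (c.pos_iff_code hr'.2).1 hr'
    obtain ⟨hjr, -, -, -, -, hall⟩ := c.grade_spec hj
    have hv := c.chainRoot_vec hr'.2 hs' (by omega) hroot hjr
    rw [hq0, c.vec_zero hj] at hv
    obtain ⟨g1, -, -, g4⟩ := hall s hs'
    have h1 := (c.vec_nonneg hr'.2 hr'.1).1 j hjr
    have h2 : (0 : ℤ) ≤ ((i + 1 : ℕ) : ℤ) * c.T.vec r j := mul_nonneg (Int.natCast_nonneg _) h1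
    rw [g4 (by omega)] at hcode
    push_cast at hcode
    nlinarith
  | one => simp
  | mul a b _ _ ha hb => rw [Units.val_mul, ← Matrix.mulVec_mulVec, ha, hb]
  | inv a _ ha =>
    have h := ha (((a⁻¹ : GL D.Idx F) : Matrix D.Idx D.Idx F) *ᵥ z)
    rw [Matrix.mulVec_mulVec, ← Units.val_mul, mul_inv_cancel, Units.val_one,
      Matrix.one_mulVec] at h
    exact h.symm

theorem not_pos_zero : ¬ c.Pos 0 := fun h => by
  have := c.h_add_h
  have := c.zero_lt hj
  have := h.1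
  omega

/-- The image of the highest root vector and the root subgroup it moves to. -/
theorem exists_bruhat_top {h : GL D.Idx F} (hh : h ∈ D.group F) (κ : F) :
    ∃ u ∈ D.posUnipotent F, ∃ (L : List ℕ) (lam k : F), (∀ p ∈ L, p < D.rank) ∧ lam ≠ 0 ∧
      (κ ≠ 0 → k ≠ 0) ∧
      (h : Matrix D.Idx D.Idx F) *ᵥ evec D F c.top =
        lam • ((u : Matrix D.Idx D.Idx F) *ᵥ evec D F (c.wl L c.top)) ∧
      h * c.xg c.top κ * h⁻¹ = u * c.xg (c.wl L c.top) k * u⁻¹ := by
  obtain ⟨b, hb, a, ha, L, hL, u₀, hu₀, rfl⟩ := c.bruhat_exists hh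
  obtain ⟨u, hu, a₁, ha₁, hb₁⟩ := c.mem_borel_iff.1 (mul_mem hb (c.H_le_B ha))
  obtain ⟨hcom, hfix⟩ := c.U_top hj (c.KS_invSet_le_U hL hu₀)
  have hTl := c.top_lt hj
  set r := c.wl L c.top
  obtain ⟨k₁, hk₁, e₁⟩ := c.H_smul_evec ha₁ r
  obtain ⟨k₂, hk₂, e₂⟩ := c.mono_mul_xg ha₁ hL hTl
  have e : b * (a * c.nw F L) * u₀ = u * (a₁ * c.nw F L) * u₀ := by
    rw [← mul_assoc, hb₁, mul_assoc u]
  refine ⟨u, hu, L, (c.wsign L c.top : F) * k₁, k₂ * κ, hL, mul_ne_zero (c.wsign_ne_zero _ _) hk₁,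
    mul_ne_zero hk₂, ?_, ?_⟩
  · rw [e]
    simp only [Units.val_mul, ← Matrix.mulVec_mulVec]
    rw [hfix, c.nw_evec hL hTl]
    simp only [r] at e₁
    simp only [Matrix.mulVec_smul, e₁, smul_smul, r]
  · rw [e]
    calc u * (a₁ * c.nw F L) * u₀ * c.xg c.top κ * (u * (a₁ * c.nw F L) * u₀)⁻¹
        = u * ((a₁ * c.nw F L) * (u₀ * c.xg c.top κ * u₀⁻¹) * (a₁ * c.nw F L)⁻¹) * u⁻¹ := by group
      _ = _ := by rw [(hcom κ).eq, mul_inv_cancel_right, e₂, mul_inv_cancel_right]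

/-- The radical frame of a conjugate whose lowest coordinate does not vanish. -/
theorem exists_frame {h : GL D.Idx F} (hh : h ∈ D.group F) {κ : F} (hκ : κ ≠ 0)
    (hz : ((h : Matrix D.Idx D.Idx F) *ᵥ evec D F c.top) (Sum.inr ⟨0, c.zero_lt hj⟩) ≠ 0) :
    ∃ v ∈ c.rad F j, ∃ k : F, k ≠ 0 ∧ h * c.xg c.top κ * h⁻¹ = v * c.xg 0 k * v⁻¹ ∧
      ∀ u (hu : u < D.nroots), c.T.vec u j = -1 →
        ((h : Matrix D.Idx D.Idx F) *ᵥ evec D F c.top) (Sum.inr ⟨u, hu⟩) =
          coord0 v u * ((h : Matrix D.Idx D.Idx F) *ᵥ evec D F c.top)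
            (Sum.inr ⟨0, c.zero_lt hj⟩) := by
  obtain ⟨u, hu, L, lam, k, hL, hlam, hk, e1, e2⟩ := c.exists_bruhat_top hj hh κ
  have hr : c.wl L c.top = 0 := by
    by_contra hne
    refine hz ?_
    rw [e1, Pi.smul_apply, c.U_zero_row hj (c.not_pos_zero hj) hu]
    simp [evec, Ne.symm hne]
  rw [hr] at e1 e2
  obtain ⟨v, hv, l, ⟨hl1, hl2⟩, -, rfl⟩ := c.rad_split hj hu
  refine ⟨v, hv, k, hk hκ, ?_, fun x hx hgx => ?_⟩
  · rw [e2, show v * l * c.xg 0 k * (v * l)⁻¹ = v * (l * c.xg 0 k * l⁻¹) * v⁻¹ by group,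
      (hl1 k).eq, mul_inv_cancel_right]
  · rw [e1, Units.val_mul, ← Matrix.mulVec_mulVec, hl2, Pi.smul_apply, Pi.smul_apply,
      (c.coord_row hj hv hx hgx _).1]
    rw [coord0, dif_pos hx]
    simp [evec]
    ring

/-- Conjugates of the highest root subgroup over the subfield are fixed, provided radical
conjugates of the lowest one in the group are. -/
theorem top_core {L₀ : List ℕ} (hL₀ : (∀ p ∈ L₀, p < D.rank) ∧ c.wl L₀ c.top = 0) {φ : F →+* F}
    {H : Subgroup (GL D.Idx F)} (hO : Over c φ H)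
    (hmain : ∀ v ∈ c.rad F j, ∀ k : F, k ≠ 0 → v * c.xg 0 k * v⁻¹ ∈ H →
      fixedBy φ (v * c.xg 0 k * v⁻¹))
    {h : GL D.Idx F} (hh : h ∈ H) {κ : F} (hκ : φ κ = κ) :
    fixedBy φ (h * c.xg c.top κ * h⁻¹) := by
  by_cases hκ0 : κ = 0
  · subst hκ0
    simp [fixedBy, c.xg_zero]
  obtain ⟨u, hu, L, lam, k, hL, hlam, -, e1, -⟩ := c.exists_bruhat_top hj (hO.le hh) κ
  set r := c.wl L c.top with hr
  have hTl := c.top_lt hj
  have hrl : r < D.nroots := c.wl_lt hL hTl
  set M := L₀ ++ L.reverse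
  have hM : ∀ p ∈ M, p < D.rank := by
    intro p hp
    rcases List.mem_append.1 hp with hp | hp
    exacts [hL₀.1 p hp, hL p (List.mem_reverse.1 hp)]
  have hMr : c.wl M r = 0 := by
    have hrev : ∀ p ∈ L.reverse, p < D.rank := fun p hp => hL p (List.mem_reverse.1 hp)
    have e : c.wl L.reverse r = c.top := by
      refine c.wl_inj hL (c.wl_lt hrev hrl) hTl ?_
      rw [c.wl_reverse hL hrl]
    rw [Cert.wl_append, e, hL₀.2]
  set n := c.nw F M
  have hnH : n ∈ H := by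
    have hle : fixedRootGroup D φ ≤ H := (Subgroup.closure_le _).2 fun g ⟨s, t, ht, hg⟩ => by
      obtain rfl := c.eq_xg_iff.1 hg
      by_cases hs : s < D.nroots
      · exact hO.root s hs t ht
      · have e : c.xg s t = 1 := Units.ext (by simp [ChevalleyDatum.x, hs])
        rw [e]; exact one_mem _
    exact hle (c.nw_mem_fixed φ M)
  have hz : ((u : Matrix D.Idx D.Idx F) *ᵥ evec D F r) (Sum.inr ⟨r, hrl⟩) = 1 := by
    obtain ⟨hs, -⟩ := c.posUnipotent_le_unitri hu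
    have h1 := hs (Sum.inr ⟨r, hrl⟩) (Sum.inr ⟨r, hrl⟩)
    rw [← single_inr D F ⟨r, hrl⟩, Matrix.mulVec_single_one]
    show (u : Matrix D.Idx D.Idx F) _ _ = 1
    by_contra hne
    exact lt_irrefl _ (h1 (by rw [Matrix.sub_apply, Matrix.one_apply_eq]; exact sub_ne_zero.2 hne))
  obtain ⟨v, hv, k', hk', e, -⟩ := c.exists_frame hj (hO.le (mul_mem hnH hh)) hκ0 (by
    have hidx : (⟨0, c.zero_lt hj⟩ : Fin D.nroots) = ⟨c.wl M r, c.wl_lt hM hrl⟩ :=
      Fin.ext hMr.symm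
    rw [Units.val_mul, ← Matrix.mulVec_mulVec, hidx, c.nw_coord hM hrl, e1, Pi.smul_apply, hz]
    simp only [smul_eq_mul, mul_one]
    exact mul_ne_zero (c.wsign_ne_zero _ _) hlam)
  have hmem : v * c.xg 0 k' * v⁻¹ ∈ H := by
    rw [← e]
    exact mul_mem (mul_mem (mul_mem hnH hh) (hO.root _ hTl κ hκ)) (inv_mem (mul_mem hnH hh))
  have h1 := hmain v hv k' hk' hmem
  rw [← e, show n * h * c.xg c.top κ * (n * h)⁻¹ = n * (h * c.xg c.top κ * h⁻¹) * n⁻¹ by group,
    fixedBy, map_mul, map_mul, map_inv, c.nw_map] at h1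
  exact mul_left_cancel (mul_right_cancel h1)

end CertFull

end Cfsg.Agent.Lie.Chev
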