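import Cfsg.Agent.Lib.Lie.Chev.SubfieldTools

/-! Subfield data of `G₂`. An element is recorded modulo the abelian group of the roots `2a+b`,
`3a+b`, `3a+2b` by its parameters at `a` and `a+b`. -/

set_option autoImplicit false
set_option maxRecDepth 20000
set_option synthInstance.maxSize 1024

namespace Cfsg.Agent.Lie.Chev.G2Sub

open Cfsg.Lie Matrix

local notation "X" => Cert.xg certFullG2.toCert

variable {K : Type*} [Field K]

theorem size_ok : certFullG2.T.n = 12 ∧ certFullG2.T.h = 6 ∧ certFullG2.T.l = 2 := by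
  decide +kernel

theorem lt_twelve {r : ℕ} (h : r < 12) : r < chevG2.nroots := by
  rw [certFullG2.nroots_eq, size_ok.1]; exact h

theorem neg_val {r : ℕ} : certFullG2.T.neg r = 11 - r := by
  rw [Tables.neg, size_ok.1]

theorem top_val : certFullG2.top = 11 := by
  rw [CertFull.top, size_ok.1]

theorem checks_ok : certFullG2.T.checkGrade 1 = true ∧ certFullG2.T.checkCoord 1 = true ∧
    certFullG2.T.checkPencil 1 6 10 = true ∧ certFullG2.T.checkDoublet 10 5 (-1) = true ∧
    certFullG2.T.checkSwap 1 [0] = true := by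
  decide +kernel

theorem commute_ok :
    ([(6, 8), (6, 9), (6, 11), (5, 7), (5, 9), (5, 10), (9, 10), (9, 11), (10, 11), (8, 10),
      (8, 11), (7, 10), (7, 11)].all fun p =>
        (certFullG2.T.commTerms p.1 p.2).isEmpty) = true := by
  decide +kernel

theorem commute_pair {r s : ℕ} (h : (r, s) ∈ [(6, 8), (6, 9), (6, 11), (5, 7), (5, 9), (5, 10),
    (9, 10), (9, 11), (10, 11), (8, 10), (8, 11), (7, 10), (7, 11)]) (t u : K) :
    Commute (X r t) (X s u) := by
  have he := commute_ok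
  simp only [List.all_eq_true, List.isEmpty_iff] at he
  have h0 := he _ h
  simp only [List.mem_cons, List.not_mem_nil, or_false, Prod.mk.injEq] at h
  refine certFullG2.xg_commute (lt_twelve (by omega)) (lt_twelve (by omega)) (by omega) ?_ h0 t u
  rw [certFullG2.neg_eq (lt_twelve (by omega)), neg_val]
  omega

theorem conj_list {r s : ℕ} (hr : r < 12) (hs : s < 12) (h1 : s ≠ r) (h2 : s ≠ 11 - r)
    {L : List (ℕ × ℤ × ℕ × ℕ)} (h : certFullG2.T.commTerms r s = L) (t u : K) :
    X r t * X s u * (X r t)⁻¹ = X s u * (L.map fun x =>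
      X x.1 ((x.2.1 : K) * t ^ x.2.2.1 * u ^ x.2.2.2)).prod := by
  rw [← h]
  exact certFullG2.conj_terms (lt_twelve hr) (lt_twelve hs) h1 (by rwa [neg_val]) t u

theorem conj_commute {r s : ℕ} (h : (r, s) ∈ [(6, 8), (6, 9), (6, 11), (5, 7), (5, 9), (5, 10),
    (9, 10), (9, 11), (10, 11), (8, 10), (8, 11), (7, 10), (7, 11)]) (t u : K) :
    X r t * X s u * (X r t)⁻¹ = X s u := by
  rw [(commute_pair h t u).eq, mul_inv_cancel_right]

theorem c67 (t u : K) : X 6 t * X 7 u * (X 6 t)⁻¹ =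
    X 7 u * (X 8 (t * u) * (X 9 (t * u ^ 2) * (X 10 (-(t * u ^ 3)) *
      X 11 (-(2 * t ^ 2 * u ^ 3))))) := by
  rw [conj_list (by omega) (by omega) (by omega) (by omega) (r := 6) (s := 7)
    (L := [(8, 1, 1, 1), (9, 1, 1, 2), (10, -1, 1, 3), (11, -2, 2, 3)]) (by decide +kernel)]
  simp

theorem c78 (t u : K) : X 7 t * X 8 u * (X 7 t)⁻¹ =
    X 8 u * (X 9 (-(2 * t * u)) * (X 10 (-(3 * t ^ 2 * u)) * X 11 (3 * t * u ^ 2))) := by
  rw [conj_list (by omega) (by omega) (by omega) (by omega) (r := 7) (s := 8)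
    (L := [(9, -2, 1, 1), (10, -3, 2, 1), (11, 3, 1, 2)]) (by decide +kernel)]
  simp

theorem c58 (t u : K) : X 5 t * X 8 u * (X 5 t)⁻¹ =
    X 8 u * (X 7 (t * u) * (X 9 (-(t * u ^ 2)) * (X 11 (t * u ^ 3) *
      X 10 (2 * t ^ 2 * u ^ 3)))) := by
  rw [conj_list (by omega) (by omega) (by omega) (by omega) (r := 5) (s := 8)
    (L := [(7, 1, 1, 1), (9, -1, 1, 2), (11, 1, 1, 3), (10, 2, 2, 3)]) (by decide +kernel)]
  simp

theorem c79 (t u : K) : X 7 t * X 9 u * (X 7 t)⁻¹ = X 9 u * X 10 (3 * t * u) := by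
  rw [conj_list (by omega) (by omega) (by omega) (by omega) (r := 7) (s := 9)
    (L := [(10, 3, 1, 1)]) (by decide +kernel)]
  simp

theorem c97 (t u : K) : X 9 t * X 7 u * (X 9 t)⁻¹ = X 7 u * X 10 (-(3 * t * u)) := by
  rw [conj_list (by omega) (by omega) (by omega) (by omega) (r := 9) (s := 7)
    (L := [(10, -3, 1, 1)]) (by decide +kernel)]
  simp

theorem c89 (t u : K) : X 8 t * X 9 u * (X 8 t)⁻¹ = X 9 u * X 11 (3 * t * u) := by
  rw [conj_list (by omega) (by omega) (by omega) (by omega) (r := 8) (s := 9)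
    (L := [(11, 3, 1, 1)]) (by decide +kernel)]
  simp

theorem c98 (t u : K) : X 9 t * X 8 u * (X 9 t)⁻¹ = X 8 u * X 11 (-(3 * t * u)) := by
  rw [conj_list (by omega) (by omega) (by omega) (by omega) (r := 9) (s := 8)
    (L := [(11, -3, 1, 1)]) (by decide +kernel)]
  simp

theorem c610 (t u : K) : X 6 t * X 10 u * (X 6 t)⁻¹ = X 10 u * X 11 (t * u) := by
  rw [conj_list (by omega) (by omega) (by omega) (by omega) (r := 6) (s := 10)
    (L := [(11, 1, 1, 1)]) (by decide +kernel)]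
  simp

theorem c511 (t u : K) : X 5 t * X 11 u * (X 5 t)⁻¹ = X 11 u * X 10 (t * u) := by
  rw [conj_list (by omega) (by omega) (by omega) (by omega) (r := 5) (s := 11)
    (L := [(10, 1, 1, 1)]) (by decide +kernel)]
  simp

theorem c06 (t u : K) : X 0 t * X 6 u * (X 0 t)⁻¹ = X 6 u * X 1 (t * u) := by
  rw [conj_list (by omega) (by omega) (by omega) (by omega) (r := 0) (s := 6)
    (L := [(1, 1, 1, 1)]) (by decide +kernel)]
  simp

theorem c010 (t u : K) : X 0 t * X 10 u * (X 0 t)⁻¹ = X 10 u * X 5 (-(t * u)) := by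
  rw [conj_list (by omega) (by omega) (by omega) (by omega) (r := 0) (s := 10)
    (L := [(5, -1, 1, 1)]) (by decide +kernel)]
  simp

theorem c111 (t u : K) : X 1 t * X 11 u * (X 1 t)⁻¹ = X 11 u * X 6 (-(t * u)) := by
  rw [conj_list (by omega) (by omega) (by omega) (by omega) (r := 1) (s := 11)
    (L := [(6, -1, 1, 1)]) (by decide +kernel)]
  simp

/-- An element of the abelian group of the three roots. -/
def tri (w d e : K) : GL chevG2.Idx K := X 9 w * X 10 d * X 11 e

theorem tri_mul (w d e w' d' e' : K) :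
    tri w d e * tri w' d' e' = tri (w + w') (d + d') (e + e') := by
  have h1 := (commute_pair (r := 9) (s := 10) (by simp) w' d).eq
  have h2 := (commute_pair (r := 9) (s := 11) (by simp) w' e).eq
  have h3 := (commute_pair (r := 10) (s := 11) (by simp) d' e).eq
  simp only [tri]
  calc X 9 w * X 10 d * X 11 e * (X 9 w' * X 10 d' * X 11 e')
      = X 9 w * X 10 d * (X 11 e * X 9 w') * X 10 d' * X 11 e' := by group
    _ = X 9 w * (X 10 d * X 9 w') * (X 11 e * X 10 d') * X 11 e' := by rw [← h2]; group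
    _ = (X 9 w * X 9 w') * (X 10 d * X 10 d') * (X 11 e * X 11 e') := by rw [← h1, ← h3]; group
    _ = _ := by rw [← Cert.xg_add, ← Cert.xg_add, ← Cert.xg_add]

theorem tri_nine (w : K) : X 9 w = tri w 0 0 := by simp [tri, Cert.xg_zero]

theorem tri_ten (d : K) : X 10 d = tri 0 d 0 := by simp [tri, Cert.xg_zero]

theorem tri_eleven (e : K) : X 11 e = tri 0 0 e := by simp [tri, Cert.xg_zero]

theorem tri_zero : tri (0 : K) 0 0 = 1 := by simp [tri, Cert.xg_zero]

theorem tri_inv (w d e : K) : (tri w d e)⁻¹ = tri (-w) (-d) (-e) :=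
  inv_eq_of_mul_eq_one_right (by
    rw [tri_mul, add_neg_cancel, add_neg_cancel, add_neg_cancel]; exact tri_zero)

theorem conj3 {G : Type*} [Group G] (g a b d : G) :
    g * (a * b * d) * g⁻¹ = (g * a * g⁻¹) * (g * b * g⁻¹) * (g * d * g⁻¹) := by
  group

theorem five_tri (t w d e : K) : X 5 t * tri w d e * (X 5 t)⁻¹ = tri w (d + t * e) e := by
  rw [tri, conj3, conj_commute (by simp), conj_commute (by simp), c511]
  simp only [tri_nine, tri_ten, tri_eleven, tri_mul]
  congr 1 <;> ring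

theorem six_tri (t w d e : K) : X 6 t * tri w d e * (X 6 t)⁻¹ = tri w d (e + t * d) := by
  rw [tri, conj3, conj_commute (by simp), c610, conj_commute (by simp)]
  simp only [tri_nine, tri_ten, tri_eleven, tri_mul]
  congr 1 <;> ring

theorem seven_tri (t w d e : K) :
    X 7 t * tri w d e * (X 7 t)⁻¹ = tri w (d + 3 * t * w) e := by
  rw [tri, conj3, c79, conj_commute (by simp), conj_commute (by simp)]
  simp only [tri_nine, tri_ten, tri_eleven, tri_mul]
  congr 1 <;> ring

theorem eight_tri (t w d e : K) :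
    X 8 t * tri w d e * (X 8 t)⁻¹ = tri w d (e + 3 * t * w) := by
  rw [tri, conj3, c89, conj_commute (by simp), conj_commute (by simp)]
  simp only [tri_nine, tri_ten, tri_eleven, tri_mul]
  congr 1 <;> ring

theorem tri_mul_seven (w d e A : K) : tri w d e * X 7 A = X 7 A * tri w (d - 3 * A * w) e := by
  have h := seven_tri (-A) w d e
  rw [← Cert.xg_inv, inv_inv] at h
  rw [show d - 3 * A * w = d + 3 * -A * w by ring, ← h]
  group

theorem tri_mul_eight (w d e B : K) : tri w d e * X 8 B = X 8 B * tri w d (e - 3 * B * w) := by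
  have h := eight_tri (-B) w d e
  rw [← Cert.xg_inv, inv_inv] at h
  rw [show e - 3 * B * w = e + 3 * -B * w by ring, ← h]
  group

/-- Congruent to the product of `x_a(A)` and `x_{a+b}(B)`. -/
def Form (A B : K) (g : GL chevG2.Idx K) : Prop :=
  ∃ w d e : K, g = X 7 A * X 8 B * tri w d e

theorem form_tri (w d e : K) : Form 0 0 (tri w d e) :=
  ⟨w, d, e, by rw [Cert.xg_zero, Cert.xg_zero, one_mul, one_mul]⟩

theorem form_seven (A : K) : Form A 0 (X 7 A) :=
  ⟨0, 0, 0, by rw [tri_zero, Cert.xg_zero, mul_one, mul_one]⟩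

theorem form_eight (B : K) : Form 0 B (X 8 B) :=
  ⟨0, 0, 0, by rw [tri_zero, Cert.xg_zero, mul_one, one_mul]⟩

theorem form_mul {A B A' B' : K} {g g' : GL chevG2.Idx K} (hg : Form A B g)
    (hg' : Form A' B' g') : Form (A + A') (B + B') (g * g') := by
  obtain ⟨w, d, e, rfl⟩ := hg
  obtain ⟨w', d', e', rfl⟩ := hg'
  obtain ⟨w2, d2, e2, h2⟩ : ∃ w2 d2 e2 : K, X 8 B * X 7 A' = X 7 A' * X 8 B * tri w2 d2 e2 := by
    refine ⟨-(2 * -A' * B), -(3 * (-A') ^ 2 * B), 3 * -A' * B ^ 2, ?_⟩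
    have h := c78 (-A') B
    rw [← Cert.xg_inv, inv_inv] at h
    rw [show tri (-(2 * -A' * B)) (-(3 * (-A') ^ 2 * B)) (3 * -A' * B ^ 2) =
      X 9 (-(2 * -A' * B)) * (X 10 (-(3 * (-A') ^ 2 * B)) * X 11 (3 * -A' * B ^ 2)) by
        rw [tri, mul_assoc], mul_assoc (X 7 A'), ← h]
    group
  refine ⟨w2 + (w + w'), d2 + (d - 3 * A' * w + d'),
    e2 - 3 * B' * w2 + (e - 3 * B' * w + e'), ?_⟩
  calc X 7 A * X 8 B * tri w d e * (X 7 A' * X 8 B' * tri w' d' e')
      = X 7 A * X 8 B * (tri w d e * X 7 A') * X 8 B' * tri w' d' e' := by group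
    _ = X 7 A * (X 8 B * X 7 A') * (tri w (d - 3 * A' * w) e * X 8 B') * tri w' d' e' := by
      rw [tri_mul_seven]; group
    _ = (X 7 A * X 7 A') * X 8 B * (tri w2 d2 e2 * X 8 B') *
          (tri w (d - 3 * A' * w) (e - 3 * B' * w) * tri w' d' e') := by
      rw [h2, tri_mul_eight w]; group
    _ = (X 7 A * X 7 A') * (X 8 B * X 8 B') * (tri w2 d2 (e2 - 3 * B' * w2) *
          (tri w (d - 3 * A' * w) (e - 3 * B' * w) * tri w' d' e')) := by
      rw [tri_mul_eight w2]; group
    _ = _ := by rw [← Cert.xg_add, ← Cert.xg_add, tri_mul, tri_mul]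

theorem form_inv {A B : K} {g : GL chevG2.Idx K} (hg : Form A B g) : Form (-A) (-B) g⁻¹ := by
  obtain ⟨w, d, e, rfl⟩ := hg
  rw [_root_.mul_inv_rev, _root_.mul_inv_rev, tri_inv, Cert.xg_inv, Cert.xg_inv]
  have := form_mul (form_tri (-w) (-d) (-e)) (form_mul (form_eight (-B)) (form_seven (-A)))
  simpa using this

theorem form_conj {A B A' B' : K} {n g : GL chevG2.Idx K} (hn : Form A' B' n) (hg : Form A B g) :
    Form A B (n * g * n⁻¹) := by
  have := form_mul (form_mul hn hg) (form_inv hn)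
  simpa using this

theorem form_six {A B : K} {g : GL chevG2.Idx K} (t : K) (hg : Form A B g) :
    Form A (B + t * A) (X 6 t * g * (X 6 t)⁻¹) := by
  obtain ⟨w, d, e, rfl⟩ := hg
  rw [conj3, c67, conj_commute (by simp), six_tri, tri_nine, tri_ten, tri_eleven]
  have := form_mul (form_mul (form_mul (form_seven A) (form_mul (form_eight (t * A))
    (form_mul (form_tri (t * A ^ 2) 0 0) (form_mul (form_tri 0 (-(t * A ^ 3)) 0)
      (form_tri 0 0 (-(2 * t ^ 2 * A ^ 3))))))) (form_eight B)) (form_tri w d (e + t * d))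
  simpa [add_comm] using this

theorem form_five {A B : K} {g : GL chevG2.Idx K} (t : K) (hg : Form A B g) :
    Form (A + t * B) B (X 5 t * g * (X 5 t)⁻¹) := by
  obtain ⟨w, d, e, rfl⟩ := hg
  rw [conj3, conj_commute (by simp), c58, five_tri, tri_nine, tri_ten, tri_eleven]
  have := form_mul (form_mul (form_seven A) (form_mul (form_eight B) (form_mul (form_seven (t * B))
    (form_mul (form_tri (-(t * B ^ 2)) 0 0) (form_mul (form_tri 0 0 (t * B ^ 3))
      (form_tri 0 (2 * t ^ 2 * B ^ 3) 0)))))) (form_tri w (d + t * e) e)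
  simpa using this

theorem pairing_top : certFullG2.T.pairing 11 7 = 0 ∧ certFullG2.T.pairing 11 8 = 1 ∧
    certFullG2.T.pairing 11 9 = 1 ∧ certFullG2.T.pairing 11 10 = 1 ∧
    certFullG2.T.pairing 11 11 = 2 := by
  decide +kernel

theorem form_hg {A B z : K} {g : GL chevG2.Idx K} (hz : z ≠ 0) (hg : Form A B g) :
    Form A (z * B) (certFullG2.hg 11 z * g * (certFullG2.hg 11 z)⁻¹) := by
  obtain ⟨w, d, e, rfl⟩ := hg
  obtain ⟨h7, h8, h9, h10, h11⟩ := pairing_top
  have hx : ∀ s < 12, ∀ u : K, certFullG2.hg 11 z * X s u * (certFullG2.hg 11 z)⁻¹ =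
      X s ((((Units.mk0 z hz) ^ certFullG2.T.pairing 11 s : Kˣ) : K) * u) := fun s hs u =>
    certFullG2.hg_conj (lt_twelve (by omega)) (lt_twelve hs) hz u
  refine ⟨z * w, z * d, z ^ 2 * e, ?_⟩
  rw [tri, conj3, conj3 _ (X 9 w), hx 7 (by omega), hx 8 (by omega), hx 9 (by omega),
    hx 10 (by omega), hx 11 (by omega), h7, h8, h9, h10, h11]
  simp [tri, sq]

variable {φ : K →+* K} {H : Subgroup (GL chevG2.Idx K)}

theorem sq_fixed (h2 : (2 : K) = 0) {x : K} (h : φ (x ^ 2) = x ^ 2) : φ x = x := by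
  rw [map_pow] at h
  have : (φ x - x) ^ 2 = 0 := by linear_combination h - (φ x * x - x ^ 2) * h2
  exact sub_eq_zero.1 (pow_eq_zero_iff two_ne_zero |>.1 this)

/-- The parameter at `a` of an element of the group lies in the subfield, and the next one too
when it vanishes. -/
theorem form_fixed (hO : Over certFullG2 φ H) {A B : K} {g : GL chevG2.Idx K} (hg : Form A B g)
    (hmem : g ∈ H) : φ A = A ∧ (A = 0 → φ (3 * B) = 3 * B) := by
  obtain ⟨w, d, e, rfl⟩ := hg
  have hlong : ∀ u : K, X 11 u ∈ H → φ u = u := fun u hu => hO.long u (by rw [top_val]; exact hu)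
  have h6 := hO.root 6 (lt_twelve (by omega)) 1 (map_one φ)
  have h9 := hO.root 9 (lt_twelve (by omega)) 1 (map_one φ)
  have hcomm : ∀ {x y : GL chevG2.Idx K}, x ∈ H → y ∈ H → y⁻¹ * (x * y * x⁻¹) ∈ H :=
    fun hx hy => mul_mem (inv_mem hy) (mul_mem (mul_mem hx hy) (inv_mem hx))
  -- commutators with `x_{2a+b}(1)` and then `x_b(1)`
  have h3 : tri 0 (-(3 * A)) (-(3 * B)) ∈ H := by
    convert hcomm h9 hmem using 1
    have hT : X 9 (1 : K) * tri w d e * (X 9 1)⁻¹ = tri w d e := by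
      rw [tri_nine, tri_inv, tri_mul, tri_mul]; congr 1 <;> ring
    have hA : X 9 (1 : K) * X 7 A * (X 9 1)⁻¹ = X 7 A * tri 0 (-(3 * A)) 0 := by
      rw [c97, tri_ten]; simp
    have hB : X 9 (1 : K) * X 8 B * (X 9 1)⁻¹ = X 8 B * tri 0 0 (-(3 * B)) := by
      rw [c98, tri_eleven]; simp
    rw [conj3, hA, hB, hT]
    calc tri 0 (-(3 * A)) (-(3 * B))
        = (tri w d e)⁻¹ * ((tri 0 (-(3 * A)) (0 - 3 * B * 0) * tri 0 0 (-(3 * B))) *
            tri w d e) := by
          rw [tri_mul, tri_mul, tri_inv, tri_mul]; congr 1 <;> ring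
      _ = (tri w d e)⁻¹ * (((X 8 B)⁻¹ * (tri 0 (-(3 * A)) 0 * X 8 B) *
            tri 0 0 (-(3 * B))) * tri w d e) := by
          rw [tri_mul_eight]; group
      _ = _ := by group
  have hA3 : φ (3 * A) = 3 * A := by
    have h := hcomm h6 h3
    rw [six_tri, tri_inv, tri_mul] at h
    have e' : φ (-(3 * A)) = -(3 * A) := hlong _ (by
      convert h using 1
      rw [tri_eleven]
      congr 1 <;> ring)
    rwa [map_neg, neg_inj] at e'
  -- two commutators with `x_b(1)`
  have hA4 : φ (A ^ 3) = A ^ 3 := by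
    have h := hcomm h6 hmem
    rw [conj3, c67, conj_commute (by simp), six_tri] at h
    set T1 := tri ((1 : K) * A ^ 2) (-(1 * A ^ 3)) (-(2 * 1 ^ 2 * A ^ 3)) with hT1
    obtain ⟨e1, he1⟩ : ∃ e1 : K, (X 7 A * X 8 B * tri w d e)⁻¹ * (X 7 A *
        (X 8 (1 * A) * (X 9 (1 * A ^ 2) * (X 10 (-(1 * A ^ 3)) *
          X 11 (-(2 * 1 ^ 2 * A ^ 3))))) * X 8 B * tri w d (e + 1 * d)) =
        X 8 A * tri (A ^ 2) (-(A ^ 3)) e1 := by
      refine ⟨(-e - 3 * A * -w) + ((-(2 * A ^ 3) - 3 * B * A ^ 2) + (e + d)), ?_⟩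
      have hc : X 9 ((1 : K) * A ^ 2) * (X 10 (-(1 * A ^ 3)) * X 11 (-(2 * 1 ^ 2 * A ^ 3))) =
          tri (A ^ 2) (-(A ^ 3)) (-(2 * A ^ 3)) := by simp [tri, mul_assoc]
      rw [hc, one_mul, one_mul]
      calc (X 7 A * X 8 B * tri w d e)⁻¹ * (X 7 A * (X 8 A * tri (A ^ 2) (-(A ^ 3))
            (-(2 * A ^ 3))) * X 8 B * tri w d (e + d))
          = (tri w d e)⁻¹ * ((X 8 B)⁻¹ * X 8 A) * (tri (A ^ 2) (-(A ^ 3)) (-(2 * A ^ 3)) *
              X 8 B) * tri w d (e + d) := by group
        _ = (tri (-w) (-d) (-e) * X 8 (-B + A + B)) *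
              tri (A ^ 2) (-(A ^ 3)) (-(2 * A ^ 3) - 3 * B * A ^ 2) * tri w d (e + d) := by
            rw [tri_mul_eight, tri_inv, Cert.xg_inv, Cert.xg_add, Cert.xg_add]; group
        _ = _ := by
            rw [show -B + A + B = A by ring, tri_mul_eight, mul_assoc, mul_assoc, tri_mul,
              tri_mul]
            congr 1
            congr 1 <;> ring
    rw [he1] at h
    have h' := hcomm h6 h
    rw [show X 6 (1 : K) * (X 8 A * tri (A ^ 2) (-(A ^ 3)) e1) * (X 6 1)⁻¹ =
      (X 6 1 * X 8 A * (X 6 1)⁻¹) * (X 6 1 * tri (A ^ 2) (-(A ^ 3)) e1 * (X 6 1)⁻¹) by group,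
      conj_commute (by simp), six_tri,
      show ∀ a b d : GL chevG2.Idx K, (a * b)⁻¹ * (a * d) = b⁻¹ * d from fun a b d => by group,
      tri_inv, tri_mul] at h'
    have e' : φ (-(A ^ 3)) = -(A ^ 3) := hlong _ (by
      convert h' using 1
      rw [tri_eleven]
      congr 1 <;> ring)
    rwa [map_neg, neg_inj] at e'
  refine ⟨?_, fun hA => ?_⟩
  · by_cases h : (3 : K) = 0
    · rw [map_pow] at hA4
      have : (φ A - A) ^ 3 = 0 := by
        linear_combination hA4 + (φ A * A ^ 2 - φ A ^ 2 * A) * h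
      exact sub_eq_zero.1 (pow_eq_zero_iff three_ne_zero |>.1 this)
    · rw [map_mul, map_ofNat] at hA3
      exact mul_left_cancel₀ h hA3
  · subst hA
    have e' : φ (-(3 * B)) = -(3 * B) := hlong _ (by
      convert h3 using 1
      rw [tri_eleven]
      simp)
    rwa [map_neg, neg_inj] at e'

/-- The normal form of a radical element, with its coordinates. -/
theorem rad_form {v : GL chevG2.Idx K} (hv : v ∈ certFullG2.rad K 1) :
    ∃ a b w d e : K, v = X 6 a * (X 8 b * tri w d e) ∧ coord0 v 1 = -a ∧ coord0 v 2 = -b ∧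
      coord0 v 5 = d := by
  have hgr := checks_ok.1
  obtain ⟨t, ht, rfl⟩ := certFullG2.exists_oprod_KS (certFullG2.radS_closed hgr) _ certFullG2.T.h
    rfl le_rfl v hv
  have ht7 : t 7 = 0 := ht 7 fun h => by
    have := h.2
    rw [show certFullG2.T.vec 7 1 = 0 by decide +kernel] at this
    omega
  have e : certFullG2.oprod certFullG2.T.h t =
      X 6 (t 6) * (X 8 (t 8) * tri (t 9) (t 10) (t 11)) := by
    have hl : List.range' certFullG2.T.h (chevG2.nroots - certFullG2.T.h) =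
        [6, 7, 8, 9, 10, 11] := by
      rw [certFullG2.nroots_eq]; decide +kernel
    rw [Cert.oprod, hl]
    simp [ht7, tri, Cert.xg_zero, mul_assoc]
  refine ⟨_, _, _, _, _, e, ?_⟩
  rw [e]
  have hS : ∀ r, r < 12 → 0 < certFullG2.T.vec r 1 → r ∈ certFullG2.radS 1 := fun r hr h =>
    ⟨lt_twelve hr, h⟩
  have h6 : (6 : ℕ) ∈ certFullG2.radS 1 := hS 6 (by omega) (by decide +kernel)
  have h8 : (8 : ℕ) ∈ certFullG2.radS 1 := hS 8 (by omega) (by decide +kernel)
  have h9 : (9 : ℕ) ∈ certFullG2.radS 1 := hS 9 (by omega) (by decide +kernel)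
  have h10 : (10 : ℕ) ∈ certFullG2.radS 1 := hS 10 (by omega) (by decide +kernel)
  have h11 : (11 : ℕ) ∈ certFullG2.radS 1 := hS 11 (by omega) (by decide +kernel)
  have hE : certFullG2.T.entry 6 0 = [(1, -1)] ∧
      certFullG2.T.entry 8 0 = [(2, -1), (4, 1), (6, 1)] ∧
      certFullG2.T.entry 9 0 = [(3, 1), (7, -1), (10, 1)] ∧
      certFullG2.T.entry 10 0 = [(5, 1)] := by decide +kernel
  have hm := fun r (hr : r ∈ certFullG2.radS 1) (x : K) => certFullG2.xg_mem_rad hgr hr x
  have key : ∀ u, u < 12 → certFullG2.T.vec u 1 = -1 →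
      coord0 (X 6 (t 6) * (X 8 (t 8) * tri (t 9) (t 10) (t 11))) u =
        coord0 (X 6 (t 6)) u + coord0 (X 8 (t 8)) u + coord0 (X 9 (t 9)) u +
          coord0 (X 10 (t 10)) u + coord0 (X 11 (t 11)) u := fun u hu hgu => by
    have hul := lt_twelve hu
    rw [tri, certFullG2.coord_mul hgr (hm 6 h6 _) (mul_mem (hm 8 h8 _) (mul_mem (mul_mem (hm 9 h9 _)
        (hm 10 h10 _)) (hm 11 h11 _))) hul hgu,
      certFullG2.coord_mul hgr (hm 8 h8 _) (mul_mem (mul_mem (hm 9 h9 _) (hm 10 h10 _))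
        (hm 11 h11 _)) hul hgu,
      certFullG2.coord_mul hgr (mul_mem (hm 9 h9 _) (hm 10 h10 _)) (hm 11 h11 _) hul hgu,
      certFullG2.coord_mul hgr (hm 9 h9 _) (hm 10 h10 _) hul hgu]
    ring
  refine ⟨?_, ?_, ?_⟩
  all_goals
    rw [key _ (by omega) (by decide +kernel), certFullG2.coord_xg hgr h6 (lt_twelve (by omega))
        (by decide +kernel), certFullG2.coord_xg hgr h8 (lt_twelve (by omega)) (by decide +kernel),
      certFullG2.coord_xg hgr h9 (lt_twelve (by omega)) (by decide +kernel),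
      certFullG2.coord_xg hgr h10 (lt_twelve (by omega)) (by decide +kernel),
      certFullG2.coord_xg hgr h11 (lt_twelve (by omega)) (by decide +kernel),
      if_neg (by rw [top_val]; omega), if_neg (by rw [top_val]; omega),
      if_neg (by rw [top_val]; omega), if_neg (by rw [top_val]; omega),
      if_pos top_val.symm, hE.1, hE.2.1, hE.2.2.1, hE.2.2.2]
    simp [chainVec, evec]

variable (p : ℕ) [Fact p.Prime] [CharP K p]

include p in
/-- The coordinate at the long root of the pencil. -/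
theorem one_fixed (hO : Over certFullG2 φ H) {v : GL chevG2.Idx K}
    (hv : v ∈ certFullG2.rad K 1) {k : K} (hk : k ≠ 0) (hy : v * X 0 k * v⁻¹ ∈ H) :
    φ (coord0 v 1) = coord0 v 1 := by
  have hgr := checks_ok.1
  have hp := checks_ok.2.2.1
  obtain ⟨hm, ha, -, -, -, -, -, -, -, -, em, ea⟩ := certFullG2.pencil_spec hgr hp
  rw [neg_val] at em ea
  by_contra hμ0
  rcases certFullG2.pencil_or hgr hp p hO hv hk hy with h | ⟨-, -, h2, hsmall, α, β, hd⟩
  · rw [← ea] at h
    exact hμ0 h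
  rw [← em, ← ea, top_val, CertFull.rr] at hd
  obtain ⟨a, b, w, d, e, hve, h1, -, -⟩ := rad_form hv
  simp only [show 11 - 6 = 5 from rfl, show 11 - 10 = 1 from rfl] at hd
  set μ := coord0 v 1
  have hμne : μ ≠ 0 := fun h => hμ0 (by rw [h, map_zero])
  set dd := v * (X 5 α * X 10 β * certFullG2.hg 11 μ) * v⁻¹ with hdd
  have hvT : ∀ s : K, v * X 11 s * v⁻¹ = X 11 s := fun s => by
    have := (certFullG2.commute_top hgr hv s).eq
    rw [top_val] at this
    rw [this, mul_inv_cancel_right]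
  have hvT' : ∀ s : K, v⁻¹ * X 11 s * v = X 11 s := fun s => by
    conv_lhs => rw [← hvT s]
    group
  have hαne : α ≠ 0 := fun hα => by
    have hx := mul_mem (mul_mem hd (hO.root 11 (lt_twelve (by omega)) 1 (map_one φ))) (inv_mem hd)
    refine hμ0 (sq_fixed h2 (hO.long _ ?_))
    rw [top_val]
    convert hx using 1
    rw [hdd, show ∀ v r z x : GL chevG2.Idx K, v * (r * z) * v⁻¹ * x * (v * (r * z) * v⁻¹)⁻¹ =
      v * (r * (z * (v⁻¹ * x * v) * z⁻¹) * r⁻¹) * v⁻¹ from fun v r z x => by group, hvT',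
      certFullG2.hg_conj (lt_twelve (by omega)) (lt_twelve (by omega)) hμne,
      pairing_top.2.2.2.2, hα, Cert.xg_zero, one_mul, conj_commute (by simp), hvT]
    simp [sq]
  -- conjugate `x_a(1)`
  set n0 := X 8 b * tri w d e with hn0
  have hn0f : Form 0 b n0 := by simpa using form_mul (form_eight b) (form_tri w d e)
  have hz := mul_mem (mul_mem hd (hO.root 7 (lt_twelve (by omega)) 1 (map_one φ))) (inv_mem hd)
  have hform : Form (1 + α * (μ * -a)) (μ * -a + a * (1 + α * (μ * -a)))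
      (dd * X 7 1 * dd⁻¹) := by
    have f1 := form_conj (form_inv hn0f) (form_six (-a) (form_seven (1 : K)))
    rw [zero_add, mul_one] at f1
    have f2 := form_five α (form_conj (A' := 0) (B' := 0) (n := X 10 β)
      (by rw [tri_ten]; exact form_tri 0 β 0) (form_hg hμne f1))
    have f3 := form_six a (form_conj hn0f f2)
    convert f3 using 1
    rw [hdd, hve, ← Cert.xg_inv]
    group
  obtain ⟨hA, hB⟩ := form_fixed hO hform hz
  have ha' : -a = μ := h1.symm
  rw [ha'] at hA hB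
  rcases hsmall _ hA with hA0 | hA1
  · have h := hB hA0
    rw [show 3 * (μ * μ + a * (1 + α * (μ * μ))) = μ ^ 2 by
      rw [hA0]; linear_combination μ ^ 2 * h2] at h
    exact hμ0 (sq_fixed h2 h)
  · have : α * (μ * μ) = 0 := by linear_combination hA1
    exact mul_ne_zero hαne (mul_ne_zero hμne hμne) this

include p in
/-- The coordinate at the other long root. -/
theorem five_fixed (hO : Over certFullG2 φ H) {v : GL chevG2.Idx K}
    (hv : v ∈ certFullG2.rad K 1) {k : K} (hk : k ≠ 0) (hy : v * X 0 k * v⁻¹ ∈ H) :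
    φ (coord0 v 5) = coord0 v 5 := by
  obtain ⟨v', hv', k', hk', hy', h⟩ :=
    certFullG2.swap_frame checks_ok.1 checks_ok.2.2.2.2 hO hv hk hy
  refine h 5 (lt_twelve (by omega)) ?_
  rw [show certFullG2.T.wlT [0] 5 = 1 by decide +kernel]
  exact one_fixed p hO hv' hk' hy'

include p in
/-- A coordinate at a short root. -/
theorem two_fixed (hO : Over certFullG2 φ H) {v : GL chevG2.Idx K}
    (hv : v ∈ certFullG2.rad K 1) {k : K} (hk : k ≠ 0) (hy : v * X 0 k * v⁻¹ ∈ H) :
    φ (coord0 v 2) = coord0 v 2 := by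
  have hgr := checks_ok.1
  obtain ⟨a, b, w, d, e, hve, h1, h2, h5⟩ := rad_form hv
  have ha : φ a = a := by
    have := one_fixed p hO hv hk hy
    rwa [h1, map_neg, neg_inj] at this
  have hd : φ d = d := by
    have := five_fixed p hO hv hk hy
    rwa [h5] at this
  rw [h2, map_neg, neg_inj]
  -- strip
  set u := X 8 b * tri w 0 e with hu
  have hmem : ∀ r, r < 12 → ∀ t, φ t = t → X r t ∈ H := fun r hr => hO.root r (lt_twelve hr)
  have huy : u * X 0 k * u⁻¹ ∈ H := by
    have hx := mul_mem (hmem 10 (by omega) (-d) (by rw [map_neg, hd]))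
      (hmem 6 (by omega) (-a) (by rw [map_neg, ha]))
    have := mul_mem (mul_mem hx hy) (inv_mem hx)
    have e : u = X 10 (-d) * X 6 (-a) * v := by
      rw [hve, ← Cert.xg_inv certFullG2.toCert 6, ← mul_assoc, mul_assoc (X 10 (-d)), inv_mul_cancel, mul_one,
        ← mul_assoc, ← (commute_pair (r := 8) (s := 10) (by simp) b (-d)).eq, mul_assoc, tri_ten,
        tri_mul]
      simp [hu]
    convert this using 1
    rw [e]; group
  have hu6 : ∀ t : K, u * X 6 t * u⁻¹ = X 6 t := fun t => by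
    have h8 := commute_pair (r := 6) (s := 8) (by simp) t b
    have hT : Commute (X 6 t) (tri w (0 : K) e) := by
      have := six_tri t w 0 e
      rw [mul_zero, add_zero, mul_inv_eq_iff_eq_mul] at this
      exact this
    rw [hu, ← (h8.mul_right hT).eq, mul_inv_cancel_right]
  have hu10 : ∀ t : K, u * X 10 t * u⁻¹ = X 10 t := fun t => by
    have h8 := (commute_pair (r := 8) (s := 10) (by simp) b t).symm
    have hT : Commute (X 10 t) (tri w (0 : K) e) := by
      rw [tri_ten, Commute, SemiconjBy, tri_mul, tri_mul, add_comm 0 w, add_comm t, add_comm 0 e]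
    rw [hu, ← (h8.mul_right hT).eq, mul_inv_cancel_right]
  have hu11 : ∀ t : K, u * X 11 t * u⁻¹ = X 11 t := fun t => by
    have h8 := (commute_pair (r := 8) (s := 11) (by simp) b t).symm
    have hT : Commute (X 11 t) (tri w (0 : K) e) := by
      rw [tri_eleven, Commute, SemiconjBy, tri_mul, tri_mul, add_comm 0 w, add_comm t]
    rw [hu, ← (h8.mul_right hT).eq, mul_inv_cancel_right]
  set Hc := H.comap (MulAut.conj u).toMonoidHom with hHc
  have h0c : X 0 k ∈ Hc := huy
  have hc : ∀ r t, u * X r t * u⁻¹ = X r t → X r t ∈ H → X r t ∈ Hc := fun r t e h => by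
    show u * X r t * u⁻¹ ∈ H
    rw [e]; exact h
  have hcomm : ∀ {x y : GL chevG2.Idx K}, x ∈ Hc → y ∈ Hc → y⁻¹ * (x * y * x⁻¹) ∈ Hc :=
    fun hx hy => mul_mem (inv_mem hy) (mul_mem (mul_mem hx hy) (inv_mem hx))
  have h10c := hc 10 1 (hu10 1) (hmem 10 (by omega) 1 (map_one φ))
  have h1c := hcomm h0c (hc 6 1 (hu6 1) (hmem 6 (by omega) 1 (map_one φ)))
  rw [c06, inv_mul_cancel_left, mul_one] at h1c
  have h6c := hcomm h1c (hc 11 1 (hu11 1) (hmem 11 (by omega) 1 (map_one φ)))
  rw [c111, inv_mul_cancel_left, mul_one] at h6c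
  have h6H : X 6 (-k) ∈ H := by
    have : u * X 6 (-k) * u⁻¹ ∈ H := h6c
    rwa [hu6] at this
  have hk' : φ (-k) = -k := by
    refine hO.long _ ?_
    have h := mul_mem (inv_mem (hmem 10 (by omega) 1 (map_one φ)))
      (mul_mem (mul_mem h6H (hmem 10 (by omega) 1 (map_one φ))) (inv_mem h6H))
    rw [c610, inv_mul_cancel_left, mul_one] at h
    rw [top_val]; exact h
  have h5c := hcomm h0c h10c
  rw [c010, inv_mul_cancel_left, mul_one] at h5c
  set κ := -k
  have hz : u * X 5 κ * u⁻¹ * (X 5 κ)⁻¹ ∈ H :=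
    mul_mem h5c (inv_mem (hmem 5 (by omega) κ hk'))
  have hform : Form (0 + (0 + κ * -b)) (b + -b) (u * X 5 κ * u⁻¹ * (X 5 κ)⁻¹) := by
    have hu0 : Form 0 b u := by simpa using form_mul (form_eight b) (form_tri w 0 e)
    convert form_mul hu0 (form_five κ (form_inv hu0)) using 1
    · simp
    · group
  obtain ⟨hA, -⟩ := form_fixed hO hform hz
  rw [zero_add, zero_add, map_mul, hk', map_neg] at hA
  exact neg_injective (mul_left_cancel₀ (neg_ne_zero.2 hk) hA)

include p in
/-- Radical conjugates of the lowest root elements in the group have coordinates in the subfield. -/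
theorem coord_fixed (hO : Over certFullG2 φ H) {v : GL chevG2.Idx K}
    (hv : v ∈ certFullG2.rad K 1) {k : K} (hk : k ≠ 0) (hy : v * X 0 k * v⁻¹ ∈ H) {u : ℕ}
    (hu : u < chevG2.nroots) (hgu : certFullG2.T.vec u 1 = -1) : φ (coord0 v u) = coord0 v u := by
  have hcases : ∀ u < 12, certFullG2.T.vec u 1 = -1 → u = 1 ∨ u = 2 ∨ u = 3 ∨ u = 5 := by
    decide +kernel
  rcases hcases u (by rwa [certFullG2.nroots_eq, size_ok.1] at hu) hgu with rfl | rfl | rfl | rfl
  · exact one_fixed p hO hv hk hy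
  · exact two_fixed p hO hv hk hy
  · obtain ⟨v', hv', k', hk', hy', h⟩ :=
      certFullG2.swap_frame checks_ok.1 checks_ok.2.2.2.2 hO hv hk hy
    refine h 3 hu ?_
    rw [show certFullG2.T.wlT [0] 3 = 2 by decide +kernel]
    exact two_fixed p hO hv' hk' hy'
  · exact five_fixed p hO hv hk hy

/-- The data for `G₂`. -/
def reachG2 : ReachData where
  L₀ := [1, 0, 1, 0, 1]
  roots := [([1], some 8), ([0, 1], none)]
  gens := [([1, 0, 1], some (3, 11, [])), ([0, 1], none)]

theorem reach_ok : certFullG2.T.checkReach reachG2 = true := by decide +kernel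

end G2Sub

open Cfsg.Lie

open G2Sub in
/-- Subfield data for `G₂`. -/
noncomputable def subfieldDataG2 {K : Type*} [Field K] (p : ℕ) [Fact p.Prime] [CharP K p] :
    SubfieldData certFullG2 K where
  j := 1
  grade := checks_ok.1
  reachData := reachG2
  reach := reach_ok
  a := 10
  g := 5
  C := -1
  doublet := checks_ok.2.2.2.1
  rad := fun φ H hO v hv k hk hy => by
    have hL₀ := certFullG2.checkWord_spec (w := reachG2.L₀) (x := 0) (by
      have := reach_ok
      simp only [Tables.checkReach, Bool.and_eq_true] at this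
      exact this.1)
    exact certFullG2.rad_fixed checks_ok.1 hO hL₀ checks_ok.2.1
      (fun v hv k hk hy u hu hgu => coord_fixed p hO hv hk hy hu hgu)
      (fun e k hk hy => certFullG2.top_fixed checks_ok.1 hO checks_ok.2.2.1 checks_ok.2.1
        (fun v hv k hk hy u hu hgu => coord_fixed p hO hv hk hy hu hgu) hk hy) hv hk hy

end Cfsg.Agent.Lie.Chev
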