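import Cfsg.Agent.Lib.Lie.Chev.Centralizer
import Cfsg.Agent.Lib.Lie.Chev.Props

/-! The grading of a Chevalley group by the highest root: rows of root elements, the coordinates
of the unipotent radical, and the splitting of the unipotent subgroup. -/

set_option autoImplicit false

namespace Cfsg.Agent.Lie.Chev

open Cfsg.Lie Matrix

namespace Tables

variable (T : Tables)

/-- The roots whose chains along `r` meet `u`. -/
def rowCols (r u : ℕ) : List ℕ :=
  (List.range T.n).filter fun s =>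
    !(Nat.beq s r) && !(Nat.beq s (T.neg r)) && (T.entry r s).any fun q => Nat.beq q.1 u

/-- The node `j` grades the roots by `-2, …, 2`, the extreme values only at the extreme roots. -/
def checkGrade (j : ℕ) : Bool :=
  Nat.blt j T.l && intBeq (T.vec (T.n - 1) j) 2 && Nat.ble 2 T.n &&
    ((List.range T.l).all fun i => intBeq (T.coroot 0 i) (-(T.coroot (T.n - 1) i))) &&
    intBeq (T.pairing (T.n - 1) (T.n - 1)) 2 &&
    (List.range T.n).all fun s =>
      decide (-2 ≤ T.vec s j) && decide (T.vec s j ≤ 2) &&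
        (!(intBeq (T.vec s j) 2) || Nat.beq s (T.n - 1)) &&
        (!(intBeq (T.vec s j) (-2)) || Nat.beq s 0)

end Tables

/-- The coordinate at a root of the image of the lowest root vector. -/
noncomputable def coord0 {D : ChevalleyDatum} {F : Type*} [Field F] (v : GL D.Idx F) (u : ℕ) : F :=
  if h : u < D.nroots then
    ((v : Matrix D.Idx D.Idx F) *ᵥ evec D F 0) (Sum.inr ⟨u, h⟩) else 0

/-- Soundness of the comparison of integers. -/
theorem of_intBeq {x y : ℤ} (h : intBeq x y = true) : x = y := by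
  cases x <;> cases y <;> simp [intBeq] at h <;> simp [h]

namespace CertFull

variable {D : ChevalleyDatum} (c : CertFull D) {F : Type*} [Field F]

/-- The highest root. -/
abbrev top : ℕ := c.T.n - 1

include c

theorem commute_of_nil {r s : ℕ} (hr : r < D.nroots) (hs : s < D.nroots) (h1 : s ≠ r)
    (h2 : s ≠ D.neg r) (h : c.T.commTerms r s = []) (t u : F) :
    Commute (c.xg r t) (c.xg s u) := by
  have e := c.xg_comm hr hs h1 h2 t u
  rw [h, List.map_nil, List.prod_nil, mul_one] at e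
  exact e.symm

theorem chainVec_eq_zero {u : ℕ} (hu : u < D.nroots) (τ : F) : ∀ (j : ℕ) (L : List (ℕ × ℤ)),
    (∀ q ∈ L, q.1 ≠ u) → chainVec D F τ j L (Sum.inr ⟨u, hu⟩) = 0 := by
  intro j L
  induction L generalizing j with
  | nil => intro _; rfl
  | cons a L ih =>
    intro h
    rw [chainVec, Pi.add_apply, Pi.smul_apply, ih (j + 1) fun q hq => h q (by simp [hq])]
    simp [evec, Ne.symm (h a (by simp))]

/-- A root coordinate of the image of a vector under a root element. -/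
theorem mulVec_inr {r u : ℕ} (hr : r < D.nroots) (hu : u < D.nroots) (hne : u ≠ r) (t : F)
    (z : D.Idx → F) :
    (D.x F r t *ᵥ z) (Sum.inr ⟨u, hu⟩) = z (Sum.inr ⟨u, hu⟩) +
      ((c.T.rowCols r u).map fun s => if h : s < D.nroots then
        z (Sum.inr ⟨s, h⟩) * chainVec D F t 1 (c.T.entry r s) (Sum.inr ⟨u, hu⟩) else 0).sum := by
  classical
  have hcol : ∀ j, D.x F r t (Sum.inr ⟨u, hu⟩) j =
      (D.x F r t *ᵥ (Pi.single j 1 : D.Idx → F)) (Sum.inr ⟨u, hu⟩) := fun j => by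
    rw [Matrix.mulVec_single_one]; rfl
  set g : ℕ → F := fun s => if h : s < D.nroots then
      z (Sum.inr ⟨s, h⟩) * chainVec D F t 1 (c.T.entry r s) (Sum.inr ⟨u, hu⟩) else 0 with hg
  have hterm : ∀ s : Fin D.nroots, D.x F r t (Sum.inr ⟨u, hu⟩) (Sum.inr s) * z (Sum.inr s) =
      (if (s : ℕ) = u then z (Sum.inr ⟨u, hu⟩) else 0) +
        (if (s : ℕ) ∈ c.T.rowCols r u then g s else 0) := by
    intro s
    rw [hcol, single_inr]
    by_cases h1 : (s : ℕ) = r
    · rw [h1, c.x_evec_self hr, if_neg (Ne.symm hne), if_neg (by simp [Tables.rowCols]),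
        show evec D F r (Sum.inr ⟨u, hu⟩) = 0 by simp [evec, hne]]
      simp
    by_cases h2 : (s : ℕ) = D.neg r
    · have hn : D.neg r = c.T.neg r := c.neg_eq hr
      rw [h2, c.x_evec_neg hr, if_neg (show ¬ D.neg r ∈ c.T.rowCols r u by
        simp [Tables.rowCols, hn])]
      have e : z (Sum.inr s) = z (Sum.inr (⟨D.neg r, c.neg_lt hr⟩ : Fin D.nroots)) := by
        congr 2; exact Fin.ext h2
      by_cases hu2 : D.neg r = u
      · subst hu2
        rw [if_pos rfl, e]
        simp [evec, c.hroot_apply_inr, c.neg_ne hr]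
      · rw [if_neg hu2]
        simp [evec, c.hroot_apply_inr, hne, Ne.symm hu2]
    rw [c.x_evec hr s.isLt h1 h2, Pi.add_apply, add_mul]
    congr 1
    · by_cases hsu : (s : ℕ) = u
      · rw [if_pos hsu]
        subst hsu
        simp [evec]
      · rw [if_neg hsu]
        simp [evec, Ne.symm hsu]
    · by_cases hmem : (s : ℕ) ∈ c.T.rowCols r u
      · rw [if_pos hmem, hg]
        simp only [dif_pos s.isLt]
        ring
      · rw [if_neg hmem, c.chainVec_eq_zero hu t 1 _ (fun q hq e => hmem ?_), zero_mul]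
        simp only [Tables.rowCols, List.mem_filter, List.mem_range, Bool.and_eq_true,
          Bool.not_eq_true', List.any_eq_true, Nat.beq_eq]
        refine ⟨c.nroots_eq ▸ s.isLt, ⟨?_, ?_⟩, q, hq, e⟩
        · exact Bool.eq_false_iff.2 fun h => h1 (Nat.beq_eq.symm ▸ h : _)
        · refine Bool.eq_false_iff.2 fun h => h2 ?_
          rw [Nat.beq_eq] at h
          rw [h, c.neg_eq hr]
  have hhvec : ∀ i : Fin D.rank, D.x F r t (Sum.inr ⟨u, hu⟩) (Sum.inl i) = 0 := fun i => by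
    rw [hcol, single_inl, c.x_hvec hr i.isLt]
    simp [evec, hvec, hne]
  rw [Matrix.mulVec, dotProduct, Fintype.sum_sum_type,
    Finset.sum_eq_zero (fun i _ => by rw [hhvec, zero_mul]), zero_add,
    Finset.sum_congr rfl (fun s _ => hterm s), Finset.sum_add_distrib]
  congr 1
  · rw [Finset.sum_eq_single (⟨u, hu⟩ : Fin D.nroots) (fun b _ hb => by
      rw [if_neg fun e => hb (Fin.ext e)]) (by simp)]
    simp
  · have hnd : (c.T.rowCols r u).Nodup := List.Nodup.filter _ List.nodup_range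
    have hsub : ∀ s ∈ c.T.rowCols r u, s < D.nroots := fun s hs => by
      rw [c.nroots_eq]; exact List.mem_range.1 (List.mem_filter.1 hs).1
    rw [← List.sum_toFinset g hnd, Finset.sum_ite, Finset.sum_const_zero, add_zero]
    refine Finset.sum_bij' (fun s _ => (s : ℕ))
      (fun s hs => ⟨s, hsub s (List.mem_toFinset.1 hs)⟩) ?_ ?_ ?_ ?_ ?_
    · intro s hs; exact List.mem_toFinset.2 (Finset.mem_filter.1 hs).2
    · intro s hs
      exact Finset.mem_filter.2 ⟨Finset.mem_univ _, List.mem_toFinset.1 hs⟩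
    · intros; rfl
    · intros; rfl
    · intros; rfl

variable {j : ℕ} (hj : c.T.checkGrade j = true)

include hj

theorem grade_spec : j < D.rank ∧ c.T.vec c.top j = 2 ∧ 2 ≤ D.nroots ∧
    (∀ i < D.rank, c.T.coroot 0 i = -c.T.coroot c.top i) ∧ c.T.pairing c.top c.top = 2 ∧
    ∀ s < D.nroots, -2 ≤ c.T.vec s j ∧ c.T.vec s j ≤ 2 ∧ (c.T.vec s j = 2 → s = c.top) ∧
      (c.T.vec s j = -2 → s = 0) := by
  simp only [Tables.checkGrade, Bool.and_eq_true, List.all_eq_true, List.mem_range,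
    Bool.or_eq_true, Bool.not_eq_true', decide_eq_true_eq, Nat.beq_eq, Nat.blt_eq,
    Nat.ble_eq] at hj
  obtain ⟨⟨⟨⟨⟨h1, h2⟩, h3⟩, h4⟩, h5⟩, h6⟩ := hj
  refine ⟨c.rank_eq ▸ h1, of_intBeq h2, c.nroots_eq ▸ h3,
    fun i hi => of_intBeq (h4 i (c.rank_eq ▸ hi)), of_intBeq h5, fun s hs => ?_⟩
  obtain ⟨⟨⟨h7, h8⟩, h9⟩, h10⟩ := h6 s (c.nroots_eq ▸ hs)
  refine ⟨h7, h8, fun e => ?_, fun e => ?_⟩
  · rcases h9 with h | h
    · rw [e] at h; exact absurd h (by decide)
    · exact h
  · rcases h10 with h | h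
    · rw [e] at h; exact absurd h (by decide)
    · exact h

theorem top_lt : c.top < D.nroots := by
  have := (c.grade_spec hj).2.2.1
  have := c.nroots_eq
  simp only [top]; omega

theorem zero_lt : 0 < D.nroots := by
  have := (c.grade_spec hj).2.2.1
  omega

theorem top_eq : c.top = D.nroots - 1 := by rw [c.nroots_eq]

theorem neg_top : D.neg c.top = 0 := by
  rw [c.neg_val (c.top_lt hj), c.top_eq hj]
  have := c.zero_lt hj
  omega

theorem pos_top : c.Pos c.top := by
  have := c.h_add_h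
  have := c.zero_lt hj
  refine ⟨?_, c.top_lt hj⟩
  rw [c.top_eq hj]; omega

theorem vec_zero : c.T.vec 0 j = -2 := by
  rw [← c.neg_top hj, c.vec_neg (c.top_lt hj) (c.grade_spec hj).1, (c.grade_spec hj).2.1]

/-- The grade along a chain. -/
theorem entry_grade {r s : ℕ} (hr : r < D.nroots) (hs : s < D.nroots) {q : ℕ × ℤ}
    (hq : q ∈ c.T.entry r s) : q.1 < D.nroots ∧
      ∃ i : ℕ, 1 ≤ i ∧ c.T.vec q.1 j = c.T.vec s j + (i : ℤ) * c.T.vec r j := by
  refine ⟨c.entry_lt hr hs q hq, ?_⟩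
  obtain ⟨i, hi⟩ := List.getElem?_of_mem hq
  exact ⟨i + 1, by omega, c.chainRoot_vec hr hs (by omega)
    (by rw [Tables.chainRoot, Nat.add_sub_cancel, hi]; rfl) (c.grade_spec hj).1⟩

/-- A root of positive grade is positive. -/
theorem pos_of_grade {a : ℕ} (ha : a < D.nroots) (h : 0 < c.T.vec a j) : c.Pos a :=
  c.pos_of_vec_pos ha (c.grade_spec hj).1 h

/-- Root elements of grade zero commute with the lowest root elements. -/
theorem commute_zero {a : ℕ} (ha : a < D.nroots) (h : c.T.vec a j = 0) (t u : F) :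
    Commute (c.xg a t) (c.xg 0 u) ∧
      D.x F a t *ᵥ evec D F 0 = evec D F 0 := by
  obtain ⟨hjr, hT, -, -, -, hall⟩ := c.grade_spec hj
  have h0 := c.zero_lt hj
  have hv0 := c.vec_zero hj
  have ha0 : a ≠ 0 := fun e => by rw [e, hv0] at h; omega
  have haT : a ≠ c.top := fun e => by rw [e, hT] at h; omega
  have hneg : 0 ≠ D.neg a := fun e => haT (by
    rw [← c.neg_neg ha, ← e, ← c.neg_top hj, c.neg_neg (c.top_lt hj)])
  refine ⟨c.commute_of_nil ha h0 ha0.symm hneg (List.eq_nil_iff_forall_not_mem.2 fun x hx => ?_)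
    t u, ?_⟩
  · obtain ⟨hx1, hi, hjj, hcode⟩ := c.mem_commTerms ha h0 hx
    have hv := c.commTerms_vec ha h0 hjr hx
    rw [h, hv0] at hv
    obtain ⟨g1, g2, -, g4⟩ := hall x.1 hx1
    have hj1 : x.2.2.2 = 1 := by
      have : (x.2.2.2 : ℤ) ≤ 1 := by omega
      omega
    rw [hj1] at hv hcode
    have e0 := g4 (by omega)
    rw [e0] at hcode
    have hc : (x.2.2.1 : ℤ) * c.T.code a = 0 := by push_cast at hcode; omega
    rcases mul_eq_zero.1 hc with h' | h'
    · omega
    · have := c.code_neg ha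
      exact c.neg_ne ha (c.code_inj (c.neg_lt ha) ha (by omega))
  · rw [c.x_evec ha h0 ha0.symm hneg]
    suffices c.T.entry a 0 = [] by rw [this]; simp [chainVec]
    refine List.eq_nil_iff_forall_not_mem.2 fun q hq => ?_
    obtain ⟨i, hi⟩ := List.getElem?_of_mem hq
    have hroot : c.T.chainRoot a 0 (i + 1) = some q.1 := by
      rw [Tables.chainRoot, Nat.add_sub_cancel, hi]; rfl
    have hq1 := c.entry_lt ha h0 q hq
    have hv := c.chainRoot_vec ha h0 (by omega) hroot hjr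
    rw [h, hv0] at hv
    have e0 := (hall q.1 hq1).2.2.2 (by omega)
    have hc := c.chainRoot_code ha h0 (by omega) hroot
    rw [e0] at hc
    have h' : ((i + 1 : ℕ) : ℤ) * c.T.code a = 0 := by omega
    rcases mul_eq_zero.1 h' with h' | h'
    · omega
    · have := c.code_neg ha
      exact c.neg_ne ha (c.code_inj (c.neg_lt ha) ha (by omega))

omit hj

/-- The roots of positive grade. -/
def radS (j : ℕ) : Set ℕ := {a | a < D.nroots ∧ 0 < c.T.vec a j}

/-- The unipotent radical belonging to the node. -/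
def rad (F : Type*) [Field F] (j : ℕ) : Subgroup (GL D.Idx F) := c.KS F (c.radS j) c.T.h

/-- The elements commuting with the lowest root subgroup and fixing its vector. -/
def cen0 (F : Type*) [Field F] : Subgroup (GL D.Idx F) where
  carrier := {l | (∀ u : F, Commute l (c.xg 0 u)) ∧
    (l : Matrix D.Idx D.Idx F) *ᵥ evec D F 0 = evec D F 0}
  one_mem' := ⟨fun u => Commute.one_left _, by simp⟩
  mul_mem' := fun {a b} ha hb => ⟨fun u => (ha.1 u).mul_left (hb.1 u), by
    rw [Units.val_mul, ← Matrix.mulVec_mulVec, hb.2, ha.2]⟩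
  inv_mem' := fun {a} ha => ⟨fun u => (ha.1 u).inv_left, by
    calc ((a⁻¹ : GL D.Idx F) : Matrix D.Idx D.Idx F) *ᵥ evec D F 0 =
        ((a⁻¹ : GL D.Idx F) : Matrix D.Idx D.Idx F) *ᵥ
          ((a : Matrix D.Idx D.Idx F) *ᵥ evec D F 0) := by rw [ha.2]
      _ = evec D F 0 := by rw [Matrix.mulVec_mulVec, ← Units.val_mul, inv_mul_cancel]; simp⟩

include hj

theorem radS_pos {a : ℕ} (ha : a ∈ c.radS j) : c.Pos a := c.pos_of_grade hj ha.1 ha.2

theorem radS_comm {a r : ℕ} (ha : c.Pos a) (hr : r ∈ c.radS j) {x : ℕ × ℤ × ℕ × ℕ}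
    (hx : x ∈ c.T.commTerms a r) : x.1 ∈ c.radS j := by
  obtain ⟨hjr, -⟩ := c.grade_spec hj
  obtain ⟨hx1, hi, hj', -⟩ := c.mem_commTerms ha.2 hr.1 hx
  refine ⟨hx1, ?_⟩
  rw [c.commTerms_vec ha.2 hr.1 hjr hx]
  have h0 := (c.vec_nonneg ha.2 ha.1).1 j hjr
  have h1 := hr.2
  have : (1 : ℤ) ≤ (x.2.2.2 : ℕ) := by exact_mod_cast hj'
  nlinarith [Int.natCast_nonneg x.2.2.1]

theorem radS_closed : c.IsClosed (c.radS j) :=
  ⟨fun _ h => c.radS_pos hj h, fun _ hr _ hs _ hx => c.radS_comm hj (c.radS_pos hj hr) hs hx⟩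

theorem rad_le_U : c.rad F j ≤ D.posUnipotent F := c.KS_le_U (c.radS_closed hj) _

theorem xg_mem_rad {a : ℕ} (ha : a ∈ c.radS j) (t : F) : c.xg a t ∈ c.rad F j :=
  c.xg_mem_KS ha (c.radS_pos hj ha).1 t

/-- Positive root elements normalise the radical. -/
theorem rad_conj {u : GL D.Idx F} (hu : u ∈ D.posUnipotent F) {g : GL D.Idx F}
    (hg : g ∈ c.rad F j) : u * g * u⁻¹ ∈ c.rad F j := by
  have key : ∀ a, c.Pos a → ∀ t : F, ∀ g ∈ c.rad F j,
      c.xg a t * g * (c.xg a t)⁻¹ ∈ c.rad F j := by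
    intro a ha t g hg
    refine conj_closure_mem ?_ hg
    rintro g ⟨s, v, hs, hle, rfl⟩
    by_cases hne : s = a
    · subst hne
      rw [← c.xg_add, c.xg_inv, ← c.xg_add]
      exact c.xg_mem_KS hs hle _
    have hs' := c.radS_pos hj hs
    have hneg : s ≠ D.neg a := fun e => ((c.not_pos_iff ha.2).2 (e ▸ hs')) ha
    rw [c.xg_inv, mul_assoc, c.xg_comm ha.2 hs'.2 hne hneg, ← mul_assoc, ← mul_assoc, ← c.xg_add,
      add_neg_cancel, c.xg_zero, one_mul]
    refine mul_mem (c.xg_mem_KS hs hle v) (Subgroup.list_prod_mem _ fun k hk => ?_)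
    obtain ⟨x, hx, rfl⟩ := List.mem_map.1 hk
    exact c.xg_mem_rad hj (c.radS_comm hj ha hs hx) _
  have hnorm : u ∈ Subgroup.normalizer (c.rad F j : Set (GL D.Idx F)) := by
    refine (Subgroup.closure_le _).2 ?_ hu
    rintro x ⟨r, t, hr, hx⟩
    obtain rfl := c.eq_xg_iff.1 hx
    rw [SetLike.mem_coe, Subgroup.mem_normalizer_iff]
    refine fun k => ⟨key r (c.posRoot_iff.1 hr) t k, fun hk => ?_⟩
    have := key r (c.posRoot_iff.1 hr) (-t) _ hk
    rw [← c.xg_inv, inv_inv] at this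
    simpa [mul_assoc] using this
  exact (Subgroup.mem_normalizer_iff.1 hnorm g).1 hg

/-- The unipotent subgroup is the radical times the centraliser of the lowest root. -/
theorem rad_split {g : GL D.Idx F} (hg : g ∈ D.posUnipotent F) :
    ∃ v ∈ c.rad F j, ∃ l ∈ c.cen0 F, l ∈ D.posUnipotent F ∧ g = v * l := by
  induction hg using Subgroup.closure_induction with
  | mem g hg =>
    obtain ⟨r, t, hr, hx⟩ := hg
    obtain rfl := c.eq_xg_iff.1 hx
    have hr' := c.posRoot_iff.1 hr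
    have h0 := (c.vec_nonneg hr'.2 hr'.1).1 j (c.grade_spec hj).1
    rcases h0.lt_or_eq with h | h
    · exact ⟨_, c.xg_mem_rad hj ⟨hr'.2, h⟩ t, 1, one_mem _, one_mem _, (mul_one _).symm⟩
    · exact ⟨1, one_mem _, _, ⟨fun u => (c.commute_zero hj hr'.2 h.symm t u).1,
        (c.commute_zero hj hr'.2 h.symm t 0).2⟩, c.xg_mem_U hr' t, (one_mul _).symm⟩
  | one => exact ⟨1, one_mem _, 1, one_mem _, one_mem _, (mul_one _).symm⟩
  | mul a b _ _ ha hb =>
    obtain ⟨v, hv, l, hl, hlU, rfl⟩ := ha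
    obtain ⟨v', hv', l', hl', hlU', rfl⟩ := hb
    exact ⟨v * (l * v' * l⁻¹), mul_mem hv (c.rad_conj hj hlU hv'), l * l', mul_mem hl hl',
      mul_mem hlU hlU', by group⟩
  | inv a _ ha =>
    obtain ⟨v, hv, l, hl, hlU, rfl⟩ := ha
    refine ⟨l⁻¹ * v⁻¹ * l, ?_, l⁻¹, inv_mem hl, inv_mem hlU, by group⟩
    have := c.rad_conj hj (inv_mem hlU) (inv_mem hv)
    rwa [inv_inv] at this

/-- The lowest coordinate is fixed by the radical, and the coordinates of grade `-1` are shifted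
by a multiple of it. -/
theorem rad_row {v : GL D.Idx F} (hv : v ∈ c.rad F j) {u : ℕ} (hu : u < D.nroots)
    (hgu : c.T.vec u j = -1) : ∃ ν : F, ∀ z : D.Idx → F,
      ((v : Matrix D.Idx D.Idx F) *ᵥ z) (Sum.inr ⟨0, c.zero_lt hj⟩) =
          z (Sum.inr ⟨0, c.zero_lt hj⟩) ∧
        ((v : Matrix D.Idx D.Idx F) *ᵥ z) (Sum.inr ⟨u, hu⟩) =
          z (Sum.inr ⟨u, hu⟩) + ν * z (Sum.inr ⟨0, c.zero_lt hj⟩) := by
  have h0 := c.zero_lt hj
  induction hv using Subgroup.closure_induction with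
  | mem g hg =>
    obtain ⟨w, t, hw, -, rfl⟩ := hg
    have hw0 : (0 : ℕ) ≠ w := fun e => by
      have := hw.2; rw [← e, c.vec_zero hj] at this; omega
    have huw : u ≠ w := fun e => by have := hw.2; rw [← e, hgu] at this; omega
    have hcols : ∀ u', u' < D.nroots → c.T.vec u' j ≤ -1 →
        ∀ s ∈ c.T.rowCols w u', c.T.vec u' j = -1 ∧ s = 0 := by
      intro u' hu' hg' s hs
      simp only [Tables.rowCols, List.mem_filter, List.mem_range, Bool.and_eq_true,
        List.any_eq_true, Nat.beq_eq] at hs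
      obtain ⟨hs, -, q, hq, rfl⟩ := hs
      have hs' : s < D.nroots := c.nroots_eq ▸ hs
      obtain ⟨-, i, hi, hv⟩ := c.entry_grade hj hw.1 hs' hq
      obtain ⟨g1, -, -, g4⟩ := (c.grade_spec hj).2.2.2.2.2 s hs'
      have : (1 : ℤ) ≤ (i : ℤ) * c.T.vec w j := by
        have := hw.2; have : (1 : ℤ) ≤ i := by exact_mod_cast hi
        nlinarith
      exact ⟨by omega, g4 (by omega)⟩
    refine ⟨((c.T.rowCols w u).map fun s => if h : s < D.nroots then
      chainVec D F t 1 (c.T.entry w s) (Sum.inr ⟨u, hu⟩) else 0).sum, fun z => ⟨?_, ?_⟩⟩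
    · rw [Cert.xg_val, c.mulVec_inr hw.1 h0 hw0]
      have : c.T.rowCols w 0 = [] := List.eq_nil_iff_forall_not_mem.2 fun s hs => by
        have := (hcols 0 h0 (by rw [c.vec_zero hj]; omega) s hs).1
        rw [c.vec_zero hj] at this; omega
      simp [this]
    · rw [Cert.xg_val, c.mulVec_inr hw.1 hu huw, ← List.sum_map_mul_right]
      congr 2
      refine List.map_congr_left fun s hs => ?_
      obtain rfl := (hcols u hu hgu.le s hs).2
      rw [dif_pos h0, dif_pos h0, mul_comm]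
  | one => exact ⟨0, fun z => by simp⟩
  | mul a b _ _ ha hb =>
    obtain ⟨ν, hν⟩ := ha
    obtain ⟨ν', hν'⟩ := hb
    refine ⟨ν + ν', fun z => ?_⟩
    rw [Units.val_mul, ← Matrix.mulVec_mulVec]
    refine ⟨((hν _).1).trans (hν' z).1, ?_⟩
    rw [(hν _).2, (hν' z).1, (hν' z).2]
    ring
  | inv a _ ha =>
    obtain ⟨ν, hν⟩ := ha
    refine ⟨-ν, fun z => ?_⟩
    set z' := ((a⁻¹ : GL D.Idx F) : Matrix D.Idx D.Idx F) *ᵥ z with hz'
    have e : (a : Matrix D.Idx D.Idx F) *ᵥ z' = z := by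
      rw [hz', Matrix.mulVec_mulVec, ← Units.val_mul, mul_inv_cancel]; simp
    obtain ⟨h1, h2⟩ := hν z'
    rw [e] at h1 h2
    refine ⟨h1.symm, ?_⟩
    rw [h2, h1]
    ring


theorem coord_row {v : GL D.Idx F} (hv : v ∈ c.rad F j) {u : ℕ} (hu : u < D.nroots)
    (hgu : c.T.vec u j = -1) (z : D.Idx → F) :
    ((v : Matrix D.Idx D.Idx F) *ᵥ z) (Sum.inr ⟨0, c.zero_lt hj⟩) =
        z (Sum.inr ⟨0, c.zero_lt hj⟩) ∧
      ((v : Matrix D.Idx D.Idx F) *ᵥ z) (Sum.inr ⟨u, hu⟩) =
        z (Sum.inr ⟨u, hu⟩) + coord0 v u * z (Sum.inr ⟨0, c.zero_lt hj⟩) := by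
  obtain ⟨ν, hν⟩ := c.rad_row hj hv hu hgu
  have hu0 : u ≠ 0 := fun e => by rw [e, c.vec_zero hj] at hgu; omega
  have e : coord0 v u = ν := by
    rw [coord0, dif_pos hu, (hν _).2]
    simp [evec, hu0]
  rw [e]; exact hν z

theorem coord_mul {v w : GL D.Idx F} (hv : v ∈ c.rad F j) (hw : w ∈ c.rad F j) {u : ℕ}
    (hu : u < D.nroots) (hgu : c.T.vec u j = -1) :
    coord0 (v * w) u = coord0 v u + coord0 w u := by
  rw [coord0, dif_pos hu, Units.val_mul, ← Matrix.mulVec_mulVec,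
    (c.coord_row hj hv hu hgu _).2, (c.coord_row hj hw hu hgu _).1]
  simp [coord0, dif_pos hu, evec]
  ring

theorem coord_one {u : ℕ} (hu : u < D.nroots) (hgu : c.T.vec u j = -1) :
    coord0 (1 : GL D.Idx F) u = 0 := by
  have hu0 : u ≠ 0 := fun e => by rw [e, c.vec_zero hj] at hgu; omega
  simp [coord0, hu, evec, hu0]

theorem coord_inv {v : GL D.Idx F} (hv : v ∈ c.rad F j) {u : ℕ}
    (hu : u < D.nroots) (hgu : c.T.vec u j = -1) : coord0 v⁻¹ u = -coord0 v u := by
  have h := c.coord_mul hj hv (inv_mem hv) hu hgu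
  rw [mul_inv_cancel, c.coord_one hj hu hgu] at h
  linear_combination -h

theorem coord_xg {w : ℕ} (hw : w ∈ c.radS j) {u : ℕ} (hu : u < D.nroots)
    (hgu : c.T.vec u j = -1) (t : F) :
    coord0 (c.xg w t) u = if w = c.top then 0 else
      chainVec D F t 1 (c.T.entry w 0) (Sum.inr ⟨u, hu⟩) := by
  have h0 := c.zero_lt hj
  have hu0 : u ≠ 0 := fun e => by rw [e, c.vec_zero hj] at hgu; omega
  have hw0 : (0 : ℕ) ≠ w := fun e => by
    have := hw.2; rw [← e, c.vec_zero hj] at this; omega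
  rw [coord0, dif_pos hu, Cert.xg_val]
  have huw : u ≠ w := fun e => by have := hw.2; rw [← e, hgu] at this; omega
  by_cases hwt : w = c.top
  · rw [if_pos hwt, hwt, ← c.neg_top hj, c.x_evec_neg (c.top_lt hj)]
    have : u ≠ c.top := fun e => huw (e.trans hwt.symm)
    simp [evec, c.hroot_apply_inr, c.neg_top hj, hu0, this]
  · have hneg : (0 : ℕ) ≠ D.neg w := fun e => hwt (by
      rw [← c.neg_neg hw.1, ← e, ← c.neg_top hj, c.neg_neg (c.top_lt hj)])
    rw [if_neg hwt, c.x_evec hw.1 h0 hw0 hneg]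
    simp [evec, hu0]

end CertFull

end Cfsg.Agent.Lie.Chev
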