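import Cfsg.Agent.Lib.Lie.Chev.SubfieldCore
import Cfsg.Agent.Lib.Lie.Chev.TwistFrob

/-! Subfield groups: maximality, and the finite groups containing them. -/

set_option autoImplicit false

namespace Cfsg.Agent.Lie.Chev

open Cfsg.Lie Matrix

/-- What a type has to provide. -/
structure SubfieldData {D : ChevalleyDatum} (c : CertFull D) (F : Type*) [Field F] where
  j : ℕ
  grade : c.T.checkGrade j = true
  reachData : ReachData
  reach : c.T.checkReach reachData = true
  a : ℕ
  g : ℕ
  C : ℤ
  doublet : c.T.checkDoublet a g C = true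
  rad : ∀ (φ : F →+* F) (H : Subgroup (GL D.Idx F)), Over c φ H → ∀ v ∈ c.rad F j, ∀ k : F,
    k ≠ 0 → v * c.xg 0 k * v⁻¹ ∈ H → fixedBy φ (v * c.xg 0 k * v⁻¹)

/-- The roots of `X ^ Q - X`. -/
def powFixed (K : Type*) [Field K] (p : ℕ) [Fact p.Prime] [CharP K p] (e : ℕ) : Subfield K where
  carrier := {t | iterateFrobenius K p e t = t}
  mul_mem' := fun {x y} hx hy => by
    simp only [Set.mem_setOf_eq] at *; rw [map_mul, hx, hy]
  one_mem' := map_one _
  add_mem' := fun {x y} hx hy => by
    simp only [Set.mem_setOf_eq] at *; rw [map_add, hx, hy]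
  zero_mem' := map_zero _
  neg_mem' := fun {x} hx => by
    simp only [Set.mem_setOf_eq] at *; rw [map_neg, hx]
  inv_mem' := fun x hx => by
    simp only [Set.mem_setOf_eq] at *; rw [map_inv₀, hx]

theorem mem_powFixed {K : Type*} [Field K] {p : ℕ} [Fact p.Prime] [CharP K p] {e : ℕ} {t : K} :
    t ∈ powFixed K p e ↔ t ^ p ^ e = t := Iff.rfl

theorem one_lt_pow_prime {p a : ℕ} [Fact p.Prime] (ha : 1 ≤ a) : 1 < p ^ a :=
  Nat.one_lt_pow (by omega) (Fact.out : p.Prime).one_lt

open Polynomial in
theorem powFixed_finite (K : Type*) [Field K] (p : ℕ) [Fact p.Prime] [CharP K p] {e : ℕ}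
    (he : 1 ≤ e) : Finite (powFixed K p e) ∧ Nat.card (powFixed K p e) ≤ p ^ e := by
  classical
  set Q := p ^ e
  have hQ : 1 < Q := one_lt_pow_prime he
  set f : K[X] := X ^ Q - X
  have hf0 : f ≠ 0 := FiniteField.X_pow_card_sub_X_ne_zero K hQ
  have hmem : ∀ x : powFixed K p e, (x : K) ∈ f.roots.toFinset := fun x => by
    rw [Multiset.mem_toFinset, mem_roots hf0]
    simp only [f, IsRoot.def, eval_sub, eval_pow, eval_X, sub_eq_zero]
    exact mem_powFixed.1 x.2
  have hinj : Function.Injective fun x : powFixed K p e => (⟨x.1, hmem x⟩ : f.roots.toFinset) :=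
    fun x y h => Subtype.ext (congrArg Subtype.val h :)
  haveI := Finite.of_injective _ hinj
  refine ⟨inferInstance, (Nat.card_le_card_of_injective _ hinj).trans ?_⟩
  rw [Nat.card_eq_fintype_card, Fintype.card_coe]
  exact (Multiset.toFinset_card_le _).trans ((card_roots' f).trans
    (FiniteField.X_pow_card_sub_X_natDegree_eq K hQ).le)

namespace CertFull

variable {D : ChevalleyDatum} (c : CertFull D)

include c

/-- Every element of a finite group over a subfield group is fixed by the matching power map. -/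
theorem data_fixed {F : Type*} [Field F] (S : SubfieldData c F) {φ : F →+* F}
    {H : Subgroup (GL D.Idx F)} (hO : Over c φ H) {h : GL D.Idx F} (hh : h ∈ H) :
    Matrix.GeneralLinearGroup.map φ h = h :=
  c.over_fixed S.grade S.reach hO (S.rad φ H hO) hh

/-- Finite groups containing a subfield group. -/
theorem finite_over {k : Type*} [Field k] [IsAlgClosed k] (p : ℕ) [Fact p.Prime] [CharP k p]
    (S : SubfieldData c k) {a : ℕ} (ha : 1 ≤ a) (M : Subgroup (GL D.Idx k)) [Finite M]
    (hMG : M ≤ D.group k)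
    (hLM : Subgroup.closure {g : GL D.Idx k | ∃ (s : ℕ) (t : k), t ^ (p ^ a) = t ∧
      (g : Matrix D.Idx D.Idx k) = D.x k s t} ≤ M) :
    ∃ r : ℕ, 1 ≤ r ∧
      Subgroup.closure {g : GL D.Idx k | ∃ (s : ℕ) (t : k), t ^ ((p ^ a) ^ r) = t ∧
        (g : Matrix D.Idx D.Idx k) = D.x k s t} ≤ M ∧
      ∀ g ∈ M, ∀ i j : D.Idx, ((g : Matrix D.Idx D.Idx k) i j) ^ ((p ^ a) ^ r) =
        (g : Matrix D.Idx D.Idx k) i j := by
  classical
  have hq := one_lt_pow_prime (p := p) ha
  obtain ⟨hfin, hle⟩ := powFixed_finite k p ha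
  haveI := hfin
  set A := powFixed k p a
  have hA : Nat.card A = p ^ a := by
    refine le_antisymm hle ?_
    open Polynomial in
    set f : k[X] := X ^ (p ^ a) - X with hf
    have hsep : f.Separable := galois_poly_separable p (p ^ a) (dvd_pow_self p (by omega))
    have hcard : f.roots.toFinset.card = p ^ a := by
      rw [Multiset.toFinset_card_of_nodup (nodup_roots hsep)]
      rw [← (IsAlgClosed.splits f).natDegree_eq_card_roots,
        FiniteField.X_pow_card_sub_X_natDegree_eq k hq]
    rw [← hcard, ← Fintype.card_coe, ← Nat.card_eq_fintype_card]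
    refine Nat.card_le_card_of_injective (fun x => (⟨x.1, ?_⟩ : A))
      fun x y h => Subtype.ext (congrArg Subtype.val h :)
    have := x.2
    rw [Multiset.mem_toFinset, mem_roots (FiniteField.X_pow_card_sub_X_ne_zero k hq)] at this
    simpa [hf, sub_eq_zero, A, mem_powFixed] using this
  obtain ⟨L, hLfin, hAL, hLs, hLroot⟩ := c.over_field S.grade p S.reach S.doublet A
    fun r _ t ht => hLM (Subgroup.subset_closure ⟨r, t, ht, rfl⟩)
  letI : Algebra A L := (Subfield.inclusion hAL).toAlgebra
  obtain ⟨r, hr, hcard⟩ : ∃ r, 1 ≤ r ∧ Nat.card L = (p ^ a) ^ r := by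
    refine ⟨Module.finrank A L, Module.finrank_pos, ?_⟩
    rw [Module.natCard_eq_pow_finrank (K := A) (V := L), hA]
  obtain ⟨hfin', hle'⟩ := powFixed_finite k p (e := a * r) (Nat.one_le_iff_ne_zero.2 (by
    simp only [ne_eq, mul_eq_zero]; omega))
  haveI := hfin'
  have hL : ∀ t : k, t ∈ L ↔ t ^ ((p ^ a) ^ r) = t := by
    letI : Fintype L := Fintype.ofFinite L
    have h1 : ∀ t ∈ L, t ^ ((p ^ a) ^ r) = t := fun t ht => by
      have := FiniteField.pow_card (⟨t, ht⟩ : L)
      rw [← Nat.card_eq_fintype_card, hcard] at this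
      exact congrArg Subtype.val this
    have hsub : (L : Set k) ⊆ powFixed k p (a * r) := fun t ht => by
      rw [SetLike.mem_coe, mem_powFixed, pow_mul p a r]; exact h1 t ht
    haveI : Finite ((powFixed k p (a * r) : Subfield k) : Set k) := hfin'
    have heq := Set.eq_of_subset_of_ncard_le hsub (ht := Set.toFinite _) (by
      rw [← Nat.card_coe_set_eq, ← Nat.card_coe_set_eq]
      refine hle'.trans ?_
      rw [pow_mul]; exact hcard.ge)
    exact fun t => ⟨h1 t, fun h => by
      have : t ∈ (powFixed k p (a * r) : Set k) := by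
        rw [SetLike.mem_coe, mem_powFixed, pow_mul]; exact h
      rwa [← heq] at this⟩
  set φ := iterateFrobenius k p (a * r)
  have hφ : ∀ t : k, φ t = t ^ ((p ^ a) ^ r) := fun t => by
    rw [← pow_mul]; rfl
  have hO : Over c φ M := ⟨inferInstance, hMG, fun s hs t ht => hLroot s hs t ((hL t).2 (hφ t ▸ ht)),
    fun s hs => by rw [hφ]; exact (hL s).1 (hLs s hs)⟩
  refine ⟨r, hr, (Subgroup.closure_le _).2 ?_, fun g hg i l => ?_⟩
  · rintro g ⟨s, t, ht, hg⟩
    obtain rfl := c.eq_xg_iff.1 hg
    by_cases hs : s < D.nroots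
    · exact hLroot s hs t ((hL t).2 ht)
    · have e : c.xg s t = 1 := Units.ext (by simp [ChevalleyDatum.x, hs])
      rw [e]; exact one_mem _
  · rw [← hφ]
    exact congrArg (fun x : GL D.Idx k => (x : Matrix D.Idx D.Idx k) i l) (c.data_fixed S hO hg)

/-- Subfield groups of prime degree are maximal. -/
theorem subfield_maximal {K : Type*} [Field K] [Fintype K] (p : ℕ) [Fact p.Prime] [CharP K p]
    (S : SubfieldData c K) {a r : ℕ} (ha : 1 ≤ a) (hr : r.Prime)
    (hK : Fintype.card K = (p ^ a) ^ r) (M : Subgroup (GL D.Idx K))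
    (hM : ∀ g : GL D.Idx K, g ∈ M ↔ g ∈ D.group K ∧ ∀ i j : D.Idx,
      ((g : Matrix D.Idx D.Idx K) i j) ^ (p ^ a) = (g : Matrix D.Idx D.Idx K) i j) :
    M ≠ D.group K ∧ ∀ H : Subgroup (GL D.Idx K), M ≤ H → H ≤ D.group K →
      H = M ∨ H = D.group K := by
  classical
  have hq := one_lt_pow_prime (p := p) ha
  set φ := iterateFrobenius K p a
  have hφ : ∀ t : K, φ t = t ^ p ^ a := fun t => rfl
  have hMφ : ∀ g, g ∈ M ↔ g ∈ D.group K ∧ Matrix.GeneralLinearGroup.map φ g = g := fun g => by
    rw [hM]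
    refine and_congr_right fun _ => ⟨fun h => Units.ext (Matrix.ext h), fun h i l => ?_⟩
    exact congrArg (fun x : GL D.Idx K => (x : Matrix D.Idx D.Idx K) i l) h
  set A := powFixed K p a
  have hA : Nat.card A = p ^ a :=
    card_pow_eq_self hq (e := r) (by rw [Nat.card_eq_fintype_card, hK])
  have hTl := c.top_lt S.grade
  have hroot : ∀ s < D.nroots, ∀ t ∈ A, c.xg s t ∈ M := fun s hs t ht =>
    (hMφ _).2 ⟨c.xg_mem_group hs t, by rw [c.xg_map]; exact congrArg _ (show φ t = t from ht)⟩
  refine ⟨fun hMG => ?_, fun H hMH hHG => ?_⟩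
  · have hall : ∀ t : K, t ∈ A := fun t => by
      have h : c.xg c.top t ∈ M := hMG ▸ c.xg_mem_group hTl t
      have h2 := ((hMφ _).1 h).2
      rw [c.xg_map] at h2
      exact c.xg_inj hTl h2
    have : Nat.card A = (p ^ a) ^ r := by
      rw [Nat.card_congr (Equiv.subtypeUnivEquiv hall), Nat.card_eq_fintype_card, hK]
    rw [hA] at this
    exact absurd this (ne_of_lt (lt_self_pow₀ hq hr.one_lt))
  haveI : Finite A := inferInstance
  haveI : Finite H := inferInstance
  obtain ⟨L, -, hAL, hLs, hLroot⟩ := c.over_field S.grade p S.reach S.doublet A (H := H)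
    fun s hs t ht => hMH (hroot s hs t ht)
  letI : Algebra A L := (Subfield.inclusion hAL).toAlgebra
  have hcard : Nat.card L = (p ^ a) ^ Module.finrank A L := by
    rw [Module.natCard_eq_pow_finrank (K := A) (V := L), hA]
  letI : Algebra L K := L.toAlgebra
  haveI : IsScalarTower A L K := IsScalarTower.of_algebraMap_eq fun _ => rfl
  have hdeg : Module.finrank A L ∣ r := by
    refine ⟨Module.finrank L K, ?_⟩
    rw [Module.finrank_mul_finrank]
    refine Nat.pow_right_injective hq ?_
    show (p ^ a) ^ r = (p ^ a) ^ Module.finrank A K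
    rw [← hK, ← hA, ← Nat.card_eq_fintype_card, Module.natCard_eq_pow_finrank (K := A) (V := K)]
  rcases (Nat.dvd_prime hr).1 hdeg with h | h
  · refine Or.inl (le_antisymm (fun g hg => (hMφ g).2 ⟨hHG hg, ?_⟩) hMH)
    have hLA : ∀ t ∈ L, t ∈ A := fun t ht => by
      have heq := Set.eq_of_subset_of_ncard_le (ht := Set.toFinite (L : Set K))
        (show (A : Set K) ⊆ L from hAL) (by
          rw [← Nat.card_coe_set_eq, ← Nat.card_coe_set_eq]
          show Nat.card L ≤ Nat.card A
          rw [hcard, h, pow_one, hA])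
      have : t ∈ (L : Set K) := ht
      rwa [← heq] at this
    exact c.data_fixed S ⟨inferInstance, hHG, fun s hs t ht => hMH (hroot s hs t ht),
      fun s hs => hLA s (hLs s hs)⟩ hg
  · refine Or.inr (le_antisymm hHG ?_)
    have hall : ∀ t : K, t ∈ L := fun t => by
      have heq := Set.eq_of_subset_of_ncard_le (ht := Set.toFinite (Set.univ : Set K))
        (Set.subset_univ (L : Set K)) (by
          rw [Set.ncard_univ, ← Nat.card_coe_set_eq, Nat.card_eq_fintype_card, hK]
          show (p ^ a) ^ r ≤ Nat.card L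
          rw [hcard, h])
      exact SetLike.mem_coe.1 (heq.symm ▸ Set.mem_univ t : t ∈ (L : Set K))
    rw [c.group_eq]
    refine (Subgroup.closure_le _).2 ?_
    rintro g ⟨s, hs, t, rfl⟩
    exact hLroot s hs t (hall t)

end CertFull

end Cfsg.Agent.Lie.Chev
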