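import Cfsg.Agent.Lib.Lie.Chev.SubfieldGrade
import Cfsg.Agent.Lib.Grp.SL2Basic

/-! The subgroup of the highest root and its opposite, paired with `SL(2)` through a doublet. -/

set_option autoImplicit false

namespace Cfsg.Agent.Lie.Chev

open Cfsg.Lie Matrix Cfsg.Agent.Grp.SL2

namespace Tables

variable (T : Tables)

/-- The highest root and the lowest one move `g` to `a` and back with the same sign `C`. -/
def checkDoublet (a g : ℕ) (C : ℤ) : Bool :=
  (intBeq C 1 || intBeq C (-1)) && Nat.blt a T.n && Nat.blt g T.n && !(Nat.beq a g) &&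
    !(Nat.beq a 0) && !(Nat.beq g 0) && !(Nat.beq a (T.n - 1)) && !(Nat.beq g (T.n - 1)) &&
    (T.entry (T.n - 1) a).isEmpty && (T.entry 0 g).isEmpty &&
    entryBeq (T.entry (T.n - 1) g) [(a, C)] && entryBeq (T.entry 0 a) [(g, C)]

end Tables

namespace CertFull

variable {D : ChevalleyDatum} (c : CertFull D) {F : Type*} [Field F]

/-- The action of `g` on the doublet, modulo fixed vectors, is by the matrix `A`. -/
def Acts (_c : CertFull D) (W : Submodule F (D.Idx → F)) (a g : ℕ) (C : ℤ) (x : GL D.Idx F)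
    (A : Matrix.SpecialLinearGroup (Fin 2) F) : Prop :=
  (∀ w ∈ W, (x : Matrix D.Idx D.Idx F) *ᵥ w = w) ∧
    (x : Matrix D.Idx D.Idx F) *ᵥ ((C : F) • evec D F a) -
      ((A.1 0 0) • ((C : F) • evec D F a) + (A.1 1 0) • evec D F g) ∈ W ∧
    (x : Matrix D.Idx D.Idx F) *ᵥ evec D F g -
      ((A.1 0 1) • ((C : F) • evec D F a) + (A.1 1 1) • evec D F g) ∈ W

/-- The pairs generated by the highest and the lowest root elements. -/
def rootPairs (F : Type*) [Field F] : Subgroup (GL D.Idx F × Matrix.SpecialLinearGroup (Fin 2) F) :=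
  Subgroup.closure ({P | ∃ s : F, P = (c.xg c.top s, up s)} ∪ {P | ∃ s : F, P = (c.xg 0 s, low s)})

variable {W : Submodule F (D.Idx → F)} {a g : ℕ} {C : ℤ}

include c

theorem acts_mul {x y : GL D.Idx F} {A B : Matrix.SpecialLinearGroup (Fin 2) F}
    (hx : c.Acts W a g C x A) (hy : c.Acts W a g C y B) : c.Acts W a g C (x * y) (A * B) := by
  obtain ⟨hxW, hx0, hx1⟩ := hx
  obtain ⟨hyW, hy0, hy1⟩ := hy
  refine ⟨fun w hw => by rw [Units.val_mul, ← Matrix.mulVec_mulVec, hyW w hw, hxW w hw], ?_, ?_⟩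
  all_goals
    rw [Units.val_mul, ← Matrix.mulVec_mulVec]
  · have e := congrArg ((x : Matrix D.Idx D.Idx F) *ᵥ ·) (sub_add_cancel ((y : Matrix D.Idx D.Idx F)
      *ᵥ ((C : F) • evec D F a)) (B.1 0 0 • ((C : F) • evec D F a) + B.1 1 0 • evec D F g))
    rw [Matrix.mulVec_add, hxW _ hy0, Matrix.mulVec_add, Matrix.mulVec_smul _ (B.1 0 0),
      Matrix.mulVec_smul _ (B.1 1 0)] at e
    rw [← e]
    have := W.add_mem hy0 (W.add_mem (W.smul_mem (B.1 0 0) hx0) (W.smul_mem (B.1 1 0) hx1))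
    convert this using 1
    simp only [Matrix.SpecialLinearGroup.coe_mul, Matrix.mul_apply, Fin.sum_univ_two]
    module
  · have e := congrArg ((x : Matrix D.Idx D.Idx F) *ᵥ ·) (sub_add_cancel ((y : Matrix D.Idx D.Idx F)
      *ᵥ evec D F g) (B.1 0 1 • ((C : F) • evec D F a) + B.1 1 1 • evec D F g))
    rw [Matrix.mulVec_add, hxW _ hy1, Matrix.mulVec_add, Matrix.mulVec_smul _ (B.1 0 1),
      Matrix.mulVec_smul _ (B.1 1 1)] at e
    rw [← e]
    have := W.add_mem hy1 (W.add_mem (W.smul_mem (B.1 0 1) hx0) (W.smul_mem (B.1 1 1) hx1))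
    convert this using 1
    simp only [Matrix.SpecialLinearGroup.coe_mul, Matrix.mul_apply, Fin.sum_univ_two]
    module

theorem acts_one : c.Acts W a g C (1 : GL D.Idx F) 1 := by
  refine ⟨fun w _ => by simp, ?_, ?_⟩ <;> simp

theorem acts_inv {x : GL D.Idx F} {A : Matrix.SpecialLinearGroup (Fin 2) F}
    (hx : c.Acts W a g C x A) : c.Acts W a g C x⁻¹ A⁻¹ := by
  obtain ⟨hxW, hx0, hx1⟩ := hx
  have hW : ∀ w ∈ W, ((x⁻¹ : GL D.Idx F) : Matrix D.Idx D.Idx F) *ᵥ w = w := fun w hw => by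
    conv_lhs => rw [← hxW w hw]
    rw [Matrix.mulVec_mulVec, ← Units.val_mul, inv_mul_cancel]; simp
  have key : ∀ v v' : D.Idx → F, (x : Matrix D.Idx D.Idx F) *ᵥ v' - v ∈ W →
      ((x⁻¹ : GL D.Idx F) : Matrix D.Idx D.Idx F) *ᵥ v - v' ∈ W := by
    intro v v' h
    have e := hW _ h
    rw [Matrix.mulVec_sub, Matrix.mulVec_mulVec, ← Units.val_mul, inv_mul_cancel, Units.val_one,
      Matrix.one_mulVec] at e
    have := W.neg_mem h
    rw [← e] at this
    simpa using this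
  have hd := det_eq A
  have hinv : (A⁻¹).1 = !![A.1 1 1, -(A.1 0 1); -(A.1 1 0), A.1 0 0] := by
    rw [Matrix.SpecialLinearGroup.coe_inv, Matrix.adjugate_fin_two]
  refine ⟨hW, key _ _ ?_, key _ _ ?_⟩
  · have := W.add_mem (W.smul_mem (A.1 1 1) hx0) (W.smul_mem (-(A.1 1 0)) hx1)
    convert this using 1
    simp only [hinv, Matrix.of_apply, Matrix.cons_val', Matrix.cons_val_zero, Matrix.cons_val_one,
      Matrix.cons_val_fin_one, Matrix.mulVec_add, Matrix.mulVec_smul]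
    linear_combination (norm := module) hd • ((C : F) • evec D F a)
  · have := W.add_mem (W.smul_mem (-(A.1 0 1)) hx0) (W.smul_mem (A.1 0 0) hx1)
    convert this using 1
    simp only [hinv, Matrix.of_apply, Matrix.cons_val', Matrix.cons_val_zero, Matrix.cons_val_one,
      Matrix.cons_val_fin_one, Matrix.mulVec_add, Matrix.mulVec_smul]
    linear_combination (norm := module) hd • evec D F g

theorem acts_closure {S : Set (GL D.Idx F × Matrix.SpecialLinearGroup (Fin 2) F)}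
    (hS : ∀ P ∈ S, c.Acts W a g C P.1 P.2) {P : GL D.Idx F × Matrix.SpecialLinearGroup (Fin 2) F}
    (hP : P ∈ Subgroup.closure S) : c.Acts W a g C P.1 P.2 := by
  induction hP using Subgroup.closure_induction with
  | mem P hP => exact hS P hP
  | one => exact c.acts_one
  | mul P Q _ _ hP hQ => exact c.acts_mul hP hQ
  | inv P _ hP => exact c.acts_inv hP

/-- The vanishing of the fixed vectors on the doublet. -/
theorem acts_unique (ha : a < D.nroots) (hg : g < D.nroots) (hag : a ≠ g) (hC : (C : F) * C = 1)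
    (hW : ∀ w ∈ W, w (Sum.inr ⟨a, ha⟩) = 0 ∧ w (Sum.inr ⟨g, hg⟩) = 0) {x : GL D.Idx F}
    {A B : Matrix.SpecialLinearGroup (Fin 2) F} (hA : c.Acts W a g C x A)
    (hB : c.Acts W a g C x B) : A = B := by
  have hC0 : (C : F) ≠ 0 := left_ne_zero_of_mul (hC.trans_ne one_ne_zero)
  have h0 := hW _ (W.sub_mem hA.2.1 hB.2.1)
  have h1 := hW _ (W.sub_mem hA.2.2 hB.2.2)
  simp [evec, hag, Ne.symm hag, hC0] at h0 h1
  refine Subtype.ext (Matrix.ext fun i j => ?_)
  fin_cases i <;> fin_cases j <;> simp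
  · linear_combination -(C : F) * h0.1 + (B.1 0 0 - A.1 0 0) * hC
  · linear_combination -(C : F) * h1.1 + (B.1 0 1 - A.1 0 1) * hC
  · linear_combination -h0.2
  · linear_combination -h1.2

variable {j : ℕ} (hj : c.T.checkGrade j = true)

include hj

theorem doublet_spec (hd : c.T.checkDoublet a g C = true) :
    ∃ (ha : a < D.nroots) (hg : g < D.nroots), a ≠ g ∧ (C = 1 ∨ C = -1) ∧
      ∀ (s : F), (D.x F c.top s *ᵥ evec D F a = evec D F a ∧
        D.x F c.top s *ᵥ evec D F g = evec D F g + ((C : F) * s) • evec D F a) ∧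
        (D.x F 0 s *ᵥ evec D F g = evec D F g ∧
        D.x F 0 s *ᵥ evec D F a = evec D F a + ((C : F) * s) • evec D F g) := by
  simp only [Tables.checkDoublet, Bool.and_eq_true, Bool.or_eq_true, Bool.not_eq_true',
    Nat.blt_eq, List.isEmpty_iff] at hd
  obtain ⟨⟨⟨⟨⟨⟨⟨⟨⟨⟨⟨hC, ha⟩, hg⟩, hag⟩, ha0⟩, hg0⟩, haT⟩, hgT⟩, e1⟩, e2⟩, e3⟩, e4⟩ := hd
  have hne : ∀ {x y : ℕ}, Nat.beq x y = false → x ≠ y := fun {x y} h e => by
    rw [beq_of_eq e] at h; exact Bool.noConfusion h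
  have ha' : a < D.nroots := c.nroots_eq ▸ ha
  have hg' : g < D.nroots := c.nroots_eq ▸ hg
  have hT := c.top_lt hj
  have h0 := c.zero_lt hj
  have hn0 : D.neg 0 = c.top := by rw [← c.neg_top hj, c.neg_neg hT]
  refine ⟨ha', hg', hne hag, hC.imp of_intBeq of_intBeq, fun s => ⟨⟨?_, ?_⟩, ?_, ?_⟩⟩
  · rw [c.x_evec hT ha' (hne haT) (by rw [c.neg_top hj]; exact hne ha0), e1]
    simp [chainVec]
  · rw [c.x_evec hT hg' (hne hgT) (by rw [c.neg_top hj]; exact hne hg0), entryBeq_iff e3]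
    simp [chainVec]
  · rw [c.x_evec h0 hg' (hne hg0) (by rw [hn0]; exact hne hgT), e2]
    simp [chainVec]
  · rw [c.x_evec h0 ha' (hne ha0) (by rw [hn0]; exact hne haT), entryBeq_iff e4]
    simp [chainVec]

theorem acts_top (hd : c.T.checkDoublet a g C = true)
    (hW : ∀ w ∈ W, ∀ s : F, D.x F c.top s *ᵥ w = w) (s : F) :
    c.Acts W a g C (c.xg c.top s) (up s) := by
  obtain ⟨-, -, -, hC, h⟩ := c.doublet_spec hj hd (F := F)
  obtain ⟨⟨h1, h2⟩, -⟩ := h s
  refine ⟨fun w hw => hW w hw s, ?_, ?_⟩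
  all_goals rw [Cert.xg_val]
  · rw [Matrix.mulVec_smul, h1]; simp [up]
  · rw [h2]
    convert W.zero_mem using 1
    rcases hC with rfl | rfl <;> simp [up] <;> module

theorem acts_zero (hd : c.T.checkDoublet a g C = true)
    (hW : ∀ w ∈ W, ∀ s : F, D.x F 0 s *ᵥ w = w) (s : F) :
    c.Acts W a g C (c.xg 0 s) (low s) := by
  obtain ⟨-, -, -, hC, h⟩ := c.doublet_spec hj hd (F := F)
  obtain ⟨-, h1, h2⟩ := h s
  refine ⟨fun w hw => hW w hw s, ?_, ?_⟩
  all_goals rw [Cert.xg_val]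
  · rw [Matrix.mulVec_smul, h2]
    convert W.zero_mem using 1
    rcases hC with rfl | rfl <;> simp [low] <;> module
  · rw [h1]; simp [low]

omit hj

/-- An element for a root conjugates both root subgroups to each other. -/
theorem ng_conj_self : ∀ r < D.nroots, ∀ t : F, t ≠ 0 → ∀ s, s = r ∨ s = D.neg r → ∀ u : F,
    ∃ v : F, c.ng r t * c.xg s u = c.xg (D.neg s) v * c.ng r t := by
  refine c.root_induction (P := fun r => ∀ t : F, t ≠ 0 → ∀ s, s = r ∨ s = D.neg r → ∀ u : F,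
    ∃ v : F, c.ng r t * c.xg s u = c.xg (D.neg s) v * c.ng r t) (fun p hp t ht s hs u => ?_)
    (fun p hp r hr hP t ht s hs u => ?_)
  · have hα := c.simple_lt hp
    have hs' : s < D.nroots := by rcases hs with rfl | rfl; exacts [hα, c.neg_lt hα]
    have hw : c.w p s = D.neg s := by
      rcases hs with rfl | rfl
      · exact c.w_simple hp
      · rw [c.w_neg hp hα, c.w_simple hp]
    refine ⟨((Units.mk0 t ht) ^ c.T.pairing (D.simple p) (D.neg s) : Fˣ) *
      ((c.T.eta p s : F) * u), ?_⟩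
    rw [c.ng_eq_hg_mul_np, mul_assoc, Cert.np, c.ng_conj hp hs', hw, ← mul_assoc]
    conv_lhs => rw [← Units.val_mk0 ht, c.hg_mul_xg hα (c.neg_lt hs') (Units.mk0 t ht)]
    rw [Units.val_mk0, mul_assoc]
  · have hw := c.w_lt hp hr
    set n := c.nw F [p] with hn
    have hL : ∀ q ∈ [p], q < D.rank := by simpa using hp
    have hwr : c.w p r = c.wl [p] r := rfl
    set σ : F := (c.wsign [p] r : F) with hσ
    have hσ0 : σ ≠ 0 := c.wsign_ne_zero _ _
    obtain ⟨s', hs', rfl⟩ : ∃ s', (s' = r ∨ s' = D.neg r) ∧ c.wl [p] s' = s := by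
      rcases hs with rfl | rfl
      · exact ⟨r, Or.inl rfl, rfl⟩
      · exact ⟨D.neg r, Or.inr rfl, c.wl_neg hL hr⟩
    have hs'' : s' < D.nroots := by rcases hs' with rfl | rfl; exacts [hr, c.neg_lt hr]
    set σ' : F := (c.wsign [p] s' : F) with hσ'
    have hσ'2 : σ' * σ' = 1 := c.wsign_sq _ _
    obtain ⟨v, hv⟩ := hP (σ * t) (mul_ne_zero hσ0 ht) s' hs' (σ' * u)
    have e1 : n * c.ng r (σ * t) * n⁻¹ = c.ng (c.w p r) t := by
      rw [c.nw_mul_ng hL hr, ← mul_assoc, c.wsign_sq, one_mul, mul_inv_cancel_right, hwr]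
    have e2 : n * c.xg s' (σ' * u) * n⁻¹ = c.xg (c.wl [p] s') u := by
      rw [c.nw_mul_xg hL hs'', ← mul_assoc, hσ'2, one_mul, mul_inv_cancel_right]
    refine ⟨(c.wsign [p] (D.neg s') : F) * v, ?_⟩
    rw [← e1, ← e2, ← c.wl_neg hL hs'']
    have e3 : n * c.xg (D.neg s') v * n⁻¹ =
        c.xg (c.wl [p] (D.neg s')) ((c.wsign [p] (D.neg s') : F) * v) := by
      rw [c.nw_mul_xg hL (c.neg_lt hs''), mul_inv_cancel_right]
    rw [← e3]
    calc n * c.ng r (σ * t) * n⁻¹ * (n * c.xg s' (σ' * u) * n⁻¹)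
        = n * (c.ng r (σ * t) * c.xg s' (σ' * u)) * n⁻¹ := by group
      _ = _ := by rw [hv]; group

include hj

/-- The diagonal element of `SL(2)`. -/
noncomputable def dia (t : F) : Matrix.SpecialLinearGroup (Fin 2) F :=
  @dite _ (t = 0) (_root_.Classical.propDecidable _) (fun _ => 1)
    fun h => ⟨!![t, 0; 0, t⁻¹], by simp [Matrix.det_fin_two, h]⟩

/-- The antidiagonal element of `SL(2)`. -/
noncomputable def anti (t : F) : Matrix.SpecialLinearGroup (Fin 2) F :=
  @dite _ (t = 0) (_root_.Classical.propDecidable _) (fun _ => 1)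
    fun h => ⟨!![0, t; -t⁻¹, 0], by simp [Matrix.det_fin_two, h]⟩

omit hj c in
theorem dia_coe {t : F} (ht : t ≠ 0) :
    ((dia t : Matrix.SpecialLinearGroup (Fin 2) F) : Matrix (Fin 2) (Fin 2) F) =
      !![t, 0; 0, t⁻¹] := by
  exact congrArg Subtype.val (dif_neg ht)

omit hj c in
theorem anti_coe {t : F} (ht : t ≠ 0) :
    ((anti t : Matrix.SpecialLinearGroup (Fin 2) F) : Matrix (Fin 2) (Fin 2) F) =
      !![0, t; -t⁻¹, 0] := by
  exact congrArg Subtype.val (dif_neg ht)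

omit hj c in
theorem up_coe (t : F) :
    ((up t : Matrix.SpecialLinearGroup (Fin 2) F) : Matrix (Fin 2) (Fin 2) F) = !![1, t; 0, 1] :=
  rfl

omit hj c in
theorem low_coe (t : F) :
    ((low t : Matrix.SpecialLinearGroup (Fin 2) F) : Matrix (Fin 2) (Fin 2) F) = !![1, 0; t, 1] :=
  rfl

theorem pairs_top (s : F) : (c.xg c.top s, up s) ∈ c.rootPairs F :=
  Subgroup.subset_closure (Or.inl ⟨s, rfl⟩)

theorem pairs_zero (s : F) : (c.xg 0 s, low s) ∈ c.rootPairs F :=
  Subgroup.subset_closure (Or.inr ⟨s, rfl⟩)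

theorem pairs_ng {t : F} (ht : t ≠ 0) : (c.ng c.top t, anti t) ∈ c.rootPairs F := by
  have h := mul_mem (mul_mem (c.pairs_top hj t) (c.pairs_zero hj (-t⁻¹))) (c.pairs_top hj t)
  convert h using 2
  · simp [Cert.ng, c.neg_top hj]
  · refine Matrix.SpecialLinearGroup.ext _ _ fun i k => ?_
    simp only [Prod.mk_mul_mk, Matrix.SpecialLinearGroup.coe_mul, up_coe, low_coe, anti_coe ht]
    fin_cases i <;> fin_cases k <;>
      simp [Matrix.mul_apply, Fin.sum_univ_two] <;> field_simp <;> first | simp | ring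

theorem pairs_hg {t : F} (ht : t ≠ 0) : (c.hg c.top t, dia t) ∈ c.rootPairs F := by
  have h := mul_mem (c.pairs_ng hj ht) (c.pairs_ng hj (t := (-1 : F)) (by simp))
  convert h using 2
  · rfl
  refine Matrix.SpecialLinearGroup.ext _ _ fun i k => ?_
  simp only [Prod.mk_mul_mk, Matrix.SpecialLinearGroup.coe_mul, dia_coe ht, anti_coe ht,
    anti_coe (t := (-1 : F)) (by simp)]
  fin_cases i <;> fin_cases k <;> simp [Matrix.mul_apply, Fin.sum_univ_two]

variable (hd : c.T.checkDoublet a g C = true)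

include hd

/-- Pairs act on the doublet of the check. -/
theorem acts_pairs {P : GL D.Idx F × Matrix.SpecialLinearGroup (Fin 2) F}
    (hP : P ∈ c.rootPairs F) : c.Acts (⊥ : Submodule F (D.Idx → F)) a g C P.1 P.2 := by
  refine c.acts_closure ?_ hP
  rintro P (⟨s, rfl⟩ | ⟨s, rfl⟩)
  · exact c.acts_top hj hd (fun w hw s => by simp [(Submodule.mem_bot F).1 hw]) s
  · exact c.acts_zero hj hd (fun w hw s => by simp [(Submodule.mem_bot F).1 hw]) s

/-- The first component determines the second. -/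
theorem pairs_unique {x : GL D.Idx F} {A B : Matrix.SpecialLinearGroup (Fin 2) F}
    (hA : (x, A) ∈ c.rootPairs F) (hB : (x, B) ∈ c.rootPairs F) : A = B := by
  obtain ⟨ha, hg, hag, hC, -⟩ := c.doublet_spec hj hd (F := F)
  exact c.acts_unique ha hg hag (by rcases hC with rfl | rfl <;> simp)
    (fun w hw => by simp [(Submodule.mem_bot F).1 hw]) (c.acts_pairs hj hd hA) (c.acts_pairs hj hd hB)

theorem ng_top_xg (u : F) :
    c.ng c.top 1 * c.xg c.top u = c.xg 0 (-u) * c.ng c.top 1 ∧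
      c.ng c.top 1 * c.xg 0 u = c.xg c.top (-u) * c.ng c.top 1 := by
  have hT := c.top_lt hj
  have hn := c.pairs_ng hj (t := (1 : F)) one_ne_zero
  have hn0 : D.neg 0 = c.top := by rw [← c.neg_top hj, c.neg_neg hT]
  constructor
  · obtain ⟨v, hv⟩ := c.ng_conj_self c.top hT (1 : F) one_ne_zero c.top (Or.inl rfl) u
    rw [c.neg_top hj] at hv
    have h1 := mul_mem hn (c.pairs_top hj u)
    have h2 := mul_mem (c.pairs_zero hj v) hn
    rw [Prod.mk_mul_mk, hv] at h1
    rw [Prod.mk_mul_mk] at h2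
    have := congrFun (congrFun (congrArg Subtype.val (c.pairs_unique hj hd h1 h2)) 1) 1
    simp [anti_coe, up_coe, low_coe, Matrix.mul_apply, Fin.sum_univ_two] at this
    rw [hv, this]
  · obtain ⟨v, hv⟩ := c.ng_conj_self c.top hT (1 : F) one_ne_zero 0
      (Or.inr (c.neg_top hj).symm) u
    rw [hn0] at hv
    have h1 := mul_mem hn (c.pairs_zero hj u)
    have h2 := mul_mem (c.pairs_top hj v) hn
    rw [Prod.mk_mul_mk, hv] at h1
    rw [Prod.mk_mul_mk] at h2
    have := congrFun (congrFun (congrArg Subtype.val (c.pairs_unique hj hd h1 h2)) 0) 0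
    simp [anti_coe, up_coe, low_coe, Matrix.mul_apply, Fin.sum_univ_two] at this
    rw [hv, show v = -u by rw [this, neg_neg]]

omit hd

theorem hg_top_xg {w : F} (hw : w ≠ 0) (u : F) :
    c.hg c.top w * c.xg c.top u = c.xg c.top (w ^ 2 * u) * c.hg c.top w := by
  have := c.hg_mul_xg (c.top_lt hj) (c.top_lt hj) (Units.mk0 w hw) u
  rw [(c.grade_spec hj).2.2.2.2.1] at this
  simpa [sq] using this

theorem hg_top_mul {w z : F} (hw : w ≠ 0) (hz : z ≠ 0) :
    c.hg c.top w * c.hg c.top z = c.hg c.top (w * z) := by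
  have hT := c.top_lt hj
  have e1 := c.hg_eq hT (Units.mk0 w hw)
  have e2 := c.hg_eq hT (Units.mk0 z hz)
  have e3 := c.hg_eq hT (Units.mk0 w hw * Units.mk0 z hz)
  simp only [Units.val_mul, Units.val_mk0] at e1 e2 e3
  rw [e1, e2, e3, ← map_mul]
  congr 1
  funext u
  simp [pairChar, mul_zpow]

theorem hg_top_one : c.hg c.top (1 : F) = 1 := by
  rw [Cert.hg, ← c.ng_inv, mul_inv_cancel]

theorem hg_zero_eq {w : F} (hw : w ≠ 0) : c.hg 0 w = c.hg c.top w⁻¹ := by
  have e1 := c.hg_eq (c.zero_lt hj) (Units.mk0 w hw)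
  have e2 := c.hg_eq (c.top_lt hj) (Units.mk0 w hw)⁻¹
  simp only [Units.val_mk0, Units.val_inv_eq_inv_val] at e1 e2
  rw [e1, e2]
  refine dg_ext D F fun u _ => ?_
  rw [pairChar, pairChar, _root_.inv_zpow', c.pairing_eq_sum, c.pairing_eq_sum, ← Finset.sum_neg_distrib]
  congr 1
  refine Finset.sum_congr rfl fun i hi => ?_
  rw [(c.grade_spec hj).2.2.2.1 i (Finset.mem_range.1 hi)]
  ring

theorem ng_top_eq (w : F) : c.ng c.top w = c.hg c.top w * c.ng c.top 1 := by
  rw [Cert.hg, mul_assoc, show c.ng c.top (-1 : F) * c.ng c.top 1 = 1 by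
    rw [← c.ng_inv, inv_mul_cancel], mul_one]

include hd

theorem ng_top_hg {w : F} (hw : w ≠ 0) :
    c.ng c.top 1 * c.hg c.top w = c.hg c.top w⁻¹ * c.ng c.top 1 := by
  set n := c.ng c.top (1 : F) with hn
  have hc : ∀ z : F, n * c.ng c.top z * n⁻¹ = c.ng 0 (-z) := by
    intro z
    have hn0 : D.neg 0 = c.top := by rw [← c.neg_top hj, c.neg_neg (c.top_lt hj)]
    simp only [Cert.ng, c.neg_top hj, hn0]
    calc n * (c.xg c.top z * c.xg 0 (-z⁻¹) * c.xg c.top z) * n⁻¹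
        = (n * c.xg c.top z) * n⁻¹ * ((n * c.xg 0 (-z⁻¹)) * n⁻¹) *
            ((n * c.xg c.top z) * n⁻¹) := by group
      _ = _ := by
        rw [hn, (c.ng_top_xg hj hd z).1, (c.ng_top_xg hj hd (-z⁻¹)).2, mul_inv_cancel_right,
          mul_inv_cancel_right, inv_neg, neg_neg]
  have e : n * c.hg c.top w * n⁻¹ = c.hg c.top w⁻¹ := by
    rw [← c.hg_zero_eq hj hw]
    calc n * c.hg c.top w * n⁻¹ = (n * c.ng c.top w * n⁻¹) * (n * c.ng c.top (-1) * n⁻¹) := by
          rw [Cert.hg]; group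
      _ = c.ng 0 (-w) * c.ng 0 1 := by rw [hc, hc, neg_neg]
      _ = (c.ng 0 (-w) * c.ng 0 (-1)) * (c.ng 0 (-1) * c.ng 0 (-1))⁻¹ := by
          rw [_root_.mul_inv_rev, c.ng_inv, neg_neg, mul_assoc, ← mul_assoc (c.ng 0 (-1 : F)),
            show c.ng 0 (-1 : F) * c.ng 0 1 = 1 by rw [← c.ng_inv, inv_mul_cancel], one_mul]
      _ = c.hg 0 (-w) * (c.hg 0 (-1))⁻¹ := rfl
      _ = c.hg 0 w := by
        rw [c.hg_zero_eq hj (neg_ne_zero.2 hw), c.hg_zero_eq hj (by simp),
          c.hg_zero_eq hj hw, mul_inv_eq_iff_eq_mul,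
          c.hg_top_mul hj (inv_ne_zero hw) (by simp)]
        congr 1
        simp
  rw [← e, inv_mul_cancel_right]

/-- The normal form of a pair. -/
def PairNormal (x : GL D.Idx F) (A : Matrix.SpecialLinearGroup (Fin 2) F) : Prop :=
  (A.1 1 0 = 0 → x = c.hg c.top (A.1 0 0) * c.xg c.top (A.1 0 1 / A.1 0 0)) ∧
    (A.1 1 0 ≠ 0 → x = c.xg c.top (A.1 0 0 / A.1 1 0) * c.ng c.top (-(A.1 1 0)⁻¹) *
      c.xg c.top (A.1 1 1 / A.1 1 0))

theorem normal_up {x : GL D.Idx F} {A : Matrix.SpecialLinearGroup (Fin 2) F}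
    (h : c.PairNormal x A) (s : F) : c.PairNormal (c.xg c.top s * x) (up s * A) := by
  have hd' := det_eq A
  have e : (up s * A).1 1 0 = A.1 1 0 ∧ (up s * A).1 0 0 = A.1 0 0 + s * A.1 1 0 ∧
      (up s * A).1 0 1 = A.1 0 1 + s * A.1 1 1 ∧ (up s * A).1 1 1 = A.1 1 1 := by
    simp [up_coe, Matrix.mul_apply, Fin.sum_univ_two]
  refine ⟨fun h0 => ?_, fun h0 => ?_⟩
  · rw [e.1] at h0
    rw [h0, mul_zero, sub_zero] at hd'
    have ha : A.1 0 0 ≠ 0 := left_ne_zero_of_mul (hd'.trans_ne one_ne_zero)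
    rw [h.1 h0, e.2.1, e.2.2.1, h0, mul_zero, add_zero]
    have := c.hg_top_xg hj ha (s / A.1 0 0 ^ 2)
    rw [mul_div_cancel₀ _ (pow_ne_zero 2 ha)] at this
    rw [← mul_assoc, ← this, mul_assoc, ← c.xg_add]
    congr 2
    field_simp
    linear_combination -s * hd'
  · rw [e.1] at h0
    rw [h.2 h0, e.1, e.2.1, e.2.2.2, ← mul_assoc, ← mul_assoc, ← c.xg_add]
    congr 3
    field_simp
    ring

theorem normal_anti {x : GL D.Idx F} {A : Matrix.SpecialLinearGroup (Fin 2) F}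
    (h : c.PairNormal x A) : c.PairNormal (c.ng c.top 1 * x) (anti 1 * A) := by
  have hd' := det_eq A
  have e : (anti 1 * A).1 1 0 = -A.1 0 0 ∧ (anti 1 * A).1 0 0 = A.1 1 0 ∧
      (anti 1 * A).1 0 1 = A.1 1 1 ∧ (anti 1 * A).1 1 1 = -A.1 0 1 := by
    simp [anti_coe, Matrix.mul_apply, Fin.sum_univ_two]
  set n := c.ng c.top (1 : F) with hn
  by_cases h0 : A.1 1 0 = 0
  · rw [h0, mul_zero, sub_zero] at hd'
    have ha : A.1 0 0 ≠ 0 := left_ne_zero_of_mul (hd'.trans_ne one_ne_zero)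
    refine ⟨fun h1 => absurd (neg_eq_zero.1 (e.1.symm.trans h1)) ha, fun _ => ?_⟩
    rw [h.1 h0, e.1, e.2.1, e.2.2.2, h0, zero_div, c.xg_zero, one_mul, neg_inv, neg_neg,
      neg_div_neg_eq, ← mul_assoc, hn, c.ng_top_hg hj hd ha, ← c.ng_top_eq hj]
  set z : F := -(A.1 1 0)⁻¹ with hz
  have hz0 : z ≠ 0 := by simp [hz, h0]
  have hnn : n * c.ng c.top z = c.hg c.top (-z⁻¹) := by
    rw [c.ng_top_eq hj z, ← mul_assoc, hn, c.ng_top_hg hj hd hz0, mul_assoc,
      show c.ng c.top (1 : F) * c.ng c.top 1 = c.hg c.top (-1) by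
        rw [eq_comm, Cert.hg]
        have h1 := c.ng_top_hg hj hd (w := (-1 : F)) (by simp)
        have h2 := c.hg_top_mul hj (w := (-1 : F)) (z := -1) (by simp) (by simp)
        rw [neg_mul_neg, one_mul, c.hg_top_one hj] at h2
        have h3 : c.ng c.top (-1 : F) = c.hg c.top (-1) * c.ng c.top 1 := c.ng_top_eq hj _
        rw [h3]
        rw [show ((-1 : F))⁻¹ = -1 by simp] at h1
        rw [mul_assoc (c.hg c.top (-1)), ← mul_assoc (c.ng c.top 1), h1, ← mul_assoc, ← mul_assoc,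
          h2, one_mul],
      c.hg_top_mul hj (inv_ne_zero hz0) (by simp), mul_neg_one]
  refine ⟨fun h1 => ?_, fun h1 => ?_⟩
  · have ha : A.1 0 0 = 0 := neg_eq_zero.1 (e.1.symm.trans h1)
    rw [h.2 h0, e.2.1, e.2.2.1, ha, zero_div, c.xg_zero, one_mul, ← mul_assoc, hnn, hz]
    congr 2
    simp
  · have ha : A.1 0 0 ≠ 0 := fun ha => h1 (by rw [e.1, ha, neg_zero])
    rw [h.2 h0, e.1, e.2.1, e.2.2.2, neg_div_neg_eq, show -(-A.1 0 0)⁻¹ = (A.1 0 0)⁻¹ by simp, ← hz]
    set a' := A.1 0 0 / A.1 1 0 with ha'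
    have ha'0 : a' ≠ 0 := div_ne_zero ha h0
    have hB : c.xg 0 (-a') = c.xg c.top (-a'⁻¹) * c.ng c.top a'⁻¹ * c.xg c.top (-a'⁻¹) := by
      rw [Cert.ng, c.neg_top hj, inv_inv, ← c.xg_inv c.top]
      group
    have hy : -z⁻¹ = A.1 1 0 := by simp [hz]
    rw [hy] at hnn
    calc n * (c.xg c.top a' * c.ng c.top z * c.xg c.top (A.1 1 1 / A.1 1 0))
        = (n * c.xg c.top a') * c.ng c.top z * c.xg c.top (A.1 1 1 / A.1 1 0) := by group
      _ = c.xg c.top (-a'⁻¹) * c.ng c.top a'⁻¹ * (c.xg c.top (-a'⁻¹) * (n * c.ng c.top z)) *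
            c.xg c.top (A.1 1 1 / A.1 1 0) := by
          rw [hn, (c.ng_top_xg hj hd a').1, hB]; group
      _ = c.xg c.top (-a'⁻¹) * (c.ng c.top a'⁻¹ * c.hg c.top (A.1 1 0)) *
            (c.xg c.top (-a'⁻¹ / A.1 1 0 ^ 2) * c.xg c.top (A.1 1 1 / A.1 1 0)) := by
          have := c.hg_top_xg hj h0 (-a'⁻¹ / A.1 1 0 ^ 2)
          rw [mul_div_cancel₀ _ (pow_ne_zero 2 h0)] at this
          rw [hnn, ← this]; group
      _ = _ := by
          rw [← c.xg_add, c.ng_top_eq hj a'⁻¹, mul_assoc (c.hg c.top a'⁻¹),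
            c.ng_top_hg hj hd h0, ← mul_assoc (c.hg c.top a'⁻¹),
            c.hg_top_mul hj (inv_ne_zero ha'0) (inv_ne_zero h0), ← c.ng_top_eq hj]
          congr 3
          · rw [ha', inv_div, div_neg]
          · rw [ha', inv_div]; field_simp
          · rw [ha', inv_div]; field_simp
            linear_combination hd'

/-- Every pair is in normal form. -/
theorem pairs_normal {P : GL D.Idx F × Matrix.SpecialLinearGroup (Fin 2) F}
    (hP : P ∈ c.rootPairs F) : c.PairNormal P.1 P.2 := by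
  have h1 : c.PairNormal (1 : GL D.Idx F) 1 :=
    ⟨fun _ => by simp [c.hg_top_one hj, c.xg_zero], fun h => by simp at h⟩
  have hN : ∀ {x A}, c.PairNormal x A → c.PairNormal ((c.ng c.top 1)⁻¹ * x) ((anti (1 : F))⁻¹ * A) := by
    intro x A h
    have := c.normal_anti hj hd (c.normal_anti hj hd (c.normal_anti hj hd h))
    have e4 : c.ng c.top (1 : F) * c.ng c.top 1 * (c.ng c.top 1 * c.ng c.top 1) = 1 := by
      have h2 := c.hg_top_mul hj (w := (-1 : F)) (z := -1) (by simp) (by simp)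
      rw [neg_mul_neg, one_mul, c.hg_top_one hj, Cert.hg] at h2
      have h3 := congrArg (·⁻¹) h2
      simp only [_root_.mul_inv_rev, c.ng_inv, neg_neg, inv_one] at h3
      exact h3
    have f4 : anti (1 : F) * anti 1 * (anti 1 * anti 1) = 1 := by
      refine Matrix.SpecialLinearGroup.ext _ _ fun i k => ?_
      fin_cases i <;> fin_cases k <;> simp [anti_coe, Matrix.mul_apply, Fin.sum_univ_two]
    rw [← mul_assoc, ← mul_assoc, ← mul_assoc, ← mul_assoc] at this
    rw [inv_eq_of_mul_eq_one_right (b := c.ng c.top (1 : F) * c.ng c.top 1 * c.ng c.top 1)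
        (by rw [← e4]; group),
      inv_eq_of_mul_eq_one_right (b := anti (1 : F) * anti 1 * anti 1) (by rw [← f4]; group)]
    exact this
  have hzero : ∀ s : F, ∀ {x A}, c.PairNormal x A → c.PairNormal (c.xg 0 s * x) (low s * A) := by
    intro s x A h
    have := c.normal_anti hj hd (c.normal_up hj hd (hN h) (-s))
    have e : c.xg 0 s = c.ng c.top 1 * c.xg c.top (-s) * (c.ng c.top 1)⁻¹ := by
      rw [(c.ng_top_xg hj hd (-s)).1, neg_neg, mul_inv_cancel_right]
    have f : low s = anti (1 : F) * up (-s) * (anti (1 : F))⁻¹ := by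
      rw [eq_mul_inv_iff_mul_eq]
      refine Matrix.SpecialLinearGroup.ext _ _ fun i k => ?_
      fin_cases i <;> fin_cases k <;> simp [anti_coe, up_coe, low_coe, Matrix.mul_apply, Fin.sum_univ_two]
    rw [e, f]
    simpa [mul_assoc] using this
  induction hP using Subgroup.closure_induction_left with
  | one => exact h1
  | mul_left P hP Q _ hQ =>
    rcases hP with ⟨s, rfl⟩ | ⟨s, rfl⟩
    · exact c.normal_up hj hd hQ s
    · exact hzero s hQ
  | inv_mul_cancel P hP Q _ hQ =>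
    rcases hP with ⟨s, rfl⟩ | ⟨s, rfl⟩
    · have := c.normal_up hj hd hQ (-s)
      rw [show (up (-s) : Matrix.SpecialLinearGroup (Fin 2) F) = (up s)⁻¹ from
        eq_inv_of_mul_eq_one_left (by rw [up_mul, neg_add_cancel, up_zero]), ← c.xg_inv] at this
      exact this
    · have := hzero (-s) hQ
      rw [show (low (-s) : Matrix.SpecialLinearGroup (Fin 2) F) = (low s)⁻¹ from
        eq_inv_of_mul_eq_one_left (by rw [low_mul, neg_add_cancel, low_zero]), ← c.xg_inv] at this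
      exact this

end CertFull

end Cfsg.Agent.Lie.Chev
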