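import Cfsg.Agent.Lib.Lie.Chev.SubfieldPair
import Cfsg.Agent.Lib.Lie.Chev.Subfield
import Cfsg.Agent.Lib.Grp.SLTwoSubfield

/-! A finite group over a subfield group and a conjugate of the lowest root subgroup in it: the
coordinates at the long roots of grade one lie in the subfield. -/

set_option autoImplicit false

namespace Cfsg.Agent.Lie.Chev

open Cfsg.Lie Matrix Cfsg.Agent.Grp.SL2

namespace Tables

variable (T : Tables)

/-- A single commutator term with a sign as coefficient. -/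
def oneTerm : List (ℕ × ℤ × ℕ × ℕ) → ℕ → ℕ → ℕ → Bool
  | [(x, C, i', j')], w, i, j =>
      Nat.beq x w && (intBeq C 1 || intBeq C (-1)) && Nat.beq i' i && Nat.beq j' j
  | _, _, _, _ => false

/-- A chain of length one with a sign as coefficient. -/
def oneEntry : List (ℕ × ℤ) → ℕ → Bool
  | [(x, C)], u => Nat.beq x u && (intBeq C 1 || intBeq C (-1))
  | _, _ => false

/-- A long root `m` of grade one and its partner `a` with sum the highest root. -/
def checkPencil (j m a : ℕ) : Bool :=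
  Nat.blt m T.n && Nat.blt a T.n && intBeq (T.vec m j) 1 && intBeq (T.vec a j) 1 &&
    !(Nat.beq m a) && oneTerm (T.commTerms m a) (T.n - 1) 1 1 &&
    oneTerm (T.commTerms (T.n - 1) (T.neg m)) a 1 1 &&
    oneTerm (T.commTerms 0 a) (T.neg m) 1 1 && oneEntry (T.entry m 0) (T.neg a) &&
    intBeq (T.pairing (T.n - 1) a) 1 && (T.commTerms a (T.neg m)).isEmpty &&
    (T.entry a (T.neg m)).isEmpty && (T.entry (T.neg m) a).isEmpty &&
    (T.checkDoublet a (T.neg m) 1 || T.checkDoublet a (T.neg m) (-1))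

/-- The pencil of `m'` is centralised by that of `m`. -/
def checkCross (m a a' : ℕ) : Bool :=
  Nat.blt a' T.n && !(Nat.beq a' a) && !(Nat.beq a' (T.neg a)) && !(Nat.beq a' (T.neg m)) &&
    !(Nat.beq a' m) && (T.commTerms a a').isEmpty && (T.commTerms (T.neg m) a').isEmpty

/-- The root `s` moves the coordinate at `u` to the one at `u'` and leaves it in place. -/
def checkMove (j s u u' : ℕ) : Bool :=
  intBeq (T.vec s j) 0 && Nat.ble T.h s && Nat.blt s T.n && !(Nat.beq u' s) && !(Nat.beq u s) &&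
    oneEntry (T.entry s u) u' && (T.rowCols s u).isEmpty &&
    match T.rowCols s u' with | [x] => Nat.beq x u | _ => false

end Tables

/-- A finite group containing the root elements over a subfield and no further element of the
highest root subgroup. -/
structure Over {D : ChevalleyDatum} (c : CertFull D) {F : Type*} [Field F] (φ : F →+* F)
    (H : Subgroup (GL D.Idx F)) : Prop where
  fin : Finite H
  le : H ≤ D.group F
  root : ∀ r < D.nroots, ∀ t : F, φ t = t → c.xg r t ∈ H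
  long : ∀ s : F, c.xg c.top s ∈ H → φ s = s

theorem oneTerm_spec {L : List (ℕ × ℤ × ℕ × ℕ)} {w i j : ℕ}
    (h : Tables.oneTerm L w i j = true) : ∃ C : ℤ, (C = 1 ∨ C = -1) ∧ L = [(w, C, i, j)] := by
  match L, h with
  | [(x, C, i', j')], h =>
    simp only [Tables.oneTerm, Bool.and_eq_true, Bool.or_eq_true, Nat.beq_eq] at h
    obtain ⟨⟨⟨rfl, h2⟩, rfl⟩, rfl⟩ := h
    exact ⟨C, h2.imp of_intBeq of_intBeq, rfl⟩

theorem oneEntry_spec {L : List (ℕ × ℤ)} {u : ℕ}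
    (h : Tables.oneEntry L u = true) : ∃ C : ℤ, (C = 1 ∨ C = -1) ∧ L = [(u, C)] := by
  match L, h with
  | [(x, C)], h =>
    simp only [Tables.oneEntry, Bool.and_eq_true, Bool.or_eq_true, Nat.beq_eq] at h
    obtain ⟨rfl, h2⟩ := h
    exact ⟨C, h2.imp of_intBeq of_intBeq, rfl⟩

theorem unit_sq {F : Type*} [Field F] {C : ℤ} (h : C = 1 ∨ C = -1) : (C : F) * C = 1 := by
  rcases h with rfl | rfl <;> simp

theorem map_unit {F : Type*} [Field F] (φ : F →+* F) {σ : F} (h : σ * σ = 1) : φ σ = σ := by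
  rcases mul_self_eq_one_iff.1 h with rfl | rfl <;> simp

theorem ne_of_beq_false {x y : ℕ} (h : Nat.beq x y = false) : x ≠ y := fun e => by
  rw [beq_of_eq e] at h; exact Bool.noConfusion h

namespace CertFull

variable {D : ChevalleyDatum} (c : CertFull D) {F : Type*} [Field F]

include c

/-- Conjugation with a single term. -/
theorem conj_one {r s : ℕ} (hr : r < D.nroots) (hs : s < D.nroots) (h1 : s ≠ r)
    (h2 : s ≠ D.neg r) {w i k : ℕ} {C : ℤ} (h : c.T.commTerms r s = [(w, C, i, k)]) (t u : F) :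
    c.xg r t * c.xg s u * (c.xg r t)⁻¹ = c.xg s u * c.xg w ((C : F) * t ^ i * u ^ k) := by
  have e := c.xg_comm hr hs h1 h2 (-t) u
  rw [h, List.map_singleton, List.prod_singleton, neg_neg] at e
  rw [c.xg_inv, mul_assoc, e, ← mul_assoc, ← mul_assoc, ← c.xg_add, add_neg_cancel, c.xg_zero,
    one_mul]

variable {j : ℕ} (hj : c.T.checkGrade j = true)

include hj

/-- Root elements whose grades add to more than two commute. -/
theorem commute_grade {r s : ℕ} (hr : r < D.nroots) (hs : s < D.nroots)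
    (h : (0 < c.T.vec r j ∧ 0 < c.T.vec s j ∧ 3 ≤ c.T.vec r j + c.T.vec s j) ∨
      (c.T.vec r j < 0 ∧ c.T.vec s j < 0 ∧ c.T.vec r j + c.T.vec s j ≤ -3)) (t u : F) :
    Commute (c.xg r t) (c.xg s u) := by
  obtain ⟨hjr, -, -, -, -, hall⟩ := c.grade_spec hj
  by_cases h1 : s = r
  · subst h1
    rw [Commute, SemiconjBy, ← c.xg_add, ← c.xg_add, add_comm]
  have h2 : s ≠ D.neg r := fun e => by
    rw [e, c.vec_neg hr hjr] at h; omega
  refine c.commute_of_nil hr hs h1 h2 (List.eq_nil_iff_forall_not_mem.2 fun x hx => ?_) t u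
  obtain ⟨hx1, hi, hk, -⟩ := c.mem_commTerms hr hs hx
  have hv := c.commTerms_vec hr hs hjr hx
  obtain ⟨g1, g2, -, -⟩ := hall x.1 hx1
  have hi' : (1 : ℤ) ≤ (x.2.2.1 : ℕ) := by exact_mod_cast hi
  have hk' : (1 : ℤ) ≤ (x.2.2.2 : ℕ) := by exact_mod_cast hk
  rcases h with ⟨p1, p2, p3⟩ | ⟨p1, p2, p3⟩ <;> nlinarith

/-- The highest root elements commute with the radical. -/
theorem commute_top {v : GL D.Idx F} (hv : v ∈ c.rad F j) (s : F) :
    Commute v (c.xg c.top s) := by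
  induction hv using Subgroup.closure_induction with
  | mem g hg =>
    obtain ⟨w, t, hw, -, rfl⟩ := hg
    exact c.commute_grade hj hw.1 (c.top_lt hj)
      (Or.inl ⟨hw.2, by rw [(c.grade_spec hj).2.1]; omega,
        by rw [(c.grade_spec hj).2.1]; have := hw.2; omega⟩) t s
  | one => exact Commute.one_left _
  | mul a b _ _ ha hb => exact ha.mul_left hb
  | inv a _ ha => exact ha.inv_left

variable {m a : ℕ} (hp : c.T.checkPencil j m a = true)

include hp

theorem pencil_spec : m < D.nroots ∧ a < D.nroots ∧ D.neg m < D.nroots ∧ m ∈ c.radS j ∧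
    a ∈ c.radS j ∧ c.T.vec m j = 1 ∧ c.T.vec a j = 1 ∧ m ≠ a ∧
    c.T.pairing c.top a = 1 ∧ c.T.vec (D.neg a) j = -1 ∧ c.T.neg m = D.neg m ∧
    c.T.neg a = D.neg a := by
  obtain ⟨hjr, -⟩ := c.grade_spec hj
  simp only [Tables.checkPencil, Bool.and_eq_true, Bool.not_eq_true', Nat.blt_eq] at hp
  obtain ⟨⟨⟨⟨⟨⟨⟨⟨⟨⟨⟨⟨⟨hm, ha⟩, h3⟩, h4⟩, h5⟩, -⟩, -⟩, -⟩, -⟩, h10⟩, -⟩, -⟩, -⟩, -⟩ := hp
  rw [← c.nroots_eq] at hm ha
  have e3 := of_intBeq h3
  have e4 := of_intBeq h4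
  refine ⟨hm, ha, c.neg_lt hm, ⟨hm, by omega⟩, ⟨ha, by omega⟩, e3, e4, ne_of_beq_false h5,
    of_intBeq h10, by rw [c.vec_neg ha hjr, e4], (c.neg_eq hm).symm, (c.neg_eq ha).symm⟩

theorem pencil_conj :
    (∃ ε : F, ε * ε = 1 ∧ ∀ t u : F,
      c.xg m t * c.xg a u * (c.xg m t)⁻¹ = c.xg a u * c.xg c.top (ε * t * u)) ∧
    (∃ ε : F, ε * ε = 1 ∧ ∀ t u : F, c.xg c.top t * c.xg (D.neg m) u * (c.xg c.top t)⁻¹ =
      c.xg (D.neg m) u * c.xg a (ε * t * u)) ∧
    (∃ ε : F, ε * ε = 1 ∧ ∀ t u : F, c.xg 0 t * c.xg a u * (c.xg 0 t)⁻¹ =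
      c.xg a u * c.xg (D.neg m) (ε * t * u)) ∧
    (∀ t u : F, Commute (c.xg a t) (c.xg (D.neg m) u)) ∧
    (∃ E : ℤ, (E = 1 ∨ E = -1) ∧ c.T.entry m 0 = [(D.neg a, E)]) ∧
    (∀ t : F, D.x F a t *ᵥ evec D F (D.neg m) = evec D F (D.neg m) ∧
      D.x F (D.neg m) t *ᵥ evec D F a = evec D F a) ∧
    ∃ C, c.T.checkDoublet a (D.neg m) C = true := by
  obtain ⟨hm, ha, hg, -, -, e3, e4, hma, -, -, en, ena⟩ := c.pencil_spec hj hp
  obtain ⟨hjr, hT, -, -, -, -⟩ := c.grade_spec hj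
  have hTl := c.top_lt hj
  have h0 := c.zero_lt hj
  have hvg : c.T.vec (D.neg m) j = -1 := by rw [c.vec_neg hm hjr, e3]
  have hv0 := c.vec_zero hj
  simp only [Tables.checkPencil, Bool.and_eq_true, Bool.or_eq_true, Bool.not_eq_true', en, ena,
    List.isEmpty_iff] at hp
  obtain ⟨⟨⟨⟨⟨⟨⟨⟨⟨-, p6⟩, p7⟩, p8⟩, p9⟩, -⟩, p11⟩, p12⟩, p13⟩, p14⟩ := hp
  have ne : ∀ {x y : ℕ}, c.T.vec x j ≠ c.T.vec y j → x ≠ y := fun h e => h (e ▸ rfl)
  have nn : ∀ {x y : ℕ}, y < D.nroots → c.T.vec x j ≠ -c.T.vec y j → x ≠ D.neg y :=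
    fun hy h e => h (by rw [e, c.vec_neg hy hjr])
  have hag : D.neg m ≠ a := ne (by omega)
  have hag' : D.neg m ≠ D.neg a := fun e => hma (by rw [← c.neg_neg hm, e, c.neg_neg ha])
  have hag'' : a ≠ D.neg (D.neg m) := by rw [c.neg_neg hm]; exact hma.symm
  refine ⟨?_, ?_, ?_, fun t u => c.commute_of_nil ha hg hag hag' p11 t u, oneEntry_spec p9, fun t =>
    ⟨?_, ?_⟩, ?_⟩
  · obtain ⟨C, hC, e⟩ := oneTerm_spec p6
    exact ⟨C, unit_sq hC, fun t u => by
      rw [c.conj_one hm ha hma.symm (nn hm (by omega)) e t u, pow_one, pow_one]⟩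
  · obtain ⟨C, hC, e⟩ := oneTerm_spec p7
    exact ⟨C, unit_sq hC, fun t u => by
      rw [c.conj_one hTl hg (ne (by omega)) (nn hTl (by omega)) e t u, pow_one, pow_one]⟩
  · obtain ⟨C, hC, e⟩ := oneTerm_spec p8
    exact ⟨C, unit_sq hC, fun t u => by
      rw [c.conj_one h0 ha (ne (by omega)) (nn h0 (by omega)) e t u, pow_one, pow_one]⟩
  · rw [c.x_evec ha hg hag hag', p12]; simp [chainVec]
  · rw [c.x_evec hg ha hag.symm hag'', p13]; simp [chainVec]
  · rcases p14 with h | h <;> exact ⟨_, h⟩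

/-- A coordinate of grade `-1` of a root element vanishes off its pencil. -/
theorem coord_xg_other {w : ℕ} (hw : w ∈ c.radS j) (hne : w ≠ m) (t : F) :
    coord0 (c.xg w t) (D.neg a) = 0 := by
  obtain ⟨hm, ha, -, -, -, e3, e4, -, -, hu, -, -⟩ := c.pencil_spec hj hp
  obtain ⟨-, -, -, -, ⟨E, -, hE⟩, -⟩ := c.pencil_conj hj hp (F := F)
  have h0 := c.zero_lt hj
  obtain ⟨hjr, -⟩ := c.grade_spec hj
  rw [c.coord_xg hj hw (c.neg_lt ha) hu]
  split
  · rfl
  refine c.chainVec_eq_zero _ t 1 _ fun q hq e => hne ?_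
  obtain ⟨i, hi⟩ := List.getElem?_of_mem hq
  have hroot : c.T.chainRoot w 0 (i + 1) = some q.1 := by
    rw [Tables.chainRoot, Nat.add_sub_cancel, hi]; rfl
  have hv := c.chainRoot_vec hw.1 h0 (by omega) hroot hjr
  have hc := c.chainRoot_code hw.1 h0 (by omega) hroot
  rw [e, hu, c.vec_zero hj] at hv
  have hroot' : c.T.chainRoot m 0 1 = some (D.neg a) := by rw [Tables.chainRoot, hE]; rfl
  have hc' := c.chainRoot_code hm h0 le_rfl hroot'
  rw [e] at hc
  have hw2 := hw.2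
  have hi1 : ((i + 1 : ℕ) : ℤ) = 1 := by
    have : (1 : ℤ) ≤ ((i + 1 : ℕ) : ℤ) := by omega
    by_contra hcon
    have : (2 : ℤ) ≤ ((i + 1 : ℕ) : ℤ) := by omega
    nlinarith
  rw [hi1] at hc
  exact c.code_inj hw.1 hm (by push_cast at hc hc'; linarith)

theorem coord_xg_self (t : F) : ∃ E : F, E * E = 1 ∧ coord0 (c.xg m t) (D.neg a) = E * t := by
  obtain ⟨hm, ha, -, hmS, -, e3, -, -, -, hu, -, -⟩ := c.pencil_spec hj hp
  obtain ⟨-, -, -, -, ⟨E, hE', hE⟩, -⟩ := c.pencil_conj hj hp (F := F)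
  refine ⟨E, unit_sq hE', ?_⟩
  rw [c.coord_xg hj hmS (c.neg_lt ha) hu, if_neg fun e => by
    rw [e, (c.grade_spec hj).2.1] at e3; omega, hE]
  simp [chainVec, evec]

/-- Conjugation of the partner by the radical. -/
theorem pencil_rad : ∃ σ : F, σ * σ = 1 ∧ ∀ v ∈ c.rad F j, ∀ u : F,
    v⁻¹ * c.xg a u * v = c.xg a u * c.xg c.top (σ * coord0 v (D.neg a) * u) := by
  obtain ⟨hm, ha, -, hmS, haS, e3, e4, hma, -, hu, -, -⟩ := c.pencil_spec hj hp
  obtain ⟨⟨ε, hε, hconj⟩, -, -, -, ⟨E, hE', hE⟩, -⟩ := c.pencil_conj hj hp (F := F)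
  have hul := c.neg_lt (D := D) ha
  have hE2 : (E : F) * E = 1 := unit_sq hE'
  refine ⟨-ε * E, by linear_combination (E : F) * E * hε + hE2, fun v hv => ?_⟩
  set σ : F := -ε * E
  induction hv using Subgroup.closure_induction with
  | mem g hg =>
    obtain ⟨w, t, hw, -, rfl⟩ := hg
    intro u
    by_cases hwm : w = m
    · subst hwm
      have h1 := hconj (-t) u
      rw [← c.xg_inv, inv_inv] at h1
      rw [h1, c.coord_xg hj hw hul hu, if_neg fun e => by
        rw [e, (c.grade_spec hj).2.1] at e3; omega, hE]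
      congr 2
      simp [chainVec, evec, σ]
      left; linear_combination -ε * t * hE2
    · rw [c.coord_xg_other hj hp hw hwm, mul_zero, zero_mul, c.xg_zero, mul_one]
      obtain ⟨hjr, -, -, -, -, hall⟩ := c.grade_spec hj
      suffices Commute (c.xg w t) (c.xg a u) by
        rw [mul_assoc, ← this.eq, inv_mul_cancel_left]
      by_cases hwa : w = a
      · subst hwa
        rw [Commute, SemiconjBy, ← c.xg_add, ← c.xg_add, add_comm]
      have hne : a ≠ D.neg w := fun e => by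
        have := hw.2; rw [e, c.vec_neg hw.1 hjr] at e4; omega
      refine c.commute_of_nil hw.1 ha (Ne.symm hwa) hne
        (List.eq_nil_iff_forall_not_mem.2 fun x hx => hwm ?_) t u
      obtain ⟨hx1, hi, hk, hcode⟩ := c.mem_commTerms hw.1 ha hx
      have hv := c.commTerms_vec hw.1 ha hjr hx
      obtain ⟨-, g2, g3, -⟩ := hall x.1 hx1
      have hw2 := hw.2
      rw [e4, mul_one] at hv
      have hi' : (1 : ℤ) ≤ (x.2.2.1 : ℕ) := by exact_mod_cast hi
      have hk' : (1 : ℤ) ≤ (x.2.2.2 : ℕ) := by exact_mod_cast hk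
      have hiv : (1 : ℤ) ≤ (x.2.2.1 : ℕ) * c.T.vec w j := by nlinarith
      have hx2 := g3 (by omega)
      have hxi : (x.2.2.1 : ℤ) * c.T.vec w j = 1 ∧ (x.2.2.2 : ℤ) = 1 := by omega
      have hi1 : (x.2.2.1 : ℤ) = 1 :=
        Int.eq_one_of_mul_eq_one_right (by omega) hxi.1
      rw [hx2, hi1, hxi.2] at hcode
      have hTm : c.T.code c.top = c.T.code m + c.T.code a := by
        obtain ⟨C, -, e⟩ := oneTerm_spec (show Tables.oneTerm (c.T.commTerms m a) c.top 1 1 = true by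
          simp only [Tables.checkPencil, Bool.and_eq_true] at hp
          exact hp.1.1.1.1.1.1.1.1.2)
        obtain ⟨-, -, -, h⟩ := c.mem_commTerms hm ha (x := (c.top, C, 1, 1)) (by rw [e]; simp)
        simpa using h
      exact c.code_inj hw.1 hm (by linarith)
  | one =>
    intro u
    rw [c.coord_one hj hul hu, mul_zero, zero_mul, c.xg_zero]
    group
  | mul x y hx hy ihx ihy =>
    intro u
    rw [c.coord_mul hj hx hy hul hu, mul_add, add_mul, c.xg_add, _root_.mul_inv_rev,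
      show y⁻¹ * x⁻¹ * c.xg a u * (x * y) = y⁻¹ * (x⁻¹ * c.xg a u * x) * y by group, ihx,
      show y⁻¹ * (c.xg a u * c.xg c.top (σ * coord0 x (D.neg a) * u)) * y =
        (y⁻¹ * c.xg a u * y) * (y⁻¹ * c.xg c.top (σ * coord0 x (D.neg a) * u) * y) by group, ihy,
      mul_assoc y⁻¹, ← (c.commute_top hj hy _).eq, inv_mul_cancel_left, mul_assoc]
    congr 1
    rw [← c.xg_add, ← c.xg_add, add_comm]
  | inv x hx ihx =>
    intro u
    have h := ihx u
    rw [c.coord_inv hj hx hul hu, inv_inv, mul_neg, neg_mul, ← c.xg_inv]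
    have h2 := (c.commute_top hj hx (σ * coord0 x (D.neg a) * u)).eq
    calc x * c.xg a u * x⁻¹
        = x * ((x⁻¹ * c.xg a u * x) * (c.xg c.top (σ * coord0 x (D.neg a) * u))⁻¹) * x⁻¹ := by
          rw [h, mul_inv_cancel_right]
      _ = c.xg a u * (x * (c.xg c.top (σ * coord0 x (D.neg a) * u))⁻¹ * x⁻¹) := by group
      _ = _ := by rw [((c.commute_top hj hx _).inv_right).eq, mul_inv_cancel_right]

omit hj hp in
/-- A product in the abelian group of the doublet. -/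
def rr (g a : ℕ) (α β : F) : GL D.Idx F := c.xg g α * c.xg a β

theorem rr_mul (α β α' β' : F) :
    c.rr (D.neg m) a α β * c.rr (D.neg m) a α' β' = c.rr (D.neg m) a (α + α') (β + β') := by
  obtain ⟨-, -, -, hc, -⟩ := c.pencil_conj hj hp (F := F)
  simp only [rr]
  rw [c.xg_add, c.xg_add, mul_assoc, ← mul_assoc (c.xg a β), (hc β α').eq]
  group

theorem rr_inv (α β : F) : (c.rr (D.neg m) a α β)⁻¹ = c.rr (D.neg m) a (-α) (-β) :=
  inv_eq_of_mul_eq_one_right (by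
    rw [c.rr_mul hj hp, add_neg_cancel, add_neg_cancel]; simp [rr, c.xg_zero])

theorem rr_top : ∃ ε : F, ε * ε = 1 ∧ ∀ s α β : F,
    c.xg c.top s * c.rr (D.neg m) a α β * (c.xg c.top s)⁻¹ =
        c.rr (D.neg m) a α (ε * s * α + β) ∧
      c.rr (D.neg m) a α β * c.xg c.top s * (c.rr (D.neg m) a α β)⁻¹ =
        c.xg a (-(ε * s * α)) * c.xg c.top s := by
  obtain ⟨-, ha, -, -, -, -, e4, -, -, -, -, -⟩ := c.pencil_spec hj hp
  obtain ⟨-, ⟨ε, hε, h⟩, -⟩ := c.pencil_conj hj hp (F := F)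
  have hT := (c.grade_spec hj).2.1
  refine ⟨ε, hε, fun s α β => ?_⟩
  have hca : Commute (c.xg c.top s) (c.xg a β) :=
    c.commute_grade hj (c.top_lt hj) ha (Or.inl ⟨by omega, by omega, by omega⟩) s β
  have e1 : c.xg c.top s * c.rr (D.neg m) a α β * (c.xg c.top s)⁻¹ =
      c.rr (D.neg m) a α (ε * s * α + β) := by
    rw [rr, rr, c.xg_add, show c.xg c.top s * (c.xg (D.neg m) α * c.xg a β) * (c.xg c.top s)⁻¹ =
      c.xg c.top s * c.xg (D.neg m) α * (c.xg c.top s)⁻¹ *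
        (c.xg c.top s * c.xg a β * (c.xg c.top s)⁻¹) by group, h, hca.eq, mul_inv_cancel_right,
      mul_assoc]
  refine ⟨e1, ?_⟩
  have e2 : c.xg c.top s * (c.rr (D.neg m) a α β)⁻¹ * (c.xg c.top s)⁻¹ =
      c.rr (D.neg m) a (-α) (-(ε * s * α) + -β) := by
    have e3 := congrArg (·⁻¹) e1
    rw [_root_.mul_inv_rev, _root_.mul_inv_rev, inv_inv] at e3
    rw [mul_assoc, e3, c.rr_inv hj hp]
    congr 1
    ring
  calc c.rr (D.neg m) a α β * c.xg c.top s * (c.rr (D.neg m) a α β)⁻¹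
      = c.rr (D.neg m) a α β * (c.xg c.top s * (c.rr (D.neg m) a α β)⁻¹ * (c.xg c.top s)⁻¹) *
          c.xg c.top s := by group
    _ = _ := by
      rw [e2, c.rr_mul hj hp, add_neg_cancel, rr, c.xg_zero, one_mul]
      congr 2
      ring

theorem rr_conj {P : GL D.Idx F × Matrix.SpecialLinearGroup (Fin 2) F} (hP : P ∈ c.rootPairs F) :
    ∀ α β : F, ∃ α' β', P.1 * c.rr (D.neg m) a α β * P.1⁻¹ = c.rr (D.neg m) a α' β' := by
  obtain ⟨hm, ha, hg, -, -, e3, e4, -, -, -, -, -⟩ := c.pencil_spec hj hp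
  obtain ⟨hjr, -⟩ := c.grade_spec hj
  obtain ⟨εT, -, hT⟩ := c.rr_top hj hp (F := F)
  obtain ⟨-, -, ⟨ε, -, h0⟩, hc, -⟩ := c.pencil_conj hj hp (F := F)
  have hz : ∀ s α β : F, ∃ α' β',
      c.xg 0 s * c.rr (D.neg m) a α β * (c.xg 0 s)⁻¹ = c.rr (D.neg m) a α' β' := by
    intro s α β
    refine ⟨α + ε * s * β, β, ?_⟩
    have hcg : Commute (c.xg 0 s) (c.xg (D.neg m) α) :=
      c.commute_grade hj (c.zero_lt hj) hg (Or.inr (by
        rw [c.vec_zero hj, c.vec_neg hm hjr, e3]; omega)) s α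
    rw [rr, rr, show c.xg 0 s * (c.xg (D.neg m) α * c.xg a β) * (c.xg 0 s)⁻¹ =
      c.xg 0 s * c.xg (D.neg m) α * (c.xg 0 s)⁻¹ * (c.xg 0 s * c.xg a β * (c.xg 0 s)⁻¹) by group,
      hcg.eq, mul_inv_cancel_right, h0, (hc β (ε * s * β)).eq, c.xg_add]
    group
  induction hP using Subgroup.closure_induction'' with
  | mem P hP =>
    rcases hP with ⟨s, rfl⟩ | ⟨s, rfl⟩
    · exact fun α β => ⟨_, _, (hT s α β).1⟩
    · exact hz s
  | inv_mem P hP =>
    rcases hP with ⟨s, rfl⟩ | ⟨s, rfl⟩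
    · exact fun α β => ⟨_, _, by rw [Prod.fst_inv, c.xg_inv]; exact (hT (-s) α β).1⟩
    · intro α β; rw [Prod.fst_inv, c.xg_inv]; exact hz (-s) α β
  | one => exact fun α β => ⟨α, β, by simp⟩
  | mul P Q _ _ hP hQ =>
    intro α β
    obtain ⟨α', β', e⟩ := hQ α β
    obtain ⟨α'', β'', e'⟩ := hP α' β'
    refine ⟨α'', β'', ?_⟩
    rw [← e', ← e, Prod.fst_mul]; group

/-- Pairs multiplied by the abelian group of the doublet. -/
noncomputable def lifts : Subgroup (GL D.Idx F × Matrix.SpecialLinearGroup (Fin 2) F) where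
  carrier := {P | ∃ α β x, (x, P.2) ∈ c.rootPairs F ∧ P.1 = c.rr (D.neg m) a α β * x}
  one_mem' := ⟨0, 0, 1, one_mem _, by simp [rr, c.xg_zero]⟩
  mul_mem' := by
    rintro P Q ⟨α, β, x, hx, hP⟩ ⟨α', β', x', hx', hQ⟩
    obtain ⟨α'', β'', e⟩ := c.rr_conj hj hp hx α' β'
    refine ⟨α + α'', β + β'', x * x', mul_mem hx hx', ?_⟩
    rw [Prod.fst_mul, hP, hQ, ← c.rr_mul hj hp, ← e]; group
  inv_mem' := by
    rintro P ⟨α, β, x, hx, hP⟩
    show ∃ α β y, (y, P.2⁻¹) ∈ c.rootPairs F ∧ P⁻¹.1 = c.rr (D.neg m) a α β * y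
    obtain ⟨α', β', e⟩ := c.rr_conj hj hp (inv_mem hx) (-α) (-β)
    refine ⟨α', β', x⁻¹, inv_mem hx, ?_⟩
    rw [Prod.fst_inv, hP, ← e, _root_.mul_inv_rev, c.rr_inv hj hp]
    simp

theorem lifts_acts {C : ℤ} (hd : c.T.checkDoublet a (D.neg m) C = true)
    {P : GL D.Idx F × Matrix.SpecialLinearGroup (Fin 2) F} (hP : P ∈ c.lifts hj hp) :
    c.Acts (⊥ : Submodule F (D.Idx → F)) a (D.neg m) C P.1 P.2 := by
  obtain ⟨hm, ha, hg, -, -, -, -, -, -, -, -, -⟩ := c.pencil_spec hj hp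
  obtain ⟨-, -, -, -, -, hfix, -⟩ := c.pencil_conj hj hp (F := F)
  obtain ⟨α, β, x, hx, hP⟩ := hP
  have hrr : c.Acts (⊥ : Submodule F (D.Idx → F)) a (D.neg m) C (c.rr (D.neg m) a α β) 1 := by
    refine ⟨fun w hw => by simp [(Submodule.mem_bot F).1 hw], ?_, ?_⟩
    · rw [rr, Units.val_mul, ← Matrix.mulVec_mulVec, Matrix.mulVec_smul, Cert.xg_val, Cert.xg_val,
        c.x_evec_self ha, Matrix.mulVec_smul, (hfix α).2]
      simp
    · rw [rr, Units.val_mul, ← Matrix.mulVec_mulVec, Cert.xg_val, Cert.xg_val, (hfix β).1,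
        c.x_evec_self hg]
      simp
  rw [hP, ← one_mul P.2]
  exact c.acts_mul hrr (c.acts_pairs hj hd hx)

omit hp in
/-- A root element of grade zero conjugates a radical conjugate of the lowest root subgroup to
another one. -/
theorem shift_mem {φ : F →+* F} {H : Subgroup (GL D.Idx F)} (hO : Over c φ H) {s : ℕ}
    (hs : c.Pos s) (hs0 : c.T.vec s j = 0) {t : F} (ht : φ t = t) {v : GL D.Idx F}
    (hv : v ∈ c.rad F j) {k : F} (hy : v * c.xg 0 k * v⁻¹ ∈ H) :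
    c.xg s t * v * (c.xg s t)⁻¹ ∈ c.rad F j ∧
      (c.xg s t * v * (c.xg s t)⁻¹) * c.xg 0 k * (c.xg s t * v * (c.xg s t)⁻¹)⁻¹ ∈ H := by
  refine ⟨c.rad_conj hj (c.xg_mem_U hs t) hv, ?_⟩
  have hx := hO.root s hs.2 t ht
  have e := (c.commute_zero hj hs.2 hs0 t k).1
  have e2 : (c.xg s t)⁻¹ * c.xg 0 k * c.xg s t = c.xg 0 k := by
    rw [mul_assoc, ← e.eq, inv_mul_cancel_left]
  rw [show ∀ (x v z : GL D.Idx F), x * v * x⁻¹ * z * (x * v * x⁻¹)⁻¹ = x * (v * (x⁻¹ * z * x) * v⁻¹) * x⁻¹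
    from fun x v z => by group, e2]
  exact mul_mem (mul_mem hx hy) (inv_mem hx)

omit hp in
/-- A radical root element over the subfield moves a radical conjugate to another one. -/
theorem strip_mem {φ : F →+* F} {H : Subgroup (GL D.Idx F)} (hO : Over c φ H) {w : ℕ}
    (hw : w ∈ c.radS j) {t : F} (ht : φ t = t) {v : GL D.Idx F} (hv : v ∈ c.rad F j) {k : F}
    (hy : v * c.xg 0 k * v⁻¹ ∈ H) :
    c.xg w t * v ∈ c.rad F j ∧ (c.xg w t * v) * c.xg 0 k * (c.xg w t * v)⁻¹ ∈ H := by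
  refine ⟨mul_mem (c.xg_mem_rad hj hw t) hv, ?_⟩
  have hx := hO.root w hw.1 t ht
  rw [show ∀ (x v z : GL D.Idx F), x * v * z * (x * v)⁻¹ = x * (v * z * v⁻¹) * x⁻¹
    from fun x v z => by group]
  exact mul_mem (mul_mem hx hy) (inv_mem hx)

variable (p : ℕ) [Fact p.Prime] [CharP F p] {φ : F →+* F} {H : Subgroup (GL D.Idx F)}
  (hO : Over c φ H) {v : GL D.Idx F} (hv : v ∈ c.rad F j) {k : F} (hk : k ≠ 0)
  (hy : v * c.xg 0 k * v⁻¹ ∈ H)

include hO hv hk hy

include p in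
/-- The coordinate is in the subfield, except over the field of two elements. -/
theorem pencil_or : φ (coord0 v (D.neg a)) = coord0 v (D.neg a) ∨
    (coord0 v (D.neg a) ^ 2 + coord0 v (D.neg a) + 1 = 0 ∧ k ^ 3 = 1 ∧ (2 : F) = 0 ∧
      (∀ z, φ z = z → z = 0 ∨ z = 1) ∧
      ∃ α β : F, v * (c.rr (D.neg m) a α β * c.hg c.top (coord0 v (D.neg a))) * v⁻¹ ∈ H) := by
  classical
  set μ := coord0 v (D.neg a) with hμdef
  by_cases hμ0 : φ μ = μ
  · exact Or.inl hμ0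
  refine Or.inr ?_
  obtain ⟨hm, ha, hg, hmS, haS, e3, e4, hma, hpair, hu, -, -⟩ := c.pencil_spec hj hp
  obtain ⟨⟨εm, hεm, hm'⟩, -, -, hc, -, -, C, hd⟩ := c.pencil_conj hj hp (F := F)
  obtain ⟨ε, hε, hrr⟩ := c.rr_top hj hp (F := F)
  obtain ⟨σ, hσ, hrad⟩ := c.pencil_rad hj hp (F := F)
  have hT := (c.grade_spec hj).2.1
  have hTl := c.top_lt hj
  set ν := σ * μ with hν
  have hνn : φ ν ≠ ν := fun e => hμ0 <| by
    rw [hν, map_mul, map_unit φ hσ] at e
    exact mul_left_cancel₀ (left_ne_zero_of_mul (hσ.trans_ne one_ne_zero)) e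
  have hrad' : ∀ u : F, v * c.xg a u * v⁻¹ = c.xg a u * c.xg c.top (-(ν * u)) := fun u => by
    have h := hrad v hv u
    rw [← hμdef, ← hν] at h
    have h2 : c.xg a u = v * (c.xg a u * c.xg c.top (ν * u)) * v⁻¹ := by rw [← h]; group
    have h3 : v * c.xg c.top (ν * u) * v⁻¹ = c.xg c.top (ν * u) := by
      rw [(c.commute_top hj hv _).eq, mul_inv_cancel_right]
    calc v * c.xg a u * v⁻¹ = (v * (c.xg a u * c.xg c.top (ν * u)) * v⁻¹) *
          (v * c.xg c.top (ν * u) * v⁻¹)⁻¹ := by group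
      _ = _ := by rw [← h2, h3, c.xg_inv]
  set Hc := H.comap (MulAut.conj v).toMonoidHom with hHc
  have hmem : ∀ x, x ∈ Hc ↔ v * x * v⁻¹ ∈ H := fun x => Iff.rfl
  have hfact : ∀ ℓ lam : F, c.xg a ℓ * c.xg c.top lam ∈ Hc → φ ℓ = ℓ ∧
      φ (lam - ν * ℓ) = lam - ν * ℓ := by
    intro ℓ lam h
    rw [hmem] at h
    have hz : c.xg a ℓ * c.xg c.top (lam - ν * ℓ) ∈ H := by
      convert h using 1
      rw [show v * (c.xg a ℓ * c.xg c.top lam) * v⁻¹ = (v * c.xg a ℓ * v⁻¹) *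
        (v * c.xg c.top lam * v⁻¹) by group, hrad', (c.commute_top hj hv _).eq,
        mul_inv_cancel_right, mul_assoc (c.xg a ℓ), ← c.xg_add]
      congr 2
      ring
    have hx1 := hO.root m hm 1 (map_one φ)
    have hcm : Commute (c.xg m (1 : F)) (c.xg c.top (lam - ν * ℓ)) :=
      c.commute_grade hj hm hTl (Or.inl ⟨by omega, by omega, by omega⟩) _ _
    have h4 : c.xg c.top (εm * ℓ) ∈ H := by
      have h5 := mul_mem (mul_mem (mul_mem hx1 hz) (inv_mem hx1)) (inv_mem hz)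
      convert h5 using 1
      rw [show c.xg m (1 : F) * (c.xg a ℓ * c.xg c.top (lam - ν * ℓ)) * (c.xg m 1)⁻¹ =
        (c.xg m 1 * c.xg a ℓ * (c.xg m 1)⁻¹) * (c.xg m 1 * c.xg c.top (lam - ν * ℓ) * (c.xg m 1)⁻¹)
        by group, hm', hcm.eq, mul_inv_cancel_right, mul_one]
      have : Commute (c.xg a ℓ) (c.xg c.top (εm * ℓ)) :=
        c.commute_grade hj ha hTl (Or.inl ⟨by omega, by omega, by omega⟩) _ _
      rw [this.eq]; group
    have h6 := hO.long _ h4
    rw [map_mul, map_unit φ hεm] at h6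
    have hl := mul_left_cancel₀ (left_ne_zero_of_mul (hεm.trans_ne one_ne_zero)) h6
    refine ⟨hl, hO.long _ ?_⟩
    have := mul_mem (inv_mem (hO.root a ha ℓ hl)) hz
    rwa [inv_mul_cancel_left] at this
  -- the group of parameters
  set J := c.lifts hj hp ⊓ Hc.comap (MonoidHom.fst _ _)
  set DD := J.map (MonoidHom.snd _ _)
  haveI := hO.fin
  haveI : Finite DD := by
    have hch : ∀ A : DD, ∃ x : H, ∃ P ∈ J, P.2 = A.1 ∧ v * P.1 * v⁻¹ = x.1 := fun A => by
      obtain ⟨P, hP, e⟩ := Subgroup.mem_map.1 A.2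
      exact ⟨⟨_, hP.2⟩, P, hP, e, rfl⟩
    choose f P hPJ hP2 hP1 using hch
    refine Finite.of_injective f fun A B h => Subtype.ext ?_
    have e : (P A).1 = (P B).1 := by
      have := (hP1 A).trans ((congrArg Subtype.val h).trans (hP1 B).symm)
      exact mul_left_cancel (mul_right_cancel this)
    rw [← hP2 A, ← hP2 B]
    obtain ⟨ha', hg', hag, hC, -⟩ := c.doublet_spec hj hd (F := F)
    refine c.acts_unique ha' hg' hag (unit_sq hC) (fun w hw => by simp [(Submodule.mem_bot F).1 hw])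
      (c.lifts_acts hj hp hd (hPJ A).1) ?_
    rw [e]; exact c.lifts_acts hj hp hd (hPJ B).1
  have hlift : ∀ {x : GL D.Idx F} {A : Matrix.SpecialLinearGroup (Fin 2) F} (α β : F),
      (x, A) ∈ c.rootPairs F → c.rr (D.neg m) a α β * x ∈ Hc → A ∈ DD := fun {x A} α β hx hH =>
    ⟨(c.rr (D.neg m) a α β * x, A), ⟨⟨α, β, x, hx, rfl⟩, hH⟩, rfl⟩
  have hrr0 : c.rr (D.neg m) a (0 : F) 0 = 1 := by simp [rr, c.xg_zero]
  have hXmem : ∀ s : F, φ s = s → c.xg c.top s ∈ Hc := fun s hs => by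
    rw [hmem, (c.commute_top hj hv _).eq, mul_inv_cancel_right]; exact hO.root _ hTl s hs
  have hZmem : ∀ u : F, φ u = u → c.xg a u * c.xg c.top (ν * u) ∈ Hc := fun u hu => by
    rw [hmem, show v * (c.xg a u * c.xg c.top (ν * u)) * v⁻¹ = (v * c.xg a u * v⁻¹) *
        (v * c.xg c.top (ν * u) * v⁻¹) by group, hrad', (c.commute_top hj hv _).eq,
        mul_inv_cancel_right, mul_assoc (c.xg a u), ← c.xg_add, neg_add_cancel, c.xg_zero, mul_one]
    exact hO.root a ha u hu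
  have hupk0 : ∀ s : F, φ s = s → up s ∈ DD := fun s hs =>
    hlift 0 0 (c.pairs_top hj s) (by rw [hrr0, one_mul]; exact hXmem s hs)
  have hupν : up ν ∈ DD := hlift 0 1 (c.pairs_top hj ν) (by
    simpa [rr, c.xg_zero] using hZmem 1 (map_one φ))
  obtain ⟨L, -, hLs, hkL, hLD⟩ := Cfsg.Agent.Grp.UpperLower.exists_subfield p DD hk (hupk0 1 (map_one φ)) hupν
    (fun n e => hνn (by rw [e, map_natCast]))
    (hlift 0 0 (c.pairs_zero hj k) (by rw [hrr0, one_mul]; exact hy))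
  have hνL := hLs ν hupν
  have hget : ∀ A : Matrix.SpecialLinearGroup (Fin 2) F, (∀ i l, A.1 i l ∈ L) → A.1 1 0 = 0 →
      ∃ α β : F, c.rr (D.neg m) a α β * (c.hg c.top (A.1 0 0) * c.xg c.top (A.1 0 1 / A.1 0 0)) ∈
        Hc := fun A hA h10 => by
    obtain ⟨P, ⟨⟨α, β, x, hx, hP⟩, hH⟩, e⟩ := hLD A hA
    have he : P.2 = A := e
    rw [he] at hx
    have hH' : P.1 ∈ Hc := hH
    have hn : x = c.hg c.top (A.1 0 0) * c.xg c.top (A.1 0 1 / A.1 0 0) :=
      (c.pairs_normal hj hd hx).1 h10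
    rw [hP, hn] at hH'
    exact ⟨α, β, hH'⟩
  have hdia : ∀ z : F, z ≠ 0 → z ∈ L → ∃ α β : F, c.rr (D.neg m) a α β * c.hg c.top z ∈ Hc := by
    intro z hz hzL
    obtain ⟨α, β, h⟩ := hget (dia z) (fun i l => by
      rw [dia_coe hz]; fin_cases i <;> fin_cases l <;> simp [hzL, L.inv_mem hzL])
      (by simp [dia_coe hz])
    exact ⟨α, β, by simpa [dia_coe hz, c.xg_zero] using h⟩
  have hhgX : ∀ z : F, z ≠ 0 → ∀ s, c.hg c.top z * c.xg c.top s * (c.hg c.top z)⁻¹ =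
      c.xg c.top (z ^ 2 * s) := fun z hz s => by
    rw [c.hg_top_xg hj hz, mul_inv_cancel_right]
  by_cases hζ : ∃ ζ, φ ζ = ζ ∧ ζ ≠ 0 ∧ ζ ≠ 1
  · exfalso
    obtain ⟨ζ, hζ, hζ0, hζ1⟩ := hζ
    obtain ⟨α, β, hdm⟩ := hdia ζ hζ0 (hLs ζ (hupk0 ζ hζ))
    set d := c.rr (D.neg m) a α β * c.hg c.top ζ
    have hX := mul_mem (mul_mem hdm (hXmem 1 (map_one φ))) (inv_mem hdm)
    rw [show d * c.xg c.top 1 * d⁻¹ = c.rr (D.neg m) a α β *
      (c.hg c.top ζ * c.xg c.top 1 * (c.hg c.top ζ)⁻¹) * (c.rr (D.neg m) a α β)⁻¹ by simp only [d]; group,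
      hhgX ζ hζ0, mul_one, (hrr (ζ ^ 2) α β).2] at hX
    obtain ⟨h1, h2⟩ := hfact _ _ hX
    have hα : α = 0 := by
      by_contra hα
      refine hνn ?_
      have h3 : φ (ν * (ε * ζ ^ 2 * α)) = ν * (ε * ζ ^ 2 * α) := by
        rw [map_sub, map_pow, hζ, mul_neg, map_neg, sub_neg_eq_add, sub_neg_eq_add] at h2
        exact add_left_cancel h2
      have h4 : φ (ε * ζ ^ 2 * α) = ε * ζ ^ 2 * α := neg_injective (by rw [← map_neg]; exact h1)
      rw [map_mul φ ν, h4] at h3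
      exact mul_right_cancel₀
        (mul_ne_zero (mul_ne_zero (left_ne_zero_of_mul (hε.trans_ne one_ne_zero))
          (pow_ne_zero _ hζ0)) hα) h3
    have hZ := mul_mem (mul_mem hdm (hZmem 1 (map_one φ))) (inv_mem hdm)
    have hga : c.hg c.top ζ * c.xg a 1 * (c.hg c.top ζ)⁻¹ = c.xg a ζ := by
      have := c.hg_mul_xg hTl ha (Units.mk0 ζ hζ0) (1 : F)
      rw [hpair, zpow_one, mul_one, Units.val_mk0] at this
      rw [this, mul_inv_cancel_right]
    have hca : Commute (c.rr (D.neg m) a α β) (c.xg a ζ) := by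
      refine ((hc ζ α).symm.mul_left ?_)
      rw [Commute, SemiconjBy, ← c.xg_add, ← c.xg_add, add_comm]
    rw [mul_one, show d * (c.xg a 1 * c.xg c.top ν) * d⁻¹ = (c.rr (D.neg m) a α β *
      (c.hg c.top ζ * c.xg a 1 * (c.hg c.top ζ)⁻¹) * (c.rr (D.neg m) a α β)⁻¹) *
      (c.rr (D.neg m) a α β * (c.hg c.top ζ * c.xg c.top ν * (c.hg c.top ζ)⁻¹) *
        (c.rr (D.neg m) a α β)⁻¹) by simp only [d]; group, hga, hhgX ζ hζ0, hca.eq, mul_inv_cancel_right,
      (hrr _ α β).2, hα, mul_zero, neg_zero, c.xg_zero, one_mul] at hZ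
    obtain ⟨-, h5⟩ := hfact _ _ hZ
    refine hνn ?_
    rw [show ζ ^ 2 * ν - ν * ζ = ν * (ζ * (ζ - 1)) by ring, map_mul,
      map_mul φ ζ, map_sub, hζ, map_one] at h5
    exact mul_right_cancel₀ (mul_ne_zero hζ0 (sub_ne_zero.2 hζ1)) h5
  push Not at hζ
  have hsmall : ∀ z, φ z = z → z = 0 ∨ z = 1 := fun z hz =>
    or_iff_not_imp_left.2 fun h0 => hζ z hz h0
  have h2 : (2 : F) = 0 := by
    have h := hζ (-1) (by simp) (by simp)
    linear_combination -h
  have hcs : ∀ s ∈ L, ∃ b, (φ b = b) ∧ φ (s - ν * b) = s - ν * b := by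
    intro s hs
    obtain ⟨α, β, h⟩ := hget (up s) (fun i l => by
      rw [up_coe]; fin_cases i <;> fin_cases l <;> simp [hs]) (by simp [up_coe])
    simp only [up_coe, Matrix.of_apply, Matrix.cons_val', Matrix.cons_val_zero, Matrix.cons_val_one,
      Matrix.cons_val_fin_one, c.hg_top_one hj, one_mul, div_one] at h
    have hX := mul_mem (mul_mem h (hXmem 1 (map_one φ))) (inv_mem h)
    rw [show c.rr (D.neg m) a α β * c.xg c.top s * c.xg c.top 1 *
      (c.rr (D.neg m) a α β * c.xg c.top s)⁻¹ = c.rr (D.neg m) a α β *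
      (c.xg c.top s * c.xg c.top 1 * (c.xg c.top s)⁻¹) * (c.rr (D.neg m) a α β)⁻¹ by group,
      c.xg_inv, ← c.xg_add, ← c.xg_add, show s + 1 + -s = 1 by ring, (hrr _ α β).2] at hX
    obtain ⟨h1, h3⟩ := hfact _ _ hX
    have hα : α = 0 := by
      by_contra hα
      have h4 : φ (ε * 1 * α) = ε * 1 * α := neg_injective (by rw [← map_neg]; exact h1)
      have h5 : φ (ν * (ε * 1 * α)) = ν * (ε * 1 * α) := by
        rw [map_sub, map_one, mul_neg, map_neg, sub_neg_eq_add, sub_neg_eq_add] at h3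
        exact add_left_cancel h3
      rw [map_mul φ ν, h4] at h5
      exact hνn (mul_right_cancel₀ (mul_ne_zero (mul_ne_zero
        (left_ne_zero_of_mul (hε.trans_ne one_ne_zero)) one_ne_zero) hα) h5)
    rw [hα, rr, c.xg_zero, one_mul] at h
    exact ⟨β, hfact _ _ h⟩
  have hin : ∀ s ∈ L, s = 0 ∨ s = 1 ∨ s = ν ∨ s = ν + 1 := fun s hs => by
    obtain ⟨b, hb, hsb⟩ := hcs s hs
    rcases hsmall b hb with rfl | rfl
    · rcases hsmall _ hsb with h | h
      · exact Or.inl (by simpa using h)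
      · exact Or.inr (Or.inl (by simpa using h))
    · rcases hsmall _ hsb with h | h
      · exact Or.inr (Or.inr (Or.inl (by linear_combination h)))
      · exact Or.inr (Or.inr (Or.inr (by linear_combination h)))
  have hν1 : ν ≠ 1 := fun e => hνn (by rw [e, map_one])
  have hν0 : ν ≠ 0 := fun e => hνn (by rw [e, map_zero])
  have hq : ν ^ 2 + ν + 1 = 0 := by
    rcases hin (ν ^ 2) (pow_mem hνL 2) with h | h | h | h
    · exact absurd (pow_eq_zero_iff two_ne_zero |>.1 h) hν0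
    · exact absurd (by
        have : (ν - 1) ^ 2 = 0 := by linear_combination h + (1 - ν) * h2
        exact sub_eq_zero.1 (pow_eq_zero_iff two_ne_zero |>.1 this)) hν1
    · exact absurd ((mul_eq_left₀ hν0).1 (by rw [← sq]; exact h)) hν1
    · linear_combination h + (ν + 1) * h2
  have hνμ : ν = μ := by
    rcases mul_self_eq_one_iff.1 hσ with e | e <;> rw [hν, e]
    · rw [one_mul]
    · linear_combination -μ * h2
  have hk3 : k ^ 3 = 1 := by
    rcases hin k hkL with h | h | h | h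
    · exact absurd h hk
    · rw [h, one_pow]
    · rw [h]; linear_combination (ν - 1) * hq
    · rw [h]; linear_combination (ν + 2) * hq + (-1 : F) * h2
  obtain ⟨α, β, h⟩ := hdia ν hν0 hνL
  rw [hνμ] at hq h
  exact ⟨hq, hk3, h2, hsmall, α, β, h⟩

include p in
/-- A second pencil with coordinate in the subfield settles the exception. -/
theorem fixed_of_cross {m' a' : ℕ} (hp' : c.T.checkPencil j m' a' = true) (hne : m' ≠ m)
    (hx : c.T.checkCross m a a' = true)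
    (hμ' : φ (coord0 v (D.neg a')) = coord0 v (D.neg a')) :
    φ (coord0 v (D.neg a)) = coord0 v (D.neg a) := by
  obtain ⟨hm, ha, hg, hmS, -, e3, e4, -, -, hu, en, -⟩ := c.pencil_spec hj hp
  obtain ⟨hm2, ha2, -, hmS2, haS2, e32, e42, -, hpair, hu2, -, -⟩ := c.pencil_spec hj hp'
  rcases c.pencil_or hj hp p hO hv hk hy with h | ⟨-, -, h2, hsmall, -⟩
  · exact h
  by_contra hμ
  -- make the second coordinate vanish
  set t : F := coord0 v (D.neg a') with htdef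
  obtain ⟨E, hE, hEt⟩ := c.coord_xg_self hj hp' t (F := F)
  obtain ⟨hv', hy'⟩ := c.strip_mem hj hO hmS2 hμ' hv hy
  set v' := c.xg m' t * v with hv'def
  have hc1 : coord0 v' (D.neg a') = 0 := by
    rw [hv'def, c.coord_mul hj (c.xg_mem_rad hj hmS2 t) hv (c.neg_lt ha2) hu2, hEt]
    rcases mul_self_eq_one_iff.1 hE with e | e <;> rw [e]
    · linear_combination t * h2
    · ring
  have hc2 : coord0 v' (D.neg a) = coord0 v (D.neg a) := by
    rw [hv'def, c.coord_mul hj (c.xg_mem_rad hj hmS2 t) hv (c.neg_lt ha) hu,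
      c.coord_xg_other hj hp hmS2 hne t, zero_add]
  clear_value v'
  rcases c.pencil_or hj hp p hO hv' hk hy' with h | ⟨hq, -, -, -, α, β, hd⟩
  · rw [hc2] at h; exact hμ h
  set μ := coord0 v' (D.neg a)
  have hμ0 : μ ≠ 0 := fun e => by simp [e] at hq
  obtain ⟨σ, -, hrad⟩ := c.pencil_rad hj hp' (F := F)
  have hcom : ∀ u : F, v' * c.xg a' u * v'⁻¹ = c.xg a' u := fun u => by
    have h := hrad v' hv' u
    rw [hc1, mul_zero, zero_mul, c.xg_zero, mul_one] at h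
    calc v' * c.xg a' u * v'⁻¹ = v' * (v'⁻¹ * c.xg a' u * v') * v'⁻¹ := by rw [h]
      _ = _ := by group
  simp only [Tables.checkCross, Bool.and_eq_true, Bool.not_eq_true', List.isEmpty_iff, en] at hx
  obtain ⟨⟨⟨⟨⟨⟨-, n1⟩, n2⟩, n3⟩, n4⟩, z1⟩, z2⟩ := hx
  have hrr : Commute (c.rr (D.neg m) a α β) (c.xg a' μ) :=
    (c.commute_of_nil hg ha2 (ne_of_beq_false n3) (by rw [c.neg_neg hm]; exact ne_of_beq_false n4)
      z2 α μ).mul_left (c.commute_of_nil ha ha2 (ne_of_beq_false n1)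
        (by rw [c.neg_eq ha]; exact ne_of_beq_false n2) z1 β μ)
  have hga : c.hg c.top μ * c.xg a' 1 * (c.hg c.top μ)⁻¹ = c.xg a' μ := by
    have := c.hg_mul_xg (c.top_lt hj) ha2 (Units.mk0 μ hμ0) (1 : F)
    rw [hpair, zpow_one, mul_one, Units.val_mk0] at this
    rw [this, mul_inv_cancel_right]
  have hmem : c.xg a' μ ∈ H := by
    have h := mul_mem (mul_mem hd (show v' * c.xg a' 1 * v'⁻¹ ∈ H by
      rw [hcom]; exact hO.root a' ha2 1 (map_one φ))) (inv_mem hd)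
    convert h using 1
    rw [show ∀ (w d z : GL D.Idx F), w * d * w⁻¹ * (w * z * w⁻¹) * (w * d * w⁻¹)⁻¹ =
      w * (d * z * d⁻¹) * w⁻¹ from fun w d z => by group,
      show ∀ (r g z : GL D.Idx F), r * g * z * (r * g)⁻¹ = r * (g * z * g⁻¹) * r⁻¹
      from fun r g z => by group, hga, hrr.eq, mul_inv_cancel_right, hcom]
  obtain ⟨⟨εm, hεm, hm'⟩, -⟩ := c.pencil_conj hj hp' (F := F)
  have hx1 := hO.root m' hm2 1 (map_one φ)
  have h4 := mul_mem (inv_mem hmem) (mul_mem (mul_mem hx1 hmem) (inv_mem hx1))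
  rw [hm', inv_mul_cancel_left, mul_one] at h4
  have h6 := hO.long _ h4
  rw [map_mul, map_unit φ hεm] at h6
  refine hμ ?_
  rw [← hc2]
  exact mul_left_cancel₀ (left_ne_zero_of_mul (hεm.trans_ne one_ne_zero)) h6

end CertFull

end Cfsg.Agent.Lie.Chev
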