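import Cfsg.Agent.Lib.Lie.Chev.SubfieldOver
import Cfsg.Agent.Lib.Lie.Chev.CertsFull

/-! Subfield data of the simply laced types. -/

set_option autoImplicit false
set_option maxRecDepth 20000

namespace Cfsg.Agent.Lie.Chev

open Cfsg.Lie Matrix

namespace Tables

variable (T : Tables)

/-- Every coordinate of grade `-1` is that of a listed root. -/
def checkCovered (j : ℕ) (Ls : List (ℕ × ℕ × ℕ × ℕ × ℕ)) : Bool :=
  !(Ls.isEmpty) && (List.range T.n).all fun u => !(intBeq (T.vec u j) (-1)) ||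
    Ls.any fun x => Nat.beq u (T.neg x.2.1) || Nat.beq u (T.neg x.2.2.2.1)

end Tables

namespace CertFull

variable {D : ChevalleyDatum} (c : CertFull D) {F : Type*} [Field F]

include c

/-- Listed long pairs give the coordinates. -/
theorem covered_fixed (p : ℕ) [Fact p.Prime] [CharP F p] {j : ℕ}
    (hj : c.T.checkGrade j = true) {Ls : List (ℕ × ℕ × ℕ × ℕ × ℕ)}
    (hL : Ls.all (c.T.checkLong j) = true) {φ : F →+* F} {H : Subgroup (GL D.Idx F)}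
    (hO : Over c φ H) {v : GL D.Idx F} (hv : v ∈ c.rad F j) {k : F} (hk : k ≠ 0)
    (hy : v * c.xg 0 k * v⁻¹ ∈ H) {u : ℕ}
    (hu : ∃ x ∈ Ls, u = c.T.neg x.2.1 ∨ u = c.T.neg x.2.2.2.1) :
    φ (coord0 v u) = coord0 v u := by
  obtain ⟨⟨m, a, m', a', s⟩, hx, hux⟩ := hu
  have hck := List.all_eq_true.1 hL _ hx
  have hp := hck
  simp only [Tables.checkLong, Bool.and_eq_true] at hp
  obtain ⟨-, ha, -, -, -, -, -, -, -, -, -, e⟩ := c.pencil_spec hj hp.1.1.1.1.1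
  obtain ⟨-, ha', -, -, -, -, -, -, -, -, -, e'⟩ := c.pencil_spec hj hp.1.1.1.1.2
  have h := c.pair_fixed hj p hO hck hv hk hy
  rcases hux with rfl | rfl
  · rw [e]; exact h.1
  · rw [e']; exact h.2

end CertFull

/-- Data from listed long pairs covering all coordinates. -/
noncomputable def simplyData {D : ChevalleyDatum} {F : Type*} [Field F] (p : ℕ) [Fact p.Prime]
    [CharP F p] (c : CertFull D) {j : ℕ} {d : ReachData} {Ls : List (ℕ × ℕ × ℕ × ℕ × ℕ)}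
    (h : c.T.checkGrade j = true ∧ c.T.checkReach d = true ∧ Ls.all (c.T.checkLong j) = true ∧
      c.T.checkCovered j Ls = true ∧ c.T.checkCoord j = true) :
    SubfieldData c F :=
  match Ls, h with
  | [], h => absurd h.2.2.2.1 (by simp [Tables.checkCovered])
  | x :: rest, h =>
    have hp : c.T.checkPencil j x.1 x.2.1 = true := by
      have := h.2.2.1
      obtain ⟨m, a, m', a', s⟩ := x
      simp only [List.all_cons, Tables.checkLong, Bool.and_eq_true] at this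
      exact this.1.1.1.1.1.1
    have hd : c.T.checkDoublet x.2.1 (c.T.neg x.1)
        (if c.T.checkDoublet x.2.1 (c.T.neg x.1) 1 then 1 else -1) = true := by
      simp only [Tables.checkPencil, Bool.and_eq_true, Bool.or_eq_true] at hp
      rcases hp.2 with e | e
      · rw [if_pos e]; exact e
      · by_cases e' : c.T.checkDoublet x.2.1 (c.T.neg x.1) 1 = true
        · rw [if_pos e']; exact e'
        · rw [if_neg e']; exact e
    { j := j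
      grade := h.1
      reachData := d
      reach := h.2.1
      a := x.2.1
      g := c.T.neg x.1
      C := _
      doublet := hd
      rad := fun φ H hO v hv k hk hy => by
        have hL₀ := c.checkWord_spec (w := d.L₀) (x := 0) (by
          have := h.2.1
          simp only [Tables.checkReach, Bool.and_eq_true] at this
          exact this.1)
        have hcoord : ∀ v ∈ c.rad F j, ∀ k : F, k ≠ 0 → v * c.xg 0 k * v⁻¹ ∈ H →
            ∀ u, u < D.nroots → c.T.vec u j = -1 → φ (coord0 v u) = coord0 v u := by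
          intro v hv k hk hy u hu hgu
          refine c.covered_fixed p h.1 h.2.2.1 hO hv hk hy ?_
          have hc := h.2.2.2.1
          simp only [Tables.checkCovered, Bool.and_eq_true, List.all_eq_true, List.mem_range,
            Bool.or_eq_true, List.any_eq_true, Nat.beq_eq, Bool.not_eq_true'] at hc
          exact (hc.2 u (c.nroots_eq ▸ hu)).resolve_left (by rw [hgu, intBeq_self]; simp)
        exact c.rad_fixed h.1 hO hL₀ h.2.2.2.2 hcoord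
          (fun e k hk hy => c.top_fixed h.1 hO hp h.2.2.2.2 hcoord hk hy) hv hk hy }

/-- The data for `D4`. -/
def reachD4 : ReachData where
  L₀ := [1, 2, 0, 1, 3, 1, 2, 0, 1]
  roots := [([1, 3, 2, 1], none),([3, 2, 0, 1], none),([1, 3, 0, 1], none),([1, 2, 0, 1], none)]
  gens := [([1, 3, 2, 1], none),([3, 2, 0, 1], none),([1, 3, 0, 1], none),([1, 2, 0, 1], none)]

/-- The pairs of long roots for `D4`. -/
def longD4 : List (ℕ × ℕ × ℕ × ℕ × ℕ) := [(14, 22, 15, 21, 12), (16, 20, 17, 19, 12), (19, 17, 20, 16, 12), (21, 15, 22, 14, 12)]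

theorem subfieldD4_ok : certFullD4.T.checkGrade 1 = true ∧ certFullD4.T.checkReach reachD4 = true ∧
    longD4.all (certFullD4.T.checkLong 1) = true ∧
    certFullD4.T.checkCovered 1 longD4 = true ∧ certFullD4.T.checkCoord 1 = true := by
  decide +kernel

/-- Subfield data for `D4`. -/
noncomputable def subfieldDataD4 {K : Type*} [Field K] (p : ℕ) [Fact p.Prime] [CharP K p] :
    SubfieldData certFullD4 K :=
  simplyData p certFullD4 subfieldD4_ok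

/-- The data for `E6`. -/
def reachE6 : ReachData where
  L₀ := [1, 3, 4, 2, 3, 0, 2, 1, 3, 4, 5, 4, 3, 2, 1, 3, 4, 0, 2, 3, 1]
  roots := [([2, 3, 4, 5, 1, 3, 4, 2, 3, 1], none),([3, 4, 5, 2, 3, 4, 0, 2, 3, 1], none),([3, 4, 5, 1, 3, 4, 0, 2, 3, 1], none),([4, 5, 2, 1, 3, 4, 0, 2, 3, 1], none),([5, 3, 2, 1, 3, 4, 0, 2, 3, 1], none),([4, 3, 2, 1, 3, 4, 0, 2, 3, 1], none)]
  gens := [([2, 3, 4, 5, 1, 3, 4, 2, 3, 1], none),([3, 4, 5, 2, 3, 4, 0, 2, 3, 1], none),([3, 4, 5, 1, 3, 4, 0, 2, 3, 1], none),([4, 5, 2, 1, 3, 4, 0, 2, 3, 1], none),([5, 3, 2, 1, 3, 4, 0, 2, 3, 1], none),([4, 3, 2, 1, 3, 4, 0, 2, 3, 1], none)]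

/-- The pairs of long roots for `E6`. -/
def longE6 : List (ℕ × ℕ × ℕ × ℕ × ℕ) := [(46, 70, 47, 69, 39), (48, 68, 49, 67, 36), (50, 66, 51, 65, 37), (52, 64, 54, 62, 39), (53, 63, 55, 61, 38), (61, 55, 62, 54, 37), (63, 53, 65, 51, 39), (64, 52, 66, 50, 38), (67, 49, 68, 48, 36), (69, 47, 70, 46, 39)]

theorem subfieldE6_ok : certFullE6.T.checkGrade 1 = true ∧ certFullE6.T.checkReach reachE6 = true ∧
    longE6.all (certFullE6.T.checkLong 1) = true ∧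
    certFullE6.T.checkCovered 1 longE6 = true ∧ certFullE6.T.checkCoord 1 = true := by
  decide +kernel

/-- Subfield data for `E6`. -/
noncomputable def subfieldDataE6 {K : Type*} [Field K] (p : ℕ) [Fact p.Prime] [CharP K p] :
    SubfieldData certFullE6 K :=
  simplyData p certFullE6 subfieldE6_ok

/-- The data for `E7`. -/
def reachE7 : ReachData where
  L₀ := [0, 2, 3, 4, 5, 1, 3, 4, 2, 3, 0, 2, 1, 3, 4, 5, 6, 5, 4, 3, 2, 1, 3, 4, 5, 0, 2, 3, 4, 1, 3, 2, 0]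
  roots := [([2, 3, 4, 5, 6, 1, 3, 4, 5, 2, 3, 4, 1, 3, 2, 0], none),([3, 4, 5, 6, 2, 3, 4, 5, 0, 2, 3, 4, 1, 3, 2, 0], none),([3, 4, 5, 6, 1, 3, 4, 5, 0, 2, 3, 4, 1, 3, 2, 0], none),([4, 5, 6, 2, 1, 3, 4, 5, 0, 2, 3, 4, 1, 3, 2, 0], none),([5, 6, 3, 2, 1, 3, 4, 5, 0, 2, 3, 4, 1, 3, 2, 0], none),([6, 4, 3, 2, 1, 3, 4, 5, 0, 2, 3, 4, 1, 3, 2, 0], none),([5, 4, 3, 2, 1, 3, 4, 5, 0, 2, 3, 4, 1, 3, 2, 0], none)]
  gens := [([2, 3, 4, 5, 6, 1, 3, 4, 5, 2, 3, 4, 1, 3, 2, 0], none),([3, 4, 5, 6, 2, 3, 4, 5, 0, 2, 3, 4, 1, 3, 2, 0], none),([3, 4, 5, 6, 1, 3, 4, 5, 0, 2, 3, 4, 1, 3, 2, 0], none),([4, 5, 6, 2, 1, 3, 4, 5, 0, 2, 3, 4, 1, 3, 2, 0], none),([5, 6, 3, 2, 1, 3, 4, 5, 0, 2, 3, 4, 1, 3, 2, 0], none),([6, 4, 3, 2, 1, 3, 4, 5, 0, 2, 3, 4, 1, 3, 2, 0], none),([5, 4, 3, 2, 1, 3, 4, 5, 0, 2, 3, 4, 1, 3, 2, 0], none)]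

/-- The pairs of long roots for `E7`. -/
def longE7 : List (ℕ × ℕ × ℕ × ℕ × ℕ) := [(93, 124, 94, 123, 73), (95, 122, 96, 121, 66), (97, 120, 98, 119, 63), (99, 118, 100, 117, 66), (101, 116, 102, 115, 63), (103, 114, 104, 113, 64), (105, 112, 107, 110, 66), (106, 111, 108, 109, 65), (109, 108, 110, 107, 64), (111, 106, 113, 104, 66), (112, 105, 114, 103, 65), (115, 102, 116, 101, 63), (117, 100, 118, 99, 66), (119, 98, 120, 97, 63), (121, 96, 122, 95, 66), (123, 94, 124, 93, 73)]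

theorem subfieldE7_ok : certFullE7.T.checkGrade 0 = true ∧ certFullE7.T.checkReach reachE7 = true ∧
    longE7.all (certFullE7.T.checkLong 0) = true ∧
    certFullE7.T.checkCovered 0 longE7 = true ∧ certFullE7.T.checkCoord 0 = true := by
  decide +kernel

/-- Subfield data for `E7`. -/
noncomputable def subfieldDataE7 {K : Type*} [Field K] (p : ℕ) [Fact p.Prime] [CharP K p] :
    SubfieldData certFullE7 K :=
  simplyData p certFullE7 subfieldE7_ok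

/-- The data for `E8`. -/
def reachE8 : ReachData where
  L₀ := [7, 6, 5, 4, 3, 2, 1, 3, 4, 5, 6, 0, 2, 3, 4, 5, 1, 3, 4, 2, 3, 0, 2, 1, 3, 4, 5, 6, 7, 6, 5, 4, 3, 2, 1, 3, 4, 5, 6, 0, 2, 3, 4, 5, 1, 3, 4, 2, 3, 0, 2, 1, 3, 4, 5, 6, 7]
  roots := [([2, 3, 4, 5, 6, 7, 1, 3, 4, 5, 6, 2, 3, 4, 5, 1, 3, 4, 2, 3, 0, 2, 1, 3, 4, 5, 6, 7], none),([3, 4, 5, 6, 7, 2, 3, 4, 5, 6, 0, 2, 3, 4, 5, 1, 3, 4, 2, 3, 0, 2, 1, 3, 4, 5, 6, 7], none),([3, 4, 5, 6, 7, 1, 3, 4, 5, 6, 0, 2, 3, 4, 5, 1, 3, 4, 2, 3, 0, 2, 1, 3, 4, 5, 6, 7], none),([4, 5, 6, 7, 2, 1, 3, 4, 5, 6, 0, 2, 3, 4, 5, 1, 3, 4, 2, 3, 0, 2, 1, 3, 4, 5, 6, 7], none),([5, 6, 7, 3, 2, 1, 3, 4, 5, 6, 0, 2, 3, 4, 5, 1, 3, 4, 2, 3, 0, 2, 1, 3, 4, 5, 6, 7], none),([6, 7, 4, 3, 2, 1, 3, 4, 5, 6, 0, 2, 3, 4, 5, 1, 3, 4, 2, 3, 0, 2, 1, 3, 4, 5, 6, 7], none),([7, 5, 4, 3, 2, 1, 3, 4, 5, 6, 0, 2, 3, 4, 5, 1, 3, 4, 2, 3, 0, 2, 1, 3, 4, 5, 6, 7],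 none),([6, 5, 4, 3, 2, 1, 3, 4, 5, 6, 0, 2, 3, 4, 5, 1, 3, 4, 2, 3, 0, 2, 1, 3, 4, 5, 6, 7], none)]
  gens := [([2, 3, 4, 5, 6, 7, 1, 3, 4, 5, 6, 2, 3, 4, 5, 1, 3, 4, 2, 3, 0, 2, 1, 3, 4, 5, 6, 7], none),([3, 4, 5, 6, 7, 2, 3, 4, 5, 6, 0, 2, 3, 4, 5, 1, 3, 4, 2, 3, 0, 2, 1, 3, 4, 5, 6, 7], none),([3, 4, 5, 6, 7, 1, 3, 4, 5, 6, 0, 2, 3, 4, 5, 1, 3, 4, 2, 3, 0, 2, 1, 3, 4, 5, 6, 7], none),([4, 5, 6, 7, 2, 1, 3, 4, 5, 6, 0, 2, 3, 4, 5, 1, 3, 4, 2, 3, 0, 2, 1, 3, 4, 5, 6, 7], none),([5, 6, 7, 3, 2, 1, 3, 4, 5, 6, 0, 2, 3, 4, 5, 1, 3, 4, 2, 3, 0, 2, 1, 3, 4, 5, 6, 7], none),([6, 7, 4, 3, 2, 1, 3, 4, 5, 6, 0, 2, 3, 4, 5, 1, 3, 4, 2, 3, 0, 2, 1, 3, 4, 5, 6, 7], none),([7, 5, 4, 3, 2, 1, 3, 4, 5, 6, 0, 2, 3, 4, 5, 1, 3, 4, 2, 3, 0, 2, 1, 3, 4, 5, 6, 7], none),([6, 5, 4, 3, 2, 1, 3, 4, 5, 6, 0, 2, 3, 4, 5, 1, 3, 4, 2, 3, 0, 2, 1, 3, 4, 5, 6, 7], none)]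

/-- The pairs of long roots for `E8`. -/
def longE8 : List (ℕ × ℕ × ℕ × ℕ × ℕ) := [(120, 238, 122, 237, 121), (125, 236, 129, 235, 126), (134, 234, 140, 233, 135), (146, 232, 151, 231, 135), (155, 230, 158, 229, 126), (160, 228, 161, 227, 121), (168, 225, 173, 224, 141), (177, 223, 180, 222, 126), (182, 221, 183, 220, 121), (187, 218, 190, 217, 126), (192, 216, 193, 215, 121), (196, 213, 198, 212, 123), (199, 211, 202, 208, 126), (201, 209, 203, 206, 124), (206, 203, 208, 202, 123), (209, 201, 212, 198, 126), (211, 199, 213, 196, 124), (215, 193, 216, 192, 121), (217, 190, 218, 187, 126), (220, 183, 221, 182, 121), (222, 180, 223, 177, 126), (224, 173, 225, 168, 141), (227, 161, 228, 160, 121), (229, 158, 230, 155, 126), (231, 151, 232, 146, 135), (233, 140, 234, 134, 135), (235, 129, 236, 125, 126), (237, 122, 238, 120, 121)]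

theorem subfieldE8_ok : certFullE8.T.checkGrade 7 = true ∧ certFullE8.T.checkReach reachE8 = true ∧
    longE8.all (certFullE8.T.checkLong 7) = true ∧
    certFullE8.T.checkCovered 7 longE8 = true ∧ certFullE8.T.checkCoord 7 = true := by
  decide +kernel

/-- Subfield data for `E8`. -/
noncomputable def subfieldDataE8 {K : Type*} [Field K] (p : ℕ) [Fact p.Prime] [CharP K p] :
    SubfieldData certFullE8 K :=
  simplyData p certFullE8 subfieldE8_ok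

end Cfsg.Agent.Lie.Chev
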