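import Cfsg.Agent.Lib.Lie.Chev.SubfieldOver
import Cfsg.Agent.Lib.Lie.Chev.CertsFull

/-! Conjugation by root and monomial elements, for the subfield data of the types of rank two. -/

set_option autoImplicit false

namespace Cfsg.Agent.Lie.Chev

open Cfsg.Lie Matrix

namespace Tables

variable (T : Tables)

/-- `r` normalises the group of the roots in `S`. -/
def checkNorm (r : ℕ) (S : List ℕ) : Bool :=
  Nat.blt r T.n && S.all fun s => Nat.blt s T.n &&
    (Nat.beq s r || (!(Nat.beq s (T.neg r)) &&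
      (T.commTerms r s).all fun x => S.any (Nat.beq x.1)))

/-- A word fixing the lowest root and keeping positive grades positive. -/
def checkSwap (j : ℕ) (L : List ℕ) : Bool :=
  L.all (fun p => Nat.blt p T.l) && Nat.beq (T.wlT L 0) 0 &&
    (List.range T.n).all fun r => !(decide (0 < T.vec r j)) || decide (0 < T.vec (T.wlT L r) j)

end Tables

namespace CertFull

variable {D : ChevalleyDatum} (c : CertFull D) {F : Type*} [Field F]

include c

/-- Conjugation of a root element with all terms. -/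
theorem conj_terms {r s : ℕ} (hr : r < D.nroots) (hs : s < D.nroots) (h1 : s ≠ r)
    (h2 : s ≠ c.T.neg r) (t u : F) :
    c.xg r t * c.xg s u * (c.xg r t)⁻¹ = c.xg s u * ((c.T.commTerms r s).map fun x =>
      c.xg x.1 ((x.2.1 : F) * t ^ x.2.2.1 * u ^ x.2.2.2)).prod := by
  have e := c.xg_comm hr hs h1 (by rwa [c.neg_eq hr]) (-t) u
  simp only [neg_neg] at e
  rw [c.xg_inv, mul_assoc, e, ← mul_assoc, ← mul_assoc, ← c.xg_add, add_neg_cancel, c.xg_zero,
    one_mul]

/-- The group of the roots in a list. -/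
def rootsGroup (F : Type*) [Field F] (S : List ℕ) : Subgroup (GL D.Idx F) :=
  Subgroup.closure {g | ∃ s ∈ S, ∃ t : F, g = c.xg s t}

theorem xg_rootsGroup {S : List ℕ} {s : ℕ} (hs : s ∈ S) (t : F) :
    c.xg s t ∈ c.rootsGroup F S :=
  Subgroup.subset_closure ⟨s, hs, t, rfl⟩

theorem norm_rootsGroup {r : ℕ} {S : List ℕ} (h : c.T.checkNorm r S = true) (t : F)
    {g : GL D.Idx F} (hg : g ∈ c.rootsGroup F S) :
    c.xg r t * g * (c.xg r t)⁻¹ ∈ c.rootsGroup F S := by
  simp only [Tables.checkNorm, Bool.and_eq_true, Bool.or_eq_true, Bool.not_eq_true',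
    List.all_eq_true, List.any_eq_true, Nat.blt_eq, Nat.beq_eq] at h
  obtain ⟨hr, hS⟩ := h
  rw [← c.nroots_eq] at hr
  refine conj_closure_mem ?_ hg
  rintro g ⟨s, hs, u, rfl⟩
  obtain ⟨hsn, hcase⟩ := hS s hs
  rcases hcase with rfl | ⟨hneg, hterms⟩
  · rw [← c.xg_add, c.xg_inv, ← c.xg_add]
    exact c.xg_rootsGroup hs _
  by_cases hsr : s = r
  · subst hsr
    rw [← c.xg_add, c.xg_inv, ← c.xg_add]
    exact c.xg_rootsGroup hs _
  rw [c.conj_terms hr (c.nroots_eq ▸ hsn) hsr (ne_of_beq_false hneg)]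
  refine mul_mem (c.xg_rootsGroup hs u) (Subgroup.list_prod_mem _ fun k hk => ?_)
  obtain ⟨x, hx, rfl⟩ := List.mem_map.1 hk
  obtain ⟨y, hy, e⟩ := hterms x hx
  exact c.xg_rootsGroup ((show x.1 = y from e) ▸ hy) _

theorem hg_rootsGroup {r : ℕ} (hr : r < D.nroots) {S : List ℕ} (hS : ∀ s ∈ S, s < D.nroots)
    {z : F} (hz : z ≠ 0) {g : GL D.Idx F} (hg : g ∈ c.rootsGroup F S) :
    c.hg r z * g * (c.hg r z)⁻¹ ∈ c.rootsGroup F S := by
  refine conj_closure_mem ?_ hg
  rintro g ⟨s, hs, u, rfl⟩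
  have e := c.hg_mul_xg hr (hS s hs) (Units.mk0 z hz) u
  rw [Units.val_mk0] at e
  rw [e, mul_inv_cancel_right]
  exact c.xg_rootsGroup hs _

/-- Conjugation of a torus element on a root element. -/
theorem hg_conj {r s : ℕ} (hr : r < D.nroots) (hs : s < D.nroots) {z : F} (hz : z ≠ 0) (u : F) :
    c.hg r z * c.xg s u * (c.hg r z)⁻¹ =
      c.xg s ((((Units.mk0 z hz) ^ c.T.pairing r s : Fˣ) : F) * u) := by
  have e := c.hg_mul_xg hr hs (Units.mk0 z hz) u
  rw [Units.val_mk0] at e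
  rw [e, mul_inv_cancel_right]

variable {j : ℕ} (hj : c.T.checkGrade j = true)

include hj

/-- A monomial element moves a radical conjugate to another one. -/
theorem swap_frame {L : List ℕ} (hL : c.T.checkSwap j L = true) {φ : F →+* F}
    {H : Subgroup (GL D.Idx F)} (hO : Over c φ H) {v : GL D.Idx F} (hv : v ∈ c.rad F j) {k : F}
    (hk : k ≠ 0) (hy : v * c.xg 0 k * v⁻¹ ∈ H) :
    ∃ v' ∈ c.rad F j, ∃ k' : F, k' ≠ 0 ∧ v' * c.xg 0 k' * v'⁻¹ ∈ H ∧
      ∀ u, u < D.nroots → φ (coord0 v' (c.T.wlT L u)) = coord0 v' (c.T.wlT L u) →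
        φ (coord0 v u) = coord0 v u := by
  simp only [Tables.checkSwap, Bool.and_eq_true, Bool.or_eq_true, Bool.not_eq_true',
    List.all_eq_true, List.mem_range, Nat.blt_eq, Nat.beq_eq, decide_eq_true_eq,
    decide_eq_false_iff_not, not_lt] at hL
  obtain ⟨⟨hLl, h0⟩, hgrade⟩ := hL
  have hlt : ∀ p ∈ L, p < D.rank := fun p hp => c.rank_eq ▸ hLl p hp
  rw [c.wlT_eq] at h0
  have hz := c.zero_lt hj
  set n := c.nw F L
  have hn : n ∈ H := by
    have hle : fixedRootGroup D φ ≤ H := (Subgroup.closure_le _).2 fun g ⟨s, t, ht, hg⟩ => by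
      obtain rfl := c.eq_xg_iff.1 hg
      by_cases hs : s < D.nroots
      · exact hO.root s hs t ht
      · have e : c.xg s t = 1 := Units.ext (by simp [ChevalleyDatum.x, hs])
        rw [e]; exact one_mem _
    exact hle (c.nw_mem_fixed φ L)
  set σ : F := (c.wsign L 0 : F)
  have hσ : σ * σ = 1 := c.wsign_sq _ _
  have hv' : n * v * n⁻¹ ∈ c.rad F j := by
    refine (Subgroup.map_le_iff_le_comap.2 ?_) (Subgroup.mem_map_of_mem
      (MulAut.conj n).toMonoidHom hv)
    refine (Subgroup.closure_le _).2 ?_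
    rintro g ⟨r, t, hr, -, rfl⟩
    show n * c.xg r t * n⁻¹ ∈ c.rad F j
    rw [c.nw_mul_xg hlt hr.1, mul_inv_cancel_right]
    refine c.xg_mem_rad hj ⟨c.wl_lt hlt hr.1, ?_⟩ _
    rw [← c.wlT_eq]
    exact (hgrade r (c.nroots_eq ▸ hr.1)).resolve_left (by have := hr.2; omega)
  refine ⟨n * v * n⁻¹, hv', σ * k, mul_ne_zero (left_ne_zero_of_mul (hσ.trans_ne one_ne_zero)) hk,
    ?_, fun u hu h => ?_⟩
  · have e : c.xg 0 (σ * k) = n * c.xg 0 k * n⁻¹ := by
      rw [c.nw_mul_xg hlt hz, mul_inv_cancel_right, h0]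
    rw [e, show n * v * n⁻¹ * (n * c.xg 0 k * n⁻¹) * (n * v * n⁻¹)⁻¹ =
      n * (v * c.xg 0 k * v⁻¹) * n⁻¹ by group]
    exact mul_mem (mul_mem hn hy) (inv_mem hn)
  · have e1 : ((n⁻¹ : GL D.Idx F) : Matrix D.Idx D.Idx F) *ᵥ evec D F 0 = σ • evec D F 0 := by
      have e := c.nw_evec (F := F) hlt hz
      rw [h0] at e
      have e2 := congrArg (fun z => ((n⁻¹ : GL D.Idx F) : Matrix D.Idx D.Idx F) *ᵥ z) e
      simp only [Matrix.mulVec_mulVec, ← Units.val_mul, n, inv_mul_cancel, Units.val_one,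
        Matrix.one_mulVec, Matrix.mulVec_smul] at e2
      conv_rhs => rw [e2, smul_smul, hσ, one_smul]
    have e : coord0 (n * v * n⁻¹) (c.T.wlT L u) = (c.wsign L u : F) * σ * coord0 v u := by
      have hwu : c.T.wlT L u < D.nroots := by rw [c.wlT_eq]; exact c.wl_lt hlt hu
      rw [coord0, dif_pos hwu, coord0, dif_pos hu, Units.val_mul, ← Matrix.mulVec_mulVec, e1,
        Units.val_mul, ← Matrix.mulVec_mulVec, Matrix.mulVec_smul, Matrix.mulVec_smul,
        Pi.smul_apply, show (⟨c.T.wlT L u, hwu⟩ : Fin D.nroots) = ⟨c.wl L u, c.wl_lt hlt hu⟩ from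
          Fin.ext (c.wlT_eq L u), c.nw_coord hlt hu]
      simp only [smul_eq_mul]
      ring
    rw [e, map_mul, map_mul, map_intCast, map_intCast] at h
    refine mul_left_cancel₀ (mul_ne_zero (c.wsign_ne_zero (F := F) L u) ?_) h
    exact left_ne_zero_of_mul (hσ.trans_ne one_ne_zero)

end CertFull

end Cfsg.Agent.Lie.Chev
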