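import Cfsg.Agent.Lib.Lie.Chev.Full
import Cfsg.Prelude.Def_ChevAutomorphisms

/-! Root elements as group elements, the torus, and diagonal matrices of characters. -/

set_option autoImplicit false

namespace Cfsg.Agent.Lie.Chev

open Cfsg.Lie Matrix

section Diag

variable (D : ChevalleyDatum) (F : Type*) [Field F]

theorem charDiag_mul (χ ψ : ℕ → Fˣ) :
    D.charDiag F χ * D.charDiag F ψ = D.charDiag F (χ * ψ) := by
  rw [ChevalleyDatum.charDiag, ChevalleyDatum.charDiag, ChevalleyDatum.charDiag,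
    Matrix.diagonal_mul_diagonal]
  congr 1
  funext j
  rcases j with j | s <;> simp

theorem charDiag_one : D.charDiag F (1 : ℕ → Fˣ) = 1 := by
  rw [ChevalleyDatum.charDiag, ← Matrix.diagonal_one]
  congr 1
  funext j
  rcases j with j | s <;> simp

/-- The diagonal element of a function on roots. -/
def dg : (ℕ → Fˣ) →* GL D.Idx F where
  toFun χ := ⟨D.charDiag F χ, D.charDiag F χ⁻¹,
    by rw [charDiag_mul, mul_inv_cancel, charDiag_one],
    by rw [charDiag_mul, inv_mul_cancel, charDiag_one]⟩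
  map_one' := Units.ext (charDiag_one D F)
  map_mul' χ ψ := Units.ext (charDiag_mul D F χ ψ).symm

@[simp] theorem dg_val (χ : ℕ → Fˣ) :
    ((dg D F χ : GL D.Idx F) : Matrix D.Idx D.Idx F) = D.charDiag F χ := rfl

theorem charDiag_hvec (χ : ℕ → Fˣ) (i : ℕ) : D.charDiag F χ *ᵥ hvec D F i = hvec D F i := by
  funext j
  rw [ChevalleyDatum.charDiag, Matrix.mulVec_diagonal]
  rcases j with j | s <;> simp [hvec]

theorem charDiag_evec (χ : ℕ → Fˣ) (u : ℕ) :
    D.charDiag F χ *ᵥ evec D F u = (χ u : F) • evec D F u := by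
  funext j
  rw [ChevalleyDatum.charDiag, Matrix.mulVec_diagonal]
  rcases j with j | s
  · simp [evec]
  · by_cases h : (s : ℕ) = u <;> simp [evec, h]

theorem dg_ext {χ ψ : ℕ → Fˣ} (h : ∀ s < D.nroots, χ s = ψ s) : dg D F χ = dg D F ψ := by
  refine Units.ext (mat_ext D F (fun i _ => ?_) (fun s hs => ?_))
  · simp [charDiag_hvec]
  · simp [charDiag_evec, h s hs]

theorem dg_eq_iff {χ ψ : ℕ → Fˣ} :
    dg D F χ = dg D F ψ ↔ ∀ s < D.nroots, χ s = ψ s := by
  refine ⟨fun h s hs => ?_, dg_ext D F⟩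
  have := congrArg (fun g : GL D.Idx F => (g : Matrix D.Idx D.Idx F) (Sum.inr ⟨s, hs⟩)
    (Sum.inr ⟨s, hs⟩)) h
  simpa [ChevalleyDatum.charDiag, Units.val_inj] using this

end Diag

namespace Cert

variable {D : ChevalleyDatum} (c : Cert D) {F : Type*} [Field F]
include c

theorem x_mul_x_neg' (r : ℕ) (t : F) : D.x F r t * D.x F r (-t) = 1 := by
  by_cases hr : r < D.nroots
  · exact c.x_mul_x_neg hr t
  · simp [ChevalleyDatum.x, hr]

/-- The root element as a group element. -/
def xg (r : ℕ) (t : F) : GL D.Idx F :=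
  ⟨D.x F r t, D.x F r (-t), c.x_mul_x_neg' r t,
    by simpa using c.x_mul_x_neg' r (-t)⟩

@[simp] theorem xg_val (r : ℕ) (t : F) :
    ((c.xg r t : GL D.Idx F) : Matrix D.Idx D.Idx F) = D.x F r t := rfl

theorem xg_inv (r : ℕ) (t : F) : (c.xg r t)⁻¹ = c.xg r (-t) := Units.ext rfl

theorem eq_xg_iff {r : ℕ} {t : F} {g : GL D.Idx F} :
    (g : Matrix D.Idx D.Idx F) = D.x F r t ↔ g = c.xg r t := by
  rw [Units.ext_iff, xg_val]

theorem xg_add (r : ℕ) (t u : F) : c.xg r (t + u) = c.xg r t * c.xg r u := by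
  refine Units.ext ?_
  simp only [Units.val_mul, xg_val]
  by_cases hr : r < D.nroots
  · exact (c.x_add hr t u).symm
  · simp [ChevalleyDatum.x, hr]

theorem xg_zero (r : ℕ) : c.xg r (0 : F) = 1 := by
  refine Units.ext ?_
  by_cases hr : r < D.nroots
  · simp [c.x_zero hr]
  · simp [ChevalleyDatum.x, hr]

theorem xg_eq_one_iff {r : ℕ} (hr : r < D.nroots) (t : F) : c.xg r t = 1 ↔ t = 0 := by
  rw [Units.ext_iff, xg_val, Units.val_one, c.x_eq_one_iff hr]

theorem xg_inj {r : ℕ} (hr : r < D.nroots) {t u : F} (h : c.xg r t = c.xg r u) : t = u := by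
  have : c.xg r (t - u) = 1 := by
    rw [sub_eq_add_neg, c.xg_add, ← c.xg_inv, h, mul_inv_cancel]
  rw [c.xg_eq_one_iff hr, sub_eq_zero] at this
  exact this

theorem xg_mem_group {r : ℕ} (hr : r < D.nroots) (t : F) : c.xg r t ∈ D.group F :=
  Subgroup.subset_closure ⟨⟨r, hr⟩, t, c.x_eq r hr t⟩

theorem group_eq : D.group F = Subgroup.closure {g | ∃ r < D.nroots, ∃ t : F, g = c.xg r t} := by
  unfold ChevalleyDatum.group
  congr 1
  ext g
  constructor
  · rintro ⟨r, t, h⟩
    exact ⟨r, r.isLt, t, c.eq_xg_iff.1 (h.trans (c.x_eq r r.isLt t).symm)⟩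
  · rintro ⟨r, hr, t, rfl⟩
    exact ⟨⟨r, hr⟩, t, c.x_eq r hr t⟩

theorem xg_comm {r s : ℕ} (hr : r < D.nroots) (hs : s < D.nroots) (h1 : s ≠ r)
    (h2 : s ≠ D.neg r) (t u : F) :
    c.xg s u * c.xg r t = c.xg r t * c.xg s u *
      ((c.T.commTerms r s).map fun x =>
        c.xg x.1 ((x.2.1 : F) * (-t) ^ x.2.2.1 * u ^ x.2.2.2)).prod := by
  refine Units.ext ?_
  simp only [Units.val_mul, xg_val]
  rw [c.commHolds hr hs h1 h2 t u, Cert.commProd, ← Units.coeHom_apply (List.prod _),
    map_list_prod, List.map_map]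
  rfl

/-- The element `n_r(t)`. -/
def ng (r : ℕ) (t : F) : GL D.Idx F := c.xg r t * c.xg (D.neg r) (-t⁻¹) * c.xg r t

/-- The element `h_r(t)`. -/
def hg (r : ℕ) (t : F) : GL D.Idx F := c.ng r t * c.ng r (-1)

@[simp] theorem ng_val (r : ℕ) (t : F) :
    ((c.ng r t : GL D.Idx F) : Matrix D.Idx D.Idx F) = D.nMat F r t := by
  rw [wordMat_nWord, ← mul_assoc]; rfl

@[simp] theorem hg_val (r : ℕ) (t : F) :
    ((c.hg r t : GL D.Idx F) : Matrix D.Idx D.Idx F) = D.hMat F r t := by
  rw [hg, Units.val_mul, ng_val, ng_val]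
  simp [ChevalleyDatum.nMat, ChevalleyDatum.hMat, ChevalleyDatum.wordMat, ChevalleyDatum.hWord]

theorem ng_inv (r : ℕ) (t : F) : (c.ng r t)⁻¹ = c.ng r (-t) := by
  simp only [ng,  _root_.mul_inv_rev, c.xg_inv, inv_neg, mul_assoc]

theorem ng_conj {p s : ℕ} (hp : p < D.rank) (hs : s < D.nroots) (t : F) :
    c.ng (D.simple p) 1 * c.xg s t =
      c.xg (c.w p s) ((c.T.eta p s : F) * t) * c.ng (D.simple p) 1 := by
  refine Units.ext ?_
  simp only [Units.val_mul, ng_val, xg_val]
  exact c.n_mul_x hp hs t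

theorem ng_dg {p : ℕ} (hp : p < D.rank) (χ : ℕ → Fˣ) :
    c.ng (D.simple p) 1 * dg D F χ = dg D F (fun u => χ (c.w p u)) * c.ng (D.simple p) 1 := by
  refine Units.ext (mat_ext D F (fun i hi => ?_) (fun s hs => ?_))
  · simp only [Units.val_mul, ng_val, dg_val, ← Matrix.mulVec_mulVec, charDiag_hvec,
      c.n_hvec hp hi, Matrix.mulVec_sub, Matrix.mulVec_smul]
  · simp only [Units.val_mul, ng_val, dg_val, ← Matrix.mulVec_mulVec, charDiag_evec,
      Matrix.mulVec_smul, c.n_evec hp hs, c.w_w hp hs, smul_smul, mul_comm]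

/-! ### Characters -/

theorem cartan_neg {i s : ℕ} (hi : i < D.rank) (hs : s < D.nroots) :
    c.T.cartan i (D.neg s) = - c.T.cartan i s := by
  have hn := c.neg_lt hs
  have h := (c.linear_root hs).2.1
  have := c.cartan_of_vec hn hs hs (c.vec_of_code (k := -2) hn hs hs (by omega) (fun j _ => by
    have := c.T.vec_bound (D.neg s) j
    have := c.T.vec_bound s j
    rw [abs_lt]; omega)) hi
  omega

/-- The character `u ↦ ∏ z_i ^ A(i, u)`. -/
def tchar (z : ℕ → Fˣ) (u : ℕ) : Fˣ := ∏ i ∈ Finset.range D.rank, z i ^ c.T.cartan i u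

/-- The torus. -/
def torus : (ℕ → Fˣ) →* GL D.Idx F :=
  (dg D F).comp
    { toFun := c.tchar
      map_one' := by funext u; simp [tchar]
      map_mul' := fun z z' => by funext u; simp [tchar, mul_zpow, Finset.prod_mul_distrib] }

theorem torus_apply (z : ℕ → Fˣ) : c.torus z = dg D F (c.tchar z) := rfl

theorem tchar_neg (z : ℕ → Fˣ) {u : ℕ} (hu : u < D.nroots) :
    c.tchar z (D.neg u) = (c.tchar z u)⁻¹ := by
  rw [tchar, tchar, ← Finset.prod_inv_distrib]
  refine Finset.prod_congr rfl fun i hi => ?_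
  rw [c.cartan_neg (Finset.mem_range.1 hi) hu, _root_.zpow_neg]

theorem tchar_add (z : ℕ → Fˣ) {u a b : ℕ} (hu : u < D.nroots) (ha : a < D.nroots)
    (hb : b < D.nroots) (h : c.T.code u = c.T.code a + c.T.code b) :
    c.tchar z u = c.tchar z a * c.tchar z b := by
  rw [tchar, tchar, tchar, ← Finset.prod_mul_distrib]
  refine Finset.prod_congr rfl fun i hi => ?_
  rw [c.cartan_add hu ha hb h (Finset.mem_range.1 hi), _root_.zpow_add]

theorem tchar_isRootCharacter (z : ℕ → Fˣ) : D.IsRootCharacter (c.tchar z) := by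
  refine ⟨fun r hr => c.tchar_neg z hr, fun r s k hr hs h => ?_⟩
  rw [c.chainRoot_eq hr hs] at h
  refine c.tchar_add z (c.chainRoot_lt hr hs h) hr hs ?_
  rw [c.chainRoot_code hr hs le_rfl h]
  push_cast; ring

/-- Characters scale root elements. -/
theorem dg_mul_xg {χ : ℕ → Fˣ} (hχ : D.IsRootCharacter χ) {r : ℕ} (hr : r < D.nroots) (t : F) :
    dg D F χ * c.xg r t = c.xg r ((χ r : F) * t) * dg D F χ := by
  refine Units.ext (mat_ext D F (fun i hi => ?_) (fun s hs => ?_))
  · simp only [Units.val_mul, dg_val, xg_val, ← Matrix.mulVec_mulVec, charDiag_hvec,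
      c.x_hvec hr hi, Matrix.mulVec_sub, Matrix.mulVec_smul, charDiag_evec, smul_smul]
    congr 2
    ring
  simp only [Units.val_mul, dg_val, xg_val, ← Matrix.mulVec_mulVec, charDiag_evec,
    Matrix.mulVec_smul]
  by_cases h1 : s = r
  · subst h1; rw [c.x_evec_self hr, c.x_evec_self hr, charDiag_evec]
  by_cases h2 : s = D.neg r
  · subst h2
    have hh : D.charDiag F χ *ᵥ c.hroot F r = c.hroot F r := by
      rw [c.hroot_eq_sum, Matrix.mulVec_sum]
      simp only [Matrix.mulVec_smul, charDiag_hvec]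
    have hv : (χ (D.neg r) : F) * (χ r : F) = 1 := by rw [hχ.1 r hr]; simp
    rw [c.x_evec_neg hr, c.x_evec_neg hr, Matrix.mulVec_sub, Matrix.mulVec_add,
      Matrix.mulVec_smul, Matrix.mulVec_smul, hh, charDiag_evec, charDiag_evec]
    simp only [smul_sub, smul_add, smul_smul]
    congr 1
    · congr 2
      linear_combination (-t) * hv
    · congr 1
      linear_combination (-(t ^ 2 * (χ r : F))) * hv
  rw [c.x_evec hr hs h1 h2, c.x_evec hr hs h1 h2, Matrix.mulVec_add, charDiag_evec, smul_add]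
  congr 1
  have step : ∀ a k, a < D.nroots → c.T.chainRoot r a 1 = some k → χ k = χ r * χ a := by
    intro a k ha h
    refine hχ.2 r a k hr ha ?_
    rw [c.chainRoot_eq hr ha]; exact h
  by_cases he : c.T.entry r s = []
  · simp [he, chainVec]
  have hfirst : ∀ q, (c.T.entry r s)[0]? = some q → c.T.chainRoot r s 1 = some q.1 := by
    intro q hq; simp [Tables.chainRoot, hq]
  have hlt := c.entry_lt hr hs
  have hsh := (c.grading_row hr (c.mem_keys_of_entry_ne hr hs he)).2.2.2.1
  match hL : c.T.entry r s with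
  | [] => exact absurd hL he
  | [a] =>
    rw [hL] at hfirst
    have ha := step s a.1 hs (hfirst a rfl)
    simp only [chainVec, Matrix.mulVec_add, Matrix.mulVec_smul, charDiag_evec, smul_add,
      smul_smul, ha, Units.val_mul, Matrix.mulVec_zero, smul_zero]
    module
  | [a, b] =>
    rw [hL] at hfirst hlt hsh
    have ha := step s a.1 hs (hfirst a rfl)
    have hb := step a.1 b.1 (hlt a (by simp)) hsh
    simp only [chainVec, Matrix.mulVec_add, Matrix.mulVec_smul, charDiag_evec, smul_add,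
      smul_smul, ha, hb, Units.val_mul, Matrix.mulVec_zero, smul_zero]
    module
  | [a, b, d] =>
    rw [hL] at hfirst hlt hsh
    have ha := step s a.1 hs (hfirst a rfl)
    have hb := step a.1 b.1 (hlt a (by simp)) hsh.1
    have hd := step b.1 d.1 (hlt b (by simp)) hsh.2
    simp only [chainVec, Matrix.mulVec_add, Matrix.mulVec_smul, charDiag_evec, smul_add,
      smul_smul, ha, hb, hd, Units.val_mul, Matrix.mulVec_zero, smul_zero]
    module
  | a :: b :: d :: e :: L =>
    exfalso
    have := c.entry_length hr hs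
    rw [hL] at this
    simp at this
    omega

/-! ### The elements `h_r(t)` -/

theorem checkH_eq {p : ℕ} (hp : p < D.rank) (t : Fˣ) :
    D.hMat F (D.simple p) t =
      D.charDiag F (fun u => t ^ c.T.cartan p u) := by
  have h := c.hmat
  simp only [checkH, Tables.allNodes, List.all_eq_true, List.mem_range] at h
  have hα := c.simple_lt hp
  refine Matrix.ext_of_mulVec_single fun j => ?_
  have hj : enum D j < c.T.dim := by
    rw [Tables.dim, ← c.rank_eq, ← c.nroots_eq]; exact enum_lt D j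
  have htv : (t : F) * ((t⁻¹ : Fˣ) : F) = 1 := by simp
  have e := ev_eq_of_sameInv (enum D) (t : F) 1 ((t⁻¹ : Fˣ) : F) htv
    (h p (c.rank_eq ▸ hp) _ hj)
  rw [← prod_evMat_mulVec_inv (enum D) _ _ _ htv (enum_injective D) _ (by
      intro col hcol
      simp only [List.mem_cons, List.not_mem_nil, or_false] at hcol
      rcases hcol with rfl | rfl | rfl | rfl | rfl | rfl <;> exact c.xCol_out _ _ _ _ _),
    ev_unitVec (enum D) _ _ _ (enum_injective D) j] at e
  have hn : c.T.neg (c.T.simple p) = D.neg (D.simple p) := by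
    rw [c.neg_eq hα, c.simple_eq hp]
  simp only [List.map_cons, List.map_nil, List.prod_cons, List.prod_nil, mul_one] at e
  have hs' : c.T.simple p < D.nroots := c.simple_eq hp ▸ hα
  rw [hn] at e
  rw [c.x_eq_evMat _ _ _ _ _ _ _ _ hs', c.x_eq_evMat _ _ _ _ _ _ _ _ hs',
    c.x_eq_evMat _ _ _ _ _ _ _ _ (c.neg_lt hα),
    c.x_eq_evMat _ _ _ _ _ _ _ _ (c.neg_lt hα), ← c.simple_eq hp] at e
  have hw : D.hMat F (D.simple p) t =
      D.x F (D.simple p) t * (D.x F (D.neg (D.simple p)) (-((t⁻¹ : Fˣ) : F)) *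
        (D.x F (D.simple p) t * (D.x F (D.simple p) (-1) *
          (D.x F (D.neg (D.simple p)) 1 * D.x F (D.simple p) (-1))))) := by
    simp [ChevalleyDatum.hMat, ChevalleyDatum.hWord, ChevalleyDatum.nWord,
      ChevalleyDatum.wordMat, inv_neg]
  rw [hw]
  simp only [Int.cast_one, Int.cast_neg, pow_zero, pow_one, one_mul, mul_one, neg_mul] at e
  rw [e]
  rcases j with i | s
  · rw [single_inl, charDiag_hvec]
    have h1 : Nat.blt (enum D (Sum.inl i)) c.T.dim = true := Nat.blt_eq.mpr hj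
    have h2 : Nat.blt (enum D (Sum.inl i)) c.T.l = true := by
      rw [Nat.blt_eq, ← c.rank_eq]; exact i.isLt
    simp only [Tables.hCol, h1, h2, cond_true]
    rw [show enum D (Sum.inl i) = (i : ℕ) from rfl, c.ev_single_inl _ _ _ i.isLt]
    simp
  · rw [single_inr, charDiag_evec]
    have h1 : Nat.blt (enum D (Sum.inr s)) c.T.dim = true := Nat.blt_eq.mpr hj
    have h2 : Nat.blt (enum D (Sum.inr s)) c.T.l = false := by
      rw [Bool.eq_false_iff]; intro hh; rw [Nat.blt_eq, ← c.rank_eq] at hh; simp [enum] at hh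
    simp only [Tables.hCol, h1, h2, cond_true, cond_false]
    rw [show enum D (Sum.inr s) - c.T.l = (s : ℕ) by rw [← c.rank_eq]; simp [enum],
      show enum D (Sum.inr s) = c.T.l + (s : ℕ) by rw [← c.rank_eq]; rfl, c.ev_single_inr]
    congr 1
    rcases Int.eq_nat_or_neg (c.T.cartan p (s : ℕ)) with ⟨m, hm | hm⟩
    · simp [hm]
    · simp [hm]

end Cert

namespace CertFull

variable {D : ChevalleyDatum} (c : CertFull D) {F : Type*} [Field F]
include c

/-- The character of `h_r(t)`. -/
def pairChar (r : ℕ) (t : Fˣ) (u : ℕ) : Fˣ := t ^ c.T.pairing r u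

theorem pairing_eq_sum (r u : ℕ) :
    c.T.pairing r u = ∑ i ∈ Finset.range D.rank, c.T.coroot r i * c.T.cartan i u := by
  rw [Tables.pairing, ← List.sum_toFinset _ List.nodup_range, List.toFinset_range, c.rank_eq]

theorem pairing_simple {p : ℕ} (hp : p < D.rank) (u : ℕ) :
    c.T.pairing (D.simple p) u = c.T.cartan p u := by
  rw [c.pairing_eq_sum, Finset.sum_eq_single p]
  · rw [(c.linear_node hp).2 p hp]; simp
  · intro b hb hbp
    rw [(c.linear_node hp).2 b (Finset.mem_range.1 hb)]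
    simp [Ne.symm hbp]
  · simp [hp]

theorem pairing_w {p r u : ℕ} (hp : p < D.rank) (hr : r < D.nroots) (hu : u < D.nroots) :
    c.T.pairing (c.w p r) (c.w p u) = c.T.pairing r u := by
  have hα := c.simple_lt hp
  rw [c.pairing_eq_sum, c.pairing_eq_sum]
  have e : ∀ i ∈ Finset.range D.rank, c.T.coroot (c.w p r) i * c.T.cartan i (c.w p u) =
      c.T.coroot r i * c.T.cartan i u
        - c.T.cartan p u * (c.T.coroot r i * c.T.cartan i (D.simple p))
        - (if i = p then c.T.pairing r (D.simple p) *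
            (c.T.cartan i u - c.T.cartan p u * c.T.cartan i (D.simple p)) else 0) := by
    intro i hi
    rw [Finset.mem_range] at hi
    rw [(c.refl_root hp hr).2.2.2.2.2.2.1 i hi, ← c.cartan_eq hi (c.w_lt hp hu),
      c.cartan_w hp hu hi, c.cartan_eq hi hu, c.cartan_eq hp hu, c.cartan_eq hi hα]
    split_ifs <;> ring
  rw [Finset.sum_congr rfl e, Finset.sum_sub_distrib, Finset.sum_sub_distrib, ← Finset.mul_sum,
    ← c.pairing_eq_sum r (D.simple p), Finset.sum_ite_eq', if_pos (Finset.mem_range.2 hp)]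
  have h2 : c.T.cartan p (D.simple p) = 2 := by
    rw [← c.cartan_eq hp hα]; exact c.cartan_simple_self hp
  rw [h2]; ring

/-- The formula for `h_r(t)`. -/
theorem hg_eq {r : ℕ} (hr : r < D.nroots) :
    ∀ t : Fˣ, c.hg r (t : F) = dg D F (c.pairChar r t) := by
  refine c.root_induction (P := fun r => ∀ t : Fˣ, c.hg r (t : F) = dg D F (c.pairChar r t))
    (fun p hp t => ?_) (fun p hp r hr hP t => ?_) r hr
  · refine Units.ext ?_
    rw [c.hg_val, c.checkH_eq hp t, dg_val]
    congr 1
    funext u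
    rw [pairChar, c.pairing_simple hp]
  · -- conjugate `h_{w r}(t)` back to `r`
    have hw := c.w_lt hp hr
    set n := c.ng (D.simple p) (1 : F) with hn
    set η : F := (c.T.eta p (c.w p r) : F) with hη
    have hη2 : η * η = 1 := c.eta_F_sq p (c.w p r)
    have hηinv : η⁻¹ = η := inv_eq_of_mul_eq_one_right hη2
    have hconj : ∀ a : F, n * c.ng (c.w p r) a = c.ng r (η * a) * n := by
      intro a
      have h1 : ∀ b : F, n * c.xg (c.w p r) b = c.xg r (η * b) * n := by
        intro b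
        rw [c.ng_conj hp hw, c.w_w hp hr]
      have h2 : ∀ b : F, n * c.xg (D.neg (c.w p r)) b = c.xg (D.neg r) (η * b) * n := by
        intro b
        rw [c.ng_conj hp (c.neg_lt hw), c.w_neg hp hw, c.w_w hp hr, c.eta_neg hp hw]
      simp only [Cert.ng]
      rw [← mul_assoc, ← mul_assoc, h1, mul_assoc _ n, h2, ← mul_assoc, mul_assoc _ n, h1,
        ← mul_assoc, mul_inv, hηinv, mul_neg]
    have hh : n * c.hg (c.w p r) (t : F) =
        c.hg r (η * (t : F)) * (c.hg r η)⁻¹ * n := by
      rw [Cert.hg, ← mul_assoc, hconj, mul_assoc, hconj, ← mul_assoc]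
      congr 1
      have e2 : c.ng r (η * -1) = (c.ng r η)⁻¹ := by rw [c.ng_inv, mul_neg_one]
      rw [e2]
      simp only [Cert.hg,  _root_.mul_inv_rev, c.ng_inv, neg_neg]
      rw [mul_assoc (c.ng r (η * (t : F))), ← mul_assoc (c.ng r (-1)), ← c.ng_inv r 1,
        inv_mul_cancel, one_mul]
    let ηU : Fˣ := ⟨η, η, hη2, hη2⟩
    have hP1 : c.hg r η = dg D F (c.pairChar r ηU) := hP ηU
    have hP2 : c.hg r (η * (t : F)) = dg D F (c.pairChar r (ηU * t)) := hP (ηU * t)
    rw [hP1, hP2, ← map_inv, ← map_mul] at hh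
    have hd : dg D F (c.pairChar r (ηU * t) * (c.pairChar r ηU)⁻¹) =
        dg D F (c.pairChar r t) := by
      refine dg_ext D F fun u _ => ?_
      simp [pairChar, mul_zpow]
    rw [hd] at hh
    refine mul_left_cancel (a := n) (hh.trans ?_)
    rw [hn, c.ng_dg hp]
    congr 1
    refine dg_ext D F fun u hu => ?_
    rw [pairChar, pairChar, c.pairing_w hp hr hu]

theorem hg_eq_torus {r : ℕ} (hr : r < D.nroots) (t : Fˣ) :
    c.hg r (t : F) = c.torus (fun i => t ^ c.T.coroot r i) := by
  rw [c.hg_eq hr t, Cert.torus_apply]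
  refine dg_ext D F fun u _ => ?_
  rw [pairChar, c.pairing_eq_sum, Cert.tchar]
  simp only [← _root_.zpow_mul]
  induction D.rank with
  | zero => simp
  | succ n ih => rw [Finset.sum_range_succ, Finset.prod_range_succ, _root_.zpow_add, ih]

theorem torus_eq_prod (z : ℕ → Fˣ) :
    c.torus z = ((List.range D.rank).map fun i => c.hg (D.simple i) (z i : F)).prod := by
  have e : ∀ n ≤ D.rank, ((List.range n).map fun i => c.hg (D.simple i) (z i : F)).prod =
      dg D F (fun u => ∏ i ∈ Finset.range n, z i ^ c.T.cartan i u) := by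
    intro n hn
    induction n with
    | zero => exact (map_one (dg D F)).symm
    | succ n ih =>
      rw [List.range_succ, List.map_append, List.prod_append, ih (by omega), List.map_singleton,
        List.prod_singleton, c.hg_eq (c.simple_lt (show n < D.rank by omega)), ← map_mul]
      refine dg_ext D F fun u _ => ?_
      rw [Pi.mul_apply, pairChar, c.pairing_simple (show n < D.rank by omega),
        Finset.prod_range_succ]
  exact (e D.rank le_rfl).symm

theorem torus_mem (z : ℕ → Fˣ) : c.torus z ∈ D.diagonalSubgroup F := by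
  rw [c.torus_eq_prod]
  refine Subgroup.list_prod_mem _ fun g hg => ?_
  obtain ⟨i, hi, rfl⟩ := List.mem_map.1 hg
  exact Subgroup.subset_closure
    ⟨D.simple i, (z i : F), c.simple_lt (List.mem_range.1 hi), (z i).ne_zero, c.hg_val _ _⟩

theorem diagonalSubgroup_eq : D.diagonalSubgroup F = (c.torus (F := F)).range := by
  refine le_antisymm ((Subgroup.closure_le _).2 ?_) ?_
  · rintro g ⟨r, t, hr, ht, hg⟩
    refine ⟨fun i => (Units.mk0 t ht) ^ c.T.coroot r i, ?_⟩
    rw [← c.hg_eq_torus hr]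
    exact Units.ext (by rw [c.hg_val, hg]; rfl)
  · rintro g ⟨z, rfl⟩
    exact c.torus_mem z

end CertFull

end Cfsg.Agent.Lie.Chev
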