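import Cfsg.Agent.Lib.Lie.CycStab
import Cfsg.Agent.Lib.Lie.Chev.SylowTorus

/-! Weights fixed by the stabiliser of an eigenvector in the Weyl group. -/

set_option autoImplicit false

namespace Cfsg.Agent.Lie.Chev

open Cfsg.Lie Matrix

namespace CertFull

variable {D : ChevalleyDatum} (c : CertFull D)
include c

/-- Whatever fixes an eigenvector modulo a large prime preserves the weights of the cyclotomic
component. -/
theorem weight_fixed {κ : Type*} [Fintype κ] [DecidableEq κ] {r : ℕ} [Fact r.Prime]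
    (hr : D.rank + 1 < r) {W : List ℕ} (hW : ∀ p ∈ W, p < D.rank)
    {Mw : Matrix (Fin D.rank) (Fin D.rank) ℤ}
    (hMw : ∀ i j : Fin D.rank, Mw i j = c.T.vec (c.T.wlT W.reverse (c.T.simple i)) j)
    {U : Matrix (Fin D.rank) κ ℤ} {V : Matrix κ (Fin D.rank) ℤ} {C' : Matrix κ κ ℤ}
    (hV : V * Mw = C' * V) (hU : Mw * U = U * C')
    {f : Polynomial ℤ} (hf : Polynomial.aeval Mw f = U * V)
    {n k : ℕ} (hn : n.totient = Fintype.card κ) (hn0 : 0 < n) (hrn : ¬ r ∣ n) (hk : 0 < k)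
    (hC' : C' ^ k = 1) {q : ℤ} (hq : (r : ℤ) ∣ (Polynomial.cyclotomic n ℤ).eval q)
    (hqf : ¬ (r : ℤ) ∣ f.eval q) (hq0 : ¬ (r : ℤ) ∣ q)
    {e : Fin D.rank → ZMod r} (he : e ≠ 0)
    (hWe : ((c.wmat W.reverse).map (Int.castRingHom (ZMod r))) *ᵥ e = (q : ZMod r) • e)
    (cv : κ → ℤ) {M : List ℕ} (hM : ∀ p ∈ M, p < D.rank)
    (hMe : ((c.wmat M).map (Int.castRingHom (ZMod r))) *ᵥ e = e)
    {s : ℕ} (hs : s < D.nroots) :
    (∑ j : Fin D.rank, c.T.vec (c.wl M s) j * (U *ᵥ cv) j) =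
      ∑ j : Fin D.rank, c.T.vec s j * (U *ᵥ cv) j := by
  have hMat : c.wmat W.reverse = Mw := by
    refine Matrix.ext fun i j => ?_
    rw [hMw, c.wlT_eq, ← c.simple_eq i.2]
    rfl
  haveI : Finite c.weylMat := c.finite_weylMat
  obtain ⟨a, haW, ha⟩ := c.exists_weylMat (L := W.reverse) fun p hp =>
    hW p (List.mem_reverse.1 hp)
  obtain ⟨b, hbW, hb⟩ := c.exists_weylMat hM
  have h1 := CycMatrix.fix_component (by rw [Fintype.card_fin]; exact hr) haW (U := U) (V := V)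
    (C' := C') (by rw [ha, hMat]; exact hV) (by rw [ha, hMat]; exact hU) (f := f)
    (by rw [ha, hMat]; exact hf) hn hn0 hrn hk hC' hq hqf hq0 he (by rw [ha]; exact hWe) hbW
    (by rw [hb]; exact hMe)
  rw [hb] at h1
  have h2 : c.wmat M *ᵥ (U *ᵥ cv) = U *ᵥ cv := by rw [Matrix.mulVec_mulVec, h1]
  have h3 : ∀ j : Fin D.rank, c.T.vec (c.wl M s) j =
      ∑ i : Fin D.rank, c.T.vec s i * c.T.vec (c.wl M (D.simple i)) j := fun j => by
    rw [c.wl_vec hM hs j.2, Finset.sum_range]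
  simp only [h3, Finset.sum_mul]
  rw [Finset.sum_comm]
  refine Finset.sum_congr rfl fun i _ => ?_
  simp only [mul_assoc]
  rw [← Finset.mul_sum]
  have h4 := congrFun h2 i
  simp only [Matrix.mulVec, dotProduct, CertFull.wmat, Matrix.of_apply] at h4 ⊢
  rw [h4]

end CertFull

end Cfsg.Agent.Lie.Chev
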