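import Cfsg.Agent.Lib.Lie.Chev.TwelveTori
import Cfsg.Agent.Lib.Lie.Chev.WeylClassE6
import Cfsg.Agent.Lib.Lie.Chev.WeylWeight
import Cfsg.Agent.Lib.Lie.Chev.CycToriInst
import Mathlib.FieldTheory.Finite.Extension

/-! A cyclic self-centralising torus of order `Φ₁₂(q)Φ₃(q)/(3, q - 1)` in E₆(q). -/

set_option autoImplicit false
set_option maxRecDepth 4000

namespace Cfsg.Agent.Lie.Chev.TorusE6

open Cfsg.Lie Matrix TwelveTori

/-- A bipartite Coxeter element. -/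
def WC : List ℕ := [0, 3, 5, 1, 2, 4]

theorem WC_lt : ∀ p ∈ WC, p < chevE6.rank := by decide

/-- Its action on the coordinates at the fundamental coroots. -/
def A6 : Matrix (Fin 6) (Fin 6) ℤ :=
  !![0, 0, 1, 1, 0, 0; 0, -1, 0, -1, 0, 0; -1, 0, -1, -1, 0, 0; 1, 1, 1, 2, 1, 1; 0, 0, 0, -1, -1, -1; 0, 0, 0, 1, 1, 0]

/-- A left inverse of the pairing into E₇. -/
def B67 : Matrix (Fin 7) (Fin 6) ℤ :=
  !![-2, 1, -1, 0, 0, 0; -4, 2, -2, 0, 0, 0; -5, 2, -2, 0, 0, 0; -8, 3, -4, 0, 0, 0; -7, 2, -4, -1, 0, 0; -6, 1, -4, -2, -1, 0; -5, 0, -4, -3, -2, -1]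

theorem B67_inv :
    Matrix.of (fun (i : Fin 6) (j : Fin 7) => certFullE7.T.cartan i (certFullE7.T.simple j)) *
      B67 = 1 := by decide +kernel

theorem A6_rows : ∀ (i : Fin 6) (j : Fin 7),
    certFullE7.T.cartan i (certFullE7.T.wlT WC.reverse (certFullE7.T.simple j)) =
      ∑ k : Fin 6, A6 i k * certFullE7.T.cartan k (certFullE7.T.simple j) := by decide +kernel

theorem nbr6 : checkNbr certFullE6.T = true := by decide +kernel

theorem nbr7 : checkNbr certFullE7.T = true := by decide +kernel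

theorem det_A6 (j : ℤ) : (j • (1 : Matrix (Fin 6) (Fin 6) ℤ) - A6).det =
    (j ^ 4 - j ^ 2 + 1) * (j ^ 2 + j + 1) := by
  rw [det_smul_sub_similar (k := 2) (by norm_num)
    (T := !![1, 1, 1, 2, 1, 1; 1, 1, 2, 3, 2, 1; 1, 2, 2, 3, 2, 1; 1, 1, 2, 2, 2, 1; 1, 0, 1, 0, -1, -1; -1, 0, 0, 0, 0, 1])
    (T' := !![2, -1, -1, 1, 0, -1; 0, -2, 2, 0, 0, 0; -1, 0, 0, 1, 1, 1; 0, 2, 0, -2, 0, 0; -1, 0, 0, 1, -1, -1; 2, -1, -1, 1, 0, 1])
    (B := !![0, 1, 0, 0, 0, 0; 0, 0, 1, 0, 0, 0; 0, 0, 0, 1, 0, 0; -1, 0, 1, 0, 0, 0; 0, 0, 0, 0, 0, 1; 0, 0, 0, 0, -1, -1])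
    (by decide +kernel) (by decide +kernel)]
  rw [det_smul_sub_block (a := 4) (b := 2)
    (A := !![0, 1, 0, 0; 0, 0, 1, 0; 0, 0, 0, 1; -1, 0, 1, 0])
    (B := !![0, 1; -1, -1]) (by decide +kernel), det_companion_twelve, Matrix.det_fin_two]
  simp only [Matrix.sub_apply, Matrix.smul_apply, Matrix.one_apply]
  norm_num
  left
  ring

/-- A basis of the image of `A² + A + 1`. -/
def U6 : Matrix (Fin 6) (Fin 4) ℤ :=
  !![-1, 0, 0, 0; 2, 1, 0, 0; 2, 1, 1, 0; -2, -1, -1, 1; 2, 1, 1, 0; -1, 0, 0, 0]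

def V6 : Matrix (Fin 4) (Fin 6) ℤ :=
  !![0, 1, 1, 1, 1, 0; 1, 0, 0, 0, 0, 1; 0, 0, 1, 1, 1, 0; 0, 0, 0, 1, 0, 0]

def C6 : Matrix (Fin 4) (Fin 4) ℤ := !![1, 1, 1, 0; 0, -1, -1, 1; 1, 1, 0, 0; -1, 0, 0, 0]

/-- The matrix of the inverse word. -/
def M6 : Matrix (Fin 6) (Fin 6) ℤ :=
  !![-1, 0, -1, 0, 0, 0; 0, 0, 1, 1, 1, 0; 1, 1, 1, 1, 1, 0; 0, -1, -1, -1, -1, 0; 0, 1, 1, 1, 1, 1; 0, 0, 0, 0, -1, -1]

theorem M6_eq : M6 = Matrix.of fun i j : Fin 6 =>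
    certFullE6.T.vec (certFullE6.T.wlT WC.reverse (certFullE6.T.simple i)) j := by
  decide +kernel

theorem M6_rows (i j : Fin 6) :
    M6 i j = certFullE6.T.vec (certFullE6.T.wlT WC.reverse (certFullE6.T.simple i)) j := by
  rw [M6_eq]; rfl

theorem parity2 : ∀ x : ZMod 2,
    x ^ 4 - x ^ 2 + 1 ≠ 0 ∧ (x ^ 4 - x ^ 2 + 1) * (x ^ 2 + x + 1) ≠ 0 := by decide

theorem parity3 : ∀ x : ZMod 3, x ^ 4 - x ^ 2 + 1 ≠ 0 := by decide

theorem nine : ∀ x : ZMod 9, (x ^ 4 - x ^ 2 + 1) * (x ^ 2 + x + 1) ≠ 0 := by decide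

theorem C6_pow : C6 ^ 12 = 1 := by
  have h : C6 ^ 4 = C6 * C6 * (C6 * C6) := by simp [pow_succ, Matrix.mul_assoc]
  rw [show (12 : ℕ) = 4 * 3 from rfl, pow_mul, h]
  decide +kernel

theorem M6_props : V6 * M6 = C6 * V6 ∧ M6 * U6 = U6 * C6 ∧ M6 * M6 + M6 + 1 = U6 * V6 ∧
    C6 * C6 * (C6 * C6) - C6 * C6 + 1 = 0 ∧ U6 *ᵥ ![-1, 3, 0, 2] = (fun _ => 1) := by
  decide +kernel

theorem height_ne : ∀ s < 72, (∑ j : Fin 6, certFullE6.T.vec s j) ≠ 0 ∧
    (0 < (∑ j : Fin 6, certFullE6.T.vec s j) → certFullE6.T.h ≤ s) := by decide +kernel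

theorem center_facts :
    A6 - 1 = Matrix.of (fun i j : Fin 6 => certFullE6.T.cartan i (certFullE6.T.simple j)) *
      !![-1, 0, 0, 0, 0, 0; 0, -1, 0, -1, 0, 0; -1, 0, -1, -1, 0, 0; 0, 0, 0, -1, 0, 0; 0, 0, 0, -1, -1, -1; 0, 0, 0, 0, 0, -1] ∧
    Matrix.of (fun i j : Fin 6 => certFullE6.T.cartan i (certFullE6.T.simple j)) *
      !![4, 3, 5, 6, 4, 2; 3, 6, 6, 9, 6, 3; 5, 6, 10, 12, 8, 4; 6, 9, 12, 18, 12, 6; 4, 6, 8, 12, 10, 5; 2, 3, 4, 6, 5, 4]
        = ((3 : ℕ) : ℤ) • 1 ∧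
    ∀ i, ((3 : ℕ) : ℤ) ∣ ((![1, 0, 2, 0, 1, 2] : Fin 6 → ℤ) ᵥ*
      Matrix.of (fun i j : Fin 6 => certFullE6.T.cartan i (certFullE6.T.simple j))) i := by
  decide +kernel

theorem rep_one : classesE6.reps.getD 1 [] = WC := rfl

theorem prod_chain : (chainE6.map List.length).prod ∣ 2 ^ 14 * 3 ^ 5 * 5 ^ 2 * 7 := by
  decide +kernel

set_option maxHeartbeats 1000000 in
theorem exists_twist {F L : Type*} [Field F] [Field L] [Fintype F] [Fintype L]
    (ι : F →+* L) {q : ℕ} (hF : Fintype.card F = q) (φ : L →+* L) (hφ : ∀ t, φ t = t ^ q)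
    (hL : Fintype.card L = q ^ 12) {r : ℕ} [Fact r.Prime]
    (hr : (r : ℤ) ∣ (Polynomial.cyclotomic 12 ℤ).eval (q : ℤ)) (h13 : 13 ≤ r) {μφ : chevE6.SteinbergGroup L →* chevE6.SteinbergGroup L}
    (hμφ : ∀ s < chevE6.nroots, ∀ t : L,
      μφ ((certFullE6.stGroupData L).X s t) = (certFullE6.stGroupData L).X s (φ t))
    {Φ : (Fin 6 → Lˣ) →* chevE6.SteinbergGroup L} (hΦ : certFullE6.IsPhi Φ) :
    ∃ (gt : chevE6.SteinbergGroup L) (t : Fin 6 → Lˣ) (z : ℕ → Lˣ), ∃ y ∈ chevE6.group F,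
      μφ gt * gt⁻¹ = (certFullE6.stGroupData L).nw WC * Φ t ∧
      (certFullE6.stGroupData L).θ gt * Matrix.GeneralLinearGroup.map ι y *
        ((certFullE6.stGroupData L).θ gt)⁻¹ = certFullE6.torus z ∧
      ∀ Y ∈ chevE6.group L, Commute Y (certFullE6.torus z) → Y ∈ chevE6.diagonalSubgroup L := by
  classical
  let c := certFullE6
  have hrp : r.Prime := Fact.out
  have hq : 1 < q := hF ▸ Fintype.one_lt_card
  have hrk : chevE6.rank = 6 := rfl
  have hnr : chevE6.nroots = 72 := rfl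
  have hrn : ¬ r ∣ 12 := fun h => by have := Nat.le_of_dvd (by norm_num) h; omega
  have hord : orderOf ((q : ℤ) : ZMod r) = 12 := orderOf_eq hrn hr
  have hr1 : r ∣ q ^ 12 - 1 := by
    rw [← ZMod.natCast_eq_zero_iff, Nat.cast_sub (Nat.one_le_pow _ _ (by omega)), Nat.cast_pow,
      Nat.cast_one, sub_eq_zero, ← hord, Int.cast_natCast, pow_orderOf_eq_one]
  have hrW : ¬ r ∣ (chainWords chainE6).length := by
    rw [CycToriInst.length_chainWords]
    exact CycToriInst.not_dvd_of_primes hrp (by omega) prod_chain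
  have hre : ¬ r ∣ Nat.gcd 3 (Fintype.card F - 1) := fun h => by
    have := Nat.le_of_dvd (by norm_num) (h.trans (Nat.gcd_dvd_left _ _)); omega
  obtain ⟨g₀, hg₀, y, hy, z₀, W, hW, hgz₀, hzr₀, hne₀, hrel₀⟩ := c.exists_start ι hF φ hφ
    (n := 12) (by norm_num) hL chainE6_ok chainE6_len chainE6_poly (by decide) (torusOrderE6 F) hr1 hre hrW
  have hrL : r ∣ Fintype.card L - 1 := by rw [hL]; exact hr1
  obtain ⟨e₀, he₀, hWe₀, -⟩ := c.exists_eigen (r := r) hrL hW hzr₀ hne₀ hrel₀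
  -- make the word the Coxeter element
  obtain ⟨u, hu, -, hconj⟩ := c.exists_conj_rep classesE6_check
    (q := (q : ZMod r)) (by rw [← hord, Int.cast_natCast]) hW he₀ hWe₀
  rw [rep_one] at hconj
  obtain ⟨z, hz, hrel⟩ := c.exists_conj hu hW WC_lt hconj hrel₀
  obtain ⟨g, hgdef⟩ : ∃ g, g = c.nw L u * g₀ := ⟨_, rfl⟩
  have hg : g ∈ chevE6.group L := hgdef ▸ mul_mem (c.N_le_group (c.nw_mem_N hu)) hg₀
  obtain ⟨x, hx⟩ : ∃ x, x = Matrix.GeneralLinearGroup.map ι y := ⟨_, rfl⟩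
  have hgz : g * x * g⁻¹ = c.torus z := by
    rw [← hz, ← hgz₀, hgdef, hx]; group
  have hval : ∀ s < chevE6.nroots, c.tchar z (c.wl u s) = c.tchar z₀ s := fun s hs =>
    c.tchar_of_nw_conj hu hz hs
  have hur : ∀ p ∈ u.reverse, p < chevE6.rank := fun p hp => hu p (List.mem_reverse.1 hp)
  have hzr : ∀ s < chevE6.nroots, c.tchar z s ^ r = 1 := fun s hs => by
    rw [← c.wl_reverse hu hs, hval _ (c.wl_lt hur hs)]
    exact hzr₀ _ (c.wl_lt hur hs)
  have hne : ∃ s < chevE6.nroots, c.tchar z s ≠ 1 := by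
    obtain ⟨s, hs, h⟩ := hne₀
    exact ⟨_, c.wl_lt hu hs, by rwa [hval s hs]⟩
  obtain ⟨eb, heb, hWe, hfix⟩ := c.exists_eigen (r := r) hrL WC_lt hzr hne hrel
  -- whatever fixes the element fixes the height
  obtain ⟨p1, p2, p3, p4, p5⟩ := M6_props
  have hqr : ∀ k : ℕ, 0 < k → k < 12 → ((q : ℤ) : ZMod r) ^ k ≠ 1 := fun k hk hk' h => by
    have := Nat.le_of_dvd hk (hord ▸ orderOf_dvd_of_pow_eq_one h)
    omega
  have hqf : ¬ (r : ℤ) ∣ (Polynomial.X ^ 2 + Polynomial.X + 1 : Polynomial ℤ).eval (q : ℤ) := by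
    intro h
    rw [show Polynomial.eval (q : ℤ) (Polynomial.X ^ 2 + Polynomial.X + 1) =
      (q : ℤ) ^ 2 + q + 1 by simp, ← ZMod.intCast_zmod_eq_zero_iff_dvd] at h
    refine hqr 3 (by norm_num) (by norm_num) ?_
    push_cast at h ⊢
    linear_combination ((q : ZMod r) - 1) * h
  have hq0 : ¬ (r : ℤ) ∣ (q : ℤ) := fun h => by
    rw [← ZMod.intCast_zmod_eq_zero_iff_dvd] at h
    rw [h, orderOf_zero] at hord
    exact absurd hord (by norm_num)
  have hf : Polynomial.aeval M6 (Polynomial.X ^ 2 + Polynomial.X + 1 : Polynomial ℤ) = U6 * V6 := by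
    rw [← p3, map_add, map_add, map_pow, map_one, Polynomial.aeval_X, pow_two]
  have hheight : ∀ M : List ℕ, (∀ p ∈ M, p < chevE6.rank) →
      (∀ i : Fin chevE6.rank, c.tchar z (c.wl M (chevE6.simple i)) = c.chi z i) →
      ∀ s < chevE6.nroots, (∑ j : Fin 6, c.T.vec (c.wl M s) j) = ∑ j : Fin 6, c.T.vec s j := by
    intro M hM hMfix s hs
    have h := c.weight_fixed (κ := Fin 4) (by rw [hrk]; omega) WC_lt (Mw := M6) M6_rows
      (U := U6) (V := V6) (C' := C6) p1 p2 hf (n := 12) (k := 12) rfl (by norm_num) hrn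
      (by norm_num) C6_pow hr hqf hq0 heb (by rw [Int.cast_natCast]; exact hWe) ![-1, 3, 0, 2] hM
      (hfix M hM hMfix) hs
    have e : ∀ t : ℕ, (∑ j : Fin 6, c.T.vec t j) =
        ∑ j : Fin 6, c.T.vec t j * (U6 *ᵥ ![-1, 3, 0, 2]) j := fun t => by
      rw [p5]
      simp only [mul_one]
    rw [e, e]
    exact h
  have hreg : ∀ s < chevE6.nroots, c.tchar z s ≠ 1 := by
    intro s hs h1
    obtain ⟨M, hM, hMs, hMfix⟩ := c.exists_reflection (F := L) hs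
    have h := hheight M hM (hMfix z h1) s hs
    rw [hMs, Finset.sum_congr rfl fun (j : Fin 6) _ => c.vec_neg hs j.2,
      Finset.sum_neg_distrib] at h
    exact (height_ne s hs).1 (by linarith)
  have hCH : ∀ Y ∈ chevE6.group L, Commute Y (c.torus z) → Y ∈ chevE6.diagonalSubgroup L := by
    intro Y hY hYc
    refine c.mem_H_of_commute_of_pos hreg (fun M hM heq p hp => ?_) hY hYc
    have hs := c.wl_lt hM (c.simple_lt hp)
    refine ⟨(height_ne _ hs).2 ?_, hs⟩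
    rw [hheight M hM (fun i => heq _ (c.simple_lt i.2)) _ (c.simple_lt hp),
      Finset.sum_eq_single (⟨p, hp⟩ : Fin 6), c.vec_simple hp hp, if_pos rfl]
    · exact one_pos
    · intro j _ hj
      rw [c.vec_simple hp j.2, if_neg fun e => hj (Fin.ext e)]
    · simp
  obtain ⟨gt, hgt⟩ := (c.stGroupData L).θ_surj hg
  have hrange := CertFull.range_eq_fixed ι hF hφ
  have hσx : Matrix.GeneralLinearGroup.map φ x = x := by
    rw [hx]
    exact Units.ext (Matrix.ext fun i j => hrange.le ⟨_, rfl⟩)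
  obtain ⟨k, hk⟩ : ∃ k, k = Matrix.GeneralLinearGroup.map φ g * g⁻¹ := ⟨_, rfl⟩
  have hkt : k * c.torus z * k⁻¹ = c.torus (z ^ q) := by
    have e : Matrix.GeneralLinearGroup.map φ (c.torus z) = c.torus (z ^ q) := by
      rw [c.torus_map]
      congr 1
      funext i
      exact Units.ext (by simp [hφ])
    rw [← e, ← hgz, map_mul, map_mul, map_inv, hσx, hk]
    group
  obtain ⟨n₀, hn₀⟩ : ∃ m, m = c.nw L WC := ⟨_, rfl⟩
  have hn₀conj := c.nw_of_twisted WC_lt hrel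
  rw [← hn₀] at hn₀conj
  have hkH : n₀⁻¹ * k ∈ chevE6.diagonalSubgroup L := by
    refine hCH _ (mul_mem (inv_mem (hn₀ ▸ c.N_le_group (c.nw_mem_N WC_lt)))
      (hk ▸ mul_mem (c.group_map φ hg) (inv_mem hg))) ?_
    show n₀⁻¹ * k * c.torus z = c.torus z * (n₀⁻¹ * k)
    calc n₀⁻¹ * k * c.torus z = n₀⁻¹ * (k * c.torus z * k⁻¹) * k := by group
      _ = n₀⁻¹ * (n₀ * c.torus z * n₀⁻¹) * k := by rw [hkt, hn₀conj]
      _ = _ := by group
  obtain ⟨t, ht⟩ := c.mem_phi_range nbr6 hrk hΦ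
    (y := ((c.stGroupData L).nw WC)⁻¹ * (μφ gt * gt⁻¹)) (by
      rw [map_mul, map_inv, (c.stGroupData L).θnw WC_lt, map_mul, map_inv, c.θ_stMap hμφ, hgt,
        ← hn₀, ← hk]
      exact hkH)
  refine ⟨gt, t, z, y, hy, ?_, by rw [hgt, ← hx, hgz], hCH⟩
  rw [ht, mul_inv_cancel_left]

set_option maxHeartbeats 1000000 in
theorem exists_torus_of_ext {F L : Type*} [Field F] [Field L] [Fintype F] [Fintype L]
    (ι : F →+* L) {q : ℕ} (hF : Fintype.card F = q) (φ : L →+* L) (hφ : ∀ t, φ t = t ^ q)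
    (hL : Fintype.card L = q ^ 12) {r : ℕ} [Fact r.Prime]
    (hr : (r : ℤ) ∣ (Polynomial.cyclotomic 12 ℤ).eval (q : ℤ)) (h13 : 13 ≤ r) :
    ∃ H : Subgroup ↥(chevE6.group F), IsCyclic ↥H ∧
      Nat.card ↥H = (q ^ 4 - q ^ 2 + 1) * (q ^ 2 + q + 1) / Nat.gcd 3 (q - 1) ∧
      Subgroup.centralizer (H : Set ↥(chevE6.group F)) = H := by
  classical
  let c := certFullE6
  have hrp : r.Prime := Fact.out
  have hq : 1 < q := hF ▸ Fintype.one_lt_card
  have hrk : chevE6.rank = 6 := rfl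
  -- lift to the simply connected group
  obtain ⟨μι, hμι⟩ := exists_stMap (rootEmb_id c) ι
  obtain ⟨μφ, hμφ⟩ := exists_stMap (rootEmb_id c) φ
  obtain ⟨Φ, hΦ⟩ := c.exists_phi (F := L) nbr6 hrk
  have he67 := rootEmb_of_check certFullE6 certFullE7 embE67
  have hinj : Function.Injective Φ :=
    c.phi_injective certFullE7 nbr7 he67 hrk rfl hΦ B67_inv
  obtain ⟨gt, t, z, y, hy, ht, hgd, hCH⟩ := exists_twist ι hF φ hφ hL hr h13 hμφ hΦ
  have hrange := CertFull.range_eq_fixed ι hF hφ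
  have hk' : ∀ w, (μφ gt * gt⁻¹) * Φ w * (μφ gt * gt⁻¹)⁻¹ = Φ (mpow A6 w) := by
    intro w
    rw [ht, ← c.phi_conj certFullE7 nbr6 nbr7 he67 hrk rfl hΦ B67_inv WC_lt (A := A6) (fun i j => by
      rw [← certFullE7.wlT_eq, certFullE7.simple_eq j.2]
      exact A6_rows i j) w]
    calc (c.stGroupData L).nw WC * Φ t * Φ w * ((c.stGroupData L).nw WC * Φ t)⁻¹
        = (c.stGroupData L).nw WC * (Φ t * Φ w * (Φ t)⁻¹) * ((c.stGroupData L).nw WC)⁻¹ := by
          group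
      _ = _ := by rw [← map_mul, ← map_inv, ← map_mul, mul_inv_cancel_comm]
  -- the element is a twisted parameter
  obtain ⟨w, hw, hwz⟩ := c.mem_twisted_of_diag hμι hμφ hφ hrk hΦ hinj hk' nbr6 hrange hy
    (by rw [hgd]; exact c.torus_mem z)
  rw [hgd] at hwz
  -- the kernel
  obtain ⟨N, hN⟩ : ∃ N, N = (q ^ 4 - q ^ 2 + 1) * (q ^ 2 + q + 1) := ⟨_, rfl⟩
  have hsub : q ^ 2 ≤ q ^ 4 := Nat.pow_le_pow_right (by omega) (by norm_num)
  have hNz : (N : ℤ) = ((q : ℤ) ^ 4 - q ^ 2 + 1) * (q ^ 2 + q + 1) := by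
    rw [hN]; push_cast [Nat.cast_sub hsub]; ring
  have hMdet : ((q : ℤ) • (1 : Matrix (Fin 6) (Fin 6) ℤ) - A6).det = (N : ℤ) := by
    rw [det_A6, hNz]
  have hNdvd : N ∣ q ^ 12 - 1 := by
    rw [← Int.natCast_dvd_natCast, hNz, Nat.cast_sub (Nat.one_le_pow _ _ (by omega))]
    push_cast
    exact ⟨((q : ℤ) ^ 2 + 1) * (q - 1) * (q ^ 3 + 1), by ring⟩
  obtain ⟨hKc, hKN⟩ := CycMatrix.ker_mpow (G := Lˣ)
    (M := (q : ℤ) • (1 : Matrix (Fin 6) (Fin 6) ℤ) - A6)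
    (by rw [hMdet, hN]; positivity)
    (by rw [hMdet, Int.natAbs_natCast, Nat.card_units, Nat.card_eq_fintype_card, hL]; exact hNdvd)
    (fun s hsp hsd => by
      haveI : Fact s.Prime := ⟨hsp⟩
      rw [det_A6] at hsd
      by_cases hs3 : s = 3
      · subst hs3
        refine ⟨_, fun i j => ⟨0, by rw [sub_self, mul_zero]⟩, ?_⟩
        rw [det_A6]
        intro h
        refine nine ((q : ℤ) : ZMod 9) ?_
        have h' := (ZMod.intCast_zmod_eq_zero_iff_dvd _ 9).2 h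
        push_cast at h' ⊢
        exact h'
      · have hs2 : s ≠ 2 := by
          rintro rfl
          refine (parity2 ((q : ℤ) : ZMod 2)).2 ?_
          have h' := (ZMod.intCast_zmod_eq_zero_iff_dvd _ 2).2 hsd
          push_cast at h' ⊢
          exact h'
        have hs12 : ¬ s ∣ 12 := fun h => by
          rcases hsp.dvd_mul.1 (show s ∣ 4 * 3 from h) with h | h
          · exact hs2 ((Nat.prime_dvd_prime_iff_eq hsp Nat.prime_two).1
              (hsp.dvd_of_dvd_pow (show s ∣ 2 ^ 2 from h)))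
          · exact hs3 ((Nat.prime_dvd_prime_iff_eq hsp Nat.prime_three).1 h)
        obtain ⟨j, hj⟩ := exists_shift (ns := [12, 3]) (by decide) (s := s) (q := (q : ℤ))
          (by
            simp only [List.mem_cons, List.not_mem_nil, or_false]
            rintro n (rfl | rfl)
            exacts [hs12, fun h => hs12 (h.trans (by norm_num))])
          (by simpa [eval_twelve, eval_three] using hsd)
        refine ⟨((q : ℤ) + s * j) • (1 : Matrix (Fin 6) (Fin 6) ℤ) - A6,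
          fun i i' => ⟨-j * (1 : Matrix (Fin 6) (Fin 6) ℤ) i i', ?_⟩, ?_⟩
        · simp only [Matrix.sub_apply, Matrix.smul_apply, smul_eq_mul]
          ring
        · rw [det_A6]
          simpa [eval_twelve, eval_three] using hj)
  rw [hMdet, Int.natAbs_natCast] at hKN
  obtain ⟨hAC, hC, hv⟩ := center_facts
  haveI : Fact (Nat.Prime 3) := ⟨Nat.prime_three⟩
  have hd := card_center_part (G := Lˣ) (p := 3) (q := q) (by omega)
    (fun n hn => by
      rw [Nat.card_units, Nat.card_eq_fintype_card, hL]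
      exact hn.trans (by simpa using Nat.sub_dvd_pow_sub_pow q 1 12))
    hAC hC hv (i₀ := 0) rfl hKc
  obtain ⟨H, hH1, hH2, hH3⟩ := c.exists_selfcentralizing hμι hμφ hφ hrk hΦ hinj hk' nbr6 hrange
    hKc hKN hd (fun Y hY hYc => hCH Y hY (hwz ▸ hYc w hw))
  exact ⟨H, hH1, hN ▸ hH2, hH3⟩

theorem thirteen_le {q r : ℕ} [hrr : Fact r.Prime]
    (hr' : (r : ℤ) ∣ (Polynomial.cyclotomic 12 ℤ).eval (q : ℤ)) : 13 ≤ r := by
  have hr : r.Prime := hrr.out
  have h2 : r ≠ 2 := by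
    rintro rfl
    refine (parity2 ((q : ℤ) : ZMod 2)).1 ?_
    have h := (ZMod.intCast_zmod_eq_zero_iff_dvd _ 2).2 hr'
    rw [eval_twelve] at h
    push_cast at h ⊢
    exact h
  have h3 : r ≠ 3 := by
    rintro rfl
    refine parity3 ((q : ℤ) : ZMod 3) ?_
    have h := (ZMod.intCast_zmod_eq_zero_iff_dvd _ 3).2 hr'
    rw [eval_twelve] at h
    push_cast at h ⊢
    exact h
  have hn12 : ¬ r ∣ 12 := fun h => by
    rcases hr.dvd_mul.1 (show r ∣ 4 * 3 from h) with h | h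
    · exact h2 ((Nat.prime_dvd_prime_iff_eq hr Nat.prime_two).1
        (hr.dvd_of_dvd_pow (show r ∣ 2 ^ 2 from h)))
    · exact h3 ((Nat.prime_dvd_prime_iff_eq hr Nat.prime_three).1 h)
  have h12 := Nat.le_of_dvd (by have := hr.two_le; omega) (CycToriInst.one_mod_of_dvd hn12 hr')
  omega

theorem exists_torus {F : Type*} [Field F] [Fintype F] (q : ℕ) (hF : Fintype.card F = q) :
    ∃ H : Subgroup ↥(chevE6.group F), IsCyclic ↥H ∧
      Nat.card ↥H = (q ^ 4 - q ^ 2 + 1) * (q ^ 2 + q + 1) / Nat.gcd 3 (q - 1) ∧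
      Subgroup.centralizer (H : Set ↥(chevE6.group F)) = H := by
  obtain ⟨p, hp⟩ := CharP.exists F
  obtain ⟨k, hpp, hk⟩ := FiniteField.card F p
  haveI : Fact p.Prime := ⟨hpp⟩
  haveI : NeZero (12 : ℕ) := ⟨by norm_num⟩
  letI : Fintype (FiniteField.Extension F p 12) := Fintype.ofFinite _
  haveI : CharP (FiniteField.Extension F p 12) p :=
    charP_of_injective_ringHom (algebraMap F (FiniteField.Extension F p 12)).injective p
  have hq : 2 ≤ q := hF ▸ Fintype.one_lt_card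
  obtain ⟨r, hr, hrd⟩ := Nat.exists_prime_and_dvd (n := q ^ 4 - q ^ 2 + 1) (by
    have h1 : q ^ 2 * 4 ≤ q ^ 2 * q ^ 2 := Nat.mul_le_mul_left _ (by nlinarith)
    rw [← pow_add, show (2 : ℕ) + 2 = 4 from rfl] at h1
    have : 0 < q ^ 2 := by positivity
    omega)
  haveI : Fact r.Prime := ⟨hr⟩
  have hsub : q ^ 2 ≤ q ^ 4 := Nat.pow_le_pow_right (by omega) (by norm_num)
  have hr' : (r : ℤ) ∣ (Polynomial.cyclotomic 12 ℤ).eval (q : ℤ) := by
    rw [eval_twelve]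
    have h := Int.natCast_dvd_natCast.2 hrd
    push_cast [Nat.cast_sub hsub] at h
    exact h
  refine exists_torus_of_ext (algebraMap F (FiniteField.Extension F p 12)) hF
    (iterateFrobenius (FiniteField.Extension F p 12) p k)
    (fun t => by rw [iterateFrobenius_def, ← hk, hF]) ?_ hr' (thirteen_le hr')
  rw [← Nat.card_eq_fintype_card, FiniteField.natCard_extension, Nat.card_eq_fintype_card, hF]

end Cfsg.Agent.Lie.Chev.TorusE6
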