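import Cfsg.Agent.Lib.Lie.Chev.TorusE6
import Cfsg.Agent.Lib.Lie.Chev.SLTwist

/-! A cyclic self-centralising torus of order `Φ₁₂(q)(q³ + 1)/(2, q - 1)` in E₇(q). -/

set_option autoImplicit false
set_option maxRecDepth 4000

namespace Cfsg.Agent.Lie.Chev.TorusE7

open Cfsg.Lie Matrix TwelveTori

/-- Moves the roots orthogonal to the cyclotomic component onto fundamental ones. -/
def u0 : List ℕ := [5, 3, 4, 2, 3, 0, 2, 1, 3, 4, 5, 6]

/-- The conjugate of the Coxeter element of E₆. -/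
def W1 : List ℕ := u0 ++ TorusE6.WC ++ u0.reverse

/-- The twisting word. -/
def W2 : List ℕ := W1 ++ [1]

theorem words_lt : (∀ p ∈ u0, p < chevE7.rank) ∧ (∀ p ∈ W1, p < chevE7.rank) ∧
    (∀ p ∈ W2, p < chevE7.rank) ∧ (∀ p ∈ TorusE6.WC, p < chevE7.rank) := by decide

def A7 : Matrix (Fin 7) (Fin 7) ℤ :=
  !![-1, 0, -1, 0, 0, 0, 0; 0, 0, 0, 0, 0, 0, -1; 1, 1, 2, 2, 2, 2, 1; 0, -1, -1, -1, -1, -1, 0; 0, 1, 0, 0, 0, 0, 0; 0, 0, 1, 1, 0, 0, 0; 0, 0, 0, 0, 1, 0, 0]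

def B78 : Matrix (Fin 8) (Fin 7) ℤ :=
  !![-2, 1, -1, 0, 0, 0, 0; -4, 2, -2, 0, 0, 0, 0; -5, 2, -2, 0, 0, 0, 0; -8, 3, -4, 0, 0, 0, 0; -7, 2, -4, -1, 0, 0, 0; -6, 1, -4, -2, -1, 0, 0; -5, 0, -4, -3, -2, -1, 0; -4, -1, -4, -4, -3, -2, -1]

theorem B78_inv :
    Matrix.of (fun (i : Fin 7) (j : Fin 8) => certFullE8.T.cartan i (certFullE8.T.simple j)) *
      B78 = 1 := by decide +kernel

theorem A7_eq : Matrix.of (fun (i : Fin 7) (j : Fin 8) =>
      certFullE8.T.cartan i (certFullE8.T.wlT W2.reverse (certFullE8.T.simple j))) =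
    A7 * Matrix.of (fun (i : Fin 7) (j : Fin 8) =>
      certFullE8.T.cartan i (certFullE8.T.simple j)) := by decide +kernel

theorem A7_rows (i : Fin 7) (j : Fin 8) :
    certFullE8.T.cartan i (certFullE8.T.wlT W2.reverse (certFullE8.T.simple j)) =
      ∑ k : Fin 7, A7 i k * certFullE8.T.cartan k (certFullE8.T.simple j) :=
  congrFun (congrFun A7_eq i) j

theorem nbr8 : checkNbr certFullE8.T = true := by decide +kernel

theorem det_A7 (j : ℤ) : (j • (1 : Matrix (Fin 7) (Fin 7) ℤ) - A7).det =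
    (j ^ 4 - j ^ 2 + 1) * (j ^ 3 + 1) := by
  rw [det_smul_sub_similar (k := 4) (by norm_num)
    (T := !![0, -1, -2, -2, -1, 0, 0; -2, -1, -2, -2, -2, -2, -1; 0, -2, -2, -4, -3, -2, -1; -2, -1, -2, -2, -1, 0, 0; 0, 1, 0, 0, 1, 0, 1; 0, 1, 0, 0, 1, 0, -1; 0, 1, 0, 0, -1, 0, -1])
    (T' := !![2, 0, 0, -2, 0, 0, 0; 0, 0, 0, 0, 2, 0, 2; -4, -2, 2, 2, 0, 0, 0; 2, 2, -2, -2, -1, -1, 0; 0, 0, 0, 0, 0, 2, -2; 0, -2, 0, 2, -1, 0, 1; 0, 0, 0, 0, 2, -2, 0])
    (B := !![0, 1, 0, 0, 0, 0, 0; 0, 0, 1, 0, 0, 0, 0; 0, 0, 0, 1, 0, 0, 0; -1, 0, 1, 0, 0, 0, 0; 0, 0, 0, 0, 0, 1, 0; 0, 0, 0, 0, 0, 0, 1; 0, 0, 0, 0, -1, 0, 0])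
    (by decide +kernel) (by decide +kernel)]
  rw [det_smul_sub_block (a := 4) (b := 3)
    (A := !![0, 1, 0, 0; 0, 0, 1, 0; 0, 0, 0, 1; -1, 0, 1, 0])
    (B := !![0, 1, 0; 0, 0, 1; -1, 0, 0]) (by decide +kernel), det_companion_twelve,
    show j • (1 : Matrix (Fin 3) (Fin 3) ℤ) - !![0, 1, 0; 0, 0, 1; -1, 0, 0] =
        !![j, -1, 0; 0, j, -1; 1, 0, j] by
      ext a b
      simp only [Matrix.sub_apply, Matrix.smul_apply, Matrix.one_apply]
      fin_cases a <;> fin_cases b <;> simp,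
    Matrix.det_fin_three]
  simp
  left
  ring

def M7 : Matrix (Fin 7) (Fin 7) ℤ :=
  !![0, 1, 1, 2, 1, 0, 0; 0, 0, 0, 0, 1, 0, 0; -1, -1, -1, -2, -1, 0, 0; 1, 1, 1, 2, 1, 1, 0; 0, 0, 0, 0, 0, 0, 1; 0, 0, 0, -1, -1, -1, -1; 0, -1, 0, 0, 0, 0, 0]

def U7 : Matrix (Fin 7) (Fin 4) ℤ :=
  !![1, 0, 0, 0; 0, 0, 0, 0; -2, -1, 0, 0; 2, 1, -1, 0; 0, 0, 0, 0; -1, 0, 2, 1; 0, 0, 0, 0]

def V7 : Matrix (Fin 4) (Fin 7) ℤ :=
  !![2, 1, 2, 2, 1, 0, 0; -2, 0, -2, 0, 1, 2, 1; 1, 0, 0, 0, 0, 0, 0; 0, 0, 1, 0, 0, 0, 0]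

def C7 : Matrix (Fin 4) (Fin 4) ℤ := !![2, 1, -2, 0; -1, -1, 2, 0; 1, 0, -2, -1; -1, 0, 1, 1]

theorem M7_eq : M7 = Matrix.of fun i j : Fin 7 =>
    certFullE7.T.vec (certFullE7.T.wlT W2.reverse (certFullE7.T.simple i)) j := by decide +kernel

theorem M7_rows (i j : Fin 7) :
    M7 i j = certFullE7.T.vec (certFullE7.T.wlT W2.reverse (certFullE7.T.simple i)) j := by
  rw [M7_eq]; rfl

theorem M7_props : V7 * M7 = C7 * V7 ∧ M7 * U7 = U7 * C7 ∧ M7 * M7 * M7 + 1 = U7 * V7 ∧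
    U7 *ᵥ ![1, -3, -2, 6] = ![1, 0, 1, 1, 0, 1, 0] := by decide +kernel

theorem C7_pow : C7 ^ 12 = 1 := by
  have h : C7 ^ 4 = C7 * C7 * (C7 * C7) := by simp [pow_succ, Matrix.mul_assoc]
  rw [show (12 : ℕ) = 4 * 3 from rfl, pow_mul, h]
  decide +kernel

/-- The weight of a root. -/
def wt (s : ℕ) : ℤ :=
  certFullE7.T.vec s 0 + certFullE7.T.vec s 2 + certFullE7.T.vec s 3 + certFullE7.T.vec s 5

theorem wt_facts : ∀ s < 126, (wt s = 0 → s = certFullE7.T.simple 1 ∨ s = certFullE7.T.simple 4 ∨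
      s = certFullE7.T.simple 6 ∨ s = certFullE7.T.neg (certFullE7.T.simple 1) ∨
      s = certFullE7.T.neg (certFullE7.T.simple 4) ∨ s = certFullE7.T.neg (certFullE7.T.simple 6)) ∧
    (0 < wt s → certFullE7.T.h ≤ s) := by decide +kernel

theorem wt_eq_sum (s : ℕ) : wt s =
    ∑ j : Fin 7, certFullE7.T.vec s j * (![1, 0, 1, 1, 0, 1, 0] : Fin 7 → ℤ) j := by
  simp [Fin.sum_univ_succ, wt]
  ring

theorem twist_roots :
    certFullE7.T.wlT W1.reverse (certFullE7.T.simple 1) = certFullE7.T.simple 4 ∧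
    certFullE7.T.wlT W1.reverse (certFullE7.T.simple 4) = certFullE7.T.simple 6 ∧
    certFullE7.T.wlT W1.reverse (certFullE7.T.simple 6) = certFullE7.T.simple 1 ∧
    ([1, 4, 6].all fun a => [1, 4, 6].all fun b => Bool.or (Nat.beq a b)
      ([certFullE7.T.simple a, certFullE7.T.neg (certFullE7.T.simple a)].all fun r =>
        [certFullE7.T.simple b, certFullE7.T.neg (certFullE7.T.simple b)].all fun s =>
          !(Nat.beq s r) && !(Nat.beq s (certFullE7.T.neg r)) &&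
            (certFullE7.T.commTerms r s).isEmpty)) = true := by decide +kernel

def Cart : Matrix (Fin 7) (Fin 7) ℤ :=
  Matrix.of fun i j : Fin 7 => certFullE7.T.cartan i (certFullE7.T.simple j)

theorem center_facts :
    A7 - 1 = Cart *
      !![-1, 0, -1, 0, 0, 0, 0; 0, -1, -1, -1, -1, -1, -1; 0, 0, -1, 0, 0, 0, 0; 0, -1, -2, -2, -2, -2, -1; 0, 0, -1, -1, -2, -2, -1; 0, 0, 0, 0, -1, -2, -1; 0, 0, 0, 0, 0, -1, -1] ∧
    Cart *
      !![4, 4, 6, 8, 6, 4, 2; 4, 7, 8, 12, 9, 6, 3; 6, 8, 12, 16, 12, 8, 4; 8, 12, 16, 24, 18, 12, 6; 6, 9, 12, 18, 15, 10, 5; 4, 6, 8, 12, 10, 8, 4; 2, 3, 4, 6, 5, 4, 3]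
        = ((2 : ℕ) : ℤ) • 1 ∧
    ∀ i, ((2 : ℕ) : ℤ) ∣ ((![0, 1, 0, 0, 1, 0, 1] : Fin 7 → ℤ) ᵥ* Cart) i := by
  decide +kernel

theorem cart_col : ∀ p : Fin 7, (p = 1 ∨ p = 4 ∨ p = 6) →
    ∀ i : Fin 7, (i = 1 ∨ i = 4 ∨ i = 6) → Cart i p = if i = p then 2 else 0 := by
  decide +kernel

/-- The lift used at the prime three. -/
def M3 : Matrix (Fin 7) (Fin 7) ℤ :=
  !![0, 0, 1, 0, 0, 0, 0; 0, 2, 0, 0, 0, 0, 1; -1, -1, -3, -2, -2, -2, -1; 0, 1, 1, 0, 1, 1, 0; 0, -1, 0, 0, -1, 0, 0; 0, 0, -1, -1, 0, -1, 0; 0, 0, 0, 0, -1, 0, -1]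

theorem M3_cong : ∀ i : Fin 7, ∀ j : Fin 7,
    (3 : ℤ) ∣ ((-1 : ℤ) • (1 : Matrix (Fin 7) (Fin 7) ℤ) - A7) i j - M3 i j := by
  intro i j; fin_cases i <;> fin_cases j <;> decide +kernel

theorem det_M3 : ¬ (3 : ℤ) ^ 2 ∣ M3.det := by
  obtain ⟨h1, h2⟩ : (!![0, 0, 1, 0, 0, 0, 0; 0, 0, 0, 1, 0, 0, 0; 1, 0, 0, 0, 0, 0, 0; 1, 0, 0, 0, 0, 1, 0; 0, 0, 0, 0, 0, 0, 1; -1, 0, 0, 1, 1, 0, 0; 0, 1, 0, 0, 2, 0, -2] : Matrix (Fin 7) (Fin 7) ℤ) * M3 =
      !![-1, -1, -3, -2, -2, -2, -1; 0, 1, 1, 0, 1, 1, 0; 0, 0, 1, 0, 0, 0, 0; 0, 0, 0, -1, 0, -1, 0; 0, 0, 0, 0, -1, 0, -1; 0, 0, 0, 0, 0, 1, 0; 0, 0, 0, 0, 0, 0, 3] ∧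
      (!![0, 0, 1, 0, 0, 0, 0; 0, 0, 0, 1, 0, 0, 0; 1, 0, 0, 0, 0, 0, 0; 1, 0, 0, 0, 0, 1, 0; 0, 0, 0, 0, 0, 0, 1; -1, 0, 0, 1, 1, 0, 0; 0, 1, 0, 0, 2, 0, -2] : Matrix (Fin 7) (Fin 7) ℤ) *
      !![0, 0, 1, 0, 0, 0, 0; 0, 2, -2, 0, 2, -2, 1; 1, 0, 0, 0, 0, 0, 0; 0, 1, 0, 0, 0, 0, 0; 0, -1, 1, 0, 0, 1, 0; 0, 0, -1, 1, 0, 0, 0; 0, 0, 0, 0, 1, 0, 0] = 1 := by
    decide +kernel
  have e1 := congrArg Matrix.det h1
  have e2 := congrArg Matrix.det h2
  rw [Matrix.det_mul] at e1 e2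
  rw [Matrix.det_one] at e2
  rw [Matrix.det_of_upperTriangular (M := !![-1, -1, -3, -2, -2, -2, -1; 0, 1, 1, 0, 1, 1, 0; 0, 0, 1, 0, 0, 0, 0; 0, 0, 0, -1, 0, -1, 0; 0, 0, 0, 0, -1, 0, -1; 0, 0, 0, 0, 0, 1, 0; 0, 0, 0, 0, 0, 0, (3 : ℤ)])
    (by intro i j hij; fin_cases i <;> fin_cases j <;> first | rfl | (exact absurd hij (by decide)))] at e1
  intro h
  have h' := h.mul_left ((!![0, 0, 1, 0, 0, 0, 0; 0, 0, 0, 1, 0, 0, 0; 1, 0, 0, 0, 0, 0, 0; 1, 0, 0, 0, 0, 1, 0; 0, 0, 0, 0, 0, 0, 1; -1, 0, 0, 1, 1, 0, 0; 0, 1, 0, 0, 2, 0, -2] : Matrix (Fin 7) (Fin 7) ℤ).det)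
  rw [e1] at h'
  simp [Fin.prod_univ_succ] at h'

theorem parity : ∀ x : ZMod 4, x = 1 → (x ^ 4 - x ^ 2 + 1) * (x ^ 3 + 1) ≠ 0 := by decide

theorem parity_two : ∀ x : ZMod 2, (x ^ 4 - x ^ 2 + 1) * (x ^ 3 + 1) = 0 → x = 1 := by decide

theorem mod_three : ∀ x : ZMod 3, (x ^ 4 - x ^ 2 + 1) * (x ^ 3 + 1) = 0 → x = -1 := by decide

theorem not_dvd_exp {q : ℤ} (hq : 2 ≤ q) : ∀ a ∈ [1, q, q ^ 2], ∀ b ∈ [1, q, q ^ 2],
    ¬ q ^ 3 + 1 ∣ 2 * a + 2 * b := by
  intro a ha b hb h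
  have hq2 : q * 2 ≤ q ^ 2 := by rw [sq]; exact mul_le_mul_of_nonneg_left hq (by omega)
  have hq3 : q ^ 2 * 2 ≤ q ^ 3 := by rw [pow_succ q 2]; exact mul_le_mul_of_nonneg_left hq (by positivity)
  have hle : 2 * a + 2 * b ≤ 2 * q ^ 2 + 2 * q ^ 2 := by
    simp only [List.mem_cons, List.not_mem_nil, or_false] at ha hb
    rcases ha with rfl | rfl | rfl <;> rcases hb with rfl | rfl | rfl <;> omega
  have hpos : 0 < 2 * a + 2 * b := by
    simp only [List.mem_cons, List.not_mem_nil, or_false] at ha hb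
    rcases ha with rfl | rfl | rfl <;> rcases hb with rfl | rfl | rfl <;> omega
  obtain ⟨m, hm⟩ := h
  have hm0 : 0 < m := by
    by_contra hm0
    have : (q ^ 3 + 1) * m ≤ 0 := mul_nonpos_of_nonneg_of_nonpos (by omega) (by omega)
    omega
  have hm1 : m = 1 := by
    by_contra hm1
    have : (q ^ 3 + 1) * 2 ≤ (q ^ 3 + 1) * m := mul_le_mul_of_nonneg_left (by omega) (by omega)
    omega
  subst hm1
  rw [mul_one] at hm
  rcases (show q = 2 ∨ q = 3 ∨ 4 ≤ q by omega) with rfl | rfl | hq4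
  · simp only [List.mem_cons, List.not_mem_nil, or_false] at ha hb
    rcases ha with rfl | rfl | rfl <;> rcases hb with rfl | rfl | rfl <;> norm_num at hm
  · simp only [List.mem_cons, List.not_mem_nil, or_false] at ha hb
    rcases ha with rfl | rfl | rfl <;> rcases hb with rfl | rfl | rfl <;> norm_num at hm
  · have : q ^ 2 * 4 ≤ q ^ 3 := by
      rw [pow_succ q 2]; exact mul_le_mul_of_nonneg_left hq4 (by positivity)
    omega

set_option maxHeartbeats 1000000 in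
/-- The element moving the torus to the twisted position. -/
theorem exists_twisting {F L : Type*} [Field F] [Field L] [Fintype F] [Fintype L]
    (ι : F →+* L) {q : ℕ} (hF : Fintype.card F = q) (φ : L →+* L) (hφ : ∀ t, φ t = t ^ q)
    (hL : Fintype.card L = q ^ 12) {r : ℕ} [Fact r.Prime]
    (hr : (r : ℤ) ∣ (Polynomial.cyclotomic 12 ℤ).eval (q : ℤ)) (h13 : 13 ≤ r) :
    ∃ g ∈ chevE7.group L, ∃ h ∈ chevE7.diagonalSubgroup L,
      Matrix.GeneralLinearGroup.map φ g * g⁻¹ = certFullE7.nw L W2 * h := by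
  classical
  have hq : 1 < q := hF ▸ Fintype.one_lt_card
  have hrk : chevE7.rank = 7 := rfl
  obtain ⟨hu0, hW1, hW2, hWC⟩ := words_lt
  -- the twist in E₆, carried over
  obtain ⟨μ6, hμ6⟩ := exists_stMap (rootEmb_id certFullE6) φ
  obtain ⟨Φ6, hΦ6⟩ := certFullE6.exists_phi (F := L) TorusE6.nbr6 (l := 6) rfl
  obtain ⟨gt6, t6, -, -, -, ht6, -, -⟩ := TorusE6.exists_twist ι hF φ hφ hL hr h13 hμ6 hΦ6
  obtain ⟨μ, hμ⟩ := exists_stMap (rootEmb_of_check certFullE6 certFullE7 embE67) (RingHom.id L)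
  obtain ⟨Φ, hΦ⟩ := certFullE7.exists_phi (F := L) TorusE6.nbr7 hrk
  obtain ⟨g0, hg0def⟩ : ∃ g, g = (certFullE7.stGroupData L).θ (μ gt6) := ⟨_, rfl⟩
  have hg0 : g0 ∈ chevE7.group L := hg0def ▸ (certFullE7.stGroupData L).θ_mem_group _
  have hσg0 : Matrix.GeneralLinearGroup.map φ g0 = (certFullE7.stGroupData L).θ (μ (μ6 gt6)) := by
    rw [hg0def]
    refine DFunLike.congr_fun
      (f := (Matrix.GeneralLinearGroup.map φ).comp ((certFullE7.stGroupData L).θ.comp μ))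
      (g := ((certFullE7.stGroupData L).θ.comp μ).comp μ6) ?_ gt6
    refine MonoidHom.eq_of_eqOn_dense (certFullE6.stGroupData L).gen ?_
    rintro x ⟨s, hs, v, rfl⟩
    have hio := (rootEmb_of_check certFullE6 certFullE7 embE67).lt s hs
    simp only [MonoidHom.comp_apply, hμ6 s hs, hμ s hs, id_eq, RingHom.id_apply,
      (certFullE7.stGroupData L).θX _ hio, certFullE7.xg_map]
  obtain ⟨T0, hT0def⟩ : ∃ T, T = certFullE7.torus (padv 7 fun j : Fin 7 =>
      padv 6 (fun i => Units.map ((RingHom.id L : L →+* L) : L →* L) (t6 i)) j) := ⟨_, rfl⟩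
  have hk0 : Matrix.GeneralLinearGroup.map φ g0 * g0⁻¹ = certFullE7.nw L TorusE6.WC * T0 := by
    rw [hσg0, hg0def, ← map_inv, ← map_inv, ← map_mul, ← map_mul, ht6, map_mul,
      stMap_nw (rootEmb_of_check certFullE6 certFullE7 embE67) hμ TorusE6.WC_lt,
      stMap_phi (rootEmb_of_check certFullE6 certFullE7 embE67) (l := 6) rfl hμ hΦ6 hrk hΦ, map_mul,
      hΦ.2.1, (certFullE7.stGroupData L).θnw hWC, hT0def]
  -- conjugate
  have hu0r : ∀ p ∈ u0.reverse, p < chevE7.rank := fun p hp => hu0 p (List.mem_reverse.1 hp)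
  have hh' : certFullE7.nw L u0 * certFullE7.nw L u0.reverse ∈ chevE7.diagonalSubgroup L := by
    rw [← certFullE7.nw_append]
    refine certFullE7.nw_mem_H (fun p hp => (List.mem_append.1 hp).elim (hu0 p) (hu0r p)) fun p hp => ?_
    rw [certFullE7.wl_append, certFullE7.wl_reverse hu0 (certFullE7.simple_lt hp)]
    exact certFullE7.pos_simple hp
  obtain ⟨g1, hg1def⟩ : ∃ g, g = certFullE7.nw L u0 * g0 := ⟨_, rfl⟩
  have hg1 : g1 ∈ chevE7.group L := hg1def ▸ mul_mem (certFullE7.N_le_group (certFullE7.nw_mem_N hu0)) hg0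
  obtain ⟨t1, ht1⟩ : ∃ t : ℕ → Lˣ,
      Matrix.GeneralLinearGroup.map φ g1 * g1⁻¹ = certFullE7.nw L W1 * certFullE7.torus t := by
    have hmem : (certFullE7.nw L u0.reverse)⁻¹ * T0 * certFullE7.nw L u0.reverse *
        (certFullE7.nw L u0 * certFullE7.nw L u0.reverse)⁻¹ ∈ chevE7.diagonalSubgroup L := by
      refine mul_mem ?_ (inv_mem hh')
      have := certFullE7.N_conj_H (inv_mem (certFullE7.nw_mem_N (F := L) hu0r)) (hT0def ▸ certFullE7.torus_mem _ : T0 ∈ _)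
      rwa [inv_inv] at this
    rw [certFullE7.diagonalSubgroup_eq] at hmem
    obtain ⟨t, ht⟩ := hmem
    refine ⟨t, ?_⟩
    rw [ht, hg1def, map_mul, certFullE7.nw_map, W1, certFullE7.nw_append, certFullE7.nw_append]
    calc certFullE7.nw L u0 * Matrix.GeneralLinearGroup.map φ g0 * (certFullE7.nw L u0 * g0)⁻¹
        = certFullE7.nw L u0 * (Matrix.GeneralLinearGroup.map φ g0 * g0⁻¹) * (certFullE7.nw L u0)⁻¹ := by group
      _ = _ := by rw [hk0]; group
  -- twist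
  obtain ⟨e₁, e₂, e₃, e₄⟩ := twist_roots
  simp only [certFullE7.wlT_eq, ← certFullE7.simple_eq (show 1 < chevE7.rank by decide),
    ← certFullE7.simple_eq (show 4 < chevE7.rank by decide), ← certFullE7.simple_eq (show 6 < chevE7.rank by decide)]
    at e₁ e₂ e₃
  obtain ⟨a, ha, h, hh, hk2⟩ := certFullE7.exists_twist_three hq hφ hL hW1 (p₁ := 1) (p₂ := 4) (p₃ := 6)
    (by decide) (by decide) (by decide) e₁ e₂ e₃ (fun a ha b hb hab r hr s hs => by
      simp only [List.all_eq_true, Bool.or_eq_true, Bool.and_eq_true, Nat.beq_eq,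
        Bool.not_eq_true', List.isEmpty_iff] at e₄
      have har : a < chevE7.rank := by
        simp only [List.mem_cons, List.not_mem_nil, or_false] at ha
        rcases ha with rfl | rfl | rfl <;> decide
      have hbr : b < chevE7.rank := by
        simp only [List.mem_cons, List.not_mem_nil, or_false] at hb
        rcases hb with rfl | rfl | rfl <;> decide
      have hrlt : r < chevE7.nroots := by
        simp only [List.mem_cons, List.not_mem_nil, or_false] at hr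
        rcases hr with rfl | rfl
        exacts [certFullE7.simple_lt har, certFullE7.neg_lt (certFullE7.simple_lt har)]
      rw [certFullE7.simple_eq har, certFullE7.neg_eq (certFullE7.simple_eq har ▸ certFullE7.simple_lt har)] at hr
      rw [certFullE7.simple_eq hbr, certFullE7.neg_eq (certFullE7.simple_eq hbr ▸ certFullE7.simple_lt hbr)] at hs
      obtain ⟨⟨n1, n2⟩, n3⟩ := ((e₄ a ha b hb).resolve_left hab) r hr s hs
      rw [certFullE7.neg_eq hrlt]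
      exact ⟨Nat.ne_of_beq_eq_false n1, Nat.ne_of_beq_eq_false n2, n3⟩)
    ⟨by decide, by decide, by decide⟩ hg1 ht1
  exact ⟨a * g1, mul_mem ha hg1, h, hh, hk2⟩

set_option maxHeartbeats 2000000 in
theorem exists_torus_of_ext {F L : Type*} [Field F] [Field L] [Fintype F] [Fintype L]
    (ι : F →+* L) {q : ℕ} (hF : Fintype.card F = q) (φ : L →+* L) (hφ : ∀ t, φ t = t ^ q)
    (hL : Fintype.card L = q ^ 12) {r : ℕ} [Fact r.Prime]
    (hr : (r : ℤ) ∣ (Polynomial.cyclotomic 12 ℤ).eval (q : ℤ)) (h13 : 13 ≤ r) :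
    ∃ H : Subgroup ↥(chevE7.group F), IsCyclic ↥H ∧
      Nat.card ↥H = (q ^ 4 - q ^ 2 + 1) * (q ^ 3 + 1) / Nat.gcd 2 (q - 1) ∧
      Subgroup.centralizer (H : Set ↥(chevE7.group F)) = H := by
  classical
  have hrp : r.Prime := Fact.out
  have hq : 1 < q := hF ▸ Fintype.one_lt_card
  have hrk : chevE7.rank = 7 := rfl
  obtain ⟨hu0, hW1, hW2, hWC⟩ := words_lt
  obtain ⟨g2, hg2, h, hh, hk2⟩ := exists_twisting ι hF φ hφ hL hr h13
  obtain ⟨Φ, hΦ⟩ := certFullE7.exists_phi (F := L) TorusE6.nbr7 hrk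
  -- lift
  obtain ⟨μι, hμι⟩ := exists_stMap (rootEmb_id certFullE7) ι
  obtain ⟨μφ, hμφ⟩ := exists_stMap (rootEmb_id certFullE7) φ
  have he78 := rootEmb_of_check certFullE7 certFullE8 embE78
  have hinj : Function.Injective Φ := certFullE7.phi_injective certFullE8 nbr8 he78 hrk rfl hΦ B78_inv
  obtain ⟨gt, hgt⟩ := (certFullE7.stGroupData L).θ_surj hg2
  have hrange := CertFull.range_eq_fixed ι hF hφ
  obtain ⟨t, ht⟩ := certFullE7.mem_phi_range TorusE6.nbr7 hrk hΦ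
    (y := ((certFullE7.stGroupData L).nw W2)⁻¹ * (μφ gt * gt⁻¹)) (by
      rw [map_mul, map_inv, (certFullE7.stGroupData L).θnw hW2, map_mul, map_inv, certFullE7.θ_stMap hμφ, hgt, hk2,
        inv_mul_cancel_left]
      exact hh)
  have hnw : ∀ w, (certFullE7.stGroupData L).nw W2 * Φ w * ((certFullE7.stGroupData L).nw W2)⁻¹ =
      Φ (mpow A7 w) := fun w =>
    certFullE7.phi_conj certFullE8 TorusE6.nbr7 nbr8 he78 hrk rfl hΦ B78_inv hW2 (A := A7) (fun i j => by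
      rw [← certFullE8.wlT_eq, certFullE8.simple_eq j.2]
      exact A7_rows i j) w
  have hk' : ∀ w, (μφ gt * gt⁻¹) * Φ w * (μφ gt * gt⁻¹)⁻¹ = Φ (mpow A7 w) := by
    intro w
    rw [eq_inv_mul_iff_mul_eq] at ht
    rw [← ht, ← hnw w]
    calc (certFullE7.stGroupData L).nw W2 * Φ t * Φ w * ((certFullE7.stGroupData L).nw W2 * Φ t)⁻¹
        = (certFullE7.stGroupData L).nw W2 * (Φ t * Φ w * (Φ t)⁻¹) * ((certFullE7.stGroupData L).nw W2)⁻¹ := by
          group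
      _ = _ := by rw [← map_mul, ← map_inv, ← map_mul, mul_inv_cancel_comm]
  -- the twisted parameters
  obtain ⟨N, hN⟩ : ∃ N, N = (q ^ 4 - q ^ 2 + 1) * (q ^ 3 + 1) := ⟨_, rfl⟩
  have hsub : q ^ 2 ≤ q ^ 4 := Nat.pow_le_pow_right (by omega) (by norm_num)
  have hNz : (N : ℤ) = ((q : ℤ) ^ 4 - q ^ 2 + 1) * (q ^ 3 + 1) := by
    rw [hN]; push_cast [Nat.cast_sub hsub]; ring
  have hMdet : ((q : ℤ) • (1 : Matrix (Fin 7) (Fin 7) ℤ) - A7).det = (N : ℤ) := by
    rw [det_A7, hNz]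
  have hNdvd : N ∣ q ^ 12 - 1 := by
    rw [← Int.natCast_dvd_natCast, hNz, Nat.cast_sub (Nat.one_le_pow _ _ (by omega))]
    push_cast
    exact ⟨((q : ℤ) ^ 2 + 1) * (q ^ 3 - 1), by ring⟩
  obtain ⟨hKc, hKN⟩ := CycMatrix.ker_mpow (G := Lˣ)
    (M := (q : ℤ) • (1 : Matrix (Fin 7) (Fin 7) ℤ) - A7)
    (by rw [hMdet, hN]; positivity)
    (by rw [hMdet, Int.natAbs_natCast, Nat.card_units, Nat.card_eq_fintype_card, hL]; exact hNdvd)
    (fun s hsp hsd => by
      haveI : Fact s.Prime := ⟨hsp⟩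
      rw [det_A7] at hsd
      by_cases hs2 : s = 2
      · subst hs2
        have h1 : ((q : ℤ) : ZMod 2) = 1 := parity_two _ (by
          have h' := (ZMod.intCast_zmod_eq_zero_iff_dvd _ 2).2 hsd
          push_cast at h' ⊢
          exact h')
        obtain ⟨j, hj⟩ : ∃ j : ℤ, (((q : ℤ) + (2 : ℕ) * j : ℤ) : ZMod 4) = 1 := by
          rw [show (1 : ZMod 2) = ((1 : ℤ) : ZMod 2) by simp, ZMod.intCast_eq_intCast_iff_dvd_sub]
            at h1
          obtain ⟨m, hm⟩ := h1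
          refine ⟨m, ?_⟩
          rw [show (q : ℤ) + (2 : ℕ) * m = 1 by push_cast at hm ⊢; omega]
          simp
        refine ⟨((q : ℤ) + (2 : ℕ) * j) • (1 : Matrix (Fin 7) (Fin 7) ℤ) - A7,
          fun i i' => ⟨-j * (1 : Matrix (Fin 7) (Fin 7) ℤ) i i', ?_⟩, ?_⟩
        · simp only [Matrix.sub_apply, Matrix.smul_apply, smul_eq_mul]
          ring
        · rw [det_A7]
          intro h
          refine parity _ hj ?_
          have h' := (ZMod.intCast_zmod_eq_zero_iff_dvd _ 4).2 h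
          push_cast at h' ⊢
          exact h'
      by_cases hs3 : s = 3
      · subst hs3
        have h1 : ((q : ℤ) : ZMod 3) = -1 := mod_three _ (by
          have h' := (ZMod.intCast_zmod_eq_zero_iff_dvd _ 3).2 hsd
          push_cast at h' ⊢
          exact h')
        rw [show (-1 : ZMod 3) = ((-1 : ℤ) : ZMod 3) by simp,
          ZMod.intCast_eq_intCast_iff_dvd_sub] at h1
        refine ⟨M3, fun i j => ?_, det_M3⟩
        have h2 := M3_cong i j
        simp only [Matrix.sub_apply, Matrix.smul_apply, Matrix.one_apply, smul_eq_mul] at h2 ⊢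
        by_cases hij : i = j <;> simp only [hij, if_true, if_false] at h2 ⊢ <;> push_cast at h1 ⊢ <;>
          omega
      · have hs12 : ¬ s ∣ 12 := fun h => by
          rcases hsp.dvd_mul.1 (show s ∣ 4 * 3 from h) with h | h
          · exact hs2 ((Nat.prime_dvd_prime_iff_eq hsp Nat.prime_two).1
              (hsp.dvd_of_dvd_pow (show s ∣ 2 ^ 2 from h)))
          · exact hs3 ((Nat.prime_dvd_prime_iff_eq hsp Nat.prime_three).1 h)
        have hF3 : ∀ x : ℤ, ([12, 6, 2].map fun n => (Polynomial.cyclotomic n ℤ).eval x).prod =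
            (x ^ 4 - x ^ 2 + 1) * (x ^ 3 + 1) := fun x => by
          simp only [List.map_cons, List.map_nil, List.prod_cons, List.prod_nil, eval_twelve,
            eval_six, eval_two]
          ring
        obtain ⟨j, hj⟩ := exists_shift (ns := [12, 6, 2]) (by decide) (s := s) (q := (q : ℤ))
          (by
            simp only [List.mem_cons, List.not_mem_nil, or_false]
            rintro n (rfl | rfl | rfl)
            exacts [hs12, fun h => hs12 (h.trans (by norm_num)),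
              fun h => hs12 (h.trans (by norm_num))])
          (by rw [hF3]; exact hsd)
        refine ⟨((q : ℤ) + s * j) • (1 : Matrix (Fin 7) (Fin 7) ℤ) - A7,
          fun i i' => ⟨-j * (1 : Matrix (Fin 7) (Fin 7) ℤ) i i', ?_⟩, ?_⟩
        · simp only [Matrix.sub_apply, Matrix.smul_apply, smul_eq_mul]
          ring
        · rw [det_A7, ← hF3]
          exact hj)
  rw [hMdet, Int.natAbs_natCast] at hKN
  obtain ⟨K, hK⟩ : ∃ K, K = (mpow (G := Lˣ) ((q : ℤ) • (1 : Matrix (Fin 7) (Fin 7) ℤ) - A7)).ker :=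
    ⟨_, rfl⟩
  have hmemK : ∀ w, w ∈ K ↔ mpow A7 w = w ^ q := fun w => by
    rw [hK, MonoidHom.mem_ker, CertFull.mpow_sub, CertFull.mpow_smul_one, div_eq_one, eq_comm]
  have hKc' : IsCyclic ↥K := hK ▸ hKc
  have hKN' : Nat.card ↥K = N := hK ▸ hKN
  obtain ⟨hAC, hC, hv⟩ := center_facts
  haveI : Fact (Nat.Prime 2) := ⟨Nat.prime_two⟩
  have hd := card_center_part (G := Lˣ) (p := 2) (q := q) (by omega)
    (fun n hn => by
      rw [Nat.card_units, Nat.card_eq_fintype_card, hL]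
      exact hn.trans (by simpa using Nat.sub_dvd_pow_sub_pow q 1 12))
    hAC hC hv (i₀ := 1) rfl hKc
  -- every twisted parameter is twisted by the word
  have htw : ∀ w : Fin 7 → Lˣ, mpow A7 w = w ^ q → certFullE7.Twisted q W2 (padv 7 w) := fun w hw => by
    refine certFullE7.twisted_of_nw hW2 ?_
    rw [← hΦ.2.1, ← (certFullE7.stGroupData L).θnw hW2, ← map_inv, ← map_mul, ← map_mul, hnw, hw, hΦ.2.1,
      map_pow]
  -- one of order r
  obtain ⟨z, hz⟩ : ∃ z : ↥K, orderOf z = r := by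
    refine exists_prime_orderOf_dvd_card' r ?_
    rw [hKN', ← Int.natCast_dvd_natCast, hNz]
    rw [eval_twelve] at hr
    exact dvd_mul_of_dvd_left hr _
  have hzK := (hmemK _).1 z.2
  have hzr : ∀ s < chevE7.nroots, certFullE7.tchar (padv 7 (z : Fin 7 → Lˣ)) s ^ r = 1 := fun s hs => by
    rw [← certFullE7.tchar_pow, ← map_pow, ← Subgroup.coe_pow, ← hz, pow_orderOf_eq_one, Subgroup.coe_one,
      map_one]
    simp [Cert.tchar]
  have hne : ∃ s < chevE7.nroots, certFullE7.tchar (padv 7 (z : Fin 7 → Lˣ)) s ≠ 1 := by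
    by_contra hall
    push Not at hall
    have h1 : (certFullE7.stGroupData L).θ (Φ (z : Fin 7 → Lˣ)) = 1 := by
      rw [hΦ.2.1, Cert.torus_apply, ← map_one (dg chevE7 L), dg_eq_iff]
      exact hall
    have h2 := (certFullE7.θ_phi_eq_one hrk hΦ _).1 h1
    have h3 : (z : Fin 7 → Lˣ) ^ 2 = 1 := by
      rw [← CertFull.mpow_smul_one, ← hC, mpow_mul, show mpow Cart (z : Fin 7 → Lˣ) = 1 from h2,
        map_one]
    have h4 := orderOf_dvd_of_pow_eq_one (x := z) (n := 2) (Subtype.ext h3)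
    rw [hz] at h4
    have := Nat.le_of_dvd (by norm_num) h4
    omega
  have hrL : r ∣ Fintype.card L - 1 := by
    rw [hL]
    refine dvd_trans ?_ hNdvd
    rw [← Int.natCast_dvd_natCast, hNz]
    rw [eval_twelve] at hr
    exact dvd_mul_of_dvd_left hr _
  obtain ⟨eb, heb, hWe, hfix⟩ := certFullE7.exists_eigen (r := r) hrL hW2 hzr hne (htw _ hzK)
  have hrn : ¬ r ∣ 12 := fun h => by have := Nat.le_of_dvd (by norm_num) h; omega
  have hord : orderOf ((q : ℤ) : ZMod r) = 12 := orderOf_eq hrn hr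
  obtain ⟨p1, p2, p3, p4⟩ := M7_props
  have hqf : ¬ (r : ℤ) ∣ (Polynomial.X ^ 3 + 1 : Polynomial ℤ).eval (q : ℤ) := by
    intro h
    rw [show Polynomial.eval (q : ℤ) (Polynomial.X ^ 3 + 1) = (q : ℤ) ^ 3 + 1 by simp,
      ← ZMod.intCast_zmod_eq_zero_iff_dvd] at h
    have h6 : ((q : ℤ) : ZMod r) ^ 6 = 1 := by
      push_cast at h ⊢
      linear_combination ((q : ZMod r) ^ 3 - 1) * h
    have := Nat.le_of_dvd (by norm_num) (hord ▸ orderOf_dvd_of_pow_eq_one h6)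
    omega
  have hq0 : ¬ (r : ℤ) ∣ (q : ℤ) := fun h => by
    rw [← ZMod.intCast_zmod_eq_zero_iff_dvd] at h
    rw [h, orderOf_zero] at hord
    exact absurd hord (by norm_num)
  have hf : Polynomial.aeval M7 (Polynomial.X ^ 3 + 1 : Polynomial ℤ) = U7 * V7 := by
    rw [← p3, map_add, map_pow, map_one, Polynomial.aeval_X, pow_three, Matrix.mul_assoc]
  have hweight : ∀ M : List ℕ, (∀ p ∈ M, p < chevE7.rank) →
      (∀ i : Fin chevE7.rank, certFullE7.tchar (padv 7 (z : Fin 7 → Lˣ)) (certFullE7.wl M (chevE7.simple i)) =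
        certFullE7.chi (padv 7 (z : Fin 7 → Lˣ)) i) →
      ∀ s < chevE7.nroots, wt (certFullE7.wl M s) = wt s := by
    intro M hM hMfix s hs
    have h := certFullE7.weight_fixed (κ := Fin 4) (by rw [hrk]; omega) hW2 (Mw := M7) M7_rows
      (U := U7) (V := V7) (C' := C7) p1 p2 hf (n := 12) (k := 12) rfl (by norm_num) hrn
      (by norm_num) C7_pow hr hqf hq0 heb (by rw [Int.cast_natCast]; exact hWe) ![1, -3, -2, 6] hM
      (hfix M hM hMfix) hs
    rw [wt_eq_sum, wt_eq_sum, ← p4]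
    exact h
  -- a parameter moving the three roots
  obtain ⟨ζ, hζ⟩ : ∃ ζ : Lˣ, orderOf ζ = q ^ 3 + 1 := by
    obtain ⟨ω, hω⟩ := IsCyclic.exists_ofOrder_eq_natCard (α := Lˣ)
    have hd' : q ^ 3 + 1 ∣ Nat.card Lˣ := by
      rw [Nat.card_units, Nat.card_eq_fintype_card, hL]
      refine dvd_trans ?_ hNdvd
      rw [hN]; exact dvd_mul_left _ _
    exact ⟨_, orderOf_pow_orderOf_div (hω ▸ (Nat.card_pos (α := Lˣ)).ne') (hω ▸ hd')⟩
  obtain ⟨ev, hev⟩ : ∃ ev : Fin 7 → ℤ, ev = ![0, 1, 0, 0, (q : ℤ), 0, (q : ℤ) ^ 2] := ⟨_, rfl⟩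
  obtain ⟨we, hwe⟩ : ∃ we : Fin 7 → Lˣ, we = fun i => ζ ^ ev i := ⟨_, rfl⟩
  have hweK : mpow A7 we = we ^ q := by
    rw [hwe, CycMatrix.mpow_zpow]
    funext i
    rw [Pi.pow_apply, ← zpow_natCast, ← _root_.zpow_mul, ← mul_inv_eq_one, ← _root_.zpow_sub,
      ← orderOf_dvd_iff_zpow_eq_one, hζ, hev]
    push_cast
    fin_cases i <;> simp [A7, Matrix.vecMul, dotProduct, Fin.sum_univ_succ]
    all_goals first
      | (refine ⟨-1, ?_⟩; linear_combination (0 : ℤ))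
      | (refine ⟨0, ?_⟩; linear_combination (0 : ℤ))
      | (refine ⟨1, ?_⟩; linear_combination (0 : ℤ))
  have hval : ∀ p : Fin 7, (p = 1 ∨ p = 4 ∨ p = 6) →
      certFullE7.tchar (padv 7 we) (chevE7.simple p) = ζ ^ (2 * ev p) := fun p hp => by
    rw [certFullE7.tchar_padv hrk, hwe]
    simp only [← _root_.zpow_mul]
    rw [zpow_sum_eq]
    congr 1
    have hzero : ∀ i : Fin 7, ¬ (i = 1 ∨ i = 4 ∨ i = 6) → ev i = 0 := by
      intro i hi
      rw [hev]
      fin_cases i <;> simp_all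
    rw [Finset.sum_eq_single p]
    · rw [certFullE7.simple_eq (show (p : ℕ) < chevE7.rank from p.2),
        show certFullE7.T.cartan p (certFullE7.T.simple p) = Cart p p from rfl, cart_col p hp p hp, if_pos rfl]
      ring
    · intro i _ hi
      by_cases hi' : i = 1 ∨ i = 4 ∨ i = 6
      · rw [certFullE7.simple_eq (show (p : ℕ) < chevE7.rank from p.2),
          show certFullE7.T.cartan i (certFullE7.T.simple p) = Cart i p from rfl, cart_col p hp i hi', if_neg hi,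
          mul_zero]
      · rw [hzero i hi', zero_mul]
    · simp
  have hevJ : ∀ p : Fin 7, (p = 1 ∨ p = 4 ∨ p = 6) →
      ev p ∈ [1, (q : ℤ), (q : ℤ) ^ 2] := by
    rintro p (rfl | rfl | rfl) <;> simp [hev]
  have hsep : ∀ p : Fin 7, (p = 1 ∨ p = 4 ∨ p = 6) → ∀ p' : Fin 7, (p' = 1 ∨ p' = 4 ∨ p' = 6) →
      certFullE7.tchar (padv 7 we) (chevE7.simple p) ≠ (certFullE7.tchar (padv 7 we) (chevE7.simple p'))⁻¹ := by
    intro p hp p' hp' h
    rw [hval p hp, hval p' hp', eq_inv_iff_mul_eq_one, ← _root_.zpow_add,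
      ← orderOf_dvd_iff_zpow_eq_one, hζ] at h
    push_cast at h
    exact not_dvd_exp (by exact_mod_cast hq) _ (hevJ p hp) _ (hevJ p' hp') h
  -- a generator
  obtain ⟨gen, hgen⟩ := hKc'.exists_generator
  obtain ⟨γ, hγ⟩ : ∃ γ, γ = padv 7 (gen : Fin 7 → Lˣ) := ⟨_, rfl⟩
  have hall : ∀ w : Fin 7 → Lˣ, mpow A7 w = w ^ q → ∃ i : ℤ,
      padv 7 w = γ ^ i := fun w hw => by
    obtain ⟨i, hi⟩ := Subgroup.mem_zpowers_iff.1 (hgen ⟨w, (hmemK w).2 hw⟩)
    exact ⟨i, by rw [hγ, ← map_zpow, ← Subgroup.coe_zpow, hi]⟩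
  have hpowz : ∀ (i : ℤ) (s : ℕ), certFullE7.tchar (γ ^ i) s = certFullE7.tchar γ s ^ i := fun i s => by
    rw [Cert.tchar, Cert.tchar, ← Finset.prod_zpow]
    refine Finset.prod_congr rfl fun k _ => ?_
    rw [Pi.pow_apply, ← _root_.zpow_mul, ← _root_.zpow_mul, mul_comm]
  have hfixK : ∀ M : List ℕ, (∀ s < chevE7.nroots, certFullE7.tchar γ (certFullE7.wl M s) = certFullE7.tchar γ s) →
      ∀ w : Fin 7 → Lˣ, mpow A7 w = w ^ q → ∀ s < chevE7.nroots,
        certFullE7.tchar (padv 7 w) (certFullE7.wl M s) = certFullE7.tchar (padv 7 w) s := fun M hM w hw s hs => by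
    obtain ⟨i, hi⟩ := hall w hw
    rw [hi, hpowz, hpowz, hM s hs]
  have hzero : ∀ s < chevE7.nroots, wt s = 0 → ∃ p : Fin 7, (p = 1 ∨ p = 4 ∨ p = 6) ∧
      (s = chevE7.simple p ∨ s = chevE7.neg (chevE7.simple p)) := by
    intro s hs h0
    have hsimp : ∀ p : Fin 7, chevE7.simple p = certFullE7.T.simple p ∧
        chevE7.neg (chevE7.simple p) = certFullE7.T.neg (certFullE7.T.simple p) := fun p => by
      have hp : (p : ℕ) < chevE7.rank := p.2
      exact ⟨certFullE7.simple_eq hp, by rw [certFullE7.neg_eq (certFullE7.simple_lt hp), certFullE7.simple_eq hp]⟩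
    rcases (wt_facts s hs).1 h0 with e | e | e | e | e | e
    exacts [⟨1, by simp, Or.inl (e.trans (hsimp 1).1.symm)⟩,
      ⟨4, by simp, Or.inl (e.trans (hsimp 4).1.symm)⟩,
      ⟨6, by simp, Or.inl (e.trans (hsimp 6).1.symm)⟩,
      ⟨1, by simp, Or.inr (e.trans (hsimp 1).2.symm)⟩,
      ⟨4, by simp, Or.inr (e.trans (hsimp 4).2.symm)⟩,
      ⟨6, by simp, Or.inr (e.trans (hsimp 6).2.symm)⟩]
  have hwtneg : ∀ s < chevE7.nroots, wt (chevE7.neg s) = -wt s := fun s hs => by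
    simp only [wt]
    rw [certFullE7.vec_neg hs (show 0 < chevE7.rank by decide), certFullE7.vec_neg hs (show 2 < chevE7.rank by decide),
      certFullE7.vec_neg hs (show 3 < chevE7.rank by decide), certFullE7.vec_neg hs (show 5 < chevE7.rank by decide)]
    ring
  have hreg : ∀ s < chevE7.nroots, certFullE7.tchar γ s ≠ 1 := by
    intro s hs h1
    have hone : ∀ w : Fin 7 → Lˣ, mpow A7 w = w ^ q → certFullE7.tchar (padv 7 w) s = 1 := fun w hw => by
      obtain ⟨i, hi⟩ := hall w hw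
      rw [hi, hpowz, h1, _root_.one_zpow]
    obtain ⟨M, hM, hMs, hMfix⟩ := certFullE7.exists_reflection (F := L) hs
    have h := hweight M hM (hMfix _ (hone _ hzK)) s hs
    rw [hMs, hwtneg s hs] at h
    obtain ⟨p, hp, hs'⟩ := hzero s hs (by omega)
    have h2 : certFullE7.tchar (padv 7 we) (chevE7.simple p) = 1 := by
      rcases hs' with rfl | rfl
      · exact hone _ hweK
      · have := hone _ hweK
        rwa [certFullE7.tchar_negRoot _ (certFullE7.simple_lt (show (p : ℕ) < chevE7.rank from p.2)), inv_eq_one]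
          at this
    exact hsep p hp p hp (by rw [h2, inv_one])
  have hCH : ∀ Y ∈ chevE7.group L, Commute Y (certFullE7.torus γ) → Y ∈ chevE7.diagonalSubgroup L := by
    intro Y hY hYc
    refine certFullE7.mem_H_of_commute_of_pos hreg (fun M hM heq p hp => ?_) hY hYc
    have hs := certFullE7.simple_lt hp
    have hfixw := hfixK M heq
    have hw := hweight M hM (fun i => hfixw _ hzK _ (certFullE7.simple_lt i.2)) _ hs
    refine ⟨?_, certFullE7.wl_lt hM hs⟩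
    by_cases h0 : wt (chevE7.simple p) = 0
    · rw [h0] at hw
      obtain ⟨j, hj, hj'⟩ := hzero _ hs h0
      obtain ⟨j', hj1, hj1'⟩ := hzero _ (certFullE7.wl_lt hM hs) hw
      have hjr : (j : ℕ) < chevE7.rank := j.2
      have hj1r : (j' : ℕ) < chevE7.rank := j'.2
      rcases hj1' with e | e
      · rw [e]; exact (certFullE7.pos_simple hj1r).1
      · exfalso
        rcases hj' with e' | e'
        · have := hfixw _ hweK _ hs
          rw [e, e', certFullE7.tchar_negRoot _ (certFullE7.simple_lt hj1r)] at this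
          exact hsep j hj j' hj1 this.symm
        · have h1 := certFullE7.pos_simple hp
          rw [e'] at h1
          exact (certFullE7.not_pos_iff (certFullE7.simple_lt hjr)).2 h1 (certFullE7.pos_simple hjr)
    · refine (wt_facts _ (certFullE7.wl_lt hM hs)).2 ?_
      rw [hw]
      have hnn : 0 ≤ wt (chevE7.simple p) := by
        simp only [wt]
        rw [certFullE7.vec_simple hp (show 0 < chevE7.rank by decide),
          certFullE7.vec_simple hp (show 2 < chevE7.rank by decide),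
          certFullE7.vec_simple hp (show 3 < chevE7.rank by decide),
          certFullE7.vec_simple hp (show 5 < chevE7.rank by decide)]
        split_ifs <;> norm_num
      omega
  obtain ⟨H, hH1, hH2, hH3⟩ := certFullE7.exists_selfcentralizing hμι hμφ hφ hrk hΦ hinj hk' TorusE6.nbr7
    hrange hKc hKN hd (fun Y hY hYc => hCH Y hY (hγ ▸ hYc _ ((hmemK _).1 gen.2)))
  exact ⟨H, hH1, hN ▸ hH2, hH3⟩

theorem exists_torus {F : Type*} [Field F] [Fintype F] (q : ℕ) (hF : Fintype.card F = q) :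
    ∃ H : Subgroup ↥(chevE7.group F), IsCyclic ↥H ∧
      Nat.card ↥H = (q ^ 4 - q ^ 2 + 1) * (q ^ 3 + 1) / Nat.gcd 2 (q - 1) ∧
      Subgroup.centralizer (H : Set ↥(chevE7.group F)) = H := by
  obtain ⟨p, hp⟩ := CharP.exists F
  obtain ⟨k, hpp, hk⟩ := FiniteField.card F p
  haveI : Fact p.Prime := ⟨hpp⟩
  haveI : NeZero (12 : ℕ) := ⟨by norm_num⟩
  letI : Fintype (FiniteField.Extension F p 12) := Fintype.ofFinite _
  haveI : CharP (FiniteField.Extension F p 12) p :=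
    charP_of_injective_ringHom (algebraMap F (FiniteField.Extension F p 12)).injective p
  have hq : 2 ≤ q := hF ▸ Fintype.one_lt_card
  obtain ⟨r, hr, hrd⟩ := Nat.exists_prime_and_dvd (n := q ^ 4 - q ^ 2 + 1) (by
    have h1 : q ^ 2 * 4 ≤ q ^ 2 * q ^ 2 := Nat.mul_le_mul_left _ (by nlinarith)
    rw [← pow_add, show (2 : ℕ) + 2 = 4 from rfl] at h1
    have : 0 < q ^ 2 := by positivity
    omega)
  haveI : Fact r.Prime := ⟨hr⟩
  have hsub : q ^ 2 ≤ q ^ 4 := Nat.pow_le_pow_right (by omega) (by norm_num)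
  have hr' : (r : ℤ) ∣ (Polynomial.cyclotomic 12 ℤ).eval (q : ℤ) := by
    rw [eval_twelve]
    have h := Int.natCast_dvd_natCast.2 hrd
    push_cast [Nat.cast_sub hsub] at h
    exact h
  refine exists_torus_of_ext (algebraMap F (FiniteField.Extension F p 12)) hF
    (iterateFrobenius (FiniteField.Extension F p 12) p k)
    (fun t => by rw [iterateFrobenius_def, ← hk, hF]) ?_ hr' (TorusE6.thirteen_le hr')
  rw [← Nat.card_eq_fintype_card, FiniteField.natCard_extension, Nat.card_eq_fintype_card, hF]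

end Cfsg.Agent.Lie.Chev.TorusE7
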