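import Cfsg.Agent.Lib.Lie.Chev.Order
import Cfsg.Agent.Lib.Lie.Chev.Subfield

/-! Endomorphisms of a Chevalley group permuting the root subgroups, and their fixed elements. -/

set_option autoImplicit false

namespace Cfsg.Agent.Lie.Chev

open Cfsg.Lie Matrix

/-- A homomorphism sending `x_r(t)` to `x_{ρ r}(ε_r φ_r(t))`, respecting the fundamental roots. -/
structure Twist {D : ChevalleyDatum} (c : CertFull D) (F : Type*) [Field F] where
  ρ : ℕ → ℕ
  τ : ℕ → ℕ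
  τ' : ℕ → ℕ
  ε : ℕ → ℤ
  φ : ℕ → (F →+* F)
  σ : ↥(D.group F) →* GL D.Idx F
  τ_lt : ∀ p < D.rank, τ p < D.rank
  τ'_lt : ∀ p < D.rank, τ' p < D.rank
  τ'_τ : ∀ p < D.rank, τ' (τ p) = p
  τ_τ' : ∀ p < D.rank, τ (τ' p) = p
  ρ_simple : ∀ p < D.rank, ρ (D.simple p) = D.simple (τ p)
  ρ_lt : ∀ r < D.nroots, ρ r < D.nroots
  ρ_pos : ∀ r, c.Pos r → c.Pos (ρ r)
  ρ_neg : ∀ r < D.nroots, ρ (D.neg r) = D.neg (ρ r)
  ρ_inj : ∀ r < D.nroots, ∀ s < D.nroots, ρ r = ρ s → r = s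
  ρ_w : ∀ p < D.rank, ∀ s < D.nroots, ρ (c.w p s) = c.w (τ p) (ρ s)
  ε_sq : ∀ r < D.nroots, ε r * ε r = 1
  ε_simple : ∀ p < D.rank, ε (D.simple p) = 1 ∧ ε (D.neg (D.simple p)) = 1
  φ_neg_simple : ∀ p < D.rank, φ (D.neg (D.simple p)) = φ (D.simple p)
  σ_xg : ∀ r (hr : r < D.nroots) (t : F),
    σ ⟨c.xg r t, c.xg_mem_group hr t⟩ = c.xg (ρ r) ((ε r : F) * φ r t)

namespace Twist

variable {D : ChevalleyDatum} {c : CertFull D} {F : Type*} [Field F] (T : Twist c F)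

open Classical in
/-- The homomorphism, extended by `1` outside the group. -/
noncomputable def act (g : GL D.Idx F) : GL D.Idx F :=
  if h : g ∈ D.group F then T.σ ⟨g, h⟩ else 1

/-- The fixed elements. -/
def fix : Subgroup (GL D.Idx F) :=
  (T.σ.eqLocus (D.group F).subtype).map (D.group F).subtype

theorem act_eq {g : GL D.Idx F} (h : g ∈ D.group F) : T.act g = T.σ ⟨g, h⟩ := dif_pos h

theorem mem_fix {g : GL D.Idx F} : g ∈ T.fix ↔ g ∈ D.group F ∧ T.act g = g := by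
  constructor
  · intro hg
    obtain ⟨x, hx, rfl⟩ := Subgroup.mem_map.1 hg
    exact ⟨x.2, (T.act_eq x.2).trans hx⟩
  · rintro ⟨h, e⟩
    exact Subgroup.mem_map.2 ⟨⟨g, h⟩, (T.act_eq h).symm.trans e, rfl⟩

theorem fix_le_group : T.fix ≤ D.group F := fun _ h => (T.mem_fix.1 h).1

theorem act_one : T.act 1 = 1 := by
  rw [T.act_eq (one_mem _)]
  exact map_one T.σ

theorem act_mul {g h : GL D.Idx F} (hg : g ∈ D.group F) (hh : h ∈ D.group F) :
    T.act (g * h) = T.act g * T.act h := by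
  rw [T.act_eq hg, T.act_eq hh, T.act_eq (mul_mem hg hh), ← map_mul]
  rfl

theorem act_inv {g : GL D.Idx F} (hg : g ∈ D.group F) : T.act g⁻¹ = (T.act g)⁻¹ := by
  rw [T.act_eq hg, T.act_eq (inv_mem hg), ← map_inv]
  rfl

theorem act_list_prod : ∀ L : List (GL D.Idx F), (∀ g ∈ L, g ∈ D.group F) →
    T.act L.prod = (L.map T.act).prod
  | [], _ => T.act_one
  | g :: L, h => by
    rw [List.prod_cons, List.map_cons, List.prod_cons,
      T.act_mul (h g (by simp)) (Subgroup.list_prod_mem _ fun k hk => h k (by simp [hk])),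
      act_list_prod L fun k hk => h k (by simp [hk])]

theorem act_xg {r : ℕ} (hr : r < D.nroots) (t : F) :
    T.act (c.xg r t) = c.xg (T.ρ r) ((T.ε r : F) * T.φ r t) := by
  rw [T.act_eq (c.xg_mem_group hr t), T.σ_xg r hr t]

include T in
theorem eq_τ'_of_τ {p q : ℕ} (hp : p < D.rank) (h : T.τ p = q) : p = T.τ' q := by
  rw [← h, T.τ'_τ p hp]

theorem not_pos_ρ {r : ℕ} (hr : r < D.nroots) (h : ¬ c.Pos r) : ¬ c.Pos (T.ρ r) := by
  have h1 := T.ρ_pos _ ((c.not_pos_iff hr).1 h)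
  rw [T.ρ_neg r hr] at h1
  exact fun h2 => (c.not_pos_iff (T.ρ_lt r hr)).2 h1 h2

theorem pos_ρ_iff {r : ℕ} (hr : r < D.nroots) : c.Pos (T.ρ r) ↔ c.Pos r :=
  ⟨fun h => by_contra fun hn => T.not_pos_ρ hr hn h, T.ρ_pos r⟩

theorem ε_cast_sq {r : ℕ} (hr : r < D.nroots) : (T.ε r : F) * (T.ε r : F) = 1 := by
  rw [← Int.cast_mul, T.ε_sq r hr, Int.cast_one]

theorem act_ng_simple {p : ℕ} (hp : p < D.rank) (t : F) :
    T.act (c.ng (D.simple p) t) = c.ng (D.simple (T.τ p)) (T.φ (D.simple p) t) := by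
  have hα := c.simple_lt hp
  have hn := c.neg_lt hα
  obtain ⟨e1, e2⟩ := T.ε_simple p hp
  rw [Cert.ng, T.act_mul (mul_mem (c.xg_mem_group hα _) (c.xg_mem_group hn _))
    (c.xg_mem_group hα _), T.act_mul (c.xg_mem_group hα _) (c.xg_mem_group hn _),
    T.act_xg hα, T.act_xg hn, T.ρ_neg _ hα, T.ρ_simple p hp, T.φ_neg_simple p hp, e1, e2]
  simp [Cert.ng, map_inv₀]

theorem act_np {p : ℕ} (hp : p < D.rank) : T.act (c.np F p) = c.np F (T.τ p) := by
  rw [Cert.np, T.act_ng_simple hp, map_one, Cert.np]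

theorem act_nw : ∀ {L : List ℕ}, (∀ p ∈ L, p < D.rank) →
    T.act (c.nw F L) = c.nw F (L.map T.τ)
  | [], _ => by simpa using T.act_one
  | p :: L, hL => by
    have hL' : ∀ q ∈ L, q < D.rank := fun q hq => hL q (by simp [hq])
    rw [Cert.nw_cons, T.act_mul (c.np_mem_group (hL p (by simp))) (c.N_le_group (c.nw_mem_N hL')),
      T.act_np (hL p (by simp)), act_nw hL', List.map_cons, Cert.nw_cons]

theorem map_τ_lt {L : List ℕ} (hL : ∀ p ∈ L, p < D.rank) : ∀ p ∈ L.map T.τ, p < D.rank := by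
  intro p hp
  obtain ⟨q, hq, rfl⟩ := List.mem_map.1 hp
  exact T.τ_lt q (hL q hq)

theorem wl_map_τ : ∀ {L : List ℕ}, (∀ p ∈ L, p < D.rank) → ∀ {s : ℕ}, s < D.nroots →
    c.wl (L.map T.τ) (T.ρ s) = T.ρ (c.wl L s)
  | [], _, _, _ => rfl
  | p :: L, hL, s, hs => by
    have hL' : ∀ q ∈ L, q < D.rank := fun q hq => hL q (by simp [hq])
    rw [List.map_cons, Cert.wl_cons, Cert.wl_cons, wl_map_τ hL' hs,
      T.ρ_w p (hL p (by simp)) _ (c.wl_lt hL' hs)]

theorem act_hg_simple {p : ℕ} (hp : p < D.rank) (t : F) :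
    T.act (c.hg (D.simple p) t) = c.hg (D.simple (T.τ p)) (T.φ (D.simple p) t) := by
  have hN : ∀ u : F, c.ng (D.simple p) u ∈ D.group F := fun u =>
    mul_mem (mul_mem (c.xg_mem_group (c.simple_lt hp) _)
      (c.xg_mem_group (c.neg_lt (c.simple_lt hp)) _)) (c.xg_mem_group (c.simple_lt hp) _)
  rw [Cert.hg, T.act_mul (hN _) (hN _), T.act_ng_simple hp, T.act_ng_simple hp]
  simp [Cert.hg]

/-- The action on the parameters of the torus. -/
noncomputable def zAct : (ℕ → Fˣ) →* (ℕ → Fˣ) where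
  toFun z j := if j < D.rank then Units.map (T.φ (D.simple (T.τ' j)) : F →* F) (z (T.τ' j)) else 1
  map_one' := by funext j; simp
  map_mul' z w := by funext j; by_cases h : j < D.rank <;> simp [h]

theorem zAct_apply (z : ℕ → Fˣ) {j : ℕ} (hj : j < D.rank) :
    ((T.zAct z j : Fˣ) : F) = T.φ (D.simple (T.τ' j)) (z (T.τ' j)) := by
  simp [zAct, hj]

theorem act_torus (z : ℕ → Fˣ) : T.act (c.torus z) = c.torus (T.zAct z) := by
  classical
  have hcongr : ∀ {y y' : ℕ → Fˣ}, (∀ j < D.rank, y j = y' j) → c.torus y = c.torus y' := by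
    intro y y' h
    rw [Cert.torus_apply, Cert.torus_apply]
    refine dg_ext D F fun u _ => ?_
    exact Finset.prod_congr rfl fun i hi => by rw [h i (Finset.mem_range.1 hi)]
  have hmem : ∀ i < D.rank, ∀ u : Fˣ, c.hg (D.simple i) (u : F) ∈ D.group F := fun i hi u =>
    c.B_le_group (c.H_le_B (c.hg_mem (c.simple_lt hi) u.ne_zero))
  have hsingle : ∀ i < D.rank, ∀ u : Fˣ,
      c.hg (D.simple i) (u : F) = c.torus (Pi.mulSingle i u) := by
    intro i hi u
    rw [c.hg_eq_torus (c.simple_lt hi)]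
    refine hcongr fun j hj => ?_
    rw [(c.linear_node hi).2 j hj, Pi.mulSingle_apply]
    by_cases h : i = j
    · rw [if_pos h, if_pos h.symm, zpow_one]
    · rw [if_neg h, if_neg (Ne.symm h), zpow_zero]
  have key : ∀ i < D.rank,
      T.act (c.torus (Pi.mulSingle i (z i))) = c.torus (T.zAct (Pi.mulSingle i (z i))) := by
    intro i hi
    rw [← hsingle i hi, T.act_hg_simple hi]
    have e : T.φ (D.simple i) (z i : F) =
        ((Units.map (T.φ (D.simple i) : F →* F) (z i) : Fˣ) : F) := rfl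
    rw [e, hsingle _ (T.τ_lt i hi)]
    refine hcongr fun j hj => Units.ext ?_
    rw [T.zAct_apply _ hj, Pi.mulSingle_apply]
    by_cases h : j = T.τ i
    · subst h
      rw [if_pos rfl, T.τ'_τ i hi, Pi.mulSingle_eq_same]
      rfl
    · rw [if_neg h, Pi.mulSingle_eq_of_ne (fun e => h (by rw [← e, T.τ_τ' j hj])), Units.val_one,
        map_one]
  have hz : c.torus z = c.torus (∏ i ∈ Finset.range D.rank, Pi.mulSingle i (z i)) := by
    refine hcongr fun j hj => ?_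
    rw [Finset.prod_apply, Finset.prod_eq_single j]
    · simp
    · intro b _ hb; simp [Ne.symm hb]
    · simp [hj]
  have hprod : ∀ s : Finset ℕ, (∀ i ∈ s, i < D.rank) →
      T.act (c.torus (∏ i ∈ s, Pi.mulSingle i (z i))) =
        c.torus (T.zAct (∏ i ∈ s, Pi.mulSingle i (z i))) := by
    intro s
    induction s using Finset.induction_on with
    | empty => intro _; simpa using T.act_one
    | insert i s hi ih =>
      intro h
      rw [Finset.prod_insert hi, map_mul,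
        T.act_mul (c.B_le_group (c.H_le_B (c.torus_mem _))) (c.B_le_group (c.H_le_B (c.torus_mem _))),
        key i (h i (Finset.mem_insert_self i s)), ih fun j hj => h j (Finset.mem_insert_of_mem hj),
        ← map_mul, ← map_mul]
  rw [hz, hprod _ fun i hi => Finset.mem_range.1 hi]
  refine hcongr fun j hj => Units.ext ?_
  rw [T.zAct_apply _ hj, T.zAct_apply _ hj, Finset.prod_apply,
    Finset.prod_eq_single (T.τ' j)]
  · simp
  · intro b _ hb; simp [Ne.symm hb]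
  · intro h; exact absurd (Finset.mem_range.2 (T.τ'_lt j hj)) h

theorem act_mem_H {g : GL D.Idx F} (hg : g ∈ D.diagonalSubgroup F) :
    T.act g ∈ D.diagonalSubgroup F := by
  rw [c.diagonalSubgroup_eq] at hg
  obtain ⟨z, rfl⟩ := hg
  rw [T.act_torus]
  exact c.torus_mem _

theorem act_mem_KS {S S' : Set ℕ} (hS : ∀ r ∈ S, c.Pos r) (hmap : ∀ r ∈ S, T.ρ r ∈ S')
    {g : GL D.Idx F} (hg : g ∈ c.KS F S c.T.h) : T.act g ∈ c.KS F S' c.T.h := by
  have hle : c.KS F S c.T.h ≤ D.group F := (Subgroup.closure_le _).2 fun x ⟨r, t, hr, _, e⟩ =>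
    e ▸ c.xg_mem_group (hS r hr).2 t
  induction hg using Subgroup.closure_induction with
  | mem g hg =>
    obtain ⟨r, t, hr, -, rfl⟩ := hg
    rw [T.act_xg (hS r hr).2]
    exact c.xg_mem_KS (hmap r hr) (T.ρ_pos r (hS r hr)).1 _
  | one => rw [T.act_one]; exact one_mem _
  | mul a b ha hb iha ihb => rw [T.act_mul (hle ha) (hle hb)]; exact mul_mem iha ihb
  | inv a ha iha => rw [T.act_inv (hle ha)]; exact inv_mem iha

theorem act_mem_U {g : GL D.Idx F} (hg : g ∈ D.posUnipotent F) :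
    T.act g ∈ D.posUnipotent F := by
  have hle : D.posUnipotent F ≤ D.group F := le_sup_left.trans c.B_le_group
  induction hg using Subgroup.closure_induction with
  | mem g hg =>
    obtain ⟨r, t, hr, e⟩ := hg
    obtain rfl := c.eq_xg_iff.1 e
    have hr' := c.posRoot_iff.1 hr
    rw [T.act_xg hr'.2]
    exact c.xg_mem_U (T.ρ_pos r hr') _
  | one => rw [T.act_one]; exact one_mem _
  | mul a b ha hb iha ihb => rw [T.act_mul (hle ha) (hle hb)]; exact mul_mem iha ihb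
  | inv a ha iha => rw [T.act_inv (hle ha)]; exact inv_mem iha

theorem act_mem_B {g : GL D.Idx F} (hg : g ∈ D.borelSubgroup F) :
    T.act g ∈ D.borelSubgroup F := by
  obtain ⟨u, hu, a, ha, rfl⟩ := c.mem_borel_iff.1 hg
  rw [T.act_mul (c.B_le_group (Subgroup.mem_sup_left hu)) (c.B_le_group (c.H_le_B ha))]
  exact mul_mem (Subgroup.mem_sup_left (T.act_mem_U hu)) (c.H_le_B (T.act_mem_H ha))

/-- The fixed part of the Borel subgroup is a product. -/
theorem borel_fix {g : GL D.Idx F} (hg : g ∈ D.borelSubgroup F ⊓ T.fix) :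
    ∃ u ∈ D.posUnipotent F ⊓ T.fix, ∃ a ∈ D.diagonalSubgroup F ⊓ T.fix, g = u * a := by
  obtain ⟨hB, hF⟩ := Subgroup.mem_inf.1 hg
  obtain ⟨hG, hact⟩ := T.mem_fix.1 hF
  obtain ⟨u, hu, a, ha, rfl⟩ := c.mem_borel_iff.1 hB
  have huG := c.B_le_group (Subgroup.mem_sup_left hu : u ∈ D.borelSubgroup F)
  have haG := c.B_le_group (c.H_le_B ha)
  rw [T.act_mul huG haG] at hact
  have h1 : u⁻¹ * T.act u = a * (T.act a)⁻¹ := by
    rw [eq_mul_inv_iff_mul_eq, mul_assoc, hact, inv_mul_cancel_left]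
  have h2 := c.U_inf_H.le (Subgroup.mem_inf.2
    ⟨mul_mem (inv_mem hu) (T.act_mem_U hu), h1 ▸ mul_mem ha (inv_mem (T.act_mem_H ha))⟩)
  rw [Subgroup.mem_bot] at h2
  have hu' : T.act u = u := (inv_mul_eq_one.1 h2).symm
  have ha' : T.act a = a := by rw [h1, mul_inv_eq_one] at h2; exact h2.symm
  exact ⟨u, Subgroup.mem_inf.2 ⟨hu, T.mem_fix.2 ⟨huG, hu'⟩⟩, a,
    Subgroup.mem_inf.2 ⟨ha, T.mem_fix.2 ⟨haG, ha'⟩⟩, rfl⟩

/-- The words whose permutation commutes with `ρ`. -/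
def Comm (L : List ℕ) : Prop := ∀ s < D.nroots, c.wl L (T.ρ s) = T.ρ (c.wl L s)

theorem ρ_mem_invSet {L : List ℕ} (hL : ∀ p ∈ L, p < D.rank) (hC : T.Comm L) {r : ℕ}
    (hr : r ∈ c.invSet L) : T.ρ r ∈ c.invSet L :=
  ⟨T.ρ_pos r hr.1, by rw [hC r hr.1.2]; exact T.not_pos_ρ (c.wl_lt hL hr.1.2) hr.2⟩

/-- Bruhat normal form of a fixed element. -/
theorem fix_bruhat {g : GL D.Idx F} (hg : g ∈ T.fix) :
    ∃ b ∈ D.borelSubgroup F, ∃ L : List ℕ, (∀ p ∈ L, p < D.rank) ∧ T.Comm L ∧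
      ∃ u ∈ c.KS F (c.invSet L) c.T.h, g = b * c.nw F L * u := by
  obtain ⟨hG, hact⟩ := T.mem_fix.1 hg
  obtain ⟨b, hb, a, ha, L, hL, u, hu, rfl⟩ := c.bruhat_exists hG
  refine ⟨b * a, mul_mem hb (c.H_le_B ha), L, hL, ?_, u, hu, by simp [mul_assoc]⟩
  have hbG := c.B_le_group hb
  have haG := c.B_le_group (c.H_le_B ha)
  have hnG := c.N_le_group (c.nw_mem_N (F := F) hL)
  have huG := c.B_le_group (Subgroup.mem_sup_left (c.KS_invSet_le_U hL hu) :
    u ∈ D.borelSubgroup F)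
  rw [T.act_mul (mul_mem hbG (mul_mem haG hnG)) huG, T.act_mul hbG (mul_mem haG hnG),
    T.act_mul haG hnG, T.act_nw hL] at hact
  have hL' := T.map_τ_lt hL
  have h1 := c.bruhat_unique (T.act_mem_B hb) hb
    (mul_mem (Subgroup.mem_sup_left (T.act_mem_H ha)) (c.nw_mem_N hL'))
    (mul_mem (Subgroup.mem_sup_left ha) (c.nw_mem_N hL))
    (T.act_mem_U (c.KS_invSet_le_U hL hu)) (c.KS_invSet_le_U hL hu) hact
  set n' := T.act a * c.nw F (L.map T.τ) with hn'
  have hn'N : n' ∈ D.monomialSubgroup F :=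
    mul_mem (Subgroup.mem_sup_left (T.act_mem_H ha)) (c.nw_mem_N hL')
  have e : a * c.nw F L =
      (n' * (n'⁻¹ * (a * c.nw F L)) * n'⁻¹ * T.act a) * c.nw F (L.map T.τ) := by
    rw [hn']; group
  intro s hs
  rw [c.wl_eq_of_eq ha (mul_mem (c.N_conj_H hn'N h1) (T.act_mem_H ha)) hL hL' e (T.ρ_lt s hs),
    T.wl_map_τ hL hs]

/-- The factors of a fixed element with fixed monomial part are fixed. -/
theorem fix_factors {b u : GL D.Idx F} (hb : b ∈ D.borelSubgroup F) {L : List ℕ}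
    (hL : ∀ p ∈ L, p < D.rank) (hC : T.Comm L) (hn : T.act (c.nw F L) = c.nw F L)
    (hu : u ∈ c.KS F (c.invSet L) c.T.h) (hg : b * c.nw F L * u ∈ T.fix) :
    b ∈ T.fix ∧ u ∈ T.fix := by
  obtain ⟨hG, hact⟩ := T.mem_fix.1 hg
  have hbG := c.B_le_group hb
  have hnG := c.N_le_group (c.nw_mem_N (F := F) hL)
  have huG := c.B_le_group (Subgroup.mem_sup_left (c.KS_invSet_le_U hL hu) :
    u ∈ D.borelSubgroup F)
  rw [T.act_mul (mul_mem hbG hnG) huG, T.act_mul hbG hnG, hn] at hact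
  obtain ⟨h1, h2⟩ := c.bruhat_unique_factors (one_mem _) hL (T.act_mem_B hb) hb
    (T.act_mem_KS (fun r hr => hr.1) (fun r hr => T.ρ_mem_invSet hL hC hr) hu) hu
    (by simpa using hact)
  exact ⟨T.mem_fix.2 ⟨hbG, h1⟩, T.mem_fix.2 ⟨huG, h2⟩⟩

end Twist

end Cfsg.Agent.Lie.Chev
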