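import Cfsg.Agent.Lib.Lie.Chev.TwistGroup

/-! The (B, N)-pair of a twisted group. -/

set_option autoImplicit false

namespace Cfsg.Agent.Lie.Chev

open Cfsg.Lie Matrix

namespace Twist

variable {D : ChevalleyDatum} {c : CertFull D} {F : Type*} [Field F] {T : Twist c F}

namespace Datum

variable (Y : Datum T)

include Y in
/-- Splitting a fixed unipotent element along an orbit. -/
theorem keep_split {J : List ℕ} (hJ : J ∈ Y.W.Jw) {u : GL D.Idx F}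
    (hu : u ∈ D.posUnipotent F ⊓ T.fix) :
    ∃ v ∈ c.KS F (c.keepSet J) c.T.h ⊓ T.fix, ∃ w ∈ c.KS F (c.invSet J) c.T.h ⊓ T.fix,
      u = v * w := by
  obtain ⟨-, hlt, hC, -⟩ := Y.W.J_spec hJ
  obtain ⟨v, hv, w, hw, e⟩ := c.exists_mul_KS (c.keepSet_closed hlt) (c.invSet_closed hlt)
    (fun r hr => (em (c.Pos (c.wl J r))).imp (fun h => ⟨hr, h⟩) fun h => ⟨hr, h⟩)
    _ c.T.h rfl le_rfl u (by rw [← c.posUnipotent_eq]; exact hu.1)
  have hU : ∀ {S : Set ℕ}, c.IsClosed S → ∀ {x : GL D.Idx F}, x ∈ c.KS F S c.T.h → x ∈ D.group F :=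
    fun hS _ hx => c.B_le_group (Subgroup.mem_sup_left (c.KS_le_U hS _ hx))
  have hvG := hU (c.keepSet_closed hlt) hv
  have hwG := hU (c.invSet_closed hlt) hw
  have hkeep : ∀ r ∈ c.keepSet J, T.ρ r ∈ c.keepSet J := fun r hr =>
    ⟨T.ρ_pos r hr.1, by rw [hC r hr.1.2]; exact T.ρ_pos _ hr.2⟩
  have hact := (T.mem_fix.1 hu.2).2
  rw [e, T.act_mul hvG hwG] at hact
  have hav := T.act_mem_KS (fun r hr => hr.1) hkeep hv
  have haw := T.act_mem_KS (fun r hr => hr.1) (fun r hr => T.ρ_mem_invSet hlt hC hr) hw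
  have h1 : v⁻¹ * T.act v = w * (T.act w)⁻¹ := by
    rw [eq_mul_inv_iff_mul_eq, mul_assoc, hact, inv_mul_cancel_left]
  have h2 := (c.KS_inf_eq_bot (c.keepSet_closed hlt) (c.invSet_closed hlt)
    (fun r h h' => h'.2 h.2)).le
    (Subgroup.mem_inf.2 ⟨mul_mem (inv_mem hv) hav, h1 ▸ mul_mem hw (inv_mem haw)⟩)
  rw [Subgroup.mem_bot] at h2
  have hv' : T.act v = v := (inv_mul_eq_one.1 h2).symm
  have hw' : T.act w = w := by rw [h1, mul_inv_eq_one] at h2; exact h2.symm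
  exact ⟨v, ⟨hv, T.mem_fix.2 ⟨hvG, hv'⟩⟩, w, ⟨hw, T.mem_fix.2 ⟨hwG, hw'⟩⟩, e⟩

include Y in
theorem nJ_sq {J : List ℕ} (hJ : J ∈ Y.W.Jw) :
    c.nw F J * c.nw F J ∈ D.diagonalSubgroup F ⊓ T.fix := by
  obtain ⟨-, hlt, -, -, -, hinv, -⟩ := Y.W.J_spec hJ
  refine ⟨?_, mul_mem (Y.nw_J_fix hJ) (Y.nw_J_fix hJ)⟩
  rw [← c.nw_append]
  refine c.nw_mem_H (fun p hp => (List.mem_append.1 hp).elim (hlt p) (hlt p)) fun q hq => ?_
  rw [c.wl_append, hinv _ (c.simple_lt hq)]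
  exact c.pos_simple hq

theorem conj_inv_mem_U {S : Set ℕ} (hS : ∀ r ∈ S, c.Pos r) {L : List ℕ}
    (hL : ∀ p ∈ L, p < D.rank) (hpos : ∀ r ∈ S, c.Pos (c.wl L.reverse r)) {x : GL D.Idx F}
    (hx : x ∈ c.KS F S c.T.h) : (c.nw F L)⁻¹ * x * c.nw F L ∈ D.posUnipotent F := by
  induction hx using Subgroup.closure_induction with
  | mem x hx =>
    obtain ⟨r, t, hr, -, rfl⟩ := hx
    have hLr : ∀ p ∈ L.reverse, p < D.rank := fun p hp => hL p (List.mem_reverse.1 hp)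
    have hs := c.wl_lt hLr (hS r hr).2
    have e := c.nw_mul_xg hL hs ((c.wsign L (c.wl L.reverse r) : F) * t)
    rw [← mul_assoc, c.wsign_sq, one_mul, c.wl_reverse hL (hS r hr).2] at e
    rw [mul_assoc, ← e, inv_mul_cancel_left]
    exact c.xg_mem_U (hpos r hr) _
  | one => simp [one_mem]
  | mul x y _ _ hx hy =>
    have := mul_mem hx hy
    simpa [mul_assoc] using this
  | inv x _ hx =>
    have := inv_mem hx
    simpa [mul_assoc] using this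

include Y in
/-- The double-coset condition when the orbit stays positive. -/
theorem mul_mem_pos {J : List ℕ} (hJ : J ∈ Y.W.Jw) {L : List ℕ} (hL : ∀ p ∈ L, p < D.rank)
    (hLf : c.nw F L ∈ T.fix) (hpos : ∀ p ∈ J, c.Pos (c.wl L.reverse (D.simple p)))
    {b : GL D.Idx F} (hb : b ∈ D.borelSubgroup F ⊓ T.fix) :
    ∃ x ∈ D.borelSubgroup F ⊓ T.fix, ∃ y ∈ D.borelSubgroup F ⊓ T.fix,
      c.nw F J * b * c.nw F L = x * (c.nw F J * c.nw F L) * y := by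
  obtain ⟨-, hlt, -, -, -, -, hsup⟩ := Y.W.J_spec hJ
  obtain ⟨u, hu, a, ha, rfl⟩ := T.borel_fix hb
  obtain ⟨v, hv, w, hw, rfl⟩ := Y.keep_split hJ hu
  have hLr : ∀ p ∈ L.reverse, p < D.rank := fun p hp => hL p (List.mem_reverse.1 hp)
  have hposS : ∀ r ∈ c.invSet J, c.Pos (c.wl L.reverse r) := by
    intro r hr
    rw [c.pos_iff_code (c.wl_lt hLr hr.1.2), c.code_wl hLr hr.1.2]
    have hterm : ∀ i ∈ Finset.range D.rank,
        0 ≤ c.T.vec r i * c.T.code (c.wl L.reverse (D.simple i)) := by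
      intro i hi
      rw [Finset.mem_range] at hi
      by_cases h0 : c.T.vec r i = 0
      · rw [h0, zero_mul]
      · exact mul_nonneg ((c.vec_nonneg hr.1.2 hr.1.1).1 i hi)
          ((c.pos_iff_code (c.wl_lt hLr (c.simple_lt hi))).1 (hpos i (hsup r hr i hi h0))).le
    obtain ⟨j, hj, hvj⟩ := c.exists_vec_pos hr.1
    exact Finset.sum_pos' hterm ⟨j, Finset.mem_range.2 hj, mul_pos hvj
      ((c.pos_iff_code (c.wl_lt hLr (c.simple_lt hj))).1 (hpos j (hsup r hr j hj hvj.ne')))⟩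
  have hx : c.nw F J * v * (c.nw F J)⁻¹ ∈ D.posUnipotent F := by
    simpa using c.conj_keep_mem_U (one_mem _) hlt hv.1
  have hy : (c.nw F L)⁻¹ * w * c.nw F L ∈ D.posUnipotent F :=
    conj_inv_mem_U (fun r hr => hr.1) hL hposS hw.1
  have hz : (c.nw F L)⁻¹ * a * c.nw F L ∈ D.diagonalSubgroup F := by
    simpa using c.N_conj_H (inv_mem (c.nw_mem_N hL)) ha.1
  refine ⟨_, Subgroup.mem_inf.2 ⟨Subgroup.mem_sup_left hx, T.fix.mul_mem
    (T.fix.mul_mem (Y.nw_J_fix hJ) hv.2) (T.fix.inv_mem (Y.nw_J_fix hJ))⟩, _,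
    Subgroup.mem_inf.2 ⟨(D.borelSubgroup F).mul_mem (Subgroup.mem_sup_left hy) (c.H_le_B hz),
      T.fix.mul_mem (T.fix.mul_mem (T.fix.mul_mem (T.fix.inv_mem hLf) hw.2) hLf)
        (T.fix.mul_mem (T.fix.mul_mem (T.fix.inv_mem hLf) ha.2) hLf)⟩,
    by group⟩

variable [Finite F]

/-- The double-coset condition. -/
theorem mul_mem_fix {J : List ℕ} (hJ : J ∈ Y.W.Jw) {L : List ℕ} (hL : ∀ p ∈ L, p < D.rank)
    (hC : T.Comm L) (hLf : c.nw F L ∈ T.fix) {b : GL D.Idx F}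
    (hb : b ∈ D.borelSubgroup F ⊓ T.fix) :
    ∃ x ∈ D.borelSubgroup F ⊓ T.fix, ∃ y ∈ D.borelSubgroup F ⊓ T.fix,
      c.nw F J * b * c.nw F L = x * (c.nw F J * c.nw F L) * y ∨
      c.nw F J * b * c.nw F L = x * c.nw F L * y := by
  have hLr : ∀ p ∈ L.reverse, p < D.rank := fun p hp => hL p (List.mem_reverse.1 hp)
  by_cases hpos : ∀ p ∈ J, c.Pos (c.wl L.reverse (D.simple p))
  · obtain ⟨x, hx, y, hy, e⟩ := Y.mul_mem_pos hJ hL hLf hpos hb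
    exact ⟨x, hx, y, hy, Or.inl e⟩
  obtain ⟨-, hlt, hCJ, horb, hJneg, hinv, hsup⟩ := Y.W.J_spec hJ
  push Not at hpos
  obtain ⟨q, hqJ, hneg⟩ := hpos
  have hCr : T.Comm L.reverse := fun s hs => by
    refine c.wl_inj hL (c.wl_lt hLr (T.ρ_lt s hs)) (T.ρ_lt _ (c.wl_lt hLr hs)) ?_
    rw [c.wl_reverse hL (T.ρ_lt s hs), hC _ (c.wl_lt hLr hs), c.wl_reverse hL hs]
  have hall : ∀ p ∈ J, ¬ c.Pos (c.wl L.reverse (D.simple p)) := by
    intro p hp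
    obtain ⟨k, rfl⟩ := horb p hp q hqJ
    have : ∀ k, (T.τ)^[k] q < D.rank ∧
        ¬ c.Pos (c.wl L.reverse (D.simple ((T.τ)^[k] q))) := by
      intro k
      induction k with
      | zero => exact ⟨hlt q hqJ, hneg⟩
      | succ k ih =>
        rw [Function.iterate_succ_apply']
        refine ⟨T.τ_lt _ ih.1, ?_⟩
        rw [← T.ρ_simple _ ih.1, hCr _ (c.simple_lt ih.1)]
        exact T.not_pos_ρ (c.wl_lt hLr (c.simple_lt ih.1)) ih.2
    exact (this k).2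
  -- the word `J ++ L` is positive on the orbit
  set L' := J ++ L with hL'
  have hL'lt : ∀ p ∈ L', p < D.rank := fun p hp => (List.mem_append.1 hp).elim (hlt p) (hL p)
  have hL'f : c.nw F L' ∈ T.fix := by rw [c.nw_append]; exact mul_mem (Y.nw_J_fix hJ) hLf
  have hpos' : ∀ p ∈ J, c.Pos (c.wl L'.reverse (D.simple p)) := by
    intro p hp
    have hα := c.simple_lt (hlt p hp)
    have hJr : c.wl J.reverse (D.simple p) = c.wl J (D.simple p) := by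
      have := hinv _ (c.wl_lt (fun p hp => hlt p (List.mem_reverse.1 hp)) hα)
      rw [c.wl_reverse hlt hα] at this
      exact this.symm
    rw [hL', List.reverse_append, c.wl_append, hJr]
    have hx := c.wl_lt hlt hα
    have hmem : D.neg (c.wl J (D.simple p)) ∈ c.invSet J := by
      refine ⟨(c.not_pos_iff hx).1 (hJneg p hp), ?_⟩
      rw [c.wl_neg hlt hx, hinv _ hα]
      exact fun h => (c.not_pos_iff hα).2 h (c.pos_simple (hlt p hp))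
    have h3 := FixedWeyl.root_mem_invSet_pos hLr hmem.1 (hsup _ hmem) hall
    rw [c.wl_neg hLr hx] at h3
    by_contra h4
    exact h3 ((c.not_pos_iff (c.wl_lt hLr hx)).1 h4)
  have hsq := Y.nJ_sq hJ
  set k := c.nw F J * c.nw F J with hk
  have hkB : k ∈ D.borelSubgroup F ⊓ T.fix := ⟨c.H_le_B hsq.1, hsq.2⟩
  set z := c.nw F J * b * (c.nw F J)⁻¹ with hz
  have hzfix : z ∈ T.fix :=
    T.fix.mul_mem (T.fix.mul_mem (Y.nw_J_fix hJ) hb.2) (T.fix.inv_mem (Y.nw_J_fix hJ))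
  have hzeq : c.nw F J * b * c.nw F L = z * c.nw F L' := by
    rw [hz, c.nw_append]; group
  obtain ⟨x, hx, K, hK, y, hy, e⟩ := orbit_mul hlt (fun p hp => hp) hb.1 (fun p hp => hp)
  have ez : z = x * c.nw F K * (y * k⁻¹) := by
    rw [hz, hk, ← mul_assoc (x * c.nw F K), ← e]; group
  rcases Y.parabolic_fix hJ hzfix hK hx (mul_mem hy (inv_mem (c.H_le_B hsq.1))) ez with h | h
  · exact ⟨z, h, 1, one_mem _, Or.inl (by rw [mul_one, hzeq, c.nw_append])⟩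
  · obtain ⟨x', hx', y', hy', e'⟩ := h
    obtain ⟨x'', hx'', y'', hy'', e''⟩ := Y.mul_mem_pos hJ hL'lt hL'f hpos' hy'
    refine ⟨x' * x'' * k, mul_mem (mul_mem hx' hx'') hkB, y'', hy'', Or.inr ?_⟩
    rw [hzeq, e', mul_assoc x' (c.nw F J), mul_assoc x', e'', c.nw_append, hk]
    group

/-- The monomial fixed elements. -/
theorem exists_N_fix {n : GL D.Idx F} (hn : n ∈ D.monomialSubgroup F ⊓ T.fix) :
    ∃ a ∈ D.diagonalSubgroup F ⊓ T.fix, ∃ i < Y.W.N, n = a * c.nw F (Y.W.wd i) := by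
  obtain ⟨a, ha, L, hL, e⟩ := c.mem_monomial_iff.1 hn.1
  obtain ⟨b, hb, i, hi, u, hu, e'⟩ := Y.exists_bruhat_fix hn.2
  obtain ⟨hw, -, -⟩ := Y.wd_spec hi
  have hs : c.Same L (Y.W.wd i) := c.same_of_coset hL hw (c.H_le_B ha) (one_mem _) hb.1
    (Subgroup.mem_sup_left (c.KS_invSet_le_U hw hu.1)) (by rw [mul_one, ← e, e'])
  obtain ⟨k, hk, ek⟩ := c.exists_H_mul_of_same (F := F) hL hw hs
  refine ⟨a * k, ⟨mul_mem ha hk, ?_⟩, i, hi, by rw [e, ek, mul_assoc]⟩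
  rw [show a * k = n * (c.nw F (Y.W.wd i))⁻¹ by rw [e, ek]; group]
  exact T.fix.mul_mem hn.2 (T.fix.inv_mem (Y.nw_wd_fix hi))

/-- The representative of an orbit. -/
def gen {J : List ℕ} (hJ : J ∈ Y.W.Jw) : Y.G₁ := ⟨c.nw F J, Y.n_mem J hJ⟩

theorem exists_ne_one {J : List ℕ} (hJ : J ∈ Y.W.Jw) :
    ∃ x ∈ c.KS F (c.invSet J) c.T.h ⊓ T.fix, x ≠ 1 := by
  obtain ⟨hne, hlt, hC, -, hJneg, -, -⟩ := Y.W.J_spec hJ
  obtain ⟨p, hp⟩ := List.exists_mem_of_ne_nil J hne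
  haveI : Nonempty (c.invSet J) := ⟨⟨D.simple p, c.pos_simple (hlt p hp), hJneg p hp⟩⟩
  haveI : Finite (c.invSet J) :=
    Set.Finite.to_subtype ((Set.finite_Iio D.nroots).subset fun r hr => hr.1.2)
  have hcard := (Y.G.card_fix_KS Y.lifts (c.invSet_closed hlt) (invSet_stable hlt hC)).2
  by_contra hall
  push Not at hall
  have hbot : c.KS F (c.invSet J) c.T.h ⊓ T.fix = ⊥ :=
    eq_bot_iff.2 fun x hx => Subgroup.mem_bot.2 (hall x hx)
  rw [hbot, Subgroup.card_bot, one_pow] at hcard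
  have := Finite.one_lt_card (α := F)
  exact (Nat.one_lt_pow Nat.card_pos.ne' this).ne hcard

/-- The (B, N)-pair. -/
def bnPair : Cfsg.BNPair ↥Y.G₁ where
  B := (D.borelSubgroup F ⊓ Y.G₁).subgroupOf Y.G₁
  N := (D.monomialSubgroup F ⊓ Y.G₁).subgroupOf Y.G₁
  S := {n : ↥Y.G₁ | ∃ J ∈ Y.W.Jw, (n : GL D.Idx F) = c.nw F J}
  sup_eq_top := by
    rw [eq_top_iff]
    intro g _
    obtain ⟨b, hb, i, hi, u, hu, e⟩ := Y.exists_bruhat_fix (Y.le_fix g.2)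
    have hu' : u ∈ D.borelSubgroup F ⊓ T.fix :=
      ⟨Subgroup.mem_sup_left (c.KS_invSet_le_U (Y.wd_spec hi).1 hu.1), hu.2⟩
    obtain rfl : g = ⟨b, Y.B_fix_le hb⟩ * ⟨c.nw F (Y.W.wd i), Y.nw_wd_mem hi⟩ *
        ⟨u, Y.B_fix_le hu'⟩ := Subtype.ext e
    exact mul_mem (mul_mem (Subgroup.mem_sup_left ⟨hb.1, Y.B_fix_le hb⟩)
      (Subgroup.mem_sup_right ⟨c.nw_mem_N (Y.wd_spec hi).1, Y.nw_wd_mem hi⟩))
      (Subgroup.mem_sup_left ⟨hu'.1, Y.B_fix_le hu'⟩)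
  conj_mem := by
    intro n hn t ht
    obtain ⟨htB, htN⟩ := Subgroup.mem_inf.1 ht
    have hH := c.B_inf_N.le (Subgroup.mem_inf.2 ⟨htB.1, htN.1⟩)
    exact ⟨c.H_le_B (c.N_conj_H hn.1 hH), (n * t * n⁻¹ : ↥Y.G₁).2⟩
  subset := by
    rintro n ⟨J, hJ, h⟩
    refine ⟨?_, n.2⟩
    show (n : GL D.Idx F) ∈ _
    rw [h]
    exact c.nw_mem_N (Y.W.J_spec hJ).2.1
  sq_mem := by
    rintro n ⟨J, hJ, h⟩
    refine ⟨?_, (n * n : ↥Y.G₁).2⟩
    show (n : GL D.Idx F) * n ∈ _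
    rw [h]
    exact c.H_le_B (Y.nJ_sq hJ).1
  inj := by
    rintro n ⟨J, hJ, h⟩ m ⟨J', hJ', h'⟩ hB
    obtain ⟨hne, hlt, -, -, hJneg, -, -⟩ := Y.W.J_spec hJ
    obtain ⟨-, hlt', -, -, -, -, hsup'⟩ := Y.W.J_spec hJ'
    have hB' : (c.nw F J)⁻¹ * c.nw F J' ∈ D.borelSubgroup F := by
      have := hB.1
      simpa [h, h'] using this
    have hs : c.Same J J' := c.same_of_coset hlt hlt' (one_mem _) hB' (one_mem _) (one_mem _)
      (by group)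
    obtain ⟨p, hp⟩ := List.exists_mem_of_ne_nil J hne
    have hpl := hlt p hp
    have hmem : D.simple p ∈ c.invSet J' := ⟨c.pos_simple hpl, hs p hpl ▸ hJneg p hp⟩
    have hp' := hsup' _ hmem p hpl (by rw [c.vec_simple hpl hpl, if_pos rfl]; exact one_ne_zero)
    exact Subtype.ext (by rw [h, h', Y.disjoint J hJ J' hJ' p hp hp'])
  closure_sup := by
    refine le_antisymm (sup_le ((Subgroup.closure_le _).2 ?_) inf_le_right) fun g hg => ?_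
    · rintro n ⟨J, hJ, h⟩
      refine ⟨?_, n.2⟩
      show (n : GL D.Idx F) ∈ _
      rw [h]
      exact c.nw_mem_N (Y.W.J_spec hJ).2.1
    · obtain ⟨a, ha, i, hi, e⟩ := Y.exists_N_fix ⟨hg.1, Y.le_fix g.2⟩
      obtain rfl : g = ⟨a, Y.H_le ha⟩ * ⟨c.nw F (Y.W.wd i), Y.nw_wd_mem hi⟩ := Subtype.ext e
      refine mul_mem (Subgroup.mem_sup_right ⟨⟨c.H_le_B ha.1, Y.H_le ha⟩,
        ⟨Subgroup.mem_sup_left ha.1, Y.H_le ha⟩⟩) (Subgroup.mem_sup_left ?_)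
      have hw := (Y.W.step_spec i hi).1
      suffices ∀ w : List ℕ, (∀ j ∈ w, j < Y.W.Jw.length) →
          ∃ h : c.nw F (flatW Y.W.Jw w) ∈ Y.G₁, (⟨_, h⟩ : ↥Y.G₁) ∈ Subgroup.closure
            {n : ↥Y.G₁ | ∃ J ∈ Y.W.Jw, (n : GL D.Idx F) = c.nw F J} by
        obtain ⟨_, h⟩ := this _ hw
        exact h
      intro w
      induction w with
      | nil => intro _; exact ⟨one_mem _, one_mem _⟩
      | cons j w ih =>
        intro hw
        obtain ⟨h1, h2⟩ := ih fun k hk => hw k (by simp [hk])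
        have hJ := Y.W.getD_mem (hw j (by simp))
        have e : c.nw F (flatW Y.W.Jw (j :: w)) =
            c.nw F (Y.W.Jw.getD j []) * c.nw F (flatW Y.W.Jw w) := by
          rw [← c.nw_append]; simp [flatW]
        refine ⟨e ▸ mul_mem (Y.n_mem _ hJ) h1, ?_⟩
        rw [show (⟨c.nw F (flatW Y.W.Jw (j :: w)), _⟩ : ↥Y.G₁) =
          ⟨_, Y.n_mem _ hJ⟩ * ⟨_, h1⟩ from Subtype.ext e]
        exact mul_mem (Subgroup.subset_closure ⟨_, hJ, rfl⟩) h2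
  mul_mem_union := by
    rintro n ⟨J, hJ, h⟩ m hm b hb
    obtain ⟨a, ha, i, hi, e'⟩ := Y.exists_N_fix ⟨hm.1, Y.le_fix m.2⟩
    have e : (m : GL D.Idx F) = a * c.nw F (Y.W.wd i) := e'
    obtain ⟨hw, hC, -⟩ := Y.wd_spec hi
    have hJN := c.nw_mem_N (F := F) (Y.W.J_spec hJ).2.1
    have hbB : (b : GL D.Idx F) * a ∈ D.borelSubgroup F ⊓ T.fix :=
      ⟨mul_mem hb.1 (c.H_le_B ha.1), mul_mem (Y.le_fix b.2) ha.2⟩
    obtain ⟨x, hx, y, hy, h'⟩ := Y.mul_mem_fix hJ hw hC (Y.nw_wd_fix hi) hbB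
    simp only [Set.mem_union, DoubleCoset.mem_doubleCoset]
    rcases h' with h' | h'
    · have hk : c.nw F J * a⁻¹ * (c.nw F J)⁻¹ ∈ D.diagonalSubgroup F ⊓ T.fix :=
        ⟨c.N_conj_H hJN ((D.diagonalSubgroup F).inv_mem ha.1), T.fix.mul_mem
          (T.fix.mul_mem (Y.nw_J_fix hJ) (T.fix.inv_mem ha.2)) (T.fix.inv_mem (Y.nw_J_fix hJ))⟩
      have hx' : x * (c.nw F J * a⁻¹ * (c.nw F J)⁻¹) ∈ D.borelSubgroup F ⊓ T.fix :=
        mul_mem hx ⟨c.H_le_B hk.1, hk.2⟩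
      refine Or.inl ⟨⟨_, Y.B_fix_le hx'⟩, ⟨hx'.1, Y.B_fix_le hx'⟩, ⟨y, Y.B_fix_le hy⟩,
        ⟨hy.1, Y.B_fix_le hy⟩, Subtype.ext ?_⟩
      show (n : GL D.Idx F) * b * m =
        x * (c.nw F J * a⁻¹ * (c.nw F J)⁻¹) * (n * m) * y
      calc (n : GL D.Idx F) * b * m = c.nw F J * (b * a) * c.nw F (Y.W.wd i) := by
            rw [h, e]; group
        _ = _ := by rw [h', h, e]; group
    · have hx' : x * a⁻¹ ∈ D.borelSubgroup F ⊓ T.fix :=
        mul_mem hx ⟨c.H_le_B (inv_mem ha.1), T.fix.inv_mem ha.2⟩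
      refine Or.inr ⟨⟨_, Y.B_fix_le hx'⟩, ⟨hx'.1, Y.B_fix_le hx'⟩, ⟨y, Y.B_fix_le hy⟩,
        ⟨hy.1, Y.B_fix_le hy⟩, Subtype.ext ?_⟩
      show (n : GL D.Idx F) * b * m = x * a⁻¹ * m * y
      calc (n : GL D.Idx F) * b * m = c.nw F J * (b * a) * c.nw F (Y.W.wd i) := by
            rw [h, e]; group
        _ = _ := by rw [h', e]; group
  conj_ne := by
    rintro n ⟨J, hJ, h⟩ heq
    obtain ⟨x, hx, hne⟩ := Y.exists_ne_one hJ
    obtain ⟨-, hlt, -⟩ := Y.W.J_spec hJ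
    have hxB : x ∈ D.borelSubgroup F ⊓ T.fix :=
      ⟨Subgroup.mem_sup_left (c.KS_invSet_le_U hlt hx.1), hx.2⟩
    have h1 : n * ⟨x, Y.B_fix_le hxB⟩ * n ∈
        ((D.borelSubgroup F ⊓ Y.G₁).subgroupOf Y.G₁ : Set ↥Y.G₁) :=
      heq ▸ ⟨⟨x, Y.B_fix_le hxB⟩, ⟨hxB.1, Y.B_fix_le hxB⟩, rfl⟩
    have h2 : c.nw F J * x * c.nw F J ∈ D.borelSubgroup F := by
      have := h1.1
      simpa [h] using this
    have h3 : c.nw F J * x * (c.nw F J)⁻¹ ∈ D.borelSubgroup F := by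
      rw [show c.nw F J * x * (c.nw F J)⁻¹ =
        c.nw F J * x * c.nw F J * (c.nw F J * c.nw F J)⁻¹ by group]
      exact mul_mem h2 (inv_mem (c.H_le_B (Y.nJ_sq hJ).1))
    have h4 : c.nw F J * x * (c.nw F J)⁻¹ ∈ D.negUnipotent F := by
      simpa using c.conj_inv_mem_V (one_mem _) hlt hx.1
    have h5 := c.borel_inf_negUnipotent.1.le ⟨h3, h4⟩
    rw [Subgroup.mem_bot, conj_eq_one_iff] at h5
    exact hne h5

end Datum

end Twist

end Cfsg.Agent.Lie.Chev
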