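/- The special isogeny of type B2 and the elements of the Weyl group commuting with it. -/
import Cfsg.Agent.Lib.Lie.Chev.TwistIso
import Cfsg.Agent.Lib.Lie.Chev.TwistGraph
import Cfsg.Agent.Lib.Lie.Chev.TwistWeyl
import Cfsg.Agent.Lib.Lie.Chev.CertsFull

set_option autoImplicit false
set_option maxRecDepth 20000

namespace Cfsg.Agent.Lie.Chev

open Cfsg.Lie

/-- The exchange of long and short roots. -/
def isoRhoB2 : List ℕ := [1, 0, 3, 2, 5, 4, 7, 6]

/-- The squared lengths. -/
def isoLenB2 : List ℕ := [2, 1, 1, 2, 2, 1, 1, 2]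

/-- The grading of the positive roots. -/
def isoLvlB2 : List ℕ := [0, 0, 0, 0, 1, 1, 2, 2]

/-- The special isogeny of type B2. -/
def isoB2 : certFullB2.IsoData where
  p := 2
  ρ := lookupN isoRhoB2
  short := fun r => Nat.beq (lookupN isoLenB2 r) 1
  τ := lookupN [1, 0]
  Il := [0, 3, 4, 7, 8]
  Ql := [1, 2, 5, 6, 9]
  wit := [(0, 5), (1, 6)]

theorem isoB2_ok : isoB2.check = true := by decide +kernel

/-- The orbit words. -/
def orbitsB2 : List (List ℕ) := [[0, 1, 0, 1]]

/-- The fixed elements of the Weyl group of type B2. -/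
def twistB2Reps : BT TRep :=
  .node 1
    (.leaf ⟨[], 0, [5, 4], 1029, [], [1]⟩)
    (.leaf ⟨[0], 0, [2, 3], 770, [5, 4, 5, 4], [0]⟩)

/-- Their order by key. -/
def twistB2Order : List ℕ := [1, 0]

theorem orbitsB2_ok :
    certFullB2.T.checkOrbits isoB2.ρ isoB2.τ orbitsB2 = true := by decide +kernel

theorem twistB2Reps_ok :
    certFullB2.T.checkFixedWeyl orbitsB2 twistB2Reps 2 twistB2Order = true := by
  decide +kernel

theorem twistB2_top : ((twistB2Reps.get 1).img.all fun a =>
    Nat.blt a certFullB2.T.h) = true := by decide +kernel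

end Cfsg.Agent.Lie.Chev
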