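import Cfsg.Agent.Lib.Lie.Chev.TwistElliptic
import Cfsg.Agent.Lib.Lie.Chev.TwistF4

/-! In ²F₄(q) an element commuting with an involution has only the primes of `q (q ^ 4 - 1)`. -/

set_option autoImplicit false

namespace Cfsg.Agent.Lie.Chev.F4

open Cfsg.Lie Matrix

variable {K : Type*} [Field K] [Fintype K] [CharP K 2] [ExpChar K 2] (f : K →+* K) {m : ℕ}
  (hf : ∀ t, f t = t ^ 2 ^ m) (hK : Fintype.card K = 2 ^ (2 * m + 1))

include hf hK

theorem card_B_val : Nat.card ↥(datum f hf hK).bnPair.B =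
    (2 ^ (2 * m + 1)) ^ 12 * (2 ^ (2 * m + 1) - 1) ^ 2 := by
  rw [Twist.Datum.card_bnB, Twist.Datum.card_B_fix (T := tw f), card_H f hf hK]
  congr 1
  rw [← (datum f hf hK).eq_fix]
  exact card_U f hf hK

theorem card_invSet_fix {J : List ℕ} (hJ : J ∈ orbitsF4) :
    Nat.card ↥(certFullF4.KS K (certFullF4.invSet J) certFullF4.T.h ⊓ (tw f).fix) ^ 2 =
      (2 ^ (2 * m + 1)) ^ certFullF4.T.invT J := by
  obtain ⟨-, hlt, hC, -⟩ := (weyl f).J_spec hJ
  have h := ((grading f hf hK).card_fix_KS (lifts f hf hK) (certFullF4.invSet_closed hlt)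
    (Twist.Datum.invSet_stable hlt hC)).2
  rw [h, natCard f hf hK, certFullF4.invSet_card, certFullF4.invT_eq hlt]

theorem deg :
    (Nat.card ↥(chevF4.posUnipotent K ⊓ (tw f).fix)).factorization 2 =
      (Nat.card ↥(datum f hf hK).G₁).factorization 2 := by
  obtain ⟨Q, hQ⟩ : ∃ Q, Q = 2 ^ (2 * m + 1) := ⟨_, rfl⟩
  have hQ1 : 1 ≤ Q := hQ ▸ Nat.one_le_two_pow
  have hU : Nat.card ↥(chevF4.posUnipotent K ⊓ (tw f).fix) = Q ^ 12 := by
    rw [← (datum f hf hK).eq_fix, hQ]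
    exact card_U f hf hK
  have hG : Nat.card ↥(datum f hf hK).G₁ =
      Q ^ 12 * ((Q - 1) * (Q ^ 3 + 1) * (Q ^ 4 - 1) * (Q ^ 6 + 1)) := by
    show Nat.card ↥(twistedF4 K (2 ^ m)) = _
    rw [card_group f hf hK, hQ]
    ring
  have heven : Even Q := hQ ▸ (Nat.even_pow' (by omega)).2 even_two
  have hodd : Odd ((Q - 1) * (Q ^ 3 + 1) * (Q ^ 4 - 1) * (Q ^ 6 + 1)) :=
    (((Nat.Even.sub_odd hQ1 heven odd_one).mul
      ((heven.pow_of_ne_zero (by omega)).add_one)).mul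
      (Nat.Even.sub_odd (Nat.one_le_pow _ _ hQ1) (heven.pow_of_ne_zero (by omega)) odd_one)).mul
      ((heven.pow_of_ne_zero (by omega)).add_one)
  rw [hU, hG, Nat.factorization_mul (pow_ne_zero _ (by omega)) hodd.pos.ne', Finsupp.add_apply,
    Nat.factorization_eq_zero_of_not_dvd hodd.not_two_dvd_nat, add_zero]

theorem prime_dvd {a b : ↥(twistedF4 K (2 ^ m))} (ha : orderOf a = 2) (hab : Commute a b) {r : ℕ}
    (hr : r.Prime) (hrb : r ∣ orderOf b) :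
    r ∣ 2 ^ (2 * m + 1) * ((2 ^ (2 * m + 1)) ^ 4 - 1) := by
  haveI := Fact.mk Nat.prime_two
  rcases eq_or_ne r 2 with rfl | hr2
  · exact Dvd.dvd.mul_right (dvd_pow_self 2 (by omega)) _
  obtain ⟨L, hL, hdvd⟩ := Twist.Datum.dvd_orbit (datum f hf hK)
    (L₁ := [0, 3]) (L₂ := [1, 2, 1, 2]) rfl 2 (deg f hf hK) ha hab hr hr2 hrb
  have hLo : L ∈ orbitsF4 := hL
  rw [card_B_val f hf hK] at hdvd
  have hk2 := card_invSet_fix f hf hK hLo
  obtain ⟨k, hk⟩ : ∃ k,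
      k = Nat.card ↥(certFullF4.KS K (certFullF4.invSet L) certFullF4.T.h ⊓ (tw f).fix) :=
    ⟨_, rfl⟩
  rw [← hk] at hk2
  replace hdvd : r ∣ (2 ^ (2 * m + 1)) ^ 12 * (2 ^ (2 * m + 1) - 1) ^ 2 * (1 + k) := hk ▸ hdvd
  obtain ⟨Q, hQ⟩ : ∃ Q, Q = 2 ^ (2 * m + 1) := ⟨_, rfl⟩
  have hQ1 : 1 ≤ Q := hQ ▸ Nat.one_le_two_pow
  rw [← hQ] at hdvd hk2 ⊢
  have hinv := invT_orbits
  simp only [orbitsF4, List.map_cons, List.map_nil, List.cons.injEq, and_true] at hinv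
  have hk' : k = Q ∨ k = Q ^ 2 := by
    simp only [orbitsF4, List.mem_cons, List.not_mem_nil, or_false] at hLo
    rcases hLo with rfl | rfl
    · rw [hinv.1] at hk2
      exact Or.inl (Nat.pow_left_injective two_ne_zero hk2)
    · rw [hinv.2, show Q ^ 4 = (Q ^ 2) ^ 2 by ring] at hk2
      exact Or.inr (Nat.pow_left_injective two_ne_zero hk2)
  obtain ⟨d, hd⟩ := Nat.exists_eq_add_of_le hQ1
  have e : (1 + d) ^ 4 - 1 = d * (d + 2) * (d ^ 2 + 2 * d + 2) :=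
    Nat.sub_eq_of_eq_add (by ring)
  subst hd
  rcases (hr.dvd_mul).1 hdvd with h | h
  · rcases (hr.dvd_mul).1 h with h | h
    · exact (hr.dvd_of_dvd_pow h).mul_right _
    · have h' := hr.dvd_of_dvd_pow h
      rw [Nat.add_sub_cancel_left] at h'
      rw [e]
      exact ((h'.mul_right _).mul_right _).mul_left _
  · rw [e]
    rcases hk' with rfl | rfl
    · exact (((show r ∣ d + 2 by rwa [show d + 2 = 1 + (1 + d) by ring]).mul_left d).mul_right _).mul_left _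
    · exact ((show r ∣ d ^ 2 + 2 * d + 2 by
        rwa [show d ^ 2 + 2 * d + 2 = 1 + (1 + d) ^ 2 by ring]).mul_left _).mul_left _

end Cfsg.Agent.Lie.Chev.F4
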