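import Cfsg.Agent.Lib.Lie.Chev.TwistF4
import Cfsg.Agent.Lib.Lie.Chev.WeylPowers
import Cfsg.Agent.Lib.Grp.SectionAlternating

/-! Alternating sections of the large Ree groups have degree at most six. -/

set_option autoImplicit false
set_option maxRecDepth 4000

namespace Cfsg.Agent.Lie.Chev.F4

open Cfsg.Lie Matrix

/-- The Weyl elements of the twisted group have orders dividing sixteen. -/
theorem weyl_iterate_check :
    ((List.range 16).all fun i => (List.range 48).all fun s =>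
      Nat.beq ((certFullF4.T.wlT (flatW orbitsF4 (twistF4Reps.get i).word))^[16] s) s) = true := by
  decide +kernel

theorem index_not_dvd (m : ℕ) : ¬ 7 ∣ (2 ^ (2 * m + 1)) ^ 12 * ((2 ^ (2 * m + 1)) ^ 3 + 1) *
    ((2 ^ (2 * m + 1)) ^ 3 + (2 ^ (2 * m + 1)) ^ 2 + 2 ^ (2 * m + 1) + 1) *
    ((2 ^ (2 * m + 1)) ^ 6 + 1) := by
  obtain ⟨Q, hQ⟩ : ∃ Q : ℕ, Q = 2 ^ (2 * m + 1) := ⟨_, rfl⟩
  rw [← hQ, ← ZMod.natCast_eq_zero_iff]
  push_cast
  have hcases : (Q : ZMod 7) = 1 ∨ (Q : ZMod 7) = 2 ∨ (Q : ZMod 7) = 4 := by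
    rw [hQ, Nat.cast_pow, ← Nat.div_add_mod (2 * m + 1) 3, pow_add, pow_mul,
      show ((2 : ℕ) : ZMod 7) ^ 3 = 1 by decide, one_pow, one_mul]
    rcases (show (2 * m + 1) % 3 = 0 ∨ (2 * m + 1) % 3 = 1 ∨ (2 * m + 1) % 3 = 2 by omega)
      with h | h | h <;> rw [h] <;> decide
  rcases hcases with h | h | h <;> rw [h] <;> decide

variable {K : Type*} [Field K] [Fintype K] [CharP K 2] [ExpChar K 2] (f : K →+* K) {m : ℕ}
  (hf : ∀ t, f t = t ^ 2 ^ m) (hK : Fintype.card K = 2 ^ (2 * m + 1))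

include hf hK

/-- The sixteenth power of an element normalising a subgroup of the torus centralises it. -/
theorem pow_sixteen {g : GL chevF4.Idx K} (hg : g ∈ twistedF4 K (2 ^ m))
    {R : Subgroup (GL chevF4.Idx K)} (hR : R ≤ chevF4.diagonalSubgroup K)
    (hn : ∀ h ∈ R, g * h * g⁻¹ ∈ R) : ∀ h ∈ R, g ^ 16 * h * (g ^ 16)⁻¹ = h := by
  obtain ⟨b, hb, i, hi, u, hu, rfl⟩ := (datum f hf hK).exists_bruhat_fix
    (le_fix f hf hK hg)
  obtain ⟨hL, -, -⟩ := (datum f hf hK).wd_spec hi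
  refine certFullF4.pow_conj_of_bruhat hL (fun s hs => ?_) hb.1 hu.1 hR hn
  have h := weyl_iterate_check
  simp only [List.all_eq_true, List.mem_range, Nat.beq_eq] at h
  have h16 := h i hi s (by rwa [node_values.2.2.2.2.2.1] at hs)
  rwa [show certFullF4.T.wlT _ = certFullF4.wl _ from funext fun a => certFullF4.wlT_eq _ a] at h16

/-- Alternating sections. -/
theorem alternating_section_le {H : Type*} [Group H] (j : H →* ↥(twistedF4 K (2 ^ m)))
    (hj : Function.Injective j) {r : ℕ} {π : H →* alternatingGroup (Fin r)}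
    (hπ : Function.Surjective π) : r ≤ 6 := by
  obtain ⟨Q, hQ⟩ : ∃ Q, Q = 2 ^ (2 * m + 1) := ⟨_, rfl⟩
  have hQ2 : 2 ≤ Q := hQ ▸ Nat.le_self_pow (by omega) 2
  have hT : ¬ 7 ∣ ((chevF4.diagonalSubgroup K).subgroupOf (twistedF4 K (2 ^ m))).index := by
    intro hd
    have hmul := ((chevF4.diagonalSubgroup K).subgroupOf (twistedF4 K (2 ^ m))).card_mul_index
    rw [← Subgroup.inf_subgroupOf_right, Nat.card_congr
      (Subgroup.subgroupOfEquivOfLe (inf_le_right : _ ⊓ twistedF4 K (2 ^ m) ≤ _)).toEquiv,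
      card_diag f hf hK, card_group f hf hK, ← hQ] at hmul
    obtain ⟨d, hd'⟩ : ∃ d, Q = d + 1 := ⟨Q - 1, by omega⟩
    have e4 : Q ^ 4 - 1 = (Q - 1) * (Q ^ 3 + Q ^ 2 + Q + 1) := by
      rw [hd', Nat.add_sub_cancel]
      exact Nat.sub_eq_of_eq_add (by ring)
    have hidx : ((chevF4.diagonalSubgroup K).subgroupOf (twistedF4 K (2 ^ m))).index =
        Q ^ 12 * (Q ^ 3 + 1) * (Q ^ 3 + Q ^ 2 + Q + 1) * (Q ^ 6 + 1) := by
      refine Nat.eq_of_mul_eq_mul_left (show 0 < (Q - 1) ^ 2 from pow_pos (by omega) 2) ?_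
      rw [Subgroup.inf_subgroupOf_right] at hmul
      rw [hmul, e4]
      ring
    exact index_not_dvd m (hQ ▸ hidx ▸ hd)
  refine Nat.le_of_lt_succ (Grp.SectionAut.degree_lt_seven hT (e := 16) (by norm_num)
    (fun g R hR hn h hh => ?_) j hj hπ)
  refine Subtype.ext ?_
  simp only [Subgroup.coe_mul, Subgroup.coe_inv, SubmonoidClass.coe_pow]
  refine pow_sixteen f hf hK g.2 (R := R.map (twistedF4 K (2 ^ m)).subtype) ?_ ?_ _ ⟨h, hh, rfl⟩
  · rintro _ ⟨a, ha, rfl⟩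
    exact hR ha
  · rintro _ ⟨a, ha, rfl⟩
    exact ⟨_, hn a ha, by simp⟩

end Cfsg.Agent.Lie.Chev.F4
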