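import Cfsg.Agent.Lib.Lie.Chev.TwistF4TwoData

/-! Machine-written certificates for ²F₄(2): a polycyclic basis of a Sylow 2-subgroup, and its
generators as products of commutators modulo one element of order four. -/

set_option autoImplicit false

namespace Cfsg.Agent.Lie.Chev.F4Two

/-- The basis. -/
def basis : List ℕ :=
  [0, 1, 2, 4, 7, 5, 8, 12, 14, 15, 16, 20]

/-- Squares of the basis in terms of the later elements. -/
def basisSq : List (List ℕ) :=
  [[], [4], [12], [], [16], [20], [], [], [], [], [], []]

/-- Conjugates of the basis in terms of the later elements. -/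
def basisConj : List (List (List ℕ)) :=
  [[[1, 2, 7, 8, 14], [2], [4, 7, 5, 8, 12, 14, 15, 16], [7, 12, 14], [5, 12], [8, 14, 15],
  [12], [14], [15], [16, 20], [20]], [[2, 7, 5], [4], [7, 8], [5], [8], [12, 14, 15, 16], [14,
  15, 20], [15, 16], [16], [20]], [[4, 8, 15, 20], [7], [5, 14], [8, 15, 16], [12], [14], [15,
  20], [16], [20]], [[7], [5], [8], [12, 15, 16, 20], [14, 16], [15], [16], [20]], [[5, 15],
  [8], [12], [14, 20], [15], [16], [20]], [[8, 16], [12], [14], [15], [16], [20]], [[12, 20],
  [14], [15], [16], [20]], [[14], [15], [16], [20]], [[15], [16], [20]], [[16], [20]], [[20]],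
  []]

/-- The generators in terms of the basis. -/
def inBasis : List (List ℕ) :=
  [[0], [1], [2], [1, 4], [4], [5], [4], [7], [8], [0], [2, 12], [7, 16], [12], [8], [14], [15],
  [16], [5, 20], [12], [14], [20], [15], [16], [20]]

/-- The generators as products of commutators, possibly times the generator of index one. -/
def inDerived : List (Bool × List (ℕ × ℕ)) :=
  [(false, [(0, 24), (1, 7)]), (true, []), (true, [(2, 25)]), (true, [(0, 5), (12, 25)]),
  (false, [(0, 5), (12, 25)]), (true, [(0, 5), (2, 24), (3, 25)]), (false, [(0, 5), (12, 25)]),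
  (true, [(7, 24), (2, 25)]), (false, [(1, 7)]), (false, [(0, 24), (1, 7)]), (true, [(0, 5), (2,
  25)]), (true, [(0, 5), (2, 24), (2, 25)]), (false, [(0, 5)]), (false, [(1, 7)]), (false, [(2,
  5)]), (false, [(5, 7)]), (false, [(1, 15)]), (true, [(0, 1), (0, 4), (3, 25)]), (false, [(0,
  5)]), (false, [(2, 5)]), (false, [(0, 16)]), (false, [(5, 7)]), (false, [(1, 15)]), (false,
  [(0, 16)])]

/-- Entries detecting that a square is non-trivial. -/
def sqEntries : List (ℕ × ℕ) :=
  [(39, 37), (34, 4), (46, 5), (40, 0), (43, 1)]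

end Cfsg.Agent.Lie.Chev.F4Two
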