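import Cfsg.Agent.Lib.Lie.Chev.TwistF4
import Cfsg.Agent.Lib.Lie.Chev.TwistF4TwoData

/-! Entries of words of root elements of F4 over the field of two elements, and the homomorphism
read off four entries on the matrices of a given zero pattern. -/

set_option autoImplicit false
set_option maxRecDepth 4000

namespace Cfsg.Agent.Lie.Chev.F4Two

open Cfsg.Lie Matrix

/-- The base field. -/
abbrev K₂ : Type := ZMod 2

/- All the structure of the base field is taken from its field structure, as in the group's definition. -/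
noncomputable scoped instance (priority := 1100) commRingBase : CommRing K₂ :=
  (ZMod.instField 2).toCommRing

/-- The element of a word of roots, all parameters one. -/
noncomputable def wd (w : List ℕ) : GL chevF4.Idx K₂ :=
  (w.map fun r => certFullF4.xg r (1 : K₂)).prod

theorem wd_append (v w : List ℕ) : wd (v ++ w) = wd v * wd w := by
  simp [wd]

theorem wd_flatMap (l : List ℕ) (g : ℕ → List ℕ) :
    wd (l.flatMap g) = (l.map fun k => wd (g k)).prod := by
  induction l with
  | nil => rfl
  | cons a l ih => rw [List.flatMap_cons, wd_append, ih, List.map_cons, List.prod_cons]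

/-! ### Entries, by bit vectors -/

/-- Evaluate a number before passing it on. -/
def force {α : Type} (v : ℕ) (k : ℕ → α) : α :=
  match v with
  | 0 => k 0
  | n + 1 => k (n + 1)

theorem force_eq {α : Type} (v : ℕ) (k : ℕ → α) : force v k = k v := by cases v <;> rfl

/-- Apply the root element of a root to a vector given by bits. -/
def bapply (r v : ℕ) : ℕ :=
  force v fun v =>
    (rootCols.getD r []).foldr (fun p acc => bif Nat.testBit v p.1 then Nat.xor acc p.2 else acc) v

/-- The column of a word. -/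
def wcol (w : List ℕ) (j : ℕ) : ℕ := w.foldr bapply (2 ^ j)

/-- The entry of a word. -/
def wbit (w : List ℕ) (i j : ℕ) : Bool := (wcol w j).testBit i

/-- The bits of the odd coefficients. -/
def termBits : List Term → ℕ
  | [] => 0
  | p :: L => bif Nat.beq (p.coef.natAbs % 2) 1 then Nat.xor (2 ^ p.row) (termBits L) else termBits L

/-- The rows of a root element agree with the tables. -/
def checkRoot (r : ℕ) : Bool :=
  (List.range 52).all fun j => Nat.beq (termBits (certFullF4.T.xCol r 0 0 0 1 j)) (bapply r (2 ^ j))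

/-- The value of a bit. -/
def bitVal (v i : ℕ) : K₂ := if v.testBit i then 1 else 0

theorem bitVal_xor (v w i : ℕ) : bitVal (Nat.xor v w) i = bitVal v i + bitVal w i := by
  simp only [bitVal, show Nat.xor v w = v ^^^ w from rfl, Nat.testBit_xor]
  cases v.testBit i <;> cases w.testBit i <;> decide

theorem ev_bits (L : List Term) (a : chevF4.Idx) :
    ev (enum chevF4) (1 : K₂) 1 1 L a = bitVal (termBits L) (enum chevF4 a) := by
  induction L with
  | nil => rw [ev_nil]; simp [termBits, bitVal]
  | cons p L ih =>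
    rw [ev_cons, Pi.add_apply, ih, termBits]
    have hv : p.val (1 : K₂) 1 1 = if p.coef.natAbs % 2 = 1 then 1 else 0 := by
      simp only [Term.val, one_pow, mul_one]
      rcases Int.emod_two_eq_zero_or_one p.coef with h | h
      · have h2 : p.coef.natAbs % 2 = 0 := by omega
        rw [if_neg (by omega), CharP.intCast_eq_zero_iff K₂ 2]
        omega
      · have h2 : p.coef.natAbs % 2 = 1 := by omega
        rw [if_pos h2, ← sub_eq_zero, ← Int.cast_one, ← Int.cast_sub,
          CharP.intCast_eq_zero_iff K₂ 2]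
        omega
    have h2 : bitVal (2 ^ p.row) (enum chevF4 a) = if enum chevF4 a = p.row then 1 else 0 := by
      rw [bitVal, Nat.testBit_two_pow]
      simp [eq_comm]
    by_cases hodd : p.coef.natAbs % 2 = 1
    · rw [show Nat.beq (p.coef.natAbs % 2) 1 = true by rw [Nat.beq_eq]; exact hodd, cond_true, bitVal_xor, h2,
        hv, if_pos hodd]
    · rw [show Nat.beq (p.coef.natAbs % 2) 1 = false by rw [← Bool.not_eq_true, Nat.beq_eq]; exact hodd,
        cond_false, hv, if_neg hodd, ite_self, zero_add]

theorem bapply_xor (r v w : ℕ) :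
    bapply r (Nat.xor v w) = Nat.xor (bapply r v) (bapply r w) := by
  simp only [bapply, force_eq, show Nat.xor v w = v ^^^ w from rfl]
  generalize rootCols.getD r [] = l
  induction l with
  | nil => rfl
  | cons p l ih =>
    simp only [List.foldr_cons]
    rw [ih]
    simp only [show ∀ a b : ℕ, Nat.xor a b = a ^^^ b from fun _ _ => rfl, Nat.testBit_xor]
    cases v.testBit p.1 <;> cases w.testBit p.1 <;>
      simp [Nat.xor_assoc, Nat.xor_comm, Nat.xor_left_comm]

theorem bapply_zero (r : ℕ) : bapply r 0 = 0 := by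
  simp only [bapply, force_eq]
  generalize rootCols.getD r [] = l
  induction l with
  | nil => rfl
  | cons p l ih => rw [List.foldr_cons, Nat.zero_testBit, cond_false, ih]

theorem bapply_lt {r v : ℕ} (h : ∀ p ∈ rootCols.getD r [], p.2 < 2 ^ 52) (hv : v < 2 ^ 52) :
    bapply r v < 2 ^ 52 := by
  simp only [bapply, force_eq]
  revert h
  generalize rootCols.getD r [] = l
  intro h
  induction l with
  | nil => exact hv
  | cons p l ih =>
    simp only [List.foldr_cons]
    cases v.testBit p.1 with
    | false => exact ih fun q hq => h q (by simp [hq])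
    | true => exact Nat.xor_lt_two_pow (ih fun q hq => h q (by simp [hq])) (h p (by simp))

theorem checkRoot_ok : ((List.range 48).all fun r =>
    checkRoot r && (rootCols.getD r []).all fun p => Nat.blt p.2 (2 ^ 52)) = true := by
  decide +kernel

theorem enum_lt' (a : chevF4.Idx) : enum chevF4 a < 52 := by
  have h := enum_lt chevF4 a
  rw [F4.node_values.2.2.2.2.1, F4.node_values.2.2.2.2.2.1] at h
  exact h

/-- The coordinate of a number. -/
def ix (k : ℕ) : chevF4.Idx :=
  if h : k < chevF4.rank then Sum.inl ⟨k, h⟩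
  else Sum.inr ⟨(k - chevF4.rank) % chevF4.nroots,
    Nat.mod_lt _ (by rw [F4.node_values.2.2.2.2.2.1]; omega)⟩

theorem enum_ix {k : ℕ} (hk : k < 52) : enum chevF4 (ix k) = k := by
  have hr : chevF4.rank = 4 := F4.node_values.2.2.2.2.1
  have hn : chevF4.nroots = 48 := F4.node_values.2.2.2.2.2.1
  by_cases h : k < chevF4.rank
  · rw [ix, dif_pos h]; rfl
  · rw [ix, dif_neg h]
    show chevF4.rank + (k - chevF4.rank) % chevF4.nroots = k
    rw [Nat.mod_eq_of_lt (by omega)]
    omega

theorem ix_enum (a : chevF4.Idx) : ix (enum chevF4 a) = a :=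
  enum_injective chevF4 (enum_ix (enum_lt' a))

theorem xg_entry {r : ℕ} (hr : r < 48) (a b : chevF4.Idx) :
    (certFullF4.xg r (1 : K₂) : Matrix chevF4.Idx chevF4.Idx K₂) a b =
      bitVal (bapply r (2 ^ enum chevF4 b)) (enum chevF4 a) := by
  have h := checkRoot_ok
  simp only [checkRoot, List.all_eq_true, List.mem_range, Bool.and_eq_true, Nat.beq_eq] at h
  rw [← (h r hr).1 _ (enum_lt' b), ← ev_bits]
  have e := certFullF4.x_eq_evMat (F := K₂) 1 1 1 r 0 0 0 1 (show r < chevF4.nroots by
    rw [F4.node_values.2.2.2.2.2.1]; exact hr)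
  rw [certFullF4.xg_val]
  have e' : chevF4.x K₂ r 1 = evMat (enum chevF4) (1 : K₂) 1 1 (certFullF4.T.xCol r 0 0 0 1) := by
    rw [e]; simp
  rw [e']
  rfl

theorem mulVec_bits {r : ℕ} (hr : r < 48) : ∀ v : ℕ, v < 2 ^ 52 →
    (certFullF4.xg r (1 : K₂) : Matrix chevF4.Idx chevF4.Idx K₂).mulVec
      (fun b => bitVal v (enum chevF4 b)) = fun a => bitVal (bapply r v) (enum chevF4 a) := by
  intro v
  induction v using Nat.strong_induction_on with
  | _ v ih =>
    intro hlt
    by_cases h0 : v = 0
    · subst h0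
      funext a
      simp [bitVal, bapply_zero, Matrix.mulVec, dotProduct]
    obtain ⟨i, hi⟩ := Nat.exists_testBit_of_ne_zero h0
    obtain ⟨v', hv'⟩ : ∃ v', v' = v ^^^ 2 ^ i := ⟨_, rfl⟩
    have hi52 : i < 52 := by
      by_contra hge
      rw [Nat.testBit_lt_two_pow (lt_of_lt_of_le hlt (Nat.pow_le_pow_right (by omega) (by omega)))]
        at hi
      exact Bool.false_ne_true hi
    have hsplit : v = Nat.xor v' (2 ^ i) := by
      show v = v' ^^^ 2 ^ i
      rw [hv', Nat.xor_assoc, Nat.xor_self, Nat.xor_zero]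
    have hlt' : v' < v := by
      refine Nat.lt_of_testBit i ?_ hi fun j hj => ?_
      · rw [hv', Nat.testBit_xor, hi, Nat.testBit_two_pow_self]; rfl
      · rw [hv', Nat.testBit_xor, Nat.testBit_two_pow_of_ne (by omega), Bool.xor_false]
    have hadd : (fun b : chevF4.Idx => bitVal v (enum chevF4 b)) =
        (fun b => bitVal v' (enum chevF4 b)) + Pi.single (ix i) 1 := by
      funext b
      rw [hsplit, bitVal_xor, Pi.add_apply]
      congr 1
      by_cases hb : b = ix i
      · subst hb
        rw [Pi.single_eq_same, bitVal, enum_ix hi52, Nat.testBit_two_pow_self, if_pos rfl]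
      · rw [Pi.single_eq_of_ne hb, bitVal, Nat.testBit_two_pow_of_ne, if_neg (by simp)]
        intro e
        exact hb (by rw [e, ix_enum])
    rw [hadd, Matrix.mulVec_add, ih v' hlt' (hlt'.trans hlt), Matrix.mulVec_single_one]
    funext a
    rw [Pi.add_apply, Matrix.col_apply, xg_entry hr, enum_ix hi52, ← bitVal_xor, ← bapply_xor,
      ← hsplit]

theorem wcol_lt {w : List ℕ} (hw : ∀ r ∈ w, r < 48) {j : ℕ} (hj : j < 52) :
    wcol w j < 2 ^ 52 := by
  induction w with
  | nil => exact Nat.pow_lt_pow_right (by omega) hj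
  | cons r w ih =>
    have h := checkRoot_ok
    simp only [List.all_eq_true, List.mem_range, Bool.and_eq_true, Nat.blt_eq] at h
    exact bapply_lt (h r (hw r (by simp))).2 (ih fun y hy => hw y (by simp [hy]))

theorem wd_entry {w : List ℕ} (hw : ∀ r ∈ w, r < 48) (a b : chevF4.Idx) :
    (wd w : Matrix chevF4.Idx chevF4.Idx K₂) a b =
      if wbit w (enum chevF4 a) (enum chevF4 b) then 1 else 0 := by
  have key : (wd w : Matrix chevF4.Idx chevF4.Idx K₂).mulVec (Pi.single b 1) =
      fun a => bitVal (wcol w (enum chevF4 b)) (enum chevF4 a) := by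
    induction w with
    | nil =>
      funext a
      simp only [wd, List.map_nil, List.prod_nil, Units.val_one, Matrix.one_mulVec, wcol,
        List.foldr_nil, bitVal, Nat.testBit_two_pow]
      by_cases hab : a = b
      · subst hab; simp
      · rw [Pi.single_eq_of_ne hab, if_neg]
        simp only [decide_eq_true_eq]
        exact fun e => hab (enum_injective chevF4 e.symm)
    | cons r w ih =>
      have hw' : ∀ y ∈ w, y < 48 := fun y hy => hw y (by simp [hy])
      rw [wd, List.map_cons, List.prod_cons, Units.val_mul, ← Matrix.mulVec_mulVec, ← wd, ih hw',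
        mulVec_bits (hw r (by simp)) _ (wcol_lt hw' (enum_lt' b))]
      rfl
  rw [Matrix.mulVec_single_one] at key
  exact congrFun key a

/-- Equality of two words by computation. -/
def eqv (v w : List ℕ) : Bool :=
  (v ++ w).all (fun r => Nat.blt r 48) &&
    (List.range 52).all fun j => Nat.beq (wcol v j) (wcol w j)

theorem wd_eq_of_eqv {v w : List ℕ} (h : eqv v w = true) : wd v = wd w := by
  simp only [eqv, Bool.and_eq_true, List.all_eq_true, Nat.blt_eq, List.mem_range, Nat.beq_eq] at h
  refine Units.ext (Matrix.ext fun a b => ?_)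
  rw [wd_entry (fun r hr => h.1 r (List.mem_append_left _ hr)),
    wd_entry (fun r hr => h.1 r (List.mem_append_right _ hr)), wbit, wbit, h.2 _ (enum_lt' b)]

/-! ### The pattern -/

/-- The allowed entries. -/
def allowed (i j : ℕ) : Bool := Nat.testBit (patRows.getD i 0) j

theorem allowed_facts :
    ((List.range 52).all fun i => allowed i i) = true ∧
    ((List.range 52).all fun i => (List.range 52).all fun j => !allowed i j ||
      ((Nat.beq i j || !allowed j i) &&
        Nat.beq (Nat.land (patRows.getD j 0) (patRows.getD i 0)) (patRows.getD j 0))) = true := by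
  decide +kernel

theorem allowed_trans {i j k : ℕ} (hi : i < 52) (hj : j < 52) (h1 : allowed i j = true)
    (h2 : allowed j k = true) : allowed i k = true := by
  have h := allowed_facts.2
  simp only [List.all_eq_true, List.mem_range] at h
  have h' := h i hi j hj
  rw [h1] at h'
  simp only [Bool.not_true, Bool.false_or, Bool.and_eq_true, Nat.beq_eq] at h'
  have e := h'.2
  rw [allowed, ← e] at h2
  change (Nat.land _ _).testBit k = true at h2
  rw [show Nat.land (patRows.getD j 0) (patRows.getD i 0) =
    patRows.getD j 0 &&& patRows.getD i 0 from rfl, Nat.testBit_and, Bool.and_eq_true] at h2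
  exact h2.2

theorem allowed_antisymm {i j : ℕ} (hi : i < 52) (hj : j < 52) (hne : i ≠ j)
    (h1 : allowed i j = true) : allowed j i = false := by
  have h := allowed_facts.2
  simp only [List.all_eq_true, List.mem_range] at h
  have h' := h i hi j hj
  rw [h1] at h'
  simp only [Bool.not_true, Bool.false_or, Bool.and_eq_true, Bool.or_eq_true, Nat.beq_eq,
    Bool.not_eq_true'] at h'
  exact h'.1.resolve_left hne

/-- An entry by numbers. -/
def en (g : GL chevF4.Idx K₂) (i k : ℕ) : K₂ :=
  (g : Matrix chevF4.Idx chevF4.Idx K₂) (ix i) (ix k)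

/-- The zero pattern. -/
def HasPattern (g : GL chevF4.Idx K₂) : Prop :=
  (∀ a b : chevF4.Idx, allowed (enum chevF4 a) (enum chevF4 b) = false →
    (g : Matrix chevF4.Idx chevF4.Idx K₂) a b = 0) ∧
  ∀ a : chevF4.Idx, (g : Matrix chevF4.Idx chevF4.Idx K₂) a a = 1

theorem HasPattern.mul {g h : GL chevF4.Idx K₂} (hg : HasPattern g) (hh : HasPattern h) :
    HasPattern (g * h) := by
  refine ⟨fun a c hac => ?_, fun a => ?_⟩
  · rw [Units.val_mul, Matrix.mul_apply]
    refine Finset.sum_eq_zero fun b _ => ?_
    cases h1 : allowed (enum chevF4 a) (enum chevF4 b) with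
    | false => rw [hg.1 a b h1, zero_mul]
    | true =>
      cases h2 : allowed (enum chevF4 b) (enum chevF4 c) with
      | false => rw [hh.1 b c h2, mul_zero]
      | true =>
        rw [allowed_trans (enum_lt' a) (enum_lt' b) h1 h2] at hac
        exact absurd hac (by simp)
  · rw [Units.val_mul, Matrix.mul_apply, Finset.sum_eq_single a]
    · rw [hg.2 a, hh.2 a, one_mul]
    · intro b _ hne
      cases h1 : allowed (enum chevF4 a) (enum chevF4 b) with
      | false => rw [hg.1 a b h1, zero_mul]
      | true =>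
        rw [hh.1 b a (allowed_antisymm (enum_lt' a) (enum_lt' b)
          (fun e => hne (enum_injective chevF4 e).symm) h1), mul_zero]
    · exact fun h => absurd (Finset.mem_univ a) h

/-- The intermediate numbers of an entry of a product. -/
def mids (i k : ℕ) : List ℕ := (List.range 52).filter fun j => allowed i j && allowed j k

theorem en_mul {g h : GL chevF4.Idx K₂} (hg : HasPattern g) (hh : HasPattern h) {i k : ℕ}
    (hi : i < 52) (hk : k < 52) {l : List ℕ} (hl : mids i k = l) :
    en (g * h) i k = (l.map fun j => en g i j * en h j k).sum := by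
  classical
  have hnd : l.Nodup := hl ▸ List.nodup_range.filter _
  have hmem : ∀ j, j ∈ l ↔ j < 52 ∧ allowed i j = true ∧ allowed j k = true := fun j => by
    rw [← hl]; simp [mids]
  rw [en, Units.val_mul, Matrix.mul_apply, ← List.sum_toFinset _ hnd]
  symm
  refine Finset.sum_of_injOn ix ?_ (fun _ _ => Finset.mem_coe.2 (Finset.mem_univ _)) ?_
    (fun _ _ => rfl)
  · intro x hx y hy e
    have h1 := ((hmem x).1 (List.mem_toFinset.1 hx)).1
    have h2 := ((hmem y).1 (List.mem_toFinset.1 hy)).1
    rw [← enum_ix h1, ← enum_ix h2, e]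
  · intro b _ hb
    have hb' : enum chevF4 b ∉ l := fun h =>
      hb ⟨_, Finset.mem_coe.2 (List.mem_toFinset.2 h), ix_enum b⟩
    rw [hmem] at hb'
    simp only [enum_lt' b, true_and, not_and, Bool.not_eq_true] at hb'
    cases h1 : allowed i (enum chevF4 b) with
    | false => rw [hg.1 _ b (by rw [enum_ix hi]; exact h1), zero_mul]
    | true => rw [hh.1 b _ (by rw [enum_ix hk]; exact hb' h1), mul_zero]

/-- The relations between entries. -/
def Rel (g : GL chevF4.Idx K₂) : Prop :=
  en g 49 47 = en g 38 37 ∧ en g 50 49 = en g 38 37 ∧ en g 39 38 = en g 38 37 ∧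
  en g 51 50 = en g 40 39 ∧ en g 51 49 = en g 40 38 ∧
  en g 39 37 + en g 50 47 + en g 50 49 = 0

/-- The functional. -/
def chi (g : GL chevF4.Idx K₂) : K₂ := en g 40 37 + en g 50 49 + en g 51 47 + en g 51 49

theorem mids_values :
    mids 38 37 = [37, 38] ∧ mids 49 47 = [47, 49] ∧ mids 50 49 = [49, 50] ∧
    mids 39 38 = [38, 39] ∧ mids 40 39 = [39, 40] ∧ mids 51 50 = [50, 51] ∧
    mids 39 37 = [37, 38, 39] ∧ mids 50 47 = [47, 49, 50] ∧ mids 40 38 = [38, 39, 40] ∧
    mids 51 49 = [49, 50, 51] ∧ mids 40 37 = [37, 38, 39, 40] ∧ mids 51 47 = [47, 49, 50, 51] := by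
  decide +kernel

theorem rel_mul {g h : GL chevF4.Idx K₂} (hg : HasPattern g) (hh : HasPattern h) (rg : Rel g)
    (rh : Rel h) : Rel (g * h) ∧ chi (g * h) = chi g + chi h := by
  obtain ⟨m1, m2, m3, m4, m5, m6, m7, m8, m9, m10, m11, m12⟩ := mids_values
  have d : ∀ (u : GL chevF4.Idx K₂), HasPattern u → ∀ i, en u i i = 1 := fun u hu i => hu.2 _
  have g1 := d g hg
  have h1 := d h hh
  have e1 := en_mul hg hh (by decide) (by decide) m1
  have e2 := en_mul hg hh (by decide) (by decide) m2
  have e3 := en_mul hg hh (by decide) (by decide) m3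
  have e4 := en_mul hg hh (by decide) (by decide) m4
  have e5 := en_mul hg hh (by decide) (by decide) m5
  have e6 := en_mul hg hh (by decide) (by decide) m6
  have e7 := en_mul hg hh (by decide) (by decide) m7
  have e8 := en_mul hg hh (by decide) (by decide) m8
  have e9 := en_mul hg hh (by decide) (by decide) m9
  have e10 := en_mul hg hh (by decide) (by decide) m10
  have e11 := en_mul hg hh (by decide) (by decide) m11
  have e12 := en_mul hg hh (by decide) (by decide) m12
  simp only [List.map_cons, List.map_nil, List.sum_cons, List.sum_nil, add_zero, g1, h1, one_mul,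
    mul_one] at e1 e2 e3 e4 e5 e6 e7 e8 e9 e10 e11 e12
  obtain ⟨a1, a2, a3, a4, a5, a6⟩ := rg
  obtain ⟨b1, b2, b3, b4, b5, b6⟩ := rh
  have two : ∀ x : K₂, x + x = 0 := fun x => CharTwo.add_self_eq_zero x
  unfold Rel chi
  rw [e1, e2, e3, e4, e5, e6, e7, e8, e9, e10, e11, e12, a1, a2, a3, a4, a5, b1, b2, b3]
  refine ⟨⟨rfl, rfl, rfl, ?_, ?_, ?_⟩, ?_⟩
  · rw [b4]
  · rw [b5]
  · rw [a2] at a6; rw [b2] at b6
    linear_combination a6 + b6 + (en g 38 37 * en h 38 37 : K₂) * (CharTwo.two_eq_zero (R := K₂))
  · rw [b2] at b6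
    linear_combination (en g 40 39 : K₂) * b6 +
      (en g 40 38 * en h 38 37 : K₂) * (CharTwo.two_eq_zero (R := K₂))

theorem chi_one : chi (1 : GL chevF4.Idx K₂) = 0 ∧ Rel (1 : GL chevF4.Idx K₂) ∧
    HasPattern (1 : GL chevF4.Idx K₂) := by
  have hen : ∀ i k : ℕ, i < 52 → k < 52 → i ≠ k → en 1 i k = 0 := fun i k hi hk hne => by
    rw [en, Units.val_one, Matrix.one_apply_ne]
    exact fun e => hne (by rw [← enum_ix hi, ← enum_ix hk, e])
  refine ⟨?_, ?_, fun a b hab => ?_, fun a => by simp⟩
  · simp [chi, hen]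
  · simp [Rel, hen]
  · rw [Units.val_one, Matrix.one_apply_ne]
    rintro rfl
    have h := allowed_facts.1
    simp only [List.all_eq_true, List.mem_range] at h
    rw [h _ (enum_lt' a)] at hab
    exact absurd hab (by simp)

/-- The subgroup of the pattern and the relations. -/
def patSubgroup : Subgroup (GL chevF4.Idx K₂) where
  carrier := {g | HasPattern g ∧ Rel g}
  mul_mem' := fun ha hb => ⟨ha.1.mul hb.1, (rel_mul ha.1 hb.1 ha.2 hb.2).1⟩
  one_mem' := ⟨chi_one.2.2, chi_one.2.1⟩
  inv_mem' := fun {a} ha => by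
    have hpow : ∀ n : ℕ, HasPattern (a ^ n) ∧ Rel (a ^ n) := by
      intro n
      induction n with
      | zero => rw [pow_zero]; exact ⟨chi_one.2.2, chi_one.2.1⟩
      | succ n ih => rw [pow_succ]; exact ⟨ih.1.mul ha.1, (rel_mul ih.1 ha.1 ih.2 ha.2).1⟩
    rw [← _root_.zpow_neg_one, ← zpow_mod_natCard]
    have hnn : 0 ≤ (-1 : ℤ) % (Nat.card (GL chevF4.Idx K₂) : ℤ) :=
      Int.emod_nonneg _ (by exact_mod_cast Nat.card_pos.ne')
    rw [← Int.toNat_of_nonneg hnn, zpow_natCast]
    exact hpow _

/-- The homomorphism on the subgroup. -/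
noncomputable def chiHom : ↥patSubgroup →* Multiplicative K₂ where
  toFun g := Multiplicative.ofAdd (chi g)
  map_one' := by
    show Multiplicative.ofAdd (chi 1) = 1
    rw [chi_one.1]
    rfl
  map_mul' g h := by
    show Multiplicative.ofAdd (chi (g.1 * h.1)) = _
    rw [(rel_mul g.2.1 h.2.1 g.2.2 h.2.2).2]
    rfl

theorem chiHom_apply (g : ↥patSubgroup) : chiHom g = Multiplicative.ofAdd (chi g) := rfl

/-- The functional of a word. -/
def chiBit (w : List ℕ) : Bool :=
  xor (xor (xor (wbit w 40 37) (wbit w 50 49)) (wbit w 51 47)) (wbit w 51 49)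

theorem en_wd {w : List ℕ} (hw : ∀ r ∈ w, r < 48) {i k : ℕ} (hi : i < 52) (hk : k < 52) :
    en (wd w) i k = if wbit w i k then 1 else 0 := by
  rw [en, wd_entry hw, enum_ix hi, enum_ix hk]

theorem chi_wd {w : List ℕ} (hw : ∀ r ∈ w, r < 48) :
    chi (wd w) = if chiBit w then 1 else 0 := by
  rw [chi, en_wd hw (by decide) (by decide), en_wd hw (by decide) (by decide),
    en_wd hw (by decide) (by decide), en_wd hw (by decide) (by decide), chiBit]
  generalize wbit w 40 37 = a, wbit w 50 49 = b, wbit w 51 47 = x, wbit w 51 49 = y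
  cases a <;> cases b <;> cases x <;> cases y <;> decide

/-- The pattern and the relations of a word, by computation. -/
def checkPat (w : List ℕ) : Bool :=
  ((List.range 52).all fun j =>
    force (wcol w j) fun col => col.testBit j && (List.range 52).all fun i => allowed i j || !col.testBit i) &&
  (wbit w 49 47 == wbit w 38 37) && (wbit w 50 49 == wbit w 38 37) &&
  (wbit w 39 38 == wbit w 38 37) && (wbit w 51 50 == wbit w 40 39) &&
  (wbit w 51 49 == wbit w 40 38) &&
  (xor (xor (wbit w 39 37) (wbit w 50 47)) (wbit w 50 49) == false)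

theorem wd_mem_patSubgroup {w : List ℕ} (hw : ∀ r ∈ w, r < 48) (h : checkPat w = true) :
    wd w ∈ patSubgroup := by
  simp only [checkPat, force_eq, Bool.and_eq_true, beq_iff_eq, List.all_eq_true, List.mem_range,
    Bool.or_eq_true, Bool.not_eq_true'] at h
  obtain ⟨⟨⟨⟨⟨⟨hcol, r1⟩, r2⟩, r3⟩, r4⟩, r5⟩, r6⟩ := h
  refine ⟨⟨fun a b hab => ?_, fun a => ?_⟩, ?_⟩
  · rw [wd_entry hw, if_neg]
    rcases (hcol _ (enum_lt' b)).2 _ (enum_lt' a) with h | h
    · rw [hab] at h; exact absurd h (by simp)
    · rw [wbit, h]; simp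
  · rw [wd_entry hw, wbit, (hcol _ (enum_lt' a)).1, if_pos rfl]
  · unfold Rel
    simp only [en_wd hw, show (49:ℕ) < 52 by decide, show (47:ℕ) < 52 by decide,
      show (38:ℕ) < 52 by decide, show (37:ℕ) < 52 by decide, show (50:ℕ) < 52 by decide,
      show (39:ℕ) < 52 by decide, show (51:ℕ) < 52 by decide, show (40:ℕ) < 52 by decide, r1, r2,
      r3, r4, r5, true_and]
    revert r6
    rw [r2]
    generalize wbit w 39 37 = a, wbit w 50 47 = b, wbit w 38 37 = x
    cases a <;> cases b <;> cases x <;> decide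

end Cfsg.Agent.Lie.Chev.F4Two
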