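import Cfsg.Agent.Lib.Lie.Chev.TwistF4Two
import Cfsg.Agent.Lib.Lie.Chev.TwistF4TwoCertData

/-! The Sylow 2-subgroup of ²F₄(2): normal forms, and the parity of its involutions. -/

set_option autoImplicit false
set_option maxRecDepth 4000

namespace Cfsg.Agent.Lie.Chev.F4Two

open Cfsg.Lie Matrix

theorem mem_genSub_of_gen {k : ℕ} (hk : k < 24) : wd (W k) ∈ genSub :=
  Subgroup.subset_closure ⟨k, hk, rfl⟩

/-! ### Normal forms -/

/-- The products of sublists. -/
def forms (l : List ℕ) : Set (GL chevF4.Idx K₂) :=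
  {g | ∃ s : List ℕ, s.Sublist l ∧ g = wd (s.flatMap W)}

/-- The certificates for normal forms. -/
def checkPc : List ℕ → List (List ℕ) → List (List (List ℕ)) → Bool
  | [], _, _ => true
  | b :: l, sq :: SQ, cj :: CJ =>
    checkPc l SQ CJ && sq.isSublist l && eqv (W b ++ W b) (sq.flatMap W) &&
      (List.range l.length).all fun p =>
        (cj.getD p []).isSublist l && eqv (W (l.getD p 0) ++ W b) (W b ++ (cj.getD p []).flatMap W)
  | _ :: _, _, _ => false

theorem checkPc_ok : (checkPc basis basisSq basisConj &&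
    (List.range 24).all fun k => (inBasis.getD k []).isSublist basis &&
      eqv (W k) ((inBasis.getD k []).flatMap W)) = true := by decide +kernel

theorem forms_mul : ∀ (l : List ℕ) (SQ : List (List ℕ)) (CJ : List (List (List ℕ))),
    checkPc l SQ CJ = true → ∀ g ∈ forms l, ∀ h ∈ forms l, g * h ∈ forms l := by
  intro l
  induction l with
  | nil =>
    rintro SQ CJ - g ⟨s, hs, rfl⟩ h ⟨t, ht, rfl⟩
    rw [List.sublist_nil] at hs ht
    subst hs ht
    exact ⟨[], List.Sublist.refl _, by simp [wd]⟩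
  | cons b l ih =>
    rintro (_ | ⟨sq, SQ⟩) (_ | ⟨cj, CJ⟩) hck
    · simp [checkPc] at hck
    · simp [checkPc] at hck
    · simp [checkPc] at hck
    simp only [checkPc, Bool.and_eq_true, List.all_eq_true, List.mem_range,
      List.isSublist_iff_sublist] at hck
    obtain ⟨⟨⟨hl, hsq⟩, hsqe⟩, hcj⟩ := hck
    have mul := ih SQ CJ hl
    obtain ⟨w, hw⟩ : ∃ w, w = wd (W b) := ⟨_, rfl⟩
    have hww : w * w ∈ forms l := ⟨sq, hsq, by rw [hw, ← wd_append, wd_eq_of_eqv hsqe]⟩
    -- elements of the tail pass the head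
    have hpass : ∀ s : List ℕ, (∀ k ∈ s, k ∈ l) →
        ∃ q ∈ forms l, wd (s.flatMap W) * w = w * q := by
      intro s hs
      induction s with
      | nil => exact ⟨1, ⟨[], List.nil_sublist _, by simp [wd]⟩, by simp [wd]⟩
      | cons k s ihs =>
        obtain ⟨q, hq, e⟩ := ihs fun y hy => hs y (by simp [hy])
        obtain ⟨p, hp, rfl⟩ := List.getElem_of_mem (hs k (by simp))
        obtain ⟨hc1, hc2⟩ := hcj p hp
        rw [List.getD_eq_getElem _ 0 hp] at hc2
        refine ⟨_, mul _ ⟨_, hc1, rfl⟩ _ hq, ?_⟩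
        rw [List.flatMap_cons, wd_append, mul_assoc, e, ← mul_assoc, hw, ← wd_append,
          wd_eq_of_eqv hc2, wd_append, mul_assoc]
    have split : ∀ g ∈ forms (b :: l), ∃ q ∈ forms l, g = q ∨ g = w * q := by
      rintro g ⟨s, hs, rfl⟩
      rcases List.sublist_cons_iff.1 hs with h | ⟨r, rfl, hr⟩
      · exact ⟨_, ⟨s, h, rfl⟩, Or.inl rfl⟩
      · exact ⟨_, ⟨r, hr, rfl⟩, Or.inr (by rw [hw, List.flatMap_cons, wd_append])⟩
    have up : ∀ q ∈ forms l, q ∈ forms (b :: l) ∧ w * q ∈ forms (b :: l) := by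
      rintro q ⟨r, hr, rfl⟩
      exact ⟨⟨r, hr.cons _, rfl⟩, ⟨b :: r, hr.cons_cons _,
        by rw [hw, List.flatMap_cons, wd_append]⟩⟩
    intro g hg h hh
    obtain ⟨p, hp, rfl | rfl⟩ := split g hg <;> obtain ⟨q, hq, rfl | rfl⟩ := split h hh
    · exact (up _ (mul _ hp _ hq)).1
    · obtain ⟨s, hs, rfl⟩ := hp
      obtain ⟨p', hp', e⟩ := hpass s fun k hk => hs.subset hk
      rw [← mul_assoc, e, mul_assoc]
      exact (up _ (mul _ hp' _ hq)).2
    · rw [mul_assoc]
      exact (up _ (mul _ hp _ hq)).2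
    · obtain ⟨s, hs, rfl⟩ := hp
      obtain ⟨p', hp', e⟩ := hpass s fun k hk => hs.subset hk
      rw [mul_assoc, ← mul_assoc (wd _) w, e, mul_assoc w p', ← mul_assoc w w]
      exact (up _ (mul _ hww _ (mul _ hp' _ hq))).1

theorem genSub_subset_forms : (genSub : Set (GL chevF4.Idx K₂)) ⊆ forms basis := by
  have h := checkPc_ok
  simp only [Bool.and_eq_true, List.all_eq_true, List.mem_range, List.isSublist_iff_sublist] at h
  intro g hg
  rw [SetLike.mem_coe, genSub, ← Subgroup.mem_toSubmonoid,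
    Subgroup.closure_toSubmonoid_of_finite] at hg
  induction hg using Submonoid.closure_induction with
  | mem x hx =>
    obtain ⟨k, hk, rfl⟩ := hx
    exact ⟨_, (h.2 k hk).1, wd_eq_of_eqv (h.2 k hk).2⟩
  | one => exact ⟨[], List.nil_sublist _, by simp [wd]⟩
  | mul x y _ _ hx hy => exact forms_mul _ _ _ h.1 x hx y hy

/-! ### Involutions -/

/-- The square of a word is not the identity. -/
def sqWitness (w : List ℕ) : Bool :=
  sqEntries.any fun p => !Nat.beq p.1 p.2 && Nat.blt p.1 52 && Nat.blt p.2 52 &&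
    force (wcol (w ++ w) p.2) fun col => col.testBit p.1

/-- Each sublist of odd parity has non-trivial square. -/
def checkInvol : List ℕ → List ℕ → Bool → Bool
  | [], w, b => !b || sqWitness w
  | k :: l, w, b => checkInvol l w b && checkInvol l (w ++ W k) (xor b (chiBit (W k)))

theorem checkInvol_ok : (checkInvol basis [] false &&
    basis.all fun k => Nat.blt k 24) = true := by decide +kernel

theorem checkInvol_sound : ∀ (l w : List ℕ) (b : Bool), checkInvol l w b = true →
    (∀ r ∈ w, r < 48) → (∀ k ∈ l, k < 24) → wd w ∈ genSub →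
    chi (wd w) = (if b then 1 else 0) → ∀ g ∈ forms l, wd w * g * (wd w * g) = 1 →
      chi (wd w * g) = 0 := by
  intro l
  induction l with
  | nil =>
    intro w b hck hw _ _ hb g hg hsq
    obtain ⟨s, hs, rfl⟩ := hg
    rw [List.sublist_nil] at hs
    subst hs
    rw [List.flatMap_nil, show wd [] = 1 from rfl, mul_one] at hsq ⊢
    rw [hb]
    cases b with
    | false => simp
    | true =>
      simp only [checkInvol, Bool.not_true, Bool.false_or, sqWitness, List.any_eq_true,
        Bool.and_eq_true, Bool.not_eq_true', Nat.blt_eq, force_eq] at hck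
      obtain ⟨p, -, ⟨⟨hne, h1⟩, h2⟩, hbit⟩ := hck
      have h := en_wd (w := w ++ w) (fun r hr => (List.mem_append.1 hr).elim (hw r) (hw r)) h1 h2
      rw [wd_append, hsq, wbit, hbit, if_pos rfl, en, Units.val_one, Matrix.one_apply_ne] at h
      · exact absurd h zero_ne_one
      · intro e
        have e' : p.1 = p.2 := by rw [← enum_ix h1, ← enum_ix h2, e]
        have : Nat.beq p.1 p.2 = true := by rw [Nat.beq_eq]; exact e'
        rw [this] at hne
        exact absurd hne (by simp)
  | cons k l ih =>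
    intro w b hck hw hl hwg hb g hg hsq
    simp only [checkInvol, Bool.and_eq_true] at hck
    have hk : k < 24 := hl k (by simp)
    have hWk : ∀ r ∈ W k, r < 48 := fun r hr => ((checkWord_spec (W_spec hk)).1 r hr).2
    obtain ⟨s, hs, rfl⟩ := hg
    rcases List.sublist_cons_iff.1 hs with h | ⟨r, rfl, hr⟩
    · exact ih w b hck.1 hw (fun y hy => hl y (by simp [hy])) hwg hb _ ⟨s, h, rfl⟩ hsq
    · have e : wd w * wd ((k :: r).flatMap W) = wd (w ++ W k) * wd (r.flatMap W) := by
        rw [List.flatMap_cons, wd_append (W k), wd_append w (W k), mul_assoc]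
      rw [e] at hsq ⊢
      have hmem : wd (w ++ W k) ∈ genSub := by
        rw [wd_append]
        exact mul_mem hwg (mem_genSub_of_gen hk)
      have hlt : ∀ y ∈ w ++ W k, y < 48 := fun y hy => (List.mem_append.1 hy).elim (hw y) (hWk y)
      have hl' : ∀ y ∈ l, y < 24 := fun y hy => hl y (List.mem_cons_of_mem _ hy)
      refine ih (w ++ W k) _ hck.2 hlt hl' hmem ?_ (wd (r.flatMap W)) ⟨r, hr, rfl⟩ hsq
      rw [wd_append, chi_mul_gen hwg (mem_genSub_of_gen hk), hb, chi_wd hWk]
      cases b <;> cases chiBit (W k) <;> decide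

theorem wd_nil : wd [] = 1 := by rw [wd, List.map_nil, List.prod_nil]

/-- An involution of the Sylow subgroup is even. -/
theorem chi_eq_zero_of_sq {g : GL chevF4.Idx K₂} (hg : g ∈ genSub) (hsq : g * g = 1) :
    chi g = 0 := by
  have h := checkInvol_ok
  simp only [Bool.and_eq_true, List.all_eq_true, Nat.blt_eq] at h
  have h1 : wd [] ∈ genSub := by rw [wd_nil]; exact one_mem _
  have h2 : chi (wd []) = if false = true then 1 else 0 := by rw [wd_nil, chi_one.1]; simp
  have h3 := checkInvol_sound basis [] false h.1 (fun r hr => absurd hr List.not_mem_nil) h.2 h1 h2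
    g (genSub_subset_forms hg)
  rw [wd_nil, one_mul] at h3
  exact h3 hsq

end Cfsg.Agent.Lie.Chev.F4Two
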