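import Cfsg.Agent.Lib.Lie.Chev.TwistIsoCommon
import Cfsg.Agent.Lib.Lie.Chev.TwistDataG2
import Cfsg.Agent.Lib.Lie.Chev.OrderG2
import Cfsg.Agent.Lib.Lie.Chev.FieldAut
import Cfsg.Prelude.Def_LieTwisted

/-! The small Ree groups ²G₂(q) as fixed subgroups of the special isogeny in characteristic
three. -/

set_option autoImplicit false
set_option maxRecDepth 4000

namespace Cfsg.Agent.Lie.Chev.G2

open Cfsg.Lie Matrix

/-- The positive or negative class of roots, with its sign. -/
def IsClass (a b ab aab aaab aaabb : ℕ) (s : ℤ) : Prop :=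
  (a = 7 ∧ b = 6 ∧ ab = 8 ∧ aab = 9 ∧ aaab = 10 ∧ aaabb = 11 ∧ s = 1) ∨
  (a = 4 ∧ b = 5 ∧ ab = 3 ∧ aab = 2 ∧ aaab = 1 ∧ aaabb = 0 ∧ s = -1)

theorem pos_class : IsClass 7 6 8 9 10 11 1 := Or.inl ⟨rfl, rfl, rfl, rfl, rfl, rfl, rfl⟩

theorem neg_class : IsClass 4 5 3 2 1 0 (-1) := Or.inr ⟨rfl, rfl, rfl, rfl, rfl, rfl, rfl⟩

theorem iso_values :
    (isoG2.ρ 7 = 6 ∧ isoG2.ρ 6 = 7 ∧ isoG2.ρ 8 = 10 ∧ isoG2.ρ 9 = 11 ∧ isoG2.ρ 10 = 8 ∧
      isoG2.ρ 11 = 9) ∧
    (isoG2.ρ 4 = 5 ∧ isoG2.ρ 5 = 4 ∧ isoG2.ρ 3 = 1 ∧ isoG2.ρ 2 = 0 ∧ isoG2.ρ 1 = 3 ∧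
      isoG2.ρ 0 = 2) ∧
    (isoG2.expo 7 = 3 ∧ isoG2.expo 6 = 1 ∧ isoG2.expo 8 = 3 ∧ isoG2.expo 9 = 3 ∧
      isoG2.expo 10 = 1 ∧ isoG2.expo 11 = 1) ∧
    (isoG2.expo 4 = 3 ∧ isoG2.expo 5 = 1 ∧ isoG2.expo 3 = 3 ∧ isoG2.expo 2 = 3 ∧
      isoG2.expo 1 = 1 ∧ isoG2.expo 0 = 1) := by
  decide +kernel

theorem node_values : chevG2.simple 0 = 7 ∧ chevG2.simple 1 = 6 ∧ chevG2.rank = 2 ∧
    chevG2.nroots = 12 ∧ isoG2.τ 0 = 1 ∧ isoG2.τ 1 = 0 := by
  decide +kernel

theorem comm_values :
    certFullG2.T.commTerms 7 6 = [(8, -1, 1, 1), (9, 1, 2, 1), (10, 1, 3, 1), (11, 1, 3, 2)] ∧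
    certFullG2.T.commTerms 4 5 = [(3, 1, 1, 1), (2, 1, 2, 1), (1, -1, 3, 1), (0, 1, 3, 2)] ∧
    ([[8, 9, 10, 11], [3, 2, 1, 0]].all fun L => L.all fun a => L.all fun b =>
      Nat.beq a b || (!(Nat.beq b (11 - a)) &&
        (certFullG2.T.commTerms a b).all fun x => Nat.beq (x.2.1.natAbs % 3) 0)) = true ∧
    ([8, 3].all fun a => [10, 1].all fun b => (certFullG2.T.commTerms a b).isEmpty) = true := by
  decide +kernel

variable {K : Type*} [Field K] (f : K →+* K) [CharP K 3] [ExpChar K 3]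

/-- The twisting endomorphism. -/
noncomputable def tw : Twist certFullG2 K :=
  CertFull.IsoData.twist (p := 3) isoG2_ok rfl f

theorem act_x {r : ℕ} (hr : r < 12) (t : K) :
    (tw f).act (certFullG2.xg r t) = certFullG2.xg (isoG2.ρ r) (f t ^ isoG2.expo r) :=
  CertFull.IsoData.act_x (p := 3) isoG2_ok rfl f hr t

omit [ExpChar K 3] in
theorem three_eq_zero : (3 : K) = 0 := by
  simpa using (CharP.cast_eq_zero K 3)

omit [ExpChar K 3] [CharP K 3] in
theorem class_comm {a b ab aab aaab aaabb : ℕ} {s : ℤ} (h : IsClass a b ab aab aaab aaabb s)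
    (x y : K) :
    certFullG2.xg b ((s : K) * y) * certFullG2.xg a ((s : K) * x) =
      certFullG2.xg a ((s : K) * x) * certFullG2.xg b ((s : K) * y) *
      (certFullG2.xg ab ((s : K) * (x * y)) * certFullG2.xg aab ((s : K) * (x ^ 2 * y)) *
        (certFullG2.xg aaab ((s : K) * (-(x ^ 3 * y))) *
          certFullG2.xg aaabb ((s : K) * (-(x ^ 3 * y ^ 2))))) := by
  obtain ⟨c1, c2, -, -⟩ := comm_values
  have e : ∀ r < 12, chevG2.neg r = 11 - r := fun r hr => certFullG2.neg_eq hr
  rcases h with ⟨rfl, rfl, rfl, rfl, rfl, rfl, rfl⟩ | ⟨rfl, rfl, rfl, rfl, rfl, rfl, rfl⟩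
  · rw [certFullG2.xg_comm (show 7 < 12 by omega) (show 6 < 12 by omega) (by omega)
      (by rw [e 7 (by omega)]; omega), c1]
    simp only [List.map_cons, List.map_nil, List.prod_cons, List.prod_nil, mul_one, Int.cast_one,
      Int.cast_neg, one_mul]
    congr 1
    rw [mul_assoc (certFullG2.xg 8 _)]
    congr 2 <;> first | ring | (congr 1 <;> first | ring | (congr 1 <;> ring))
  · rw [certFullG2.xg_comm (show 4 < 12 by omega) (show 5 < 12 by omega) (by omega)
      (by rw [e 4 (by omega)]; omega), c2]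
    simp only [List.map_cons, List.map_nil, List.prod_cons, List.prod_nil, mul_one, Int.cast_one,
      Int.cast_neg, one_mul]
    congr 1
    rw [mul_assoc (certFullG2.xg 3 _)]
    congr 2 <;> first | ring | (congr 1 <;> first | ring | (congr 1 <;> ring))

omit [ExpChar K 3] in
theorem class_commute {a b ab aab aaab aaabb : ℕ} {s : ℤ} (h : IsClass a b ab aab aaab aaabb s)
    {i j : ℕ} (hi : i ∈ [ab, aab, aaab, aaabb]) (hj : j ∈ [ab, aab, aaab, aaabb]) (t u : K) :
    Commute (certFullG2.xg i t) (certFullG2.xg j u) := by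
  by_cases e : j = i
  · subst e
    exact (certFullG2.xg_add j t u).symm.trans ((congrArg _ (add_comm t u)).trans
      (certFullG2.xg_add j u t))
  obtain ⟨-, -, c3, -⟩ := comm_values
  simp only [List.all_eq_true, Bool.or_eq_true, Bool.and_eq_true, Nat.beq_eq,
    Bool.not_eq_true'] at c3
  have hmem : i < 12 ∧ j < 12 ∧ ∃ L ∈ [[8, 9, 10, 11], [3, 2, 1, 0]], i ∈ L ∧ j ∈ L := by
    simp only [List.mem_cons, List.not_mem_nil, or_false] at hi hj
    rcases h with ⟨-, -, rfl, rfl, rfl, rfl, -⟩ | ⟨-, -, rfl, rfl, rfl, rfl, -⟩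
    · exact ⟨by omega, by omega, _, List.mem_cons_self .., by simp [hi], by simp [hj]⟩
    · exact ⟨by omega, by omega, _, List.mem_cons_of_mem _ (List.mem_cons_self ..), by simp [hi],
        by simp [hj]⟩
  obtain ⟨hi', hj', L, hL, hiL, hjL⟩ := hmem
  rcases c3 L hL i hiL j hjL with h' | ⟨h', h''⟩
  · exact absurd h'.symm e
  · refine certFullG2.xg_commute_mod (p := 3) hi' hj' e (fun e' => ?_) (fun x hx => ?_) t u
    · rw [e', show chevG2.neg i = 11 - i from certFullG2.neg_eq hi', beq_of_eq rfl] at h'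
      exact Bool.noConfusion h'
    · rw [Int.natCast_dvd]; exact Nat.dvd_of_mod_eq_zero (h'' x hx)

omit [ExpChar K 3] [CharP K 3] in
theorem comm_pair {a b : ℕ} (ha : a = 8 ∨ a = 3) (hb : b = 10 ∨ b = 1) (t u : K) :
    Commute (certFullG2.xg a t) (certFullG2.xg b u) := by
  have hc := comm_values.2.2.2
  simp only [List.all_eq_true, List.isEmpty_iff] at hc
  have e : ∀ r < 12, chevG2.neg r = 11 - r := fun r hr => certFullG2.neg_eq hr
  refine certFullG2.xg_commute (show a < 12 by omega) (show b < 12 by omega) (by omega)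
    (by rw [e a (by omega)]; omega)
    (hc a (by rcases ha with rfl | rfl <;> simp) b (by rcases hb with rfl | rfl <;> simp)) t u

omit [Field K] [CharP K 3] [ExpChar K 3] in
theorem prod4_comm {G : Type*} [Group G] {A B C D A' B' C' D' : G} (h1 : Commute D C')
    (h2 : Commute (C * C' * (D * D')) (A' * B')) (h3 : Commute B A') :
    A * B * (C * D) * (C' * D') * (A' * B') = A * A' * (B * B') * (C * C' * (D * D')) := by
  rw [mul_assoc (A * B) (C * D) (C' * D'), mul2_comm h1, mul_assoc (A * B), h2.eq,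
    ← mul_assoc (A * B), mul2_comm h3]

variable [Fintype K] {m : ℕ} (hf : ∀ t, f t = t ^ 3 ^ m) (hK : Fintype.card K = 3 ^ (2 * m + 1))

include hf hK

omit [CharP K 3] [ExpChar K 3] in
theorem ff_cube (t : K) : f (f t) ^ 3 = t := by
  rw [hf, hf, ← pow_mul, ← pow_mul,
    show 3 ^ m * (3 ^ m * 3) = Fintype.card K by rw [hK]; ring, FiniteField.pow_card]

omit [CharP K 3] [ExpChar K 3] in
theorem natCard : Nat.card K = 3 ^ (2 * m + 1) := by rw [Nat.card_eq_fintype_card, hK]

omit hf hK [CharP K 3] [ExpChar K 3] [Fintype K] in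
theorem reeWordV_eq (e : ℕ) (t u v : K) : reeWordV e t u v =
    [(4, -(t ^ e)), (5, -t), (3, -(t ^ (e + 1) + u ^ e)), (2, -(t ^ (2 * e + 1) + v ^ e)),
      (1, -u), (0, -v)] :=
  rfl

omit hK [CharP K 3] [ExpChar K 3] [Fintype K] in
theorem class_mem {a b ab aab aaab aaabb : ℕ} {s : ℤ} (h : IsClass a b ab aab aaab aaabb s)
    (t u v : K) :
    certFullG2.xg a ((s : K) * f t) * certFullG2.xg b ((s : K) * t) *
      (certFullG2.xg ab ((s : K) * (f t * t + f u)) *
        certFullG2.xg aab ((s : K) * (f t ^ 2 * t + f v)) *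
      (certFullG2.xg aaab ((s : K) * u) * certFullG2.xg aaabb ((s : K) * v))) ∈
      twistedG2 K (3 ^ m) := by
  rcases h with ⟨rfl, rfl, rfl, rfl, rfl, rfl, rfl⟩ | ⟨rfl, rfl, rfl, rfl, rfl, rfl, rfl⟩
  · have hw := wordProd_mem certFullG2 (S := g2Words K (3 ^ m)) (w := reeWordU (3 ^ m) t u v)
      ⟨t, u, v, Or.inl rfl⟩
    simpa [twistedG2, reeWordU, g2a, g2b, g2ab, g2aab, g2aaab, g2aaabb, hf t, hf u, hf v,
      pow_succ, pow_mul', mul_assoc] using hw
  · have hw := wordProd_mem certFullG2 (S := g2Words K (3 ^ m)) (w := reeWordV (3 ^ m) t u v)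
      ⟨t, u, v, Or.inr rfl⟩
    rw [reeWordV_eq] at hw
    simpa [twistedG2, hf t, hf u, hf v, pow_succ, pow_mul', mul_assoc] using hw

theorem class_fix {a b ab aab aaab aaabb : ℕ} {s : ℤ} (h : IsClass a b ab aab aaab aaabb s)
    (t u v : K) :
    certFullG2.xg a ((s : K) * f t) * certFullG2.xg b ((s : K) * t) *
      (certFullG2.xg ab ((s : K) * (f t * t + f u)) *
        certFullG2.xg aab ((s : K) * (f t ^ 2 * t + f v)) *
      (certFullG2.xg aaab ((s : K) * u) * certFullG2.xg aaabb ((s : K) * v))) ∈ (tw f).fix := by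
  have hx : ∀ (r : ℕ), r < 12 → ∀ t : K, certFullG2.xg r t ∈ chevG2.group K := fun r hr t =>
    certFullG2.xg_mem_group hr t
  have hv : (isoG2.ρ a = b ∧ isoG2.ρ b = a ∧ isoG2.ρ ab = aaab ∧ isoG2.ρ aab = aaabb ∧
      isoG2.ρ aaab = ab ∧ isoG2.ρ aaabb = aab) ∧
      (isoG2.expo a = 3 ∧ isoG2.expo b = 1 ∧ isoG2.expo ab = 3 ∧ isoG2.expo aab = 3 ∧
        isoG2.expo aaab = 1 ∧ isoG2.expo aaabb = 1) ∧
      ((s : K) ^ 3 = s) ∧ f (s : K) = s := by
    refine ⟨?_, ?_, ?_, map_intCast f s⟩
    · rcases h with ⟨rfl, rfl, rfl, rfl, rfl, rfl, rfl⟩ | ⟨rfl, rfl, rfl, rfl, rfl, rfl, rfl⟩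
      · exact iso_values.1
      · exact iso_values.2.1
    · rcases h with ⟨rfl, rfl, rfl, rfl, rfl, rfl, rfl⟩ | ⟨rfl, rfl, rfl, rfl, rfl, rfl, rfl⟩
      · exact iso_values.2.2.1
      · exact iso_values.2.2.2
    · rcases h with ⟨-, -, -, -, -, -, rfl⟩ | ⟨-, -, -, -, -, -, rfl⟩ <;> push_cast <;> ring
  obtain ⟨⟨ra, rb, rab, raab, raaab, raaabb⟩, ⟨ea, eb, eab, eaab, eaaab, eaaabb⟩, hs3, hfs⟩ := hv
  have hlt : a < 12 ∧ b < 12 ∧ ab < 12 ∧ aab < 12 ∧ aaab < 12 ∧ aaabb < 12 := by
    rcases h with ⟨rfl, rfl, rfl, rfl, rfl, rfl, -⟩ | ⟨rfl, rfl, rfl, rfl, rfl, rfl, -⟩ <;> omega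
  obtain ⟨la, lb, lab, laab, laaab, laaabb⟩ := hlt
  have m1 := mul_mem (hx a la ((s : K) * f t)) (hx b lb ((s : K) * t))
  have m2 := mul_mem (hx ab lab ((s : K) * (f t * t + f u)))
    (hx aab laab ((s : K) * (f t ^ 2 * t + f v)))
  have m3 := mul_mem (hx aaab laaab ((s : K) * u)) (hx aaabb laaabb ((s : K) * v))
  refine (tw f).mem_fix.2 ⟨mul_mem m1 (mul_mem m2 m3), ?_⟩
  rw [(tw f).act_mul m1 (mul_mem m2 m3), (tw f).act_mul m2 m3,
    (tw f).act_mul (hx a la _) (hx b lb _), (tw f).act_mul (hx ab lab _) (hx aab laab _),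
    (tw f).act_mul (hx aaab laaab _) (hx aaabb laaabb _), act_x f la, act_x f lb, act_x f lab,
    act_x f laab, act_x f laaab, act_x f laaabb, ra, rb, rab, raab, raaab, raaabb, ea, eb, eab,
    eaab, eaaab, eaaabb, pow_one, pow_one, pow_one]
  have h3 : (3 : K) = 0 := three_eq_zero
  have eT := ff_cube f hf hK t
  have eU := ff_cube f hf hK u
  have eV := ff_cube f hf hK v
  have x1 : f ((s : K) * f t) ^ 3 = (s : K) * t := by rw [map_mul, hfs, mul_pow, hs3, eT]
  have x2 : f ((s : K) * t) = (s : K) * f t := by rw [map_mul, hfs]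
  have x3 : f ((s : K) * (f t * t + f u)) ^ 3 = (s : K) * (f t ^ 3 * t + u) := by
    rw [map_mul, hfs, mul_pow, hs3, map_add, map_mul]
    congr 1
    linear_combination (f t ^ 3) * eT + eU + (f (f t) * f t * f (f u) *
      (f (f t) * f t + f (f u))) * h3
  have x4 : f ((s : K) * (f t ^ 2 * t + f v)) ^ 3 = (s : K) * (f t ^ 3 * t ^ 2 + v) := by
    rw [map_mul, hfs, mul_pow, hs3, map_add, map_mul, map_pow]
    congr 1
    linear_combination (f t ^ 3 * (f (f t) ^ 3 + t)) * eT + eV + (f (f t) ^ 2 * f t * f (f v) *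
      (f (f t) ^ 2 * f t + f (f v))) * h3
  have x5 : f ((s : K) * u) = (s : K) * f u := by rw [map_mul, hfs]
  have x6 : f ((s : K) * v) = (s : K) * f v := by rw [map_mul, hfs]
  rw [x1, x2, x3, x4, x5, x6, class_comm h]
  have hc := fun {i j : ℕ} (hi : i ∈ [ab, aab, aaab, aaabb]) (hj : j ∈ [ab, aab, aaab, aaabb])
    (x y : K) => class_commute h hi hj x y
  rw [mul_assoc (certFullG2.xg a _ * certFullG2.xg b _) _ (_ * _)]
  congr 1
  rw [← mul_assoc (_ * _ * (_ * _)) (_ * _) (_ * _),
    prod4_comm (hc (by simp) (by simp) _ _)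
      (((((hc (by simp) (by simp) _ _).mul_right (hc (by simp) (by simp) _ _)).mul_left
        ((hc (by simp) (by simp) _ _).mul_right (hc (by simp) (by simp) _ _))).mul_left
        (((hc (by simp) (by simp) _ _).mul_right (hc (by simp) (by simp) _ _)).mul_left
        ((hc (by simp) (by simp) _ _).mul_right (hc (by simp) (by simp) _ _)))))
      (hc (by simp) (by simp) _ _),
    ← certFullG2.xg_add, ← certFullG2.xg_add, ← certFullG2.xg_add, ← certFullG2.xg_add]
  congr 2 <;> congr 1 <;> ring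

theorem le_fix : twistedG2 K (3 ^ m) ≤ (tw f).fix := by
  refine (Subgroup.closure_le _).2 ?_
  rintro g ⟨w, hw, hg⟩
  obtain rfl := eq_wordProd certFullG2 hg
  rcases hw with ⟨t, u, v, rfl | rfl⟩
  · simpa [reeWordU, g2a, g2b, g2ab, g2aab, g2aaab, g2aaabb, hf t, hf u, hf v, pow_succ, pow_mul',
      mul_assoc] using class_fix f hf hK pos_class t u v
  · rw [reeWordV_eq]
    simpa [hf t, hf u, hf v, pow_succ, pow_mul', mul_assoc] using
      class_fix f hf hK neg_class t u v

/-- The torus element with both parameters `-1`. -/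
def negWordTorus : List (ℕ × ℤ) :=
  [(7, -1), (4, 1), (7, -1), (7, -1), (4, 1), (7, -1), (6, -1), (5, 1), (6, -1), (6, -1), (5, 1),
    (6, -1)]

omit hf hK [Fintype K] [CharP K 3] [ExpChar K 3] in
theorem words_ok :
    certFullG2.T.checkWordMod 3
      [(7, 0), (6, 0), (8, 0), (9, 1), (10, 0), (11, 1),
        (4, 1), (5, 1), (3, 0), (2, -1), (1, 1), (0, 1),
        (7, -1), (6, -1), (8, 1), (9, 0), (10, 0), (11, 1)]
      (certFullG2.nwWord [0, 1, 0, 1, 0, 1]) = true ∧
    certFullG2.T.checkWordMod 3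
      [(7, 0), (6, 0), (8, 0), (9, 1), (10, 0), (11, 1),
        (4, 0), (5, 0), (3, 0), (2, -1), (1, 0), (0, -1),
        (7, 1), (6, 1), (8, -1), (9, -1), (10, 1), (11, 1),
        (4, 1), (5, 1), (3, 1), (2, -1), (1, -1), (0, 1)]
      negWordTorus = true := by
  decide +kernel

omit hK [Fintype K] [ExpChar K 3] in
theorem class_mem' {a b ab aab aaab aaabb : ℕ} {s : ℤ} (h : IsClass a b ab aab aaab aaabb s)
    (t u v : K) {A B C E U V : K} (hA : (s : K) * f t = A) (hB : (s : K) * t = B)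
    (hC : (s : K) * (f t * t + f u) = C) (hE : (s : K) * (f t ^ 2 * t + f v) = E)
    (hU : (s : K) * u = U) (hV : (s : K) * v = V) :
    certFullG2.xg a A * (certFullG2.xg b B * (certFullG2.xg ab C * (certFullG2.xg aab E *
      (certFullG2.xg aaab U * certFullG2.xg aaabb V)))) ∈ twistedG2 K (3 ^ m) := by
  have := class_mem f hf h t u v
  rw [hA, hB, hC, hE, hU, hV] at this
  simpa [mul_assoc] using this

omit hK [Fintype K] [ExpChar K 3] in
theorem const_mem :
    certFullG2.nw K [0, 1, 0, 1, 0, 1] ∈ twistedG2 K (3 ^ m) ∧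
    certFullG2.torus (fun _ => (-1 : Kˣ)) ∈ twistedG2 K (3 ^ m) := by
  have h3 : (3 : K) = 0 := three_eq_zero
  have u001 := class_mem' f hf pos_class (0 : K) 0 1 (A := 0) (B := 0) (C := 0) (E := 1) (U := 0)
    (V := 1) (by simp) (by simp) (by simp) (by simp) (by simp) (by simp)
  have v222 := class_mem' f hf neg_class (-1 : K) (-1) (-1) (A := 1) (B := 1) (C := 0) (E := -1)
    (U := 1) (V := 1) (by simp) (by simp) (by simp) (by simp; linear_combination h3) (by simp)
    (by simp)
  have u201 := class_mem' f hf pos_class (-1 : K) 0 1 (A := -1) (B := -1) (C := 1) (E := 0)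
    (U := 0) (V := 1) (by simp) (by simp) (by simp) (by simp) (by simp) (by simp)
  have v001 := class_mem' f hf neg_class (0 : K) 0 1 (A := 0) (B := 0) (C := 0) (E := -1)
    (U := 0) (V := -1) (by simp) (by simp) (by simp) (by simp) (by simp) (by simp)
  have u111 := class_mem' f hf pos_class (1 : K) 1 1 (A := 1) (B := 1) (C := -1) (E := -1)
    (U := 1) (V := 1) (by simp) (by simp) (by simp; linear_combination h3)
    (by simp; linear_combination h3) (by simp) (by simp)
  have v212 := class_mem' f hf neg_class (-1 : K) 1 (-1) (A := 1) (B := 1) (C := 1) (E := -1)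
    (U := -1) (V := 1) (by simp) (by simp) (by simp; linear_combination (-1 : K) * h3)
    (by simp; linear_combination h3) (by simp) (by simp)
  constructor
  · rw [certFullG2.nw_eq_word (by rw [node_values.2.2.1]; simp),
      ← certFullG2.word_eq_of_checkWordMod (F := K) words_ok.1]
    simpa [mul_assoc] using mul_mem (mul_mem u001 v222) u201
  · have e : certFullG2.torus (fun _ => (-1 : Kˣ)) =
        (negWordTorus.map fun x => certFullG2.xg x.1 (x.2 : K)).prod := by
      obtain ⟨s0, s1, hr, -⟩ := node_values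
      rw [certFullG2.torus_eq_prod]
      show (List.map _ (List.range 2)).prod = _
      simp [List.range_succ, s0, s1, negWordTorus, Cert.hg, Cert.ng,
        show chevG2.neg 7 = 4 from certFullG2.neg_eq (by show 7 < 12; omega),
        show chevG2.neg 6 = 5 from certFullG2.neg_eq (by show 6 < 12; omega), mul_assoc]
    rw [e, ← certFullG2.word_eq_of_checkWordMod (F := K) words_ok.2]
    simpa [mul_assoc] using mul_mem (mul_mem (mul_mem u001 v001) u111) v212

omit hK [Fintype K] [ExpChar K 3] in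
theorem n_mem : ∀ J ∈ orbitsG2, certFullG2.nw K J ∈ twistedG2 K (3 ^ m) := by
  intro J hJ
  simp only [orbitsG2, List.mem_cons, List.not_mem_nil, or_false] at hJ
  subst hJ
  exact (const_mem f hf).1

omit [Fintype K] [ExpChar K 3] [CharP K 3] hf hK in
theorem checks : isoG2.checkLvl (lookupN isoLvlG2) = true ∧
    isoG2.checkOrbitWords orbitsG2 = true ∧
    isoG2.checkLifts (lookupN isoLvlG2) orbitsG2 twistG2Reps 2 [7, 6, 8, 10, 9, 11] = true := by
  decide +kernel

/-- The fixed elements of the Weyl group. -/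
noncomputable def weyl : (tw f).FixedWeyl where
  Jw := orbitsG2
  E := twistG2Reps
  N := 2
  order := twistG2Order
  orbits := orbitsG2_ok
  list := twistG2Reps_ok
  nw_fix := CertFull.IsoData.nw_fix_of_check (p := 3) isoG2_ok rfl f checks.2.1

/-- The grading. -/
noncomputable def grading : (tw f).Grading 2 :=
  CertFull.IsoData.grading (p := 3) isoG2_ok rfl f hf (natCard f hf hK) (lookupN isoLvlG2) checks.1

theorem lifts : (grading f hf hK).Lifts (twistedG2 K (3 ^ m)) := by
  obtain ⟨⟨r7, r6, r8, r9, r10, r11⟩, -⟩ := iso_values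
  obtain ⟨c1, -, -, -⟩ := comm_values
  refine CertFull.IsoData.lifts_of_bases (p := 3) isoG2_ok rfl f hf (natCard f hf hK) checks.1
    (weyl f) (le_fix f hf hK) (n_mem f hf) checks.2.2 fun r₀ hr₀ => ?_
  have hsolve : ∀ a : K, f (f a ^ 3) = a := fun a => by rw [map_pow, ff_cube f hf hK]
  have hz := certFullG2.xg_zero (F := K)
  have pm := fun t u v : K => class_mem f hf pos_class t u v
  simp only [Int.cast_one, one_mul] at pm
  simp only [List.mem_cons, List.not_mem_nil, or_false] at hr₀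
  rcases hr₀ with rfl | rfl | rfl | rfl | rfl | rfl
  · refine ⟨by decide, fun a => ⟨f a ^ 3, [(8, a * f a ^ 3), (9, a ^ 2 * f a ^ 3)], ?_, ?_⟩⟩
    · intro y hy
      rw [r7, c1]
      simp only [List.mem_cons, List.not_mem_nil, or_false] at hy
      rcases hy with rfl | rfl
      · exact ⟨(8, -1, 1, 1), List.mem_cons_self .., rfl, by show (8 : ℕ) < 12; omega⟩
      · exact ⟨(9, 1, 2, 1), List.mem_cons_of_mem _ (List.mem_cons_self ..), rfl,
          by show (9 : ℕ) < 12; omega⟩
    · simp only [r7, List.map_cons, List.map_nil, List.prod_cons, List.prod_nil, mul_one]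
      have h := pm (f a ^ 3) 0 0
      rw [hsolve, map_zero, add_zero, add_zero, hz, hz, mul_one, mul_one] at h
      exact h
  · refine ⟨by decide, fun a => ⟨f a, [(10, f a ^ 3 * a), (11, f a ^ 3 * a ^ 2)], ?_, ?_⟩⟩
    · intro y hy
      rw [r6]
      simp only [List.mem_cons, List.not_mem_nil, or_false] at hy
      rcases hy with rfl | rfl
      · exact ⟨(10, -1, 1, 3), by decide +kernel, rfl, by show (10 : ℕ) < 12; omega⟩
      · exact ⟨(11, -2, 2, 3), by decide +kernel, rfl, by show (11 : ℕ) < 12; omega⟩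
    · simp only [r6, List.map_cons, List.map_nil, List.prod_cons, List.prod_nil, mul_one]
      have e := class_comm (K := K) pos_class (f a) a
      simp only [Int.cast_one, one_mul] at e
      rw [e, mul_assoc _ (_ * _ * (_ * _)), mul_assoc (_ * _) (_ * _) (_ * _),
        mul2_comm (class_commute pos_class (by simp) (by simp) _ _),
        ← certFullG2.xg_add, ← certFullG2.xg_add, neg_add_cancel, neg_add_cancel, hz, hz,
        mul_one, mul_one]
      have h := pm a 0 0
      rw [map_zero, add_zero, add_zero, hz, hz, mul_one, mul_one] at h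
      exact h
  · refine ⟨by decide, fun a => ⟨f a ^ 3, [], fun y hy => absurd hy List.not_mem_nil, ?_⟩⟩
    have h := pm 0 (f a ^ 3) 0
    simp only [map_zero, mul_zero, zero_add, add_zero, ne_eq, OfNat.ofNat_ne_zero,
      not_false_eq_true, zero_pow, hz, one_mul, mul_one, hsolve] at h
    simp only [r8, List.map_nil, List.prod_nil, mul_one]
    exact h
  · refine ⟨by decide, fun a => ⟨f a, [], fun y hy => absurd hy List.not_mem_nil, ?_⟩⟩
    have h := pm 0 a 0
    simp only [map_zero, mul_zero, zero_add, add_zero, ne_eq, OfNat.ofNat_ne_zero,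
      not_false_eq_true, zero_pow, hz, one_mul, mul_one] at h
    simp only [r10, List.map_nil, List.prod_nil, mul_one]
    rw [(class_commute pos_class (by simp) (by simp) a (f a)).eq]
    exact h
  · refine ⟨by decide, fun a => ⟨f a ^ 3, [], fun y hy => absurd hy List.not_mem_nil, ?_⟩⟩
    have h := pm 0 0 (f a ^ 3)
    simp only [map_zero, mul_zero, zero_add, add_zero, ne_eq, OfNat.ofNat_ne_zero,
      not_false_eq_true, zero_pow, hz, one_mul, mul_one, hsolve] at h
    simp only [r9, List.map_nil, List.prod_nil, mul_one]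
    exact h
  · refine ⟨by decide, fun a => ⟨f a, [], fun y hy => absurd hy List.not_mem_nil, ?_⟩⟩
    have h := pm 0 0 a
    simp only [map_zero, mul_zero, zero_add, add_zero, ne_eq, OfNat.ofNat_ne_zero,
      not_false_eq_true, zero_pow, hz, one_mul, mul_one] at h
    simp only [r11, List.map_nil, List.prod_nil, mul_one]
    rw [(class_commute pos_class (by simp) (by simp) a (f a)).eq]
    exact h

/-! ### The torus -/

omit hf hK [Fintype K] [CharP K 3] [ExpChar K 3] in
/-- The vectors fixed by the twist. -/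
noncomputable def zOf : Kˣ →* (ℕ → Kˣ) where
  toFun x j := if j = 0 then Units.map (f : K →* K) x else if j = 1 then x else 1
  map_one' := by funext j; simp
  map_mul' x y := by funext j; simp only [Pi.mul_apply]; split_ifs <;> simp

omit hf hK [Fintype K] [CharP K 3] [ExpChar K 3] in
theorem zOf_apply (x : Kˣ) : zOf f x 0 = Units.map (f : K →* K) x ∧ zOf f x 1 = x :=
  ⟨rfl, rfl⟩

omit hf hK [Fintype K] [CharP K 3] [ExpChar K 3] in
/-- The fixed torus, parametrised. -/
noncomputable def param : Kˣ →* GL chevG2.Idx K := certFullG2.torus.comp (zOf f)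

omit hf hK [CharP K 3] [ExpChar K 3] in
theorem torus_inj {z z' : ℕ → Kˣ} (e : certFullG2.torus z = certFullG2.torus z') :
    ∀ i < 2, z i = z' i := by
  intro i hi
  refine certFullG2.torus_injective ?_ z z' e i (by rw [node_values.2.2.1]; exact hi)
  rw [cardHG2, node_values.2.2.1]
  simp [Fin.prod_univ_two]
  ring

omit hf hK [Fintype K] in
theorem zAct_values (z : ℕ → Kˣ) :
    ((tw f).zAct z 0 : K) = f (z 1) ∧ ((tw f).zAct z 1 : K) = f (z 0) ^ 3 := by
  obtain ⟨s0, s1, hr, -, t0, t1⟩ := node_values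
  obtain ⟨-, -, ⟨e7, e6, -⟩, -⟩ := iso_values
  have h : ∀ j < 2, ((tw f).zAct z j : K) =
      f (z (isoG2.τ j)) ^ isoG2.expo (chevG2.simple (isoG2.τ j)) := fun j hj => by
    rw [(tw f).zAct_apply z (by rw [hr]; exact hj)]
    exact CertFull.IsoData.phi_apply (X := isoG2) (p := 3) rfl f _ _
  refine ⟨?_, ?_⟩
  · rw [h 0 (by omega), t0, s1, e6, pow_one]
  · rw [h 1 (by omega), t1, s0, e7]

theorem param_fix (x : Kˣ) : param f x ∈ (tw f).fix := by
  refine (tw f).mem_fix.2 ⟨certFullG2.B_le_group (certFullG2.H_le_B (certFullG2.torus_mem _)), ?_⟩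
  show (tw f).act (certFullG2.torus (zOf f x)) = certFullG2.torus (zOf f x)
  rw [(tw f).act_torus]
  obtain ⟨a0, a1⟩ := zAct_values f (zOf f x)
  obtain ⟨z0, z1⟩ := zOf_apply f x
  refine certFullG2.torus_congr fun j hj => Units.ext ?_
  rw [node_values.2.2.1] at hj
  rcases (show j = 0 ∨ j = 1 by omega) with rfl | rfl
  · rw [a0, z1, z0]; rfl
  · rw [a1, z0, z1]; exact ff_cube f hf hK (x : K)

theorem exists_param {g : GL chevG2.Idx K} (hg : g ∈ chevG2.diagonalSubgroup K ⊓ (tw f).fix) :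
    ∃ x, param f x = g := by
  obtain ⟨hH, hfix⟩ := Subgroup.mem_inf.1 hg
  rw [certFullG2.diagonalSubgroup_eq] at hH
  obtain ⟨z, rfl⟩ := hH
  have hact := ((tw f).mem_fix.1 hfix).2
  rw [(tw f).act_torus] at hact
  have hz := torus_inj (K := K) hact
  obtain ⟨a0, -⟩ := zAct_values f z
  rw [hz 0 (by omega)] at a0
  obtain ⟨z0, z1⟩ := zOf_apply f (z 1)
  refine ⟨z 1, certFullG2.torus_congr fun j hj => ?_⟩
  rw [node_values.2.2.1] at hj
  rcases (show j = 0 ∨ j = 1 by omega) with rfl | rfl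
  · rw [z0]; exact Units.ext a0.symm
  · exact z1

omit hf hK [Fintype K] [ExpChar K 3] [CharP K 3] in
theorem pair_coroots : ((List.range 2).map fun i => certFullG2.T.coroot 8 i) = [1, 3] ∧
    ((List.range 2).map fun i => certFullG2.T.coroot 10 i) = [1, 1] := by
  decide +kernel

theorem pair_torus_mem (u : Kˣ) :
    param f ((Units.map (f : K →* K) u) ^ 3 * u) ∈ twistedG2 K (3 ^ m) := by
  have hn : chevG2.neg 8 = 3 ∧ chevG2.neg 10 = 1 :=
    ⟨certFullG2.neg_eq (by show _ < 12; omega), certFullG2.neg_eq (by show _ < 12; omega)⟩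
  have hz := certFullG2.xg_zero (F := K)
  have key : ∀ s : K, certFullG2.ng 8 (f s) * certFullG2.ng 10 s ∈ twistedG2 K (3 ^ m) := by
    intro s
    have h1 := class_mem f hf pos_class 0 s 0
    have h2 := class_mem f hf neg_class 0 s⁻¹ 0
    simp only [Int.cast_one, Int.cast_neg, one_mul, neg_mul, map_zero, mul_zero, zero_add,
      add_zero, neg_zero, ne_eq, OfNat.ofNat_ne_zero, not_false_eq_true, zero_pow, hz, mul_one,
      map_inv₀] at h1 h2
    have e : certFullG2.ng 8 (f s) * certFullG2.ng 10 s =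
        (certFullG2.xg 8 (f s) * certFullG2.xg 10 s) *
        (certFullG2.xg 3 (-(f s)⁻¹) * certFullG2.xg 1 (-s⁻¹)) *
        (certFullG2.xg 8 (f s) * certFullG2.xg 10 s) := by
      rw [Cert.ng, Cert.ng, hn.1, hn.2,
        mul2_comm (comm_pair (Or.inr rfl) (Or.inl rfl) _ _).symm,
        mul2_comm ((comm_pair (Or.inl rfl) (Or.inl rfl) _ _).symm.mul_left
          (comm_pair (Or.inl rfl) (Or.inr rfl) _ _).symm)]
    rw [e]
    exact mul_mem (mul_mem h1 h2) h1
  have hcomm : ∀ a b : K, Commute (certFullG2.ng 10 a) (certFullG2.ng 8 b) := by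
    intro a b
    have h : ∀ x, x = 10 ∨ x = 1 → ∀ u : K, Commute (certFullG2.xg x u) (certFullG2.ng 8 b) := by
      intro x hx u
      rw [Cert.ng, hn.1]
      exact ((comm_pair (Or.inl rfl) hx _ _).symm.mul_right
        (comm_pair (Or.inr rfl) hx _ _).symm).mul_right (comm_pair (Or.inl rfl) hx _ _).symm
    rw [Cert.ng, hn.2]
    exact ((h 10 (Or.inl rfl) _).mul_left (h 1 (Or.inr rfl) _)).mul_left (h 10 (Or.inl rfl) _)
  set U := Units.map (f : K →* K) u with hU
  have hmem : certFullG2.hg 8 (f u) * certFullG2.hg 10 (u : K) ∈ twistedG2 K (3 ^ m) := by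
    rw [Cert.hg, Cert.hg, ← mul2_comm (hcomm (u : K) (-1))]
    have h' := key (-1)
    rw [map_neg, map_one] at h'
    exact mul_mem (key u) h'
  have e1 := certFullG2.hg_eq_torus (show 8 < chevG2.nroots by decide) U
  have e2 := certFullG2.hg_eq_torus (show 10 < chevG2.nroots by decide) u
  rw [show (U : K) = f u from rfl] at e1
  rw [e1, e2, ← map_mul] at hmem
  refine (congrArg (· ∈ twistedG2 K (3 ^ m)) (certFullG2.torus_congr fun j hj => ?_)).mp hmem
  rw [node_values.2.2.1] at hj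
  obtain ⟨c8, c10⟩ := pair_coroots
  simp only [List.range_succ, List.range_zero, List.nil_append, List.cons_append,
    List.map_cons, List.map_nil, List.cons.injEq, and_true] at c8 c10
  obtain ⟨a0, a1⟩ := c8
  obtain ⟨b0, b1⟩ := c10
  obtain ⟨y0, y1⟩ := zOf_apply f (U ^ 3 * u)
  have hUU : Units.map (f : K →* K) U ^ 3 = u := Units.ext (ff_cube f hf hK (u : K))
  rcases (show j = 0 ∨ j = 1 by omega) with rfl | rfl
  · rw [Pi.mul_apply, y0, a0, b0, zpow_one, zpow_one, map_mul, map_pow, hUU, ← hU, mul_comm]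
  · rw [Pi.mul_apply, y1, a1, b1, zpow_one, zpow_ofNat]

theorem param_mem (w : Kˣ) : param f w ∈ twistedG2 K (3 ^ m) := by
  classical
  set φ : Kˣ →* Kˣ :=
    { toFun := fun u => Units.map (f : K →* K) u ^ 3 * u
      map_one' := by simp
      map_mul' := fun a b => by
        rw [map_mul, mul_pow]
        simp only [mul_comm, mul_assoc, mul_left_comm] }
  have hne : (-1 : Kˣ) ≠ 1 := fun e => by
    have h : (-1 : K) = 1 := congrArg Units.val e
    have h3 : (3 : K) = 0 := three_eq_zero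
    exact one_ne_zero (α := K) (by linear_combination h + h3)
  have hsolve : ∀ u : Kˣ, ∀ c : Kˣ, Units.map (f : K →* K) c = c → φ u = c →
      c * c = 1 → u * u = 1 := by
    intro u c hc h hcc
    change Units.map (f : K →* K) u ^ 3 * u = c at h
    have h' := congrArg (Units.map (f : K →* K)) h
    rw [map_mul, map_pow, hc,
      show Units.map (f : K →* K) (Units.map (f : K →* K) u) ^ 3 = u from
        Units.ext (ff_cube f hf hK (u : K))] at h'
    have hU : Units.map (f : K →* K) u = u⁻¹ * c := eq_inv_mul_of_mul_eq h'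
    rw [hU, mul_pow, pow_succ c, sq, hcc, one_mul, inv_pow, mul_right_comm] at h
    have h2 : (u ^ 3)⁻¹ * u = 1 := mul_eq_right.1 h
    rw [inv_mul_eq_one, pow_succ, mul_eq_right, sq] at h2
    exact h2
  have hfix1 : ∀ x : Kˣ, x = 1 ∨ x = -1 → Units.map (f : K →* K) x = x := by
    rintro x (rfl | rfl) <;> exact Units.ext (by simp)
  have hsq : ∀ u : Kˣ, u * u = 1 ↔ u = 1 ∨ u = -1 := by
    intro u
    constructor
    · intro h
      have h' : (u : K) * u = 1 := by rw [← Units.val_mul, h, Units.val_one]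
      rcases mul_self_eq_one_iff.1 h' with e | e
      · exact Or.inl (Units.ext e)
      · exact Or.inr (Units.ext e)
    · rintro (rfl | rfl) <;> simp
  have hker : Nat.card φ.ker = 2 := by
    rw [Nat.card_eq_fintype_card, Fintype.card_subtype]
    rw [show (Finset.univ.filter fun u : Kˣ => u ∈ φ.ker) = {1, -1} from ?_]
    · exact Finset.card_pair hne.symm
    ext u
    simp only [Finset.mem_filter, Finset.mem_univ, true_and, MonoidHom.mem_ker, Finset.mem_insert,
      Finset.mem_singleton]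
    constructor
    · intro h
      exact (hsq u).1 (hsolve u 1 (map_one _) h (one_mul 1))
    · intro h
      show Units.map (f : K →* K) u ^ 3 * u = 1
      rw [hfix1 u h, pow_succ, sq, (hsq u).2 h, one_mul, (hsq u).2 h]
  have hidx : φ.range.index = 2 := by
    have h1 := φ.ker.card_eq_card_quotient_mul_card_subgroup
    rw [Nat.card_congr (QuotientGroup.quotientKerEquivRange φ).toEquiv, hker] at h1
    have h2 := φ.range.index_mul_card
    rw [h1, mul_comm] at h2
    have hpos : 0 < Nat.card φ.range := Nat.card_pos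
    exact Nat.eq_of_mul_eq_mul_left hpos h2
  have hneg : (-1 : Kˣ) ∉ φ.range := by
    rintro ⟨u, hu⟩
    have h := (hsq u).1 (hsolve u (-1) (hfix1 _ (Or.inr rfl)) hu (by simp))
    change Units.map (f : K →* K) u ^ 3 * u = -1 at hu
    rw [hfix1 u h, pow_succ, sq, (hsq u).2 h, one_mul, (hsq u).2 h] at hu
    exact hne hu.symm
  have hrange : ∀ x ∈ φ.range, param f x ∈ twistedG2 K (3 ^ m) := by
    rintro x ⟨u, rfl⟩
    exact pair_torus_mem f hf hK u
  by_cases hw : w ∈ φ.range
  · exact hrange w hw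
  · have h1 : -1 * w ∈ φ.range :=
      (Subgroup.mul_mem_iff_of_index_two hidx).2 ⟨fun h => absurd h hneg, fun h => absurd h hw⟩
    have h2 : param f (-1) ∈ twistedG2 K (3 ^ m) := by
      refine (congrArg (· ∈ twistedG2 K (3 ^ m)) (certFullG2.torus_congr fun j hj => ?_)).mp
        (const_mem f hf).2
      obtain ⟨y0, y1⟩ := zOf_apply f (-1)
      rw [node_values.2.2.1] at hj
      rcases (show j = 0 ∨ j = 1 by omega) with rfl | rfl
      · rw [y0, hfix1 _ (Or.inr rfl)]
      · rw [y1]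
    have h3 := mul_mem h2 (hrange _ h1)
    rwa [← map_mul, ← mul_assoc, show (-1 : Kˣ) * -1 = 1 by simp, one_mul] at h3

theorem H_le : chevG2.diagonalSubgroup K ⊓ (tw f).fix ≤ twistedG2 K (3 ^ m) := by
  intro g hg
  obtain ⟨x, rfl⟩ := exists_param f hf hK hg
  exact param_mem f hf hK x

/-- ²G₂(q) as a twisted group. -/
noncomputable def datum : Twist.Datum (tw f) where
  e := 2
  e_pos := by omega
  G₁ := twistedG2 K (3 ^ m)
  W := weyl f
  G := grading f hf hK
  lifts := lifts f hf hK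
  le_fix := le_fix f hf hK
  H_le := H_le f hf hK
  n_mem := n_mem f hf
  disjoint := by
    show ∀ J ∈ orbitsG2, ∀ J' ∈ orbitsG2, ∀ p ∈ J, p ∈ J' → J = J'
    decide
  top := ⟨1, (show (1 : ℕ) < 2 by decide), fun p hp hpos => by
    obtain ⟨-, h2, h3, -⟩ := (weyl f).step_spec 1 (show (1 : ℕ) < 2 by decide)
    have h := twistG2_top
    simp only [List.all_eq_true, Nat.blt_eq] at h
    have h4 := h _ (List.getElem_mem (h2.symm ▸ hp : p < _))
    change ((weyl f).E.get 1).img[p]'_ < _ at h4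
    rw [← List.getD_eq_getElem _ 0, h3 p hp] at h4
    exact absurd hpos.1 (by omega)⟩

theorem card_H : Nat.card ↥(chevG2.diagonalSubgroup K ⊓ (tw f).fix) = 3 ^ (2 * m + 1) - 1 := by
  classical
  have hrange : (param f).range = chevG2.diagonalSubgroup K ⊓ (tw f).fix := by
    refine le_antisymm ?_ fun g hg => exists_param f hf hK hg
    rintro g ⟨x, rfl⟩
    exact ⟨certFullG2.torus_mem _, param_fix f hf hK x⟩
  have hinj : Function.Injective (param f) := by
    intro x y e
    have h1 := torus_inj (K := K) e 1 (by omega)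
    rwa [(zOf_apply f x).2, (zOf_apply f y).2] at h1
  rw [← hrange, ← Nat.card_congr (MonoidHom.ofInjective hinj).toEquiv, Nat.card_units,
    natCard f hf hK]

theorem card_diag : Nat.card ↥(chevG2.diagonalSubgroup K ⊓ twistedG2 K (3 ^ m)) =
    3 ^ (2 * m + 1) - 1 := by
  rw [show twistedG2 K (3 ^ m) = (tw f).fix from (datum f hf hK).eq_fix, card_H f hf hK]

theorem card_U : Nat.card ↥(chevG2.posUnipotent K ⊓ twistedG2 K (3 ^ m)) =
    (3 ^ (2 * m + 1)) ^ 3 := by
  rw [show twistedG2 K (3 ^ m) = (tw f).fix from (datum f hf hK).eq_fix,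
    (datum f hf hK).card_U_half rfl (by decide), natCard f hf hK]
  rfl

theorem lenOf_values : Twist.Datum.lenOf (weyl f) 0 = 0 ∧ Twist.Datum.lenOf (weyl f) 1 = 6 := by
  constructor
  · rfl
  · show ((List.map (fun j => certFullG2.T.invT (orbitsG2.getD j [])) [0])).sum = 6
    decide +kernel

theorem card_group : Nat.card ↥(twistedG2 K (3 ^ m)) =
    (3 ^ (2 * m + 1)) ^ 3 * (3 ^ (2 * m + 1) - 1) * ((3 ^ (2 * m + 1)) ^ 3 + 1) := by
  obtain ⟨l0, l1⟩ := lenOf_values f hf hK
  have h : Nat.card ↥(twistedG2 K (3 ^ m)) = _ := (datum f hf hK).card_G₁_half rfl (by decide)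
    fun i hi => by
      rcases (show i = 0 ∨ i = 1 by change i < 2 at hi; omega) with rfl | rfl
      · exact ⟨0, l0⟩
      · exact ⟨3, l1⟩
  rw [natCard f hf hK, card_H f hf hK] at h
  rw [h]
  show _ * _ * (((List.range 2).map fun i => Twist.Datum.lenOf (weyl f) i / 2).map _).sum = _
  simp only [List.range_succ, List.range_zero, List.nil_append, List.cons_append, List.map_cons,
    List.map_nil, List.sum_cons, List.sum_nil, l0, l1]
  show (3 ^ (2 * m + 1)) ^ 3 * _ * _ = _
  ring

/-- The parametrisation of the positive part. -/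
theorem mem_U_iff (g : GL chevG2.Idx K) :
    g ∈ chevG2.posUnipotent K ⊓ twistedG2 K (3 ^ m) ↔
      ∃ t u v : K, (g : Matrix chevG2.Idx chevG2.Idx K) =
        chevG2.wordMat K (reeWordU (3 ^ m) t u v) := by
  classical
  let F : K × K × K → GL chevG2.Idx K := fun x =>
    ((reeWordU (3 ^ m) x.1 x.2.1 x.2.2).map fun p => certFullG2.xg p.1 p.2).prod
  have hsub : Set.range F ⊆ ↑(chevG2.posUnipotent K ⊓ twistedG2 K (3 ^ m)) := by
    rintro _ ⟨⟨t, u, v⟩, rfl⟩
    refine ⟨Subgroup.list_prod_mem _ fun x hx => ?_,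
      wordProd_mem certFullG2 ⟨t, u, v, Or.inl rfl⟩⟩
    simp only [reeWordU, g2a, g2b, g2ab, g2aab, g2aaab, g2aaabb, List.map_cons, List.map_nil,
      List.mem_cons, List.not_mem_nil, or_false] at hx
    rcases hx with rfl | rfl | rfl | rfl | rfl | rfl <;>
      exact certFullG2.xg_mem_U ⟨by decide, by decide⟩ _
  have hinj : Function.Injective F := by
    have key : ∀ t u v : K, F (t, u, v) = certFullG2.oprod 6 fun r =>
        if r = 6 then t else if r = 7 then f t else if r = 8 then f u else if r = 9 then f v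
        else if r = 10 then f t ^ 3 * t + u else f t ^ 3 * t ^ 2 + v := by
      intro t u v
      have hcl := class_comm (K := K) pos_class (f t) t
      simp only [Int.cast_one, one_mul] at hcl
      have hFa : F (t, u, v) = certFullG2.xg 7 (f t) * certFullG2.xg 6 t *
          (certFullG2.xg 8 (f t * t + f u) * certFullG2.xg 9 (f t ^ 2 * t + f v) *
            (certFullG2.xg 10 u * certFullG2.xg 11 v)) := by
        simp [F, reeWordU, g2a, g2b, g2ab, g2aab, g2aaab, g2aaabb, hf t, hf u, hf v, pow_succ,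
          pow_mul', mul_assoc]
      have hc := fun {i j : ℕ} (hi : i ∈ [8, 9, 10, 11]) (hj : j ∈ [8, 9, 10, 11]) (x y : K) =>
        class_commute (K := K) pos_class hi hj x y
      have h' : certFullG2.xg 7 (f t) * certFullG2.xg 6 t =
          certFullG2.xg 6 t * certFullG2.xg 7 (f t) *
          (certFullG2.xg 8 (-(f t * t)) * certFullG2.xg 9 (-(f t ^ 2 * t)) *
            (certFullG2.xg 10 (f t ^ 3 * t) * certFullG2.xg 11 (f t ^ 3 * t ^ 2))) := by
        rw [hcl, mul_assoc _ (_ * _ * (_ * _)),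
          mul2_comm (((hc (by simp) (by simp) _ _).mul_right (hc (by simp) (by simp) _ _)).mul_left
            ((hc (by simp) (by simp) _ _).mul_right (hc (by simp) (by simp) _ _))),
          mul2_comm (hc (i := 9) (j := 8) (by simp) (by simp) _ _),
          mul2_comm (hc (i := 11) (j := 10) (by simp) (by simp) _ _),
          ← certFullG2.xg_add, ← certFullG2.xg_add, ← certFullG2.xg_add, ← certFullG2.xg_add,
          add_neg_cancel, add_neg_cancel, neg_add_cancel, neg_add_cancel,
          certFullG2.xg_zero, certFullG2.xg_zero, certFullG2.xg_zero, certFullG2.xg_zero]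
        simp
      rw [hFa, h', mul_assoc (certFullG2.xg 6 t * certFullG2.xg 7 (f t)),
        mul2_comm (((hc (by simp) (by simp) _ _).mul_right (hc (by simp) (by simp) _ _)).mul_left
            ((hc (by simp) (by simp) _ _).mul_right (hc (by simp) (by simp) _ _))),
        mul2_comm (hc (i := 9) (j := 8) (by simp) (by simp) _ _),
          mul2_comm (hc (i := 11) (j := 10) (by simp) (by simp) _ _),
        ← certFullG2.xg_add, ← certFullG2.xg_add, ← certFullG2.xg_add, ← certFullG2.xg_add]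
      show _ = (List.map _ (List.range' 6 6)).prod
      simp [List.range'_succ, mul_assoc]
    rintro ⟨t, u, v⟩ ⟨t', u', v'⟩ e
    rw [key, key] at e
    have h := certFullG2.oprod_inj _ 6 rfl (le_refl 6) _ _ e
    have h6 := h 6 (le_refl 6) (by decide)
    have h8 := h 8 (by omega) (by decide)
    have h9 := h 9 (by omega) (by decide)
    simp at h6 h8 h9
    rw [h6, f.injective h8, f.injective h9]
  have hcard : Nat.card (Set.range F) =
      Nat.card ↥(chevG2.posUnipotent K ⊓ twistedG2 K (3 ^ m)) := by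
    rw [Nat.card_range_of_injective hinj, Nat.card_prod, Nat.card_prod, card_U f hf hK,
      natCard f hf hK]
    ring
  have heq : Set.range F = ↑(chevG2.posUnipotent K ⊓ twistedG2 K (3 ^ m)) :=
    Set.eq_of_subset_of_ncard_le hsub (by
      rw [← Nat.card_coe_set_eq, ← Nat.card_coe_set_eq]; exact hcard.ge) (Set.toFinite _)
  have hval : ∀ t u v : K, ((F (t, u, v) : GL chevG2.Idx K) : Matrix chevG2.Idx chevG2.Idx K) =
      chevG2.wordMat K (reeWordU (3 ^ m) t u v) := fun t u v => by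
    simp [F, reeWordU, ChevalleyDatum.wordMat]
  constructor
  · intro hg
    obtain ⟨⟨t, u, v⟩, rfl⟩ : g ∈ Set.range F := by rw [heq]; exact hg
    exact ⟨t, u, v, hval t u v⟩
  · rintro ⟨t, u, v, e⟩
    obtain rfl : g = F (t, u, v) := Units.ext (e.trans (hval t u v).symm)
    exact hsub ⟨_, rfl⟩

/-! ### Perfectness and simplicity -/

omit hf hK [Fintype K] [CharP K 3] [ExpChar K 3] in
theorem tchar_values (z : ℕ → Kˣ) :
    certFullG2.tchar z 7 = z 0 * z 0 * (z 1)⁻¹ ∧
    certFullG2.tchar z 6 = z 1 * z 1 * (z 0 * z 0 * z 0)⁻¹ ∧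
    certFullG2.tchar z 8 = z 1 * (z 0)⁻¹ ∧
    certFullG2.tchar z 9 = z 0 ∧
    certFullG2.tchar z 10 = z 0 * z 0 * z 0 * (z 1)⁻¹ ∧
    certFullG2.tchar z 11 = z 1 := by
  have hA : [7, 6, 8, 9, 10, 11].map (fun r => (List.range 2).map fun i => certFullG2.T.cartan i r) =
      [[2, -1], [-3, 2], [-1, 1], [1, 0], [3, -1], [0, 1]] := by decide +kernel
  simp only [List.map_cons, List.map_nil, List.range_succ, List.range_zero, List.nil_append,
    List.cons_append, List.cons.injEq, and_true] at hA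
  have h3 : ∀ x : Kˣ, x ^ (3 : ℤ) = x * x * x := fun x => by
    rw [zpow_ofNat, pow_three, mul_assoc]
  simp only [Cert.tchar, show chevG2.rank = 2 from rfl, Finset.prod_range_succ,
    Finset.prod_range_zero, one_mul, hA, zpow_two, _root_.zpow_neg, zpow_one, _root_.zpow_zero,
    mul_one, h3, _root_.mul_inv_rev]
  refine ⟨?_, ?_, ?_, ?_, ?_, ?_⟩ <;> simp only [mul_comm, mul_assoc, mul_left_comm]

omit hf hK [Fintype K] [CharP K 3] [ExpChar K 3] in
theorem invSet_values :
    ((List.range' 6 6).filter fun r => Nat.blt (certFullG2.T.wlT [0, 1, 0, 1, 0, 1] r) 6) =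
      [6, 7, 8, 9, 10, 11] := by
  decide +kernel

omit hf hK [Fintype K] [CharP K 3] [ExpChar K 3] in
theorem invSet_eq {J : List ℕ} (hJ : ∀ p ∈ J, p < chevG2.rank) (r : ℕ) :
    r ∈ certFullG2.invSet J ↔
      r ∈ (List.range' 6 6).filter fun r => Nat.blt (certFullG2.T.wlT J r) 6 := by
  rw [List.mem_filter, List.mem_range'_1, Nat.blt_eq, certFullG2.wlT_eq]
  constructor
  · intro hr
    refine ⟨⟨hr.1.1, hr.1.2⟩, ?_⟩
    by_contra h'
    exact hr.2 ⟨by show 6 ≤ _; omega, certFullG2.wl_lt hJ hr.1.2⟩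
  · intro hr
    exact ⟨⟨hr.1.1, hr.1.2⟩, fun h => absurd h.1 (by show ¬ 6 ≤ _; omega)⟩

theorem tchar_ne {w : Kˣ} (hw : w * w ≠ 1) {r : ℕ}
    (hr : r ∈ certFullG2.invSet [0, 1, 0, 1, 0, 1]) : certFullG2.tchar (zOf f w) r ≠ 1 := by
  set W := Units.map (f : K →* K) w with hWdef
  have hWW : Units.map (f : K →* K) W ^ 3 = w := Units.ext (ff_cube f hf hK (w : K))
  have hW7 : W * W ≠ w := by
    intro e
    have e2 := congrArg (Units.map (f : K →* K)) e
    rw [map_mul, ← hWdef] at e2
    have e3 : W * W * W = w * W := by rw [e]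
    have e4 : w * w = W * W * W := by
      rw [← hWW, ← mul_pow, e2, pow_succ, sq]
    have h1 : w = W := mul_left_cancel (e4.trans e3)
    rw [← h1] at e
    have h2 : w = 1 := mul_eq_left.1 e
    exact hw (by rw [h2, one_mul])
  have hW8 : W ≠ w := by
    intro e
    have h := hWW
    rw [e, ← hWdef, e, pow_succ, sq, mul_eq_right] at h
    exact hw h
  have hW1 : W ≠ 1 := by
    intro e
    have h2 : w = 1 := by
      have h := hWW
      rw [e, map_one, one_pow] at h
      exact h.symm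
    exact hw (by rw [h2, one_mul])
  have hlt : ∀ p ∈ [0, 1, 0, 1, 0, 1], p < chevG2.rank := by rw [node_values.2.2.1]; simp
  rw [invSet_eq hlt, invSet_values] at hr
  obtain ⟨z0, z1⟩ := zOf_apply f w
  obtain ⟨c7, c6, c8, c9, c10, c11⟩ := tchar_values (zOf f w)
  rw [z0, z1, ← hWdef] at c7 c6 c8 c10
  rw [z0, ← hWdef] at c9
  rw [z1] at c11
  simp only [List.mem_cons, List.not_mem_nil, or_false] at hr
  intro e
  rcases hr with rfl | rfl | rfl | rfl | rfl | rfl
  · rw [c6, mul_inv_eq_one] at e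
    have e2 := congrArg (Units.map (f : K →* K)) e
    rw [map_mul, map_mul, map_mul, ← hWdef,
      show Units.map (f : K →* K) W * Units.map (f : K →* K) W * Units.map (f : K →* K) W = w from
        by rw [← hWW, pow_succ, sq]] at e2
    exact hW7 e2
  · rw [c7, mul_inv_eq_one] at e
    exact hW7 e
  · rw [c8, mul_inv_eq_one] at e
    exact hW8 e.symm
  · rw [c9] at e
    exact hW1 e
  · rw [c10, mul_inv_eq_one] at e
    have e2 := congrArg (Units.map (f : K →* K)) e
    rw [map_mul, map_mul, ← hWdef,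
      show Units.map (f : K →* K) W * Units.map (f : K →* K) W * Units.map (f : K →* K) W = w from
        by rw [← hWW, pow_succ, sq]] at e2
    exact hW8 e2.symm
  · rw [c11] at e
    exact hw (by rw [e, one_mul])

theorem perfect (hm : 1 ≤ m) : commutator ↥(twistedG2 K (3 ^ m)) = ⊤ := by
  classical
  set Z := datum f hf hK
  obtain ⟨w, hw⟩ : ∃ w : Kˣ, w * w ≠ 1 := by
    by_contra hall
    push Not at hall
    have hsub : (Finset.univ : Finset Kˣ) ⊆ {1, -1} := fun s _ => by
      have : (s : K) * s = 1 := by rw [← Units.val_mul, hall s, Units.val_one]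
      rcases mul_self_eq_one_iff.1 this with e | e
      · simp [Units.ext_iff, e]
      · simp [Units.ext_iff, e]
    have h := (Finset.card_le_card hsub).trans Finset.card_le_two
    rw [Finset.card_univ, Fintype.card_units, hK] at h
    have := Nat.pow_le_pow_right (show 0 < 3 by omega) (show 3 ≤ 2 * m + 1 by omega)
    omega
  have hlt : ∀ p ∈ [0, 1, 0, 1, 0, 1], p < chevG2.rank := by rw [node_values.2.2.1]; simp
  have hJ : [0, 1, 0, 1, 0, 1] ∈ Z.W.Jw := by show _ ∈ orbitsG2; decide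
  have hS : ∀ x ∈ certFullG2.KS K (certFullG2.invSet [0, 1, 0, 1, 0, 1]) certFullG2.T.h ⊓
      (tw f).fix, x ∈ ⁅Z.G₁, Z.G₁⁆ := fun x hx => by
    refine Z.mem_commutator_torus (certFullG2.invSet_closed hlt)
      (fun r hr => (tw f).ρ_mem_invSet hlt ((Z.W.J_spec hJ).2.2.1) hr)
      (param_fix f hf hK w) (fun r hr => ?_) hx
    exact tchar_ne f hf hK hw hr
  have hn : chevG2.neg 4 = 7 ∧ chevG2.neg 5 = 6 ∧ chevG2.neg 3 = 8 ∧ chevG2.neg 2 = 9 ∧
      chevG2.neg 1 = 10 ∧ chevG2.neg 0 = 11 ∧ chevG2.nroots = 12 := by decide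
  refine Z.perfect_of_gens rfl ?_
  rintro g ⟨w', hw', hg⟩
  obtain rfl := eq_wordProd certFullG2 hg
  have hfixg := le_fix f hf hK (wordProd_mem certFullG2 hw')
  obtain ⟨n4, n5, n3, n2, n1, n0, hnr⟩ := hn
  rcases hw' with ⟨t, u, v, rfl | rfl⟩
  · refine Z.word_mem_commutator hJ hS hfixg (Or.inl fun x hx => ?_)
    rw [invSet_eq hlt, invSet_values]
    simp only [reeWordU, g2a, g2b, g2ab, g2aab, g2aaab, g2aaabb, List.mem_cons, List.not_mem_nil,
      or_false] at hx
    rcases hx with rfl | rfl | rfl | rfl | rfl | rfl <;> simp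
  · refine Z.word_mem_commutator hJ hS hfixg (Or.inr fun x hx => ?_)
    rw [invSet_eq hlt, invSet_values, hnr]
    simp [reeWordV, reeWordU, ChevalleyDatum.negWord, chevG2, chevG2NegIdx, g2a, g2b, g2ab, g2aab,
      g2aaab, g2aaabb] at hx
    rcases hx with rfl | rfl | rfl | rfl | rfl | rfl <;> simp [n4, n5, n3, n2, n1, n0]

theorem chain : (datum f hf hK).Chain := by
  intro a ha
  change a + 1 < 1 at ha
  omega

theorem simple (hm : 1 ≤ m) :
    IsSimpleGroup ↥(twistedG2 K (3 ^ m)) ∧ ¬ IsMulCommutative ↥(twistedG2 K (3 ^ m)) :=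
  (datum f hf hK).simple (by show orbitsG2 ≠ []; decide) (chain f hf hK) (perfect f hf hK hm)

theorem weylHom : ∃ φ : ↥(chevG2.monomialSubgroup K ⊓ twistedG2 K (3 ^ m)) →* Multiplicative (ZMod 2),
    Function.Surjective φ ∧ φ.ker = (chevG2.diagonalSubgroup K ⊓ twistedG2 K (3 ^ m)).subgroupOf
      (chevG2.monomialSubgroup K ⊓ twistedG2 K (3 ^ m)) :=
  (datum f hf hK).exists_twoHom rfl (by show orbitsG2.Nodup; decide)

end Cfsg.Agent.Lie.Chev.G2
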