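import Cfsg.Agent.Lib.Lie.Chev.TwistG2
import Mathlib.GroupTheory.SpecificGroups.Cyclic
import Mathlib.GroupTheory.Sylow

/-! Torus and unipotent subgroup of the small Ree groups. -/

set_option autoImplicit false
set_option maxRecDepth 4000

namespace Cfsg.Agent.Lie.Chev.G2

open Cfsg.Lie Matrix

variable {K : Type*} [Field K] (f : K →+* K) [CharP K 3] [ExpChar K 3]
variable [Fintype K] {m : ℕ} (hf : ∀ t, f t = t ^ 3 ^ m) (hK : Fintype.card K = 3 ^ (2 * m + 1))

include hf hK

/-- The diagonal part is the multiplicative group of the field. -/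
theorem exists_param_equiv : ∃ e : Kˣ ≃* ↥(chevG2.diagonalSubgroup K ⊓ twistedG2 K (3 ^ m)),
    ∀ x, (e x : GL chevG2.Idx K) = param f x := by
  have hmem : ∀ x, param f x ∈ chevG2.diagonalSubgroup K ⊓ twistedG2 K (3 ^ m) := fun x =>
    ⟨certFullG2.torus_mem _, param_mem f hf hK x⟩
  set φ : Kˣ →* ↥(chevG2.diagonalSubgroup K ⊓ twistedG2 K (3 ^ m)) :=
    (param f).codRestrict _ hmem with hφ
  have hb : Function.Bijective φ := by
    refine ⟨fun x y e => ?_, fun g => ?_⟩
    · have h1 := torus_inj (K := K) (congrArg Subtype.val e) 1 (by omega)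
      rwa [(zOf_apply f x).2, (zOf_apply f y).2] at h1
    · obtain ⟨x, hx⟩ := exists_param f hf hK ⟨g.2.1, le_fix f hf hK g.2.2⟩
      exact ⟨x, Subtype.ext hx⟩
  exact ⟨MulEquiv.ofBijective φ hb, fun x => rfl⟩

theorem isCyclic_diag : IsCyclic ↥(chevG2.diagonalSubgroup K ⊓ twistedG2 K (3 ^ m)) := by
  obtain ⟨e, -⟩ := exists_param_equiv f hf hK
  exact isCyclic_of_surjective e.toMonoidHom e.surjective

/-- `q - 1` is twice an odd number. -/
theorem exists_half : ∃ k : ℕ, Odd k ∧ 3 ^ (2 * m + 1) - 1 = 2 * k := by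
  have h4 : 3 ^ (2 * m + 1) % 4 = 3 := by
    rw [pow_succ, pow_mul, Nat.mul_mod, Nat.pow_mod]
    norm_num
  refine ⟨(3 ^ (2 * m + 1) - 1) / 2, Nat.odd_iff.2 ?_, ?_⟩ <;> omega

theorem odd_diag :
    2 * Nat.card {h : ↥(chevG2.diagonalSubgroup K ⊓ twistedG2 K (3 ^ m)) // Odd (orderOf h)} =
      3 ^ (2 * m + 1) - 1 ∧
    ∀ h ∈ (chevG2.diagonalSubgroup K ⊓ twistedG2 K (3 ^ m)), h ≠ 1 → Odd (orderOf h) →
      (chevG2.posUnipotent K ⊓ twistedG2 K (3 ^ m)) ⊓ Subgroup.centralizer {h} = ⊥ := by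
  classical
  obtain ⟨e, he⟩ := exists_param_equiv f hf hK
  constructor
  · obtain ⟨k, hk, hkq⟩ := exists_half f hf hK
    have hKu : Nat.card Kˣ = 2 * k := by rw [Nat.card_units, natCard f hf hK, hkq]
    have h1 : Nat.card {x : Kˣ // Odd (orderOf x)} = k := by
      have hiff : ∀ x : Kˣ, Odd (orderOf x) ↔ x ∈ (powMonoidHom k : Kˣ →* Kˣ).ker := by
        intro x
        rw [MonoidHom.mem_ker, powMonoidHom_apply, ← orderOf_dvd_iff_pow_eq_one]
        refine ⟨fun h => ?_, fun h => hk.of_dvd_nat h⟩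
        exact (Nat.Coprime.dvd_mul_left h.coprime_two_right).1 (hKu ▸ orderOf_dvd_natCard x)
      rw [Nat.card_congr (Equiv.subtypeEquivRight hiff)]
      exact (IsCyclic.card_powMonoidHom_ker (G := Kˣ) k).trans (by
        rw [hKu]; exact Nat.gcd_eq_right (Dvd.intro_left 2 rfl))
    rw [← Nat.card_congr (Equiv.subtypeEquiv e.toEquiv (p := fun x => Odd (orderOf x))
      (q := fun h => Odd (orderOf h)) (fun x => by
        show Odd (orderOf x) ↔ Odd (orderOf (e x))
        rw [e.orderOf_eq])), h1, hkq]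
  · intro h hh h1 hodd
    obtain ⟨x, rfl⟩ : ∃ x, param f x = h := ⟨e.symm ⟨h, hh⟩, by rw [← he, e.apply_symm_apply]⟩
    have hxx : x * x ≠ 1 := by
      intro h2
      have hd : orderOf (param f x) ∣ 2 := orderOf_dvd_of_pow_eq_one (by
        rw [← map_pow, sq, h2, map_one])
      rcases (Nat.dvd_prime Nat.prime_two).1 hd with h3 | h3
      · exact h1 (orderOf_eq_one_iff.1 h3)
      · rw [h3] at hodd
        exact absurd hodd (by decide)
    rw [eq_bot_iff]
    rintro u ⟨⟨huU, -⟩, hc⟩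
    rw [Subgroup.mem_bot]
    have hlt : ∀ p ∈ [0, 1, 0, 1, 0, 1], p < chevG2.rank := by rw [node_values.2.2.1]; simp
    have hu : u ∈ certFullG2.KS K (certFullG2.invSet [0, 1, 0, 1, 0, 1]) certFullG2.T.h := by
      rw [certFullG2.U_eq_KS] at huU
      refine Subgroup.closure_mono ?_ huU
      rintro g ⟨r, t, hr, hle, e'⟩
      refine ⟨r, t, ?_, hle, e'⟩
      rw [invSet_eq hlt, invSet_values]
      have hr' := hr.1
      have h6 : 6 ≤ r := hr'.1
      have h12 : r < 12 := hr'.2
      simp only [List.mem_cons, List.not_mem_nil, or_false]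
      omega
    refine certFullG2.eq_one_of_torus_fixed (certFullG2.invSet_closed hlt)
      (fun r hr => tchar_ne f hf hK hxx hr) hu ?_
    show param f x * u * (param f x)⁻¹ = u
    rw [Subgroup.mem_centralizer_iff.1 hc _ rfl, mul_inv_cancel_right]

/-! ### Elements of order three -/

omit hf hK [Fintype K] [CharP K 3] [ExpChar K 3] [Field K] in
theorem cube_mul {G : Type*} [Group G] {x y D z₁ z₂ : G} (hyx : y * x = x * y * D)
    (hDx : D * x = x * D * z₁) (hDy : D * y = y * D * z₂) (hx : x ^ 3 = 1) (hy : y ^ 3 = 1)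
    (hD : D ^ 3 = 1) (h1x : Commute z₁ x) (h1y : Commute z₁ y) (h1D : Commute z₁ D)
    (h2x : Commute z₂ x) (h2y : Commute z₂ y) (h2D : Commute z₂ D) (h12 : Commute z₁ z₂) (hz : z₂ ^ 3 = 1) :
    (x * y) ^ 3 = z₁ * z₂ ^ 2 := by
  have hx' : ∀ w, x * (x * (x * w)) = w := fun w => by
    rw [← mul_assoc, ← mul_assoc, ← pow_three' x, hx, one_mul]
  have hy' : ∀ w, y * (y * (y * w)) = w := fun w => by
    rw [← mul_assoc, ← mul_assoc, ← pow_three' y, hy, one_mul]
  have hD' : ∀ w, D * (D * (D * w)) = w := fun w => by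
    rw [← mul_assoc, ← mul_assoc, ← pow_three' D, hD, one_mul]
  have hz' : ∀ w, z₂ * (z₂ * (z₂ * w)) = w := fun w => by
    rw [← mul_assoc, ← mul_assoc, ← pow_three' z₂, hz, one_mul]
  have a1 : ∀ w, y * (x * w) = x * (y * (D * w)) := fun w => by
    rw [← mul_assoc, hyx, mul_assoc, mul_assoc]
  have a2 : ∀ w, D * (x * w) = x * (D * (z₁ * w)) := fun w => by
    rw [← mul_assoc, hDx, mul_assoc, mul_assoc]
  have a3 : ∀ w, D * (y * w) = y * (D * (z₂ * w)) := fun w => by
    rw [← mul_assoc, hDy, mul_assoc, mul_assoc]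
  rw [pow_three, sq]
  calc _ = x * (y * (x * (y * (x * (y * 1))))) := by simp only [mul_assoc, mul_one]
    _ = z₁ * (z₂ * (z₂ * 1)) := by
      simp only [a1, a2, a3, h1x.left_comm, h1y.left_comm, h1D.left_comm, h2x.left_comm,
        h2y.left_comm, h2D.left_comm, h12.symm.left_comm, hx', hy', hD', hz']
    _ = _ := by rw [mul_one]

omit hf hK [Fintype K] [CharP K 3] [ExpChar K 3] [Field K] in
theorem cube_mul_right {G : Type*} [Group G] {A C a : G} (hCA : C * A = A * C * a)
    (hC : C ^ 3 = 1) (ha : a ^ 3 = 1) (haA : Commute a A) (haC : Commute a C) :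
    (A * C) ^ 3 = A ^ 3 := by
  have hC' : ∀ w, C * (C * (C * w)) = w := fun w => by
    rw [← mul_assoc, ← mul_assoc, ← pow_three' C, hC, one_mul]
  have ha' : ∀ w, a * (a * (a * w)) = w := fun w => by
    rw [← mul_assoc, ← mul_assoc, ← pow_three' a, ha, one_mul]
  have a1 : ∀ w, C * (A * w) = A * (C * (a * w)) := fun w => by
    rw [← mul_assoc, hCA, mul_assoc, mul_assoc]
  rw [pow_three, pow_three]
  calc _ = A * (C * (A * (C * (A * (C * 1))))) := by simp only [mul_assoc, mul_one]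
    _ = A * (A * (A * 1)) := by
      simp only [a1, haA.left_comm, haC.left_comm, hC', ha']
    _ = _ := by rw [mul_one]

omit hf hK [Fintype K] [ExpChar K 3] in
theorem xg_cube (r : ℕ) (a : K) : certFullG2.xg r a ^ 3 = 1 := by
  rw [pow_succ, sq, ← certFullG2.xg_add, ← certFullG2.xg_add,
    show a + a + a = (3 : K) * a by ring, three_eq_zero, zero_mul, certFullG2.xg_zero]

omit hf hK [Fintype K] [ExpChar K 3] [CharP K 3] in
theorem more_comm :
    certFullG2.T.commTerms 7 8 = [(9, -2, 1, 1), (10, -3, 2, 1), (11, 3, 1, 2)] ∧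
    certFullG2.T.commTerms 7 9 = [(10, 3, 1, 1)] ∧
    certFullG2.T.commTerms 7 10 = [] ∧ certFullG2.T.commTerms 7 11 = [] ∧
    certFullG2.T.commTerms 6 8 = [] ∧ certFullG2.T.commTerms 6 9 = [] ∧
    certFullG2.T.commTerms 6 10 = [(11, 1, 1, 1)] ∧ certFullG2.T.commTerms 6 11 = [] := by
  decide +kernel

omit hf hK [Fintype K] [ExpChar K 3] in
/-- Moving a product of the upper root elements past the two fundamental ones. -/
theorem upper_past (p q r s t u : K) :
    (certFullG2.xg 8 p * certFullG2.xg 9 q * (certFullG2.xg 10 r * certFullG2.xg 11 s)) *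
        certFullG2.xg 7 u =
      certFullG2.xg 7 u *
        (certFullG2.xg 8 p * certFullG2.xg 9 q * (certFullG2.xg 10 r * certFullG2.xg 11 s)) *
        certFullG2.xg 9 (2 * (u * p)) ∧
    (certFullG2.xg 8 p * certFullG2.xg 9 q * (certFullG2.xg 10 r * certFullG2.xg 11 s)) *
        certFullG2.xg 6 t =
      certFullG2.xg 6 t *
        (certFullG2.xg 8 p * certFullG2.xg 9 q * (certFullG2.xg 10 r * certFullG2.xg 11 s)) *
        certFullG2.xg 11 (-(t * r)) := by
  obtain ⟨c78, c79, c710, c711, c68, c69, c610, c611⟩ := more_comm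
  have e : ∀ r < 12, chevG2.neg r = 11 - r := fun r hr => certFullG2.neg_eq hr
  have h3 : ((3 : ℤ) : K) = 0 := by rw [Int.cast_ofNat]; exact three_eq_zero
  have cm : ∀ {i j : ℕ}, i < 12 → j < 12 → j ≠ i → i + j ≠ 11 →
      certFullG2.T.commTerms i j = [] → ∀ a b : K,
      Commute (certFullG2.xg i a) (certFullG2.xg j b) := fun {i j} hi hj h1 h2 h a b =>
    certFullG2.xg_commute hi hj h1 (by rw [e i hi]; omega) h a b
  have hz9 := fun {i : ℕ} (hi : i ∈ [8, 9, 10, 11]) (a b : K) =>
    class_commute (K := K) pos_class (i := i) (j := 9) hi (by simp) a b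
  have hz11 := fun {i : ℕ} (hi : i ∈ [8, 9, 10, 11]) (a b : K) =>
    class_commute (K := K) pos_class (i := i) (j := 11) hi (by simp) a b
  set C9 := certFullG2.xg 9 q
  set C10 := certFullG2.xg 10 r
  set C11 := certFullG2.xg 11 s
  constructor
  · have h9 : Commute C9 (certFullG2.xg 7 u) := by
      have h := certFullG2.xg_comm (F := K) (show 7 < 12 by omega) (show 9 < 12 by omega)
        (by omega) (by rw [e 7 (by omega)]; omega) u q
      rw [c79] at h
      simpa [three_eq_zero (K := K), certFullG2.xg_zero, Commute, SemiconjBy] using h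
    have h10 : Commute C10 (certFullG2.xg 7 u) :=
      (cm (by omega) (by omega) (by omega) (by omega) c710 u r).symm
    have h11 : Commute C11 (certFullG2.xg 7 u) :=
      (cm (by omega) (by omega) (by omega) (by omega) c711 u s).symm
    have h8 : certFullG2.xg 8 p * certFullG2.xg 7 u =
        certFullG2.xg 7 u * certFullG2.xg 8 p * certFullG2.xg 9 (2 * (u * p)) := by
      have h := certFullG2.xg_comm (F := K) (show 7 < 12 by omega) (show 8 < 12 by omega)
        (by omega) (by rw [e 7 (by omega)]; omega) u p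
      rw [c78] at h
      rw [h]
      congr 1
      simp only [List.map_cons, List.map_nil, List.prod_cons, List.prod_nil, pow_one,
        Int.cast_neg, h3, neg_zero, zero_mul, certFullG2.xg_zero, mul_one, Int.cast_ofNat]
      congr 1
      ring
    have a8 : ∀ w, certFullG2.xg 8 p * (certFullG2.xg 7 u * w) = certFullG2.xg 7 u *
        (certFullG2.xg 8 p * (certFullG2.xg 9 (2 * (u * p)) * w)) := fun w => by
      rw [← mul_assoc, h8, mul_assoc, mul_assoc]
    have z1 : Commute (certFullG2.xg 9 (2 * (u * p))) C9 := (hz9 (by simp) _ _).symm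
    have z2 : Commute (certFullG2.xg 9 (2 * (u * p))) C10 := (hz9 (by simp) _ _).symm
    have z3 : Commute (certFullG2.xg 9 (2 * (u * p))) C11 := (hz9 (by simp) _ _).symm
    refine mul_right_cancel (b := (1 : GL chevG2.Idx K)) ?_
    simp only [mul_assoc]
    simp only [h11.left_comm, h10.left_comm, h9.left_comm, a8, z1.left_comm, z2.left_comm,
      z3.left_comm]
  · have h8 : Commute (certFullG2.xg 8 p) (certFullG2.xg 6 t) :=
      (cm (by omega) (by omega) (by omega) (by omega) c68 t p).symm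
    have h9 : Commute C9 (certFullG2.xg 6 t) :=
      (cm (by omega) (by omega) (by omega) (by omega) c69 t q).symm
    have h11 : Commute C11 (certFullG2.xg 6 t) :=
      (cm (by omega) (by omega) (by omega) (by omega) c611 t s).symm
    have h10 : C10 * certFullG2.xg 6 t =
        certFullG2.xg 6 t * C10 * certFullG2.xg 11 (-(t * r)) := by
      have h := certFullG2.xg_comm (F := K) (show 6 < 12 by omega) (show 10 < 12 by omega)
        (by omega) (by rw [e 6 (by omega)]; omega) t r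
      rw [c610] at h
      rw [h]
      congr 1
      simp only [List.map_cons, List.map_nil, List.prod_cons, List.prod_nil, pow_one, mul_one,
        Int.cast_one, one_mul]
      congr 1
      ring
    have hz : Commute (certFullG2.xg 11 (-(t * r))) C11 := (hz11 (by simp) _ _).symm
    have a10 : ∀ w, C10 * (certFullG2.xg 6 t * w) = certFullG2.xg 6 t *
        (C10 * (certFullG2.xg 11 (-(t * r)) * w)) := fun w => by
      rw [← mul_assoc, h10, mul_assoc, mul_assoc]
    refine mul_right_cancel (b := (1 : GL chevG2.Idx K)) ?_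
    simp only [mul_assoc]
    simp only [h11.left_comm, h9.left_comm, h8.left_comm, a10, hz.left_comm]

omit hK [Fintype K] [ExpChar K 3] in
theorem word_eq (t u v : K) :
    ((reeWordU (3 ^ m) t u v).map fun p => certFullG2.xg p.1 p.2).prod =
      certFullG2.xg 7 (f t) * certFullG2.xg 6 t *
        (certFullG2.xg 8 (f t * t + f u) * certFullG2.xg 9 (f t ^ 2 * t + f v) *
          (certFullG2.xg 10 u * certFullG2.xg 11 v)) := by
  simp [reeWordU, g2a, g2b, g2ab, g2aab, g2aaab, g2aaabb, hf t, hf u, hf v, pow_succ,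
    pow_mul', mul_assoc]

omit hK [Fintype K] [ExpChar K 3] in
theorem word_cube (t u v : K) :
    ((reeWordU (3 ^ m) t u v).map fun p => certFullG2.xg p.1 p.2).prod ^ 3 =
      certFullG2.xg 9 (2 * (f t * (f t * t))) * certFullG2.xg 11 (f t ^ 3 * t ^ 2) ^ 2 := by
  rw [word_eq f hf]
  have hc := fun {i j : ℕ} (hi : i ∈ [8, 9, 10, 11]) (hj : j ∈ [8, 9, 10, 11]) (x y : K) =>
    class_commute (K := K) pos_class hi hj x y
  have hcube : ∀ p q r s : K,
      (certFullG2.xg 8 p * certFullG2.xg 9 q * (certFullG2.xg 10 r * certFullG2.xg 11 s)) ^ 3 =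
        1 := fun p q r s => by
    rw [(((hc (by simp) (by simp) _ _).mul_right (hc (by simp) (by simp) _ _)).mul_left
        ((hc (by simp) (by simp) _ _).mul_right (hc (by simp) (by simp) _ _))).mul_pow,
      (hc (i := 8) (j := 9) (by simp) (by simp) _ _).mul_pow,
      (hc (i := 10) (j := 11) (by simp) (by simp) _ _).mul_pow]
    simp [xg_cube]
  have z9 : ∀ a : K, ∀ {j : ℕ}, j ∈ [6, 7, 8, 9, 10, 11] → ∀ b,
      Commute (certFullG2.xg 9 a) (certFullG2.xg j b) := by
    intro a j hj b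
    obtain ⟨-, c79, -, -, -, c69, -, -⟩ := more_comm
    simp only [List.mem_cons, List.not_mem_nil, or_false] at hj
    rcases hj with rfl | rfl | hj
    · exact (certFullG2.xg_commute (show 6 < 12 by omega) (show 9 < 12 by omega) (by omega)
        (by rw [show chevG2.neg 6 = 5 from certFullG2.neg_eq (by show _ < 12; omega)]; omega)
        c69 b a).symm
    · have h := certFullG2.xg_comm (F := K) (show 7 < 12 by omega) (show 9 < 12 by omega)
        (by omega)
        (by rw [show chevG2.neg 7 = 4 from certFullG2.neg_eq (by show _ < 12; omega)]; omega) b a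
      rw [c79] at h
      have h3 : ((3 : ℤ) : K) = 0 := by rw [Int.cast_ofNat]; exact three_eq_zero
      simpa [three_eq_zero (K := K), certFullG2.xg_zero, Commute, SemiconjBy] using h
    · exact hc (by simp) (by simp [hj]) a b
  have z11 : ∀ a : K, ∀ {j : ℕ}, j ∈ [6, 7, 8, 9, 10, 11] → ∀ b,
      Commute (certFullG2.xg 11 a) (certFullG2.xg j b) := by
    intro a j hj b
    obtain ⟨-, -, -, c711, -, -, -, c611⟩ := more_comm
    simp only [List.mem_cons, List.not_mem_nil, or_false] at hj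
    rcases hj with rfl | rfl | hj
    · exact (certFullG2.xg_commute (show 6 < 12 by omega) (show 11 < 12 by omega) (by omega)
        (by rw [show chevG2.neg 6 = 5 from certFullG2.neg_eq (by show _ < 12; omega)]; omega)
        c611 b a).symm
    · exact (certFullG2.xg_commute (show 7 < 12 by omega) (show 11 < 12 by omega) (by omega)
        (by rw [show chevG2.neg 7 = 4 from certFullG2.neg_eq (by show _ < 12; omega)]; omega)
        c711 b a).symm
    · exact hc (by simp) (by simp [hj]) a b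
  set x := certFullG2.xg 7 (f t)
  set y := certFullG2.xg 6 t
  set C := certFullG2.xg 8 (f t * t + f u) * certFullG2.xg 9 (f t ^ 2 * t + f v) *
    (certFullG2.xg 10 u * certFullG2.xg 11 v) with hCdef
  obtain ⟨hC7, hC6⟩ := upper_past (f t * t + f u) (f t ^ 2 * t + f v) u v t (f t)
  set a := certFullG2.xg 9 (2 * (f t * (f t * t + f u))) * certFullG2.xg 11 (-(t * u))
  have hCA : C * (x * y) = x * y * C * a := by
    rw [← mul_assoc, hC7, mul_assoc (x * C), ((z9 _ (by simp) t) :
      Commute _ (certFullG2.xg 6 t)).eq, ← mul_assoc, mul_assoc x C, hC6]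
    simp only [a, mul_assoc]
    simp only [x, y, C, mul_assoc]
    rw [(z11 (-(t * u)) (j := 9) (by simp) _).eq]
  have ha : a ^ 3 = 1 := by
    rw [(z9 _ (j := 11) (by simp) _).mul_pow, xg_cube, xg_cube, one_mul]
  have haC : Commute a C := by
    rw [hCdef]
    exact (((z9 _ (by simp) _).mul_right (z9 _ (by simp) _)).mul_right
      ((z9 _ (by simp) _).mul_right (z9 _ (by simp) _))).mul_left
      (((z11 _ (by simp) _).mul_right (z11 _ (by simp) _)).mul_right
      ((z11 _ (by simp) _).mul_right (z11 _ (by simp) _)))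
  have haA : Commute a (x * y) :=
    ((z9 _ (by simp) _).mul_right (z9 _ (by simp) _)).mul_left
      ((z11 _ (by simp) _).mul_right (z11 _ (by simp) _))
  rw [cube_mul_right hCA (hcube _ _ _ _) ha haA haC]
  have hcl := class_comm (K := K) pos_class (f t) t
  simp only [Int.cast_one, one_mul] at hcl
  obtain ⟨hD7, hD6⟩ := upper_past (f t * t) (f t ^ 2 * t) (-(f t ^ 3 * t)) (-(f t ^ 3 * t ^ 2))
    t (f t)
  rw [cube_mul hcl hD7 hD6 (xg_cube _ _) (xg_cube _ _) (hcube _ _ _ _) (z9 _ (by simp) _)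
    (z9 _ (by simp) _)
    (((z9 _ (by simp) _).mul_right (z9 _ (by simp) _)).mul_right
      ((z9 _ (by simp) _).mul_right (z9 _ (by simp) _))) (z11 _ (by simp) _) (z11 _ (by simp) _)
    (((z11 _ (by simp) _).mul_right (z11 _ (by simp) _)).mul_right
      ((z11 _ (by simp) _).mul_right (z11 _ (by simp) _))) (z9 _ (by simp) _) (xg_cube _ _),
    show -(t * -(f t ^ 3 * t)) = f t ^ 3 * t ^ 2 by ring]

theorem card_order_three :
    Nat.card {u : ↥(chevG2.posUnipotent K ⊓ twistedG2 K (3 ^ m)) // orderOf u = 3} =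
      (3 ^ (2 * m + 1)) ^ 2 - 1 := by
  classical
  set U := chevG2.posUnipotent K ⊓ twistedG2 K (3 ^ m)
  let wd : K × K × K → GL chevG2.Idx K := fun x =>
    ((reeWordU (3 ^ m) x.1 x.2.1 x.2.2).map fun p => certFullG2.xg p.1 p.2).prod
  have hwd : ∀ x : K × K × K, wd x ∈ U := fun x =>
    (mem_U_iff f hf hK _).2 ⟨x.1, x.2.1, x.2.2, by simp [wd, reeWordU, ChevalleyDatum.wordMat]⟩
  let φ : K × K × K → ↥U := fun x => ⟨wd x, hwd x⟩
  have hsurj : Function.Surjective φ := by
    intro g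
    obtain ⟨t, u, v, e⟩ := (mem_U_iff f hf hK _).1 g.2
    exact ⟨(t, u, v), Subtype.ext (eq_wordProd certFullG2 e).symm⟩
  have hb : Function.Bijective φ := by
    refine (Nat.bijective_iff_surjective_and_card φ).2 ⟨hsurj, ?_⟩
    rw [Nat.card_prod, Nat.card_prod, card_U f hf hK, natCard f hf hK]
    ring
  have hz := certFullG2.xg_zero (F := K)
  have h0 : φ 0 = 1 := by
    refine Subtype.ext ?_
    show wd 0 = 1
    simp [wd, word_eq f hf, hz]
  have hiff : ∀ x, orderOf (φ x) = 3 ↔ (x.1 = 0 ∧ x ≠ 0) := by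
    intro x
    rw [orderOf_eq_prime_iff, Subtype.ext_iff]
    show wd x ^ 3 = 1 ∧ _ ↔ _
    rw [show wd x ^ 3 = _ from word_cube f hf x.1 x.2.1 x.2.2, ← h0, hb.1.ne_iff]
    refine and_congr ⟨fun h => ?_, fun h => by simp [h, hz]⟩ Iff.rfl
    by_contra ht
    rw [sq (certFullG2.xg 11 _), ← certFullG2.xg_add, ← eq_inv_iff_mul_eq_one,
      certFullG2.xg_inv] at h
    have hz11 : certFullG2.xg 11 (-(f x.1 ^ 3 * x.1 ^ 2 + f x.1 ^ 3 * x.1 ^ 2)) ∈
        certFullG2.K K (9 + 1) :=
      certFullG2.xg_mem_K ⟨by decide, by decide⟩ (by omega) _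
    have h9 := certFullG2.xg_mul_K_inj (F := K) (m := 9) ⟨by decide, by decide⟩
      (one_mem _) hz11 (show certFullG2.xg 9 (2 * (f x.1 * (f x.1 * x.1))) * 1 =
        certFullG2.xg 9 0 * certFullG2.xg 11 (-(f x.1 ^ 3 * x.1 ^ 2 + f x.1 ^ 3 * x.1 ^ 2)) by
          rw [mul_one, hz, one_mul]; exact h)
    have h2 : (2 : K) ≠ 0 := fun e => one_ne_zero (α := K) (by
      linear_combination (three_eq_zero (K := K)) - e)
    rcases mul_eq_zero.1 h9.1 with e | e
    · exact h2 e
    rcases mul_eq_zero.1 e with e | e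
    · exact ht ((map_eq_zero f).1 e)
    rcases mul_eq_zero.1 e with e | e
    · exact ht ((map_eq_zero f).1 e)
    · exact ht e
  rw [← Nat.card_congr (Equiv.subtypeEquiv (Equiv.ofBijective φ hb)
    (p := fun x : K × K × K => x.1 = 0 ∧ x ≠ 0) (q := fun u => orderOf u = 3)
    (fun x => (hiff x).symm))]
  let ψ : {x : K × K × K // x.1 = 0 ∧ x ≠ 0} ≃ {y : K × K // y ≠ 0} :=
    { toFun := fun x => ⟨x.1.2, fun e => x.2.2 (Prod.ext x.2.1 e)⟩
      invFun := fun y => ⟨(0, y.1), rfl, fun e => y.2 (congrArg Prod.snd e)⟩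
      left_inv := fun x => Subtype.ext (Prod.ext x.2.1.symm rfl)
      right_inv := fun _ => rfl }
  rw [Nat.card_congr ψ, Nat.card_eq_fintype_card, Fintype.card_subtype_compl,
    Fintype.card_subtype_eq, Fintype.card_prod, hK, sq]

/-! ### Sylow 3-subgroups -/

theorem U_inf_conj {g : GL chevG2.Idx K} (hg : g ∈ twistedG2 K (3 ^ m))
    {y : GL chevG2.Idx K} (hy : y ∈ chevG2.posUnipotent K ⊓ twistedG2 K (3 ^ m))
    (hgy : g * y * g⁻¹ ∈ chevG2.posUnipotent K) (hne : y ≠ 1) :
    g ∈ chevG2.borelSubgroup K := by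
  set Y := datum f hf hK with hY
  obtain ⟨b, hb, i, hi, u, hu, rfl⟩ := Y.exists_bruhat_fix (le_fix f hf hK hg)
  obtain ⟨hw, -, -⟩ := Y.wd_spec hi
  have huU : u ∈ chevG2.posUnipotent K := certFullG2.KS_invSet_le_U hw hu.1
  have huB : u ∈ chevG2.borelSubgroup K := Subgroup.mem_sup_left huU
  rcases (show i = 0 ∨ i = 1 by change i < 2 at hi; omega) with rfl | rfl
  · have : certFullG2.nw K (Y.W.wd 0) = 1 := rfl
    rw [this, mul_one]
    exact mul_mem hb.1 huB
  · exfalso
    set n := certFullG2.nw K (Y.W.wd 1) with hn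
    have hbB : b ∈ chevG2.borelSubgroup K := hb.1
    obtain ⟨i', hi', htop⟩ := Y.top
    obtain rfl : i' = 1 := by
      rcases (show i' = 0 ∨ i' = 1 by change i' < 2 at hi'; omega) with rfl | rfl
      · exfalso
        refine htop 0 (by decide) ?_
        show certFullG2.Pos (chevG2.simple 0)
        exact ⟨by decide, by decide⟩
      · rfl
    have h1 : n * (u * y * u⁻¹) * n⁻¹ ∈ chevG2.borelSubgroup K := by
      have h := mul_mem (mul_mem (inv_mem hbB) (Subgroup.mem_sup_left hgy :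
        b * n * u * y * (b * n * u)⁻¹ ∈ chevG2.borelSubgroup K)) hbB
      rwa [show b⁻¹ * (b * n * u * y * (b * n * u)⁻¹) * b = n * (u * y * u⁻¹) * n⁻¹ by group] at h
    have hUV : ∀ x ∈ chevG2.posUnipotent K, n * x * n⁻¹ ∈ chevG2.negUnipotent K := by
      intro x hx
      have hx' : x ∈ certFullG2.KS K (certFullG2.invSet (Y.W.wd 1)) certFullG2.T.h := by
        rw [certFullG2.U_eq_KS] at hx
        refine Subgroup.closure_mono ?_ hx
        rintro g ⟨r, t, hr, hle, e⟩
        refine ⟨r, t, ⟨hr.1, Twist.FixedWeyl.root_mem_invSet_pos (J := List.range chevG2.rank)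
          hw hr.1 (fun j hj _ => List.mem_range.2 hj) (fun p hp => ?_)⟩, hle, e⟩
        exact htop p (List.mem_range.1 hp)
      simpa using certFullG2.conj_inv_mem_V (one_mem _) hw hx'
    have h2 := certFullG2.borel_inf_negUnipotent.1.le
      ⟨h1, hUV _ (mul_mem (mul_mem huU hy.1) (inv_mem huU))⟩
    rw [Subgroup.mem_bot] at h2
    apply hne
    have h3 : u * y * u⁻¹ = 1 := by
      rw [show u * y * u⁻¹ = n⁻¹ * (n * (u * y * u⁻¹) * n⁻¹) * n by group, h2]
      group
    rw [show y = u⁻¹ * (u * y * u⁻¹) * u by group, h3]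
    group

theorem sylow_ti (P Q : Sylow 3 ↥(twistedG2 K (3 ^ m))) (hPQ : P ≠ Q) :
    (P : Subgroup ↥(twistedG2 K (3 ^ m))) ⊓ (Q : Subgroup ↥(twistedG2 K (3 ^ m))) = ⊥ := by
  classical
  haveI : Fact (Nat.Prime 3) := ⟨Nat.prime_three⟩
  set U := (chevG2.posUnipotent K ⊓ twistedG2 K (3 ^ m)).subgroupOf (twistedG2 K (3 ^ m)) with hUdef
  have hcardU : Nat.card U = 3 ^ ((2 * m + 1) * 3) := by
    rw [hUdef, Nat.card_congr (Subgroup.subgroupOfEquivOfLe inf_le_right).toEquiv,
      card_U f hf hK, pow_mul]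
  have hidx : ¬ 3 ∣ U.index := by
    intro hd
    have h1 := U.card_mul_index
    rw [hcardU, card_group f hf hK, mul_assoc, ← pow_mul] at h1
    have h2 : U.index = (3 ^ (2 * m + 1) - 1) * (3 ^ ((2 * m + 1) * 3) + 1) :=
      Nat.eq_of_mul_eq_mul_left (by positivity) h1
    rw [h2] at hd
    have h3 : ∀ k, 1 ≤ k → 3 ∣ 3 ^ k := fun k hk => dvd_pow_self 3 (by omega)
    rcases (Nat.Prime.dvd_mul Nat.prime_three).1 hd with h | h
    · have := h3 (2 * m + 1) (by omega)
      have := Nat.one_le_pow (2 * m + 1) 3 (by omega)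
      omega
    · have := h3 ((2 * m + 1) * 3) (by omega)
      omega
  set P0 : Sylow 3 ↥(twistedG2 K (3 ^ m)) := (IsPGroup.of_card hcardU).toSylow hidx with hP0
  obtain ⟨a, ha⟩ := MulAction.exists_smul_eq ↥(twistedG2 K (3 ^ m)) P0 P
  obtain ⟨b, hb⟩ := MulAction.exists_smul_eq ↥(twistedG2 K (3 ^ m)) P0 Q
  rw [← ha, ← hb] at hPQ ⊢
  by_contra hne
  obtain ⟨x, hx, hx1⟩ := (Subgroup.bot_or_exists_ne_one _).resolve_left hne
  rw [Sylow.coe_subgroup_smul, Sylow.coe_subgroup_smul, Subgroup.mem_inf,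
    Subgroup.mem_pointwise_smul_iff_inv_smul_mem, Subgroup.mem_pointwise_smul_iff_inv_smul_mem]
    at hx
  simp only [← map_inv, MulAut.smul_def, MulAut.conj_apply, inv_inv] at hx
  have hP0U : (P0 : Subgroup ↥(twistedG2 K (3 ^ m))) = U := rfl
  rw [hP0U] at hx
  obtain ⟨hxa, hxb⟩ := hx
  rw [hUdef, Subgroup.mem_subgroupOf] at hxa hxb
  simp only [Subgroup.coe_mul, Subgroup.coe_inv] at hxa hxb
  have hB : ((b⁻¹ * a : ↥(twistedG2 K (3 ^ m))) : GL chevG2.Idx K) ∈ chevG2.borelSubgroup K := by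
    refine U_inf_conj f hf hK (b⁻¹ * a).2 hxa ?_ fun e => hx1 (Subtype.ext ?_)
    · simp only [Subgroup.coe_mul, Subgroup.coe_inv]
      rw [show ((b : GL chevG2.Idx K)⁻¹ * a) * ((a : GL chevG2.Idx K)⁻¹ * x * a) *
          ((b : GL chevG2.Idx K)⁻¹ * a)⁻¹ = (b : GL chevG2.Idx K)⁻¹ * x * b by group]
      exact hxb.1
    · rw [Subgroup.coe_one, show (x : GL chevG2.Idx K) =
        (a : GL chevG2.Idx K) * ((a : GL chevG2.Idx K)⁻¹ * x * a) * (a : GL chevG2.Idx K)⁻¹
        by group, e]
      group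
  have hmem : b⁻¹ * a ∈ Subgroup.normalizer (U : Set ↥(twistedG2 K (3 ^ m))) := by
    obtain ⟨u, hu, k, hk, e⟩ := certFullG2.mem_borel_iff.1 hB
    have hn : ((b⁻¹ * a : ↥(twistedG2 K (3 ^ m))) : GL chevG2.Idx K) ∈
        Subgroup.normalizer (chevG2.posUnipotent K : Set (GL chevG2.Idx K)) := by
      rw [e]
      exact mul_mem (Subgroup.le_normalizer hu) (certFullG2.H_le_normalizer_U hk)
    rw [Subgroup.mem_normalizer_iff] at hn ⊢
    intro z
    simp only [hUdef, SetLike.mem_coe, Subgroup.mem_subgroupOf, Subgroup.mem_inf, SetLike.coe_mem,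
      and_true]
    exact hn z
  refine hPQ ?_
  have h1 : (b⁻¹ * a) • P0 = P0 := Sylow.smul_eq_iff_mem_normalizer.2 hmem
  calc a • P0 = b • (b⁻¹ * a) • P0 := by rw [← mul_smul, mul_inv_cancel_left]
    _ = b • P0 := by rw [h1]

end Cfsg.Agent.Lie.Chev.G2
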