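import Cfsg.Agent.Lib.Lie.Chev.TwistG2Props

/-! The action of the small Ree groups on the cosets of the Borel subgroup: triples of points. -/

set_option autoImplicit false
set_option maxRecDepth 4000

namespace Cfsg.Agent.Lie.Chev.G2

open Cfsg.Lie Matrix

variable {K : Type*} [Field K] (f : K →+* K) [CharP K 3] [ExpChar K 3]
variable [Fintype K] {m : ℕ} (hf : ∀ t, f t = t ^ 3 ^ m) (hK : Fintype.card K = 3 ^ (2 * m + 1))

include hf hK

/-- The representative of the long element. -/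
noncomputable abbrev longN : GL chevG2.Idx K := certFullG2.nw K ((datum f hf hK).W.wd 1)

theorem longN_spec : longN f hf hK ∈ twistedG2 K (3 ^ m) ∧
    longN f hf hK ∈ chevG2.monomialSubgroup K ∧
    (∀ x ∈ chevG2.posUnipotent K,
      longN f hf hK * x * (longN f hf hK)⁻¹ ∈ chevG2.negUnipotent K) := by
  set Y := datum f hf hK with hY
  have h1 : (1 : ℕ) < Y.W.N := by show (1 : ℕ) < 2; omega
  obtain ⟨hw, -, -⟩ := Y.wd_spec h1
  refine ⟨Y.nw_wd_mem h1, certFullG2.nw_mem_N hw, fun x hx => ?_⟩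
  obtain ⟨i', hi', htop⟩ := Y.top
  obtain rfl : i' = 1 := by
    rcases (show i' = 0 ∨ i' = 1 by change i' < 2 at hi'; omega) with rfl | rfl
    · exfalso
      refine htop 0 (by decide) ?_
      show certFullG2.Pos (chevG2.simple 0)
      exact ⟨by decide, by decide⟩
    · rfl
  have hx' : x ∈ certFullG2.KS K (certFullG2.invSet (Y.W.wd 1)) certFullG2.T.h := by
    rw [certFullG2.U_eq_KS] at hx
    refine Subgroup.closure_mono ?_ hx
    rintro g ⟨r, t, hr, hle, e⟩
    refine ⟨r, t, ⟨hr.1, Twist.FixedWeyl.root_mem_invSet_pos (J := List.range chevG2.rank)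
      hw hr.1 (fun j hj _ => List.mem_range.2 hj) (fun p hp => ?_)⟩, hle, e⟩
    exact htop p (List.mem_range.1 hp)
  simpa using certFullG2.conj_inv_mem_V (one_mem _) hw hx'

/-- An element of the Borel subgroup which stays there under the long element is diagonal. -/
theorem mem_H_of_conj {x : GL chevG2.Idx K} (hx : x ∈ chevG2.borelSubgroup K)
    (h : (longN f hf hK)⁻¹ * x * longN f hf hK ∈ chevG2.borelSubgroup K) :
    x ∈ chevG2.diagonalSubgroup K := by
  obtain ⟨-, hnN, hUV⟩ := longN_spec f hf hK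
  set n := longN f hf hK
  obtain ⟨u, hu, a, ha, e⟩ := certFullG2.mem_borel_iff.1 h
  have ha' : n * a * n⁻¹ ∈ chevG2.diagonalSubgroup K := certFullG2.N_conj_H hnN ha
  have e2 : n * u * n⁻¹ = x * (n * a * n⁻¹)⁻¹ := by
    rw [show x = n * (n⁻¹ * x * n) * n⁻¹ by group, e]
    group
  have hB : n * u * n⁻¹ ∈ chevG2.borelSubgroup K := by
    rw [e2]
    exact mul_mem hx (inv_mem (certFullG2.H_le_B ha'))
  have h1 := certFullG2.borel_inf_negUnipotent.1.le ⟨hB, hUV u hu⟩
  rw [Subgroup.mem_bot, e2, mul_inv_eq_one] at h1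
  rw [h1]
  exact ha'

theorem longN_not_mem : longN f hf hK ∉ chevG2.borelSubgroup K := by
  intro hn
  obtain ⟨-, -, hUV⟩ := longN_spec f hf hK
  set n := longN f hf hK
  have hx : certFullG2.xg 8 (1 : K) ∈ chevG2.posUnipotent K :=
    certFullG2.xg_mem_U ⟨by decide, by decide⟩ _
  have hB : n * certFullG2.xg 8 (1 : K) * n⁻¹ ∈ chevG2.borelSubgroup K :=
    mul_mem (mul_mem hn (Subgroup.mem_sup_left hx)) (inv_mem hn)
  have h1 := certFullG2.borel_inf_negUnipotent.1.le ⟨hB, hUV _ hx⟩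
  rw [Subgroup.mem_bot, mul_inv_eq_one] at h1
  have h2 : certFullG2.xg 8 (1 : K) = 1 := mul_left_cancel (a := n) (by rw [h1, mul_one])
  rw [certFullG2.xg_eq_one_iff (by show 8 < 12; omega)] at h2
  exact one_ne_zero h2

theorem exists_pair_move {a b : ↥(twistedG2 K (3 ^ m))}
    (h : a⁻¹ * b ∉ (chevG2.borelSubgroup K ⊓ twistedG2 K (3 ^ m)).subgroupOf
      (twistedG2 K (3 ^ m))) :
    ∃ g u : ↥(twistedG2 K (3 ^ m)),
      g ∈ (chevG2.borelSubgroup K ⊓ twistedG2 K (3 ^ m)).subgroupOf (twistedG2 K (3 ^ m)) ∧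
      (u : GL chevG2.Idx K) ∈ chevG2.posUnipotent K ∧
      a⁻¹ * b = g * ⟨longN f hf hK, (longN_spec f hf hK).1⟩ * u := by
  set Y := datum f hf hK with hY
  obtain ⟨c, hc, i, hi, u, hu, e⟩ := Y.exists_bruhat_fix (le_fix f hf hK (a⁻¹ * b).2)
  have hcG : c ∈ twistedG2 K (3 ^ m) := Y.B_fix_le hc
  obtain ⟨hw, -, -⟩ := Y.wd_spec hi
  have huU : u ∈ chevG2.posUnipotent K := certFullG2.KS_invSet_le_U hw hu.1
  have huG : u ∈ twistedG2 K (3 ^ m) := Y.U_fix_le ⟨huU, hu.2⟩
  rcases (show i = 0 ∨ i = 1 by change i < 2 at hi; omega) with rfl | rfl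
  · refine absurd (Subgroup.mem_subgroupOf.2 (Subgroup.mem_inf.2 ⟨?_, (a⁻¹ * b).2⟩)) h
    rw [e, show certFullG2.nw K (Y.W.wd 0) = 1 from rfl, mul_one]
    exact mul_mem hc.1 (Subgroup.mem_sup_left huU)
  · exact ⟨⟨c, hcG⟩, ⟨u, huG⟩, Subgroup.mem_subgroupOf.2 ⟨hc.1, hcG⟩, huU, Subtype.ext e⟩

theorem square_fixed {h u : GL chevG2.Idx K}
    (hh : h ∈ chevG2.diagonalSubgroup K ⊓ twistedG2 K (3 ^ m))
    (hu : u ∈ chevG2.posUnipotent K ⊓ twistedG2 K (3 ^ m)) (hu1 : u ≠ 1) (hc : h * u = u * h) :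
    h = 1 ∨ h = param f (-1) := by
  obtain ⟨e, he⟩ := exists_param_equiv f hf hK
  obtain ⟨x, rfl⟩ : ∃ x, param f x = h :=
    ⟨e.symm ⟨h, hh⟩, by rw [← he, e.apply_symm_apply]⟩
  obtain ⟨k, hk, hkq⟩ := exists_half f hf hK
  have hx2k : (x * x) ^ k = 1 := by
    rw [← sq, ← pow_mul]
    refine orderOf_dvd_iff_pow_eq_one.1 ?_
    rw [← hkq, ← natCard f hf hK, ← Nat.card_units]
    exact orderOf_dvd_natCard x
  have hxx : param f (x * x) = 1 := by
    by_contra hne
    have hodd : Odd (orderOf (param f (x * x))) := by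
      refine hk.of_dvd_nat (orderOf_dvd_of_pow_eq_one ?_)
      rw [← map_pow, hx2k, map_one]
    have hmem : param f (x * x) ∈ chevG2.diagonalSubgroup K ⊓ twistedG2 K (3 ^ m) := by
      rw [map_mul]; exact mul_mem hh hh
    have hcen : u ∈ Subgroup.centralizer ({param f (x * x)} : Set (GL chevG2.Idx K)) := by
      rw [Subgroup.mem_centralizer_iff]
      rintro y rfl
      rw [map_mul]
      exact (Commute.mul_left hc hc).eq
    have h1 := ((odd_diag f hf hK).2 _ hmem hne hodd).le ⟨hu, hcen⟩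
    exact hu1 (Subgroup.mem_bot.1 h1)
  have hx : x * x = 1 := by
    have h1 := torus_inj (K := K) (hxx.trans (map_one (param f)).symm) 1 (by omega)
    rwa [(zOf_apply f _).2, (zOf_apply f _).2] at h1
  rcases mul_self_eq_one_iff.1 (show (x : K) * x = 1 by
    rw [← Units.val_mul, hx, Units.val_one]) with e' | e'
  · left
    rw [Units.ext (e'.trans Units.val_one.symm) , map_one]
  · right
    rw [show x = -1 from Units.ext (e'.trans (by simp))]

theorem exists_fixed_pair :
    ∃ u ∈ chevG2.posUnipotent K ⊓ twistedG2 K (3 ^ m), u ≠ 1 ∧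
      param f (-1) * u = u * param f (-1) := by
  have hz := certFullG2.xg_zero (F := K)
  set u := ((reeWordU (3 ^ m) (0 : K) 1 0).map fun p => certFullG2.xg p.1 p.2).prod with hu
  have hval : u = certFullG2.xg 8 1 * certFullG2.xg 10 1 := by
    rw [hu, word_eq f hf]
    simp [hz]
  refine ⟨u, (mem_U_iff f hf hK _).2
    ⟨0, 1, 0, by simp [hu, reeWordU, ChevalleyDatum.wordMat]⟩, ?_, ?_⟩
  · intro h1
    rw [hval] at h1
    have h10 : certFullG2.xg 10 (1 : K) ∈ certFullG2.K K (8 + 1) :=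
      certFullG2.xg_mem_K ⟨by decide, by decide⟩ (by omega) _
    have h := certFullG2.xg_mul_K_inj (F := K) (m := 8) ⟨by decide, by decide⟩ h10 (one_mem _)
      (show certFullG2.xg 8 (1 : K) * certFullG2.xg 10 1 = certFullG2.xg 8 0 * 1 by
        rw [h1, hz, one_mul])
    exact one_ne_zero h.1
  · rw [← mul_inv_eq_iff_eq_mul, hval]
    show certFullG2.torus (zOf f (-1)) * _ * (certFullG2.torus (zOf f (-1)))⁻¹ = _
    rw [show certFullG2.torus (zOf f (-1)) * (certFullG2.xg 8 (1 : K) * certFullG2.xg 10 1) *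
        (certFullG2.torus (zOf f (-1)))⁻¹ =
        (certFullG2.torus (zOf f (-1)) * certFullG2.xg 8 1 * (certFullG2.torus (zOf f (-1)))⁻¹) *
        (certFullG2.torus (zOf f (-1)) * certFullG2.xg 10 1 * (certFullG2.torus (zOf f (-1)))⁻¹)
      by group]
    rw [certFullG2.torus_conj_xg _ (show 8 < 12 by omega),
      certFullG2.torus_conj_xg _ (show 10 < 12 by omega)]
    obtain ⟨-, -, c8, -, c10, -⟩ := tchar_values (zOf f (-1))
    obtain ⟨z0, z1⟩ := zOf_apply f (-1)
    rw [c8, c10, z0, z1]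
    simp

/-- The stabiliser of three points has order at most two, and two is attained. -/
theorem three_point :
    (∀ x y z : ↥(twistedG2 K (3 ^ m)) ⧸ (chevG2.borelSubgroup K ⊓ twistedG2 K (3 ^ m)).subgroupOf
        (twistedG2 K (3 ^ m)), x ≠ y → x ≠ z → y ≠ z →
      Nat.card ↥(MulAction.stabilizer ↥(twistedG2 K (3 ^ m)) x ⊓
        MulAction.stabilizer ↥(twistedG2 K (3 ^ m)) y ⊓
        MulAction.stabilizer ↥(twistedG2 K (3 ^ m)) z) ≤ 2) ∧
    ∃ x y z : ↥(twistedG2 K (3 ^ m)) ⧸ (chevG2.borelSubgroup K ⊓ twistedG2 K (3 ^ m)).subgroupOf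
        (twistedG2 K (3 ^ m)), x ≠ y ∧ x ≠ z ∧ y ≠ z ∧
      Nat.card ↥(MulAction.stabilizer ↥(twistedG2 K (3 ^ m)) x ⊓
        MulAction.stabilizer ↥(twistedG2 K (3 ^ m)) y ⊓
        MulAction.stabilizer ↥(twistedG2 K (3 ^ m)) z) = 2 := by
  classical
  set G := twistedG2 K (3 ^ m) with hG
  set S := (chevG2.borelSubgroup K ⊓ G).subgroupOf G with hS
  obtain ⟨hnG, hnN, hUV⟩ := longN_spec f hf hK
  set n : ↥G := ⟨longN f hf hK, hnG⟩ with hn
  set p0 : ↥G ⧸ S := QuotientGroup.mk 1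
  set p1 : ↥G ⧸ S := QuotientGroup.mk n
  have hmemS : ∀ g : ↥G, g ∈ S ↔ (g : GL chevG2.Idx K) ∈ chevG2.borelSubgroup K := fun g => by
    rw [hS, Subgroup.mem_subgroupOf, Subgroup.mem_inf]
    exact and_iff_left g.2
  have hst : ∀ (h c : ↥G), h ∈ MulAction.stabilizer ↥G (QuotientGroup.mk c : ↥G ⧸ S) ↔
      ((c : GL chevG2.Idx K)⁻¹ * h * c ∈ chevG2.borelSubgroup K) := by
    intro h c
    rw [MulAction.mem_stabilizer_iff, MulAction.Quotient.smul_mk, eq_comm, QuotientGroup.eq,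
      hmemS]
    simp [mul_assoc]
  have hH : ∀ g : GL chevG2.Idx K, g ∈ chevG2.diagonalSubgroup K →
      ((longN f hf hK)⁻¹ * g * longN f hf hK) ∈ chevG2.diagonalSubgroup K := fun g hg => by
    have := certFullG2.N_conj_H (inv_mem hnN) hg
    rwa [inv_inv] at this
  -- the stabiliser of the standard triple
  have key : ∀ (u h : ↥G), (u : GL chevG2.Idx K) ∈ chevG2.posUnipotent K →
      (h ∈ MulAction.stabilizer ↥G p0 ⊓ MulAction.stabilizer ↥G p1 ⊓
        MulAction.stabilizer ↥G (QuotientGroup.mk (u * n) : ↥G ⧸ S) ↔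
      (h : GL chevG2.Idx K) ∈ chevG2.diagonalSubgroup K ∧
        (h : GL chevG2.Idx K) * u = u * h) := by
    intro u h hu
    rw [Subgroup.mem_inf, Subgroup.mem_inf, hst, hst, hst]
    simp only [Subgroup.coe_one, inv_one, one_mul, mul_one, Subgroup.coe_mul, hn]
    constructor
    · rintro ⟨⟨h0, h1⟩, h2⟩
      have hd := mem_H_of_conj f hf hK h0 h1
      refine ⟨hd, ?_⟩
      have hwU : (h : GL chevG2.Idx K) * u * (h : GL chevG2.Idx K)⁻¹ ∈
          chevG2.posUnipotent K :=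
        ((Subgroup.mem_normalizer_iff.1 (certFullG2.H_le_normalizer_U hd)) _).1 hu
      have hw : (u : GL chevG2.Idx K)⁻¹ * ((h : GL chevG2.Idx K) * u *
          (h : GL chevG2.Idx K)⁻¹) ∈ chevG2.posUnipotent K := mul_mem (inv_mem hu) hwU
      have h3 : (longN f hf hK)⁻¹ * ((u : GL chevG2.Idx K)⁻¹ * ((h : GL chevG2.Idx K) * u *
          (h : GL chevG2.Idx K)⁻¹)) * longN f hf hK ∈ chevG2.borelSubgroup K := by
        have := mul_mem h2 (inv_mem (certFullG2.H_le_B (hH _ hd)))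
        convert this using 1
        group
      have h4 := certFullG2.U_inf_H.le
        ⟨hw, mem_H_of_conj f hf hK (Subgroup.mem_sup_left hw) h3⟩
      rw [Subgroup.mem_bot, inv_mul_eq_one, eq_mul_inv_iff_mul_eq] at h4
      exact h4.symm
    · rintro ⟨hd, hc⟩
      refine ⟨⟨certFullG2.H_le_B hd, certFullG2.H_le_B (hH _ hd)⟩, ?_⟩
      have e : ((u : GL chevG2.Idx K) * longN f hf hK)⁻¹ * h *
          ((u : GL chevG2.Idx K) * longN f hf hK) =
          (longN f hf hK)⁻¹ * h * longN f hf hK := by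
        rw [show ((u : GL chevG2.Idx K) * longN f hf hK)⁻¹ * h *
          ((u : GL chevG2.Idx K) * longN f hf hK) = (longN f hf hK)⁻¹ * ((u : GL chevG2.Idx K)⁻¹ *
            ((h : GL chevG2.Idx K) * u)) * longN f hf hK by group, hc]
        group
      rw [e]
      exact certFullG2.H_le_B (hH _ hd)
  have hp01 : p0 ≠ p1 := by
    intro e
    rw [QuotientGroup.eq, inv_one, one_mul, hmemS] at e
    exact longN_not_mem f hf hK e
  constructor
  · intro x y z hxy hxz hyz
    obtain ⟨a, rfl⟩ := QuotientGroup.mk_surjective x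
    obtain ⟨b, rfl⟩ := QuotientGroup.mk_surjective y
    obtain ⟨g, u, hg, huU, e⟩ := exists_pair_move f hf hK (a := a) (b := b)
      fun h => hxy (QuotientGroup.eq.2 h)
    set k := a * g
    have hk0 : k • p0 = (QuotientGroup.mk a : ↥G ⧸ S) := by
      rw [MulAction.Quotient.smul_mk, smul_eq_mul, mul_one, QuotientGroup.eq]
      rw [show (a * g)⁻¹ * a = g⁻¹ by group]
      exact inv_mem hg
    have hk1 : k • p1 = (QuotientGroup.mk b : ↥G ⧸ S) := by
      rw [MulAction.Quotient.smul_mk, smul_eq_mul, QuotientGroup.eq]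
      have : b = k * n * u := by
        rw [show b = a * (a⁻¹ * b) by group, e]
        simp only [k, hn, mul_assoc]
      rw [this, show (k * n)⁻¹ * (k * n * u) = u by group, hmemS]
      exact Subgroup.mem_sup_left huU
    obtain ⟨z', hz'⟩ : ∃ z', k • z' = z := ⟨k⁻¹ • z, smul_inv_smul k z⟩
    obtain ⟨c, rfl⟩ := QuotientGroup.mk_surjective z'
    subst hz'
    rw [← hk0] at hxz ⊢
    rw [← hk1] at hyz ⊢
    have h0 : p0 ≠ (QuotientGroup.mk c : ↥G ⧸ S) := fun e => hxz (by rw [e])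
    have h1 : p1 ≠ (QuotientGroup.mk c : ↥G ⧸ S) := fun e => hyz (by rw [e])
    obtain ⟨g', u', hg', hu'U, e'⟩ := exists_pair_move f hf hK (a := 1) (b := c)
      fun h => h0 (QuotientGroup.eq.2 h)
    rw [inv_one, one_mul] at e'
    obtain ⟨v, hv, d, hd, ev⟩ := (tw f).borel_fix (g := (g' : GL chevG2.Idx K))
      ⟨(hmemS g').1 hg', le_fix f hf hK g'.2⟩
    have hvG : v ∈ G := (datum f hf hK).U_fix_le hv
    have hc' : (QuotientGroup.mk c : ↥G ⧸ S) = QuotientGroup.mk (⟨v, hvG⟩ * n) := by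
      rw [QuotientGroup.eq, hmemS]
      have : (c : GL chevG2.Idx K) = v * d * longN f hf hK * u' := by
        rw [e']
        simp only [Subgroup.coe_mul, hn, ev]
      simp only [Subgroup.coe_mul, Subgroup.coe_inv, hn, this]
      rw [show (v * d * longN f hf hK * (u' : GL chevG2.Idx K))⁻¹ * (v * longN f hf hK) =
        (u' : GL chevG2.Idx K)⁻¹ * ((longN f hf hK)⁻¹ * d⁻¹ * longN f hf hK) by group]
      exact mul_mem (inv_mem (Subgroup.mem_sup_left hu'U))
        (certFullG2.H_le_B (hH _ (inv_mem hd.1)))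
    have hv1 : v ≠ 1 := by
      rintro rfl
      refine h1 ?_
      rw [hc']
      exact congrArg _ (Subtype.ext (one_mul _).symm)
    rw [hc', MulAction.stabilizer_smul_eq_stabilizer_map_conj,
      MulAction.stabilizer_smul_eq_stabilizer_map_conj,
      MulAction.stabilizer_smul_eq_stabilizer_map_conj,
      ← Subgroup.map_inf _ _ _ (MulAut.conj k).injective,
      ← Subgroup.map_inf _ _ _ (MulAut.conj k).injective,
      Subgroup.card_map_of_injective (MulAut.conj k).injective]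
    set T := MulAction.stabilizer ↥G p0 ⊓ MulAction.stabilizer ↥G p1 ⊓
      MulAction.stabilizer ↥G (QuotientGroup.mk (⟨v, hvG⟩ * n) : ↥G ⧸ S) with hT
    have hsub : ∀ h : ↥T, ((h : ↥G) : GL chevG2.Idx K) ∈
        ({1, param f (-1)} : Set (GL chevG2.Idx K)) := by
      intro h
      obtain ⟨hd', hcm⟩ := (key ⟨v, hvG⟩ h hv.1).1 h.2
      simpa using square_fixed f hf hK (u := v) ⟨hd', (h : ↥G).2⟩ ⟨hv.1, hvG⟩ hv1 hcm
    refine (Nat.card_le_card_of_injective
      (fun h : ↥T => (⟨_, hsub h⟩ : ↥({1, param f (-1)} : Set (GL chevG2.Idx K))))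
      fun h h' e => Subtype.ext (Subtype.ext (Subtype.ext_iff.1 e :))).trans ?_
    rw [Nat.card_coe_set_eq]
    exact (Set.ncard_insert_le _ _).trans (by rw [Set.ncard_singleton])
  · obtain ⟨u, hu, hu1, hfix⟩ := exists_fixed_pair f hf hK
    set u' : ↥G := ⟨u, hu.2⟩
    refine ⟨p0, p1, QuotientGroup.mk (u' * n), hp01, ?_, ?_, ?_⟩
    · intro e
      rw [QuotientGroup.eq, inv_one, one_mul, hmemS] at e
      refine longN_not_mem f hf hK ?_
      have := mul_mem (inv_mem (Subgroup.mem_sup_left hu.1 : u ∈ chevG2.borelSubgroup K)) e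
      simp only [u', hn, Subgroup.coe_mul, inv_mul_cancel_left] at this
      exact this
    · intro e
      rw [QuotientGroup.eq, hmemS] at e
      simp only [u', hn, Subgroup.coe_mul, Subgroup.coe_inv, ← mul_assoc] at e
      have h4 := certFullG2.U_inf_H.le
        ⟨hu.1, mem_H_of_conj f hf hK (Subgroup.mem_sup_left hu.1) e⟩
      exact hu1 (Subgroup.mem_bot.1 h4)
    · have hne : param f (-1) ≠ 1 := by
        intro e
        have h1 := torus_inj (K := K) (e.trans (map_one (param f)).symm) 1 (by omega)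
        rw [(zOf_apply f _).2, (zOf_apply f _).2, Units.ext_iff] at h1
        simp only [Units.val_neg, Units.val_one] at h1
        have h3 : (3 : K) = 0 := three_eq_zero
        exact one_ne_zero (α := K) (by linear_combination h3 + h1)
      rw [Nat.card_eq_two_iff]
      set w : ↥G := ⟨param f (-1), param_mem f hf hK (-1)⟩
      have hw : w ∈ _ := (key u' w hu.1).2 ⟨certFullG2.torus_mem _, hfix⟩
      refine ⟨1, ⟨w, hw⟩, fun e => hne (congrArg (fun x => ((x.1 : ↥G) : GL chevG2.Idx K)) e).symm,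
        Set.eq_univ_of_forall fun h => ?_⟩
      obtain ⟨hd', hcm⟩ := (key u' h hu.1).1 h.2
      rcases square_fixed f hf hK ⟨hd', (h : ↥G).2⟩ hu hu1 hcm with e | e
      · exact Or.inl (Subtype.ext (Subtype.ext e))
      · exact Or.inr (Subtype.ext (Subtype.ext e))

end Cfsg.Agent.Lie.Chev.G2
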