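import Cfsg.Agent.Lib.Lie.Chev.TwistUnipotent
import Cfsg.Agent.Lib.Lie.Chev.TwistWeyl
import Cfsg.Agent.Lib.Lie.Chev.Simple

/-! Twisted groups: Bruhat decomposition, order, (B, N)-pair and simplicity. -/

set_option autoImplicit false

namespace Cfsg.Agent.Lie.Chev

open Cfsg.Lie Matrix

namespace CertFull

variable {D : ChevalleyDatum} (c : CertFull D) {F : Type*} [Field F]

include c

theorem exists_H_mul_of_same {L M : List ℕ} (hL : ∀ p ∈ L, p < D.rank) (hM : ∀ p ∈ M, p < D.rank)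
    (h : c.Same L M) : ∃ k ∈ D.diagonalSubgroup F, c.nw F L = k * c.nw F M := by
  have hMr : ∀ p ∈ M.reverse, p < D.rank := fun p hp => hM p (List.mem_reverse.1 hp)
  obtain ⟨a, ha, K, hK, hn⟩ := c.mem_monomial_iff.1
    (mul_mem (c.nw_mem_N (F := F) hL) (inv_mem (c.nw_mem_N hM)))
  refine ⟨c.nw F L * (c.nw F M)⁻¹, ?_, by rw [inv_mul_cancel_right]⟩
  rw [hn]
  refine c.mem_H_of_wl ha hK fun q hq => ?_
  have hα := c.simple_lt hq
  have hy := c.wl_lt hMr hα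
  have h' := congrArg (· * c.nw F M) hn
  simp only [mul_assoc, inv_mul_cancel, mul_one, ← c.nw_append] at h'
  have h'' := c.wl_eq_of_eq (one_mem _) ha hL
    (fun p hp => (List.mem_append.1 hp).elim (hK p) (hM p)) (by rw [one_mul]; exact h') hy
  rw [c.wl_eq_of_same hL hM h hy, c.wl_append, c.wl_reverse hM hα] at h''
  rw [← h'']
  exact c.pos_simple hq

theorem same_of_coset {L M : List ℕ} (hL : ∀ p ∈ L, p < D.rank) (hM : ∀ p ∈ M, p < D.rank)
    {b₁ b₂ b₁' b₂' : GL D.Idx F} (h1 : b₁ ∈ D.borelSubgroup F) (h2 : b₂ ∈ D.borelSubgroup F)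
    (h1' : b₁' ∈ D.borelSubgroup F) (h2' : b₂' ∈ D.borelSubgroup F)
    (e : b₁ * c.nw F L * b₂ = b₁' * c.nw F M * b₂') : c.Same L M := by
  obtain ⟨u, hu, a, ha, ea⟩ := c.mem_borel_iff.1 (inv_mem h2)
  obtain ⟨u', hu', a', ha', ea'⟩ := c.mem_borel_iff.1 (inv_mem h2')
  have eb : b₂ = a⁻¹ * u⁻¹ := by rw [← inv_inv b₂, ea, _root_.mul_inv_rev]
  have eb' : b₂' = a'⁻¹ * u'⁻¹ := by rw [← inv_inv b₂', ea', _root_.mul_inv_rev]
  have hn : ∀ (K : List ℕ), (∀ p ∈ K, p < D.rank) → ∀ x ∈ D.diagonalSubgroup F,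
      c.nw F K * x ∈ D.monomialSubgroup F := fun K hK x hx =>
    mul_mem (c.nw_mem_N hK) (Subgroup.mem_sup_left hx)
  have h := c.bruhat_unique h1 h1' (hn L hL _ (inv_mem ha)) (hn M hM _ (inv_mem ha'))
    (inv_mem hu) (inv_mem hu') (by rw [eb, eb'] at e; simpa [mul_assoc] using e)
  set x : GL D.Idx F := a⁻¹ * ((c.nw F L * a⁻¹)⁻¹ * (c.nw F M * a'⁻¹)) * a' with hx
  have hxH : x ∈ D.diagonalSubgroup F := mul_mem (mul_mem (inv_mem ha) h) ha'
  have e' : c.nw F M = c.nw F L * x * (c.nw F L)⁻¹ * c.nw F L := by rw [hx]; group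
  intro q hq
  refine (c.wl_eq_of_eq (one_mem _) (c.N_conj_H (c.nw_mem_N hL) hxH) hM hL ?_
    (c.simple_lt hq)).symm
  rw [one_mul]
  exact e'

theorem U_eq_KS : D.posUnipotent F = c.KS F (c.keepSet []) c.T.h := by
  refine le_antisymm ((Subgroup.closure_le _).2 ?_) (c.KS_le_U (c.keepSet_closed (by simp)) _)
  rintro g ⟨r, t, hr, e⟩
  obtain rfl := c.eq_xg_iff.1 e
  have hr' := c.posRoot_iff.1 hr
  exact c.xg_mem_KS (show r ∈ c.keepSet [] from ⟨hr', hr'⟩) hr'.1 t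

theorem card_keep_nil : Nat.card (c.keepSet []) = D.nroots / 2 := by
  have hn : D.nroots = 2 * c.T.h := c.nroots_eq
  have : c.keepSet [] = ↑(Finset.Ico c.T.h D.nroots) := by
    ext r
    simp only [Finset.coe_Ico, Set.mem_Ico]
    exact ⟨fun h => ⟨h.1.1, h.1.2⟩, fun h => ⟨⟨h.1, h.2⟩, ⟨h.1, h.2⟩⟩⟩
  rw [this, Nat.card_coe_set_eq, Set.ncard_coe_finset, Nat.card_Ico]
  omega

end CertFull

namespace Twist

variable {D : ChevalleyDatum} {c : CertFull D} {F : Type*} [Field F] {T : Twist c F}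

/-- Everything needed to work in a twisted group `G₁`. -/
structure Datum (T : Twist c F) where
  e : ℕ
  e_pos : 0 < e
  G₁ : Subgroup (GL D.Idx F)
  W : T.FixedWeyl
  G : T.Grading e
  lifts : G.Lifts G₁
  le_fix : G₁ ≤ T.fix
  H_le : D.diagonalSubgroup F ⊓ T.fix ≤ G₁
  n_mem : ∀ J ∈ W.Jw, c.nw F J ∈ G₁
  disjoint : ∀ J ∈ W.Jw, ∀ J' ∈ W.Jw, ∀ p ∈ J, p ∈ J' → J = J'
  top : ∃ i < W.N, ∀ p < D.rank, ¬ c.Pos (c.wl (W.wd i) (D.simple p))

namespace Datum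

variable (Y : Datum T)

theorem wd_spec {i : ℕ} (hi : i < Y.W.N) :
    (∀ p ∈ Y.W.wd i, p < D.rank) ∧ T.Comm (Y.W.wd i) ∧
      T.act (c.nw F (Y.W.wd i)) = c.nw F (Y.W.wd i) :=
  Y.W.flat_spec (Y.W.step_spec i hi).1

theorem nw_wd_mem {i : ℕ} (hi : i < Y.W.N) : c.nw F (Y.W.wd i) ∈ Y.G₁ := by
  have h := (Y.W.step_spec i hi).1
  unfold FixedWeyl.wd
  revert h
  induction (Y.W.E.get i).word with
  | nil => intro _; exact one_mem _
  | cons j w ih =>
    intro h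
    rw [show flatW Y.W.Jw (j :: w) = Y.W.Jw.getD j [] ++ flatW Y.W.Jw w by simp [flatW],
      c.nw_append]
    exact mul_mem (Y.n_mem _ (Y.W.getD_mem (h j (by simp)))) (ih fun k hk => h k (by simp [hk]))

theorem nw_wd_fix {i : ℕ} (hi : i < Y.W.N) : c.nw F (Y.W.wd i) ∈ T.fix :=
  Y.le_fix (Y.nw_wd_mem hi)

theorem nw_J_fix {J : List ℕ} (hJ : J ∈ Y.W.Jw) : c.nw F J ∈ T.fix := Y.le_fix (Y.n_mem J hJ)

theorem invSet_stable {L : List ℕ} (hL : ∀ p ∈ L, p < D.rank) (hC : T.Comm L) :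
    ∀ r ∈ c.invSet L, T.ρ r ∈ c.invSet L := fun _ hr => T.ρ_mem_invSet hL hC hr

theorem keep_stable : ∀ r ∈ c.keepSet [], T.ρ r ∈ c.keepSet [] := fun r hr =>
  ⟨T.ρ_pos r hr.1, T.ρ_pos r hr.1⟩

/-- The decomposition of the fixed elements. -/
theorem exists_bruhat_fix {g : GL D.Idx F} (hg : g ∈ T.fix) :
    ∃ b ∈ D.borelSubgroup F ⊓ T.fix, ∃ i < Y.W.N,
      ∃ u ∈ c.KS F (c.invSet (Y.W.wd i)) c.T.h ⊓ T.fix, g = b * c.nw F (Y.W.wd i) * u := by
  obtain ⟨b, hb, L, hL, hC, u, hu, rfl⟩ := T.fix_bruhat hg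
  obtain ⟨i, hi, hs⟩ := Y.W.exists_rep hL hC
  obtain ⟨h1, h2, h3⟩ := Y.wd_spec hi
  obtain ⟨k, hk, e⟩ := c.exists_H_mul_of_same (F := F) hL h1 hs
  have hset : c.invSet L = c.invSet (Y.W.wd i) := Set.ext fun r =>
    and_congr_right fun hr => by rw [c.wl_eq_of_same hL h1 hs hr.2]
  rw [e, ← mul_assoc] at hg ⊢
  rw [hset] at hu
  obtain ⟨f1, f2⟩ := T.fix_factors (mul_mem hb (c.H_le_B hk)) h1 h2 h3 hu hg
  exact ⟨_, ⟨mul_mem hb (c.H_le_B hk), f1⟩, i, hi, u, ⟨hu, f2⟩, rfl⟩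

variable [Finite F]

theorem card_KS_inv {i : ℕ} (hi : i < Y.W.N) :
    Nat.card ↥(c.KS F (c.invSet (Y.W.wd i)) c.T.h ⊓ T.fix) ^ Y.e =
      Nat.card F ^ ((Y.W.E.get i).word.map fun j => c.T.invT (Y.W.Jw.getD j [])).sum := by
  obtain ⟨h1, h2, -⟩ := Y.wd_spec hi
  rw [(Y.G.card_fix_KS Y.lifts (c.invSet_closed h1) (invSet_stable h1 h2)).2, c.invSet_card,
    (Y.W.step_spec i hi).2.2.2.2]

theorem card_U_fix : Nat.card ↥(D.posUnipotent F ⊓ T.fix) ^ Y.e =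
    Nat.card F ^ (D.nroots / 2) := by
  rw [← c.card_keep_nil, c.U_eq_KS]
  exact (Y.G.card_fix_KS Y.lifts (c.keepSet_closed (by simp)) keep_stable).2

theorem U_fix_le : D.posUnipotent F ⊓ T.fix ≤ Y.G₁ := by
  rw [c.U_eq_KS]
  exact (Y.G.card_fix_KS Y.lifts (c.keepSet_closed (by simp)) keep_stable).1

theorem B_fix_le : D.borelSubgroup F ⊓ T.fix ≤ Y.G₁ := by
  intro b hb
  obtain ⟨u, hu, a, ha, rfl⟩ := T.borel_fix hb
  exact mul_mem (Y.U_fix_le hu) (Y.H_le ha)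

/-- The group is the whole fixed subgroup. -/
theorem eq_fix : Y.G₁ = T.fix := by
  refine le_antisymm Y.le_fix fun g hg => ?_
  obtain ⟨b, hb, i, hi, u, hu, rfl⟩ := Y.exists_bruhat_fix hg
  exact mul_mem (mul_mem (Y.B_fix_le hb) (Y.nw_wd_mem hi))
    (Y.U_fix_le ⟨c.KS_invSet_le_U (Y.wd_spec hi).1 hu.1, hu.2⟩)

theorem card_B_fix : Nat.card ↥(D.borelSubgroup F ⊓ T.fix) =
    Nat.card ↥(D.posUnipotent F ⊓ T.fix) * Nat.card ↥(D.diagonalSubgroup F ⊓ T.fix) := by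
  rw [← Nat.card_prod]
  symm
  refine Nat.card_congr (Equiv.ofBijective
    (fun x : ↥(D.posUnipotent F ⊓ T.fix) × ↥(D.diagonalSubgroup F ⊓ T.fix) =>
    (⟨x.1.1 * x.2.1, mul_mem (Subgroup.mem_sup_left x.1.2.1) (c.H_le_B x.2.2.1),
      mul_mem x.1.2.2 x.2.2.2⟩ : ↥(D.borelSubgroup F ⊓ T.fix))) ⟨fun x y e => ?_, fun g => ?_⟩)
  · have e' := congrArg Subtype.val e
    simp only at e'
    have h1 : y.1.1⁻¹ * x.1.1 = y.2.1 * x.2.1⁻¹ :=
      calc y.1.1⁻¹ * x.1.1 = y.1.1⁻¹ * (x.1.1 * x.2.1) * x.2.1⁻¹ := by group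
        _ = _ := by rw [e']; group
    have h2 := c.U_inf_H.le (Subgroup.mem_inf.2 ⟨mul_mem (inv_mem y.1.2.1) x.1.2.1,
      h1 ▸ mul_mem y.2.2.1 (inv_mem x.2.2.1)⟩)
    rw [Subgroup.mem_bot, inv_mul_eq_one] at h2
    exact Prod.ext (Subtype.ext h2.symm) (Subtype.ext (mul_left_cancel (h2 ▸ e')))
  · obtain ⟨u, hu, a, ha, e⟩ := T.borel_fix g.2
    exact ⟨(⟨u, hu⟩, ⟨a, ha⟩), Subtype.ext e.symm⟩

/-- The order. -/
theorem card_G₁ : Nat.card Y.G₁ =
    Nat.card ↥(D.posUnipotent F ⊓ T.fix) * Nat.card ↥(D.diagonalSubgroup F ⊓ T.fix) *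
      ∑ i ∈ Finset.range Y.W.N, Nat.card ↥(c.KS F (c.invSet (Y.W.wd i)) c.T.h ⊓ T.fix) := by
  rw [← card_B_fix (T := T), Y.eq_fix, Finset.mul_sum]
  let f : (Σ i : Fin Y.W.N, ↥(D.borelSubgroup F ⊓ T.fix) ×
      ↥(c.KS F (c.invSet (Y.W.wd i)) c.T.h ⊓ T.fix)) → T.fix := fun x =>
    ⟨x.2.1.1 * c.nw F (Y.W.wd x.1) * x.2.2.1,
      mul_mem (mul_mem x.2.1.2.2 (Y.nw_wd_fix x.1.2)) x.2.2.2.2⟩
  have hf : Function.Bijective f := by
    refine ⟨?_, fun g => ?_⟩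
    · rintro ⟨i, b, u⟩ ⟨j, b', u'⟩ e
      have e' := congrArg Subtype.val e
      simp only [f] at e'
      obtain ⟨hi, -, -⟩ := Y.wd_spec i.2
      obtain ⟨hj, -, -⟩ := Y.wd_spec j.2
      obtain rfl : i = j := Fin.ext (Y.W.distinct i.2 j.2 (c.same_of_coset hi hj b.2.1
        (Subgroup.mem_sup_left (c.KS_invSet_le_U hi u.2.1)) b'.2.1
        (Subgroup.mem_sup_left (c.KS_invSet_le_U hj u'.2.1)) e'))
      obtain ⟨h2, h3⟩ := c.bruhat_unique_factors (one_mem _) hi b.2.1 b'.2.1 u.2.1 u'.2.1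
        (by simpa using e')
      obtain rfl : b = b' := Subtype.ext h2
      obtain rfl : u = u' := Subtype.ext h3
      rfl
    · obtain ⟨b, hb, i, hi, u, hu, e⟩ := Y.exists_bruhat_fix g.2
      exact ⟨⟨⟨i, hi⟩, ⟨b, hb⟩, ⟨u, hu⟩⟩, Subtype.ext e.symm⟩
  rw [← Nat.card_congr (Equiv.ofBijective f hf), Nat.card_sigma, Finset.sum_range]
  exact Finset.sum_congr rfl fun i _ => Nat.card_prod _ _

/-! ### The parabolic subgroup of an orbit -/

theorem parabolic_fix {J : List ℕ} (hJ : J ∈ Y.W.Jw) {g : GL D.Idx F} (hg : g ∈ T.fix)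
    {L : List ℕ} (hLJ : ∀ p ∈ L, p ∈ J) {b₁ b₂ : GL D.Idx F} (h1 : b₁ ∈ D.borelSubgroup F)
    (h2 : b₂ ∈ D.borelSubgroup F) (e : g = b₁ * c.nw F L * b₂) :
    g ∈ D.borelSubgroup F ⊓ T.fix ∨ ∃ x ∈ D.borelSubgroup F ⊓ T.fix,
      ∃ y ∈ D.borelSubgroup F ⊓ T.fix, g = x * c.nw F J * y := by
  obtain ⟨hne, hlt, hCJ, horb, hJneg, hinv, hsup⟩ := Y.W.J_spec hJ
  have hL : ∀ p ∈ L, p < D.rank := fun p hp => hlt p (hLJ p hp)
  obtain ⟨b, hb, i, hi, u, hu, e'⟩ := Y.exists_bruhat_fix hg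
  obtain ⟨hw, hwC, -⟩ := Y.wd_spec hi
  have hu' : u ∈ D.borelSubgroup F := Subgroup.mem_sup_left (c.KS_invSet_le_U hw hu.1)
  have hs : c.Same L (Y.W.wd i) := c.same_of_coset hL hw h1 h2 hb.1 hu' (e.symm.trans e')
  have hLC : T.Comm L := fun s hs' => by
    rw [c.wl_eq_of_same hL hw hs (T.ρ_lt s hs'), c.wl_eq_of_same hL hw hs hs', hwC s hs']
  -- coordinates outside the orbit are preserved
  have hout : ∀ {K : List ℕ}, (∀ p ∈ K, p ∈ J) → ∀ {s m : ℕ}, s < D.nroots → m < D.rank → m ∉ J →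
      c.T.vec (c.wl K s) m = c.T.vec s m := by
    intro K hK s m hs' hm hmJ
    induction K with
    | nil => rfl
    | cons p K ih =>
      have hp : p ∈ J := hK p (by simp)
      rw [Cert.wl_cons, c.vec_w (hlt p hp) (c.wl_lt (fun q hq => hlt q (hK q (by simp [hq]))) hs')
        hm, if_neg (fun e => hmJ (by rw [e]; exact hp)), sub_zero, ih fun q hq => hK q (by simp [hq])]
  have hposout : ∀ {K : List ℕ}, (∀ p ∈ K, p ∈ J) → ∀ q < D.rank, q ∉ J →
      c.Pos (c.wl K (D.simple q)) := by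
    intro K hK q hq hqJ
    refine c.pos_of_vec_pos (c.wl_lt (fun p hp => hlt p (hK p hp)) (c.simple_lt hq)) hq ?_
    rw [hout hK (c.simple_lt hq) hq hqJ, c.vec_simple hq hq, if_pos rfl]
    exact one_pos
  have hcase : c.Same L [] ∨ c.Same L J := by
    by_cases hpos : ∀ q < D.rank, c.Pos (c.wl L (D.simple q))
    · left
      intro q hq
      have := c.wl_eq_of_eq (F := ℚ) (L := L) (M := []) (one_mem _) (c.nw_mem_H hL hpos) hL
        (by simp) (by simp) (c.simple_lt hq)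
      simpa using this
    · right
      push Not at hpos
      obtain ⟨q, hq, hneg⟩ := hpos
      have hqJ : q ∈ J := by_contra fun h => hneg (hposout hLJ q hq h)
      have hall : ∀ p ∈ J, ¬ c.Pos (c.wl L (D.simple p)) := by
        intro p hp
        obtain ⟨k, rfl⟩ := horb p hp q hqJ
        have : ∀ k, (T.τ)^[k] q < D.rank ∧ ¬ c.Pos (c.wl L (D.simple ((T.τ)^[k] q))) := by
          intro k
          induction k with
          | zero => exact ⟨hq, hneg⟩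
          | succ k ih =>
            rw [Function.iterate_succ_apply']
            refine ⟨T.τ_lt _ ih.1, ?_⟩
            rw [← T.ρ_simple _ ih.1, hLC _ (c.simple_lt ih.1)]
            exact T.not_pos_ρ (c.wl_lt hL (c.simple_lt ih.1)) ih.2
        exact (this k).2
      have hLJ' : ∀ p ∈ L ++ J, p ∈ J := fun p hp => (List.mem_append.1 hp).elim (hLJ p) id
      have hLJl : ∀ p ∈ L ++ J, p < D.rank := fun p hp => hlt p (hLJ' p hp)
      have hpos' : ∀ p < D.rank, c.Pos (c.wl (L ++ J) (D.simple p)) := by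
        intro p hp
        by_cases hpJ : p ∈ J
        · rw [c.wl_append]
          have hα := c.simple_lt hp
          have hx := c.wl_lt hlt hα
          have hmem : D.neg (c.wl J (D.simple p)) ∈ c.invSet J := by
            refine ⟨(c.not_pos_iff hx).1 (hJneg p hpJ), ?_⟩
            rw [c.wl_neg hlt hx, hinv _ hα]
            exact fun h => (c.not_pos_iff hα).2 h (c.pos_simple hp)
          have h3 := FixedWeyl.root_mem_invSet_pos hL hmem.1 (hsup _ hmem) hall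
          rw [c.wl_neg hL hx] at h3
          by_contra h4
          exact h3 ((c.not_pos_iff (c.wl_lt hL hx)).1 h4)
        · exact hposout hLJ' p hp hpJ
      have hid : ∀ s < D.nroots, c.wl (L ++ J) s = s := fun s hs' => by
        have := c.wl_eq_of_eq (F := ℚ) (L := L ++ J) (M := []) (one_mem _)
          (c.nw_mem_H hLJl hpos') hLJl (by simp) (by simp) hs'
        simpa using this
      intro m hm
      have h5 := hid _ (c.wl_lt hlt (c.simple_lt hm))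
      rw [c.wl_append, hinv _ (c.simple_lt hm)] at h5
      exact h5
  rcases hcase with h | h
  · left
    have hs' : c.Same (Y.W.wd i) [] := fun q hq => by rw [← hs q hq, h q hq]
    obtain ⟨k, hk, ek⟩ := c.exists_H_mul_of_same (F := F) hw (by simp) hs'
    rw [Cert.nw_nil, mul_one] at ek
    refine ⟨?_, hg⟩
    rw [e', ek]
    exact mul_mem (mul_mem hb.1 (c.H_le_B hk)) hu'
  · right
    have hs' : c.Same (Y.W.wd i) J := fun q hq => by rw [← hs q hq, h q hq]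
    obtain ⟨k, hk, ek⟩ := c.exists_H_mul_of_same (F := F) hw hlt hs'
    have hk' : k ∈ T.fix := by
      rw [show k = c.nw F (Y.W.wd i) * (c.nw F J)⁻¹ by rw [ek, mul_inv_cancel_right]]
      exact mul_mem (Y.nw_wd_fix hi) (inv_mem (Y.nw_J_fix hJ))
    exact ⟨b * k, ⟨mul_mem hb.1 (c.H_le_B hk), mul_mem hb.2 hk'⟩, u, ⟨hu', hu.2⟩,
      by rw [e', ek]; group⟩

/-- An element over the nodes of an orbit times a word over them. -/
theorem orbit_mul {J : List ℕ} (hlt : ∀ p ∈ J, p < D.rank) : ∀ {M : List ℕ}, (∀ p ∈ M, p ∈ J) →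
    ∀ {b : GL D.Idx F}, b ∈ D.borelSubgroup F → ∀ {L : List ℕ}, (∀ p ∈ L, p ∈ J) →
    ∃ x ∈ D.borelSubgroup F, ∃ K : List ℕ, (∀ p ∈ K, p ∈ J) ∧ ∃ y ∈ D.borelSubgroup F,
      c.nw F M * b * c.nw F L = x * c.nw F K * y := by
  intro M
  induction M with
  | nil => intro _ b hb L hL; exact ⟨b, hb, L, hL, 1, one_mem _, by simp⟩
  | cons p M ih =>
    intro hM b hb L hL
    obtain ⟨x, hx, K, hK, y, hy, e⟩ := ih (fun q hq => hM q (by simp [hq])) hb hL
    have hp : p ∈ J := hM p (by simp)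
    have e1 : c.nw F (p :: M) * b * c.nw F L = c.np F p * x * c.nw F K * y := by
      rw [Cert.nw_cons, mul_assoc (c.np F p), mul_assoc (c.np F p), e]
      group
    rcases c.np_mul_mul (hlt p hp) (c.nw_mem_N fun q hq => hlt q (hK q hq)) hx with h | h <;>
      obtain ⟨x', hx', y', hy', e2⟩ := DoubleCoset.mem_doubleCoset.1 h
    · refine ⟨x', hx', p :: K, fun q hq => ?_, y' * y, mul_mem hy' hy, ?_⟩
      · rcases List.mem_cons.1 hq with rfl | hq
        · exact hp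
        · exact hK q hq
      · rw [e1, e2, Cert.nw_cons]; group
    · exact ⟨x', hx', K, hK, y' * y, mul_mem hy' hy, by rw [e1, e2]; group⟩

end Datum

end Twist

end Cfsg.Agent.Lie.Chev
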