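import Cfsg.Agent.Lib.Lie.Chev.TwistOutTools
import Cfsg.Agent.Lib.Lie.Chev.TwistD4

/-! The outer automorphism group of ³D₄(q). -/

set_option autoImplicit false
set_option maxRecDepth 20000

namespace Cfsg.Agent.Lie.Chev.D4

open Cfsg.Lie Matrix

theorem top_values :
    ((List.range 4).all fun p => Nat.blt (certFullD4.T.wlT (flatW orbitsD4 (twistD4Reps.get 11).word)
      (certFullD4.T.simple p)) 12) = true ∧
    ((List.range 4).all fun p => Nat.ble 12 (certFullD4.T.wlT (flatW orbitsD4 (twistD4Reps.get 11).word ++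
      flatW orbitsD4 (twistD4Reps.get 11).word) (certFullD4.T.simple p))) = true ∧
    (orbitsD4.all fun J =>
      ((List.range' 12 12).filter fun r => Nat.blt (certFullD4.T.wlT J r) 12).all fun r =>
        ((List.range' 12 12).filter fun r => Nat.blt (certFullD4.T.wlT J r) 12).any
          (Nat.beq (certFullD4.T.wlT J.reverse
            (certFullD4.T.wlT (flatW orbitsD4 (twistD4Reps.get 11).word) r)))) = true ∧
    certFullD4.T.invT [1] = 1 ∧ certFullD4.T.invT [0, 2, 3] = 3 ∧
    ([18, 13, 12].map fun r => certFullD4.T.pairing 14 r) = [-1, -1, -1] := by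
  decide +kernel

theorem invSet_iff {J : List ℕ} (hJ : ∀ p ∈ J, p < chevD4.rank) (r : ℕ) :
    r ∈ certFullD4.invSet J ↔
      r ∈ (List.range' 12 12).filter fun r => Nat.blt (certFullD4.T.wlT J r) 12 := by
  rw [List.mem_filter, List.mem_range'_1, Nat.blt_eq, certFullD4.wlT_eq]
  constructor
  · intro hr
    refine ⟨⟨hr.1.1, hr.1.2⟩, ?_⟩
    by_contra h'
    exact hr.2 ⟨by show 12 ≤ _; omega, certFullD4.wl_lt hJ hr.1.2⟩
  · intro hr
    exact ⟨⟨hr.1.1, hr.1.2⟩, fun h => absurd h.1 (by show ¬ 12 ≤ _; omega)⟩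

variable {K : Type*} [Field K] [Fintype K] (f : K →+* K) {q : ℕ} (hf : ∀ t, f t = t ^ q)
  (hK : Fintype.card K = q ^ 3)

include hf hK

/-- The field endomorphisms of the nodes. -/
def nodeEnd (p : ℕ) : K →+* K := if p = 2 then f else if p = 3 then f.comp f else RingHom.id K

theorem card_fixField :
    Nat.card ↥(RingHom.eqLocusField f (RingHom.id K)) = q := by
  refine Eq.trans (Nat.card_congr (Equiv.subtypeEquivRight fun t => ?_))
    (card_pow_eq_self (F := K) (one_lt_q f hf hK) (e := 3) (by rw [Nat.card_eq_fintype_card, hK]))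
  show f t = t ↔ _
  rw [hf]

/-- The orbits with their fields. -/
noncomputable def nodes : Twist.Nodes (datum f hf hK) where
  m := 2
  J i := if i = 0 then [1] else [0, 2, 3]
  J_mem i := by
    show _ ∈ orbitsD4
    fin_cases i <;> simp [orbitsD4]
  J_surj J hJ := by
    change J ∈ orbitsD4 at hJ
    simp only [orbitsD4, List.mem_cons, List.not_mem_nil, or_false] at hJ
    rcases hJ with rfl | rfl
    exacts [⟨0, rfl⟩, ⟨1, rfl⟩]
  J_inj i j h := by fin_cases i <;> fin_cases j <;> simp_all
  L i := if i = 0 then RingHom.eqLocusField f (RingHom.id K) else ⊤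
  E := nodeEnd f
  pow p := by
    unfold nodeEnd
    split_ifs
    · exact ⟨q, hf⟩
    · exact ⟨q * q, fun t => by rw [RingHom.comp_apply, hf, hf, ← pow_mul]⟩
    · exact ⟨1, fun t => (pow_one t).symm⟩
  big := 1
  big_top t := trivial
  card i := by
    obtain ⟨-, -, -, i1, i3, -⟩ := top_values
    fin_cases i
    · show Nat.card ↥(RingHom.eqLocusField f (RingHom.id K)) ^ 3 =
        Nat.card K ^ certFullD4.T.invT [1]
      rw [card_fixField f hf hK, i1, Nat.card_eq_fintype_card, hK, pow_one]
    · show Nat.card ↥(⊤ : Subfield K) ^ 3 = Nat.card K ^ certFullD4.T.invT [0, 2, 3]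
      rw [i3, Nat.card_congr (Subfield.topEquiv (K := K)).toEquiv]
  orth i := by
    obtain ⟨s0, s1, s2, s3, -, -, n18, n13, n12, -⟩ := simple_values
    fin_cases i
    · exact List.pairwise_singleton _ _
    · show List.Pairwise _ [0, 2, 3]
      simp only [List.pairwise_cons, List.mem_cons, List.not_mem_nil, or_false, forall_eq_or_imp,
        forall_eq, IsEmpty.forall_iff, implies_true, and_true, List.Pairwise.nil, s0, s2, s3, n18,
        n13, n12]
      refine ⟨⟨?_, ?_⟩, ?_⟩ <;> intro a b ha hb t u
      · exact comm_x (r := 18) (s := 13) (by simp) (by simp) (by omega) (by simpa using ha)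
          (by simpa using hb) t u
      · exact comm_x (r := 18) (s := 12) (by simp) (by simp) (by omega) (by simpa using ha)
          (by simpa using hb) t u
      · exact comm_x (r := 13) (s := 12) (by simp) (by simp) (by omega) (by simpa using ha)
          (by simpa using hb) t u
  up_fix i t ht := by
    obtain ⟨s0, s1, s2, s3, -⟩ := simple_values
    refine le_fix f hf hK ?_
    fin_cases i
    · simpa [Twist.upProd, nodeEnd, s1] using gen1 f hf (Or.inl rfl) (show f t = t from ht)
    · simpa [Twist.upProd, nodeEnd, s0, s2, s3, X, mul_assoc] using genX f hf t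
  gens := by
    obtain ⟨s0, s1, s2, s3, -, -, n18, n13, n12, n14⟩ := simple_values
    show twistedD4 K q ≤ _
    refine (Subgroup.closure_le _).2 ?_
    rintro g ⟨w, hw, hg⟩
    obtain rfl := eq_wordProd certFullD4 hg
    refine Subgroup.subset_closure ?_
    rcases hw with ⟨t, ht, r, hr, rfl⟩ | ⟨t, rs, hrs, rfl⟩
    · simp only [d4p2, d4m2, List.mem_cons, List.not_mem_nil, or_false] at hr
      refine ⟨0, t, show f t = t by rw [hf, ht], ?_⟩
      rcases hr with rfl | rfl
      · left; simp [Twist.upProd, nodeEnd, s1]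
      · right; simp [Twist.loProd, nodeEnd, s1, n14]
    · simp only [d4p1, d4p3, d4p4, d4m1, d4m3, d4m4, List.mem_cons, List.not_mem_nil, or_false]
        at hrs
      refine ⟨1, t, trivial, ?_⟩
      have e : t ^ (q ^ 2) = f (f t) := by rw [hf, hf, ← pow_mul, sq]
      rcases hrs with rfl | rfl
      · left; simp [Twist.upProd, nodeEnd, s0, s2, s3, e, hf t]
      · right; simp [Twist.loProd, nodeEnd, s0, s2, s3, n18, n13, n12, e, hf t]

theorem linked : (nodes f hf hK).Linked (0 : Fin 2) (1 : Fin 2) := by
  obtain ⟨-, -, -, -, -, hp⟩ := top_values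
  obtain ⟨s0, s1, s2, s3, -⟩ := simple_values
  simp only [List.map_cons, List.map_nil, List.cons.injEq, and_true] at hp
  intro s hs
  refine ⟨trivial, fun p' hp' => ?_⟩
  have hs' : Units.map (f : K →* K) s = s := Units.ext hs
  have hs'' : Units.map ((f.comp f : K →+* K) : K →* K) s = s :=
    Units.ext (show f (f (s : K)) = s by rw [show f (s : K) = s from hs]; exact hs)
  change p' ∈ [0, 2, 3] at hp'
  show (([1] : List ℕ).map fun p => _).prod = _
  simp only [List.mem_cons, List.not_mem_nil, or_false] at hp'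
  rcases hp' with rfl | rfl | rfl <;>
    simp [nodes, nodeEnd, s0, s1, s2, s3, hp, hs', hs''] <;> rfl

theorem card_out : Nat.card (Cfsg.Out ↥(twistedD4 K q)) = Nat.card (RingAut K) := by
  obtain ⟨h1, h2, h3, -⟩ := top_values
  simp only [List.all_eq_true, List.mem_range, Nat.blt_eq, Nat.ble_eq, List.any_eq_true,
    Nat.beq_eq] at h1 h2 h3
  have hrk : chevD4.rank = 4 := rfl
  have hlt : ∀ p < 4, certFullD4.T.simple p = chevD4.simple p := fun p hp =>
    (certFullD4.simple_eq (show p < chevD4.rank from hp)).symm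
  have hw : (datum f hf hK).W.wd 11 = flatW orbitsD4 (twistD4Reps.get 11).word := rfl
  have two : ∀ j : Fin 2, j = 0 ∨ j = 1 := by decide
  set N := nodes f hf hK with hN
  have hi : 11 < (datum f hf hK).W.N := (show (11 : ℕ) < 12 by decide)
  have hwd := ((datum f hf hK).wd_spec hi).1
  have h := N.card_out hi
    (fun p hp => by
      rw [hw]
      intro hpos
      have := h1 p hp
      rw [certFullD4.wlT_eq, hlt p hp] at this
      exact absurd hpos.1 (by show ¬ 12 ≤ _; omega))
    (fun p hp => by
      have := h2 p hp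
      rw [certFullD4.wlT_eq, hlt p hp] at this
      rw [hw]
      exact ⟨this, certFullD4.wl_lt (fun x hx => hwd x (by
        rw [hw]; exact (List.mem_append.1 hx).elim id id)) (certFullD4.simple_lt hp)⟩)
    (fun J hJ r hr => by
      have hJlt := ((datum f hf hK).W.J_spec hJ).2.1
      rw [invSet_iff hJlt] at hr ⊢
      obtain ⟨x, hx, e⟩ := h3 J hJ r hr
      rw [hw, ← certFullD4.wlT_eq, ← certFullD4.wlT_eq, e]
      exact hx)
    (fun θ π hπ i => by
      have hc := fun i => N.card_L_eq (hπ i)
      have h0 : Nat.card (N.L (0 : Fin 2)) ≠ Nat.card (N.L (1 : Fin 2)) := by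
        show Nat.card ↥(RingHom.eqLocusField f (RingHom.id K)) ≠ Nat.card ↥(⊤ : Subfield K)
        rw [card_fixField f hf hK, Nat.card_congr (Subfield.topEquiv (K := K)).toEquiv,
          Nat.card_eq_fintype_card, hK]
        exact (lt_self_pow₀ (one_lt_q f hf hK) (by omega)).ne
      change Fin 2 at i
      obtain rfl | rfl : i = 0 ∨ i = 1 := by omega
      · obtain h | h : π (0 : Fin 2) = (0 : Fin 2) ∨ π (0 : Fin 2) = (1 : Fin 2) :=
          two (π (0 : Fin 2))
        exacts [h, absurd ((hc (0 : Fin 2)).trans (by rw [h])) h0]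
      · obtain h | h : π (1 : Fin 2) = (1 : Fin 2) ∨ π (1 : Fin 2) = (0 : Fin 2) :=
          (two (π (1 : Fin 2))).symm
        exacts [h, absurd ((hc (1 : Fin 2)).trans (by rw [h])).symm h0])
    (fun P hb hstep i => by
      change Fin 2 at i
      obtain rfl | rfl : i = 0 ∨ i = 1 := by omega
      exacts [hstep _ _ (linked f hf hK) hb, hb])
    (fun g hg => by
      obtain ⟨s, t, ht, rfl⟩ := exists_zOf f hf hK hg
      obtain ⟨t1, t2, t3, t4⟩ := tchar_simple (zOf f s t)
      obtain ⟨s0, s1, s2, s3, -⟩ := simple_values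
      refine N.torus_mem_range _ fun i => ?_
      change Fin 2 at i
      obtain rfl | rfl : i = 0 ∨ i = 1 := by omega
      · refine ⟨⟨(certFullD4.tchar (zOf f s t) 14 : K), ?_⟩, fun p hp => ?_⟩
        · show f _ = _
          rw [t2]
          simp [zOf, ht, pow_cube f hf hK (s : K)]
          ring
        · change p ∈ [1] at hp
          obtain rfl := List.mem_singleton.1 hp
          simp [hN, nodes, nodeEnd, s1]
      · refine ⟨⟨(certFullD4.tchar (zOf f s t) 18 : K), trivial⟩, fun p hp => ?_⟩
        change p ∈ [0, 2, 3] at hp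
        simp only [List.mem_cons, List.not_mem_nil, or_false] at hp
        rcases hp with rfl | rfl | rfl <;>
          simp [hN, nodes, nodeEnd, s0, s2, s3, t1, t3, t4, zOf, ht])
    (g := 1) (by
      rw [one_mul, card_H f hf hK]
      show _ = ∏ i : Fin 2, _
      rw [Fin.prod_univ_two]
      show _ = (Nat.card ↥(RingHom.eqLocusField f (RingHom.id K)) - 1) *
        (Nat.card ↥(⊤ : Subfield K) - 1)
      rw [card_fixField f hf hK, Nat.card_congr (Subfield.topEquiv (K := K)).toEquiv,
        Nat.card_eq_fintype_card, hK, mul_comm])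
  rw [one_mul] at h
  exact h

end Cfsg.Agent.Lie.Chev.D4
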