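import Cfsg.Agent.Lib.Lie.Chev.TwistOut

/-! Tools to recognise the orbits of fundamental roots from their fixed root groups. -/

set_option autoImplicit false

namespace Cfsg.Agent.Lie.Chev.Twist.Nodes

open Cfsg.Lie Matrix
open scoped MatrixGroups

variable {D : ChevalleyDatum} {c : CertFull D} {F : Type*} [Field F] {T : Twist c F}
  {Y : Datum T} (N : Nodes Y) [Finite F]

/-- The fixed root elements of an orbit, numbered. -/
theorem exists_upG {i : Fin N.m} {g : ↥Y.G₁} (h : (g : GL D.Idx F) ∈ Y.X (N.J i)) :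
    ∃ t, N.upG i t = g := by
  obtain ⟨t, ht⟩ := (N.X_eq i).1 h
  exact ⟨t, Subtype.ext (by rw [N.upG_coe, ht])⟩

theorem upG_mem_X (i : Fin N.m) (t : N.L i) : (N.upG i t : GL D.Idx F) ∈ Y.X (N.J i) := by
  rw [N.upG_coe]; exact N.up_mem_X i t

theorem upG_injective (i : Fin N.m) : Function.Injective (N.upG i) := by
  intro a b e
  refine sub_eq_zero.1 (N.PhiG_up_eq_one i _ ?_)
  rw [sub_eq_add_neg, upSL_add, map_mul]
  show N.upG i a * _ = 1
  rw [e, upG, ← map_mul, ← upSL_add, add_neg_cancel, upSL_zero, map_one]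

theorem card_X (i : Fin N.m) :
    Nat.card {g : ↥Y.G₁ // (g : GL D.Idx F) ∈ Y.X (N.J i)} = Nat.card (N.L i) :=
  (Nat.card_congr (Equiv.ofBijective (fun t => ⟨N.upG i t, N.upG_mem_X i t⟩)
    ⟨fun _ _ e => N.upG_injective i (congrArg Subtype.val e),
      fun g => (N.exists_upG g.2).imp fun _ e => Subtype.ext e⟩)).symm

theorem card_L_eq {θ : ↥Y.G₁ ≃* ↥Y.G₁} {i j : Fin N.m}
    (h : ∀ g : ↥Y.G₁, (θ g : GL D.Idx F) ∈ Y.X (N.J j) ↔ (g : GL D.Idx F) ∈ Y.X (N.J i)) :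
    Nat.card (N.L i) = Nat.card (N.L j) := by
  rw [← N.card_X i, ← N.card_X j]
  exact Nat.card_congr (θ.toEquiv.subtypeEquiv fun g => (h g).symm)

theorem eq_of_mem_X {i k : Fin N.m} (h : (N.upG i 1 : GL D.Idx F) ∈ Y.X (N.J k)) : i = k := by
  by_contra hne
  obtain ⟨t, ht⟩ := (N.X_eq k).1 h
  obtain ⟨hne', -⟩ := Y.W.J_spec (N.J_mem i)
  rw [N.upG_coe] at ht
  cases hJ : N.J i with
  | nil => exact hne' hJ
  | cons p l =>
    have hp : p < D.rank := N.lt (i := i) (by rw [hJ]; simp)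
    have hout : ∀ (a : Fin N.m) (u : F) (L : List ℕ), (∀ q ∈ L, q ∈ N.J a ∧ q ≠ p) →
        (L.map fun q => c.xg (D.simple q) (N.E q u)).prod ∈ Up D F p := fun a u L hL => by
      refine Subgroup.list_prod_mem _ fun g hg => ?_
      obtain ⟨q, hq, rfl⟩ := List.mem_map.1 hg
      obtain ⟨hqa, hqp⟩ := hL q hq
      exact c.xg_mem_Up (c.pos_simple (N.lt hqa))
        (fun e => hqp (c.simple_inj (N.lt hqa) hp e)) _
    have horth := N.orth i
    rw [hJ, List.pairwise_cons] at horth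
    have hl := hout i ((1 : N.L i) : F) l fun q hq => ⟨by rw [hJ]; simp [hq], fun e => by
      subst e
      exact c.not_commute_opp_self (F := F) hp fun a b =>
        horth.1 q hq _ _ (Or.inl rfl) (Or.inr rfl) a b⟩
    have hk := hout k (t : F) (N.J k) fun q hq => ⟨hq, fun e =>
      hne (N.node_unique (p := p) (by rw [hJ]; simp) (e ▸ hq))⟩
    have e : upProd c N.E (N.J i) ((1 : N.L i) : F) = upProd c N.E (N.J k) t := ht.symm
    rw [upProd, upProd, hJ, List.map_cons, List.prod_cons, ← eq_mul_inv_iff_mul_eq] at e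
    have h1 := c.notMem_Up hp (e ▸ mul_mem hk (inv_mem hl))
    simp at h1

theorem perm_injective {θ : ↥Y.G₁ ≃* ↥Y.G₁} {π : Fin N.m → Fin N.m}
    (h : ∀ i, ∀ g : ↥Y.G₁, (θ g : GL D.Idx F) ∈ Y.X (N.J (π i)) ↔
      (g : GL D.Idx F) ∈ Y.X (N.J i)) : Function.Injective π := by
  intro i k e
  refine N.eq_of_mem_X ?_
  rw [← h k, ← e, h i]
  exact N.upG_mem_X i 1

/-- The root groups of two orbits commute. -/
def Comm₂ (i k : Fin N.m) : Prop := ∀ a b, Commute (N.upG i a) (N.upG k b)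

theorem comm₂_transfer {θ : ↥Y.G₁ ≃* ↥Y.G₁} {i j k l : Fin N.m}
    (h : ∀ g : ↥Y.G₁, (θ g : GL D.Idx F) ∈ Y.X (N.J j) ↔ (g : GL D.Idx F) ∈ Y.X (N.J i))
    (h' : ∀ g : ↥Y.G₁, (θ g : GL D.Idx F) ∈ Y.X (N.J l) ↔ (g : GL D.Idx F) ∈ Y.X (N.J k))
    (hc : N.Comm₂ j l) : N.Comm₂ i k := by
  intro a b
  obtain ⟨u, hu⟩ := N.exists_upG ((h _).2 (N.upG_mem_X i a))
  obtain ⟨v, hv⟩ := N.exists_upG ((h' _).2 (N.upG_mem_X k b))
  show _ = _
  refine θ.injective ?_
  rw [map_mul, map_mul, ← hu, ← hv]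
  exact (hc u v).eq

theorem comm₂_of_roots {i k : Fin N.m}
    (h : ∀ p ∈ N.J i, ∀ q ∈ N.J k, ∀ t u : F,
      Commute (c.xg (D.simple p) t) (c.xg (D.simple q) u)) : N.Comm₂ i k := by
  intro a b
  refine Subtype.ext ?_
  rw [Subgroup.coe_mul, Subgroup.coe_mul, N.upG_coe, N.upG_coe]
  refine (Commute.list_prod_left _ _ fun x hx => Commute.list_prod_right _ _ fun y hy => ?_).eq
  obtain ⟨p, hp, rfl⟩ := List.mem_map.1 hx
  obtain ⟨q, hq, rfl⟩ := List.mem_map.1 hy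
  exact h p hp q hq _ _

theorem wl_eq_of_comm₂ {i k : Fin N.m} {p : ℕ} (hJ : N.J i = [p]) (hik : i ≠ k)
    (h : N.Comm₂ i k) : c.wl (N.J k) (D.simple p) = D.simple p := by
  have hp : p < D.rank := N.lt (i := i) (by rw [hJ]; simp)
  have hα := c.simple_lt hp
  obtain ⟨-, hlt, -⟩ := Y.W.J_spec (N.J_mem k)
  have hx : ∀ t : N.L i, (N.upG i t : GL D.Idx F) = c.xg (D.simple p) (N.E p t) := fun t => by
    rw [N.upG_coe, upProd, hJ]
    simp
  have hc : Commute (N.PhiG k (nSL (1 : N.L k))) (N.upG i 1) := by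
    rw [nSL, map_mul, map_mul]
    have hlo : Commute (N.upG i 1) (N.loG k (-1⁻¹)) := Subtype.ext (by
      rw [Subgroup.coe_mul, Subgroup.coe_mul, N.upG_coe, N.loG_coe]
      exact (N.commute_opp hik _ _).eq)
    exact ((h 1 1).symm.mul_left hlo.symm).mul_left (h 1 1).symm
  have e := congrArg Subtype.val hc.eq
  rw [Subgroup.coe_mul, Subgroup.coe_mul, hx,
    show (N.PhiG k (nSL (1 : N.L k)) : GL D.Idx F) = c.nw F (N.J k) from N.Phi_n k,
    c.nw_mul_xg hlt hα] at e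
  by_contra hw
  have hw' : c.Pos (c.wl (N.J k) (D.simple p)) := by
    by_contra hneg
    have hm : D.simple p ∈ c.invSet (N.J k) := ⟨c.pos_simple hp, hneg⟩
    have hpk := (Y.W.J_spec (N.J_mem k)).2.2.2.2.2.2 _ hm p hp
      (by rw [c.vec_simple hp hp, if_pos rfl]; exact one_ne_zero)
    exact hik (N.node_unique (p := p) (by rw [hJ]; simp) hpk)
  have h2 := c.notMem_Up hp ((mul_right_cancel e).symm ▸ c.xg_mem_Up hw' hw _ :
    c.xg (D.simple p) (N.E p ((1 : N.L i) : F)) ∈ Up D F p)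
  simp at h2

/-- A torus element with compatible values is diagonal for a tuple of scalars. -/
theorem torus_mem_range (z : ℕ → Fˣ)
    (h : ∀ i, ∃ w : N.L i, ∀ p ∈ N.J i, N.E p w = (c.tchar z (D.simple p) : F)) :
    c.torus z ∈ N.dz.range := by
  choose w hw using h
  have hne : ∀ i, w i ≠ 0 := fun i e => by
    obtain ⟨hne, -⟩ := Y.W.J_spec (N.J_mem i)
    obtain ⟨p, hp⟩ := List.exists_mem_of_ne_nil _ hne
    have := hw i p hp
    rw [e] at this
    simp at this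
    exact (c.tchar z (D.simple p)).ne_zero this.symm
  refine ⟨fun i => Units.mk0 (w i) (hne i), ?_⟩
  rw [N.dz_apply, Cert.torus_apply]
  refine dg_ext D F fun s hs => ?_
  rw [show N.expand (fun i => Units.mk0 (w i) (hne i)) = fun p : Fin D.rank => c.tchar z (D.simple p) from
    funext fun p => Units.ext (hw _ _ (N.mem_node p)), c.nodeChar_tchar z hs]

end Cfsg.Agent.Lie.Chev.Twist.Nodes
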