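import Cfsg.Agent.Lib.Lie.Chev.TwistRootSwap

/-! A lower bound for the degree of a representation of ²E6(q), read off from a certificate on the
tables: at every long positive root, the vectors fixed by the earlier roots and with a non-trivial
character on that root span at least `q ^ (ht r - 1)` dimensions. -/

set_option autoImplicit false
set_option linter.unusedSectionVars false
set_option linter.unusedVariables false

namespace Cfsg.Agent.Lie.Chev.E6.Deg

open Cfsg.Lie Module Cfsg.Agent.Grp.EigenSplit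

local notation "X" => certFullE6.xg

/-- A step in closing up the stabiliser of a line. -/
inductive OStep where
  | scal (s : ℕ)
  | fix (s s₁ s₂ : ℕ)

/-- The data at a long simple root. -/
structure OSimple where
  root : ℕ
  word : List ℕ
  pairs : List (ℕ × ℕ)
  steps : List OStep

/-- An entry in the order of the roots. -/
inductive OEntry where
  | short (r : ℕ)
  | long (r base : ℕ) (word : List ℕ) (pairs : List (ℕ × ℕ))

/-- The roots fixing the line. -/
def closeO : List OStep → List ℕ → List ℕ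
  | [], F => F
  | .scal _ :: L, F => closeO L F
  | .fix s _ _ :: L, F => closeO L (s :: F)

/-- The checks of the closing steps. -/
def closeOK (A : List ℕ) : List OStep → List ℕ → List ℕ → Bool
  | [], _, _ => true
  | .scal s :: L, S, F => Nat.blt s 72 && A.all (omoves s F) && closeOK A L (s :: S) F
  | .fix s s₁ s₂ :: L, S, F => Nat.blt s₁ 72 && Nat.blt s₂ 72 && joinsO s₁ s₂ s &&
      hasO (S ++ A) s₁ && hasO (S ++ A) s₂ && closeOK A L S (s :: F)

/-- The number of field elements in the parameters of a root, as a logarithm. -/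
def rdim (r : ℕ) : ℕ := bif fxd r then 1 else 2

/-- The logarithm of the number of parameters in the second entries of a list of pairs. -/
def pdim : List (ℕ × ℕ) → ℕ
  | [] => 0
  | p :: P => rdim p.2 + pdim P

/-- The conditions on a list of pairs splitting the orbits of `r` fixed on `pre`. -/
def pairsOK (pre : List ℕ) (r : ℕ) : List (ℕ × ℕ) → Bool
  | [] => true
  | p :: P => pairsOK pre r P && joinsO p.1 p.2 r && Nat.blt p.1 72 && Nat.blt p.2 72 &&
      (r :: pre ++ P.map Prod.snd).all fun x => omoves p.1 pre x && omoves p.2 pre x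

/-- A word in the orbits of nodes. -/
def wordOK (idx : List ℕ) : Bool := idx.all (Nat.blt · 4)

/-- The word in the nodes. -/
def owl (idx : List ℕ) (r : ℕ) : ℕ := certFullE6.T.wlT (flatW orbitsE6 idx) r

/-- The image of a root under a word, with the same orbit length. -/
def imgOK (idx : List ℕ) (y x : ℕ) : Bool :=
  Nat.beq (owl idx y) x && (fxd y == fxd x)

/-- The check at a long simple root. -/
def simpleOK (base n₀ : ℕ) (d : OSimple) : Bool :=
  Nat.blt d.root 72 && fxd d.root && wordOK d.word && Nat.beq (owl d.word base) d.root &&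
    Nat.beq (owl d.word.reverse d.root) base && pairsOK [] d.root d.pairs &&
    Nat.beq (pdim d.pairs) n₀ && (d.pairs.map Prod.snd).all (Nat.blt · 72) &&
    closeOK (d.root :: d.pairs.map Prod.snd) d.steps [] (d.pairs.map Prod.snd)

/-- The checks along the order of the roots. -/
def orderOK (Ss : List OSimple) : List ℕ → List OEntry → Bool
  | _, [] => true
  | pre, .short r :: E => Nat.blt r 72 && orderOK Ss (r :: pre) E
  | pre, .long r b idx P :: E => Nat.blt r 72 && fxd r && pre.all (omoves r pre) &&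
      pairsOK pre r P && wordOK idx &&
      (match Ss[b]? with
      | none => false
      | some d => imgOK idx d.root r && (pre ++ P.map Prod.snd).all fun x =>
          let y := owl idx.reverse x
          imgOK idx y x && hasO (closeO d.steps (d.pairs.map Prod.snd)) y) &&
      orderOK Ss (r :: pre) E

/-- The exponents at the long roots. -/
def longDims : List OEntry → List ℕ
  | [] => []
  | .short _ :: E => longDims E
  | .long _ _ _ P :: E => pdim P :: longDims E

variable {K : Type*} [Field K] [Fintype K] (f : K →+* K) {q : ℕ} (hf : ∀ t, f t = t ^ q)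
  (hK : Fintype.card K = q ^ 2)
  {V : Type*} [AddCommGroup V] [Module ℂ V]
  (π : ↥(twistedE6 K q) →* End ℂ V)

noncomputable local instance (r : ℕ) : Fintype ↥(par f r) := Fintype.ofFinite _

open Classical in
/-- The operator of an element of the ambient group. -/
noncomputable def op (g : GL chevE6.Idx K) : End ℂ V :=
  if h : g ∈ twistedE6 K q then π ⟨g, h⟩ else 0

theorem op_eq {g : GL chevE6.Idx K} (h : g ∈ twistedE6 K q) : op π g = π ⟨g, h⟩ := dif_pos h

theorem op_one : op π 1 = 1 := by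
  rw [op_eq π (one_mem _)]; exact map_one π

theorem op_mul {g h : GL chevE6.Idx K} (hg : g ∈ twistedE6 K q) (hh : h ∈ twistedE6 K q) :
    op π (g * h) = op π g * op π h := by
  rw [op_eq π hg, op_eq π hh, op_eq π (mul_mem hg hh), ← map_mul]; rfl

theorem op_injective {g : GL chevE6.Idx K} (hg : g ∈ twistedE6 K q) :
    Function.Injective (op π g) := fun v w e => by
  have e' := congrArg (op π g⁻¹) e
  rwa [← End.mul_apply, ← End.mul_apply, ← op_mul π (inv_mem hg) hg, inv_mul_cancel, op_one] at e'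

/-- The operator of an orbit element. -/
noncomputable def gop (r : ℕ) (t : ↥(par f r)) : End ℂ V := op π (gel f r (t : K))

/-- An eigenspace of an orbit. -/
noncomputable def eigO (r : ℕ) (μ : AddChar ↥(par f r) ℂ) : Submodule ℂ V := eig (gop f π r) μ

theorem mem_eigO {r : ℕ} {μ : AddChar ↥(par f r) ℂ} {v : V} :
    v ∈ eigO f π r μ ↔ ∀ t : ↥(par f r), op π (gel f r (t : K)) v = μ t • v := Iff.rfl

/-- The vectors fixed by the orbits of a list. -/
noncomputable def oFix : List ℕ → Submodule ℂ V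
  | [] => ⊤
  | x :: L => eigO f π x 1 ⊓ oFix L

theorem mem_oFix {v : V} : ∀ {L : List ℕ},
    v ∈ oFix f π L ↔ ∀ x ∈ L, ∀ t ∈ par f x, op π (gel f x t) v = v
  | [] => by simp [oFix]
  | x :: L => by
    rw [oFix, Submodule.mem_inf, mem_eigO, mem_oFix (L := L)]
    simp

include hf hK

theorem gop_act {r : ℕ} (hr : r < 72) : IsAct (gop f π r) where
  map_zero := by rw [gop, ZeroMemClass.coe_zero, gel_zero f hr, op_one]
  map_add t u := by
    rw [gop, gop, gop, AddMemClass.coe_add, gel_add f hr,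
      op_mul π (gel_mem f hf hK hr t.2) (gel_mem f hf hK hr u.2)]

theorem fix_of_hasO {L : List ℕ} {y : ℕ} (hy : hasO L y = true) {t : K} (ht : t ∈ par f y) {v : V}
    (hv : v ∈ oFix f π L) : op π (gel f y t) v = v := by
  have hlt := hasO_lt hy
  simp only [hasO, Bool.and_eq_true, Bool.or_eq_true, List.contains_iff_mem] at hy
  rcases hy.2 with h | h
  · exact (mem_oFix f π).1 hv y h t ht
  by_cases e : graphE6.ρ y = y
  · rw [e] at h; exact (mem_oFix f π).1 hv y h t ht
  have e' : graphE6.ρ (graphE6.ρ y) ≠ graphE6.ρ y := by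
    rw [(graph_spec hlt).2.1]; exact Ne.symm e
  have := (mem_oFix f π).1 hv _ h ((graphE6.ε y : K) * f t) ((mem_par f).2 fun h' => absurd h' e')
  rw [gel_pair f e', ← tX_eq f hlt] at this
  rw [gel_pair f e, (X_tX_commute f hlt t t).eq]
  rw [show tX f (graphE6.ρ y) ((graphE6.ε y : K) * f t) = X y t by
    rw [tX, ← tX_eq f hlt, tX_tX f hf hK hlt]] at this
  exact this

theorem fix_FG {L : List ℕ} {v : V} (hv : v ∈ oFix f π L) {g : GL chevE6.Idx K}
    (hg : g ∈ FG f L) : op π g v = v := by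
  induction hg using Subgroup.closure_induction with
  | mem g hg =>
    obtain ⟨y, hy, t, ht, rfl⟩ := hg
    exact fix_of_hasO f hf hK π hy ht hv
  | one => rw [op_one]; rfl
  | mul a b ha hb iha ihb =>
    rw [op_mul π (FG_le f hf hK L ha) (FG_le f hf hK L hb), End.mul_apply, ihb, iha]
  | inv a ha iha =>
    have hm := FG_le f hf hK L ha
    conv_lhs => rw [← iha]
    rw [← End.mul_apply, ← op_mul π (inv_mem hm) hm, inv_mul_cancel, op_one]
    rfl

theorem op_swap {s x : ℕ} {L : List ℕ} (hs : s < 72) (hx : x < 72) (h : omoves s L x = true)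
    {v : V} (hv : v ∈ oFix f π L) {t u : K} (ht : t ∈ par f s) (hu : u ∈ par f x) :
    op π (gel f x u) (op π (gel f s t) v) = op π (gel f s t) (op π (gel f x u) v) := by
  obtain ⟨z, hz, e⟩ := swap_mem f hf hK hs hx h ht hu
  have hzm := FG_le f hf hK L hz
  have ha := gel_mem f hf hK hs ht
  have hb := gel_mem f hf hK hx hu
  have e' := congrArg (op π) e
  rw [op_mul π hb ha, op_mul π (mul_mem ha hb) hzm, op_mul π ha hb] at e'
  have := LinearMap.congr_fun e' v
  simp only [End.mul_apply, fix_FG f hf hK π hv hz] at this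
  exact this

theorem moves_eig {s x : ℕ} {L : List ℕ} (hs : s < 72) (hx : x < 72) (h : omoves s L x = true)
    {v : V} (hv : v ∈ oFix f π L) {μ : AddChar ↥(par f x) ℂ} (he : v ∈ eigO f π x μ) {t : K}
    (ht : t ∈ par f s) : op π (gel f s t) v ∈ eigO f π x μ := fun u => by
  show op π _ _ = _
  rw [op_swap f hf hK π hs hx h hv ht u.2, (mem_eigO f π).1 he u, map_smul]

theorem moves_fix {s : ℕ} {L M : List ℕ} (hs : s < 72) (hM : ∀ x ∈ M, x < 72)
    (h : ∀ x ∈ M, omoves s L x = true) {v : V} (hv : v ∈ oFix f π L) (hvM : v ∈ oFix f π M)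
    {t : K} (ht : t ∈ par f s) : op π (gel f s t) v ∈ oFix f π M :=
  (mem_oFix f π).2 fun x hx u hu => by
    rw [op_swap f hf hK π hs (hM x hx) (h x hx) hv ht hu, (mem_oFix f π).1 hvM x hx u hu]

omit π in
theorem exists_trace {r : ℕ} {c : K} (hr : graphE6.ρ r = r) (hc : c ∈ par f r) :
    ∃ z : K, z + f z = c := by
  have hq := one_lt_q f hf hK
  obtain ⟨w, hw⟩ : ∃ w : K, w + f w ≠ 0 := by
    by_contra hall
    push Not at hall
    have h1 : (1 : K) + 1 = 0 := by simpa using hall 1
    have hid : ∀ x : K, x ^ q = x := fun x => by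
      have h2 : x + x = 0 := by rw [← mul_one x, ← mul_add, h1, mul_zero]
      rw [← hf]
      exact add_left_cancel ((hall x).trans h2.symm)
    have h := card_pow_eq_self (F := K) hq (e := 2) (by rw [Nat.card_eq_fintype_card, hK])
    rw [Nat.card_congr (Equiv.subtypeUnivEquiv hid), Nat.card_eq_fintype_card, hK] at h
    have : q * 1 < q * q := Nat.mul_lt_mul_of_pos_left hq (by omega)
    rw [sq] at h
    omega
  have hs : f (w + f w) = w + f w := by rw [map_add, pow_sq f hf hK, add_comm]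
  refine ⟨c * w * (w + f w)⁻¹, ?_⟩
  rw [map_mul, map_mul, map_inv₀, hs, (mem_par f).1 hc hr, ← add_mul, ← mul_add,
    mul_inv_cancel_right₀ hw]

omit π in
theorem card_par (r : ℕ) : Fintype.card ↥(par f r) = q ^ rdim r := by
  rw [← Nat.card_eq_fintype_card, rdim]
  cases h : fxd r
  · have : par f r = ⊤ := by
      rw [par, if_neg (not_fxd h)]
    rw [this]
    simp [Nat.card_eq_fintype_card, hK]
  · rw [cond_true, pow_one]
    rw [show Nat.card ↥(par f r) = Nat.card {a : K // a ^ q = a} from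
      Nat.card_congr (Equiv.subtypeEquivRight fun t => by
        rw [mem_par, ← hf]; exact ⟨fun e => e (fxd_iff.1 h), fun e _ => e⟩)]
    exact card_pow_eq_self (F := K) (one_lt_q f hf hK) (e := 2)
      (by rw [Nat.card_eq_fintype_card, hK])

variable [FiniteDimensional ℂ V]

theorem sum_eigO {r : ℕ} (hr : r < 72) {W : Submodule ℂ V}
    (hW : ∀ t : ↥(par f r), Stable (gop f π r t) W) :
    ∑ μ : AddChar ↥(par f r) ℂ, finrank ℂ ↥(W ⊓ eigO f π r μ) = finrank ℂ W :=
  sum_finrank (gop_act f hf hK π hr) id Function.injective_id AddChar.card_eq hW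

/-- One pair of orbits splits a subspace into parts of equal dimension. -/
theorem pair_split {a b r : ℕ} (ha : a < 72) (hb : b < 72) (h : joinsO a b r = true)
    (hfr : graphE6.ρ r = r) {μ : AddChar ↥(par f r) ℂ} (hμ : μ ≠ 1) {W : Submodule ℂ V}
    (hW : W ≤ eigO f π r μ) (hA : ∀ t ∈ par f a, Stable (op π (gel f a t)) W)
    (hB : ∀ t : ↥(par f b), Stable (gop f π b t) W) (ν : AddChar ↥(par f b) ℂ) :
    finrank ℂ W = q ^ rdim b * finrank ℂ ↥(W ⊓ eigO f π b ν) := by
  classical
  obtain ⟨hr, hab, -, k, hk, hfk, hswap⟩ := joins_mem f hf hK ha hb h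
  have hfx : graphE6.ρ a = a ↔ graphE6.ρ b = b := by rw [← fxd_iff, hab, fxd_iff]
  -- the bracket
  let Z : K → K := fun c => if graphE6.ρ a = a then c else c + f c
  have hZ : ∀ t ∈ par f a, ∀ u ∈ par f b, Z (k * t * u) ∈ par f r := by
    intro t ht u hu
    refine (mem_par f).2 fun _ => ?_
    simp only [Z]
    split_ifs with e
    · rw [map_mul, map_mul, hfk, (mem_par f).1 ht e, (mem_par f).1 hu (hfx.1 e)]
    · rw [map_add, pow_sq f hf hK, add_comm]
  have hswap' : ∀ t u : K, gel f b u * gel f a t =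
      gel f a t * gel f b u * gel f r (Z (k * t * u)) := by
    intro t u
    rw [hswap, gel_fixed f hfr]
    simp only [Z]
    split_ifs with e
    · rfl
    · rw [tX_fixed f hr hfr, certFullE6.xg_add]
  let β : ↥(par f a) → (↥(par f b) →+ ↥(par f r)) := fun t =>
    { toFun := fun u => ⟨Z (k * t * u), hZ t t.2 u u.2⟩
      map_zero' := Subtype.ext (by simp [Z])
      map_add' := fun u u' => Subtype.ext (by
        simp only [Z, AddMemClass.coe_add, mul_add]
        split_ifs
        · rfl
        · rw [map_add]; abel) }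
  let shift : ↥(par f a) → AddChar ↥(par f b) ℂ := fun t => μ.compAddMonoidHom (β t)
  have hshift : Function.Injective shift := by
    intro t t' e
    by_contra hne
    refine hμ (DFunLike.ext _ _ fun c => ?_)
    have hw : (t : K) - t' ≠ 0 := fun e' => hne (Subtype.ext (sub_eq_zero.1 e'))
    obtain ⟨u, hu⟩ : ∃ u : ↥(par f b), Z (k * ((t : K) - t') * u) = c := by
      by_cases e' : graphE6.ρ a = a
      · refine ⟨⟨(c : K) * (k * ((t : K) - t'))⁻¹, (mem_par f).2 fun _ => ?_⟩, ?_⟩
        · rw [map_mul, map_inv₀, map_mul, hfk, map_sub, (mem_par f).1 c.2 hfr,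
            (mem_par f).1 t.2 e', (mem_par f).1 t'.2 e']
        · simp only [Z, if_pos e']
          field_simp
      · obtain ⟨z, hz⟩ := exists_trace f hf hK hfr c.2
        refine ⟨⟨z * (k * ((t : K) - t'))⁻¹, (mem_par f).2 fun e'' => absurd (hfx.2 e'') e'⟩, ?_⟩
        simp only [Z, if_neg e']
        rw [show k * ((t : K) - t') * (z * (k * ((t : K) - t'))⁻¹) = z by field_simp, hz]
    have hsum : β t u = c + β t' u := by
      refine Subtype.ext ?_
      show Z _ = (c : K) + Z _
      rw [← hu]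
      simp only [Z]
      split_ifs
      · ring
      · simp only [map_mul, map_sub]; ring
    have e2 := DFunLike.congr_fun e u
    simp only [shift, AddChar.compAddMonoidHom_apply, hsum, AddChar.map_add_eq_mul] at e2
    have hne0 : μ (β t' u) ≠ 0 := fun e0 => by
      have := AddChar.map_add_eq_mul μ (β t' u) (-β t' u)
      rw [add_neg_cancel, AddChar.map_zero_eq_one, e0, zero_mul] at this
      exact one_ne_zero this
    rw [AddChar.one_apply]
    exact (mul_eq_right₀ hne0).1 e2
  have hle : ∀ ν ν' : AddChar ↥(par f b) ℂ,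
      finrank ℂ ↥(W ⊓ eigO f π b ν) ≤ finrank ℂ ↥(W ⊓ eigO f π b ν') := by
    intro ν ν'
    have hcard : Fintype.card ↥(par f a) = Fintype.card ↥(par f b) := by
      rw [card_par f hf hK, card_par f hf hK, rdim, rdim, hab]
    obtain ⟨t, ht⟩ : ∃ t, shift t = ν⁻¹ * ν' :=
      ((Fintype.bijective_iff_injective_and_card shift).2
        ⟨hshift, hcard.trans AddChar.card_eq.symm⟩).2 _
    refine finrank_le_of_maps (op_injective π (gel_mem f hf hK ha t.2)) fun v hv =>
      ⟨hA _ t.2 v hv.1, fun u => ?_⟩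
    have hm1 := gel_mem f hf hK ha t.2
    have hm2 := gel_mem f hf hK hb u.2
    have hm3 := gel_mem f hf hK hr (hZ t t.2 u u.2)
    have e := LinearMap.congr_fun (congrArg (op π) (hswap' (t : K) (u : K))) v
    rw [op_mul π hm2 hm1, op_mul π (mul_mem hm1 hm2) hm3, op_mul π hm1 hm2] at e
    simp only [End.mul_apply] at e
    have e3 : op π (gel f r (Z (k * t * u))) v = μ (β t u) • v :=
      (mem_eigO f π).1 (hW hv.1) (β t u)
    show op π _ _ = _
    rw [e, e3, map_smul, (mem_eigO f π).1 hv.2 u, map_smul, map_smul, smul_smul]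
    congr 1
    have : shift t u = (ν⁻¹ * ν') u := DFunLike.congr_fun ht u
    simp only [shift, AddChar.compAddMonoidHom_apply, AddChar.mul_apply] at this
    rw [this, AddChar.inv_apply, mul_right_comm, ← AddChar.map_add_eq_mul, neg_add_cancel,
      AddChar.map_zero_eq_one, one_mul]
  rw [← sum_eigO f hf hK π hb hB, Finset.sum_congr rfl fun δ _ => le_antisymm (hle δ ν) (hle ν δ)]
  rw [Finset.sum_const, Finset.card_univ, AddChar.card_eq, card_par f hf hK, smul_eq_mul]

/-- A list of pairs splits a subspace. -/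
theorem pairs_split {r : ℕ} (hr : r < 72) (hfr : graphE6.ρ r = r) {pre : List ℕ}
    (hpre : ∀ x ∈ pre, x < 72) {μ : AddChar ↥(par f r) ℂ} (hμ : μ ≠ 1) :
    ∀ {P : List (ℕ × ℕ)}, pairsOK pre r P = true →
    finrank ℂ ↥(oFix f π pre ⊓ eigO f π r μ) = q ^ pdim P *
      finrank ℂ ↥(oFix f π pre ⊓ eigO f π r μ ⊓ oFix f π (P.map Prod.snd))
  | [], _ => by rw [List.map_nil, oFix, inf_top_eq]; simp [pdim]
  | p :: P, h => by
    simp only [pairsOK, Bool.and_eq_true, List.all_eq_true, Nat.blt_eq] at h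
    obtain ⟨⟨⟨⟨hP, hj⟩, ha⟩, hb⟩, hall⟩ := h
    have hPlt : ∀ x ∈ P.map Prod.snd, x < 72 := fun x hx => by
      obtain ⟨o, ho, rfl⟩ := List.mem_map.1 hx
      clear hj hall ha hb
      induction P with
      | nil => simp at ho
      | cons p' P' ih =>
        simp only [pairsOK, Bool.and_eq_true, Nat.blt_eq] at hP
        rcases List.mem_cons.1 ho with rfl | ho'
        · exact hP.1.2
        · exact ih hP.1.1.1.1 ho' (List.mem_map_of_mem ho')
    set W := oFix f π pre ⊓ eigO f π r μ ⊓ oFix f π (P.map Prod.snd) with hW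
    have hst : ∀ s, s < 72 → (∀ x ∈ r :: pre ++ P.map Prod.snd, omoves s pre x = true) →
        ∀ t ∈ par f s, Stable (op π (gel f s t)) W := fun s hs hm t ht v hv =>
      ⟨⟨moves_fix f hf hK π hs hpre (fun x hx => hm x (by simp [hx])) hv.1.1 hv.1.1 ht,
        moves_eig f hf hK π hs hr (hm r (by simp)) hv.1.1 hv.1.2 ht⟩,
        moves_fix f hf hK π hs hPlt (fun x hx => hm x (by
          simp only [List.cons_append, List.mem_cons, List.mem_append]; exact Or.inr (Or.inr hx)))
          hv.1.1 hv.2 ht⟩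
    rw [pairs_split hr hfr hpre hμ hP, pair_split f hf hK π ha hb hj hfr hμ (W := W)
      (fun v hv => hv.1.2) (hst _ ha fun x hx => (hall x hx).1)
      (fun t => hst _ hb (fun x hx => (hall x hx).2) t t.2) 1]
    rw [pdim, pow_add, List.map_cons, oFix, hW, inf_assoc _ _ (eigO f π p.2 1),
      inf_comm (oFix f π (P.map Prod.snd))]
    ring

theorem line_fixed {W : Submodule ℂ V} (hW : finrank ℂ W = 1) {α : ℕ} (hα : α < 72) {B : List ℕ}
    (hB : ∀ x ∈ B, x < 72) {μ : AddChar ↥(par f α) ℂ}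
    (hWdef : W = eigO f π α μ ⊓ oFix f π B) :
    ∀ (L : List OStep) (S G : List ℕ),
      closeOK (α :: B) L S G = true → W ≤ oFix f π G →
      (∀ s ∈ S, s < 72 ∧ ∀ t ∈ par f s, ∃ a : ℂ, ∀ v ∈ W, op π (gel f s t) v = a • v) →
      W ≤ oFix f π (closeO L G)
  | [], _, _, _, hG, _ => hG
  | .scal s :: L, S, G, h, hG, hS => by
    simp only [closeOK, Bool.and_eq_true, List.all_eq_true, Nat.blt_eq] at h
    obtain ⟨⟨hs, hm⟩, hrec⟩ := h
    refine line_fixed hW hα hB hWdef L (s :: S) G hrec hG fun s' hs' => ?_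
    rcases List.mem_cons.1 hs' with rfl | hs''
    · refine ⟨hs, fun t ht => ?_⟩
      have hst : ∀ v ∈ W, op π (gel f s' t) v ∈ W := fun v hv => by
        have hvG := hG hv
        rw [hWdef] at hv ⊢
        exact ⟨moves_eig f hf hK π hs hα (hm α (by simp)) hvG hv.1 ht,
          moves_fix f hf hK π hs hB (fun x hx => hm x (by simp [hx])) hvG hv.2 ht⟩
      obtain ⟨v, hv0, hspan⟩ := finrank_eq_one_iff'.1 hW
      obtain ⟨a, ha⟩ := hspan ⟨op π (gel f s' t) v, hst v v.2⟩
      refine ⟨a, fun w hw => ?_⟩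
      obtain ⟨b, hb⟩ := hspan ⟨w, hw⟩
      have e : (w : V) = b • (v : V) := (congrArg Subtype.val hb).symm
      have e' : op π (gel f s' t) v = a • (v : V) := (congrArg Subtype.val ha).symm
      rw [e, map_smul, e', smul_comm]
    · exact hS s' hs''
  | .fix s s₁ s₂ :: L, S, G, h, hG, hS => by
    simp only [closeOK, Bool.and_eq_true, Nat.blt_eq] at h
    obtain ⟨⟨⟨⟨⟨h1, h2⟩, hj⟩, hm1⟩, hm2⟩, hrec⟩ := h
    refine line_fixed hW hα hB hWdef L S (s :: G) hrec (fun v hv => ?_) hS
    have hbase : ∀ x ∈ S ++ α :: B, x < 72 ∧ ∀ t ∈ par f x,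
        ∃ a : ℂ, ∀ v ∈ W, op π (gel f x t) v = a • v := by
      intro x hx
      rcases List.mem_append.1 hx with hx | hx
      · exact hS x hx
      rcases List.mem_cons.1 hx with rfl | hx
      · exact ⟨hα, fun t ht => ⟨_, fun v hv => by
          rw [hWdef] at hv; exact (mem_eigO f π).1 hv.1 ⟨t, ht⟩⟩⟩
      · exact ⟨hB x hx, fun t ht => ⟨1, fun v hv => by
          rw [hWdef] at hv; rw [one_smul]; exact (mem_oFix f π).1 hv.2 x hx t ht⟩⟩
    have hsc : ∀ y, hasO (S ++ α :: B) y = true → ∀ t ∈ par f y,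
        ∃ a : ℂ, ∀ v ∈ W, op π (gel f y t) v = a • v := by
      intro y hy t ht
      have hlt := hasO_lt hy
      simp only [hasO, Bool.and_eq_true, Bool.or_eq_true, List.contains_iff_mem] at hy
      rcases hy.2 with hy' | hy'
      · exact (hbase y hy').2 t ht
      by_cases e : graphE6.ρ y = y
      · rw [e] at hy'; exact (hbase y hy').2 t ht
      have e' : graphE6.ρ (graphE6.ρ y) ≠ graphE6.ρ y := by
        rw [(graph_spec hlt).2.1]; exact Ne.symm e
      obtain ⟨a, ha⟩ := (hbase _ hy').2 ((graphE6.ε y : K) * f t)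
        ((mem_par f).2 fun h' => absurd h' e')
      refine ⟨a, fun v hv => ?_⟩
      have := ha v hv
      rw [gel_pair f e', ← tX_eq f hlt] at this
      rw [gel_pair f e, (X_tX_commute f hlt t t).eq]
      rw [show tX f (graphE6.ρ y) ((graphE6.ε y : K) * f t) = X y t by
        rw [tX, ← tX_eq f hlt, tX_tX f hf hK hlt]] at this
      exact this
    refine (mem_oFix f π).2 fun x hx y hy => ?_
    rcases List.mem_cons.1 hx with rfl | hx
    · obtain ⟨hr, hab, hfr, k, hk, hfk, hswap⟩ := joins_mem f hf hK h1 h2 hj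
      obtain ⟨t, u, ht, hu, hy'⟩ : ∃ t u : K, t ∈ par f s₁ ∧ u ∈ par f s₂ ∧
          (if graphE6.ρ s₁ = s₁ then X x (k * t * u)
            else X x (k * t * u) * tX f x (k * t * u)) = gel f x y := by
        by_cases e1 : graphE6.ρ s₁ = s₁
        · have hfx' := fxd_iff.1 (hfr (fxd_iff.2 e1))
          refine ⟨k⁻¹ * y, 1, (mem_par f).2 fun _ => ?_, (mem_par f).2 fun _ => map_one f, ?_⟩
          · rw [map_mul, map_inv₀, hfk, (mem_par f).1 hy hfx']
          · rw [if_pos e1, gel_fixed f hfx', mul_one, mul_inv_cancel_left₀ hk]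
        · have e2 : graphE6.ρ s₂ ≠ s₂ := fun e2 => e1 (fxd_iff.1 (by rw [hab]; exact fxd_iff.2 e2))
          by_cases ex : graphE6.ρ x = x
          · obtain ⟨z, hz⟩ := exists_trace f hf hK ex hy
            refine ⟨k⁻¹ * z, 1, (mem_par f).2 fun h' => absurd h' e1,
              (mem_par f).2 fun h' => absurd h' e2, ?_⟩
            rw [if_neg e1, mul_one, mul_inv_cancel_left₀ hk, gel_fixed f ex, tX_fixed f hr ex,
              ← certFullE6.xg_add, hz]
          · refine ⟨k⁻¹ * y, 1, (mem_par f).2 fun h' => absurd h' e1,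
              (mem_par f).2 fun h' => absurd h' e2, ?_⟩
            rw [if_neg e1, mul_one, mul_inv_cancel_left₀ hk, gel_pair f ex]
      obtain ⟨a, ha⟩ := hsc s₁ hm1 t ht
      obtain ⟨b, hb⟩ := hsc s₂ hm2 u hu
      have ma := gel_mem f hf hK h1 ht
      have mb := gel_mem f hf hK h2 hu
      have mx := gel_mem f hf hK hr hy
      have e := LinearMap.congr_fun (congrArg (op π) (hswap t u)) v
      rw [hy', op_mul π mb ma, op_mul π (mul_mem ma mb) mx, op_mul π ma mb] at e
      simp only [End.mul_apply] at e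
      rw [ha v hv, map_smul, hb v hv, smul_comm, ← ha v hv, ← map_smul, ← hb v hv] at e
      exact (op_injective π mb (op_injective π ma e)).symm
    · exact (mem_oFix f π).1 (hG hv) x hx y hy

/-! ### Transport -/

omit π in
theorem flat_lt {idx : List ℕ} (h : wordOK idx = true) :
    ∀ p ∈ flatW orbitsE6 idx, p < chevE6.rank := by
  intro p hp
  simp only [flatW, List.mem_flatMap] at hp
  obtain ⟨j, hj, hp⟩ := hp
  have hall : (orbitsE6.all fun J => J.all (Nat.blt · 6)) = true := by decide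
  have hj' := List.all_eq_true.1 h j hj
  rw [Nat.blt_eq] at hj'
  rw [List.getD_eq_getElem _ _ (show j < orbitsE6.length from hj')] at hp
  have := List.all_eq_true.1 (List.all_eq_true.1 hall _ (List.getElem_mem (show j < orbitsE6.length from hj'))) p hp
  rw [Nat.blt_eq] at this
  exact this

omit π in
theorem nw_mem {idx : List ℕ} (h : wordOK idx = true) :
    certFullE6.nw K (flatW orbitsE6 idx) ∈ twistedE6 K q := by
  induction idx with
  | nil => simp [flatW, Cert.nw_nil]
  | cons j idx ih =>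
    simp only [wordOK, List.all_cons, Bool.and_eq_true, Nat.blt_eq] at h
    rw [show flatW orbitsE6 (j :: idx) = orbitsE6.getD j [] ++ flatW orbitsE6 idx by simp [flatW],
      certFullE6.nw_append]
    refine mul_mem (n_mem f hf hK _ ?_) (ih h.2)
    rw [List.getD_eq_getElem _ _ (show j < orbitsE6.length from h.1)]
    exact List.getElem_mem _

omit π in
theorem transport_elem {idx : List ℕ} (h : wordOK idx = true) {y x : ℕ} (hy : y < 72)
    (hi : imgOK idx y x = true) :
    x < 72 ∧ ∃ s : K, s * s = 1 ∧ (∀ t ∈ par f y, s * t ∈ par f x) ∧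
      (∀ t ∈ par f x, s * t ∈ par f y) ∧ ∀ t,
        certFullE6.nw K (flatW orbitsE6 idx) * gel f y t =
          gel f x (s * t) * certFullE6.nw K (flatW orbitsE6 idx) := by
  simp only [imgOK, Bool.and_eq_true, Nat.beq_eq, beq_iff_eq, owl] at hi
  obtain ⟨hw, hfxd⟩ := hi
  rw [certFullE6.wlT_eq] at hw
  subst hw
  set L := flatW orbitsE6 idx with hL
  have hlt := flat_lt f hf hK h
  set x := certFullE6.wl L y with hx'
  have hx : x < 72 := certFullE6.wl_lt hlt (show y < chevE6.nroots from hy)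
  set s : K := (certFullE6.wsign L y : K) with hs'
  have hs : s * s = 1 := certFullE6.wsign_sq L y
  have hfs : f s = s := map_intCast f _
  have hfix : graphE6.ρ y = y ↔ graphE6.ρ x = x := by rw [← fxd_iff, hfxd, fxd_iff]
  set n := certFullE6.nw K L with hn'
  have hn : n ∈ twistedE6 K q := nw_mem f hf hK h
  rw [group_eq f hf hK, (tw f).mem_fix] at hn
  have hX : ∀ t : K, n * X y t = X x (s * t) * n := fun t =>
    certFullE6.nw_mul_xg hlt (show y < chevE6.nroots from hy) t
  refine ⟨hx, s, hs, fun t ht => (mem_par f).2 fun e => ?_, fun t ht => (mem_par f).2 fun e => ?_,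
    fun t => ?_⟩
  · rw [map_mul, hfs, (mem_par f).1 ht (hfix.2 e)]
  · rw [map_mul, hfs, (mem_par f).1 ht (hfix.1 e)]
  by_cases e : graphE6.ρ y = y
  · rw [gel_fixed f e, gel_fixed f (hfix.1 e), hX]
  · rw [gel_pair f e, gel_pair f (fun e' => e (hfix.2 e')), ← mul_assoc, hX, mul_assoc, mul_assoc]
    congr 1
    have e' := congrArg (tw f).act (hX t)
    rw [(tw f).act_mul hn.1 (X_mem y t), (tw f).act_mul (X_mem x _) hn.1, hn.2] at e'
    exact e'

/-- An eigenspace goes into an eigenspace of the image. -/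
theorem eig_transport {idx : List ℕ} (h : wordOK idx = true) {y x : ℕ} (hy : y < 72)
    (hi : imgOK idx y x = true) (ν : AddChar ↥(par f x) ℂ) :
    ∃ μ : AddChar ↥(par f y) ℂ, (ν ≠ 1 → μ ≠ 1) ∧
      ∀ v ∈ eigO f π y μ, op π (certFullE6.nw K (flatW orbitsE6 idx)) v ∈ eigO f π x ν := by
  obtain ⟨hx, s, hs, hin, hout, hswap⟩ := transport_elem f hf hK h hy hi
  let φ : ↥(par f y) →+ ↥(par f x) :=
    { toFun := fun t => ⟨s * t, hin t t.2⟩
      map_zero' := Subtype.ext (by simp)
      map_add' := fun t u => Subtype.ext (by simp [mul_add]) }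
  have hφ : ∀ u : ↥(par f x), φ ⟨s * u, hout u u.2⟩ = u := fun u => Subtype.ext (by
    show s * (s * (u : K)) = _
    rw [← mul_assoc, hs, one_mul])
  refine ⟨ν.compAddMonoidHom φ, fun hν e => hν (DFunLike.ext _ _ fun u => ?_), fun v hv u => ?_⟩
  · have := DFunLike.congr_fun e ⟨s * u, hout u u.2⟩
    simpa [hφ] using this
  · set u' : ↥(par f y) := ⟨s * u, hout u u.2⟩
    have e := LinearMap.congr_fun (congrArg (op π) (hswap u')) v
    rw [show s * (u' : K) = u from congrArg Subtype.val (hφ u),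
      op_mul π (nw_mem f hf hK h) (gel_mem f hf hK hy u'.2),
      op_mul π (gel_mem f hf hK hx u.2) (nw_mem f hf hK h)] at e
    simp only [End.mul_apply] at e
    show op π _ _ = _
    rw [← e, (mem_eigO f π).1 hv u', map_smul]
    congr 1
    show ν (φ u') = ν u
    rw [hφ]

/-- An eigenspace of the source goes into an eigenspace. -/
theorem eig_push {idx : List ℕ} (h : wordOK idx = true) {y x : ℕ} (hy : y < 72)
    (hi : imgOK idx y x = true) (μ : AddChar ↥(par f y) ℂ) :
    ∃ ν : AddChar ↥(par f x) ℂ, (μ ≠ 1 → ν ≠ 1) ∧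
      ∀ v ∈ eigO f π y μ, op π (certFullE6.nw K (flatW orbitsE6 idx)) v ∈ eigO f π x ν := by
  obtain ⟨hx, s, hs, hin, hout, hswap⟩ := transport_elem f hf hK h hy hi
  let φ : ↥(par f x) →+ ↥(par f y) :=
    { toFun := fun t => ⟨s * t, hout t t.2⟩
      map_zero' := Subtype.ext (by simp)
      map_add' := fun t u => Subtype.ext (by simp [mul_add]) }
  refine ⟨μ.compAddMonoidHom φ, fun hμ e => hμ (DFunLike.ext _ _ fun t => ?_), fun v hv u => ?_⟩
  · have := DFunLike.congr_fun e ⟨s * t, hin t t.2⟩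
    have e' : φ ⟨s * t, hin t t.2⟩ = t := Subtype.ext (by
      show s * (s * (t : K)) = _
      rw [← mul_assoc, hs, one_mul])
    simpa [e'] using this
  · have e := LinearMap.congr_fun (congrArg (op π) (hswap (s * u))) v
    rw [← mul_assoc, hs, one_mul, op_mul π (nw_mem f hf hK h) (gel_mem f hf hK hy (hout u u.2)),
      op_mul π (gel_mem f hf hK hx u.2) (nw_mem f hf hK h)] at e
    simp only [End.mul_apply] at e
    show op π _ _ = _
    rw [← e, show op π (gel f y (s * u)) v = μ (φ u) • v from (mem_eigO f π).1 hv (φ u), map_smul]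
    rfl

/-- The image of a fixed vector is fixed. -/
theorem fix_transport {idx : List ℕ} (h : wordOK idx = true) {y x : ℕ} (hy : y < 72)
    (hi : imgOK idx y x = true) {v : V}
    (hv : ∀ t ∈ par f y, op π (gel f y t) v = v) {u : K} (hu : u ∈ par f x) :
    op π (gel f x u) (op π (certFullE6.nw K (flatW orbitsE6 idx)) v) =
      op π (certFullE6.nw K (flatW orbitsE6 idx)) v := by
  obtain ⟨hx, s, hs, hin, hout, hswap⟩ := transport_elem f hf hK h hy hi
  have e := LinearMap.congr_fun (congrArg (op π) (hswap (s * u))) v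
  rw [← mul_assoc, hs, one_mul, op_mul π (nw_mem f hf hK h) (gel_mem f hf hK hy (hout u hu)),
    op_mul π (gel_mem f hf hK hx hu) (nw_mem f hf hK h)] at e
  simp only [End.mul_apply] at e
  rw [← e, hv _ (hout u hu)]

omit π in
theorem tchar_root (v : Kˣ) :
    certFullE6.tchar (zOf f (1, 1, 1, v)) 46 = v⁻¹ := by
  obtain ⟨-, h, -⟩ := tchar_simple (zOf f (1, 1, 1, v))
  obtain ⟨-, z1, -, z3, -⟩ := zOf_apply f (1, 1, 1, v)
  rw [h, z1, z3, one_mul, one_mul]

/-- At the root `46` all non-trivial characters give the same dimension. -/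
theorem scale46 {μ ν : AddChar ↥(par f 46) ℂ} (hμ : μ ≠ 1) (hν : ν ≠ 1) :
    finrank ℂ (eigO f π 46 μ) ≤ finrank ℂ (eigO f π 46 ν) := by
  classical
  have h46 : (46 : ℕ) < 72 := by norm_num
  have hfx : graphE6.ρ 46 = 46 := graphE6_values.1.2.2.2.2.1
  have hmem : ∀ c : ↥(fixU f), ∀ t : ↥(par f 46), ((c : Kˣ) : K) * t ∈ par f 46 := fun c t =>
    (mem_par f).2 fun e => by rw [map_mul, (mem_fixU f).1 c.2, (mem_par f).1 t.2 e]
  let m : ↥(fixU f) → (↥(par f 46) →+ ↥(par f 46)) := fun c =>
    { toFun := fun t => ⟨((c : Kˣ) : K) * t, hmem c t⟩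
      map_zero' := Subtype.ext (by simp)
      map_add' := fun t u => Subtype.ext (by simp [mul_add]) }
  have hne : ∀ c, μ.compAddMonoidHom (m c) ≠ 1 := fun c e => hμ (DFunLike.ext _ _ fun t => by
    have h := DFunLike.congr_fun e ⟨(((c⁻¹ : ↥(fixU f)) : Kˣ) : K) * t, hmem c⁻¹ t⟩
    have e' : m c ⟨(((c⁻¹ : ↥(fixU f)) : Kˣ) : K) * t, hmem c⁻¹ t⟩ = t := Subtype.ext (by
      show ((c : Kˣ) : K) * _ = _
      rw [← mul_assoc, InvMemClass.coe_inv, Units.val_inv_eq_inv_val,
        mul_inv_cancel₀ (Units.ne_zero _), one_mul])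
    rw [AddChar.compAddMonoidHom_apply, e', AddChar.one_apply] at h
    rw [h, AddChar.one_apply])
  haveI : Fintype ↥(fixU f) := Fintype.ofFinite _
  let F : ↥(fixU f) → {χ : AddChar ↥(par f 46) ℂ // χ ≠ 1} := fun c =>
    ⟨μ.compAddMonoidHom (m c), hne c⟩
  have hinj : Function.Injective F := by
    intro c c' e
    by_contra hcc
    refine hμ (DFunLike.ext _ _ fun t => ?_)
    set d : K := ((c : Kˣ) : K) - ((c' : Kˣ) : K) with hd
    have hd0 : d ≠ 0 := fun e0 => hcc (Subtype.ext (Units.ext (sub_eq_zero.1 e0)))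
    have hu : (t : K) * d⁻¹ ∈ par f 46 := (mem_par f).2 fun e' => by
      rw [map_mul, map_inv₀, hd, map_sub, (mem_fixU f).1 c.2, (mem_fixU f).1 c'.2,
        (mem_par f).1 t.2 e']
    set u : ↥(par f 46) := ⟨(t : K) * d⁻¹, hu⟩
    have hsum : m c u = t + m c' u := Subtype.ext (by
      show ((c : Kˣ) : K) * ((t : K) * d⁻¹) = (t : K) + ((c' : Kˣ) : K) * ((t : K) * d⁻¹)
      field_simp
      ring)
    have e2 := DFunLike.congr_fun (congrArg Subtype.val e) u
    simp only [F, AddChar.compAddMonoidHom_apply, hsum, AddChar.map_add_eq_mul] at e2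
    have hne0 : μ (m c' u) ≠ 0 := fun e0 => by
      have := AddChar.map_add_eq_mul μ (m c' u) (-m c' u)
      rw [add_neg_cancel, AddChar.map_zero_eq_one, e0, zero_mul] at this
      exact one_ne_zero this
    rw [AddChar.one_apply]
    exact (mul_eq_right₀ hne0).1 e2
  have hcard : Fintype.card ↥(fixU f) = Fintype.card {χ : AddChar ↥(par f 46) ℂ // χ ≠ 1} := by
    have h1 : Fintype.card {χ : AddChar ↥(par f 46) ℂ // χ ≠ 1} =
        Fintype.card ↥(par f 46) - 1 := by
      rw [Fintype.card_subtype_compl, AddChar.card_eq, Fintype.card_subtype_eq]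
    rw [h1]
    let e : ↥(par f 46) ≃ Option ↥(fixU f) :=
      { toFun := fun a => if h : (a : K) = 0 then none
          else some ⟨Units.mk0 (a : K) h, (mem_fixU f).2 ((mem_par f).1 a.2 hfx)⟩
        invFun := fun o => o.elim 0 fun u => ⟨((u : Kˣ) : K), (mem_par f).2 fun _ => (mem_fixU f).1 u.2⟩
        left_inv := fun a => by
          by_cases h : (a : K) = 0
          · simp [h, Subtype.ext_iff]
          · simp [h]
        right_inv := fun o => by
          cases o with
          | none => simp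
          | some u => simp [(u : Kˣ).ne_zero] }
    rw [Fintype.card_congr e, Fintype.card_option, Nat.add_sub_cancel]
  obtain ⟨c, hc⟩ := ((Fintype.bijective_iff_injective_and_card F).2 ⟨hinj, hcard⟩).2 ⟨ν, hν⟩
  have hc' : μ.compAddMonoidHom (m c) = ν := congrArg Subtype.val hc
  set T := param f ((1 : Kˣ), (1 : Kˣ), (1 : ↥(fixU f)), c) with hT
  have hTm : T ∈ twistedE6 K q := param_mem f hf _
  refine finrank_le_of_maps (op_injective π hTm) fun v hv t => ?_
  set t' : ↥(par f 46) := ⟨((c : Kˣ) : K) * t, hmem c t⟩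
  have e : T * gel f 46 (t' : K) = gel f 46 (t : K) * T := by
    rw [gel_fixed f hfx, gel_fixed f hfx, ← mul_inv_eq_iff_eq_mul, hT, param_apply,
      certFullE6.torus_conj_xg _ (show 46 < chevE6.nroots from h46)]
    congr 1
    rw [OneMemClass.coe_one, tchar_root f hf hK, Units.val_inv_eq_inv_val]
    exact inv_mul_cancel_left₀ (Units.ne_zero _) _
  have e' := LinearMap.congr_fun (congrArg (op π) e) v
  rw [op_mul π hTm (gel_mem f hf hK h46 t'.2), op_mul π (gel_mem f hf hK h46 t.2) hTm] at e'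
  simp only [End.mul_apply] at e'
  show op π _ _ = _
  rw [← e', (mem_eigO f π).1 hv t', map_smul, ← hc']
  rfl

/-- The multiplicity at a long simple root. -/
noncomputable def lineDim (d : OSimple) (μ : AddChar ↥(par f d.root) ℂ) : ℕ :=
  finrank ℂ ↥(eigO f π d.root μ ⊓ oFix f π (d.pairs.map Prod.snd))

theorem simple_split {n₀ : ℕ} {d : OSimple} (hd : simpleOK 46 n₀ d = true)
    {μ : AddChar ↥(par f d.root) ℂ} (hμ : μ ≠ 1) :
    finrank ℂ (eigO f π d.root μ) = q ^ n₀ * lineDim f π d μ := by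
  simp only [simpleOK, Bool.and_eq_true, Nat.beq_eq, Nat.blt_eq, fxd_iff] at hd
  obtain ⟨⟨⟨⟨⟨⟨⟨⟨hr, hfr⟩, -⟩, -⟩, -⟩, hP⟩, hn⟩, -⟩, -⟩ := hd
  have h := pairs_split f hf hK π hr hfr (pre := []) (by simp) hμ hP
  rw [oFix, top_inf_eq, hn] at h
  exact h

theorem simple_dim {n₀ : ℕ} {d : OSimple} (hd : simpleOK 46 n₀ d = true)
    {μ : AddChar ↥(par f d.root) ℂ} (hμ : μ ≠ 1) {μ₀ : AddChar ↥(par f 46) ℂ} (hμ₀ : μ₀ ≠ 1) :
    finrank ℂ (eigO f π d.root μ) = finrank ℂ (eigO f π 46 μ₀) := by
  simp only [simpleOK, Bool.and_eq_true, Nat.beq_eq, Nat.blt_eq] at hd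
  obtain ⟨⟨⟨⟨⟨⟨⟨⟨hr, hfr⟩, hw⟩, hf1⟩, hb1⟩, -⟩, -⟩, -⟩, -⟩ := hd
  have h46 : fxd 46 = true := fxd_iff.2 graphE6_values.1.2.2.2.2.1
  have hw' : wordOK d.word.reverse = true := by
    simpa [wordOK, List.all_reverse] using hw
  have i1 : imgOK d.word 46 d.root = true := by
    simp [imgOK, hf1, h46, hfr]
  have i2 : imgOK d.word.reverse d.root 46 = true := by
    simp [imgOK, hb1, h46, hfr]
  apply le_antisymm
  · obtain ⟨ν, h1, h2⟩ := eig_push f hf hK π hw' hr i2 μ
    exact (finrank_le_of_maps (op_injective π (nw_mem f hf hK hw')) h2).trans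
      (scale46 f hf hK π (h1 hμ) hμ₀)
  · obtain ⟨ν, h1, h2⟩ := eig_transport f hf hK π hw (show 46 < 72 by norm_num) i1 μ
    exact (scale46 f hf hK π hμ₀ (h1 hμ)).trans
      (finrank_le_of_maps (op_injective π (nw_mem f hf hK hw)) h2)

theorem order_bound {n₀ : ℕ} {Ss : List OSimple} (hSs : Ss.all (simpleOK 46 n₀) = true)
    (hm : ∀ d, simpleOK 46 n₀ d = true → ∀ μ : AddChar ↥(par f d.root) ℂ, μ ≠ 1 →
      lineDim f π d μ = 1) :
    ∀ (pre : List ℕ) (E : List OEntry), orderOK Ss pre E = true → (∀ x ∈ pre, x < 72) →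
      (q - 1) * ((longDims E).map fun n => q ^ n).sum ≤ finrank ℂ (oFix f π pre)
  | _, [], _, _ => by simp [longDims]
  | pre, .short r :: E, h, hpre => by
    simp only [orderOK, Bool.and_eq_true, Nat.blt_eq] at h
    have hrest := order_bound hSs hm (r :: pre) E h.2 (by
      intro x hx
      rcases List.mem_cons.1 hx with rfl | hx
      exacts [h.1, hpre x hx])
    rw [longDims]
    exact hrest.trans (Submodule.finrank_mono inf_le_right)
  | pre, .long r b idx P :: E, h, hpre => by
    classical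
    simp only [orderOK, Bool.and_eq_true, List.all_eq_true, Nat.blt_eq, fxd_iff] at h
    obtain ⟨⟨⟨⟨⟨⟨hr, hfr⟩, hmv⟩, hP⟩, hw⟩, hmatch⟩, hrec⟩ := h
    obtain ⟨d, hd', hwr, himg⟩ : ∃ d, d ∈ Ss ∧ imgOK idx d.root r = true ∧
        ∀ x ∈ pre ++ P.map Prod.snd, imgOK idx (owl idx.reverse x) x = true ∧
          hasO (closeO d.steps (d.pairs.map Prod.snd)) (owl idx.reverse x) = true := by
      cases hg : Ss[b]? with
      | none => rw [hg] at hmatch; exact absurd hmatch (by simp)
      | some d =>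
        rw [hg] at hmatch
        simp only [Bool.and_eq_true, List.all_eq_true] at hmatch
        exact ⟨d, List.mem_of_getElem? hg, hmatch.1, hmatch.2⟩
    have hd := List.all_eq_true.1 hSs d hd'
    have key : ∀ ν : AddChar ↥(par f r) ℂ, ν ≠ 1 →
        q ^ pdim P ≤ finrank ℂ ↥(oFix f π pre ⊓ eigO f π r ν) := by
      intro ν hν
      rw [pairs_split f hf hK π hr hfr hpre hν hP]
      refine Nat.le_mul_of_pos_right _ ?_
      have hd2 := hd
      simp only [simpleOK, Bool.and_eq_true, List.all_eq_true, Nat.blt_eq] at hd2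
      obtain ⟨⟨⟨⟨⟨⟨⟨⟨hdr, -⟩, -⟩, -⟩, -⟩, -⟩, -⟩, hdlt⟩, hclose⟩ := hd2
      obtain ⟨μ, hμ, hmaps⟩ := eig_transport f hf hK π hw hdr hwr ν
      have h1 : finrank ℂ ↥(eigO f π d.root μ ⊓ oFix f π (d.pairs.map Prod.snd)) = 1 :=
        hm d hd μ (hμ hν)
      have hfix := line_fixed f hf hK π h1 hdr hdlt rfl _ [] _ hclose inf_le_right (by simp)
      obtain ⟨v, hv, hv0⟩ := Submodule.exists_mem_ne_zero_of_ne_bot
        (fun e0 => by rw [e0, finrank_bot] at h1; exact zero_ne_one h1 :
          eigO f π d.root μ ⊓ oFix f π (d.pairs.map Prod.snd) ≠ ⊥)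
      set n := certFullE6.nw K (flatW orbitsE6 idx)
      have hall : ∀ x ∈ pre ++ P.map Prod.snd, ∀ t ∈ par f x,
          op π (gel f x t) (op π n v) = op π n v := by
        intro x hx t ht
        obtain ⟨hyx, hmem⟩ := himg x hx
        exact fix_transport f hf hK π hw (hasO_lt hmem) hyx
          (fun u hu => fix_of_hasO f hf hK π hmem hu (hfix hv)) ht
      refine Submodule.one_le_finrank_iff.2 fun e0 => ?_
      have : op π n v ∈ (⊥ : Submodule ℂ V) := e0 ▸
        ⟨⟨(mem_oFix f π).2 fun x hx => hall x (List.mem_append_left _ hx), hmaps v hv.1⟩,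
          (mem_oFix f π).2 fun x hx => hall x (List.mem_append_right _ hx)⟩
      exact hv0 (op_injective π (nw_mem f hf hK hw) (by
        rw [(Submodule.mem_bot ℂ).1 this, map_zero]))
    have hst : ∀ t : ↥(par f r), Stable (gop f π r t) (oFix f π pre) := fun t v hv =>
      moves_fix f hf hK π hr hpre hmv hv hv t.2
    rw [← sum_eigO f hf hK π hr hst,
      ← Finset.add_sum_erase _ _ (Finset.mem_univ (1 : AddChar ↥(par f r) ℂ))]
    have hrest := order_bound hSs hm (r :: pre) E hrec (by
      intro x hx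
      rcases List.mem_cons.1 hx with rfl | hx
      exacts [hr, hpre x hx])
    rw [oFix, inf_comm] at hrest
    rw [longDims, List.map_cons, List.sum_cons, mul_add, add_comm]
    refine add_le_add hrest (le_trans ?_ (Finset.sum_le_sum fun ν hν =>
      key ν (Finset.ne_of_mem_erase hν)))
    rw [Finset.sum_const, Finset.card_erase_of_mem (Finset.mem_univ _), Finset.card_univ,
      AddChar.card_eq, card_par f hf hK, rdim, fxd_iff.2 hfr, cond_true, pow_one, smul_eq_mul]

/-- The degree bound. -/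
theorem degree_bound {n₀ : ℕ} {Ss : List OSimple} (hSs : Ss.all (simpleOK 46 n₀) = true)
    {b₀ : OSimple} (hmem : b₀ ∈ Ss) (hb₀' : b₀.root = 46) {E : List OEntry}
    (hE : orderOK Ss [] E = true) (hne : ∃ t ∈ par f 46, op π (gel f 46 t) ≠ 1) :
    2 * ((q - 1) * q ^ n₀) ≤ finrank ℂ V ∨
      (q - 1) * ((longDims E).map fun n => q ^ n).sum ≤ finrank ℂ V := by
  classical
  have h46 : (46 : ℕ) < 72 := by norm_num
  have hfx : graphE6.ρ 46 = 46 := graphE6_values.1.2.2.2.2.1
  have hb₀ := List.all_eq_true.1 hSs b₀ hmem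
  have hq := one_lt_q f hf hK
  obtain ⟨μ₀, hμ₀⟩ : ∃ μ : AddChar ↥(par f 46) ℂ, μ ≠ 1 := by
    by_contra hall
    push Not at hall
    haveI : Subsingleton (AddChar ↥(par f 46) ℂ) := ⟨fun a b => (hall a).trans (hall b).symm⟩
    have h := Fintype.card_le_one_iff_subsingleton.2 this
    rw [AddChar.card_eq, card_par f hf hK, rdim, fxd_iff.2 hfx, cond_true, pow_one] at h
    omega
  obtain ⟨μb, hμb⟩ : ∃ μ : AddChar ↥(par f b₀.root) ℂ, μ ≠ 1 := by
    rw [hb₀']; exact ⟨μ₀, hμ₀⟩
  set m := lineDim f π b₀ μb with hmdef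
  have hd : ∀ {d}, simpleOK 46 n₀ d = true → ∀ {μ : AddChar ↥(par f d.root) ℂ}, μ ≠ 1 →
      finrank ℂ (eigO f π d.root μ) = q ^ n₀ * m := fun h μ hμ => by
    rw [simple_dim f hf hK π h hμ hμ₀, ← simple_dim f hf hK π hb₀ hμb hμ₀,
      simple_split f hf hK π hb₀ hμb]
  have hd46 : ∀ {μ : AddChar ↥(par f 46) ℂ}, μ ≠ 1 →
      finrank ℂ (eigO f π 46 μ) = q ^ n₀ * m := fun {μ} hμ => by
    rw [← simple_dim f hf hK π hb₀ hμb hμ, hd hb₀ hμb]
  have htop : ∑ μ : AddChar ↥(par f 46) ℂ, finrank ℂ ↥((⊤ : Submodule ℂ V) ⊓ eigO f π 46 μ) =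
      finrank ℂ V := by
    rw [sum_eigO f hf hK π h46 fun t => stable_top _, finrank_top]
  rw [← Finset.add_sum_erase _ _ (Finset.mem_univ (1 : AddChar ↥(par f 46) ℂ)),
    Finset.sum_congr rfl fun μ hμ => by rw [top_inf_eq, hd46 (Finset.ne_of_mem_erase hμ)],
    top_inf_eq, Finset.sum_const, Finset.card_erase_of_mem (Finset.mem_univ _), Finset.card_univ,
    AddChar.card_eq, card_par f hf hK, rdim, fxd_iff.2 hfx, cond_true, pow_one, smul_eq_mul] at htop
  rcases Nat.lt_or_ge m 2 with hm | hm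
  · have hmpos : m ≠ 0 := by
      intro h0
      obtain ⟨t, ht, hne⟩ := hne
      refine hne (LinearMap.ext fun v => ?_)
      rw [h0, mul_zero, mul_zero, add_zero, ← finrank_top ℂ V] at htop
      have hv : v ∈ eigO f π 46 1 := by
        rw [Submodule.eq_of_le_of_finrank_eq le_top htop]; trivial
      simpa using (mem_eigO f π).1 hv ⟨t, ht⟩
    have hm1 : m = 1 := by omega
    right
    have := order_bound f hf hK π hSs (fun d h μ hμ => ?_) [] E hE (by simp)
    · rwa [oFix, finrank_top] at this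
    · have e := hd h hμ
      rw [simple_split f hf hK π h hμ, hm1] at e
      exact Nat.eq_of_mul_eq_mul_left (pow_pos (by omega) _) e
  · left
    calc 2 * ((q - 1) * q ^ n₀) = (q - 1) * (q ^ n₀ * 2) := by ring
      _ ≤ (q - 1) * (q ^ n₀ * m) := Nat.mul_le_mul_left _ (Nat.mul_le_mul_left _ hm)
      _ ≤ finrank ℂ V := by omega

end Cfsg.Agent.Lie.Chev.E6.Deg
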