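import Cfsg.Agent.Lib.Lie.Chev.TwistRootDegree

/-! The certificate for the least degree of ²E6(q), found by a search on the tables. -/

set_option autoImplicit false

namespace Cfsg.Agent.Lie.Chev.E6.Deg

/-- The data at the simple root 46. -/
def twistS46 : OSimple :=
  { root := 46, word := [], pairs := [(32, 47), (31, 48), (30, 49), (27, 51), (26, 52), (11, 63), (1, 71)],
    steps := [.scal 14, .scal 15, .scal 29, .scal 36, .scal 37, .scal 38, .scal 53, .scal 54, .scal 55, .scal 65, .scal 66, .scal 69, .scal 70, .fix 14 15 29, .fix 15 14 42, .fix 29 14 56, .fix 36 34 38, .fix 37 35 38, .fix 38 36 37, .fix 53 14 67, .fix 54 14 68, .fix 55 15 66, .fix 65 29 68, .fix 66 38 64, .fix 69 37 68, .scal 39, .scal 44, .scal 60, .fix 70 39 69, .scal 40, .scal 41, .scal 45, .fix 39 14 58, .fix 40 14 59, .fix 41 29 45, .fix 44 15 59, .fix 45 38 43, .fix 60 36 59] }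

/-- The data at the simple root 39. -/
def twistS39 : OSimple :=
  { root := 39, word := [0, 1], pairs := [(34, 40), (33, 41), (25, 47), (20, 53), (19, 54), (8, 65), (2, 70)],
    steps := [.scal 15, .scal 36, .scal 44, .scal 45, .scal 48, .scal 49, .scal 55, .scal 60, .scal 66, .scal 71, .fix 44 15 59, .fix 48 35 49, .fix 49 36 48, .fix 55 15 66, .fix 60 36 59, .fix 66 49 59, .fix 71 48 68, .scal 46, .scal 51, .scal 52, .scal 63, .scal 69, .fix 51 15 62, .fix 63 36 62, .fix 69 44 63] }

/-- The long simple roots. -/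
def twistSimples : List OSimple := [twistS46, twistS39]

/-- The order of the roots. -/
def twistOrder : List OEntry :=
  [.long 71 0 [0, 1, 2, 3, 1, 2, 1] [(46, 70), (47, 69), (50, 66), (61, 55), (51, 65), (62, 54), (63, 53)],
    .long 70 0 [1, 2, 3, 1, 2, 1] [(39, 69), (43, 66), (58, 55), (44, 65), (59, 54), (60, 53)],
    .long 69 0 [2, 3, 1, 2, 1] [(42, 66), (57, 55), (44, 63), (59, 52), (60, 51)],
    .long 65 0 [3, 1, 2, 1] [(56, 54), (39, 63), (58, 49), (60, 47)],
    .long 63 0 [3, 2, 1] [(56, 52), (57, 49), (60, 46)],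
    .short 66,
    .long 53 0 [1, 2, 1] [(39, 51), (43, 48), (44, 47)],
    .short 55,
    .short 54,
    .long 60 1 [3, 2] [(56, 45), (57, 41)],
    .long 51 0 [2, 1] [(42, 48), (44, 46)],
    .long 44 1 [2] [(42, 40)],
    .long 47 0 [1] [(39, 46)],
    .long 39 1 [] [],
    .long 46 0 [] []]

end Cfsg.Agent.Lie.Chev.E6.Deg
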