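import Cfsg.Agent.Lib.Lie.Chev.RootDegreeDivide

/-! The numbers just below the smallest degree of type ²E6 do not divide the order. -/

set_option autoImplicit false
set_option linter.unusedVariables false
set_option maxHeartbeats 1000000
set_option maxRecDepth 20000

namespace Cfsg.Agent.Lie.Chev.DegDiv

theorem factor2E6 (x : ℤ) : (x ^ 2 - 1) * (x ^ 5 + 1) * (x ^ 6 - 1) * (x ^ 8 - 1) * (x ^ 9 + 1) * (x ^ 12 - 1) =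
    (x - 1) ^ 4 * (x + 1) ^ 6 * (x ^ 2 + x + 1) ^ 2 * (x ^ 2 + 1) ^ 2 * (x ^ 2 - x + 1) ^ 3 * (x ^ 4 + 1) ^ 1 * (x ^ 4 - x ^ 3 + x ^ 2 - x + 1) ^ 1 * (x ^ 4 - x ^ 2 + 1) ^ 1 * (x ^ 6 - x ^ 3 + 1) ^ 1 := by
  rw [show x ^ 2 - 1 = (x - 1) * (x + 1) by ring]
  rw [show x ^ 5 + 1 = (x + 1) * (x ^ 4 - x ^ 3 + x ^ 2 - x + 1) by ring]
  rw [show x ^ 6 - 1 = (x - 1) * (x + 1) * (x ^ 2 + x + 1) * (x ^ 2 - x + 1) by ring]
  rw [show x ^ 8 - 1 = (x - 1) * (x + 1) * (x ^ 2 + 1) * (x ^ 4 + 1) by ring]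
  rw [show x ^ 9 + 1 = (x + 1) * (x ^ 2 - x + 1) * (x ^ 6 - x ^ 3 + 1) by ring]
  rw [show x ^ 12 - 1 = (x - 1) * (x + 1) * (x ^ 2 + x + 1) * (x ^ 2 + 1) * (x ^ 2 - x + 1) * (x ^ 4 - x ^ 2 + 1) by ring]
  generalize (x - 1) = p1
  generalize (x + 1) = p2
  generalize (x ^ 2 + x + 1) = p3
  generalize (x ^ 2 + 1) = p4
  generalize (x ^ 2 - x + 1) = p6
  generalize (x ^ 4 + 1) = p8
  generalize (x ^ 4 - x ^ 3 + x ^ 2 - x + 1) = p10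
  generalize (x ^ 4 - x ^ 2 + 1) = p12
  generalize (x ^ 6 - x ^ 3 + 1) = p18
  ring

theorem bound2E6_1 (x : ℤ) (hx : 2 ≤ x)
    (h : (x ^ 11 - x ^ 8 + x ^ 7 + x ^ 5 - x ^ 4 + x - 1) ∣ 1 * ((x ^ 2 - 1) * (x ^ 5 + 1) * (x ^ 6 - 1) * (x ^ 8 - 1) * (x ^ 9 + 1) * (x ^ 12 - 1))) :
    (x ^ 11 - x ^ 8 + x ^ 7 + x ^ 5 - x ^ 4 + x - 1) ≤ (x ^ 4 - x ^ 2 + 1) * 33882912 := by
  have h1 : (x ^ 11 - x ^ 8 + x ^ 7 + x ^ 5 - x ^ 4 + x - 1) ∣ ((x - 1) ^ 4 * ((x + 1) ^ 6 * ((x ^ 2 + x + 1) ^ 2 * ((x ^ 2 + 1) ^ 2 * ((x ^ 2 - x + 1) ^ 3 * ((x ^ 4 + 1) ^ 1 * ((x ^ 4 - x ^ 3 + x ^ 2 - x + 1) ^ 1 * ((x ^ 6 - x ^ 3 + 1) ^ 1 * ((x ^ 4 - x ^ 2 + 1) ^ 1 * 1))))))))) * 1 := by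
    rw [factor2E6] at h
    generalize (x - 1) = p1 at h ⊢
    generalize (x + 1) = p2 at h ⊢
    generalize (x ^ 2 + x + 1) = p3 at h ⊢
    generalize (x ^ 2 + 1) = p4 at h ⊢
    generalize (x ^ 2 - x + 1) = p6 at h ⊢
    generalize (x ^ 4 + 1) = p8 at h ⊢
    generalize (x ^ 4 - x ^ 3 + x ^ 2 - x + 1) = p10 at h ⊢
    generalize (x ^ 4 - x ^ 2 + 1) = p12 at h ⊢
    generalize (x ^ 6 - x ^ 3 + 1) = p18 at h ⊢
    convert h using 1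
    ring
  have h1 := strip (a := 1) (b := -x ^ 10 - x ^ 9 - x ^ 8 - x ^ 6 - x ^ 5 - 2 * x ^ 4 - x ^ 3 - x ^ 2 - x - 2) (L := 1) (by ring) h1
  have h1 := strip (a := -1) (b := x ^ 10 - x ^ 9 + x ^ 8 - 2 * x ^ 7 + 3 * x ^ 6 - 3 * x ^ 5 + 4 * x ^ 4 - 5 * x ^ 3 + 5 * x ^ 2 - 5 * x + 6) (L := 7) (by ring) h1
  have h1 := strip (a := -1) (b := x ^ 9 - x ^ 8 + x ^ 5 - x ^ 4 + x ^ 3 - x ^ 2 + 1) (L := 2) (by ring) h1
  have h1 := strip (a := -1) (b := x ^ 9 - x ^ 7 - x ^ 6 + 2 * x ^ 5 + x ^ 4 - x ^ 3 - 2 * x ^ 2 + x + 2) (L := 3) (by ring) h1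
  have h1 := strip (a := 1) (b := -x ^ 9 - x ^ 8 + 2 * x ^ 6 + x ^ 5 - x ^ 4 - 3 * x ^ 3 - x ^ 2 + 2 * x + 3) (L := 2) (by ring) h1
  have h1 := strip (a := -1) (b := x ^ 7 - x ^ 4 + x) (L := 1) (by ring) h1
  have h1 := strip (a := -x ^ 3 - x) (b := x ^ 10 + x ^ 9 + x ^ 8 - x ^ 5 + 1) (L := 1) (by ring) h1
  have h1 := strip (a := -1) (b := x ^ 5 + x) (L := 1) (by ring) h1
  have hf : (x ^ 11 - x ^ 8 + x ^ 7 + x ^ 5 - x ^ 4 + x - 1) = (x ^ 4 - x ^ 2 + 1) * (x ^ 7 + x ^ 5 - x ^ 4 + x ^ 3 - x ^ 2 + x - 1) := by ring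
  have hpos : 0 < (x ^ 11 - x ^ 8 + x ^ 7 + x ^ 5 - x ^ 4 + x - 1) := by
    have g8 : x ^ 8 * 2 ≤ x ^ 11 := by
      rw [show x ^ 11 = x ^ 8 * x ^ 3 by ring]
      exact mul_le_mul_of_nonneg_left (le_trans hx (le_self_pow₀ (by omega) (by norm_num))) (by positivity)
    have g4 : x ^ 4 ≤ x ^ 5 := pow_le_pow_right₀ (by omega) (by norm_num)
    have g7 : x ≤ x ^ 7 := le_self_pow₀ (by omega) (by norm_num)
    have g0 : (2 : ℤ) ≤ x ^ 8 := le_trans hx (le_self_pow₀ (by omega) (by norm_num))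
    omega
  rw [hf] at h1 hpos ⊢
  have h2 := strip_keep (a := x ^ 3 + 8 * x ^ 2 - 11 * x - 14) (b := -x ^ 6 - 8 * x ^ 5 + 9 * x ^ 4 - x ^ 3 + 28 * x ^ 2 + 3 * x + 23) (L := 37) (n := 0) (by ring)
    (ne_of_gt hpos) h1
  refine mul_le_mul_of_nonneg_left (le_trans (Int.le_of_dvd (by positivity) h2) ?_) ?_
  · norm_num
  · nlinarith [sq_nonneg (x ^ 2 - 1), sq_nonneg x]

theorem small2E6_1 : ((List.range 14).all fun q => Nat.ble q 1 ||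
    (q ^ 36 * ((q ^ 2 - 1) * (q ^ 5 + 1) * (q ^ 6 - 1) * (q ^ 8 - 1) * (q ^ 9 + 1) * (q ^ 12 - 1))) % (q ^ 11 - q ^ 8 + q ^ 7 + q ^ 5 - q ^ 4 + q - 1) != 0) = true := by decide +kernel

theorem not_dvd2E6_1 (q : ℕ) (hq : IsPrimePow q) :
    ¬ (q ^ 11 - q ^ 8 + q ^ 7 + q ^ 5 - q ^ 4 + q - 1) ∣ q ^ 36 * ((q ^ 2 - 1) * (q ^ 5 + 1) * (q ^ 6 - 1) * (q ^ 8 - 1) * (q ^ 9 + 1) * (q ^ 12 - 1)) := by
  intro h
  have h2 := hq.two_le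
  rcases Nat.lt_or_ge q 14 with hs | hl
  · have := List.all_eq_true.1 small2E6_1 q (List.mem_range.2 hs)
    simp only [Bool.or_eq_true, bne_iff_ne, Nat.ble_eq] at this
    have hm := Nat.mod_eq_zero_of_dvd h
    omega
  · have hp : ∀ {a b : ℕ}, a ≤ b → q ^ a ≤ q ^ b := fun h => Nat.pow_le_pow_right (by omega) h
    have a8 := hp (show 8 ≤ 11 by omega)
    have a4 := hp (show 4 ≤ 5 by omega)
    have a7 : 1 ≤ q ^ 7 := Nat.one_le_pow _ _ (by omega)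
    have e4 : q ^ 4 ≤ q ^ 11 - q ^ 8 + q ^ 7 + q ^ 5 := le_trans a4 (Nat.le_add_left _ _)
    have hle : 1 ≤ q ^ 11 - q ^ 8 + q ^ 7 + q ^ 5 - q ^ 4 + q := le_trans (by omega) (Nat.le_add_left q _)
    obtain ⟨w, hw⟩ : q ∣ q ^ 11 - q ^ 8 + q ^ 7 + q ^ 5 - q ^ 4 + q := by
      have hd : ∀ n : ℕ, 0 < n → q ∣ q ^ n := fun n hn => dvd_pow_self q (by omega)
      exact Nat.dvd_add (Nat.dvd_sub (Nat.dvd_add (Nat.dvd_add (Nat.dvd_sub (hd 11 (by omega))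
        (hd 8 (by omega))) (hd 7 (by omega))) (hd 5 (by omega))) (hd 4 (by omega))) dvd_rfl
    have h' := qpart (j := 1) (w := w) hq (by norm_num) (by omega)
      (by rw [Nat.sub_add_cancel hle, hw]) h
    have h1 : ∀ n : ℕ, 1 ≤ q ^ n := fun n => Nat.one_le_pow _ _ (by omega)
    have hz := Int.natCast_dvd_natCast.2 h'
    simp only [Nat.cast_mul, Nat.cast_sub (h1 _), Nat.cast_sub hle, Nat.cast_sub a8, Nat.cast_sub e4, Nat.cast_add,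
      Nat.cast_pow, Nat.cast_ofNat, Nat.cast_one] at hz
    generalize hx : (q : ℤ) = x at hz
    have hb := bound2E6_1 x (by omega) hz
    have hxl : (14 : ℤ) ≤ x := by omega
    have hp' := pow_le_pow_left₀ (by norm_num : (0 : ℤ) ≤ 14) hxl 7
    have g8 : 2 * x ^ 8 ≤ x ^ 11 := by
      rw [show x ^ 11 = x ^ 3 * x ^ 8 by ring]
      refine mul_le_mul_of_nonneg_right ?_ (by positivity)
      calc (2 : ℤ) ≤ x := by omega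
        _ ≤ x ^ 3 := le_self_pow₀ (by omega) (by norm_num)
    have g4 : x ^ 4 ≤ x ^ 5 := pow_le_pow_right₀ (by omega) (by norm_num)
    have g7 : (x : ℤ) ≤ x ^ 7 := le_self_pow₀ (by omega) (by norm_num)
    have hlow : x ^ 11 ≤ 2 * (x ^ 11 - x ^ 8 + x ^ 7 + x ^ 5 - x ^ 4 + x - 1) := by omega
    have hP : (x ^ 4 - x ^ 2 + 1) ≤ x ^ 4 := by
      nlinarith [pow_le_pow_left₀ (by norm_num : (0 : ℤ) ≤ 1) (show (1 : ℤ) ≤ x by omega) 2]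
    refine absurd (le_trans hlow (mul_le_mul_of_nonneg_left (le_trans hb
      (mul_le_mul_of_nonneg_right hP (by norm_num))) (by norm_num))) (not_le.2 ?_)
    rw [show x ^ 11 = x ^ 4 * x ^ 7 by ring, show ∀ c : ℤ, 2 * (x ^ 4 * c) = x ^ 4 * (2 * c) from fun c => by ring]
    exact mul_lt_mul_of_pos_left (lt_of_lt_of_le (by norm_num) hp') (by positivity)

theorem bound2E6_2 (x : ℤ) (hx : 2 ≤ x)
    (h : (x ^ 11 - x ^ 8 + x ^ 7 + x ^ 5 - x ^ 4 + x - 2) ∣ 2 * ((x ^ 2 - 1) * (x ^ 5 + 1) * (x ^ 6 - 1) * (x ^ 8 - 1) * (x ^ 9 + 1) * (x ^ 12 - 1))) :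
    (x ^ 11 - x ^ 8 + x ^ 7 + x ^ 5 - x ^ 4 + x - 2) ≤ (x - 1) * 5740223791104 := by
  have h1 : (x ^ 11 - x ^ 8 + x ^ 7 + x ^ 5 - x ^ 4 + x - 2) ∣ ((x + 1) ^ 6 * ((x ^ 2 + x + 1) ^ 2 * ((x ^ 2 + 1) ^ 2 * ((x ^ 2 - x + 1) ^ 3 * ((x ^ 4 + 1) ^ 1 * ((x ^ 4 - x ^ 3 + x ^ 2 - x + 1) ^ 1 * ((x ^ 4 - x ^ 2 + 1) ^ 1 * ((x ^ 6 - x ^ 3 + 1) ^ 1 * ((x - 1) ^ 4 * 1))))))))) * 2 := by
    rw [factor2E6] at h
    generalize (x - 1) = p1 at h ⊢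
    generalize (x + 1) = p2 at h ⊢
    generalize (x ^ 2 + x + 1) = p3 at h ⊢
    generalize (x ^ 2 + 1) = p4 at h ⊢
    generalize (x ^ 2 - x + 1) = p6 at h ⊢
    generalize (x ^ 4 + 1) = p8 at h ⊢
    generalize (x ^ 4 - x ^ 3 + x ^ 2 - x + 1) = p10 at h ⊢
    generalize (x ^ 4 - x ^ 2 + 1) = p12 at h ⊢
    generalize (x ^ 6 - x ^ 3 + 1) = p18 at h ⊢
    convert h using 1
    ring
  have h1 := strip (a := -1) (b := x ^ 10 - x ^ 9 + x ^ 8 - 2 * x ^ 7 + 3 * x ^ 6 - 3 * x ^ 5 + 4 * x ^ 4 - 5 * x ^ 3 + 5 * x ^ 2 - 5 * x + 6) (L := 8) (by ring) h1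
  have h1 := strip (a := -1) (b := x ^ 9 - x ^ 8 + x ^ 5 - x ^ 4 + x ^ 3 - x ^ 2 + 1) (L := 3) (by ring) h1
  have h1 := strip (a := -1) (b := x ^ 9 - x ^ 7 - x ^ 6 + 2 * x ^ 5 + x ^ 4 - x ^ 3 - 2 * x ^ 2 + x + 2) (L := 4) (by ring) h1
  have h1 := strip (a := 1) (b := -x ^ 9 - x ^ 8 + 2 * x ^ 6 + x ^ 5 - x ^ 4 - 3 * x ^ 3 - x ^ 2 + 2 * x + 3) (L := 1) (by ring) h1
  have h1 := strip (a := -1) (b := x ^ 7 - x ^ 4 + x) (L := 2) (by ring) h1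
  have h1 := strip (a := -x ^ 3 - x ^ 2 - 3 * x - 5) (b := x ^ 10 + 2 * x ^ 9 + 4 * x ^ 8 + 7 * x ^ 7 + 4 * x ^ 6 - 3 * x ^ 5 - 5 * x ^ 4 + 1) (L := 11) (by ring) h1
  have h1 := strip (a := -1) (b := x ^ 7 + x ^ 5 - x ^ 4 + x ^ 3 - x ^ 2 + x - 1) (L := 1) (by ring) h1
  have h1 := strip (a := -1) (b := x ^ 5 + x) (L := 2) (by ring) h1
  have hf : (x ^ 11 - x ^ 8 + x ^ 7 + x ^ 5 - x ^ 4 + x - 2) = (x - 1) * (x ^ 10 + x ^ 9 + x ^ 8 + x ^ 6 + x ^ 5 + 2 * x ^ 4 + x ^ 3 + x ^ 2 + x + 2) := by ring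
  have hpos : 0 < (x ^ 11 - x ^ 8 + x ^ 7 + x ^ 5 - x ^ 4 + x - 2) := by
    have g8 : x ^ 8 * 2 ≤ x ^ 11 := by
      rw [show x ^ 11 = x ^ 8 * x ^ 3 by ring]
      exact mul_le_mul_of_nonneg_left (le_trans hx (le_self_pow₀ (by omega) (by norm_num))) (by positivity)
    have g4 : x ^ 4 ≤ x ^ 5 := pow_le_pow_right₀ (by omega) (by norm_num)
    have g7 : x ≤ x ^ 7 := le_self_pow₀ (by omega) (by norm_num)
    have g0 : (2 : ℤ) ≤ x ^ 8 := le_trans hx (le_self_pow₀ (by omega) (by norm_num))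
    omega
  rw [hf] at h1 hpos ⊢
  have h2 := strip_keep (a := 1) (b := -x ^ 9 - 2 * x ^ 8 - 3 * x ^ 7 - 3 * x ^ 6 - 4 * x ^ 5 - 5 * x ^ 4 - 7 * x ^ 3 - 8 * x ^ 2 - 9 * x - 10) (L := 12) (n := 3) (by ring)
    (ne_of_gt hpos) h1
  refine mul_le_mul_of_nonneg_left (le_trans (Int.le_of_dvd (by positivity) h2) ?_) ?_
  · norm_num
  · nlinarith [sq_nonneg (x ^ 2 - 1), sq_nonneg x]

theorem small2E6_2 : ((List.range 21).all fun q => Nat.ble q 1 ||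
    (q ^ 36 * ((q ^ 2 - 1) * (q ^ 5 + 1) * (q ^ 6 - 1) * (q ^ 8 - 1) * (q ^ 9 + 1) * (q ^ 12 - 1))) % (q ^ 11 - q ^ 8 + q ^ 7 + q ^ 5 - q ^ 4 + q - 2) != 0) = true := by decide +kernel

theorem not_dvd2E6_2 (q : ℕ) (hq : IsPrimePow q) :
    ¬ (q ^ 11 - q ^ 8 + q ^ 7 + q ^ 5 - q ^ 4 + q - 2) ∣ q ^ 36 * ((q ^ 2 - 1) * (q ^ 5 + 1) * (q ^ 6 - 1) * (q ^ 8 - 1) * (q ^ 9 + 1) * (q ^ 12 - 1)) := by
  intro h
  have h2 := hq.two_le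
  rcases Nat.lt_or_ge q 21 with hs | hl
  · have := List.all_eq_true.1 small2E6_2 q (List.mem_range.2 hs)
    simp only [Bool.or_eq_true, bne_iff_ne, Nat.ble_eq] at this
    have hm := Nat.mod_eq_zero_of_dvd h
    omega
  · have hp : ∀ {a b : ℕ}, a ≤ b → q ^ a ≤ q ^ b := fun h => Nat.pow_le_pow_right (by omega) h
    have a8 := hp (show 8 ≤ 11 by omega)
    have a4 := hp (show 4 ≤ 5 by omega)
    have a7 : 1 ≤ q ^ 7 := Nat.one_le_pow _ _ (by omega)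
    have e4 : q ^ 4 ≤ q ^ 11 - q ^ 8 + q ^ 7 + q ^ 5 := le_trans a4 (Nat.le_add_left _ _)
    have hle : 2 ≤ q ^ 11 - q ^ 8 + q ^ 7 + q ^ 5 - q ^ 4 + q := le_trans (by omega) (Nat.le_add_left q _)
    obtain ⟨w, hw⟩ : q ∣ q ^ 11 - q ^ 8 + q ^ 7 + q ^ 5 - q ^ 4 + q := by
      have hd : ∀ n : ℕ, 0 < n → q ∣ q ^ n := fun n hn => dvd_pow_self q (by omega)
      exact Nat.dvd_add (Nat.dvd_sub (Nat.dvd_add (Nat.dvd_add (Nat.dvd_sub (hd 11 (by omega))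
        (hd 8 (by omega))) (hd 7 (by omega))) (hd 5 (by omega))) (hd 4 (by omega))) dvd_rfl
    have h' := qpart (j := 2) (w := w) hq (by norm_num) (by omega)
      (by rw [Nat.sub_add_cancel hle, hw]) h
    have h1 : ∀ n : ℕ, 1 ≤ q ^ n := fun n => Nat.one_le_pow _ _ (by omega)
    have hz := Int.natCast_dvd_natCast.2 h'
    simp only [Nat.cast_mul, Nat.cast_sub (h1 _), Nat.cast_sub hle, Nat.cast_sub a8, Nat.cast_sub e4, Nat.cast_add,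
      Nat.cast_pow, Nat.cast_ofNat, Nat.cast_one] at hz
    generalize hx : (q : ℤ) = x at hz
    have hb := bound2E6_2 x (by omega) hz
    have hxl : (21 : ℤ) ≤ x := by omega
    have hp' := pow_le_pow_left₀ (by norm_num : (0 : ℤ) ≤ 21) hxl 10
    have g8 : 2 * x ^ 8 ≤ x ^ 11 := by
      rw [show x ^ 11 = x ^ 3 * x ^ 8 by ring]
      refine mul_le_mul_of_nonneg_right ?_ (by positivity)
      calc (2 : ℤ) ≤ x := by omega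
        _ ≤ x ^ 3 := le_self_pow₀ (by omega) (by norm_num)
    have g4 : x ^ 4 ≤ x ^ 5 := pow_le_pow_right₀ (by omega) (by norm_num)
    have g7 : (x : ℤ) ≤ x ^ 7 := le_self_pow₀ (by omega) (by norm_num)
    have hlow : x ^ 11 ≤ 2 * (x ^ 11 - x ^ 8 + x ^ 7 + x ^ 5 - x ^ 4 + x - 2) := by omega
    have hP : (x - 1) ≤ x ^ 1 := by
      nlinarith [pow_le_pow_left₀ (by norm_num : (0 : ℤ) ≤ 1) (show (1 : ℤ) ≤ x by omega) 2]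
    refine absurd (le_trans hlow (mul_le_mul_of_nonneg_left (le_trans hb
      (mul_le_mul_of_nonneg_right hP (by norm_num))) (by norm_num))) (not_le.2 ?_)
    rw [show x ^ 11 = x ^ 1 * x ^ 10 by ring, show ∀ c : ℤ, 2 * (x ^ 1 * c) = x ^ 1 * (2 * c) from fun c => by ring]
    exact mul_lt_mul_of_pos_left (lt_of_lt_of_le (by norm_num) hp') (by positivity)

end Cfsg.Agent.Lie.Chev.DegDiv
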