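import Cfsg.Agent.Lib.Lie.Chev.TwistRootDegreeData
import Cfsg.Agent.Lib.Lie.Chev.TwistRootDegreeDivide
import Cfsg.Agent.Lib.Lie.Chev.RootTrace

/-! The smallest degree of a non-trivial complex representation of ²E6(q). -/

set_option autoImplicit false
set_option maxRecDepth 40000

namespace Cfsg.Agent.Lie.Chev.E6.Deg

open Cfsg.Lie Module

theorem simples_ok : twistSimples.all (simpleOK 46 10) = true := by decide +kernel

theorem order_ok : orderOK twistSimples [] twistOrder = true := by decide +kernel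

theorem longDims_eq : longDims twistOrder = [10, 9, 8, 6, 5, 4, 4, 3, 2, 1, 0, 0] := by
  decide +kernel

theorem min_degree {K : Type*} [Field K] [Fintype K] {q : ℕ} (hqp : IsPrimePow q) (f : K →+* K)
    (hf : ∀ t, f t = t ^ q) (hK : Fintype.card K = q ^ 2) (k : ℕ)
    (ρ : Representation ℂ (twistedE6 K q) (Fin k → ℂ)) (hirr : ρ.IsIrreducible) (hk : 2 ≤ k) :
    q * (q ^ 6 - q ^ 3 + 1) * (q ^ 4 + 1) ≤ k := by
  classical
  have := hirr
  have := (simple f hf hK).1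
  have hinj := injective_of_irreducible_two ρ hk
  have hfx : graphE6.ρ 46 = 46 := graphE6_values.1.2.2.2.2.1
  have hne : ∃ t ∈ par f 46, op ρ (gel f 46 t) ≠ 1 := by
    have hm : (1 : K) ∈ par f 46 := (mem_par f).2 fun _ => map_one f
    refine ⟨1, hm, fun e => ?_⟩
    rw [op_eq ρ (gel_mem f hf hK (by norm_num) hm)] at e
    have h1 := congrArg Subtype.val (hinj (e.trans (map_one ρ).symm))
    replace h1 : gel f 46 (1 : K) = 1 := h1
    rw [gel_fixed f hfx] at h1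
    exact one_ne_zero ((certFullE6.xg_eq_one_iff (show 46 < chevE6.nroots by decide +kernel) _).1 h1)
  have hb := degree_bound f hf hK ρ simples_ok (b₀ := twistS46) (List.mem_cons_self ..) rfl
    order_ok hne
  rw [finrank_fin_fun, longDims_eq] at hb
  have hq2 : 2 ≤ q := hqp.two_le
  have hp : ∀ {a b : ℕ}, a ≤ b → q ^ a ≤ q ^ b := fun h => Nat.pow_le_pow_right (by omega) h
  have a8 := hp (show 8 ≤ 11 by omega)
  have a4 := hp (show 4 ≤ 5 by omega)
  have a3 := hp (show 3 ≤ 6 by omega)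
  have e4 : q ^ 4 ≤ q ^ 11 - q ^ 8 + q ^ 7 + q ^ 5 := le_trans a4 (Nat.le_add_left _ _)
  have htgt : q * (q ^ 6 - q ^ 3 + 1) * (q ^ 4 + 1) = q ^ 11 - q ^ 8 + q ^ 7 + q ^ 5 - q ^ 4 + q := by
    refine Int.natCast_inj.1 ?_
    push_cast [Nat.cast_sub a3, Nat.cast_sub a8, Nat.cast_sub e4]
    ring
  rw [htgt]
  rcases hb with hb | hb
  · refine le_trans ?_ hb
    have h11 : q ^ 11 = q * q ^ 10 := by ring
    have h1 : q * q ^ 10 ≤ 2 * (q - 1) * q ^ 10 := Nat.mul_le_mul_right _ (by omega)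
    have h8 : q ^ 7 * 2 ≤ q ^ 8 := by
      rw [show q ^ 8 = q ^ 7 * q by ring]; exact Nat.mul_le_mul_left _ hq2
    have h5 : q ^ 5 * 2 ≤ q ^ 6 := by
      rw [show q ^ 6 = q ^ 5 * q by ring]; exact Nat.mul_le_mul_left _ hq2
    have h6 : q ^ 6 * 2 ≤ q ^ 7 := by
      rw [show q ^ 7 = q ^ 6 * q by ring]; exact Nat.mul_le_mul_left _ hq2
    have h0 : q ≤ q ^ 4 := Nat.le_self_pow (by norm_num) q
    rw [← mul_assoc]
    omega
  · obtain ⟨n, hn⟩ : ∃ n, q = n + 1 := ⟨q - 1, by omega⟩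
    have hsum : (q - 1) * (([10, 9, 8, 6, 5, 4, 4, 3, 2, 1, 0, 0] : List ℕ).map (q ^ ·)).sum + 2 =
        q ^ 11 - q ^ 8 + q ^ 7 + q ^ 5 - q ^ 4 + q := by
      refine Int.natCast_inj.1 ?_
      simp only [List.map_cons, List.map_nil, List.sum_cons, List.sum_nil]
      push_cast [Nat.cast_sub a8, Nat.cast_sub e4, Nat.cast_sub (show 1 ≤ q by omega)]
      ring
    by_contra hlt
    push Not at hlt
    have hdvd : k ∣ q ^ 36 * ((q ^ 2 - 1) * (q ^ 5 + 1) * (q ^ 6 - 1) * (q ^ 8 - 1) * (q ^ 9 + 1) *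
        (q ^ 12 - 1)) := by
      have h := Cfsg.Agent.Char.degree_dvd_card ρ
      rw [finrank_fin_fun] at h
      have e := h.trans (Dvd.intro_left _ (card_group f hf hK))
      simpa [mul_assoc] using e
    obtain hj | hj : k = q ^ 11 - q ^ 8 + q ^ 7 + q ^ 5 - q ^ 4 + q - 1 ∨
        k = q ^ 11 - q ^ 8 + q ^ 7 + q ^ 5 - q ^ 4 + q - 2 := by omega
    · exact DegDiv.not_dvd2E6_1 q hqp (hj ▸ hdvd)
    · exact DegDiv.not_dvd2E6_2 q hqp (hj ▸ hdvd)

end Cfsg.Agent.Lie.Chev.E6.Deg
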