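import Cfsg.Agent.Lib.Lie.Chev.Twist

/-! Counting the fixed elements of the unipotent groups of a closed set of roots. -/

set_option autoImplicit false
set_option maxHeartbeats 1000000

namespace Cfsg.Agent.Lie.Chev

open Cfsg.Lie Matrix

namespace Twist

variable {D : ChevalleyDatum} {c : CertFull D} {F : Type*} [Field F] (T : Twist c F)

/-- One step along an orbit of roots, carrying a parameter. -/
def step (x : ℕ × F) : ℕ × F := (T.ρ x.1, (T.ε x.1 : F) * T.φ x.1 x.2)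

theorem step_fst (i : ℕ) (x : ℕ × F) : ((T.step)^[i] x).1 = (T.ρ)^[i] x.1 := by
  induction i with
  | zero => rfl
  | succ i ih => rw [Function.iterate_succ_apply', Function.iterate_succ_apply', step, ih]

/-- A grading of the positive roots adapted to `ρ`, with the periods of the orbits. -/
structure Grading (T : Twist c F) (e : ℕ) where
  lvl : ℕ → ℕ
  per : ℕ → ℕ
  lvl_ρ : ∀ r, c.Pos r → lvl (T.ρ r) = lvl r
  lvl_min : ∀ r, c.Pos r → ∀ s, c.Pos s → ∀ x ∈ c.T.commTerms r s, min (lvl r) (lvl s) ≤ lvl x.1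
  lvl_max : ∀ r, c.Pos r → ∀ s, c.Pos s → ∀ x ∈ c.T.commTerms r s,
    max (lvl r) (lvl s) < lvl x.1 ∨ (x.2.1 : F) = 0
  per_pos : ∀ r, c.Pos r → 0 < per r
  per_eq : ∀ r, c.Pos r → (T.ρ)^[per r] r = r
  per_min : ∀ r, c.Pos r → ∀ i, 0 < i → i < per r → (T.ρ)^[i] r ≠ r
  card_ret : ∀ r, c.Pos r →
    Nat.card {a : F // (T.step)^[per r] (r, a) = (r, a)} ^ e = Nat.card F ^ per r

theorem pos_iterate {r : ℕ} (hr : c.Pos r) : ∀ i, c.Pos ((T.ρ)^[i] r)
  | 0 => hr
  | i + 1 => by rw [Function.iterate_succ_apply']; exact T.ρ_pos _ (pos_iterate hr i)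

namespace Grading

variable {T} {e : ℕ} (G : T.Grading e)

/-- The part of level at least `k`. -/
def from_ (S : Set ℕ) (k : ℕ) : Set ℕ := {r | r ∈ S ∧ k ≤ G.lvl r}

theorem from_subset (S : Set ℕ) (k : ℕ) : G.from_ S k ⊆ S := fun _ h => h.1

theorem isClosed_from {S : Set ℕ} (hS : c.IsClosed S) (k : ℕ) : c.IsClosed (G.from_ S k) :=
  ⟨fun r hr => hS.1 r hr.1, fun r hr s hs x hx =>
    ⟨hS.2 r hr.1 s hs.1 x hx,
      le_trans (le_min hr.2 hs.2) (G.lvl_min r (hS.1 r hr.1) s (hS.1 s hs.1) x hx)⟩⟩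

theorem ρ_mem_from {S : Set ℕ} (hS : c.IsClosed S) (hst : ∀ r ∈ S, T.ρ r ∈ S) {k r : ℕ}
    (hr : r ∈ G.from_ S k) : T.ρ r ∈ G.from_ S k :=
  ⟨hst r hr.1, by rw [G.lvl_ρ r (hS.1 r hr.1)]; exact hr.2⟩

/-- The orbit of a root. -/
def orbit (r : ℕ) : Finset ℕ := (Finset.range (G.per r)).image fun i => (T.ρ)^[i] r

theorem self_mem_orbit {r : ℕ} (hr : c.Pos r) : r ∈ G.orbit r :=
  Finset.mem_image.2 ⟨0, Finset.mem_range.2 (G.per_pos r hr), rfl⟩

theorem iterate_inj {r : ℕ} (hr : c.Pos r) {i j : ℕ} (hi : i < G.per r) (hj : j < G.per r)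
    (h : (T.ρ)^[i] r = (T.ρ)^[j] r) : i = j := by
  have key : ∀ i j, i ≤ j → j < G.per r → (T.ρ)^[i] r = (T.ρ)^[j] r → i = j := by
    intro i j hij hj h
    by_contra hne
    have h2 : (T.ρ)^[G.per r - j + i] r = r := by
      rw [Function.iterate_add_apply, h, ← Function.iterate_add_apply, Nat.sub_add_cancel hj.le,
        G.per_eq r hr]
    exact G.per_min r hr _ (by omega) (by omega) h2
  rcases le_total i j with h' | h'
  · exact key i j h' hj h
  · exact (key j i h' hi h.symm).symm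

theorem card_orbit {r : ℕ} (hr : c.Pos r) : (G.orbit r).card = G.per r := by
  rw [orbit, Finset.card_image_of_injOn, Finset.card_range]
  exact fun i hi j hj h => G.iterate_inj hr (Finset.mem_range.1 hi) (Finset.mem_range.1 hj) h

theorem ρ_orbit {r : ℕ} (hr : c.Pos r) {x : ℕ} (hx : x ∈ G.orbit r) : T.ρ x ∈ G.orbit r := by
  obtain ⟨i, hi, rfl⟩ := Finset.mem_image.1 hx
  rw [Finset.mem_range] at hi
  rw [← Function.iterate_succ_apply' T.ρ, Nat.succ_eq_add_one]
  by_cases h : i + 1 < G.per r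
  · exact Finset.mem_image.2 ⟨i + 1, Finset.mem_range.2 h, rfl⟩
  · rw [show i + 1 = G.per r by omega, G.per_eq r hr]
    exact G.self_mem_orbit hr

theorem orbit_subset {r : ℕ} {O : Finset ℕ} (hO : ∀ x ∈ O, T.ρ x ∈ O) (hr : r ∈ O) :
    G.orbit r ⊆ O := by
  intro x hx
  obtain ⟨i, -, rfl⟩ := Finset.mem_image.1 hx
  clear hx
  induction i with
  | zero => exact hr
  | succ i ih => rw [Function.iterate_succ_apply']; exact hO _ ih

/-- Fixed parameter vectors supported in a stable set of roots. -/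
def vecs (_G : T.Grading e) (O : Finset ℕ) : Set (ℕ → F) :=
  {v | (∀ x, x ∉ O → v x = 0) ∧ ∀ x ∈ O, v (T.ρ x) = (T.ε x : F) * T.φ x (v x)}

theorem vec_iterate {O : Finset ℕ} (hO : ∀ x ∈ O, T.ρ x ∈ O) {v : ℕ → F} (hv : v ∈ G.vecs O)
    {r : ℕ} (hr : r ∈ O) : ∀ i, (T.step)^[i] (r, v r) = ((T.ρ)^[i] r, v ((T.ρ)^[i] r)) := by
  intro i
  induction i with
  | zero => rfl
  | succ i ih =>
    have hmem : (T.ρ)^[i] r ∈ O := by
      clear ih
      induction i with
      | zero => exact hr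
      | succ i ih => rw [Function.iterate_succ_apply']; exact hO _ ih
    rw [Function.iterate_succ_apply', ih, Function.iterate_succ_apply', Twist.step, hv.2 _ hmem]

open Classical in
/-- The fixed vector on an orbit with a given value. -/
noncomputable def orbitVec (r : ℕ) (a : F) (x : ℕ) : F :=
  if h : ∃ i, i < G.per r ∧ (T.ρ)^[i] r = x then ((T.step)^[Nat.find h] (r, a)).2 else 0

theorem orbitVec_apply {r : ℕ} (hr : c.Pos r) (a : F) {i : ℕ} (hi : i < G.per r) :
    G.orbitVec r a ((T.ρ)^[i] r) = ((T.step)^[i] (r, a)).2 := by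
  classical
  have h : ∃ j, j < G.per r ∧ (T.ρ)^[j] r = (T.ρ)^[i] r := ⟨i, hi, rfl⟩
  rw [orbitVec, dif_pos h]
  obtain ⟨h1, h2⟩ := Nat.find_spec h
  rw [G.iterate_inj hr h1 hi h2]

theorem orbitVec_self {r : ℕ} (hr : c.Pos r) (a : F) : G.orbitVec r a r = a :=
  G.orbitVec_apply hr a (i := 0) (G.per_pos r hr)

theorem orbitVec_mem {r : ℕ} (hr : c.Pos r) {a : F} (ha : (T.step)^[G.per r] (r, a) = (r, a)) :
    G.orbitVec r a ∈ G.vecs (G.orbit r) := by
  refine ⟨fun x hx => ?_, fun x hx => ?_⟩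
  · classical
    rw [orbitVec, dif_neg]
    rintro ⟨i, hi, rfl⟩
    exact hx (Finset.mem_image.2 ⟨i, Finset.mem_range.2 hi, rfl⟩)
  · obtain ⟨i, hi, rfl⟩ := Finset.mem_image.1 hx
    rw [Finset.mem_range] at hi
    have e1 : T.step ((T.step)^[i] (r, a)) = (T.step)^[i + 1] (r, a) :=
      (Function.iterate_succ_apply' _ _ _).symm
    have e2 : (T.ε ((T.ρ)^[i] r) : F) * T.φ ((T.ρ)^[i] r) (((T.step)^[i] (r, a)).2) =
        ((T.step)^[i + 1] (r, a)).2 := by
      rw [← e1, Twist.step, T.step_fst]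
    rw [G.orbitVec_apply hr a hi, e2, ← Function.iterate_succ_apply' T.ρ, Nat.succ_eq_add_one]
    by_cases h : i + 1 < G.per r
    · exact G.orbitVec_apply hr a h
    · rw [show i + 1 = G.per r by omega, ha, G.per_eq r hr, G.orbitVec_self hr]

theorem vec_eq_orbitVec {r : ℕ} (hr : c.Pos r) {v : ℕ → F} (hv : v ∈ G.vecs (G.orbit r)) :
    v = G.orbitVec r (v r) := by
  funext x
  by_cases hx : x ∈ G.orbit r
  · obtain ⟨i, hi, rfl⟩ := Finset.mem_image.1 hx
    rw [G.orbitVec_apply hr _ (Finset.mem_range.1 hi),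
      G.vec_iterate (fun y hy => G.ρ_orbit hr hy) hv (G.self_mem_orbit hr)]
  · rw [hv.1 x hx]
    classical
    rw [orbitVec, dif_neg]
    rintro ⟨i, hi, rfl⟩
    exact hx (Finset.mem_image.2 ⟨i, Finset.mem_range.2 hi, rfl⟩)

theorem ret_of_vec {O : Finset ℕ} (hO : ∀ x ∈ O, T.ρ x ∈ O) {v : ℕ → F} (hv : v ∈ G.vecs O)
    {r : ℕ} (hr : r ∈ O) (hp : c.Pos r) : (T.step)^[G.per r] (r, v r) = (r, v r) := by
  rw [G.vec_iterate hO hv hr, G.per_eq r hp]

/-- Splitting off an orbit. -/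
theorem split {O : Finset ℕ} (hO : ∀ x ∈ O, T.ρ x ∈ O) (hpos : ∀ x ∈ O, c.Pos x) {r : ℕ}
    (hr : r ∈ O) :
    (∀ x ∈ O \ G.orbit r, T.ρ x ∈ O \ G.orbit r) ∧
    ∀ v ∈ G.vecs O, v - G.orbitVec r (v r) ∈ G.vecs (O \ G.orbit r) := by
  have hp := hpos r hr
  have hst : ∀ x ∈ O \ G.orbit r, T.ρ x ∈ O \ G.orbit r := by
    intro x hx
    obtain ⟨hx1, hx2⟩ := Finset.mem_sdiff.1 hx
    refine Finset.mem_sdiff.2 ⟨hO x hx1, fun h => hx2 ?_⟩
    obtain ⟨i, hi, e⟩ := Finset.mem_image.1 h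
    rw [Finset.mem_range] at hi
    rcases Nat.eq_zero_or_pos i with rfl | hi0
    · rw [← G.per_eq r hp, show G.per r = G.per r - 1 + 1 by omega,
        Function.iterate_succ_apply'] at e
      refine Finset.mem_image.2 ⟨G.per r - 1, Finset.mem_range.2 (by omega), ?_⟩
      exact T.ρ_inj _ (T.pos_iterate hp _).2 _ (hpos x hx1).2 e
    · rw [show i = i - 1 + 1 by omega, Function.iterate_succ_apply'] at e
      refine Finset.mem_image.2 ⟨i - 1, Finset.mem_range.2 (by omega), ?_⟩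
      exact T.ρ_inj _ (T.pos_iterate hp _).2 _ (hpos x hx1).2 e
  refine ⟨hst, fun v hv => ⟨fun x hx => ?_, fun x hx => ?_⟩⟩
  · have hvo := G.orbitVec_mem hp (G.ret_of_vec hO hv hr hp)
    by_cases h : x ∈ G.orbit r
    · obtain ⟨i, hi, rfl⟩ := Finset.mem_image.1 h
      rw [Pi.sub_apply, G.orbitVec_apply hp _ (Finset.mem_range.1 hi), G.vec_iterate hO hv hr,
        sub_self]
    · rw [Pi.sub_apply, hv.1 x fun h' => hx (Finset.mem_sdiff.2 ⟨h', h⟩), hvo.1 x h, sub_zero]
  · have hvo := G.orbitVec_mem hp (G.ret_of_vec hO hv hr hp)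
    obtain ⟨hx1, hx2⟩ := Finset.mem_sdiff.1 hx
    rw [Pi.sub_apply, Pi.sub_apply, hvo.1 _ (Finset.mem_sdiff.1 (hst x hx)).2, hvo.1 x hx2,
      sub_zero, sub_zero, hv.2 x hx1]

theorem card_vecs [Finite F] (O : Finset ℕ) (hO : ∀ x ∈ O, T.ρ x ∈ O)
    (hpos : ∀ x ∈ O, c.Pos x) : Nat.card (G.vecs O) ^ e = Nat.card F ^ O.card := by
  induction O using Finset.strongInduction with
  | H O ih =>
    rcases O.eq_empty_or_nonempty with rfl | ⟨r, hr⟩
    · have : G.vecs (∅ : Finset ℕ) = {0} := by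
        ext v
        simp [vecs, funext_iff]
      rw [this, Finset.card_empty, Nat.card_eq_one_iff_unique.2 ⟨inferInstance, inferInstance⟩,
        one_pow, pow_zero]
    have hp := hpos r hr
    obtain ⟨hst, hsp⟩ := G.split hO hpos hr
    have hsub := G.orbit_subset hO hr
    have hd : ∀ w ∈ G.vecs (O \ G.orbit r), ∀ x ∈ G.orbit r, w x = 0 := fun w hw x hx =>
      hw.1 x fun h => (Finset.mem_sdiff.1 h).2 hx
    let f : G.vecs O ≃ {a : F // (T.step)^[G.per r] (r, a) = (r, a)} × G.vecs (O \ G.orbit r) :=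
      { toFun := fun v => (⟨v.1 r, G.ret_of_vec hO v.2 hr hp⟩, ⟨_, hsp v.1 v.2⟩)
        invFun := fun p => ⟨p.2.1 + G.orbitVec r p.1.1, by
          have hvo := G.orbitVec_mem hp p.1.2
          refine ⟨fun x hx => ?_, fun x hx => ?_⟩
          · rw [Pi.add_apply, hvo.1 x fun h => hx (hsub h),
              p.2.2.1 x fun h => hx (Finset.mem_sdiff.1 h).1, add_zero]
          · rw [Pi.add_apply, Pi.add_apply]
            by_cases h : x ∈ G.orbit r
            · rw [hd _ p.2.2 x h, hd _ p.2.2 _ (G.ρ_orbit hp h), hvo.2 x h, zero_add, zero_add]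
            · have hxm : x ∈ O \ G.orbit r := Finset.mem_sdiff.2 ⟨hx, h⟩
              rw [hvo.1 x h, hvo.1 _ (Finset.mem_sdiff.1 (hst x hxm)).2, add_zero, add_zero,
                p.2.2.2 x hxm]⟩
        left_inv := fun v => Subtype.ext (by simp)
        right_inv := fun p => by
          have h1 : p.2.1 r + G.orbitVec r p.1.1 r = p.1.1 := by
            rw [G.orbitVec_self hp, hd _ p.2.2 r (G.self_mem_orbit hp), zero_add]
          refine Prod.ext (Subtype.ext h1) (Subtype.ext ?_)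
          show p.2.1 + G.orbitVec r p.1.1 - G.orbitVec r ((p.2.1 + G.orbitVec r p.1.1) r) = p.2.1
          rw [Pi.add_apply, h1, add_sub_cancel_right] }
    have hlt : O \ G.orbit r ⊂ O := Finset.sdiff_ssubset hsub ⟨r, G.self_mem_orbit hp⟩
    rw [Nat.card_congr f, Nat.card_prod, mul_pow, G.card_ret r hp,
      ih _ hlt hst fun x hx => hpos x (Finset.mem_sdiff.1 hx).1, ← pow_add,
      Finset.card_sdiff_of_subset hsub, G.card_orbit hp]
    congr 1
    have := Finset.card_le_card hsub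
    rw [G.card_orbit hp] at this
    omega

end Grading

variable {T}

/-- Fixed lifts of the orbit vectors inside a given subgroup. -/
def Grading.Lifts {e : ℕ} (G : T.Grading e) (G₁ : Subgroup (GL D.Idx F)) : Prop :=
  ∀ S : Set ℕ, c.IsClosed S → (∀ r ∈ S, T.ρ r ∈ S) → ∀ r ∈ S, ∀ a : F,
    (T.step)^[G.per r] (r, a) = (r, a) →
    ∃ g ∈ G₁ ⊓ T.fix, ∃ b : ℕ → F, b r = a ∧
      ∃ k ∈ c.KS F (G.from_ S (G.lvl r + 1)) c.T.h,
        g = ((List.range (G.per r)).map fun i => c.xg ((T.ρ)^[i] r) (b ((T.ρ)^[i] r))).prod * k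

theorem Grading.level_step [Finite F] {e : ℕ} (G : T.Grading e) {G₁ : Subgroup (GL D.Idx F)}
    (hlift : G.Lifts G₁) {S : Set ℕ} (hS : c.IsClosed S) (hst : ∀ r ∈ S, T.ρ r ∈ S) (k : ℕ)
    (ih : c.KS F (G.from_ S (k + 1)) c.T.h ⊓ T.fix ≤ G₁ ∧
      Nat.card ↥(c.KS F (G.from_ S (k + 1)) c.T.h ⊓ T.fix) ^ e =
        Nat.card F ^ Nat.card (G.from_ S (k + 1))) :
    c.KS F (G.from_ S k) c.T.h ⊓ T.fix ≤ G₁ ∧
      Nat.card ↥(c.KS F (G.from_ S k) c.T.h ⊓ T.fix) ^ e = Nat.card F ^ Nat.card (G.from_ S k) := by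
  classical
  obtain ⟨ihle, ihcard⟩ := ih
  haveI : Fintype F := Fintype.ofFinite F
  set A := G.from_ S k with hA
  set A' := G.from_ S (k + 1) with hA'
  have hAc := G.isClosed_from hS k
  have hA'c := G.isClosed_from hS (k + 1)
  have hsub : A' ⊆ A := fun r hr => ⟨hr.1, (Nat.le_succ k).trans hr.2⟩
  have hMN : c.KS F A' c.T.h ≤ c.KS F A c.T.h :=
    Subgroup.closure_mono fun _ ⟨r, t, hr, hle, he⟩ => ⟨r, t, hsub hr, hle, he⟩
  set M := c.KS F A c.T.h with hM
  set N := (c.KS F A' c.T.h).subgroupOf M with hN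
  -- commutation modulo the next level
  have hcomm : ∀ r ∈ A, ∀ s ∈ A, ∀ t u : F, s ≠ r → ∃ z ∈ c.KS F A' c.T.h,
      c.xg s u * c.xg r t = c.xg r t * c.xg s u * z := by
    intro r hr s hs t u hne
    have hr' := hS.1 r hr.1
    have hs' := hS.1 s hs.1
    have hneg : s ≠ D.neg r := fun e => ((c.not_pos_iff hr'.2).2 (e ▸ hs')) hr'
    refine ⟨_, Subgroup.list_prod_mem _ fun z hz => ?_, c.xg_comm hr'.2 hs'.2 hne hneg t u⟩
    obtain ⟨x, hx, rfl⟩ := List.mem_map.1 hz
    rcases G.lvl_max r hr' s hs' x hx with h | h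
    · have hxA' : x.1 ∈ A' := ⟨hS.2 r hr.1 s hs.1 x hx, by
        have := hr.2
        have := hs.2
        omega⟩
      exact c.xg_mem_KS hxA' (hS.1 _ hxA'.1).1 _
    · rw [h, zero_mul, zero_mul, c.xg_zero]
      exact one_mem _
  have hnorm : ∀ r ∈ A, ∀ t : F, ∀ z ∈ c.KS F A' c.T.h,
      c.xg r t * z * (c.xg r t)⁻¹ ∈ c.KS F A' c.T.h := by
    intro r hr t z hz
    refine conj_closure_mem ?_ hz
    rintro g ⟨s, u, hs, hle, rfl⟩
    by_cases hne : s = r
    · subst hne
      rw [← c.xg_add, c.xg_inv, ← c.xg_add]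
      exact c.xg_mem_KS hs hle _
    obtain ⟨z', hz', e'⟩ := hcomm r hr s (hsub hs) (-t) u hne
    rw [c.xg_inv, mul_assoc, e', ← mul_assoc, ← mul_assoc, ← c.xg_add, add_neg_cancel, c.xg_zero,
      one_mul]
    exact mul_mem (c.xg_mem_KS hs hle u) hz'
  haveI hNn : N.Normal := by
    refine ⟨fun n hn g => ?_⟩
    have key : ∀ g ∈ M, ∀ z ∈ c.KS F A' c.T.h, g * z * g⁻¹ ∈ c.KS F A' c.T.h := by
      intro g hg
      induction hg using Subgroup.closure_induction with
      | mem g hg => obtain ⟨r, t, hr, -, rfl⟩ := hg; exact hnorm r hr t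
      | one => intro z hz; simpa using hz
      | mul a b _ _ iha ihb =>
        intro z hz
        have := iha _ (ihb z hz)
        simpa [mul_assoc] using this
      | inv a ha iha =>
        intro z hz
        obtain ⟨w, hw⟩ : ∃ w : c.KS F A' c.T.h, a * w * a⁻¹ = z := by
          have hsurj : Function.Surjective
              (fun w : c.KS F A' c.T.h => (⟨a * w * a⁻¹, iha w w.2⟩ : c.KS F A' c.T.h)) :=
            Finite.surjective_of_injective fun x y hxy => Subtype.ext (by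
              simpa using congrArg Subtype.val hxy)
          obtain ⟨w, hw⟩ := hsurj ⟨z, hz⟩
          exact ⟨w, congrArg Subtype.val hw⟩
        rw [← hw]
        simpa [mul_assoc] using w.2
    exact key g.1 g.2 n.1 hn
  let q : M →* M ⧸ N := QuotientGroup.mk' N
  have hq : Function.Surjective q := QuotientGroup.mk'_surjective N
  have hq0 : ∀ g : M, q g = 1 ↔ (g : GL D.Idx F) ∈ c.KS F A' c.T.h := fun g =>
    (QuotientGroup.eq_one_iff g).trans Subgroup.mem_subgroupOf
  -- the quotient is commutative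
  have hgen : ∀ r ∈ A, ∀ s ∈ A, ∀ (t u : F) (h1 : c.xg r t ∈ M) (h2 : c.xg s u ∈ M),
      q ⟨_, h2⟩ * q ⟨_, h1⟩ = q ⟨_, h1⟩ * q ⟨_, h2⟩ := by
    intro r hr s hs t u h1 h2
    by_cases hne : s = r
    · subst hne
      rw [← map_mul, ← map_mul]
      congr 1
      exact Subtype.ext (by simp [← c.xg_add, add_comm])
    obtain ⟨z, hz, e'⟩ := hcomm r hr s hs t u hne
    rw [← map_mul, show (⟨_, h2⟩ * ⟨_, h1⟩ : M) = ⟨_, h1⟩ * ⟨_, h2⟩ * ⟨z, hMN hz⟩ from
      Subtype.ext e', map_mul, map_mul, (hq0 ⟨z, hMN hz⟩).2 hz, mul_one]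
  have hmc : ∀ x y : M ⧸ N, x * y = y * x := by
    intro x y
    obtain ⟨⟨g, hg⟩, rfl⟩ := hq x
    obtain ⟨⟨g', hg'⟩, rfl⟩ := hq y
    induction hg using Subgroup.closure_induction with
    | mem g hg =>
      obtain ⟨r, t, hr, hle, rfl⟩ := hg
      induction hg' using Subgroup.closure_induction with
      | mem g' hg' =>
        obtain ⟨s, u, hs, hle', rfl⟩ := hg'
        exact hgen s hs r hr u t _ _
      | one =>
        rw [show (⟨1, _⟩ : M) = 1 from rfl, map_one, mul_one, one_mul]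
      | mul a b ha hb iha ihb =>
        rw [show (⟨a * b, _⟩ : M) = ⟨a, ha⟩ * ⟨b, hb⟩ from rfl, map_mul, ← mul_assoc, iha,
          mul_assoc, ihb, mul_assoc]
      | inv a ha iha =>
        rw [show (⟨a⁻¹, _⟩ : M) = ⟨a, ha⟩⁻¹ from rfl, map_inv]
        exact (Commute.inv_right iha)
    | one => rw [show (⟨1, _⟩ : M) = 1 from rfl, map_one, mul_one, one_mul]
    | mul a b ha hb iha ihb =>
      rw [show (⟨a * b, _⟩ : M) = ⟨a, ha⟩ * ⟨b, hb⟩ from rfl, map_mul, mul_assoc, ihb, ← mul_assoc,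
        iha, mul_assoc]
    | inv a ha iha =>
      rw [show (⟨a⁻¹, _⟩ : M) = ⟨a, ha⟩⁻¹ from rfl, map_inv]
      exact (Commute.inv_left iha)
  letI : CommGroup (M ⧸ N) := { (inferInstance : Group (M ⧸ N)) with mul_comm := hmc }
  -- coordinates
  let lev : Finset ℕ := (Finset.range D.nroots).filter fun r => r ∈ A ∧ r ∉ A'
  have hlevA : ∀ r ∈ lev, r ∈ A := fun r hr => (Finset.mem_filter.1 hr).2.1
  have hlevpos : ∀ r ∈ lev, c.Pos r := fun r hr => hS.1 r (hlevA r hr).1
  have hlev : ∀ {r}, r ∈ lev ↔ r ∈ S ∧ G.lvl r = k := by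
    intro r
    refine ⟨fun hr => ?_, fun hr => ?_⟩
    · obtain ⟨-, h1, h2⟩ := Finset.mem_filter.1 hr
      refine ⟨h1.1, ?_⟩
      have := h1.2
      by_contra hne
      exact h2 ⟨h1.1, by omega⟩
    · exact Finset.mem_filter.2 ⟨Finset.mem_range.2 (hS.1 r hr.1).2, ⟨hr.1, hr.2.ge⟩,
        fun h => by have := h.2; omega⟩
  have hlevst : ∀ r ∈ lev, T.ρ r ∈ lev := fun r hr =>
    hlev.2 ⟨hst r (hlev.1 hr).1, by rw [G.lvl_ρ r (hlevpos r hr)]; exact (hlev.1 hr).2⟩
  have hxM : ∀ r ∈ A, ∀ t : F, c.xg r t ∈ M := fun r hr t =>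
    c.xg_mem_KS hr (hS.1 r hr.1).1 t
  let ι : ℕ → F → M ⧸ N := fun r t => if h : r ∈ A then q ⟨c.xg r t, hxM r h t⟩ else 1
  have hι : ∀ r (h : r ∈ A) (t : F), ι r t = q ⟨c.xg r t, hxM r h t⟩ := fun r h t => dif_pos h
  have hι_add : ∀ r t u, ι r (t + u) = ι r t * ι r u := by
    intro r t u
    by_cases h : r ∈ A
    · rw [hι r h, hι r h, hι r h, ← map_mul]
      congr 1
      exact Subtype.ext (c.xg_add r t u)
    · simp [ι, h]
  have hι_zero : ∀ r, ι r 0 = 1 := by
    intro r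
    by_cases h : r ∈ A
    · rw [hι r h]
      exact (hq0 _).2 (by
        show c.xg r 0 ∈ c.KS F A' c.T.h
        rw [c.xg_zero]
        exact one_mem _)
    · simp [ι, h]
  let Φ : (ℕ → F) → M ⧸ N := fun v => ∏ r ∈ lev, ι r (v r)
  have hΦadd : ∀ v w, Φ (v + w) = Φ v * Φ w := fun v w => by
    simp only [Φ, Pi.add_apply, hι_add, Finset.prod_mul_distrib]
  have hΦsurj : ∀ x, ∃ v : ℕ → F, (∀ r, r ∉ lev → v r = 0) ∧ Φ v = x := by
    intro x
    obtain ⟨⟨g, hg⟩, rfl⟩ := hq x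
    induction hg using Subgroup.closure_induction with
    | mem g hg =>
      obtain ⟨r, t, hr, hle, rfl⟩ := hg
      by_cases h : r ∈ A'
      · refine ⟨0, fun _ _ => rfl, ?_⟩
        rw [(hq0 _).2 (c.xg_mem_KS h hle t)]
        exact Finset.prod_eq_one fun s _ => hι_zero s
      · have hrl : r ∈ lev := Finset.mem_filter.2 ⟨Finset.mem_range.2 (hS.1 r hr.1).2, hr, h⟩
        refine ⟨Pi.single r t, fun s hs => Pi.single_eq_of_ne (fun e => hs (by rw [e]; exact hrl)) _,
          ?_⟩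
        show ∏ s ∈ lev, ι s ((Pi.single r t : ℕ → F) s) = _
        rw [Finset.prod_eq_single r (fun s _ hs => by rw [Pi.single_eq_of_ne hs, hι_zero])
          (fun h => absurd hrl h), Pi.single_eq_same, hι r hr]
    | one => exact ⟨0, fun _ _ => rfl, Finset.prod_eq_one fun s _ => hι_zero s⟩
    | mul a b ha hb iha ihb =>
      obtain ⟨v, hv, e1⟩ := iha
      obtain ⟨w, hw, e2⟩ := ihb
      refine ⟨v + w, fun r hr => by rw [Pi.add_apply, hv r hr, hw r hr, add_zero], ?_⟩
      rw [hΦadd, e1, e2, ← map_mul]; rfl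
    | inv a ha iha =>
      obtain ⟨v, hv, e1⟩ := iha
      refine ⟨-v, fun r hr => by rw [Pi.neg_apply, hv r hr, neg_zero], ?_⟩
      rw [show (⟨a⁻¹, _⟩ : M) = ⟨a, ha⟩⁻¹ from rfl, map_inv, ← e1, eq_inv_iff_mul_eq_one, ← hΦadd,
        neg_add_cancel]
      exact Finset.prod_eq_one fun s _ => hι_zero s
  have hΦinj : ∀ v w : ℕ → F, (∀ r, r ∉ lev → v r = 0) → (∀ r, r ∉ lev → w r = 0) →
      Φ v = Φ w → v = w := by
    let ext0 : (lev → F) → ℕ → F := fun v r => if h : r ∈ lev then v ⟨r, h⟩ else 0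
    have hs : Function.Surjective fun v : lev → F => Φ (ext0 v) := by
      intro x
      obtain ⟨v, hv, rfl⟩ := hΦsurj x
      refine ⟨fun r => v r.1, ?_⟩
      exact Finset.prod_congr rfl fun r hr => by simp [ext0, hr]
    have hcard : Nat.card (lev → F) = Nat.card (M ⧸ N) := by
      have h1 : Nat.card M = Nat.card (M ⧸ N) * Nat.card N := N.card_eq_card_quotient_mul_card_subgroup
      have h2 : Nat.card N = Fintype.card F ^ Nat.card A' := by
        rw [Nat.card_congr (Subgroup.subgroupOfEquivOfLe hMN).toEquiv, c.card_KS hA'c]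
      have h0 : Nat.card M = Fintype.card F ^ Nat.card A := c.card_KS hAc
      rw [h0, h2] at h1
      have hcA : Nat.card A = lev.card + Nat.card A' := by
        have hAfin : A.Finite := (Set.finite_Iio D.nroots).subset fun r hr => (hS.1 r hr.1).2
        rw [Nat.card_coe_set_eq, Nat.card_coe_set_eq, ← Set.ncard_sdiff_add_ncard_of_subset hsub hAfin,
          ← Set.ncard_coe_finset]
        congr 2
        ext r
        simp only [Set.mem_diff, lev, Finset.coe_filter, Finset.mem_range, Set.mem_setOf_eq]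
        exact ⟨fun h => ⟨(hS.1 r h.1.1).2, h⟩, fun h => h.2⟩
      rw [hcA, pow_add] at h1
      rw [Nat.card_fun, Nat.card_eq_fintype_card (α := F), Nat.card_eq_fintype_card (α := lev),
        Fintype.card_coe]
      exact Nat.eq_of_mul_eq_mul_right (pow_pos Fintype.card_pos _) h1
    have hbij := (Nat.bijective_iff_surjective_and_card _).2 ⟨hs, hcard⟩
    intro v w hv hw h
    have e0 : ∀ v : ℕ → F, (∀ r, r ∉ lev → v r = 0) → ext0 (fun r => v r.1) = v := fun v hv =>
      funext fun r => by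
        by_cases h : r ∈ lev
        · simp [ext0, h]
        · simp [ext0, h, hv r h]
    have hh : Φ (ext0 fun r => v r.1) = Φ (ext0 fun r => w r.1) := by rw [e0 v hv, e0 w hw, h]
    have := hbij.1 (a₁ := fun r : lev => v r.1) (a₂ := fun r : lev => w r.1) hh
    rw [← e0 v hv, ← e0 w hw, this]
  -- the endomorphism on the quotient
  have hMG : M ≤ D.group F := (c.KS_le_U hAc _).trans (le_sup_left.trans c.B_le_group)
  have hactM : ∀ g ∈ M, T.act g ∈ M := fun g hg =>
    T.act_mem_KS hAc.1 (fun r hr => G.ρ_mem_from hS hst hr) hg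
  let actM : M →* M :=
    { toFun := fun g => ⟨T.act g, hactM g g.2⟩
      map_one' := Subtype.ext T.act_one
      map_mul' := fun g g' => Subtype.ext (T.act_mul (hMG g.2) (hMG g'.2)) }
  have hactN : N ≤ N.comap actM := fun g hg =>
    T.act_mem_KS hA'c.1 (fun r hr => G.ρ_mem_from hS hst hr) hg
  let ψ : M ⧸ N →* M ⧸ N := QuotientGroup.map N N actM hactN
  have hψΦ : ∀ v : ℕ → F, ψ (Φ v) = ∏ r ∈ lev, ι (T.ρ r) ((T.ε r : F) * T.φ r (v r)) := by
    intro v
    rw [map_prod]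
    refine Finset.prod_congr rfl fun r hr => ?_
    rw [hι r (hlevA r hr), hι _ (hlevA _ (hlevst r hr))]
    show q (actM ⟨c.xg r (v r), _⟩) = _
    congr 1
    exact Subtype.ext (T.act_xg (hlevpos r hr).2 _)
  have himage : lev.image T.ρ = lev := by
    refine Finset.eq_of_subset_of_card_le (fun x hx => ?_) ?_
    · obtain ⟨r, hr, rfl⟩ := Finset.mem_image.1 hx; exact hlevst r hr
    · rw [Finset.card_image_of_injOn fun r hr s hs h =>
        T.ρ_inj r (hlevpos r hr).2 s (hlevpos s hs).2 h]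
  have hfixvec : ∀ v : ℕ → F, (∀ r, r ∉ lev → v r = 0) → (ψ (Φ v) = Φ v ↔ v ∈ G.vecs lev) := by
    intro v hv
    let w : ℕ → F := fun x => ∑ r ∈ lev.filter (fun r => T.ρ r = x), (T.ε r : F) * T.φ r (v r)
    have hw : ∀ r ∈ lev, w (T.ρ r) = (T.ε r : F) * T.φ r (v r) := by
      intro r hr
      refine Finset.sum_eq_single_of_mem r (Finset.mem_filter.2 ⟨hr, rfl⟩) fun s hs hne => ?_
      obtain ⟨hs1, hs2⟩ := Finset.mem_filter.1 hs
      exact absurd (T.ρ_inj s (hlevpos s hs1).2 r (hlevpos r hr).2 hs2) hne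
    have hwsupp : ∀ x, x ∉ lev → w x = 0 := fun x hx =>
      Finset.sum_eq_zero fun r hr => by
        obtain ⟨h1, h2⟩ := Finset.mem_filter.1 hr
        exact absurd (h2 ▸ hlevst r h1) hx
    have e1 : ψ (Φ v) = Φ w := by
      rw [hψΦ]
      show _ = ∏ x ∈ lev, ι x (w x)
      conv_rhs => rw [← himage]
      rw [Finset.prod_image fun r hr s hs h => T.ρ_inj r (hlevpos r hr).2 s (hlevpos s hs).2 h]
      exact Finset.prod_congr rfl fun r hr => by rw [hw r hr]
    rw [e1]
    constructor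
    · intro h
      have := hΦinj w v hwsupp hv h
      exact ⟨hv, fun r hr => by rw [← congrFun this (T.ρ r), hw r hr]⟩
    · intro h
      refine congrArg Φ (funext fun x => ?_)
      by_cases hx : x ∈ lev
      · rw [← himage, Finset.mem_image] at hx
        obtain ⟨r, hr, rfl⟩ := hx
        rw [hw r hr, h.2 r hr]
      · rw [hwsupp x hx, hv x hx]
  -- the fixed elements map onto the fixed vectors
  let Fx : Subgroup M := (T.fix).subgroupOf M
  let π : Fx →* M ⧸ N := q.comp Fx.subtype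
  have hlow : ∀ g : Fx, ψ (π g) = π g := by
    intro g
    show q (actM g.1) = q g.1
    congr 1
    exact Subtype.ext (T.mem_fix.1 (Subgroup.mem_subgroupOf.1 g.2)).2
  have hlifts : ∀ O : Finset ℕ, O ⊆ lev → (∀ x ∈ O, T.ρ x ∈ O) → ∀ v ∈ G.vecs O,
      ∃ g : Fx, (g : GL D.Idx F) ∈ G₁ ∧ π g = Φ v := by
    intro O
    induction O using Finset.strongInduction with
    | H O ihO =>
      intro hOl hOst v hv
      rcases O.eq_empty_or_nonempty with rfl | ⟨r, hr⟩
      · refine ⟨1, one_mem _, ?_⟩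
        rw [map_one]
        exact (Finset.prod_eq_one fun s _ => by rw [hv.1 s (by simp), hι_zero]).symm
      have hp := hlevpos r (hOl hr)
      have hOpos : ∀ x ∈ O, c.Pos x := fun x hx => hlevpos x (hOl hx)
      obtain ⟨hst', hsp⟩ := G.split hOst hOpos hr
      have hsub' := G.orbit_subset hOst hr
      obtain ⟨g', hg'G, hg'⟩ := ihO _ (Finset.sdiff_ssubset hsub' ⟨r, G.self_mem_orbit hp⟩)
        (Finset.sdiff_subset.trans hOl) hst' _ (hsp v hv)
      have hrS := (hlev.1 (hOl hr))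
      obtain ⟨g, hg, b, hb, z, hz, eg⟩ := hlift S hS hst r hrS.1 (v r)
        (G.ret_of_vec hOst hv hr hp)
      rw [hrS.2] at hz
      obtain ⟨hgG, hgF⟩ := Subgroup.mem_inf.1 hg
      have horb : ∀ i, i < G.per r → (T.ρ)^[i] r ∈ A := fun i hi =>
        hlevA _ (hOl (hsub' (Finset.mem_image.2 ⟨i, Finset.mem_range.2 hi, rfl⟩)))
      have hgM : g ∈ M := by
        rw [eg]
        refine mul_mem (Subgroup.list_prod_mem _ fun x hx => ?_) (hMN hz)
        obtain ⟨i, hi, rfl⟩ := List.mem_map.1 hx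
        exact hxM _ (horb i (List.mem_range.1 hi)) _
      let bv : ℕ → F := fun x => if x ∈ G.orbit r then b x else 0
      have hbsupp : ∀ x, x ∉ lev → bv x = 0 := fun x hx =>
        if_neg fun h => hx (hOl (hsub' h))
      have hclass : q ⟨g, hgM⟩ = Φ bv := by
        have h1 : ∀ (L : List ℕ) (hL : ∀ x ∈ L, x ∈ A),
            (⟨(L.map fun x => c.xg x (b x)).prod, Subgroup.list_prod_mem _ fun y hy => by
              obtain ⟨x, hx, rfl⟩ := List.mem_map.1 hy
              exact hxM x (hL x hx) _⟩ : M) = (L.attach.map fun x =>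
              (⟨c.xg x.1 (b x.1), hxM x.1 (hL x.1 x.2) _⟩ : M)).prod := by
          intro L hL
          refine Subtype.ext ?_
          rw [Subgroup.val_list_prod, List.map_map]
          show _ = (L.attach.map fun x => c.xg x.1 (b x.1)).prod
          rw [List.attach_map_val (f := fun x => c.xg x (b x))]
        set L := (List.range (G.per r)).map fun i => (T.ρ)^[i] r with hLdef
        have hL : ∀ x ∈ L, x ∈ A := fun x hx => by
          obtain ⟨i, hi, rfl⟩ := List.mem_map.1 hx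
          exact horb i (List.mem_range.1 hi)
        have eg' : g = (L.map fun x => c.xg x (b x)).prod * z := by
          rw [eg, hLdef, List.map_map]; rfl
        have : (⟨g, hgM⟩ : M) = (L.attach.map fun x =>
            (⟨c.xg x.1 (b x.1), hxM x.1 (hL x.1 x.2) _⟩ : M)).prod * ⟨z, hMN hz⟩ := by
          rw [← h1 L hL]; exact Subtype.ext eg'
        rw [this, map_mul, (hq0 ⟨z, hMN hz⟩).2 hz, mul_one, map_list_prod, List.map_map]
        have e2 : (L.attach.map ((⇑q) ∘ fun x =>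
            (⟨c.xg x.1 (b x.1), hxM x.1 (hL x.1 x.2) _⟩ : M))) = L.map fun x => ι x (b x) := by
          rw [← List.attach_map_val (f := fun x => ι x (b x))]
          refine List.map_congr_left fun x _ => ?_
          exact (hι x.1 (hL x.1 x.2) _).symm
        rw [e2, hLdef, List.map_map]
        have e3 : Φ bv = ∏ x ∈ G.orbit r, ι x (b x) := by
          show ∏ x ∈ lev, ι x (bv x) = _
          rw [← Finset.prod_subset (fun x hx => hOl (hsub' hx))
            (fun x _ hx => by simp [bv, hx, hι_zero])]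
          exact Finset.prod_congr rfl fun x hx => by simp [bv, hx]
        rw [e3, Grading.orbit, Finset.prod_image fun i hi j hj h =>
          G.iterate_inj hp (Finset.mem_range.1 hi) (Finset.mem_range.1 hj) h]
        rfl
      have hbv : bv ∈ G.vecs lev := (hfixvec bv hbsupp).1 (by
        rw [← hclass]
        exact hlow ⟨⟨g, hgM⟩, Subgroup.mem_subgroupOf.2 hgF⟩)
      have hbv' : bv ∈ G.vecs (G.orbit r) :=
        ⟨fun x hx => if_neg hx, fun x hx => hbv.2 x (hOl (hsub' hx))⟩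
      have hbeq : bv = G.orbitVec r (v r) := by
        rw [G.vec_eq_orbitVec hp hbv']
        simp [bv, G.self_mem_orbit hp, hb]
      refine ⟨g' * ⟨⟨g, hgM⟩, Subgroup.mem_subgroupOf.2 hgF⟩, mul_mem hg'G hgG, ?_⟩
      rw [map_mul, hg', show π ⟨⟨g, hgM⟩, Subgroup.mem_subgroupOf.2 hgF⟩ = Φ bv from hclass,
        hbeq, ← hΦadd, sub_add_cancel]
  have hrange : (π.range : Set (M ⧸ N)) = Φ '' G.vecs lev := by
    ext x
    constructor
    · rintro ⟨g, rfl⟩
      obtain ⟨v, hv, e'⟩ := hΦsurj (π g)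
      exact ⟨v, (hfixvec v hv).1 (by rw [e']; exact hlow g), e'⟩
    · rintro ⟨v, hv, rfl⟩
      obtain ⟨g, -, hg⟩ := hlifts lev subset_rfl hlevst v hv
      exact ⟨g, hg⟩
  refine ⟨fun g hg => ?_, ?_⟩
  · obtain ⟨hgM, hgF⟩ := Subgroup.mem_inf.1 hg
    let gx : Fx := ⟨⟨g, hgM⟩, Subgroup.mem_subgroupOf.2 hgF⟩
    have : π gx ∈ (π.range : Set (M ⧸ N)) := ⟨gx, rfl⟩
    rw [hrange] at this
    obtain ⟨v, hv, e'⟩ := this
    obtain ⟨l, hlG, hl⟩ := hlifts lev subset_rfl hlevst v hv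
    have h0 : q (l⁻¹ * gx : Fx).1 = 1 := by
      show π (l⁻¹ * gx) = 1
      rw [map_mul, map_inv, hl, e', inv_mul_cancel]
    have h1 := ihle (Subgroup.mem_inf.2
      ⟨(hq0 _).1 h0, Subgroup.mem_subgroupOf.1 (l⁻¹ * gx).2⟩)
    have : g = (l : GL D.Idx F) * ((l⁻¹ * gx : Fx) : GL D.Idx F) := by simp [gx]
    rw [this]
    exact mul_mem hlG h1
  · have h1 : Nat.card Fx = Nat.card π.ker * Nat.card π.range := by
      rw [π.ker.card_eq_card_quotient_mul_card_subgroup, mul_comm,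
        Nat.card_congr (QuotientGroup.quotientKerEquivRange π).toEquiv]
    have h2 : Nat.card π.ker = Nat.card ↥(c.KS F A' c.T.h ⊓ T.fix) := by
      refine Nat.card_congr
        { toFun := fun g => ⟨g.1.1.1, Subgroup.mem_inf.2
            ⟨(hq0 g.1.1).1 g.2, Subgroup.mem_subgroupOf.1 g.1.2⟩⟩
          invFun := fun g => ⟨⟨⟨g.1, hMN (Subgroup.mem_inf.1 g.2).1⟩,
            Subgroup.mem_subgroupOf.2 (Subgroup.mem_inf.1 g.2).2⟩,
              (hq0 _).2 (Subgroup.mem_inf.1 g.2).1⟩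
          left_inv := fun g => rfl
          right_inv := fun g => rfl }
    have h3 : Nat.card π.range = Nat.card (G.vecs lev) := by
      have : Nat.card π.range = Nat.card (π.range : Set (M ⧸ N)) := rfl
      rw [this, hrange, Nat.card_image_of_injOn]
      exact fun v hv w hw h => hΦinj v w hv.1 hw.1 h
    have h4 : Nat.card ↥(c.KS F A c.T.h ⊓ T.fix) = Nat.card Fx :=
      Nat.card_congr
        { toFun := fun g => ⟨⟨g.1, (Subgroup.mem_inf.1 g.2).1⟩,
            Subgroup.mem_subgroupOf.2 (Subgroup.mem_inf.1 g.2).2⟩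
          invFun := fun g => ⟨g.1.1, Subgroup.mem_inf.2 ⟨g.1.2, Subgroup.mem_subgroupOf.1 g.2⟩⟩
          left_inv := fun g => rfl
          right_inv := fun g => rfl }
    rw [h4, h1, h2, h3, mul_pow, ihcard, G.card_vecs lev hlevst hlevpos, ← pow_add]
    congr 1
    have hAfin : A.Finite := (Set.finite_Iio D.nroots).subset fun r hr => (hS.1 r hr.1).2
    rw [Nat.card_coe_set_eq, Nat.card_coe_set_eq, ← Set.ncard_sdiff_add_ncard_of_subset hsub hAfin,
      ← Set.ncard_coe_finset, add_comm]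
    congr 2
    ext r
    simp only [Set.mem_diff, lev, Finset.coe_filter, Finset.mem_range, Set.mem_setOf_eq]
    exact ⟨fun h => h.2, fun h => ⟨(hS.1 r h.1.1).2, h⟩⟩

/-- The fixed elements of the group of a stable closed set. -/
theorem Grading.card_fix_KS [Finite F] {e : ℕ} (G : T.Grading e) {G₁ : Subgroup (GL D.Idx F)}
    (hlift : G.Lifts G₁) {S : Set ℕ} (hS : c.IsClosed S) (hst : ∀ r ∈ S, T.ρ r ∈ S) :
    c.KS F S c.T.h ⊓ T.fix ≤ G₁ ∧
      Nat.card ↥(c.KS F S c.T.h ⊓ T.fix) ^ e = Nat.card F ^ Nat.card S := by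
  obtain ⟨B, hB⟩ : ∃ B, ∀ r ∈ S, G.lvl r < B :=
    ⟨(Finset.range D.nroots).sup G.lvl + 1, fun r hr =>
      Nat.lt_succ_of_le (Finset.le_sup (Finset.mem_range.2 (hS.1 r hr).2))⟩
  have key : ∀ d k, B - k = d →
      c.KS F (G.from_ S k) c.T.h ⊓ T.fix ≤ G₁ ∧
        Nat.card ↥(c.KS F (G.from_ S k) c.T.h ⊓ T.fix) ^ e =
          Nat.card F ^ Nat.card (G.from_ S k) := by
    intro d
    induction d with
    | zero =>
      intro k hk
      have h0 : G.from_ S k = ∅ := Set.eq_empty_of_forall_notMem fun r hr => by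
        have := hB r hr.1
        have := hr.2
        omega
      have h1 : c.KS F (G.from_ S k) c.T.h = ⊥ := by
        rw [eq_bot_iff, CertFull.KS, Subgroup.closure_le]
        rintro g ⟨r, t, hr, -, rfl⟩
        rw [h0] at hr
        exact absurd hr (Set.notMem_empty r)
      rw [h1, h0, bot_inf_eq]
      exact ⟨bot_le, by simp⟩
    | succ d ih => intro k hk; exact G.level_step hlift hS hst k (ih (k + 1) (by omega))
  have h := key _ 0 rfl
  have h0 : G.from_ S 0 = S := Set.ext fun r => ⟨fun h => h.1, fun h => ⟨h, Nat.zero_le _⟩⟩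
  rwa [h0] at h

end Twist

end Cfsg.Agent.Lie.Chev
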