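import Cfsg.Agent.Lib.Lie.Chev.TwistD4

/-! The group ³D₄(q) is generated by a torus element and a root element times a monomial element. -/

set_option autoImplicit false

namespace Cfsg.Agent.Lie.Chev.D4

open Cfsg.Lie Matrix

/-- Coxeter word of the fixed Weyl group. -/
def coxWord : List ℕ := [1, 0, 2, 3]

theorem coxWord_values :
    [18, 13, 12].map (certFullD4.wl coxWord) = [4, 7, 8] ∧
    [17, 20, 21].map (certFullD4.wl coxWord) = [18, 13, 12] ∧
    [18, 13, 12, 9].map (certFullD4.wl (coxWord ++ coxWord ++ coxWord)) = [5, 10, 11, 14] ∧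
    (certFullD4.T.commTerms 18 4 = [(9, 1, 1, 1)] ∧ certFullD4.T.commTerms 13 7 = [(9, -1, 1, 1)] ∧
      certFullD4.T.commTerms 12 8 = [(9, -1, 1, 1)]) ∧
    (certFullD4.wsign coxWord 13 = -certFullD4.wsign coxWord 18 ∧
      certFullD4.wsign coxWord 12 = -certFullD4.wsign coxWord 18) ∧
    (certFullD4.wsign (coxWord ++ coxWord ++ coxWord) 13 =
        certFullD4.wsign (coxWord ++ coxWord ++ coxWord) 18 ∧
      certFullD4.wsign (coxWord ++ coxWord ++ coxWord) 12 =
        certFullD4.wsign (coxWord ++ coxWord ++ coxWord) 18) ∧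
    ((certFullD4.T.cartan 0 17 = -1 ∧ certFullD4.T.cartan 1 17 = 0 ∧
        certFullD4.T.cartan 2 17 = 1 ∧ certFullD4.T.cartan 3 17 = 1) ∧
      (certFullD4.T.cartan 0 20 = 1 ∧ certFullD4.T.cartan 1 20 = 0 ∧
        certFullD4.T.cartan 2 20 = -1 ∧ certFullD4.T.cartan 3 20 = 1) ∧
      (certFullD4.T.cartan 0 21 = 1 ∧ certFullD4.T.cartan 1 21 = 0 ∧
        certFullD4.T.cartan 2 21 = 1 ∧ certFullD4.T.cartan 3 21 = -1)) := by
  decide +kernel

theorem coxWord_commute : ([(18, 7), (18, 8), (13, 4), (13, 8), (12, 4), (12, 7), (9, 18), (9, 13),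
    (9, 12), (9, 4), (9, 7), (9, 8), (18, 13), (18, 12), (13, 12), (4, 7), (4, 8), (7, 8)].all
    fun p => !(Nat.beq p.2 p.1) && !(Nat.beq p.2 (23 - p.1)) &&
      (certFullD4.T.commTerms p.1 p.2).isEmpty) = true := by
  decide +kernel

/-- Products of three commutators. -/
theorem comm3 {G : Type*} [Group G] {a₁ a₂ a₃ b₁ b₂ b₃ z₁ z₂ z₃ : G}
    (e₁ : b₁ * a₁ = a₁ * b₁ * z₁) (e₂ : b₂ * a₂ = a₂ * b₂ * z₂) (e₃ : b₃ * a₃ = a₃ * b₃ * z₃)
    (h12 : Commute a₁ b₂) (h13 : Commute a₁ b₃) (h21 : Commute a₂ b₁) (h23 : Commute a₂ b₃)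
    (h31 : Commute a₃ b₁) (h32 : Commute a₃ b₂)
    (z1a2 : Commute z₁ a₂) (z1b2 : Commute z₁ b₂) (z1a3 : Commute z₁ a₃) (z1b3 : Commute z₁ b₃)
    (z2a3 : Commute z₂ a₃) (z2b3 : Commute z₂ b₃) :
    b₁ * b₂ * b₃ * (a₁ * a₂ * a₃) = a₁ * a₂ * a₃ * (b₁ * b₂ * b₃) * (z₁ * z₂ * z₃) := by
  rw [mul3_comm h12.symm h13.symm h23.symm, e₁, e₂, e₃, mul3_comm h21 h31 h32]
  calc a₁ * b₁ * z₁ * (a₂ * b₂ * z₂) * (a₃ * b₃ * z₃)
      = a₁ * b₁ * (z₁ * (a₂ * b₂)) * z₂ * (a₃ * b₃) * z₃ := by group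
    _ = a₁ * b₁ * (a₂ * b₂) * (z₁ * z₂ * (a₃ * b₃)) * z₃ := by
        rw [(z1a2.mul_right z1b2).eq]; group
    _ = _ := by
        rw [((z1a3.mul_right z1b3).mul_left (z2a3.mul_right z2b3)).eq]; group

variable {K : Type*} [Field K]

theorem xg_commute_pair {r s : ℕ} (h : (r, s) ∈ [(18, 7), (18, 8), (13, 4), (13, 8), (12, 4),
    (12, 7), (9, 18), (9, 13), (9, 12), (9, 4), (9, 7), (9, 8), (18, 13), (18, 12), (13, 12),
    (4, 7), (4, 8), (7, 8)]) (t u : K) :
    Commute (certFullD4.xg r t) (certFullD4.xg s u) := by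
  have hc := coxWord_commute
  simp only [List.all_eq_true, Bool.and_eq_true, Bool.not_eq_true', List.isEmpty_iff] at hc
  obtain ⟨⟨h1, h2⟩, h3⟩ := hc (r, s) h
  have hlt : r < 24 ∧ s < 24 := by
    simp only [List.mem_cons, List.not_mem_nil, or_false, Prod.mk.injEq] at h
    omega
  have e : chevD4.neg r = 23 - r := certFullD4.neg_eq hlt.1
  refine certFullD4.xg_commute hlt.1 hlt.2 (fun e' => ?_) (fun e' => ?_) h3 t u
  · rw [e', beq_of_eq rfl] at h1; exact Bool.noConfusion h1
  · rw [beq_of_eq (e'.trans e)] at h2; exact Bool.noConfusion h2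

theorem X_add (a b d a' b' d' : K) : X a b d * X a' b' d' = X (a + a') (b + b') (d + d') := by
  simp only [X]
  rw [mul3_comm (xg_commute_pair (r := 18) (s := 13) (by simp) a' b).symm
    (xg_commute_pair (r := 18) (s := 12) (by simp) a' d).symm
    (xg_commute_pair (r := 13) (s := 12) (by simp) b' d).symm,
    ← certFullD4.xg_add, ← certFullD4.xg_add, ← certFullD4.xg_add]

theorem two_gen [Fintype K] {q : ℕ} (hq : IsPrimePow q) (hK : Fintype.card K = q ^ 3) :
    ∃ a b : ↥(twistedD4 K q), Subgroup.closure ({a, b} : Set ↥(twistedD4 K q)) = ⊤ := by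
  obtain ⟨f, hf⟩ := exists_qPow (e := 3) hq hK
  have hq1 := one_lt_q f hf hK
  obtain ⟨v1, v2, v3, ⟨c1, c2, c3⟩, ⟨g13, g12⟩, ⟨k13, k12⟩, v4⟩ := coxWord_values
  simp only [List.map_cons, List.map_nil, List.cons.injEq, and_true] at v1 v2 v3
  obtain ⟨w18, w13, w12⟩ := v1
  obtain ⟨i18, i13, i12⟩ := v2
  obtain ⟨j18, j13, j12, j9⟩ := v3
  obtain ⟨ζ, hζ⟩ := IsCyclic.exists_generator (α := Kˣ)
  set N : Kˣ := ζ ^ (1 + q + q * q) with hN
  have hfu : ∀ x : Kˣ, Units.map (f : K →* K) x = x ^ q := fun x =>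
    Units.ext (by simpa using hf (x : K))
  have hcard : ∀ x : Kˣ, x ^ (q * (q * q)) = x := fun x => Units.ext (by
    rw [Units.val_pow_eq_pow_val, show q * (q * q) = q ^ 3 by ring, ← hK, FiniteField.pow_card])
  have hNf : f (N : K) = N := by
    have : N ^ q = N := by
      rw [hN, ← pow_mul, show (1 + q + q * q) * q = q + q * q + q * (q * q) by ring, pow_add,
        hcard, mul_comm, ← pow_succ', show q + q * q + 1 = 1 + q + q * q by ring]
    rw [hf, ← Units.val_pow_eq_pow_val, this]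
  set z := zOf f ζ N with hz
  set h := certFullD4.torus z with hh0
  set χ : Kˣ := ζ * ζ * N⁻¹ with hχ
  obtain ⟨e18, -, e13, e12⟩ := tchar_simple (K := K) z
  have z0 : z 0 = ζ := by simp [hz, zOf]
  have z1 : z 1 = N := by simp [hz, zOf]
  have z2 : z 2 = ζ ^ q := by simp [hz, zOf, hfu]
  have z3 : z 3 = ζ ^ (q * q) := by simp [hz, zOf, hfu, pow_mul]
  have hNq : N ^ q = N := Units.ext (by rw [Units.val_pow_eq_pow_val, ← hf]; exact hNf)
  have x18 : certFullD4.tchar z 18 = χ := by rw [e18, z0, z1]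
  have x13 : certFullD4.tchar z 13 = χ ^ q := by
    rw [e13, z2, z1, hχ, mul_pow, mul_pow, inv_pow, hNq]
  have x12 : certFullD4.tchar z 12 = χ ^ (q * q) := by
    rw [e12, z3, z1, hχ, pow_mul χ, hχ, mul_pow, mul_pow, inv_pow, hNq, mul_pow, mul_pow, inv_pow,
      hNq, ← pow_mul]
  have hN3 : ζ * ζ ^ q * ζ ^ (q * q) = N := by rw [hN, pow_add, pow_add, pow_one]
  have t17 : certFullD4.tchar z 17 = χ⁻¹ ∧ certFullD4.tchar z 20 = (χ ^ q)⁻¹ ∧
      certFullD4.tchar z 21 = (χ ^ (q * q))⁻¹ := by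
    rw [← x13, ← x12, e13, e12, hχ, z1]
    obtain ⟨⟨a0, a1, a2, a3⟩, ⟨b0, b1, b2, b3⟩, ⟨d0, d1, d2, d3⟩⟩ := v4
    simp only [Cert.tchar, show chevD4.rank = 4 from rfl, Finset.prod_range_succ,
      Finset.prod_range_zero, one_mul, a0, a1, a2, a3, b0, b1, b2, b3, d0, d1, d2, d3,
      _root_.zpow_neg, zpow_one, _root_.zpow_zero, mul_one, z0, z2, z3, ← hN3]
    refine ⟨?_, ?_, ?_⟩ <;>
    · apply Additive.ofMul.injective
      simp only [ofMul_mul, ofMul_inv]
      abel
  obtain ⟨t17, t20, t21⟩ := t17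
  have hx : ∀ r, r < 24 → ∀ t : K,
      h * certFullD4.xg r t = certFullD4.xg r ((certFullD4.tchar z r : K) * t) * h := fun r hr t => by
    rw [hh0, certFullD4.torus_apply, certFullD4.dg_mul_xg (certFullD4.tchar_isRootCharacter _) hr]
  have hsteps : ∀ {g : GL chevD4.Idx K} {a a' b b' d d' : K},
      g * certFullD4.xg 18 a = certFullD4.xg 18 a' * g →
      g * certFullD4.xg 13 b = certFullD4.xg 13 b' * g →
      g * certFullD4.xg 12 d = certFullD4.xg 12 d' * g →
      g * X a b d = X a' b' d' * g := by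
    intro g a a' b b' d d' p1 p2 p3
    simp only [X]
    rw [← mul_assoc, ← mul_assoc, p1, mul_assoc _ g, p2, ← mul_assoc, mul_assoc _ g, p3,
      ← mul_assoc]
  let P : K → GL chevD4.Idx K := fun t => X t (f t) (f (f t))
  have hfq : ∀ (u : Kˣ) (t : K), ((u ^ q : Kˣ) : K) * f t = f ((u : K) * t) ∧
      ((u ^ (q * q) : Kˣ) : K) * f (f t) = f (f ((u : K) * t)) := fun u t => by
    simp only [hf, Units.val_pow_eq_pow_val, pow_mul, mul_pow, and_self]
  have hP : ∀ t : K, h * P t = P ((χ : K) * t) * h := fun t => by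
    refine hsteps ?_ ?_ ?_
    · rw [hx 18 (by omega), x18]
    · rw [hx 13 (by omega), x13, (hfq χ t).1]
    · rw [hx 12 (by omega), x12, (hfq χ t).2]
  set n := certFullD4.nw K coxWord with hn0
  have hw : ∀ p ∈ coxWord, p < chevD4.rank := by decide
  have hnmem : n ∈ twistedD4 K q := by
    have e : n = certFullD4.nw K [1] * certFullD4.nw K [0, 2, 3] := by
      rw [hn0, coxWord, ← certFullD4.nw_append]; rfl
    rw [e]
    exact mul_mem (n_mem f hf hK _ (by decide)) (n_mem f hf hK _ (by decide))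
  set h' := n * h * n⁻¹ with hh'0
  have hone : ∀ {v r : ℕ}, v < 24 → certFullD4.wl coxWord v = r → ∀ t : K,
      h' * certFullD4.xg r t = certFullD4.xg r ((certFullD4.tchar z v : K) * t) * h' := by
    intro v r hv hvr t
    have e1 : certFullD4.xg r t * n =
        n * certFullD4.xg v ((certFullD4.wsign coxWord v : K) * t) := by
      rw [certFullD4.nw_mul_xg hw hv, ← mul_assoc, certFullD4.wsign_sq, one_mul, hvr]
    have e2 : n * certFullD4.xg v ((certFullD4.tchar z v : K) *
        ((certFullD4.wsign coxWord v : K) * t)) =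
        certFullD4.xg r ((certFullD4.tchar z v : K) * t) * n := by
      rw [certFullD4.nw_mul_xg hw hv, hvr, show (certFullD4.wsign coxWord v : K) *
          ((certFullD4.tchar z v : K) * ((certFullD4.wsign coxWord v : K) * t)) =
          (certFullD4.tchar z v : K) * t by
        linear_combination ((certFullD4.tchar z v : K) * t) *
          certFullD4.wsign_sq (F := K) coxWord v]
    have e3 : n⁻¹ * certFullD4.xg r t =
        certFullD4.xg v ((certFullD4.wsign coxWord v : K) * t) * n⁻¹ := by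
      rw [eq_mul_inv_iff_mul_eq, mul_assoc, e1, inv_mul_cancel_left]
    calc h' * certFullD4.xg r t
        = n * (h * certFullD4.xg v ((certFullD4.wsign coxWord v : K) * t)) * n⁻¹ := by
          rw [hh'0, mul_assoc, e3]; group
      _ = n * certFullD4.xg v ((certFullD4.tchar z v : K) *
            ((certFullD4.wsign coxWord v : K) * t)) * (h * n⁻¹) := by
          rw [hx v hv]; group
      _ = _ := by rw [e2, hh'0]; group
  have hP' : ∀ t : K, h' * P t = P ((χ⁻¹ : Kˣ) * t) * h' := fun t => by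
    refine hsteps ?_ ?_ ?_
    · rw [hone (v := 17) (by omega) i18, t17]
    · rw [hone (v := 20) (by omega) i13, t20, ← inv_pow, (hfq χ⁻¹ t).1]
    · rw [hone (v := 21) (by omega) i12, t21, ← inv_pow, (hfq χ⁻¹ t).2]
  have hPadd : ∀ s t : K, P (s + t) = P s * P t := fun s t => by
    simp only [P, X_add, map_add]
  have hP0 : P 0 = 1 := by simp [P, X, certFullD4.xg_zero]
  have hPinv : ∀ t : K, (P t)⁻¹ = P (-t) := fun t =>
    inv_eq_of_mul_eq_one_right (by rw [← hPadd, add_neg_cancel, hP0])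
  have hmem : h ∈ twistedD4 K q := torus_zOf_mem f hf ζ N hNf
  have hbmem : P 1 * n ∈ twistedD4 K q := mul_mem (genX f hf 1) hnmem
  set G := Subgroup.closure ({h, P 1 * n} : Set (GL chevD4.Idx K))
  refine ⟨⟨h, hmem⟩, ⟨_, hbmem⟩, Subgroup.map_injective (twistedD4 K q).subtype_injective ?_⟩
  rw [MonoidHom.map_closure, Set.image_pair, ← MonoidHom.range_eq_map, Subgroup.range_subtype]
  refine le_antisymm ((Subgroup.closure_le _).2 (by
    rintro g (rfl | rfl) <;> assumption)) ?_
  have hG1 : h ∈ G := Subgroup.subset_closure (by simp)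
  have hG2 : P 1 * n ∈ G := Subgroup.subset_closure (by simp)
  -- the character generates the multiplicative group
  have hgen : ∀ u : Kˣ, u ∈ Subgroup.zpowers χ := by
    have hNmem : N⁻¹ ∈ Subgroup.zpowers χ := by
      have : χ * χ ^ q * χ ^ (q * q) = N⁻¹ := by
        calc χ * χ ^ q * χ ^ (q * q) = (ζ * ζ ^ q * ζ ^ (q * q)) * (ζ * ζ ^ q * ζ ^ (q * q)) *
              (N⁻¹ * N⁻¹ * N⁻¹) := by
              rw [hχ, pow_mul (ζ * ζ * N⁻¹), mul_pow (ζ * ζ) N⁻¹ q, mul_pow ζ ζ q, inv_pow, hNq,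
                mul_pow (ζ ^ q * ζ ^ q) N⁻¹ q, mul_pow (ζ ^ q) (ζ ^ q) q, inv_pow, hNq, ← pow_mul]
              apply Additive.ofMul.injective
              simp only [ofMul_mul, ofMul_inv]
              abel
          _ = _ := by rw [hN3]; group
      rw [← this]
      exact mul_mem (mul_mem (Subgroup.mem_zpowers χ) (pow_mem (Subgroup.mem_zpowers χ) _))
        (pow_mem (Subgroup.mem_zpowers χ) _)
    have hζ2 : ζ * ζ ∈ Subgroup.zpowers χ := by
      have := mul_mem (Subgroup.mem_zpowers χ) (inv_mem hNmem)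
      rwa [hχ, inv_inv, inv_mul_cancel_right] at this
    obtain ⟨k, hk⟩ : ∃ k, 1 + q + q * q = 2 * k + 1 := by
      rcases Nat.even_mul_succ_self q with ⟨j, hj⟩
      exact ⟨j, by rw [mul_add, mul_one] at hj; omega⟩
    have hζ1 : ζ ∈ Subgroup.zpowers χ := by
      have e : ζ = N * ((ζ * ζ) ^ k)⁻¹ := by
        rw [hN, hk, ← pow_two, ← pow_mul, pow_succ', mul_assoc, mul_inv_cancel, mul_one]
      rw [e]
      exact mul_mem (by simpa using inv_mem hNmem) (inv_mem (pow_mem hζ2 _))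
    intro u
    obtain ⟨j, rfl⟩ := hζ u
    exact zpow_mem hζ1 j
  have hχ1 : χ ≠ 1 := by
    intro e
    have h1 : Nat.card Kˣ = 1 := by
      have : Subsingleton Kˣ := ⟨fun u v => by
        have hu := hgen u; have hv := hgen v
        rw [e, Subgroup.zpowers_one_eq_bot, Subgroup.mem_bot] at hu hv
        rw [hu, hv]⟩
      exact Nat.card_unique
    rw [Nat.card_units, Nat.card_eq_fintype_card, hK] at h1
    have := Nat.pow_le_pow_left (show 2 ≤ q from hq1) 3
    omega
  have ht0 : ((χ : K) - 1) * (1 - ((χ⁻¹ : Kˣ) : K)) ≠ 0 :=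
    mul_ne_zero (sub_ne_zero.2 fun e => hχ1 (Units.ext e))
      (sub_ne_zero.2 fun e => hχ1 (inv_eq_one.1 (Units.ext e.symm)))
  have hcomm : h * h' = h' * h :=
    certFullD4.H_commutative (certFullD4.torus_mem _)
      (certFullD4.nw_conj_H hw (certFullD4.torus_mem _))
  have hc : P (1 - ((χ⁻¹ : Kˣ) : K)) * h' ∈ G := by
    have : P 1 * n * h * (P 1 * n)⁻¹ ∈ G := mul_mem (mul_mem hG2 hG1) (inv_mem hG2)
    convert this using 1
    rw [sub_eq_add_neg, hPadd, mul_assoc, ← mul_one (-((χ⁻¹ : Kˣ) : K)),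
      show -((χ⁻¹ : Kˣ) : K) * 1 = ((χ⁻¹ : Kˣ) : K) * -1 by ring, ← hP', ← hPinv, hh'0]
    group
  have hx0 : P (((χ : K) - 1) * (1 - ((χ⁻¹ : Kˣ) : K))) ∈ G := by
    have : h * (P (1 - ((χ⁻¹ : Kˣ) : K)) * h') * h⁻¹ * (P (1 - ((χ⁻¹ : Kˣ) : K)) * h')⁻¹ ∈ G :=
      mul_mem (mul_mem (mul_mem hG1 hc) (inv_mem hG1)) (inv_mem hc)
    convert this using 1
    rw [← mul_assoc h, hP, mul_assoc _ h, hcomm,
      show ((χ : K) - 1) * (1 - ((χ⁻¹ : Kˣ) : K)) =
        (χ : K) * (1 - ((χ⁻¹ : Kˣ) : K)) + -(1 - ((χ⁻¹ : Kˣ) : K)) by ring, hPadd, ← hPinv]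
    group
  have hroot : ∀ t : K, P t ∈ G := by
    have hk : ∀ k : ℕ, P (((χ : K)) ^ k * (((χ : K) - 1) * (1 - ((χ⁻¹ : Kˣ) : K)))) ∈ G := by
      intro k
      induction k with
      | zero => simpa using hx0
      | succ k ih =>
        have := mul_mem (mul_mem hG1 ih) (inv_mem hG1)
        rwa [hP, mul_inv_cancel_right, ← mul_assoc, ← pow_succ'] at this
    intro t
    by_cases h0 : t = 0
    · rw [h0, hP0]; exact one_mem G
    obtain ⟨k, hk'⟩ : Units.mk0 t h0 * (Units.mk0 _ ht0)⁻¹ ∈ Submonoid.powers χ :=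
      mem_powers_iff_mem_zpowers.2 (hgen _)
    have := hk k
    have e : ((χ : K)) ^ k = t * (((χ : K) - 1) * (1 - ((χ⁻¹ : Kˣ) : K)))⁻¹ := by
      rw [← Units.val_pow_eq_pow_val]
      change χ ^ k = _ at hk'
      rw [hk']; simp
    rwa [e, inv_mul_cancel_right₀ ht0] at this
  have hnG : n ∈ G := (G.mul_mem_cancel_left (hroot 1)).1 hG2
  have hconj : ∀ {L : List ℕ}, (∀ p ∈ L, p < chevD4.rank) → ∀ a b d : K,
      certFullD4.nw K L * X a b d * (certFullD4.nw K L)⁻¹ =
        certFullD4.xg (certFullD4.wl L 18) ((certFullD4.wsign L 18 : K) * a) *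
        certFullD4.xg (certFullD4.wl L 13) ((certFullD4.wsign L 13 : K) * b) *
        certFullD4.xg (certFullD4.wl L 12) ((certFullD4.wsign L 12 : K) * d) := by
    intro L hL a b d
    rw [mul_inv_eq_iff_eq_mul]
    simp only [X]
    rw [← mul_assoc, ← mul_assoc, certFullD4.nw_mul_xg hL (show 18 < chevD4.nroots by decide),
      mul_assoc _ (certFullD4.nw K L), certFullD4.nw_mul_xg hL (show 13 < chevD4.nroots by decide),
      ← mul_assoc, mul_assoc _ (certFullD4.nw K L),
      certFullD4.nw_mul_xg hL (show 12 < chevD4.nroots by decide), ← mul_assoc]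
  set ε : K := (certFullD4.wsign coxWord 18 : K) with hε
  have hε2 : ε * ε = 1 := certFullD4.wsign_sq coxWord 18
  have h9 : ∀ t : K, certFullD4.xg 9 (-(ε * (t + f t + f (f t)))) ∈ G := by
    intro t
    have hQ := mul_mem (mul_mem hnG (hroot 1)) (inv_mem hnG)
    simp only [P, map_one] at hQ
    rw [hconj hw, w18, w13, w12, g13, g12, Int.cast_neg, ← hε, mul_one, mul_one] at hQ
    have ec : ∀ {r s : ℕ} {C : ℤ}, r < 24 → s < 24 → s ≠ r → r + s ≠ 23 →
        certFullD4.T.commTerms r s = [(9, C, 1, 1)] → ∀ t u : K,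
        certFullD4.xg s u * certFullD4.xg r t =
          certFullD4.xg r t * certFullD4.xg s u * certFullD4.xg 9 ((C : K) * (-t) * u) := by
      intro r s C hr hs h1 h2 h3 t u
      rw [certFullD4.xg_comm hr hs h1
        (by rw [show chevD4.neg r = 23 - r from certFullD4.neg_eq hr]; omega), h3,
        List.map_singleton, List.prod_singleton, pow_one, pow_one]
    have e := comm3 (ec (by omega) (by omega) (by omega) (by omega) c1 t ε)
      (ec (by omega) (by omega) (by omega) (by omega) c2 (f t) (-ε))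
      (ec (by omega) (by omega) (by omega) (by omega) c3 (f (f t)) (-ε))
      (xg_commute_pair (by simp) _ _) (xg_commute_pair (by simp) _ _)
      (xg_commute_pair (by simp) _ _) (xg_commute_pair (by simp) _ _)
      (xg_commute_pair (by simp) _ _) (xg_commute_pair (by simp) _ _)
      (xg_commute_pair (by simp) _ _) (xg_commute_pair (by simp) _ _)
      (xg_commute_pair (by simp) _ _) (xg_commute_pair (by simp) _ _)
      (xg_commute_pair (by simp) _ _) (xg_commute_pair (by simp) _ _)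
    rw [← certFullD4.xg_add, ← certFullD4.xg_add] at e
    have h1 := mul_mem hQ (hroot t)
    simp only [P, X] at h1
    rw [e] at h1
    have h2 : X t (f t) (f (f t)) * (certFullD4.xg 4 ε * certFullD4.xg 7 (-ε) * certFullD4.xg 8 (-ε))
        ∈ G := mul_mem (hroot t) hQ
    simp only [X] at h2
    have h3 := (G.mul_mem_cancel_left h2).1 h1
    convert h3 using 2
    push_cast; ring
  have htr : ∃ t₀ : K, t₀ + f t₀ + f (f t₀) ≠ 0 := by
    by_contra hall
    push Not at hall
    classical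
    let p : Polynomial K := Polynomial.X + Polynomial.X ^ q + Polynomial.X ^ (q * q)
    have hp : p = 0 := by
      refine Polynomial.eq_zero_of_natDegree_lt_card_of_eval_eq_zero' p Finset.univ (fun t _ => ?_) ?_
      · have := hall t
        rw [hf, hf, ← pow_mul] at this
        simpa [p] using this
      · refine lt_of_le_of_lt ?_ (show q * q < _ by
          rw [Finset.card_univ, hK, pow_succ, pow_two]
          exact lt_mul_of_one_lt_right (by positivity) hq1)
        have hle : q ≤ q * q := Nat.le_mul_self q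
        simp only [p]
        refine Polynomial.natDegree_add_le_of_degree_le ?_ (by simp)
        refine Polynomial.natDegree_add_le_of_degree_le ?_ ?_ <;> simp <;> omega
    have hc := congrArg (Polynomial.coeff · 1) hp
    have hq2 : 1 < q * q := by nlinarith
    simp [p, Polynomial.coeff_X, Polynomial.coeff_X_pow, hq1.ne, hq2.ne] at hc
  obtain ⟨t₀, ht₀⟩ := htr
  have hlong : ∀ t : K, f t = t → certFullD4.xg 9 t ∈ G := by
    intro t ht
    set τ := t₀ + f t₀ + f (f t₀) with hτ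
    have hτf : f τ = τ := by
      rw [hτ, map_add, map_add, pow_cube f hf hK]; ring
    have hεf : f ε = ε := by rw [hε, map_intCast]
    have := h9 (-(ε * t * τ⁻¹) * t₀)
    convert this using 2
    have hs : f (-(ε * t * τ⁻¹)) = -(ε * t * τ⁻¹) := by
      rw [map_neg, map_mul, map_mul, map_inv₀, hεf, ht, hτf]
    rw [map_mul, hs, map_mul, hs]
    calc t = (ε * ε) * t * (τ⁻¹ * τ) := by rw [hε2, inv_mul_cancel₀ ht₀, one_mul, mul_one]
      _ = _ := by rw [hτ]; ring
  have hw3 : ∀ p ∈ coxWord ++ coxWord ++ coxWord, p < chevD4.rank := by decide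
  have hn3 : certFullD4.nw K (coxWord ++ coxWord ++ coxWord) ∈ G := by
    rw [certFullD4.nw_append, certFullD4.nw_append]
    exact mul_mem (mul_mem hnG hnG) hnG
  set σ : K := (certFullD4.wsign (coxWord ++ coxWord ++ coxWord) 18 : K) with hσ
  have hσ2 : σ * σ = 1 := certFullD4.wsign_sq _ 18
  have h14 : ∀ t : K, f t = t → certFullD4.xg 14 t ∈ G := by
    intro t ht
    set τ : K := (certFullD4.wsign (coxWord ++ coxWord ++ coxWord) 9 : K)
    have := mul_mem (mul_mem hn3 (hlong (τ * t) (by rw [map_mul, map_intCast, ht]))) (inv_mem hn3)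
    rwa [certFullD4.nw_mul_xg hw3 (show 9 < chevD4.nroots by decide), j9, mul_inv_cancel_right,
      ← mul_assoc, certFullD4.wsign_sq, one_mul] at this
  have hY : ∀ t : K, Y t (f t) (f (f t)) ∈ G := by
    intro t
    have := mul_mem (mul_mem hn3 (hroot (σ * t))) (inv_mem hn3)
    simp only [P] at this
    rw [hconj hw3, j18, j13, j12, k13, k12, ← hσ, map_mul, map_mul, hσ, map_intCast, map_intCast,
      ← hσ, ← mul_assoc, ← mul_assoc, ← mul_assoc, hσ2, one_mul, one_mul, one_mul] at this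
    exact this
  refine (Subgroup.closure_le _).2 ?_
  rintro g ⟨w, hw', hg⟩
  obtain rfl := eq_wordProd certFullD4 hg
  rcases hw' with ⟨t, ht, r, hr, rfl⟩ | ⟨t, rs, hrs, rfl⟩
  · simp only [d4p2, d4m2, List.mem_cons, List.not_mem_nil, or_false] at hr
    simp only [List.map_cons, List.map_nil, List.prod_cons, List.prod_nil, mul_one]
    have hft : f t = t := by rw [hf, ht]
    rcases hr with rfl | rfl
    exacts [h14 t hft, hlong t hft]
  · simp only [d4p1, d4p3, d4p4, d4m1, d4m3, d4m4, List.mem_cons, List.not_mem_nil, or_false] at hrs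
    have e : t ^ (q ^ 2) = f (f t) := by rw [hf, hf, ← pow_mul, sq]
    simp only [List.map_cons, List.map_nil, List.prod_cons, List.prod_nil, mul_one, ← hf, e,
      ← mul_assoc]
    rcases hrs with rfl | rfl
    exacts [hroot t, hY t]

end Cfsg.Agent.Lie.Chev.D4
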