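import Cfsg.Agent.Lib.Lie.Chev.TwoGen

/-! Certificates for generation of the Chevalley groups by two elements. -/

set_option autoImplicit false

namespace Cfsg.Agent.Lie.Chev

/-- Certificate for E6. -/
def genDataE6 : GenOne where
  w := [0, 1, 2, 3, 4, 5]
  r := 56
  v := 11
  m := [-1, -1, -1, -1, -1, -1]
  steps := [
    ⟨true, 42, 56, 56⟩, ⟨true, 47, 42, 42⟩, ⟨true, 59, 47, 47⟩, ⟨true, 52, 59, 59⟩, ⟨true, 39, 52, 52⟩, ⟨true, 37, 39, 39⟩,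
    ⟨true, 36, 37, 37⟩, ⟨true, 8, 36, 36⟩, ⟨true, 28, 8, 8⟩, ⟨true, 23, 28, 28⟩, ⟨true, 11, 23, 23⟩, ⟨false, 3, 8, 28⟩,
    ⟨true, 18, 3, 3⟩, ⟨true, 5, 18, 18⟩, ⟨true, 26, 5, 5⟩, ⟨true, 57, 26, 26⟩, ⟨true, 50, 57, 57⟩, ⟨true, 64, 50, 50⟩,
    ⟨true, 69, 64, 64⟩, ⟨true, 54, 69, 69⟩, ⟨true, 40, 54, 54⟩, ⟨true, 38, 40, 40⟩, ⟨true, 9, 38, 38⟩, ⟨false, 0, 3, 23⟩,
    ⟨true, 1, 0, 0⟩, ⟨true, 16, 1, 1⟩, ⟨true, 30, 16, 16⟩, ⟨true, 61, 30, 30⟩, ⟨true, 67, 61, 61⟩, ⟨true, 71, 67, 67⟩,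
    ⟨true, 70, 71, 71⟩, ⟨true, 55, 70, 70⟩, ⟨true, 41, 55, 55⟩, ⟨true, 10, 41, 41⟩, ⟨true, 4, 10, 10⟩, ⟨false, 2, 0, 47⟩,
    ⟨true, 17, 2, 2⟩, ⟨true, 31, 17, 17⟩, ⟨true, 33, 31, 31⟩, ⟨true, 62, 33, 33⟩, ⟨true, 68, 62, 62⟩, ⟨true, 53, 68, 68⟩,
    ⟨true, 66, 53, 53⟩, ⟨true, 45, 66, 66⟩, ⟨true, 14, 45, 45⟩, ⟨true, 21, 14, 14⟩, ⟨true, 7, 21, 21⟩, ⟨false, 19, 0, 64⟩,
    ⟨true, 32, 19, 19⟩, ⟨true, 34, 32, 32⟩, ⟨true, 35, 34, 34⟩, ⟨true, 63, 35, 35⟩, ⟨true, 43, 63, 63⟩, ⟨true, 48, 43, 43⟩,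
    ⟨true, 60, 48, 48⟩, ⟨true, 15, 60, 60⟩, ⟨true, 29, 15, 15⟩, ⟨true, 24, 29, 29⟩, ⟨true, 12, 24, 24⟩, ⟨false, 22, 0, 67⟩,
    ⟨true, 46, 22, 22⟩, ⟨true, 58, 46, 46⟩, ⟨true, 51, 58, 58⟩, ⟨true, 65, 51, 51⟩, ⟨true, 44, 65, 65⟩, ⟨true, 49, 44, 44⟩,
    ⟨true, 25, 49, 49⟩, ⟨true, 13, 25, 25⟩, ⟨true, 20, 13, 13⟩, ⟨true, 6, 20, 20⟩, ⟨true, 27, 6, 6⟩]

theorem genDataE6_check : genDataE6.check certFullE6.T = true := by decide +kernel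

/-- Certificate for E7. -/
def genDataE7 : GenOne where
  w := [0, 1, 2, 3, 4, 5, 6]
  r := 78
  v := 43
  m := [-1, -1, -1, -1, -1, -1, -1]
  steps := [
    ⟨true, 95, 78, 78⟩, ⟨true, 84, 95, 95⟩, ⟨true, 104, 84, 84⟩, ⟨true, 113, 104, 104⟩, ⟨true, 88, 113, 113⟩, ⟨true, 107, 88, 88⟩,
    ⟨true, 76, 107, 107⟩, ⟨true, 82, 76, 76⟩, ⟨true, 47, 82, 82⟩, ⟨true, 30, 47, 47⟩, ⟨true, 41, 30, 30⟩, ⟨true, 21, 41, 41⟩,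
    ⟨true, 12, 21, 21⟩, ⟨true, 37, 12, 12⟩, ⟨true, 18, 37, 37⟩, ⟨true, 49, 18, 18⟩, ⟨true, 43, 49, 49⟩, ⟨false, 0, 12, 21⟩,
    ⟨true, 1, 0, 0⟩, ⟨true, 2, 1, 1⟩, ⟨true, 7, 2, 2⟩, ⟨true, 33, 7, 7⟩, ⟨true, 53, 33, 33⟩, ⟨true, 99, 53, 53⟩,
    ⟨true, 109, 99, 99⟩, ⟨true, 119, 109, 109⟩, ⟨true, 125, 119, 119⟩, ⟨true, 124, 125, 125⟩, ⟨true, 123, 124, 124⟩, ⟨true, 118, 123, 123⟩,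
    ⟨true, 92, 118, 118⟩, ⟨true, 72, 92, 92⟩, ⟨true, 26, 72, 72⟩, ⟨true, 16, 26, 26⟩, ⟨true, 6, 16, 16⟩, ⟨false, 3, 0, 95⟩,
    ⟨true, 8, 3, 3⟩, ⟨true, 34, 8, 8⟩, ⟨true, 54, 34, 34⟩, ⟨true, 57, 54, 54⟩, ⟨true, 100, 57, 57⟩, ⟨true, 110, 100, 100⟩,
    ⟨true, 120, 110, 110⟩, ⟨true, 115, 120, 120⟩, ⟨true, 122, 115, 115⟩, ⟨true, 117, 122, 122⟩, ⟨true, 91, 117, 117⟩, ⟨true, 71, 91, 91⟩,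
    ⟨true, 68, 71, 71⟩, ⟨true, 25, 68, 68⟩, ⟨true, 15, 25, 25⟩, ⟨true, 5, 15, 15⟩, ⟨true, 10, 5, 5⟩, ⟨false, 17, 0, 109⟩,
    ⟨true, 48, 17, 17⟩, ⟨true, 94, 48, 48⟩, ⟨true, 83, 94, 94⟩, ⟨true, 103, 83, 83⟩, ⟨true, 112, 103, 103⟩, ⟨true, 121, 112, 112⟩,
    ⟨true, 116, 121, 121⟩, ⟨true, 90, 116, 116⟩, ⟨true, 108, 90, 90⟩, ⟨true, 77, 108, 108⟩, ⟨true, 31, 77, 77⟩, ⟨true, 42, 31, 31⟩,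
    ⟨true, 22, 42, 42⟩, ⟨true, 13, 22, 22⟩, ⟨true, 4, 13, 13⟩, ⟨true, 9, 4, 4⟩, ⟨true, 35, 9, 9⟩, ⟨false, 11, 0, 103⟩,
    ⟨true, 36, 11, 11⟩, ⟨true, 55, 36, 36⟩, ⟨true, 58, 55, 55⟩, ⟨true, 60, 58, 58⟩, ⟨true, 101, 60, 60⟩, ⟨true, 111, 101, 101⟩,
    ⟨true, 87, 111, 111⟩, ⟨true, 106, 87, 87⟩, ⟨true, 114, 106, 106⟩, ⟨true, 89, 114, 114⟩, ⟨true, 70, 89, 89⟩, ⟨true, 67, 70, 70⟩,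
    ⟨true, 65, 67, 67⟩, ⟨true, 24, 65, 65⟩, ⟨true, 14, 24, 24⟩, ⟨true, 38, 14, 14⟩, ⟨true, 19, 38, 38⟩, ⟨false, 20, 0, 112⟩,
    ⟨true, 50, 20, 20⟩, ⟨true, 44, 50, 50⟩, ⟨true, 27, 44, 44⟩, ⟨true, 93, 27, 27⟩, ⟨true, 73, 93, 93⟩, ⟨true, 79, 73, 73⟩,
    ⟨true, 96, 79, 79⟩, ⟨true, 85, 96, 96⟩, ⟨true, 105, 85, 85⟩, ⟨true, 75, 105, 105⟩, ⟨true, 81, 75, 75⟩, ⟨true, 98, 81, 81⟩,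
    ⟨true, 32, 98, 98⟩, ⟨true, 52, 32, 32⟩, ⟨true, 46, 52, 52⟩, ⟨true, 29, 46, 46⟩, ⟨true, 40, 29, 29⟩, ⟨false, 23, 0, 115⟩,
    ⟨true, 51, 23, 23⟩, ⟨true, 45, 51, 51⟩, ⟨true, 28, 45, 45⟩, ⟨true, 39, 28, 28⟩, ⟨true, 56, 39, 39⟩, ⟨true, 59, 56, 56⟩,
    ⟨true, 61, 59, 59⟩, ⟨true, 62, 61, 61⟩, ⟨true, 102, 62, 62⟩, ⟨true, 74, 102, 102⟩, ⟨true, 80, 74, 74⟩, ⟨true, 97, 80, 80⟩,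
    ⟨true, 86, 97, 97⟩, ⟨true, 69, 86, 86⟩, ⟨true, 66, 69, 69⟩, ⟨true, 64, 66, 66⟩, ⟨true, 63, 64, 64⟩]

theorem genDataE7_check : genDataE7.check certFullE7.T = true := by decide +kernel

/-- Certificate for E8. -/
def genDataE8 : GenOne where
  w := [0, 1, 2, 3, 4, 5, 6, 7]
  r := 162
  v := 71
  m := [-1, -1, -1, -1, -1, -1, -1, -1]
  steps := [
    ⟨true, 135, 162, 162⟩, ⟨true, 142, 135, 135⟩, ⟨true, 165, 142, 142⟩, ⟨true, 149, 165, 165⟩, ⟨true, 176, 149, 149⟩, ⟨true, 190, 176, 176⟩,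
    ⟨true, 153, 190, 190⟩, ⟨true, 179, 153, 153⟩, ⟨true, 192, 179, 179⟩, ⟨true, 154, 192, 192⟩, ⟨true, 180, 154, 154⟩, ⟨true, 138, 180, 180⟩,
    ⟨true, 145, 138, 138⟩, ⟨true, 168, 145, 145⟩, ⟨true, 77, 168, 168⟩, ⟨true, 104, 77, 77⟩, ⟨true, 97, 104, 104⟩, ⟨true, 74, 97, 97⟩,
    ⟨true, 90, 74, 74⟩, ⟨true, 63, 90, 90⟩, ⟨true, 49, 63, 63⟩, ⟨true, 86, 49, 49⟩, ⟨true, 60, 86, 86⟩, ⟨true, 47, 60, 60⟩,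
    ⟨true, 85, 47, 47⟩, ⟨true, 59, 85, 85⟩, ⟨true, 101, 59, 59⟩, ⟨true, 94, 101, 101⟩, ⟨true, 71, 94, 94⟩, ⟨false, 9, 47, 60⟩,
    ⟨true, 17, 9, 9⟩, ⟨true, 23, 17, 17⟩, ⟨true, 38, 23, 23⟩, ⟨true, 80, 38, 38⟩, ⟨true, 56, 80, 80⟩, ⟨true, 99, 56, 56⟩,
    ⟨true, 163, 99, 99⟩, ⟨true, 147, 163, 163⟩, ⟨true, 174, 147, 147⟩, ⟨true, 188, 174, 174⟩, ⟨true, 207, 188, 188⟩, ⟨true, 228, 207, 207⟩,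
    ⟨true, 220, 228, 228⟩, ⟨true, 214, 220, 220⟩, ⟨true, 230, 214, 214⟩, ⟨true, 222, 230, 230⟩, ⟨true, 216, 222, 222⟩, ⟨true, 201, 216, 216⟩,
    ⟨true, 159, 201, 201⟩, ⟨true, 183, 159, 159⟩, ⟨true, 140, 183, 183⟩, ⟨true, 76, 140, 140⟩, ⟨true, 92, 76, 76⟩, ⟨true, 65, 92, 92⟩,
    ⟨true, 51, 65, 65⟩, ⟨true, 32, 51, 51⟩, ⟨true, 11, 32, 32⟩, ⟨true, 19, 11, 11⟩, ⟨true, 25, 19, 19⟩, ⟨false, 1, 9, 85⟩,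
    ⟨true, 0, 1, 1⟩, ⟨true, 15, 0, 0⟩, ⟨true, 21, 15, 15⟩, ⟨true, 36, 21, 21⟩, ⟨true, 78, 36, 36⟩, ⟨true, 105, 78, 78⟩,
    ⟨true, 169, 105, 105⟩, ⟨true, 184, 169, 169⟩, ⟨true, 204, 184, 184⟩, ⟨true, 226, 204, 204⟩, ⟨true, 234, 226, 226⟩, ⟨true, 235, 234, 234⟩,
    ⟨true, 236, 235, 235⟩, ⟨true, 237, 236, 236⟩, ⟨true, 238, 237, 237⟩, ⟨true, 239, 238, 238⟩, ⟨true, 224, 239, 239⟩, ⟨true, 218, 224, 224⟩,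
    ⟨true, 203, 218, 218⟩, ⟨true, 161, 203, 203⟩, ⟨true, 134, 161, 161⟩, ⟨true, 70, 134, 134⟩, ⟨true, 55, 70, 70⟩, ⟨true, 35, 55, 55⟩,
    ⟨true, 13, 35, 35⟩, ⟨true, 5, 13, 13⟩, ⟨true, 4, 5, 5⟩, ⟨true, 3, 4, 4⟩, ⟨true, 2, 3, 3⟩, ⟨false, 6, 0, 140⟩,
    ⟨true, 7, 6, 6⟩, ⟨true, 14, 7, 7⟩, ⟨true, 8, 14, 14⟩, ⟨true, 16, 8, 8⟩, ⟨true, 22, 16, 16⟩, ⟨true, 37, 22, 22⟩,
    ⟨true, 79, 37, 37⟩, ⟨true, 106, 79, 79⟩, ⟨true, 110, 106, 106⟩, ⟨true, 170, 110, 110⟩, ⟨true, 185, 170, 170⟩, ⟨true, 205, 185, 185⟩,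
    ⟨true, 227, 205, 205⟩, ⟨true, 219, 227, 227⟩, ⟨true, 233, 219, 219⟩, ⟨true, 232, 233, 233⟩, ⟨true, 225, 232, 232⟩, ⟨true, 231, 225, 225⟩,
    ⟨true, 223, 231, 231⟩, ⟨true, 217, 223, 223⟩, ⟨true, 202, 217, 217⟩, ⟨true, 160, 202, 202⟩, ⟨true, 133, 160, 160⟩, ⟨true, 129, 133, 133⟩,
    ⟨true, 69, 129, 129⟩, ⟨true, 54, 69, 69⟩, ⟨true, 34, 54, 54⟩, ⟨true, 12, 34, 34⟩, ⟨true, 20, 12, 12⟩, ⟨false, 30, 0, 201⟩,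
    ⟨true, 43, 30, 30⟩, ⟨true, 83, 43, 43⟩, ⟨true, 58, 83, 83⟩, ⟨true, 46, 58, 58⟩, ⟨true, 84, 46, 46⟩, ⟨true, 108, 84, 84⟩,
    ⟨true, 112, 108, 108⟩, ⟨true, 115, 112, 112⟩, ⟨true, 117, 115, 115⟩, ⟨true, 172, 117, 117⟩, ⟨true, 187, 172, 172⟩, ⟨true, 152, 187, 187⟩,
    ⟨true, 178, 152, 152⟩, ⟨true, 191, 178, 178⟩, ⟨true, 209, 191, 191⟩, ⟨true, 196, 209, 209⟩, ⟨true, 156, 196, 196⟩, ⟨true, 181, 156, 156⟩,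
    ⟨true, 193, 181, 181⟩, ⟨true, 155, 193, 193⟩, ⟨true, 131, 155, 155⟩, ⟨true, 127, 131, 131⟩, ⟨true, 124, 127, 127⟩, ⟨true, 122, 124, 124⟩,
    ⟨true, 67, 122, 122⟩, ⟨true, 52, 67, 67⟩, ⟨true, 87, 52, 52⟩, ⟨true, 61, 87, 87⟩, ⟨true, 48, 61, 61⟩, ⟨false, 24, 0, 193⟩,
    ⟨true, 39, 24, 24⟩, ⟨true, 26, 39, 39⟩, ⟨true, 40, 26, 26⟩, ⟨true, 81, 40, 40⟩, ⟨true, 107, 81, 81⟩, ⟨true, 111, 107, 107⟩,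
    ⟨true, 114, 111, 111⟩, ⟨true, 171, 114, 114⟩, ⟨true, 186, 171, 171⟩, ⟨true, 206, 186, 186⟩, ⟨true, 194, 206, 206⟩, ⟨true, 210, 194, 194⟩,
    ⟨true, 229, 210, 210⟩, ⟨true, 221, 229, 229⟩, ⟨true, 215, 221, 221⟩, ⟨true, 200, 215, 215⟩, ⟨true, 213, 200, 200⟩, ⟨true, 199, 213, 213⟩,
    ⟨true, 158, 199, 199⟩, ⟨true, 132, 158, 158⟩, ⟨true, 128, 132, 132⟩, ⟨true, 125, 128, 128⟩, ⟨true, 68, 125, 125⟩, ⟨true, 53, 68, 68⟩,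
    ⟨true, 33, 53, 53⟩, ⟨true, 45, 33, 33⟩, ⟨true, 29, 45, 45⟩, ⟨true, 10, 29, 29⟩, ⟨true, 18, 10, 10⟩, ⟨false, 28, 0, 199⟩,
    ⟨true, 42, 28, 28⟩, ⟨true, 27, 42, 42⟩, ⟨true, 41, 27, 27⟩, ⟨true, 82, 41, 41⟩, ⟨true, 57, 82, 82⟩, ⟨true, 100, 57, 57⟩,
    ⟨true, 93, 100, 100⟩, ⟨true, 141, 93, 93⟩, ⟨true, 164, 141, 141⟩, ⟨true, 148, 164, 164⟩, ⟨true, 175, 148, 148⟩, ⟨true, 189, 175, 175⟩,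
    ⟨true, 208, 189, 189⟩, ⟨true, 195, 208, 208⟩, ⟨true, 211, 195, 195⟩, ⟨true, 197, 211, 211⟩, ⟨true, 212, 197, 197⟩, ⟨true, 198, 212, 212⟩,
    ⟨true, 157, 198, 198⟩, ⟨true, 182, 157, 157⟩, ⟨true, 139, 182, 182⟩, ⟨true, 146, 139, 139⟩, ⟨true, 98, 146, 146⟩, ⟨true, 75, 98, 98⟩,
    ⟨true, 91, 75, 75⟩, ⟨true, 64, 91, 91⟩, ⟨true, 50, 64, 64⟩, ⟨true, 31, 50, 50⟩, ⟨true, 44, 31, 31⟩, ⟨false, 62, 0, 223⟩,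
    ⟨true, 102, 62, 62⟩, ⟨true, 95, 102, 102⟩, ⟨true, 72, 95, 95⟩, ⟨true, 88, 72, 72⟩, ⟨true, 109, 88, 88⟩, ⟨true, 113, 109, 109⟩,
    ⟨true, 116, 113, 113⟩, ⟨true, 118, 116, 116⟩, ⟨true, 119, 118, 118⟩, ⟨true, 173, 119, 119⟩, ⟨true, 136, 173, 173⟩, ⟨true, 143, 136, 136⟩,
    ⟨true, 166, 143, 143⟩, ⟨true, 150, 166, 166⟩, ⟨true, 177, 150, 150⟩, ⟨true, 137, 177, 177⟩, ⟨true, 144, 137, 137⟩, ⟨true, 167, 144, 144⟩,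
    ⟨true, 151, 167, 167⟩, ⟨true, 130, 151, 151⟩, ⟨true, 126, 130, 130⟩, ⟨true, 123, 126, 126⟩, ⟨true, 121, 123, 123⟩, ⟨true, 120, 121, 121⟩,
    ⟨true, 66, 120, 120⟩, ⟨true, 103, 66, 66⟩, ⟨true, 96, 103, 103⟩, ⟨true, 73, 96, 96⟩, ⟨true, 89, 73, 73⟩]

theorem genDataE8_check : genDataE8.check certFullE8.T = true := by decide +kernel

/-- Certificate for G2. -/
def genDataG2 : GenExtra where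
  w := [0, 1]
  r := 7
  v := 3
  m := [-2, -3]
  steps := [
    ⟨true, 9, 7, 7⟩, ⟨true, 8, 9, 9⟩, ⟨true, 4, 8, 8⟩, ⟨true, 2, 4, 4⟩, ⟨true, 3, 2, 2⟩]
  s := 5
  β := 3
  a := 3
  b := 7
  coef := -3
  steps2 := [
    ⟨true, 10, 5, 5⟩, ⟨true, 11, 10, 10⟩, ⟨true, 6, 11, 11⟩, ⟨true, 1, 6, 6⟩, ⟨true, 0, 1, 1⟩]

theorem genDataG2_check : genDataG2.check certFullG2.T = true := by decide +kernel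

/-- Certificate for B2. -/
def genDataB2 : GenExtra where
  w := [0, 1]
  r := 5
  v := 1
  m := [0, -1]
  steps := [
    ⟨true, 6, 5, 5⟩, ⟨true, 2, 6, 6⟩, ⟨true, 1, 2, 2⟩]
  s := 0
  β := 1
  a := 1
  b := 2
  coef := 2
  steps2 := [
    ⟨true, 3, 0, 0⟩, ⟨true, 7, 3, 3⟩, ⟨true, 4, 7, 7⟩]

theorem genDataB2_check : genDataB2.check certFullB2.T = true := by decide +kernel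

/-- Certificate for D4. -/
def genDataD4 : GenExtra where
  w := [0, 1, 2, 3]
  r := 18
  v := 1
  m := [-1, -1, 0, -1]
  steps := [
    ⟨true, 14, 18, 18⟩, ⟨true, 22, 14, 14⟩, ⟨true, 5, 22, 22⟩, ⟨true, 9, 5, 5⟩, ⟨true, 1, 9, 9⟩, ⟨false, 0, 1, 9⟩,
    ⟨true, 6, 0, 0⟩, ⟨true, 19, 6, 6⟩, ⟨true, 23, 19, 19⟩, ⟨true, 17, 23, 23⟩, ⟨true, 4, 17, 17⟩]
  s := 2
  β := 0
  a := 0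
  b := 0
  coef := 0
  steps2 := [
    ⟨true, 8, 2, 2⟩, ⟨true, 10, 8, 8⟩, ⟨true, 21, 10, 10⟩, ⟨true, 15, 21, 21⟩, ⟨true, 13, 15, 15⟩, ⟨false, 3, 1, 13⟩,
    ⟨true, 7, 3, 3⟩, ⟨true, 11, 7, 7⟩, ⟨true, 20, 11, 11⟩, ⟨true, 16, 20, 20⟩, ⟨true, 12, 16, 16⟩]

theorem genDataD4_check : genDataD4.check certFullD4.T = true := by decide +kernel

/-- Certificate for F4. -/
def genDataF4 : GenExtra where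
  w := [0, 1, 2, 3]
  r := 33
  v := 11
  m := [0, -1, -1, 0]
  steps := [
    ⟨true, 27, 33, 33⟩, ⟨true, 35, 27, 27⟩, ⟨true, 38, 35, 35⟩, ⟨true, 28, 38, 38⟩, ⟨true, 36, 28, 28⟩, ⟨true, 14, 36, 36⟩,
    ⟨true, 20, 14, 14⟩, ⟨true, 12, 20, 20⟩, ⟨true, 9, 12, 12⟩, ⟨true, 19, 9, 9⟩, ⟨true, 11, 19, 19⟩, ⟨false, 3, 9, 12⟩,
    ⟨true, 7, 3, 3⟩, ⟨true, 8, 7, 7⟩, ⟨true, 18, 8, 8⟩, ⟨true, 34, 18, 18⟩, ⟨true, 37, 34, 34⟩, ⟨true, 44, 37, 37⟩,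
    ⟨true, 40, 44, 44⟩, ⟨true, 39, 40, 40⟩, ⟨true, 29, 39, 39⟩, ⟨true, 13, 29, 29⟩, ⟨true, 10, 13, 13⟩]
  s := 0
  β := 3
  a := 3
  b := 18
  coef := 2
  steps2 := [
    ⟨true, 15, 0, 0⟩, ⟨true, 21, 15, 15⟩, ⟨true, 41, 21, 21⟩, ⟨true, 45, 41, 41⟩, ⟨true, 46, 45, 45⟩, ⟨true, 47, 46, 46⟩,
    ⟨true, 32, 47, 47⟩, ⟨true, 26, 32, 32⟩, ⟨true, 6, 26, 26⟩, ⟨true, 2, 6, 6⟩, ⟨true, 1, 2, 2⟩, ⟨false, 5, 0, 32⟩,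
    ⟨true, 17, 5, 5⟩, ⟨true, 4, 17, 17⟩, ⟨true, 16, 4, 4⟩, ⟨true, 22, 16, 16⟩, ⟨true, 23, 22, 22⟩, ⟨true, 42, 23, 23⟩,
    ⟨true, 30, 42, 42⟩, ⟨true, 43, 30, 30⟩, ⟨true, 31, 43, 43⟩, ⟨true, 25, 31, 31⟩, ⟨true, 24, 25, 25⟩]

theorem genDataF4_check : genDataF4.check certFullF4.T = true := by decide +kernel

/-- Certificate for D4 over two elements. -/
def genTwoD4 : GenTwo where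
  w := [0, 1, 2, 3]
  s := 2
  p := 1
  steps := [
    ⟨true, 8, 2, 2⟩, ⟨true, 10, 8, 8⟩, ⟨true, 21, 10, 10⟩, ⟨true, 15, 21, 21⟩, ⟨true, 13, 15, 15⟩, ⟨false, 0, 2, 8⟩,
    ⟨true, 6, 0, 0⟩, ⟨true, 19, 6, 6⟩, ⟨true, 23, 19, 19⟩, ⟨true, 17, 23, 23⟩, ⟨true, 4, 17, 17⟩]
  l := 0
  u := 1
  coef := -1
  steps2 := [
    ⟨true, 18, 1, 1⟩, ⟨true, 14, 18, 18⟩, ⟨true, 22, 14, 14⟩, ⟨true, 5, 22, 22⟩, ⟨true, 9, 5, 5⟩, ⟨false, 3, 1, 13⟩,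
    ⟨true, 7, 3, 3⟩, ⟨true, 11, 7, 7⟩, ⟨true, 20, 11, 11⟩, ⟨true, 16, 20, 20⟩, ⟨true, 12, 16, 16⟩]

theorem genTwoD4_check : genTwoD4.check certFullD4.T = true := by decide +kernel

/-- Certificate for F4 over two elements. -/
def genTwoF4 : GenTwo where
  w := [0, 1, 2, 3]
  s := 0
  p := 0
  steps := [
    ⟨true, 15, 0, 0⟩, ⟨true, 21, 15, 15⟩, ⟨true, 41, 21, 21⟩, ⟨true, 45, 41, 41⟩, ⟨true, 46, 45, 45⟩, ⟨true, 47, 46, 46⟩,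
    ⟨true, 32, 47, 47⟩, ⟨true, 26, 32, 32⟩, ⟨true, 6, 26, 26⟩, ⟨true, 2, 6, 6⟩, ⟨true, 1, 2, 2⟩, ⟨false, 5, 0, 32⟩,
    ⟨true, 17, 5, 5⟩, ⟨true, 4, 17, 17⟩, ⟨true, 16, 4, 4⟩, ⟨true, 22, 16, 16⟩, ⟨true, 23, 22, 22⟩, ⟨true, 42, 23, 23⟩,
    ⟨true, 30, 42, 42⟩, ⟨true, 43, 30, 30⟩, ⟨true, 31, 43, 43⟩, ⟨true, 25, 31, 31⟩, ⟨true, 24, 25, 25⟩]
  l := 4
  u := 8
  coef := -1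
  steps2 := [
    ⟨true, 18, 8, 8⟩, ⟨true, 34, 18, 18⟩, ⟨true, 37, 34, 34⟩, ⟨true, 44, 37, 37⟩, ⟨true, 40, 44, 44⟩, ⟨true, 39, 40, 40⟩,
    ⟨true, 29, 39, 39⟩, ⟨true, 13, 29, 29⟩, ⟨true, 10, 13, 13⟩, ⟨true, 3, 10, 10⟩, ⟨true, 7, 3, 3⟩, ⟨false, 9, 0, 39⟩,
    ⟨true, 19, 9, 9⟩, ⟨true, 11, 19, 19⟩, ⟨true, 33, 11, 11⟩, ⟨true, 27, 33, 33⟩, ⟨true, 35, 27, 27⟩, ⟨true, 38, 35, 35⟩,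
    ⟨true, 28, 38, 38⟩, ⟨true, 36, 28, 28⟩, ⟨true, 14, 36, 36⟩, ⟨true, 20, 14, 14⟩, ⟨true, 12, 20, 20⟩]

theorem genTwoF4_check : genTwoF4.check certFullF4.T = true := by decide +kernel

end Cfsg.Agent.Lie.Chev
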