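import Cfsg.Agent.Lib.Lie.Chev.TwistE6

/-! The group ²E₆(q) is generated by a torus element and a root element times a monomial element:
fixed root subgroups are propagated along a checked list of steps. -/

set_option autoImplicit false

namespace Cfsg.Agent.Lie.Chev.E6

open Cfsg.Lie Matrix

/-- A step: 0 moves by the word, 1 passes to the partner, 2 and 3 are commutators of two pairs
giving a pair or a single root, 4 is a commutator of two single roots. -/
structure PairStep where
  kind : ℕ
  new : ℕ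
  a : ℕ
  b : ℕ

/-- The two root subgroups commute by the table. -/
def comOK (a b : ℕ) : Bool :=
  Nat.blt a 72 && Nat.blt b 72 && !(Nat.beq b a) && !(Nat.beq b (certFullE6.T.neg a)) &&
    (certFullE6.T.commTerms a b).isEmpty

/-- The commutator of two roots is the single root `u` with coefficient one or minus one. -/
def oneTerm (a b u : ℕ) : Bool :=
  Nat.blt a 72 && Nat.blt b 72 && !(Nat.beq b a) && !(Nat.beq b (certFullE6.T.neg a)) &&
    match certFullE6.T.commTerms a b with
    | [(v, C, i, j)] => Nat.beq v u && (intBeq C 1 || intBeq C (-1)) && Nat.beq i 1 && Nat.beq j 1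
    | _ => false

/-- A single root. -/
def isSingle (a : ℕ) : Bool := Nat.beq (graphE6.ρ a) a

/-- The conditions for the commutator of two pairs. -/
def pairCross (a b u : ℕ) : Bool :=
  oneTerm a b u && comOK a (graphE6.ρ b) && comOK (graphE6.ρ a) b && comOK u (graphE6.ρ a) &&
    comOK u (graphE6.ρ b) && !(isSingle a) && !(isSingle b)

/-- One step is justified. -/
def pairStepOK (w K : List ℕ) (st : PairStep) : Bool :=
  Nat.blt st.a 72 && Nat.blt st.new 72 && K.any (Nat.beq st.a) && K.any (Nat.beq st.b) &&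
  match st.kind with
  | 0 => Nat.beq (certFullE6.T.wlT w st.a) st.new && (isSingle st.a == isSingle st.new)
  | 1 => Nat.beq (graphE6.ρ st.a) st.new && Nat.beq (graphE6.ρ st.new) st.a && !(isSingle st.a) &&
      !(isSingle st.new) && intBeq (graphE6.ε st.a * graphE6.ε st.new) 1 &&
      comOK st.a st.new
  | 2 => pairCross st.a st.b st.new && !(isSingle st.new)
  | 3 => pairCross st.a st.b st.new && isSingle st.new && intBeq (graphE6.ε st.new) 1
  | 4 => oneTerm st.a st.b st.new && isSingle st.a && isSingle st.b && isSingle st.new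
  | _ => false

/-- All steps are justified. -/
def pairStepsOK (w : List ℕ) : List ℕ → List PairStep → Bool
  | _, [] => true
  | K, st :: L => pairStepOK w K st && pairStepsOK w (st.new :: K) L

/-- The roots reached. -/
def pairRoots (K : List ℕ) (L : List PairStep) : List ℕ := (L.map PairStep.new).reverse ++ K

theorem int_eq_beq (a b : ℤ) (h : intBeq a b = true) : a = b := by
  cases a <;> cases b <;> simp_all [intBeq]

theorem intBeq_one {a : ℤ} (h : (intBeq a 1 || intBeq a (-1)) = true) : a = 1 ∨ a = -1 := by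
  simp only [Bool.or_eq_true] at h
  exact h.imp (int_eq_beq a 1) (int_eq_beq a (-1))

theorem intBeq_eq_one {a : ℤ} (h : intBeq a 1 = true) : a = 1 := by
  cases a <;> simp_all [intBeq]

variable {K : Type*} [Field K] (f : K →+* K)

theorem act_root {r : ℕ} (hr : r < 72) (t : K) :
    (tw f).act (certFullE6.xg r t) = certFullE6.xg (graphE6.ρ r) ((graphE6.ε r : K) * f t) := by
  rw [(tw f).act_xg (show r < chevE6.nroots from hr)]
  rfl

theorem comm_of_ok {a b : ℕ} (h : comOK a b = true) (t u : K) :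
    Commute (certFullE6.xg a t) (certFullE6.xg b u) := by
  simp only [comOK, Bool.and_eq_true, Nat.blt_eq, Bool.not_eq_true', List.isEmpty_iff] at h
  obtain ⟨⟨⟨⟨ha, hb⟩, h1⟩, h2⟩, h3⟩ := h
  refine certFullE6.xg_commute ha hb (fun e => ?_) (fun e => ?_) h3 t u
  · rw [beq_of_eq e] at h1; exact Bool.noConfusion h1
  · rw [certFullE6.neg_eq ha] at e
    rw [beq_of_eq e] at h2; exact Bool.noConfusion h2

theorem comm_of_term {a b u : ℕ} (h : oneTerm a b u = true) :
    ∃ C : ℤ, (C = 1 ∨ C = -1) ∧ ∀ t s : K, certFullE6.xg b s * certFullE6.xg a t =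
      certFullE6.xg a t * certFullE6.xg b s * certFullE6.xg u ((C : K) * (-t) * s) := by
  simp only [oneTerm, Bool.and_eq_true, Nat.blt_eq, Bool.not_eq_true'] at h
  obtain ⟨⟨⟨⟨ha, hb⟩, h1⟩, h2⟩, h3⟩ := h
  split at h3
  case h_2 => cases h3
  case h_1 v C i j hterms =>
    simp only [Bool.and_eq_true, Nat.beq_eq] at h3
    obtain ⟨⟨⟨rfl, hC⟩, rfl⟩, rfl⟩ := h3
    refine ⟨C, intBeq_one hC, fun t s => ?_⟩
    have e := certFullE6.xg_comm (F := K) ha hb (fun e => by
      rw [beq_of_eq e] at h1; exact Bool.noConfusion h1) (fun e => by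
      rw [certFullE6.neg_eq ha] at e
      rw [beq_of_eq e] at h2; exact Bool.noConfusion h2) t s
    rwa [hterms, List.map_singleton, List.prod_singleton, pow_one, pow_one] at e

/-- A fixed root element over the root `r`. -/
noncomputable def pairElt (r : ℕ) (t : K) : GL chevE6.Idx K :=
  certFullE6.xg r t * (tw f).act (certFullE6.xg r t)

/-- The fixed root subgroup over `r` lies in `G`. -/
def FixIn (G : Subgroup (GL chevE6.Idx K)) (r : ℕ) : Prop :=
  (isSingle r = true → ∀ t : K, f t = t → certFullE6.xg r t ∈ G) ∧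
  (isSingle r = false → ∀ t : K, pairElt f r t ∈ G)

/-- Products over two pairs. -/
theorem comm2 {G : Type*} [Group G] {g g' k k' z z' : G} (e : k * g = g * k * z)
    (e' : k' * g' = g' * k' * z') (h1 : Commute k' g) (h2 : Commute g' k) (h3 : Commute z g')
    (h4 : Commute z k') : k * k' * (g * g') = g * g' * (k * k') * (z * z') := by
  calc k * k' * (g * g') = k * (k' * g) * g' := by group
    _ = (k * g) * (k' * g') := by rw [h1.eq]; group
    _ = g * k * (z * (g' * k')) * z' := by rw [e, e']; group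
    _ = g * (k * g') * k' * (z * z') := by rw [(h3.mul_right h4).eq]; group
    _ = _ := by rw [← h2.eq]; group

theorem pairCross_mem {G : Subgroup (GL chevE6.Idx K)} {a b u : ℕ}
    (h : pairCross a b u = true) (ha : ∀ t : K, pairElt f a t ∈ G)
    (hb : ∀ t : K, pairElt f b t ∈ G) : ∀ t : K, pairElt f u t ∈ G := by
  simp only [pairCross, Bool.and_eq_true] at h
  obtain ⟨⟨⟨⟨⟨⟨h0, h1⟩, h2⟩, h3⟩, h4⟩, -⟩, -⟩ := h
  obtain ⟨C, hC, e⟩ := comm_of_term (K := K) h0
  intro T
  have hlt : a < 72 ∧ b < 72 := by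
    simp only [oneTerm, Bool.and_eq_true, Nat.blt_eq] at h0
    exact ⟨h0.1.1.1.1, h0.1.1.1.2⟩
  have hC2 : (C : K) * (C : K) = 1 := by rcases hC with rfl | rfl <;> simp
  have e1 := e (-((C : K) * T)) 1
  rw [show (C : K) * - -((C : K) * T) * 1 = T by rw [_root_.neg_neg, mul_one, ← mul_assoc, hC2, one_mul]] at e1
  have hg : ∀ {r : ℕ}, r < 72 → ∀ x : K, certFullE6.xg r x ∈ chevE6.group K := fun hr x =>
    certFullE6.xg_mem_group hr x
  have hz : certFullE6.xg u T ∈ chevE6.group K := by
    rw [eq_inv_mul_of_mul_eq e1.symm]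
    exact mul_mem (inv_mem (mul_mem (hg hlt.1 _) (hg hlt.2 _))) (mul_mem (hg hlt.2 _) (hg hlt.1 _))
  have e2 := congrArg (tw f).act e1
  rw [(tw f).act_mul (hg hlt.2 _) (hg hlt.1 _),
    (tw f).act_mul (mul_mem (hg hlt.1 _) (hg hlt.2 _)) hz,
    (tw f).act_mul (hg hlt.1 _) (hg hlt.2 _)] at e2
  have c1 : Commute ((tw f).act (certFullE6.xg b (1 : K))) (certFullE6.xg a (-((C : K) * T))) := by
    rw [act_root f hlt.2]; exact (comm_of_ok h1 _ _).symm
  have c2 : Commute ((tw f).act (certFullE6.xg a (-((C : K) * T)))) (certFullE6.xg b (1 : K)) := by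
    rw [act_root f hlt.1]; exact comm_of_ok h2 _ _
  have c3 : Commute (certFullE6.xg u T) ((tw f).act (certFullE6.xg a (-((C : K) * T)))) := by
    rw [act_root f hlt.1]; exact comm_of_ok h3 _ _
  have c4 : Commute (certFullE6.xg u T) ((tw f).act (certFullE6.xg b (1 : K))) := by
    rw [act_root f hlt.2]; exact comm_of_ok h4 _ _
  have hl := mul_mem (hb 1) (ha (-((C : K) * T)))
  simp only [pairElt] at hl
  rw [comm2 e1 e2 c1 c2 c3 c4] at hl
  exact (G.mul_mem_cancel_left (mul_mem (ha _) (hb 1))).1 hl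

variable [Fintype K] {q : ℕ} (hf : ∀ t, f t = t ^ q) (hK : Fintype.card K = q ^ 2)

include hf hK

theorem exists_trace {s : K} (hs : f s = s) : ∃ t : K, t + f t = s := by
  have hq := one_lt_q f hf hK
  obtain ⟨t₀, h0⟩ : ∃ t₀ : K, t₀ + f t₀ ≠ 0 := by
    by_contra hall
    push Not at hall
    classical
    let p : Polynomial K := Polynomial.X + Polynomial.X ^ q
    have hp : p = 0 := by
      refine Polynomial.eq_zero_of_natDegree_lt_card_of_eval_eq_zero' p Finset.univ (fun t _ => ?_) ?_
      · simpa [p, ← hf] using hall t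
      · refine lt_of_le_of_lt ?_ (show q < _ by
          rw [Finset.card_univ, hK, pow_two]
          exact lt_mul_of_one_lt_right (by omega) hq)
        simp only [p]
        refine Polynomial.natDegree_add_le_of_degree_le ?_ ?_ <;> simp <;> omega
    have hc := congrArg (Polynomial.coeff · 1) hp
    simp [p, Polynomial.coeff_X, Polynomial.coeff_X_pow, hq.ne] at hc
  have hfix : f (t₀ + f t₀) = t₀ + f t₀ := by
    rw [map_add, pow_sq f hf hK, add_comm]
  refine ⟨s * (t₀ + f t₀)⁻¹ * t₀, ?_⟩
  rw [map_mul, map_mul, map_inv₀, hfix, hs, ← mul_add, inv_mul_cancel_right₀ h0]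

theorem fixIn_step {G : Subgroup (GL chevE6.Idx K)} {w : List ℕ} (hw : ∀ p ∈ w, p < chevE6.rank)
    (hn : certFullE6.nw K w ∈ G) (hnf : (tw f).act (certFullE6.nw K w) = certFullE6.nw K w)
    {L : List ℕ} {st : PairStep} (h : pairStepOK w L st = true) (hL : ∀ r ∈ L, FixIn f G r) :
    FixIn f G st.new := by
  simp only [pairStepOK, Bool.and_eq_true, Nat.blt_eq, List.any_eq_true, Nat.beq_eq] at h
  obtain ⟨⟨⟨⟨ha, hnlt⟩, ⟨xa, hxa, ea⟩⟩, ⟨xb, hxb, eb⟩⟩, h⟩ := h
  obtain ⟨haS, haP⟩ := hL _ (ea ▸ hxa : st.a ∈ L)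
  obtain ⟨hbS, hbP⟩ := hL _ (eb ▸ hxb : st.b ∈ L)
  have hN : certFullE6.nw K w ∈ chevE6.group K :=
    Subgroup.list_prod_mem _ fun g hg => by
      obtain ⟨p, hp, rfl⟩ := List.mem_map.1 hg
      exact certFullE6.np_mem_group (hw p hp)
  split at h
  · -- moved by the word
    simp only [Bool.and_eq_true, Nat.beq_eq, beq_iff_eq] at h
    obtain ⟨he, hs⟩ := h
    rw [certFullE6.wlT_eq] at he
    have e : ∀ t : K, certFullE6.nw K w *
        certFullE6.xg st.a ((certFullE6.wsign w st.a : K) * t) * (certFullE6.nw K w)⁻¹ =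
        certFullE6.xg st.new t := by
      intro t
      rw [certFullE6.nw_mul_xg hw (show st.a < chevE6.nroots from ha), he, ← mul_assoc,
        certFullE6.wsign_sq, one_mul, mul_inv_cancel_right]
    refine ⟨fun h1 t ht => ?_, fun h1 t => ?_⟩
    · rw [← e]
      exact mul_mem (mul_mem hn (haS (hs.trans h1) _ (by rw [map_mul, map_intCast, ht])))
        (inv_mem hn)
    · have := mul_mem (mul_mem hn (haP (hs.trans h1) ((certFullE6.wsign w st.a : K) * t)))
        (inv_mem hn)
      convert this using 1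
      have hx := certFullE6.xg_mem_group (show st.a < chevE6.nroots from ha)
        ((certFullE6.wsign w st.a : K) * t)
      rw [pairElt, pairElt, ← e, (tw f).act_mul (mul_mem hN hx) (inv_mem hN),
        (tw f).act_mul hN hx, (tw f).act_inv hN, hnf]
      group
  · -- the partner
    simp only [Bool.and_eq_true, Nat.beq_eq, Bool.not_eq_true'] at h
    obtain ⟨⟨⟨⟨⟨h1, h2⟩, h3⟩, h4⟩, h5⟩, h6⟩ := h
    refine ⟨fun hc => (Bool.noConfusion (h4.symm.trans hc)), fun _ t => ?_⟩
    have e5 : (graphE6.ε st.a : K) * (graphE6.ε st.new : K) = 1 := by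
      rw [← Int.cast_mul, intBeq_eq_one h5, Int.cast_one]
    have := haP h3 ((graphE6.ε st.new : K) * f t)
    convert this using 1
    rw [pairElt, pairElt, act_root f hnlt, act_root f ha, h2, h1, map_mul, map_intCast,
      pow_sq f hf hK, ← mul_assoc, e5, one_mul]
    exact ((comm_of_ok h6 _ _).eq).symm
  · simp only [Bool.and_eq_true, Bool.not_eq_true'] at h
    obtain ⟨h1, h2⟩ := h
    refine ⟨fun hc => (Bool.noConfusion (h2.symm.trans hc)), fun _ => ?_⟩
    have hs : isSingle st.a = false ∧ isSingle st.b = false := by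
      simp only [pairCross, Bool.and_eq_true, Bool.not_eq_true'] at h1; exact ⟨h1.1.2, h1.2⟩
    exact pairCross_mem f h1 (haP hs.1) (hbP hs.2)
  · simp only [Bool.and_eq_true] at h
    obtain ⟨⟨h1, h2⟩, h3⟩ := h
    refine ⟨fun _ s hs => ?_, fun hc => (Bool.noConfusion (h2.symm.trans hc))⟩
    have hs' : isSingle st.a = false ∧ isSingle st.b = false := by
      simp only [pairCross, Bool.and_eq_true, Bool.not_eq_true'] at h1; exact ⟨h1.1.2, h1.2⟩
    obtain ⟨t, ht⟩ := exists_trace f hf hK hs
    have := pairCross_mem f h1 (haP hs'.1) (hbP hs'.2) t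
    simp only [isSingle, Nat.beq_eq] at h2
    rwa [pairElt, act_root f hnlt, h2, intBeq_eq_one h3, Int.cast_one, one_mul,
      ← certFullE6.xg_add, ht] at this
  · simp only [Bool.and_eq_true] at h
    obtain ⟨⟨⟨h1, h2⟩, h3⟩, h4⟩ := h
    refine ⟨fun _ t ht => ?_, fun hc => (Bool.noConfusion (h4.symm.trans hc))⟩
    obtain ⟨C, hC, e⟩ := comm_of_term (K := K) h1
    have hC2 : (C : K) * (C : K) = 1 := by rcases hC with rfl | rfl <;> simp
    have e1 := e (-((C : K) * t)) 1
    rw [show (C : K) * - -((C : K) * t) * 1 = t by rw [_root_.neg_neg, mul_one, ← mul_assoc, hC2, one_mul]] at e1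
    have A := haS h2 (-((C : K) * t)) (by rw [map_neg, map_mul, map_intCast, ht])
    have B := hbS h3 (1 : K) (map_one f)
    have := mul_mem B A
    rw [e1] at this
    exact (G.mul_mem_cancel_left (mul_mem A B)).1 this
  · cases h

theorem fixIn_steps {G : Subgroup (GL chevE6.Idx K)} {w : List ℕ} (hw : ∀ p ∈ w, p < chevE6.rank)
    (hn : certFullE6.nw K w ∈ G) (hnf : (tw f).act (certFullE6.nw K w) = certFullE6.nw K w) :
    ∀ (S : List PairStep) (L : List ℕ), pairStepsOK w L S = true → (∀ r ∈ L, FixIn f G r) →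
      ∀ r ∈ pairRoots L S, FixIn f G r
  | [], L, _, hL => by simpa [pairRoots] using hL
  | st :: S, L, h, hL => by
    simp only [pairStepsOK, Bool.and_eq_true] at h
    have := fixIn_steps hw hn hnf S (st.new :: L) h.2 (by
      intro r hr
      rcases List.mem_cons.1 hr with rfl | hr
      · exact fixIn_step f hf hK hw hn hnf h.1 hL
      · exact hL r hr)
    intro r hr
    refine this r ?_
    simpa [pairRoots, List.mem_append, List.mem_cons, or_assoc, or_left_comm] using hr

end Cfsg.Agent.Lie.Chev.E6
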