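import Cfsg.Agent.Lib.Lie.Chev.TwoGenE6

/-! The certificate and the conclusion for ²E₆(q). -/

set_option autoImplicit false

namespace Cfsg.Agent.Lie.Chev.E6

open Cfsg.Lie Matrix

/-- The word of a Coxeter element of the fixed Weyl group. -/
def coxWord : List ℕ := [3, 1, 2, 4, 0, 5]

/-- The steps from the root `42`. -/
def pairData : List PairStep :=
  [
    ⟨0, 56, 42, 42⟩, ⟨1, 37, 42, 42⟩, ⟨0, 36, 37, 37⟩, ⟨0, 30, 36, 36⟩, ⟨0, 21, 30, 30⟩, ⟨0, 12, 21, 21⟩,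
    ⟨0, 22, 12, 12⟩, ⟨1, 26, 12, 12⟩, ⟨1, 23, 21, 21⟩, ⟨0, 29, 22, 22⟩, ⟨1, 10, 22, 22⟩, ⟨0, 34, 10, 10⟩,
    ⟨0, 15, 29, 29⟩, ⟨0, 58, 15, 15⟩, ⟨1, 35, 15, 15⟩, ⟨1, 13, 30, 30⟩, ⟨0, 41, 35, 35⟩, ⟨0, 50, 41, 41⟩,
    ⟨0, 59, 50, 50⟩, ⟨1, 48, 50, 50⟩, ⟨0, 45, 48, 48⟩, ⟨0, 61, 45, 45⟩, ⟨0, 49, 59, 59⟩, ⟨2, 3, 10, 26⟩,
    ⟨0, 9, 3, 3⟩, ⟨1, 5, 3, 3⟩, ⟨0, 19, 5, 5⟩, ⟨0, 33, 9, 9⟩, ⟨0, 14, 19, 19⟩, ⟨0, 43, 14, 14⟩,
    ⟨0, 40, 33, 33⟩, ⟨0, 54, 40, 40⟩, ⟨0, 64, 43, 43⟩, ⟨0, 67, 54, 54⟩, ⟨0, 55, 64, 64⟩, ⟨0, 68, 55, 55⟩,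
    ⟨0, 66, 67, 67⟩, ⟨0, 52, 66, 66⟩, ⟨0, 57, 52, 52⟩, ⟨1, 62, 52, 52⟩, ⟨0, 28, 57, 57⟩, ⟨0, 7, 28, 28⟩,
    ⟨0, 16, 7, 7⟩, ⟨1, 17, 7, 7⟩, ⟨1, 4, 16, 16⟩, ⟨1, 31, 28, 28⟩, ⟨1, 38, 57, 57⟩, ⟨3, 0, 3, 23⟩,
    ⟨0, 2, 0, 0⟩, ⟨0, 8, 2, 2⟩, ⟨0, 39, 8, 8⟩, ⟨0, 53, 39, 39⟩, ⟨0, 70, 53, 53⟩, ⟨0, 71, 70, 70⟩,
    ⟨0, 69, 71, 71⟩, ⟨0, 63, 69, 69⟩, ⟨0, 32, 63, 63⟩, ⟨0, 18, 32, 32⟩, ⟨0, 1, 18, 18⟩, ⟨4, 24, 0, 69⟩,
    ⟨0, 27, 24, 24⟩, ⟨0, 6, 27, 27⟩, ⟨0, 20, 6, 6⟩, ⟨0, 11, 20, 20⟩, ⟨0, 25, 11, 11⟩, ⟨0, 47, 25, 25⟩,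
    ⟨0, 44, 47, 47⟩, ⟨0, 65, 44, 44⟩, ⟨0, 51, 65, 65⟩, ⟨0, 60, 51, 51⟩, ⟨0, 46, 60, 60⟩]

theorem pairData_ok : pairStepsOK coxWord [42] pairData = true ∧
    ([56, 15, 42, 29, 46, 25, 39, 32].all fun r => (pairRoots [42] pairData).any (Nat.beq r)) = true ∧
    certFullE6.wl coxWord 49 = 42 ∧ isSingle 42 = false ∧
    ([56, 15, 42, 29].all fun r => !(isSingle r)) = true ∧
    ([46, 25, 39, 32].all isSingle) = true ∧
    (certFullE6.T.cartan 0 42 = -1 ∧ certFullE6.T.cartan 5 42 = 0) ∧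
    (certFullE6.T.cartan 0 49 = 0 ∧ certFullE6.T.cartan 5 49 = 1) := by
  decide +kernel

theorem two_gen {K : Type*} [Field K] [Fintype K] {q : ℕ} (hq : IsPrimePow q)
    (hK : Fintype.card K = q ^ 2) :
    ∃ a b : ↥(twistedE6 K q), Subgroup.closure ({a, b} : Set ↥(twistedE6 K q)) = ⊤ := by
  obtain ⟨f, hf⟩ := exists_qPow (e := 2) hq hK
  have hq1 := one_lt_q f hf hK
  obtain ⟨hsteps, hreach, hv, h42, hP, hS, ⟨a0, a5⟩, ⟨b0, b5⟩⟩ := pairData_ok
  obtain ⟨ζ, hζ⟩ := IsCyclic.exists_generator (α := Kˣ)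
  have hζ1 : ζ ≠ 1 := by
    intro e
    have h1 : Nat.card Kˣ = 1 := by
      have : Subsingleton Kˣ := ⟨fun u v => by
        have hu := hζ u; have hv := hζ v
        rw [e, Subgroup.zpowers_one_eq_bot, Subgroup.mem_bot] at hu hv
        rw [hu, hv]⟩
      exact Nat.card_unique
    rw [Nat.card_units, Nat.card_eq_fintype_card, hK] at h1
    have := Nat.pow_le_pow_left (show 2 ≤ q from hq1) 2
    omega
  set x : Kˣ × Kˣ × ↥(fixU f) × ↥(fixU f) := (ζ⁻¹, 1, 1, 1) with hx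
  set h := param f x with hh
  set z : ℕ → Kˣ := zOf f (ζ⁻¹, (1 : Kˣ), (1 : Kˣ), (1 : Kˣ)) with hz
  have hhz : h = certFullE6.torus z := by rw [hh, hx, hz, param_apply]; rfl
  have hfix : (tw f).act h = h := ((tw f).mem_fix.1 (param_fix f hf hK x)).2
  have z1 : z 1 = 1 ∧ z 2 = 1 ∧ z 3 = 1 ∧ z 4 = 1 ∧ z 0 = ζ⁻¹ ∧
      z 5 = Units.map (f : K →* K) ζ⁻¹ := by
    simp [hz, zOf]
  obtain ⟨z1, z2, z3, z4, z0, z5⟩ := z1
  have hch : ∀ u, certFullE6.tchar z u =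
      (ζ⁻¹) ^ certFullE6.T.cartan 0 u * (Units.map (f : K →* K) ζ⁻¹) ^ certFullE6.T.cartan 5 u := by
    intro u
    simp only [Cert.tchar, show chevE6.rank = 6 from rfl, Finset.prod_range_succ,
      Finset.prod_range_zero, one_mul, z0, z1, z2, z3, z4, z5, _root_.one_zpow, mul_one]
  have c42 : certFullE6.tchar z 42 = ζ := by
    rw [hch, a0, a5, _root_.zpow_zero, mul_one, _root_.zpow_neg, zpow_one, inv_inv]
  have c49 : certFullE6.tchar z 49 = (Units.map (f : K →* K) ζ)⁻¹ := by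
    rw [hch, b0, b5, _root_.zpow_zero, one_mul, zpow_one, map_inv]
  set ψ : Kˣ := (Units.map (f : K →* K) ζ)⁻¹ with hψ
  have hψ1 : ψ ≠ 1 := by
    intro e
    rw [hψ, inv_eq_one, Units.ext_iff, Units.coe_map, MonoidHom.coe_coe, Units.val_one] at e
    refine hζ1 (Units.ext ?_)
    rw [Units.val_one, ← pow_sq f hf hK (ζ : K), e, map_one]
  have hxh : ∀ r, r < 72 → ∀ t : K,
      h * certFullE6.xg r t = certFullE6.xg r ((certFullE6.tchar z r : K) * t) * h := fun r hr t => by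
    rw [hhz, certFullE6.torus_apply,
      certFullE6.dg_mul_xg (certFullE6.tchar_isRootCharacter _) (show r < chevE6.nroots from hr)]
  set n := certFullE6.nw K coxWord with hn
  have hw : ∀ p ∈ coxWord, p < chevE6.rank := by decide
  have hnmem : n ∈ twistedE6 K q := by
    have e : n = certFullE6.nw K [3] * certFullE6.nw K [1] * certFullE6.nw K [2, 4] *
        certFullE6.nw K [0, 5] := by
      rw [hn, coxWord, ← certFullE6.nw_append, ← certFullE6.nw_append, ← certFullE6.nw_append]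
      rfl
    rw [e]
    exact mul_mem (mul_mem (mul_mem (n_mem f hf hK _ (by decide)) (n_mem f hf hK _ (by decide)))
      (n_mem f hf hK _ (by decide))) (n_mem f hf hK _ (by decide))
  have hnf : (tw f).act n = n := ((tw f).mem_fix.1 (le_fix f hf hK hnmem)).2
  have hN : n ∈ chevE6.group K := (tw f).fix_le_group (le_fix f hf hK hnmem)
  have hH : h ∈ chevE6.group K := (tw f).fix_le_group (param_fix f hf hK x)
  set h' := n * h * n⁻¹ with hh'
  have hfix' : (tw f).act h' = h' := by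
    rw [hh', (tw f).act_mul (mul_mem hN hH) (inv_mem hN), (tw f).act_mul hN hH, (tw f).act_inv hN,
      hnf, hfix]
  have hx' : ∀ t : K, h' * certFullE6.xg 42 t = certFullE6.xg 42 ((ψ : K) * t) * h' := by
    intro t
    have hv49 : (49 : ℕ) < chevE6.nroots := by decide
    have e1 : certFullE6.xg 42 t * n =
        n * certFullE6.xg 49 ((certFullE6.wsign coxWord 49 : K) * t) := by
      rw [certFullE6.nw_mul_xg hw hv49, ← mul_assoc, certFullE6.wsign_sq, one_mul, hv]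
    have e2 : n * certFullE6.xg 49 ((ψ : K) * ((certFullE6.wsign coxWord 49 : K) * t)) =
        certFullE6.xg 42 ((ψ : K) * t) * n := by
      rw [certFullE6.nw_mul_xg hw hv49, hv, show (certFullE6.wsign coxWord 49 : K) *
          ((ψ : K) * ((certFullE6.wsign coxWord 49 : K) * t)) = (ψ : K) * t by
        linear_combination ((ψ : K) * t) * certFullE6.wsign_sq (F := K) coxWord 49]
    have e3 : n⁻¹ * certFullE6.xg 42 t =
        certFullE6.xg 49 ((certFullE6.wsign coxWord 49 : K) * t) * n⁻¹ := by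
      rw [eq_mul_inv_iff_mul_eq, mul_assoc, e1, inv_mul_cancel_left]
    calc h' * certFullE6.xg 42 t
        = n * (h * certFullE6.xg 49 ((certFullE6.wsign coxWord 49 : K) * t)) * n⁻¹ := by
          rw [hh', mul_assoc, e3]; group
      _ = n * certFullE6.xg 49 ((ψ : K) * ((certFullE6.wsign coxWord 49 : K) * t)) * (h * n⁻¹) := by
          rw [hxh 49 (by omega), c49]; group
      _ = _ := by rw [e2, hh']; group
  let P : K → GL chevE6.Idx K := pairElt f 42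
  have hmem42 : ∀ t : K, certFullE6.xg 42 t ∈ chevE6.group K := fun t =>
    certFullE6.xg_mem_group (show 42 < chevE6.nroots by decide) t
  have hequiv : ∀ {g : GL chevE6.Idx K} {u : K}, g ∈ chevE6.group K → (tw f).act g = g →
      (∀ t, g * certFullE6.xg 42 t = certFullE6.xg 42 (u * t) * g) →
      ∀ t, g * P t = P (u * t) * g := by
    intro g u hg hgf he t
    have e : g * (tw f).act (certFullE6.xg 42 t) =
        (tw f).act (certFullE6.xg 42 (u * t)) * g := by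
      have e1 := congrArg (tw f).act (he t)
      rwa [(tw f).act_mul hg (hmem42 _), (tw f).act_mul (hmem42 _) hg, hgf] at e1
    simp only [P, pairElt]
    rw [← mul_assoc, he, mul_assoc _ g, e, ← mul_assoc]
  have hh'g : h' ∈ chevE6.group K := mul_mem (mul_mem hN hH) (inv_mem hN)
  have hPh := hequiv hH hfix (u := (ζ : K)) (fun t => by rw [hxh 42 (by omega), c42])
  have hPh' := hequiv hh'g hfix' (u := (ψ : K)) hx'
  obtain ⟨r1, r2, r3, r4, -⟩ := graphE6_values.1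
  have hPadd : ∀ s t : K, P (s + t) = P s * P t := fun s t => by
    have hc : ∀ a b : K, Commute (certFullE6.xg 42 a) (certFullE6.xg 37 b) := fun a b =>
      comm_x (Or.inr ⟨rfl, rfl⟩) (by simp) (by simp) a b
    simp only [P, pairElt, act_root f (show (42 : ℕ) < 72 by omega), r3]
    rw [map_add, mul_add, certFullE6.xg_add, certFullE6.xg_add]
    exact mul2_comm (hc t _)
  have hP0 : P 0 = 1 := by
    simp only [P, pairElt, certFullE6.xg_zero, (tw f).act_one, mul_one]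
  have hPinv : ∀ t : K, (P t)⁻¹ = P (-t) := fun t =>
    inv_eq_of_mul_eq_one_right (by rw [← hPadd, add_neg_cancel, hP0])
  have hPmem : ∀ t, P t ∈ twistedE6 K q := fun t => by
    simp only [P, pairElt, act_root f (show (42 : ℕ) < 72 by omega), r3,
      show graphE6.ε 42 = 1 by decide, Int.cast_one, one_mul]
    exact gen2 f hf (r := 42) (r' := 37) (by simp) t
  have hmem : h ∈ twistedE6 K q := param_mem f hf x
  have hbmem : P 1 * n ∈ twistedE6 K q := mul_mem (hPmem 1) hnmem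
  set G := Subgroup.closure ({h, P 1 * n} : Set (GL chevE6.Idx K))
  refine ⟨⟨h, hmem⟩, ⟨_, hbmem⟩, Subgroup.map_injective (twistedE6 K q).subtype_injective ?_⟩
  rw [MonoidHom.map_closure, Set.image_pair, ← MonoidHom.range_eq_map, Subgroup.range_subtype]
  refine le_antisymm ((Subgroup.closure_le _).2 (by
    rintro g (rfl | rfl) <;> assumption)) ?_
  have hG1 : h ∈ G := Subgroup.subset_closure (by simp)
  have hG2 : P 1 * n ∈ G := Subgroup.subset_closure (by simp)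
  have hcomm : h * h' = h' * h := by
    have h1 : h ∈ chevE6.diagonalSubgroup K := by rw [hhz]; exact certFullE6.torus_mem _
    exact certFullE6.H_commutative h1 (certFullE6.nw_conj_H hw h1)
  have hc : P (1 - (ψ : K)) * h' ∈ G := by
    have : P 1 * n * h * (P 1 * n)⁻¹ ∈ G := mul_mem (mul_mem hG2 hG1) (inv_mem hG2)
    convert this using 1
    rw [sub_eq_add_neg, hPadd, mul_assoc, ← mul_one (-(ψ : K)),
      show -(ψ : K) * 1 = (ψ : K) * -1 by ring, ← hPh', ← hPinv, hh']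
    group
  have hx0 : P (((ζ : K) - 1) * (1 - (ψ : K))) ∈ G := by
    have : h * (P (1 - (ψ : K)) * h') * h⁻¹ * (P (1 - (ψ : K)) * h')⁻¹ ∈ G :=
      mul_mem (mul_mem (mul_mem hG1 hc) (inv_mem hG1)) (inv_mem hc)
    convert this using 1
    rw [← mul_assoc h, hPh, mul_assoc _ h, hcomm,
      show ((ζ : K) - 1) * (1 - (ψ : K)) = (ζ : K) * (1 - (ψ : K)) + -(1 - (ψ : K)) by ring,
      hPadd, ← hPinv]
    group
  have ht0 : ((ζ : K) - 1) * (1 - (ψ : K)) ≠ 0 :=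
    mul_ne_zero (sub_ne_zero.2 fun e => hζ1 (Units.ext e))
      (sub_ne_zero.2 fun e => hψ1 (Units.ext e.symm))
  have hroot : ∀ t : K, P t ∈ G := by
    have hk : ∀ k : ℕ, P ((ζ : K) ^ k * (((ζ : K) - 1) * (1 - (ψ : K)))) ∈ G := by
      intro k
      induction k with
      | zero => simpa using hx0
      | succ k ih =>
        have := mul_mem (mul_mem hG1 ih) (inv_mem hG1)
        rwa [hPh, mul_inv_cancel_right, ← mul_assoc, ← pow_succ'] at this
    intro t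
    by_cases h0 : t = 0
    · rw [h0, hP0]; exact one_mem G
    obtain ⟨k, hk'⟩ : Units.mk0 t h0 * (Units.mk0 _ ht0)⁻¹ ∈ Submonoid.powers ζ :=
      mem_powers_iff_mem_zpowers.2 (hζ _)
    have e : (ζ : K) ^ k = t * (((ζ : K) - 1) * (1 - (ψ : K)))⁻¹ := by
      rw [← Units.val_pow_eq_pow_val]
      change ζ ^ k = _ at hk'
      rw [hk']; simp
    have := hk k
    rwa [e, inv_mul_cancel_right₀ ht0] at this
  have hnG : n ∈ G := (G.mul_mem_cancel_left (hroot 1)).1 hG2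
  have hK' := fixIn_steps f hf hK hw hnG hnf pairData [42] hsteps (by
    simp only [List.mem_singleton, forall_eq]
    exact ⟨fun e => Bool.noConfusion (h42.symm.trans e), fun _ => hroot⟩)
  simp only [List.all_eq_true, List.any_eq_true, Nat.beq_eq, Bool.not_eq_true'] at hreach hP hS
  have hin : ∀ r ∈ [56, 15, 42, 29, 46, 25, 39, 32], FixIn f G r := fun r hr => by
    obtain ⟨y, hy, rfl⟩ := hreach r hr
    exact hK' _ hy
  refine (Subgroup.closure_le _).2 ?_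
  rintro g ⟨w', hw', hg⟩
  obtain rfl := eq_wordProd certFullE6 hg
  obtain ⟨⟨g1, -, g3, -, -, -, g7, -, g9, -, -, -⟩, he⟩ := graphE6_values
  simp only [List.all_eq_true, beq_iff_eq] at he
  rcases hw' with ⟨t, ht, r, hr, rfl⟩ | ⟨t, rs, hrs, rfl⟩
  · simp only [List.map_cons, List.map_nil, List.prod_cons, List.prod_nil, mul_one]
    have hr' : r ∈ [46, 25, 39, 32] := hr
    exact (hin r (List.mem_append_right [56, 15, 42, 29] hr')).1 (hS r hr') t (by rw [hf, ht])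
  · simp only [e6p1, e6p6, e6m1, e6m6, e6p3, e6p5, e6m3, e6m5, List.mem_cons, List.not_mem_nil,
      or_false] at hrs
    simp only [List.map_cons, List.map_nil, List.prod_cons, List.prod_nil, mul_one, ← hf]
    rcases hrs with rfl | rfl | rfl | rfl
    · have := (hin 56 (by simp)).2 (hP 56 (by simp)) t
      rwa [pairElt, act_root f (by omega), g1, he 56 (by simp), Int.cast_one, one_mul] at this
    · have := (hin 15 (by simp)).2 (hP 15 (by simp)) t
      rwa [pairElt, act_root f (by omega), g7, he 15 (by simp), Int.cast_one, one_mul] at this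
    · have := (hin 42 (by simp)).2 (hP 42 (by simp)) t
      rwa [pairElt, act_root f (by omega), g3, he 42 (by simp), Int.cast_one, one_mul] at this
    · have := (hin 29 (by simp)).2 (hP 29 (by simp)) t
      rwa [pairElt, act_root f (by omega), g9, he 29 (by simp), Int.cast_one, one_mul] at this

end Cfsg.Agent.Lie.Chev.E6
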