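import Cfsg.Agent.Lib.Lie.Chev.EvenInv.ReeSearch
import Cfsg.Agent.Lib.Lie.Chev.TwistOutF4

/-! The large Ree groups are generated by a torus element and a root element times a monomial
element. The root element is taken in the last orbit of type B2; its images under the rotation of
the Weyl group give, with commutators, a leading element in each orbit. -/

set_option autoImplicit false
set_option maxRecDepth 8000

namespace Cfsg.Agent.Lie.Chev.F4Ree

open Cfsg.Lie

/-- The rotation of the Weyl group. -/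
def rotWord : List ℕ := [0, 3, 1, 2, 1, 2]

/-- The rotation repeated. -/
def rotR : ℕ → ℕ → ℕ
  | 0, r => r
  | k + 1, r => certFullF4.T.wlT rotWord (rotR k r)

/-- The first exponent of the torus element on a root. -/
def wA (r : ℕ) : ℤ := certFullF4.T.cartan 3 r

/-- The second exponent of the torus element on a root. -/
def wB (r : ℕ) : ℤ := certFullF4.T.cartan 0 r

/-- The norm of a pair of exponents is a power of two. -/
def unitNorm (A B : ℤ) : Bool :=
  let n := (2 * A * A - B * B).natAbs
  Nat.beq n 1 || Nat.beq n 2 || Nat.beq n 4 || Nat.beq n 8 || Nat.beq n 16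

/-- The turn used for an orbit. -/
def turn (j : ℕ) : ℕ := bif Nat.beq j 9 then 1 else 0

/-- The weights are usable. -/
def checkWeights : Bool :=
  ((List.range 48).all fun r =>
    Nat.beq (rotR 1 (rotR 7 r)) r && Nat.blt (rotR 1 r) 48 && Nat.blt (rotR 7 r) 48) &&
  (List.range 12).all fun j =>
    unitNorm (wA (rotR (8 * turn j - turn j) (oa j))) (wB (rotR (8 * turn j - turn j) (oa j)))

theorem checkWeights_ok : checkWeights = true := by decide +kernel

/-- The weights on the last group of type B2, before and after one turn. -/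
def checkLastGroup : Bool :=
  decide ([29, 41, 44, 47].map (fun r => (wA r, wB r)) = [(1, -1), (-1, 2), (0, 1), (1, 0)]) &&
    decide ([29, 41, 44, 47].map (fun r => (wA (rotR 7 r), wB (rotR 7 r))) =
      [(0, 1), (1, 0), (1, 1), (1, 2)]) &&
    decide (orootsOf 5 = [29, 41, 44]) && decide (orootsOf 11 = [44, 47])

theorem checkLastGroup_ok : checkLastGroup = true := by decide +kernel

/-- A product, a commutator or a turned element. -/
inductive LeadOp where
  | prod (a b : ℕ)
  | comm (a b : ℕ)
  | turned (a k : ℕ)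

/-- The word of an operation on standard elements. -/
def leadWord : LeadOp → List ℕ
  | .prod a b => orootsOf a ++ orootsOf b
  | .comm a b => orootsOf a ++ orootsOf b ++ (orootsOf a).reverse ++ (orootsOf b).reverse
  | .turned a k => (orootsOf a).map (rotR k)

/-- The standard elements used by an operation. -/
def leadUses : LeadOp → List ℕ
  | .prod a b => [a, b]
  | .comm a b => [a, b]
  | .turned a _ => [a]

/-- The operations give the standard elements of all orbits. -/
def leadData : List (ℕ × LeadOp) :=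
  [(4, .turned 5 1), (1, .turned 5 2), (2, .turned 5 7), (11, .prod 5 5), (10, .prod 4 4),
    (3, .prod 1 1), (7, .prod 2 2), (9, .comm 4 5), (6, .comm 1 4), (8, .comm 2 5),
    (0, .turned 9 6)]

/-- The operations are justified. -/
def checkLeads : List ℕ → List (ℕ × LeadOp) → Bool
  | known, [] => (List.range 12).all fun j => known.any (Nat.beq j)
  | known, (j, op) :: l =>
    Nat.blt j 12 && (leadUses op).all (fun a => known.any (Nat.beq a)) &&
      (leadWord op).all (fun r => Nat.ble 24 r && Nat.blt r 48) &&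
      decide (certFullF4.T.collectOdd (leadWord op) = certFullF4.T.collectOdd (orootsOf j)) &&
      checkLeads (j :: known) l

theorem checkLeads_ok : checkLeads [5] leadData = true := by decide +kernel

variable {K : Type*} [Field K] [CharP K 2]

theorem rotWord_lt : ∀ p ∈ rotWord, p < chevF4.rank := by
  intro p hp
  rw [F4.node_values.2.2.2.2.1]
  simp only [rotWord, List.mem_cons, List.not_mem_nil, or_false] at hp
  omega

theorem rotR_lt {r : ℕ} (hr : r < 48) : ∀ k, rotR k r < 48
  | 0 => hr
  | k + 1 => by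
    have h := checkWeights_ok
    simp only [checkWeights, Bool.and_eq_true, List.all_eq_true, List.mem_range, Nat.blt_eq] at h
    exact (h.1 (rotR k r) (rotR_lt hr k)).1.2

variable (K) in
/-- The monomial element of the rotation. -/
noncomputable def rotElt : GL chevF4.Idx K := certFullF4.nw K rotWord

theorem rotElt_pow_conj : ∀ (k : ℕ) {r : ℕ}, r < 48 → ∀ t : K,
    rotElt K ^ k * certFullF4.xg r t * (rotElt K ^ k)⁻¹ = certFullF4.xg (rotR k r) t := by
  intro k
  induction k with
  | zero => intro r _ t; simp [rotR]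
  | succ k ih =>
    intro r hr t
    have hs : rotR k r < chevF4.nroots := by rw [nroots_F4]; exact rotR_lt hr k
    rw [pow_succ', show rotElt K * rotElt K ^ k * certFullF4.xg r t * (rotElt K * rotElt K ^ k)⁻¹ =
      rotElt K * (rotElt K ^ k * certFullF4.xg r t * (rotElt K ^ k)⁻¹) * (rotElt K)⁻¹ by group,
      ih hr, rotElt, certFullF4.nw_mul_xg rotWord_lt hs,
      F4.eq_one_of_sq (certFullF4.wsign_sq (F := K) rotWord (rotR k r)), one_mul,
      mul_inv_cancel_right, rotR, certFullF4.wlT_eq]

theorem rotElt_pow_conj_prod (k : ℕ) : ∀ l : List (ℕ × K), (∀ p ∈ l, p.1 < 48) →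
    rotElt K ^ k * rootProd l * (rotElt K ^ k)⁻¹ =
      rootProd (l.map fun p => (rotR k p.1, p.2))
  | [], _ => by simp [rootProd]
  | p :: l, hl => by
    obtain ⟨h1, h2⟩ := List.forall_mem_cons.1 hl
    rw [List.map_cons, rootProd_cons, rootProd_cons, ← rotElt_pow_conj k h1,
      ← rotElt_pow_conj_prod k l h2]
    group

theorem rootWord_eq_prod (W : List ℕ) :
    certFullF4.rootWord K W = rootProd (W.map fun r => (r, (1 : K))) := by
  simp [rootProd, CertFull.rootWord, List.map_map, Function.comp_def]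

theorem rootWord_reverse : ∀ A : List ℕ,
    certFullF4.rootWord K A.reverse = (certFullF4.rootWord K A)⁻¹
  | [] => by simp [CertFull.rootWord]
  | a :: A => by
    rw [List.reverse_cons, certFullF4.rootWord_append, rootWord_reverse A]
    simp [CertFull.rootWord, certFullF4.xg_inv_char2]

variable (f : K →+* K)

/-- The weight of the torus element on a root. -/
noncomputable def wt (w : Kˣ) (r : ℕ) : Kˣ :=
  w ^ wA r * Units.map (f : K →* K) w ^ wB r

/-- The torus element. -/
noncomputable def torElt (w : Kˣ) : GL chevF4.Idx K := F4.param f (w, 1)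

variable [ExpChar K 2] [Fintype K] {m : ℕ} (hf : ∀ t, f t = t ^ 2 ^ m)
  (hK : Fintype.card K = 2 ^ (2 * m + 1))

omit [ExpChar K 2] [Fintype K] in
theorem torElt_conj (w : Kˣ) {r : ℕ} (hr : r < 48) (t : K) :
    torElt f w * certFullF4.xg r t * (torElt f w)⁻¹ = certFullF4.xg r ((wt f w r : K) * t) := by
  show certFullF4.torus (F4.zOf f (w, 1)) * certFullF4.xg r t *
    (certFullF4.torus (F4.zOf f (w, 1)))⁻¹ = _
  rw [certFullF4.torus_conj_xg _ (by rw [nroots_F4]; exact hr)]
  obtain ⟨z0, z1, z2, z3⟩ := F4.zOf_apply f (w, 1)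
  have e : certFullF4.tchar (F4.zOf f (w, 1)) r = wt f w r := by
    rw [Cert.tchar, F4.node_values.2.2.2.2.1, Finset.prod_range_succ, Finset.prod_range_succ,
      Finset.prod_range_succ, Finset.prod_range_one, z0, z1, z2, z3, wt, wA, wB]
    simp only [map_one, one_zpow, mul_one]
    exact mul_comm _ _
  rw [e]

omit [ExpChar K 2] [Fintype K] in
/-- A turned torus element scales the roots. -/
theorem turned_conj (w : Kˣ) {k r : ℕ} (hk : k ≤ 1) (hr : r < 48) (t : K) :
    rotElt K ^ k * torElt f w * (rotElt K ^ k)⁻¹ * certFullF4.xg r t *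
        (rotElt K ^ k * torElt f w * (rotElt K ^ k)⁻¹)⁻¹ =
      certFullF4.xg r ((wt f w (rotR (8 * k - k) r) : K) * t) := by
  have h := checkWeights_ok
  simp only [checkWeights, Bool.and_eq_true, List.all_eq_true, List.mem_range, Nat.blt_eq,
    Nat.beq_eq] at h
  obtain ⟨⟨he, -⟩, hlt⟩ := h.1 r hr
  rcases (show k = 0 ∨ k = 1 by omega) with rfl | rfl
  · simpa [rotR] using torElt_conj f w hr t
  show _ = certFullF4.xg r ((wt f w (rotR 7 r) : K) * t)
  have e1 := rotElt_pow_conj (K := K) 1 hlt t
  have e2 := rotElt_pow_conj (K := K) 1 hlt ((wt f w (rotR 7 r) : K) * t)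
  rw [he] at e1 e2
  rw [← e2, ← e1, ← torElt_conj f w hlt t]
  group

include hf hK

/-- The weights of a root with unit norm exhaust the units. -/
theorem exists_weight {A B : ℤ} (h : unitNorm A B = true) (u : Kˣ) :
    ∃ w : Kˣ, w ^ A * Units.map (f : K →* K) w ^ B = u := by
  set g : Kˣ →* Kˣ := Units.map (f : K →* K) with hg
  let φ : Kˣ → Kˣ := fun w => w ^ A * g w ^ B
  have hgg : ∀ w, g (g w) ^ (2 : ℤ) = w := fun w => by
    ext
    rw [zpow_two, Units.val_mul]
    simp only [hg, Units.coe_map, MonoidHom.coe_coe]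
    rw [← pow_two]
    exact F4.ff_sq f hf hK (w : K)
  have hker : ∀ w, φ w = 1 → w = 1 := by
    intro w hw
    have h1 : g w ^ (2 * A) * w ^ B = 1 := by
      have := congrArg (fun x => g x ^ (2 : ℤ)) hw
      simp only [φ, map_mul, map_zpow, map_one, one_zpow, mul_zpow, ← _root_.zpow_mul] at this
      rwa [mul_comm A, mul_comm B, _root_.zpow_mul (g (g w)), hgg] at this
    have h2 : w ^ (2 * A * A - B * B) = 1 := by
      have e : w ^ (2 * A * A - B * B) =
          (w ^ A * g w ^ B) ^ (2 * A) / (g w ^ (2 * A) * w ^ B) ^ B := by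
        apply Additive.ofMul.injective
        simp only [ofMul_div, ofMul_mul, ofMul_zpow]
        module
      rw [e, h1, show w ^ A * g w ^ B = 1 from hw]
      simp
    obtain ⟨i, hi⟩ : ∃ i, (2 * A * A - B * B).natAbs = 2 ^ i := by
      simp only [unitNorm, Bool.or_eq_true, Nat.beq_eq] at h
      rcases h with (((h | h) | h) | h) | h
      exacts [⟨0, h⟩, ⟨1, h⟩, ⟨2, h⟩, ⟨3, h⟩, ⟨4, h⟩]
    have h3 : w ^ 2 ^ i = 1 := by rw [← hi]; exact pow_natAbs_eq_one.2 h2
    refine Units.ext ((iterateFrobenius K 2 i).injective ?_)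
    rw [iterateFrobenius_def, ← Units.val_pow_eq_pow_val, h3, Units.val_one, map_one]
  have hmul : ∀ a b, φ (a * b⁻¹) = φ a * (φ b)⁻¹ := fun a b => by
    simp only [φ, map_mul, map_inv, mul_zpow, inv_zpow, _root_.mul_inv_rev]
    simp only [mul_comm, mul_left_comm, mul_assoc]
  have hinj : Function.Injective φ := fun a b e => by
    have := hker (a * b⁻¹) (by rw [hmul, e, mul_inv_cancel])
    exact mul_inv_eq_one.1 this
  exact (Finite.injective_iff_surjective.1 hinj) u

omit hf hK [ExpChar K 2] [Fintype K] [CharP K 2] in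
/-- Regrouping a product of two. -/
theorem regroup {G : Type*} [Group G] {A1 B1 C1 A2 B2 C2 C D : G}
    (hsw : B1 * A2 = A2 * B1 * (C * D)) (h1 : Commute C1 A2) (h2 : Commute C1 B2)
    (h3 : Commute (C * D) B2) (h4 : Commute D C1) (h5 : Commute D C2) :
    A1 * B1 * C1 * (A2 * B2 * C2) = A1 * A2 * (B1 * B2) * (C * C1 * C2 * D) := by
  calc A1 * B1 * C1 * (A2 * B2 * C2) = A1 * B1 * (C1 * A2) * B2 * C2 := by group
    _ = A1 * (B1 * A2) * (C1 * B2) * C2 := by rw [h1.eq]; group
    _ = A1 * A2 * B1 * ((C * D) * B2) * C1 * C2 := by rw [hsw, h2.eq]; group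
    _ = A1 * A2 * (B1 * B2) * (C * (D * C1) * C2) := by rw [h3.eq]; group
    _ = A1 * A2 * (B1 * B2) * (C * C1 * (D * C2)) := by rw [h4.eq]; group
    _ = _ := by rw [h5.eq]; group

omit hf hK [ExpChar K 2] [Fintype K] [CharP K 2] in
theorem centre_values : ([29, 41, 44, 47].all fun a => [44, 47].all fun b => Nat.beq b a ||
    (!(Nat.beq b (certFullF4.T.neg a)) && (certFullF4.T.oddTerms a b).isEmpty)) = true := by
  decide +kernel

omit hf hK [ExpChar K 2] [Fintype K] in
/-- The roots 44 and 47 are central in the last group of type B2. -/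
theorem centre_comm {a b : ℕ} (ha : a ∈ [29, 41, 44, 47]) (hb : b ∈ [44, 47]) (v u : K) :
    Commute (certFullF4.xg a v) (certFullF4.xg b u) := by
  by_cases hab : b = a
  · subst hab
    show certFullF4.xg b v * certFullF4.xg b u = certFullF4.xg b u * certFullF4.xg b v
    rw [← certFullF4.xg_add, ← certFullF4.xg_add, add_comm]
  have h := centre_values
  simp only [List.all_eq_true, Bool.or_eq_true, Bool.and_eq_true, Nat.beq_eq, Bool.not_eq_true',
    List.isEmpty_iff] at h
  obtain ⟨hn, he⟩ := (h a ha b hb).resolve_left hab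
  have hlt : a < chevF4.nroots ∧ b < chevF4.nroots := by
    rw [nroots_F4]
    simp only [List.mem_cons, List.not_mem_nil, or_false] at ha hb
    omega
  have hneg : b ≠ chevF4.neg a := fun e => by
    rw [certFullF4.neg_eq hlt.1] at e
    rw [beq_of_eq e] at hn
    exact Bool.noConfusion hn
  have hsw := certFullF4.xg_comm hlt.1 hlt.2 hab hneg v u
  rw [List.prod_eq_one, mul_one] at hsw
  · exact hsw.symm
  intro g hg
  obtain ⟨z, hz, rfl⟩ := List.mem_map.1 hg
  cases ho : isOdd z.2.1
  · rw [CertFull.intCast_not_odd ho, zero_mul, zero_mul, certFullF4.xg_zero]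
  · have : z ∈ certFullF4.T.oddTerms a b := List.mem_filter.2 ⟨hz, ho⟩
    rw [he] at this
    simp at this

omit hf hK [ExpChar K 2] [Fintype K] [CharP K 2] in
theorem std_five (v : K) : std f 5 v =
    certFullF4.xg 29 (f v) * certFullF4.xg 41 v * certFullF4.xg 44 (f v * v) := by
  simp [std, stdList, rootProd, oa, ob, oc, reeOrd, mul_assoc]

omit hf hK [ExpChar K 2] [Fintype K] [CharP K 2] in
theorem std_eleven (v : K) : std f 11 v = certFullF4.xg 44 (f v) * certFullF4.xg 47 v := by
  simp [std, stdList, rootProd, oa, ob, oc, reeOrd]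

omit hf hK [ExpChar K 2] [Fintype K] in
theorem std_eleven_add (s u : K) : std f 11 s * std f 11 u = std f 11 (s + u) := by
  rw [std_eleven, std_eleven, std_eleven, map_add, certFullF4.xg_add 44,
    certFullF4.xg_add 47,
    show certFullF4.xg 44 (f s) * certFullF4.xg 47 s *
      (certFullF4.xg 44 (f u) * certFullF4.xg 47 u) =
      certFullF4.xg 44 (f s) * (certFullF4.xg 47 s * certFullF4.xg 44 (f u)) *
        certFullF4.xg 47 u by group, (centre_comm (by simp) (by simp) _ _).eq]
  group

omit hf hK [ExpChar K 2] [Fintype K] in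
theorem std_eleven_five (s u : K) : Commute (std f 11 s) (std f 5 u) := by
  rw [std_eleven, std_five]
  exact (((centre_comm (by simp) (by simp) _ _).symm.mul_left
      (centre_comm (by simp) (by simp) _ _).symm).mul_right
    ((centre_comm (by simp) (by simp) _ _).symm.mul_left
      (centre_comm (by simp) (by simp) _ _).symm)).mul_right
    ((centre_comm (by simp) (by simp) _ _).symm.mul_left
      (centre_comm (by simp) (by simp) _ _).symm)

theorem std_five_mul (t u : K) :
    std f 5 t * std f 5 u = std f 5 (t + u) * std f 11 (f u ^ 2 * t) := by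
  have hl : (certFullF4.T.commTerms 29 41).map (fun x => (x.1, isOdd x.2.1, x.2.2.1, x.2.2.2)) =
      [(44, true, 1, 1), (47, true, 2, 1)] := by decide +kernel
  have p29 : certFullF4.Pos 29 := pos_iff.2 (by omega)
  have p41 : certFullF4.Pos 41 := pos_iff.2 (by omega)
  have hsw := certFullF4.xg_comm p29.2 p41.2 (by omega)
    (fun e => ((certFullF4.not_pos_iff p29.2).2 (e ▸ p41)) p29) (f u) t
  rcases hL : certFullF4.T.commTerms 29 41 with _ | ⟨x, _ | ⟨y, _ | ⟨z, rest⟩⟩⟩
  · simp [hL] at hl
  · simp [hL] at hl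
  · simp only [hL, List.map_cons, List.map_nil, List.cons.injEq, Prod.mk.injEq, and_true] at hl
    obtain ⟨⟨x1, xo, xi, xj⟩, y1, yo, yi, yj⟩ := hl
    rw [hL] at hsw
    simp only [List.map_cons, List.map_nil, List.prod_cons, List.prod_nil, mul_one,
      CertFull.intCast_isOdd xo, CertFull.intCast_isOdd yo, x1, xi, xj, y1, yi, yj, one_mul,
      pow_one, CharTwo.neg_eq] at hsw
    have c : ∀ a ∈ [29, 41, 44, 47], ∀ b ∈ [44, 47], ∀ v w : K,
        Commute (certFullF4.xg b v) (certFullF4.xg a w) :=
      fun a ha b hb v w => (centre_comm ha hb w v).symm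
    rw [std_five, std_five, std_five, std_eleven,
      regroup hsw (c 29 (by simp) 44 (by simp) _ _) (c 41 (by simp) 44 (by simp) _ _)
        ((c 41 (by simp) 44 (by simp) _ _).mul_left (c 41 (by simp) 47 (by simp) _ _))
        (c 44 (by simp) 47 (by simp) _ _) (c 44 (by simp) 47 (by simp) _ _),
      ← certFullF4.xg_add 29, ← certFullF4.xg_add 41, ← certFullF4.xg_add 44,
      ← certFullF4.xg_add 44, ← map_add,
      mul_assoc _ (certFullF4.xg 44 (f (t + u) * (t + u))) _,
      ← mul_assoc (certFullF4.xg 44 (f (t + u) * (t + u))), ← certFullF4.xg_add 44]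
    congr 3
    rw [map_add, map_mul, map_pow, F4.ff_sq f hf hK]
    linear_combination -(u * f t) * CharTwo.two_eq_zero (R := K)
  · simp [hL] at hl

omit [ExpChar K 2] [Fintype K] hf hK in
/-- A scaling of the last group of type B2. -/
theorem scale_five {x : GL chevF4.Idx K} {χ : ℕ → K}
    (hx : ∀ r < 48, ∀ v : K, x * certFullF4.xg r v * x⁻¹ = certFullF4.xg r (χ r * v))
    {l : K} (hfl : f (f l) ^ 2 = l) (c41 : χ 41 = l) (c29 : χ 29 = f l) (c44 : χ 44 = f l * l)
    (c47 : χ 47 = f l ^ 2 * l) (t s : K) :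
    x * (std f 5 t * std f 11 s) * x⁻¹ = std f 5 (l * t) * std f 11 (f l ^ 2 * l * s) := by
  have e29 := hx 29 (by omega) (f t)
  have e41 := hx 41 (by omega) t
  have e44 := hx 44 (by omega) (f t * t)
  have e44' := hx 44 (by omega) (f s)
  have e47 := hx 47 (by omega) s
  rw [c29, ← map_mul] at e29
  rw [c41] at e41
  rw [c44, show f l * l * (f t * t) = f (l * t) * (l * t) by rw [map_mul]; ring] at e44
  rw [c44, show f l * l * f s = f (f l ^ 2 * l * s) by
    rw [map_mul, map_mul, map_pow, hfl]; ring] at e44'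
  rw [c47] at e47
  rw [std_five, std_five, std_eleven, std_eleven, ← e29, ← e41, ← e44, ← e44', ← e47]
  group

omit hf hK [ExpChar K 2] [Fintype K] in
theorem std_zero' (j : ℕ) : std f j (0 : K) = 1 := by
  simp [std, stdList, rootProd, certFullF4.xg_zero, List.map_map, Function.comp_def]

theorem rootProd_fix {g : GL chevF4.Idx K} (hg : g ∈ twistedF4 K (2 ^ m)) :
    g ∈ (F4.tw f).fix := F4.le_fix f hf hK hg

theorem rotElt_mem : rotElt K ∈ twistedF4 K (2 ^ m) := by
  rw [rotElt, show rotWord = [0, 3] ++ [1, 2, 1, 2] from rfl, certFullF4.nw_append]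
  exact mul_mem (F4.n_mem f hf _ (by simp [orbitsF4])) (F4.n_mem f hf _ (by simp [orbitsF4]))

/-- The standard elements of the last group of type B2 come from the two generators. -/
theorem five_mem (hm : 1 ≤ m) {M : Subgroup (GL chevF4.Idx K)} (hh : ∀ w, torElt f w ∈ M)
    (hb : std f 5 1 * rotElt K ∈ M) : ∀ t : K, std f 5 t ∈ M := by
  have hchk := checkLastGroup_ok
  simp only [checkLastGroup, Bool.and_eq_true, decide_eq_true_eq, List.map_cons, List.map_nil,
    List.cons.injEq, Prod.mk.injEq, and_true] at hchk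
  obtain ⟨⟨⟨⟨⟨A29, B29⟩, ⟨A41, B41⟩, ⟨A44, B44⟩, A47, B47⟩, ⟨C29, D29⟩, ⟨C41, D41⟩,
    ⟨C44, D44⟩, C47, D47⟩, -⟩, -⟩ := hchk
  have hff : ∀ v : K, f (f v) ^ 2 = v := F4.ff_sq f hf hK
  have hT : ∀ (w : Kˣ) (t s : K), torElt f w * (std f 5 t * std f 11 s) * (torElt f w)⁻¹ =
      std f 5 ((wt f w 41 : K) * t) *
        std f 11 (f (wt f w 41 : K) ^ 2 * (wt f w 41 : K) * s) := by
    intro w t s
    have hw0 : (w : K) ≠ 0 := w.ne_zero
    have hfw : f (w : K) ≠ 0 := (map_ne_zero f).2 hw0
    have hffw : f (f (w : K)) * f (f (w : K)) = w := by rw [← pow_two]; exact hff w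
    have e41 : (wt f w 41 : K) = (w : K)⁻¹ * (f w * f w) := by
      simp [wt, A41, B41, pow_two]
    have ef : f (wt f w 41 : K) = (f w)⁻¹ * w := by
      rw [e41, map_mul, map_mul, map_inv₀, hffw]
    refine scale_five f (χ := fun r => (wt f w r : K)) (fun r hr v => torElt_conj f w hr v)
      (hff _) rfl ?_ ?_ ?_ t s
    · rw [ef]; simp [wt, A29, B29, mul_comm]
    · rw [ef, e41]; simp [wt, A44, B44]; field_simp
    · rw [ef, e41]; simp [wt, A47, B47]; field_simp
  have hsurj : ∀ l : K, l ≠ 0 → ∃ w : Kˣ, (wt f w 41 : K) = l := fun l hl => by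
    obtain ⟨w, hw⟩ := exists_weight f hf hK (A := wA 41) (B := wB 41)
      (by rw [A41, B41]; decide) (Units.mk0 l hl)
    exact ⟨w, congrArg Units.val hw⟩
  obtain ⟨w, hw1, hw2⟩ : ∃ w : Kˣ, (w : K) ≠ 1 ∧ (wt f w 41 : K) ≠ 1 := by
    obtain ⟨l, hl0, hl1⟩ : ∃ l : K, l ≠ 0 ∧ l ≠ 1 := by
      classical
      by_contra hall
      push Not at hall
      have hsub : (Finset.univ : Finset K).card ≤ ({0, 1} : Finset K).card :=
        Finset.card_le_card fun x _ => by
          by_cases hx : x = 0
          · simp [hx]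
          · simp [hall x hx]
      rw [Finset.card_univ, hK] at hsub
      have h2 := hsub.trans Finset.card_le_two
      have := Nat.pow_le_pow_right two_pos (show 3 ≤ 2 * m + 1 by omega)
      omega
    obtain ⟨w, hw⟩ := hsurj l hl0
    refine ⟨w, fun e => hl1 ?_, by rwa [hw]⟩
    rw [← hw, show w = 1 from Units.ext (by rw [e, Units.val_one])]
    simp [wt]
  have hz0 : std f 11 (0 : K) = 1 := std_zero' f 11
  have h50 : std f 5 (0 : K) = 1 := std_zero' f 5
  have hmul : ∀ t s u r : K, std f 5 t * std f 11 s * (std f 5 u * std f 11 r) =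
      std f 5 (t + u) * std f 11 (f u ^ 2 * t + (s + r)) := by
    intro t s u r
    rw [show std f 5 t * std f 11 s * (std f 5 u * std f 11 r) =
      std f 5 t * (std f 11 s * std f 5 u) * std f 11 r by group,
      (std_eleven_five f s u).eq,
      show std f 5 t * (std f 5 u * std f 11 s) * std f 11 r =
      (std f 5 t * std f 5 u) * (std f 11 s * std f 11 r) by group, std_five_mul f hf hK,
      std_eleven_add, mul_assoc, std_eleven_add]
  set h := torElt f w
  set h' := rotElt K ^ 1 * torElt f w * (rotElt K ^ 1)⁻¹ with hh'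
  have hT' : ∀ t s : K, h' * (std f 5 t * std f 11 s) * h'⁻¹ =
      std f 5 ((w : K) * t) * std f 11 (f (w : K) ^ 2 * w * s) := by
    intro t s
    refine scale_five f (χ := fun r => (wt f w (rotR 7 r) : K))
      (fun r hr v => turned_conj f w le_rfl hr v) (hff _) ?_ ?_ ?_ ?_ t s <;>
      simp [wt, C29, D29, C41, D41, C44, D44, C47, D47, zpow_two, pow_two] <;> ring
  have hcm : h' * h * h'⁻¹ = h := by
    have hH : ∀ v : Kˣ, torElt f v ∈ chevF4.diagonalSubgroup K := fun v =>
      certFullF4.torus_mem _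
    have hn : rotElt K ^ 1 ∈ chevF4.monomialSubgroup K :=
      pow_mem (certFullF4.nw_mem_N rotWord_lt) 1
    rw [certFullF4.H_commutative (certFullF4.N_conj_H hn (hH w)) (hH w), mul_inv_cancel_right]
  set x := std f 5 (1 : K) with hx
  have hM' : x * h' * x⁻¹ ∈ M := by
    have := mul_mem (mul_mem hb (hh w)) (inv_mem hb)
    rwa [show x * rotElt K * torElt f w * (x * rotElt K)⁻¹ = x * h' * x⁻¹ by
      rw [hh', pow_one]; group] at this
  obtain ⟨t₀, ht₀, s₀, hts⟩ : ∃ t₀ : K, t₀ ≠ 0 ∧ ∃ s₀, std f 5 t₀ * std f 11 s₀ ∈ M := by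
    refine ⟨((w : K) + 1) * ((wt f w 41 : K) + 1), mul_ne_zero
      (fun e => hw1 (by linear_combination e - CharTwo.two_eq_zero (R := K)))
      (fun e => hw2 (by linear_combination e - CharTwo.two_eq_zero (R := K))), ?_⟩
    have h1 := mul_mem (mul_mem hM' (hh w)) (mul_mem (inv_mem hM') (inv_mem (hh w)))
    have ex : x = std f 5 1 * std f 11 0 := by rw [hz0, mul_one]
    have e1 : x⁻¹ = std f 5 1 * std f 11 (f 1 ^ 2 * 1) := inv_eq_of_mul_eq_one_right (by
      rw [ex, hmul, CharTwo.add_self_eq_zero, h50, one_mul, zero_add, CharTwo.add_self_eq_zero,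
        hz0])
    rw [show x * h' * x⁻¹ * h * ((x * h' * x⁻¹)⁻¹ * h⁻¹) =
      x * (h' * x⁻¹ * h'⁻¹) * (h' * (h * x * h⁻¹) * h'⁻¹) * (h' * h * h'⁻¹ * x⁻¹ * h⁻¹) by group,
      hcm, e1, ex, hT', hT, hT', hT, hmul, hmul, hmul] at h1
    rw [show ((w : K) + 1) * ((wt f w 41 : K) + 1) =
      1 + (w : K) * 1 + (w : K) * ((wt f w 41 : K) * 1) + (wt f w 41 : K) * 1 by ring]
    exact ⟨_, h1⟩
  have hall : ∀ t : K, t ≠ 0 → ∃ s, std f 5 t * std f 11 s ∈ M := fun t ht => by
    obtain ⟨v, hv⟩ := hsurj (t / t₀) (div_ne_zero ht ht₀)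
    have := mul_mem (mul_mem (hh v) hts) (inv_mem (hh v))
    rw [hT, hv, div_mul_cancel₀ _ ht₀] at this
    exact ⟨_, this⟩
  have hz : ∀ u : K, std f 11 u ∈ M := by
    intro u
    by_cases hu : u = 0
    · rw [hu, hz0]; exact one_mem M
    obtain ⟨t, ht⟩ : ∃ t : Kˣ, (t : K) * f (t : K) ^ 2 = u := by
      obtain ⟨t, ht⟩ := exists_weight f hf hK (A := 1) (B := 2) (by decide) (Units.mk0 u hu)
      refine ⟨t, ?_⟩
      have := congrArg Units.val ht
      simpa [zpow_two, pow_two] using this
    obtain ⟨s, hs⟩ := hall t t.ne_zero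
    have := mul_mem hs hs
    rw [hmul, CharTwo.add_self_eq_zero, h50, one_mul, CharTwo.add_self_eq_zero, add_zero,
      mul_comm, ht] at this
    exact this
  intro t
  by_cases ht : t = 0
  · rw [ht, h50]; exact one_mem M
  obtain ⟨s, hs⟩ := hall t ht
  have := mul_mem hs (hz s)
  rwa [mul_assoc, std_eleven_add, CharTwo.add_self_eq_zero, hz0, mul_one] at this

omit hK [Fintype K] in
/-- The standard elements at one are produced from that of the last group. -/
theorem leads_mem {M : Subgroup (GL chevF4.Idx K)} (hn : rotElt K ∈ M) :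
    ∀ (l : List (ℕ × LeadOp)) (known : List ℕ), checkLeads known l = true →
      (∀ j ∈ known, std f j 1 ∈ M) → ∀ j < 12, std f j 1 ∈ M := by
  intro l
  induction l with
  | nil =>
    intro known hc hk j hj
    simp only [checkLeads, List.all_eq_true, List.mem_range, List.any_eq_true, Nat.beq_eq] at hc
    obtain ⟨a, ha, rfl⟩ := hc j hj
    exact hk _ ha
  | cons p l ih =>
    intro known hc hk
    obtain ⟨i, op⟩ := p
    simp only [checkLeads, Bool.and_eq_true, List.all_eq_true, List.any_eq_true, Nat.beq_eq,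
      decide_eq_true_eq, Nat.blt_eq, Nat.ble_eq] at hc
    obtain ⟨⟨⟨⟨hi, huse⟩, hpos⟩, heq⟩, hrest⟩ := hc
    refine ih (i :: known) hrest fun j hj => ?_
    rcases List.mem_cons.1 hj with rfl | hj
    swap
    · exact hk j hj
    have hu : ∀ a ∈ leadUses op, certFullF4.rootWord K (orootsOf a) ∈ M := fun a ha => by
      obtain ⟨a', ha', rfl⟩ := huse a ha
      exact std_one f a ▸ hk _ ha'
    rw [std_one, ← (certFullF4.collectOdd_spec (F := K) _ fun r hr => (oroots_spec hi r hr).1).1,
      ← heq, (certFullF4.collectOdd_spec (F := K) _ fun r hr => pos_iff.2 (hpos r hr)).1]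
    cases op with
    | prod a b =>
      rw [leadWord, certFullF4.rootWord_append]
      exact mul_mem (hu a (by simp [leadUses])) (hu b (by simp [leadUses]))
    | comm a b =>
      simp only [leadWord, certFullF4.rootWord_append, rootWord_reverse]
      exact mul_mem (mul_mem (mul_mem (hu a (by simp [leadUses])) (hu b (by simp [leadUses])))
        (inv_mem (hu a (by simp [leadUses])))) (inv_mem (hu b (by simp [leadUses])))
    | turned a k =>
      have e := rotElt_pow_conj_prod (K := K) k ((orootsOf a).map fun r => (r, (1 : K))) (by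
        intro p hp
        obtain ⟨r, hr, rfl⟩ := List.mem_map.1 hp
        obtain ⟨a', -, -⟩ := huse a (by simp [leadUses])
        by_cases ha : a < 12
        · exact (pos_iff.1 (oroots_spec ha r hr).1).2
        · simp only [orootsOf, oa, ob, oc, List.mem_cons] at hr
          rw [List.getD_eq_default _ _ (by simp [reeOrd]; omega),
            List.getD_eq_default _ _ (by simp [reeOrd]; omega),
            List.getD_eq_default _ _ (by simp; omega)] at hr
          simp at hr; omega)
      rw [← rootWord_eq_prod, List.map_map,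
        show ((fun p : ℕ × K => (rotR k p.1, p.2)) ∘ fun r => (r, (1 : K))) =
          (fun r => (r, (1 : K))) ∘ rotR k from rfl, ← List.map_map, ← rootWord_eq_prod] at e
      rw [leadWord, ← e]
      exact mul_mem (mul_mem (pow_mem hn k) (hu a (by simp [leadUses]))) (inv_mem (pow_mem hn k))

/-- The fixed part of the unipotent radical is reached. -/
theorem tail_mem {M : Subgroup (GL chevF4.Idx K)} (hh : ∀ w, torElt f w ∈ M) (hn : rotElt K ∈ M)
    (hlead : ∀ j < 12, std f j 1 ∈ M) : ∀ i ≤ 12, ∀ g ∈ (F4.tw f).fix,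
      g ∈ certFullF4.rootSpan K (from_ (2 * (12 - i))) → g ∈ M := by
  intro i
  induction i with
  | zero =>
    intro _ g _ hg
    rw [certFullF4.rootSpan_eq_bot (fun q hq h => by
      have := (ps_spec hq).1
      simp only [from_] at h
      omega), Subgroup.mem_bot] at hg
    exact hg ▸ one_mem M
  | succ i ih =>
    intro hi g hfix hg
    have hj : 12 - (i + 1) < 12 := by omega
    set j := 12 - (i + 1) with hjd
    have hnext : 2 * (12 - i) = 2 * j + 2 := by omega
    have ih' := ih (by omega)
    rw [hnext] at ih'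
    obtain ⟨t, R, hR, hRf, rfl, -⟩ := exists_std f hf hK hj hg hfix
    refine mul_mem ?_ (ih' R hRf hR)
    by_cases ht : t = 0
    · rw [ht, std]
      refine list_prod_mem fun y hy => ?_
      obtain ⟨p, hp, rfl⟩ := List.mem_map.1 hy
      have hp0 : p.2 = 0 := by
        simp only [stdList, List.mem_cons, List.mem_map] at hp
        rcases hp with rfl | rfl | ⟨c, -, rfl⟩ <;> simp
      rw [hp0, certFullF4.xg_zero]; exact one_mem M
    have hchk := checkWeights_ok
    simp only [checkWeights, Bool.and_eq_true, List.all_eq_true, List.mem_range] at hchk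
    obtain ⟨w, hw⟩ := exists_weight f hf hK (hchk.2 j hj)
      (Units.mk0 (f t) ((map_ne_zero f).2 ht))
    have hk : turn j ≤ 1 := by unfold turn; cases Nat.beq j 9 <;> simp
    set H := rotElt K ^ turn j * torElt f w * (rotElt K ^ turn j)⁻¹ with hH
    have hHM : H ∈ M := mul_mem (mul_mem (pow_mem hn _) (hh w)) (inv_mem (pow_mem hn _))
    have hHfix : H ∈ (F4.tw f).fix :=
      mul_mem (mul_mem (pow_mem (rootProd_fix f hf hK (rotElt_mem f hf hK)) _)
        (F4.param_fix f hf hK (w, 1)))
        (inv_mem (pow_mem (rootProd_fix f hf hK (rotElt_mem f hf hK)) _))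
    have hconj : ∀ {n : ℕ} {y : GL chevF4.Idx K}, y ∈ certFullF4.rootSpan K (from_ n) →
        H * y * H⁻¹ ∈ certFullF4.rootSpan K (from_ n) := by
      intro n y hy
      induction hy using Subgroup.closure_induction with
      | mem y hy =>
        obtain ⟨q, v, hq, hP, rfl⟩ := hy
        rw [hH, turned_conj f w hk (pos_iff.1 hq).2]
        exact certFullF4.xg_mem_rootSpan hq hP _
      | one => simp [one_mem]
      | mul a b _ _ ha hb =>
        rw [show H * (a * b) * H⁻¹ = H * a * H⁻¹ * (H * b * H⁻¹) by group]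
        exact mul_mem ha hb
      | inv a _ ha =>
        rw [show H * a⁻¹ * H⁻¹ = (H * a * H⁻¹)⁻¹ by group]
        exact inv_mem ha
    have L : certFullF4.Layer (from_ (2 * j + 1)) (oa j) := layer_top (by omega)
    have h1fix := std_fix f hf hK hj (1 : K)
    have hnew : certFullF4.InLayer (from_ (2 * j + 1)) (oa j) (f t) (H * std f j 1 * H⁻¹) := by
      refine ⟨H * rootProd ((ob j, (1 : K)) :: (oc j).map fun c => (c, f 1 * 1)) * H⁻¹, hconj ?_, ?_⟩
      · refine list_prod_mem fun y hy => ?_
        obtain ⟨p, hp, rfl⟩ := List.mem_map.1 hy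
        have hp1 : p.1 ∈ ob j :: oc j := by
          simp only [List.mem_cons, List.mem_map] at hp ⊢
          rcases hp with rfl | ⟨c, hc, rfl⟩
          exacts [Or.inl rfl, Or.inr hc]
        refine certFullF4.xg_mem_rootSpan (oroots_spec hj _ (List.mem_cons_of_mem _ hp1)).1 ?_ _
        show 2 * j + 1 ≤ ps p.1
        rcases List.mem_cons.1 hp1 with e | e
        · rw [e, ob, (ord_spec (by omega)).2]
        · have hc := checkOrbit_ok
          simp only [List.all_eq_true, List.mem_range] at hc
          have hc := hc j hj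
          rcases hoc : oc j with _ | ⟨c₁, _ | ⟨c₂, l⟩⟩
          · simp [hoc] at e
          · simp only [checkOrbit, hoc, Bool.and_eq_true, Nat.blt_eq] at hc
            simp only [hoc, List.mem_singleton] at e
            rw [e]; exact hc.2.1.1.1.2.le
          · simp [checkOrbit, hoc] at hc
      · rw [hH] at *
        simp only [std, stdList, rootProd_cons, map_one]
        rw [show f t = (wt f w (rotR (8 * turn j - turn j) (oa j)) : K) * 1 by
          rw [mul_one]; exact (congrArg Units.val hw).symm,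
          ← turned_conj f w hk (pos_iff.1 L.posk).2]
        group
    obtain ⟨t', R', hR', hR'f, e, h4⟩ := exists_std f hf hK hj (hconj (std_mem_from f hj 1))
      (mul_mem (mul_mem hHfix h1fix) (inv_mem hHfix))
    have ht' : t' = t := f.injective (inLayer_unique L h4 hnew)
    rw [ht'] at e
    rw [show std f j t = H * std f j 1 * H⁻¹ * R'⁻¹ by rw [e, mul_inv_cancel_right]]
    exact mul_mem (mul_mem (mul_mem hHM (hlead j hj)) (inv_mem hHM))
      (inv_mem (ih' R' hR'f hR'))

/-- Two elements generate. -/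
theorem two_gen (hm : 1 ≤ m) : ∃ a b : ↥(twistedF4 K (2 ^ m)),
    Subgroup.closure ({a, b} : Set ↥(twistedF4 K (2 ^ m))) = ⊤ := by
  classical
  obtain ⟨ζ, hζ⟩ := IsCyclic.exists_generator (α := Kˣ)
  have hA : torElt f ζ ∈ twistedF4 K (2 ^ m) := F4.param_mem f hf hK (ζ, 1)
  have hB : std f 5 1 * rotElt K ∈ twistedF4 K (2 ^ m) :=
    mul_mem ((F4.datum f hf hK).mem_G₁ (std_fix f hf hK (by omega) 1)) (rotElt_mem f hf hK)
  refine ⟨⟨_, hA⟩, ⟨_, hB⟩, ?_⟩
  set M : Subgroup (GL chevF4.Idx K) :=
    Subgroup.closure {torElt f ζ, std f 5 1 * rotElt K} with hM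
  suffices hle : twistedF4 K (2 ^ m) ≤ M by
    refine Subgroup.map_injective (Subgroup.subtype_injective _) ?_
    rw [MonoidHom.map_closure, ← MonoidHom.range_eq_map, Subgroup.range_subtype,
      Set.image_pair]
    refine le_antisymm ?_ hle
    rw [Subgroup.closure_le]
    rintro y (rfl | rfl)
    exacts [hA, hB]
  have hh : ∀ w, torElt f w ∈ M := fun w => by
    obtain ⟨k, rfl⟩ := Subgroup.mem_zpowers_iff.1 (hζ w)
    rw [torElt, show ((ζ ^ k, 1) : Kˣ × Kˣ) = (ζ, 1) ^ k by simp, map_zpow]
    exact zpow_mem (Subgroup.subset_closure (by simp [torElt])) k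
  have hb : std f 5 1 * rotElt K ∈ M := Subgroup.subset_closure (by simp)
  have h5 := five_mem f hf hK hm hh hb
  have hn : rotElt K ∈ M := (M.mul_mem_cancel_left (h5 1)).1 hb
  have hlead := leads_mem f hf hn leadData [5] checkLeads_ok (by simp [h5 1])
  have hU : ∀ g ∈ (F4.tw f).fix, g ∈ certFullF4.rootSpan K (from_ 0) → g ∈ M :=
    fun g h1 h2 => tail_mem f hf hK hh hn hlead 12 le_rfl g h1 (by simpa using h2)
  have hpos : ∀ (l : List (ℕ × K)), (∀ p ∈ l, 24 ≤ p.1 ∧ p.1 < 48) →
      rootProd l ∈ (F4.tw f).fix → rootProd l ∈ M := fun l hl hfix =>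
    hU _ hfix (list_prod_mem fun y hy => by
      obtain ⟨p, hp, rfl⟩ := List.mem_map.1 hy
      exact certFullF4.xg_mem_rootSpan (pos_iff.2 (hl p hp)) (show 0 ≤ ps p.1 from Nat.zero_le _) _)
  have hneg : ∀ (l : List (ℕ × K)),
      (∀ p ∈ l, p.1 < 48 ∧ 24 ≤ rotR 4 p.1 ∧ rotR 4 p.1 < 48) →
      rootProd l ∈ twistedF4 K (2 ^ m) → rootProd l ∈ M := fun l hl hg => by
    have hN := pow_mem hn 4
    have e := rotElt_pow_conj_prod 4 l (fun p hp => (hl p hp).1)
    have h1 := hpos _ (fun p hp => by
      obtain ⟨p', hp', rfl⟩ := List.mem_map.1 hp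
      exact (hl p' hp').2) (e ▸ mul_mem (mul_mem (pow_mem (rootProd_fix f hf hK
        (rotElt_mem f hf hK)) 4) (rootProd_fix f hf hK hg))
        (inv_mem (pow_mem (rootProd_fix f hf hK (rotElt_mem f hf hK)) 4)))
    rw [← e] at h1
    have := mul_mem (mul_mem (inv_mem hN) h1) hN
    simpa [mul_assoc] using this
  refine (F4.gens_le f hf hK).trans ((Subgroup.closure_le _).2 ?_)
  have hneg4 : (∀ r ∈ [14, 23, 20, 22, 19, 17], r < 48 ∧ 24 ≤ rotR 4 r ∧ rotR 4 r < 48) := by
    decide +kernel
  rintro g (⟨t, rfl | rfl⟩ | ⟨t, u, rfl | rfl⟩)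
  · rw [show F4.upA f t = rootProd [(33, f t), (24, t)] by simp [F4.upA, rootProd]]
    refine hpos _ (by simp) ?_
    exact rootProd_fix f hf hK (by simpa [F4.upA, rootProd] using
      (show F4.upA f t ∈ twistedF4 K (2 ^ m) from F4.upA_mem f hf hK t))
  · rw [show F4.loA f t = rootProd [(14, f t), (23, t)] by simp [F4.loA, rootProd]]
    refine hneg _ (by
      simp; exact ⟨(hneg4 14 (by simp)).2, (hneg4 23 (by simp)).2⟩) ?_
    simpa [F4.loA, rootProd] using
      (show F4.loA f t ∈ twistedF4 K (2 ^ m) from F4.loA_mem f hf hK t)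
  · rw [show F4.cls f t u =
      rootProd [(27, f t), (25, t), (28, f t * t + u), (30, f u ^ 2)] by
        simp [F4.cls, rootProd, mul_assoc]]
    refine hpos _ (by simp) (rootProd_fix f hf hK ?_)
    simpa [F4.cls, rootProd, mul_assoc] using
      (show F4.cls f t u ∈ twistedF4 K (2 ^ m) from F4.cls_mem f hf hK t u)
  · rw [show F4.clsNeg f t u =
      rootProd [(20, f t), (22, t), (19, f t * t + u), (17, f u ^ 2)] by
        simp [F4.clsNeg, rootProd, mul_assoc]]
    refine hneg _ (by
      simp; exact ⟨(hneg4 20 (by simp)).2, (hneg4 22 (by simp)).2, (hneg4 19 (by simp)).2,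
        (hneg4 17 (by simp)).2⟩) ?_
    simpa [F4.clsNeg, rootProd, mul_assoc] using
      (show F4.clsNeg f t u ∈ twistedF4 K (2 ^ m) from F4.clsNeg_mem f hf hK t u)

end Cfsg.Agent.Lie.Chev.F4Ree
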