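import Cfsg.Agent.Lib.Lie.Chev.Roots

/-! The unipotent subgroups, their filtration and normal form, and the Borel subgroup. -/

set_option autoImplicit false

namespace Cfsg.Agent.Lie.Chev

open Cfsg.Lie Matrix

section Strict

variable {ι R : Type*} [Fintype ι] [CommRing R] (lev : ι → ℕ)

/-- A matrix strictly raising the level. -/
def StrictLev (A : Matrix ι ι R) : Prop := ∀ i j, A i j ≠ 0 → lev j < lev i

theorem StrictLev.mul {A B : Matrix ι ι R} (hA : StrictLev lev A) (hB : StrictLev lev B) :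
    StrictLev lev (A * B) := by
  intro i j h
  rw [Matrix.mul_apply] at h
  obtain ⟨k, -, hk⟩ := Finset.exists_ne_zero_of_sum_ne_zero h
  exact (hB k j (right_ne_zero_of_mul hk)).trans (hA i k (left_ne_zero_of_mul hk))

theorem StrictLev.add {A B : Matrix ι ι R} (hA : StrictLev lev A) (hB : StrictLev lev B) :
    StrictLev lev (A + B) := by
  intro i j h
  by_cases h1 : A i j = 0
  · exact hB i j (by simpa [h1] using h)
  · exact hA i j h1

theorem StrictLev.pow_add [DecidableEq ι] {A : Matrix ι ι R} (hA : StrictLev lev A) (k : ℕ) :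
    ∀ i j, (A ^ k) i j ≠ 0 → lev j + k ≤ lev i := by
  induction k with
  | zero =>
    intro i j h
    by_cases e : i = j
    · simp [e]
    · simp [Matrix.one_apply_ne e] at h
  | succ k ih =>
    intro i j h
    rw [pow_succ, Matrix.mul_apply] at h
    obtain ⟨m, -, hm⟩ := Finset.exists_ne_zero_of_sum_ne_zero h
    have h1 := ih i m (left_ne_zero_of_mul hm)
    have h2 := hA m j (right_ne_zero_of_mul hm)
    omega

end Strict

/-- Elements that are unitriangular for a level function, as a subgroup. -/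
def unitri (D : ChevalleyDatum) (F : Type*) [Field F] (lv : D.Idx → ℕ) : Subgroup (GL D.Idx F) where
  carrier := {g | StrictLev lv ((g : Matrix D.Idx D.Idx F) - 1) ∧
    StrictLev lv (((g⁻¹ : GL D.Idx F) : Matrix D.Idx D.Idx F) - 1)}
  one_mem' := by constructor <;> (intro i j h; simp at h)
  mul_mem' := by
    intro a b ha hb
    constructor
    · rw [Units.val_mul, show (a : Matrix D.Idx D.Idx F) * b - 1 =
        ((a : Matrix D.Idx D.Idx F) - 1) * ((b : Matrix D.Idx D.Idx F) - 1) +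
          (((a : Matrix D.Idx D.Idx F) - 1) + ((b : Matrix D.Idx D.Idx F) - 1)) by noncomm_ring]
      exact (ha.1.mul _ hb.1).add _ (ha.1.add _ hb.1)
    · rw [_root_.mul_inv_rev, Units.val_mul,
        show ((b⁻¹ : GL D.Idx F) : Matrix D.Idx D.Idx F) * (a⁻¹ : GL D.Idx F) - 1 =
        (((b⁻¹ : GL D.Idx F) : Matrix D.Idx D.Idx F) - 1) *
            (((a⁻¹ : GL D.Idx F) : Matrix D.Idx D.Idx F) - 1) +
          ((((b⁻¹ : GL D.Idx F) : Matrix D.Idx D.Idx F) - 1) +
            (((a⁻¹ : GL D.Idx F) : Matrix D.Idx D.Idx F) - 1)) by noncomm_ring]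
      exact (hb.2.mul _ ha.2).add _ (hb.2.add _ ha.2)
  inv_mem' := by
    intro a ha
    exact ⟨ha.2, by rw [inv_inv]; exact ha.1⟩

namespace Cert

variable {D : ChevalleyDatum} (c : Cert D) {F : Type*} [Field F]

/-- Levels: negative roots, then the fundamental coroots, then positive roots. -/
def lev : D.Idx → ℕ :=
  Sum.elim (fun _ => c.T.h) (fun u => if (u : ℕ) < c.T.h then (u : ℕ) else (u : ℕ) + 1)

/-- Levels in the opposite order. -/
def levOp (j : D.Idx) : ℕ := D.nroots - c.lev j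

/-- The subgroup generated by the positive root subgroups from index `m` on. -/
def K (F : Type*) [Field F] (m : ℕ) : Subgroup (GL D.Idx F) :=
  Subgroup.closure {g | ∃ (r : ℕ) (t : F), c.Pos r ∧ m ≤ r ∧ g = c.xg r t}

/-- The ordered product of root elements from index `m` on. -/
def oprod (m : ℕ) (t : ℕ → F) : GL D.Idx F :=
  ((List.range' m (D.nroots - m)).map fun r => c.xg r (t r)).prod

include c

theorem lev_le (j : D.Idx) : c.lev j ≤ D.nroots := by
  have := c.h_add_h
  rcases j with i | u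
  · show c.T.h ≤ _; omega
  · have := u.isLt
    simp only [lev, Sum.elim_inr]
    split_ifs <;> omega

theorem lev_lt_inr_iff {u v : Fin D.nroots} :
    c.lev (Sum.inr u) < c.lev (Sum.inr v) ↔ (u : ℕ) < (v : ℕ) := by
  simp only [lev, Sum.elim_inr]
  split_ifs <;> omega

theorem hroot_apply_inr (F : Type*) [Field F] (r : ℕ) (u : Fin D.nroots) :
    c.hroot F r (Sum.inr u) = 0 := rfl

theorem chainVec_support {r s : ℕ} (hr : r < D.nroots) (hs : s < D.nroots) (τ : F)
    (u : Fin D.nroots) (h : chainVec D F τ 1 (c.T.entry r s) (Sum.inr u) ≠ 0) :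
    ∃ i : ℕ, 1 ≤ i ∧ c.T.code u = c.T.code s + (i : ℤ) * c.T.code r := by
  rw [chainVec_inr] at h
  obtain ⟨y, hy, -⟩ : ∃ y ∈ ((((c.T.entry r s).zipIdx).filter (fun q => q.1.1 = (u : ℕ))).map
      fun q => (q.2 + 1, q.1.2)), True := by
    by_contra hn
    push Not at hn
    rw [show ((((c.T.entry r s).zipIdx).filter (fun q => q.1.1 = (u : ℕ))).map
      fun q => (q.2 + 1, q.1.2)) = [] from List.eq_nil_iff_forall_not_mem.2 fun y hy => hn y hy]
      at h
    simp at h
  obtain ⟨q, hq, -⟩ := List.mem_map.1 hy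
  rw [List.mem_filter, decide_eq_true_eq] at hq
  have hne : c.T.entry r s ≠ [] := by intro e; rw [e] at hq; simp at hq
  refine ⟨q.2 + 1, by omega, ?_⟩
  rw [← hq.2]
  exact ((c.grading_row hr (c.mem_keys_of_entry_ne hr hs hne)).2.2.1 q hq.1).2

/-- Root elements are strictly triangular. -/
theorem x_sub_one_apply {r : ℕ} (hr : r < D.nroots) (t : F) (i j : D.Idx)
    (h : (D.x F r t - 1) i j ≠ 0) :
    (c.Pos r → c.lev j < c.lev i) ∧ (¬ c.Pos r → c.lev i < c.lev j) := by
  have hcol : ((D.x F r t - 1) *ᵥ Pi.single j 1) i ≠ 0 := by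
    rwa [Matrix.mulVec_single_one]
  rw [Matrix.sub_mulVec, Matrix.one_mulVec] at hcol
  have hh := c.h_add_h
  rcases j with k | s
  · rw [single_inl, c.x_hvec hr k.isLt] at hcol
    rcases i with k' | u
    · simp [evec] at hcol
    · have hu : (u : ℕ) = r := by
        by_contra hu; simp [evec, hu] at hcol
      simp only [lev, Pos, Sum.elim_inl, Sum.elim_inr, hu]
      split_ifs <;> constructor <;> intro <;> omega
  · rw [single_inr] at hcol
    by_cases h1 : (s : ℕ) = r
    · rw [h1, c.x_evec_self hr, sub_self] at hcol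
      exact absurd rfl hcol
    by_cases h2 : (s : ℕ) = D.neg r
    · rw [h2, c.x_evec_neg hr] at hcol
      have hn := c.neg_val hr
      rcases i with k' | u
      · simp only [lev, Pos, Sum.elim_inl, Sum.elim_inr, h2]
        split_ifs <;> constructor <;> intro <;> omega
      · have hu : (u : ℕ) = r := by
          by_contra hu; simp [evec, hu, c.hroot_apply_inr] at hcol
        simp only [lev, Pos, Sum.elim_inr, h2, hu]
        split_ifs <;> constructor <;> intro <;> omega
    rw [c.x_evec hr s.isLt h1 h2] at hcol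
    rcases i with k' | u
    · simp [chainVec_inl] at hcol
    · simp only [Pi.add_apply, Pi.sub_apply, add_sub_cancel_left] at hcol
      obtain ⟨i, hi, hc⟩ := c.chainVec_support hr s.isLt t u hcol
      have hi' : (1 : ℤ) ≤ i := by exact_mod_cast hi
      rw [c.lev_lt_inr_iff, c.lev_lt_inr_iff]
      refine ⟨fun hp => ?_, fun hp => ?_⟩
      · have hp' := (c.pos_iff_code hr).1 hp
        have : c.T.code r ≤ (i : ℤ) * c.T.code r := le_mul_of_one_le_left hp'.le hi'
        by_contra hle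
        have := (c.code_le_iff u.isLt s.isLt).2 (by omega)
        omega
      · rw [c.pos_iff_code hr, not_lt] at hp
        have hne : c.T.code r ≠ 0 := by
          intro e
          have hn := c.code_neg hr
          exact c.neg_ne hr (c.code_inj (c.neg_lt hr) hr (by omega))
        have : (i : ℤ) * c.T.code r ≤ c.T.code r := by nlinarith
        by_contra hle
        have := (c.code_le_iff s.isLt u.isLt).2 (by omega)
        omega

theorem posUnipotent_eq : D.posUnipotent F = c.K F c.T.h := by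
  unfold ChevalleyDatum.posUnipotent K
  congr 1
  ext g
  constructor
  · rintro ⟨r, t, hr, hg⟩
    exact ⟨r, t, c.posRoot_iff.1 hr, (c.posRoot_iff.1 hr).1, c.eq_xg_iff.1 hg⟩
  · rintro ⟨r, t, hr, -, rfl⟩
    exact ⟨r, t, c.posRoot_iff.2 hr, rfl⟩

theorem posUnipotent_le_unitri : D.posUnipotent F ≤ unitri D F c.lev := by
  refine (Subgroup.closure_le _).2 ?_
  rintro g ⟨r, t, hr, hg⟩
  obtain rfl := c.eq_xg_iff.1 hg
  have hr' := c.posRoot_iff.1 hr
  refine ⟨fun i j h => (c.x_sub_one_apply hr'.2 t i j h).1 hr', ?_⟩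
  rw [c.xg_inv]
  exact fun i j h => (c.x_sub_one_apply hr'.2 (-t) i j h).1 hr'

theorem negUnipotent_le_unitri : D.negUnipotent F ≤ unitri D F c.levOp := by
  refine (Subgroup.closure_le _).2 ?_
  rintro g ⟨r, t, hr, hg⟩
  obtain rfl := c.eq_xg_iff.1 hg
  have hr' : r < c.T.h := c.isNegRoot_iff.1 hr
  have hp : ¬ c.Pos r := fun h => by have := h.1; omega
  have key : ∀ u : F, StrictLev c.levOp (D.x F r u - 1) := fun u i j h => by
    have := (c.x_sub_one_apply hr.1 u i j h).2 hp
    have := c.lev_le i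
    have := c.lev_le j
    simp only [levOp]; omega
  exact ⟨key t, by rw [c.xg_inv]; exact key (-t)⟩

theorem K_le {m m' : ℕ} (h : m ≤ m') : c.K F m' ≤ c.K F m :=
  Subgroup.closure_mono fun _ ⟨r, t, hr, hm, e⟩ => ⟨r, t, hr, h.trans hm, e⟩

theorem xg_mem_K {r m : ℕ} (hr : c.Pos r) (hm : m ≤ r) (t : F) : c.xg r t ∈ c.K F m :=
  Subgroup.subset_closure ⟨r, t, hr, hm, rfl⟩

theorem K_eq_bot {m : ℕ} (hm : D.nroots ≤ m) : c.K F m = ⊥ := by
  rw [eq_bot_iff, K, Subgroup.closure_le]
  rintro g ⟨r, t, hr, h, rfl⟩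
  have := hr.2
  omega

theorem comm_mem_K {r s : ℕ} (hr : c.Pos r) (hs : c.Pos s) {m : ℕ} (hm : m ≤ max r s + 1)
    (hne : s ≠ r) (t u : F) :
    ∃ k ∈ c.K F m, c.xg s u * c.xg r t = c.xg r t * c.xg s u * k := by
  have hneg : s ≠ D.neg r := fun e => ((c.not_pos_iff hr.2).2 (e ▸ hs)) hr
  refine ⟨_, Subgroup.list_prod_mem _ (fun g hg => ?_), c.xg_comm hr.2 hs.2 hne hneg t u⟩
  obtain ⟨x, hx, rfl⟩ := List.mem_map.1 hg
  obtain ⟨h1, h2, h3⟩ := c.commTerms_gt hr hs hx
  exact c.xg_mem_K h1 (by omega) _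

/-- Positive root elements normalise each step of the filtration. -/
theorem xg_conj_mem_K {r : ℕ} (hr : c.Pos r) (t : F) {m : ℕ} {g : GL D.Idx F}
    (hg : g ∈ c.K F m) : c.xg r t * g * (c.xg r t)⁻¹ ∈ c.K F m := by
  induction hg using Subgroup.closure_induction with
  | mem g hg =>
    obtain ⟨s, u, hs, hm, rfl⟩ := hg
    by_cases hne : s = r
    · subst hne
      rw [← c.xg_add, c.xg_inv, ← c.xg_add]
      exact c.xg_mem_K hs hm _
    obtain ⟨k, hk, e⟩ := c.comm_mem_K hr hs (m := m) (by omega) hne (-t) u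
    rw [c.xg_inv, mul_assoc, e, ← mul_assoc, ← mul_assoc, ← c.xg_add, add_neg_cancel, c.xg_zero,
      one_mul]
    exact mul_mem (c.xg_mem_K hs hm u) hk
  | one => simp [one_mem]
  | mul a b _ _ ha hb =>
    have e : c.xg r t * (a * b) * (c.xg r t)⁻¹ =
        (c.xg r t * a * (c.xg r t)⁻¹) * (c.xg r t * b * (c.xg r t)⁻¹) := by group
    rw [e]; exact mul_mem ha hb
  | inv a _ ha =>
    have e : c.xg r t * a⁻¹ * (c.xg r t)⁻¹ = (c.xg r t * a * (c.xg r t)⁻¹)⁻¹ := by group
    rw [e]; exact inv_mem ha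

theorem K_le_normalizer (m m' : ℕ) :
    c.K F m' ≤ Subgroup.normalizer (c.K F m : Set (GL D.Idx F)) := by
  refine (Subgroup.closure_le _).2 ?_
  rintro g ⟨r, t, hr, -, rfl⟩
  rw [SetLike.mem_coe, Subgroup.mem_normalizer_iff]
  refine fun k => ⟨fun hk => c.xg_conj_mem_K hr t hk, fun hk => ?_⟩
  have := c.xg_conj_mem_K hr (-t) hk
  rw [← c.xg_inv, inv_inv] at this
  simpa [mul_assoc] using this

theorem oprod_succ {m : ℕ} (hm : m < D.nroots) (t : ℕ → F) :
    c.oprod m t = c.xg m (t m) * c.oprod (m + 1) t := by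
  rw [oprod, oprod, show D.nroots - m = (D.nroots - (m + 1)) + 1 by omega, List.range'_succ,
    List.map_cons, List.prod_cons]

theorem oprod_of_ge {m : ℕ} (hm : D.nroots ≤ m) (t : ℕ → F) : c.oprod m t = 1 := by
  rw [oprod, show D.nroots - m = 0 by omega]; rfl

theorem oprod_congr {m : ℕ} {t t' : ℕ → F} (h : ∀ r, m ≤ r → r < D.nroots → t r = t' r) :
    c.oprod m t = c.oprod m t' := by
  rw [oprod, oprod]
  congr 1
  refine List.map_congr_left fun r hr => ?_
  rw [List.mem_range'_1] at hr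
  rw [h r hr.1 (by omega)]

theorem oprod_mem {m : ℕ} (hm : c.T.h ≤ m) (t : ℕ → F) : c.oprod m t ∈ c.K F m := by
  refine Subgroup.list_prod_mem _ fun g hg => ?_
  obtain ⟨r, hr, rfl⟩ := List.mem_map.1 hg
  rw [List.mem_range'_1] at hr
  exact c.xg_mem_K ⟨hm.trans hr.1, by omega⟩ hr.1 _

theorem exists_oprod : ∀ (d m : ℕ), D.nroots - m = d → c.T.h ≤ m → ∀ g ∈ c.K F m,
    ∃ t, g = c.oprod m t := by
  intro d
  induction d with
  | zero =>
    intro m hd _ g hg
    rw [c.K_eq_bot (by omega), Subgroup.mem_bot] at hg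
    exact ⟨0, by rw [hg, c.oprod_of_ge (by omega)]⟩
  | succ d ih =>
    intro m hd hm g hg
    have hm' : m < D.nroots := by omega
    suffices ∃ (a : F) (k : GL D.Idx F), k ∈ c.K F (m + 1) ∧ g = c.xg m a * k by
      obtain ⟨a, k, hk, rfl⟩ := this
      obtain ⟨t, rfl⟩ := ih (m + 1) (by omega) (by omega) k hk
      refine ⟨Function.update t m a, ?_⟩
      rw [c.oprod_succ hm', Function.update_self,
        c.oprod_congr (t := Function.update t m a) (t' := t) fun r hr _ =>
          Function.update_of_ne (show r ≠ m by omega) _ _]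
    induction hg using Subgroup.closure_induction with
    | mem g hg =>
      obtain ⟨r, u, hr, hmr, rfl⟩ := hg
      rcases hmr.lt_or_eq with h | h
      · exact ⟨0, _, c.xg_mem_K hr h u, by rw [c.xg_zero, one_mul]⟩
      · exact ⟨u, 1, one_mem _, by rw [mul_one, h]⟩
    | one => exact ⟨0, 1, one_mem _, by rw [c.xg_zero, mul_one]⟩
    | mul a b _ _ ha hb =>
      obtain ⟨x, k, hk, rfl⟩ := ha
      obtain ⟨y, k', hk', rfl⟩ := hb
      refine ⟨x + y, (c.xg m y)⁻¹ * k * c.xg m y * k', mul_mem ?_ hk', by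
        rw [c.xg_add]; group⟩
      have := c.xg_conj_mem_K ⟨hm, hm'⟩ (-y) hk
      rwa [← c.xg_inv, inv_inv] at this
    | inv a _ ha =>
      obtain ⟨x, k, hk, rfl⟩ := ha
      refine ⟨-x, c.xg m x * k⁻¹ * (c.xg m x)⁻¹, c.xg_conj_mem_K ⟨hm, hm'⟩ x (inv_mem hk), ?_⟩
      rw [← c.xg_inv]; group

/-- A vector on positive root coordinates only. -/
def PosSupp (v : D.Idx → F) : Prop :=
  (∀ i, v (Sum.inl i) = 0) ∧ ∀ u : Fin D.nroots, (u : ℕ) < c.T.h → v (Sum.inr u) = 0

theorem posSupp_mulVec {g : GL D.Idx F} (hg : g ∈ D.posUnipotent F) {v : D.Idx → F}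
    (hv : c.PosSupp v) : c.PosSupp ((g : Matrix D.Idx D.Idx F) *ᵥ v) := by
  have hg' := (c.posUnipotent_le_unitri hg).1
  have key : ∀ i, c.lev i ≤ c.T.h → ((g : Matrix D.Idx D.Idx F) *ᵥ v) i = 0 := by
    intro i hi
    have h0 : ∀ j, c.lev j ≤ c.T.h → v j = 0 := by
      intro j hj
      rcases j with k | u
      · exact hv.1 k
      · refine hv.2 u ?_
        simp only [lev, Sum.elim_inr] at hj
        split_ifs at hj <;> omega
    have : (((g : Matrix D.Idx D.Idx F) - 1) *ᵥ v) i = 0 := by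
      rw [Matrix.mulVec, dotProduct]
      refine Finset.sum_eq_zero fun j _ => ?_
      by_contra hne
      have := hg' i j (left_ne_zero_of_mul hne)
      exact right_ne_zero_of_mul hne (h0 j (by omega))
    rw [Matrix.sub_mulVec, Matrix.one_mulVec, Pi.sub_apply, h0 i hi, sub_zero] at this
    exact this
  exact ⟨fun i => key _ le_rfl, fun u hu => key _ (by simp [lev, hu]; omega)⟩

theorem K_evec_neg {m : ℕ} (hm : c.Pos m) {g : GL D.Idx F} (hg : g ∈ c.K F (m + 1)) :
    c.PosSupp ((g : Matrix D.Idx D.Idx F) *ᵥ evec D F (D.neg m) - evec D F (D.neg m)) := by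
  have hmem : ∀ {a : GL D.Idx F}, a ∈ c.K F (m + 1) → a ∈ D.posUnipotent F := fun {a} ha => by
    rw [c.posUnipotent_eq]; exact c.K_le (by have := hm.1; omega) ha
  induction hg using Subgroup.closure_induction with
  | mem g hg =>
    obtain ⟨r, u, hr, hmr, rfl⟩ := hg
    have hne : D.neg m ≠ r := fun e => ((c.not_pos_iff hm.2).2 (e ▸ hr)) hm
    have hne' : D.neg m ≠ D.neg r := fun e => by have := c.neg_inj hm.2 hr.2 e; omega
    rw [xg_val, c.x_evec hr.2 (c.neg_lt hm.2) hne hne', add_sub_cancel_left]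
    refine ⟨fun i => chainVec_inl D F u 1 _ i, fun v hv => ?_⟩
    by_contra hv'
    obtain ⟨i, hi, hc⟩ := c.chainVec_support hr.2 (c.neg_lt hm.2) u v hv'
    rw [c.code_neg hm.2] at hc
    have h1 := (c.pos_iff_code hr.2).1 hr
    have h2 : c.T.code r ≤ (i : ℤ) * c.T.code r :=
      le_mul_of_one_le_left h1.le (by exact_mod_cast hi)
    have h3 := c.code_lt (show m < r by omega) hr.2
    have h4 := (c.pos_iff_code v.isLt).2 (by omega)
    exact absurd h4.1 (by omega)
  | one => simp [PosSupp]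
  | mul a b ha _ iha ihb =>
    have := c.posSupp_mulVec (hmem ha) ihb
    rw [Units.val_mul, ← Matrix.mulVec_mulVec]
    rw [Matrix.mulVec_sub] at this
    refine ⟨fun i => ?_, fun v hv => ?_⟩
    · have h1 := this.1 i; have h2 := iha.1 i
      simp only [Pi.sub_apply, sub_eq_zero] at h1 h2 ⊢
      rw [h1, h2]
    · have h1 := this.2 v hv; have h2 := iha.2 v hv
      simp only [Pi.sub_apply, sub_eq_zero] at h1 h2 ⊢
      rw [h1, h2]
  | inv a ha iha =>
    have := c.posSupp_mulVec (inv_mem (hmem ha)) iha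
    rw [Matrix.mulVec_sub, Matrix.mulVec_mulVec, ← Units.val_mul, inv_mul_cancel, Units.val_one,
      Matrix.one_mulVec] at this
    refine ⟨fun i => ?_, fun v hv => ?_⟩
    · have h1 := this.1 i
      simp only [Pi.sub_apply, sub_eq_zero] at h1 ⊢
      exact h1.symm
    · have h1 := this.2 v hv
      simp only [Pi.sub_apply, sub_eq_zero] at h1 ⊢
      exact h1.symm

/-- The first factor is determined. -/
theorem xg_mul_K_inj {m : ℕ} (hm : c.Pos m) {a b : F} {k k' : GL D.Idx F}
    (hk : k ∈ c.K F (m + 1)) (hk' : k' ∈ c.K F (m + 1))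
    (e : c.xg m a * k = c.xg m b * k') : a = b ∧ k = k' := by
  have h1 : c.xg m (a - b) = k' * k⁻¹ := by
    rw [eq_mul_inv_iff_mul_eq, sub_eq_neg_add, c.xg_add, mul_assoc, e, ← c.xg_inv]; group
  have h2 := c.K_evec_neg hm (mul_mem hk' (inv_mem hk))
  rw [← h1, xg_val, c.x_evec_neg hm.2] at h2
  have hz : a - b = 0 := by
    obtain ⟨i, hi, j, hj, hij⟩ := (c.linear_root hm.2).2.2.2.2.2.2
    have hz : ∀ i < D.rank, (a - b) * (c.T.coroot m i : F) = 0 := by
      intro i hi
      simpa [evec, hroot] using h2.1 ⟨i, hi⟩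
    obtain ⟨p, q, hpq⟩ := Int.isCoprime_iff_gcd_eq_one.2 hij
    have e := congrArg (fun z : ℤ => (a - b) * (z : F)) hpq
    simp only [Int.cast_add, Int.cast_mul, Int.cast_one, mul_one] at e
    rw [← e, mul_add, mul_left_comm, hz i hi, mul_left_comm (a - b), hz j hj]
    simp
  obtain rfl := sub_eq_zero.1 hz
  exact ⟨rfl, mul_left_cancel e⟩

theorem oprod_inj : ∀ (d m : ℕ), D.nroots - m = d → c.T.h ≤ m → ∀ t t' : ℕ → F,
    c.oprod m t = c.oprod m t' → ∀ r, m ≤ r → r < D.nroots → t r = t' r := by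
  intro d
  induction d with
  | zero => intro m hd _ t t' _ r hr hr'; omega
  | succ d ih =>
    intro m hd hm t t' e r hr hr'
    have hm' : m < D.nroots := by omega
    rw [c.oprod_succ hm', c.oprod_succ hm'] at e
    obtain ⟨h1, h2⟩ := c.xg_mul_K_inj ⟨hm, hm'⟩ (c.oprod_mem (by omega) t)
      (c.oprod_mem (by omega) t') e
    rcases hr.lt_or_eq with h | h
    · exact ih (m + 1) (by omega) (by omega) t t' h2 r h hr'
    · exact h ▸ h1

theorem posRoots_eq : D.posRoots = List.range' c.T.h (D.nroots - c.T.h) := by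
  have hh := c.h_add_h
  rw [ChevalleyDatum.posRoots,
    show List.range D.nroots = List.range c.T.h ++ List.range' c.T.h (D.nroots - c.T.h) by
      rw [List.range_eq_range', List.range_eq_range']
      have := List.range'_append_1 (s := 0) (m := c.T.h) (n := D.nroots - c.T.h)
      rw [Nat.zero_add] at this
      rw [this]
      congr 1
      omega,
    List.filter_append, List.filter_eq_nil_iff.2, List.filter_eq_self.2, List.nil_append]
  · intro r hr
    rw [List.mem_range'_1] at hr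
    simp only [decide_eq_true_eq]
    exact c.posRoot_iff.2 ⟨hr.1, by omega⟩
  · intro r hr
    rw [List.mem_range] at hr
    simp only [decide_eq_true_eq]
    intro h
    have := (c.posRoot_iff.1 h).1
    omega

theorem oprod_val (t : ℕ → F) :
    ((c.oprod c.T.h t : GL D.Idx F) : Matrix D.Idx D.Idx F) =
      D.wordMat F (D.posRoots.map fun r => (r, t r)) := by
  rw [oprod, ← Units.coeHom_apply (List.prod _), map_list_prod, List.map_map, c.posRoots_eq,
    ChevalleyDatum.wordMat, List.map_map]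
  rfl

/-- The unipotent subgroup as a product of root subgroups. -/
noncomputable def coordEquiv (F : Type*) [Field F] :
    (Fin (D.nroots - c.T.h) → F) ≃ D.posUnipotent F :=
  Equiv.ofBijective
    (fun v => ⟨c.oprod c.T.h (fun r => if h : r - c.T.h < D.nroots - c.T.h then
        v ⟨r - c.T.h, h⟩ else 0), by rw [c.posUnipotent_eq]; exact c.oprod_mem le_rfl _⟩)
    ⟨fun v v' e => funext fun i => by
      have := c.oprod_inj _ c.T.h rfl le_rfl _ _ (congrArg Subtype.val e) (i + c.T.h)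
        (by omega) (by omega)
      simpa [i.isLt] using this,
    fun g => by
      obtain ⟨t, ht⟩ := c.exists_oprod _ c.T.h rfl le_rfl (g : GL D.Idx F)
        (by rw [← c.posUnipotent_eq]; exact g.2)
      refine ⟨fun i => t (i + c.T.h), Subtype.ext ?_⟩
      rw [ht]
      refine c.oprod_congr fun r h1 h2 => ?_
      rw [dif_pos (by omega)]
      exact congrArg t (by simp; omega)⟩

theorem card_posUnipotent [Fintype F] :
    Nat.card (D.posUnipotent F) = Fintype.card F ^ (D.nroots / 2) := by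
  rw [← Nat.card_congr (c.coordEquiv F), Nat.card_eq_fintype_card, Fintype.card_fun,
    Fintype.card_fin]
  congr 1
  have := c.h_add_h
  omega

theorem pow_sub_one_eq_zero {g : GL D.Idx F} (hg : g ∈ D.posUnipotent F) :
    ((g : Matrix D.Idx D.Idx F) - 1) ^ (D.rank + D.nroots) = 0 := by
  have h := (c.posUnipotent_le_unitri hg).1
  ext i j
  by_contra hne
  have := StrictLev.pow_add c.lev h _ i j hne
  have := c.lev_le i
  have := c.one_le_rank
  omega

theorem commutator_K_le {r : ℕ} (hr : c.Pos r) (t : F) {m : ℕ} {g : GL D.Idx F}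
    (hg : g ∈ c.K F m) : c.xg r t * g * (c.xg r t)⁻¹ * g⁻¹ ∈ c.K F (m + 1) := by
  have hnorm : ∀ {a k : GL D.Idx F}, a ∈ c.K F m → k ∈ c.K F (m + 1) →
      a * k * a⁻¹ ∈ c.K F (m + 1) := fun {a k} ha hk =>
    (Subgroup.mem_normalizer_iff.1 (c.K_le_normalizer (m + 1) m ha) k).1 hk
  induction hg using Subgroup.closure_induction with
  | mem g hg =>
    obtain ⟨s, u, hs, hm, rfl⟩ := hg
    by_cases hne : s = r
    · subst hne
      simp only [c.xg_inv, ← c.xg_add]
      rw [show t + u + -t + -u = 0 by ring, c.xg_zero]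
      exact one_mem _
    obtain ⟨k, hk, e⟩ := c.comm_mem_K hr hs (m := m + 1) (by omega) hne (-t) u
    rw [c.xg_inv r, mul_assoc (c.xg r t), e, ← mul_assoc, ← mul_assoc, ← c.xg_add,
      add_neg_cancel, c.xg_zero, one_mul]
    exact hnorm (c.xg_mem_K hs hm u) hk
  | one => simp [one_mem]
  | mul a b ha _ iha ihb =>
    have e : c.xg r t * (a * b) * (c.xg r t)⁻¹ * (a * b)⁻¹ =
        (c.xg r t * a * (c.xg r t)⁻¹ * a⁻¹) *
          (a * (c.xg r t * b * (c.xg r t)⁻¹ * b⁻¹) * a⁻¹) := by group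
    rw [e]; exact mul_mem iha (hnorm ha ihb)
  | inv a ha iha =>
    have e : c.xg r t * a⁻¹ * (c.xg r t)⁻¹ * a⁻¹⁻¹ =
        a⁻¹ * (c.xg r t * a * (c.xg r t)⁻¹ * a⁻¹)⁻¹ * a⁻¹⁻¹ := by group
    rw [e]; exact hnorm (inv_mem ha) (inv_mem iha)

theorem isNilpotent_posUnipotent : Group.IsNilpotent (D.posUnipotent F) := by
  rw [Subgroup.nilpotent_iff_finite_descending_central_series]
  refine ⟨D.nroots - c.T.h, fun j => (c.K F (c.T.h + j)).subgroupOf (D.posUnipotent F), ⟨?_, ?_⟩, ?_⟩
  · show (c.K F (c.T.h + 0)).subgroupOf _ = ⊤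
    rw [Nat.add_zero, ← c.posUnipotent_eq, Subgroup.subgroupOf_self]
  · intro x j hx g
    rw [Subgroup.mem_subgroupOf] at hx ⊢
    have hg : (g : GL D.Idx F) ∈ c.K F c.T.h := by rw [← c.posUnipotent_eq]; exact g.2
    simp only [commutatorElement_def, Subgroup.coe_mul, Subgroup.coe_inv]
    suffices ∀ a ∈ c.K F c.T.h,
        (x : GL D.Idx F) * a * (x : GL D.Idx F)⁻¹ * a⁻¹ ∈ c.K F (c.T.h + (j + 1)) from this _ hg
    intro a ha
    have hnorm : ∀ {b k : GL D.Idx F}, b ∈ c.K F c.T.h → k ∈ c.K F (c.T.h + (j + 1)) →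
        b * k * b⁻¹ ∈ c.K F (c.T.h + (j + 1)) := fun {b k} hb hk =>
      (Subgroup.mem_normalizer_iff.1 (c.K_le_normalizer _ _ hb) k).1 hk
    induction ha using Subgroup.closure_induction with
    | mem a ha =>
      obtain ⟨r, t, hr, -, rfl⟩ := ha
      have := inv_mem (c.commutator_K_le hr t hx)
      rw [add_assoc] at this
      simpa [mul_assoc] using this
    | one => simp [one_mem]
    | mul a b ha _ iha ihb =>
      have e : (x : GL D.Idx F) * (a * b) * (x : GL D.Idx F)⁻¹ * (a * b)⁻¹ =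
          ((x : GL D.Idx F) * a * (x : GL D.Idx F)⁻¹ * a⁻¹) *
            (a * ((x : GL D.Idx F) * b * (x : GL D.Idx F)⁻¹ * b⁻¹) * a⁻¹) := by group
      rw [e]; exact mul_mem iha (hnorm ha ihb)
    | inv a ha iha =>
      have e : (x : GL D.Idx F) * a⁻¹ * (x : GL D.Idx F)⁻¹ * a⁻¹⁻¹ =
          a⁻¹ * ((x : GL D.Idx F) * a * (x : GL D.Idx F)⁻¹ * a⁻¹)⁻¹ * a⁻¹⁻¹ := by group
      rw [e]; exact hnorm (inv_mem ha) (inv_mem iha)
  · show (c.K F (c.T.h + (D.nroots - c.T.h))).subgroupOf _ = ⊥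
    rw [c.K_eq_bot (by omega), Subgroup.bot_subgroupOf]

end Cert

namespace CertFull

variable {D : ChevalleyDatum} (c : CertFull D) {F : Type*} [Field F]
include c

theorem torus_conj_xg (z : ℕ → Fˣ) {r : ℕ} (hr : r < D.nroots) (t : F) :
    c.torus z * c.xg r t * (c.torus z)⁻¹ = c.xg r ((c.tchar z r : F) * t) := by
  rw [Cert.torus_apply, c.dg_mul_xg (c.tchar_isRootCharacter z) hr, mul_inv_cancel_right]

theorem torus_le_normalizer {S : Set (GL D.Idx F)}
    (hS : ∀ g ∈ S, ∃ r < D.nroots, ∃ t : F, g = c.xg r t ∧ ∀ u : F, c.xg r u ∈ Subgroup.closure S) :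
    D.diagonalSubgroup F ≤ Subgroup.normalizer (Subgroup.closure S : Set (GL D.Idx F)) := by
  have key : ∀ a ∈ D.diagonalSubgroup F, ∀ g ∈ Subgroup.closure S,
      a * g * a⁻¹ ∈ Subgroup.closure S := by
    intro a ha g hg
    rw [c.diagonalSubgroup_eq] at ha
    obtain ⟨z, rfl⟩ := ha
    induction hg using Subgroup.closure_induction with
    | mem g hg =>
      obtain ⟨r, hr, t, rfl, hX⟩ := hS g hg
      rw [c.torus_conj_xg z hr]
      exact hX _
    | one => simp [one_mem]
    | mul x y _ _ hx hy =>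
      have e : c.torus z * (x * y) * (c.torus z)⁻¹ =
          (c.torus z * x * (c.torus z)⁻¹) * (c.torus z * y * (c.torus z)⁻¹) := by group
      rw [e]; exact mul_mem hx hy
    | inv x _ hx =>
      have e : c.torus z * x⁻¹ * (c.torus z)⁻¹ = (c.torus z * x * (c.torus z)⁻¹)⁻¹ := by group
      rw [e]; exact inv_mem hx
  intro a ha
  rw [Subgroup.mem_normalizer_iff]
  refine fun g => ⟨key a ha g, fun hg => ?_⟩
  have := key a⁻¹ (inv_mem ha) _ hg
  simpa [mul_assoc] using this

theorem H_le_normalizer_U :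
    D.diagonalSubgroup F ≤ Subgroup.normalizer (D.posUnipotent F : Set (GL D.Idx F)) := by
  refine c.torus_le_normalizer ?_
  rintro g ⟨r, t, hr, hg⟩
  exact ⟨r, hr.1, t, c.eq_xg_iff.1 hg, fun u => Subgroup.subset_closure ⟨r, u, hr, rfl⟩⟩

theorem H_le_normalizer_V :
    D.diagonalSubgroup F ≤ Subgroup.normalizer (D.negUnipotent F : Set (GL D.Idx F)) := by
  refine c.torus_le_normalizer ?_
  rintro g ⟨r, t, hr, hg⟩
  exact ⟨r, hr.1, t, c.eq_xg_iff.1 hg, fun u => Subgroup.subset_closure ⟨r, u, hr, rfl⟩⟩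

theorem diag_apply_ne {a : GL D.Idx F} (ha : a ∈ D.diagonalSubgroup F) {i j : D.Idx}
    (h : i ≠ j) : (a : Matrix D.Idx D.Idx F) i j = 0 := by
  rw [c.diagonalSubgroup_eq] at ha
  obtain ⟨z, rfl⟩ := ha
  rw [Cert.torus_apply, dg_val]
  exact Matrix.diagonal_apply_ne _ h

theorem unitri_inf_diag (lv : D.Idx → ℕ) : unitri D F lv ⊓ D.diagonalSubgroup F = ⊥ := by
  rw [eq_bot_iff]
  intro g ⟨h1, h2⟩
  rw [Subgroup.mem_bot]
  refine Units.ext (Matrix.ext fun i j => ?_)
  by_cases e : i = j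
  · subst e
    have := h1.1 i i
    rw [Matrix.sub_apply, Matrix.one_apply_eq] at this
    rw [Units.val_one, Matrix.one_apply_eq, ← sub_eq_zero]
    by_contra hne
    exact lt_irrefl _ (this hne)
  · rw [c.diag_apply_ne h2 e, Units.val_one, Matrix.one_apply_ne e]

theorem U_inf_H : D.posUnipotent F ⊓ D.diagonalSubgroup F = ⊥ :=
  eq_bot_iff.2 ((inf_le_inf_right _ c.posUnipotent_le_unitri).trans (c.unitri_inf_diag _).le)

theorem mem_borel_iff {g : GL D.Idx F} :
    g ∈ D.borelSubgroup F ↔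
      ∃ u ∈ D.posUnipotent F, ∃ a ∈ D.diagonalSubgroup F, g = u * a := by
  rw [ChevalleyDatum.borelSubgroup, ← SetLike.mem_coe,
    Subgroup.coe_mul_of_right_le_normalizer_left _ _ c.H_le_normalizer_U, Set.mem_mul]
  exact ⟨fun ⟨u, hu, a, ha, e⟩ => ⟨u, hu, a, ha, e.symm⟩,
    fun ⟨u, hu, a, ha, e⟩ => ⟨u, hu, a, ha, e.symm⟩⟩

theorem unitri_mul_diag_eq {u v : GL D.Idx F} (hu : u ∈ unitri D F c.lev)
    (hv : v ∈ unitri D F c.levOp) {a b : GL D.Idx F} (ha : a ∈ D.diagonalSubgroup F)
    (hb : b ∈ D.diagonalSubgroup F) (e : v * b = u * a) : v = 1 := by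
  rw [c.diagonalSubgroup_eq] at ha hb
  obtain ⟨y, rfl⟩ := ha
  obtain ⟨z, rfl⟩ := hb
  refine Units.ext (Matrix.ext fun i j => ?_)
  have key : ∀ (g : GL D.Idx F) (z : ℕ → Fˣ), ((g * c.torus z : GL D.Idx F) :
      Matrix D.Idx D.Idx F) i j =
      (g : Matrix D.Idx D.Idx F) i j *
        (Sum.elim (fun _ => (1 : F)) (fun r : Fin D.nroots => (c.tchar z r : F)) j) := by
    intro g z
    rw [Units.val_mul, Cert.torus_apply, dg_val, ChevalleyDatum.charDiag, Matrix.mul_diagonal]
  have hz : ∀ z : ℕ → Fˣ,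
      Sum.elim (fun _ => (1 : F)) (fun r : Fin D.nroots => (c.tchar z r : F)) j ≠ 0 := by
    intro z
    rcases j with j | r <;> simp
  by_cases h : i = j
  · subst h
    by_contra hne
    refine lt_irrefl _ (hv.1 i i ?_)
    simpa [sub_eq_zero] using hne
  · rw [Units.val_one, Matrix.one_apply_ne h]
    by_contra hne
    have h1 := hv.1 i j (by simpa [Matrix.one_apply_ne h] using hne)
    have h2 : (u : Matrix D.Idx D.Idx F) i j = 0 := by
      by_contra hu'
      have := hu.1 i j (by simpa [Matrix.one_apply_ne h] using hu')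
      have := c.lev_le i
      simp only [Cert.levOp] at h1
      omega
    have h3 := key v z
    rw [e, key, h2, zero_mul] at h3
    exact hne ((mul_eq_zero.1 h3.symm).resolve_right (hz z))

theorem borel_inf_negUnipotent :
    D.borelSubgroup F ⊓ D.negUnipotent F = ⊥ ∧
      D.borelSubgroup F ⊓ (D.negUnipotent F ⊔ D.diagonalSubgroup F) = D.diagonalSubgroup F := by
  constructor
  · rw [eq_bot_iff]
    intro g ⟨hB, hV⟩
    obtain ⟨u, hu, a, ha, e⟩ := c.mem_borel_iff.1 hB
    exact c.unitri_mul_diag_eq (c.posUnipotent_le_unitri hu) (c.negUnipotent_le_unitri hV) ha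
      (one_mem _) (by rw [mul_one, e])
  · refine le_antisymm ?_ (le_inf le_sup_right le_sup_right)
    intro g ⟨hB, hV⟩
    replace hV : g ∈ ((D.negUnipotent F ⊔ D.diagonalSubgroup F : Subgroup (GL D.Idx F)) :
      Set (GL D.Idx F)) := hV
    rw [Subgroup.coe_mul_of_right_le_normalizer_left _ _ c.H_le_normalizer_V, Set.mem_mul] at hV
    obtain ⟨v, hv, b, hb, rfl⟩ := hV
    obtain ⟨u, hu, a, ha, e⟩ := c.mem_borel_iff.1 hB
    rw [c.unitri_mul_diag_eq (c.posUnipotent_le_unitri hu) (c.negUnipotent_le_unitri hv) ha hb e,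
      one_mul]
    exact hb

theorem H_commutative {a b : GL D.Idx F} (ha : a ∈ D.diagonalSubgroup F)
    (hb : b ∈ D.diagonalSubgroup F) : a * b = b * a := by
  rw [c.diagonalSubgroup_eq] at ha hb
  obtain ⟨y, rfl⟩ := ha
  obtain ⟨z, rfl⟩ := hb
  rw [← map_mul, ← map_mul, mul_comm]

theorem isSolvable_borel : Group.IsSolvable ↥(D.borelSubgroup F) := by
  have hUB : D.posUnipotent F ≤ D.borelSubgroup F := le_sup_left
  have hN : ((D.posUnipotent F).subgroupOf (D.borelSubgroup F)).Normal :=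
    Subgroup.normal_subgroupOf_of_le_normalizer
      (sup_le Subgroup.le_normalizer c.H_le_normalizer_U)
  have hU : Group.IsSolvable ↥((D.posUnipotent F).subgroupOf (D.borelSubgroup F)) := by
    have := c.isNilpotent_posUnipotent (F := F)
    exact Group.isSolvable_of_isSolvable_injective
      (f := (Subgroup.subgroupOfEquivOfLe hUB).toMonoidHom) (Subgroup.subgroupOfEquivOfLe hUB).injective
  refine Group.isSolvable_of_ker_le_range ((D.posUnipotent F).subgroupOf (D.borelSubgroup F)).subtype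
    (QuotientGroup.mk' ((D.posUnipotent F).subgroupOf (D.borelSubgroup F))) ?_ (hG'' := ?_)
  · rw [QuotientGroup.ker_mk', Subgroup.range_subtype]
  · refine Group.isSolvable_of_comm fun p q => ?_
    induction p using QuotientGroup.induction_on with
    | H p =>
    induction q using QuotientGroup.induction_on with
    | H q =>
    rw [← QuotientGroup.mk_mul, ← QuotientGroup.mk_mul, QuotientGroup.eq, Subgroup.mem_subgroupOf]
    obtain ⟨u, hu, a, ha, hp⟩ := c.mem_borel_iff.1 p.2
    obtain ⟨v, hv, b, hb, hq⟩ := c.mem_borel_iff.1 q.2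
    simp only [Subgroup.coe_mul, Subgroup.coe_inv, hp, hq]
    have hcomm := c.H_commutative ha hb
    have hconj : ∀ {s w : GL D.Idx F}, s ∈ D.diagonalSubgroup F → w ∈ D.posUnipotent F →
        s * w * s⁻¹ ∈ D.posUnipotent F := fun {s w} hs hw =>
      (Subgroup.mem_normalizer_iff.1 (c.H_le_normalizer_U hs) w).1 hw
    have e : (u * a * (v * b))⁻¹ * (v * b * (u * a)) =
        (a * b)⁻¹ * (((u * (a * v * a⁻¹))⁻¹ * (v * (b * u * b⁻¹)))) * (a * b) := by
      have hba : b * a = a * b := hcomm.symm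
      calc (u * a * (v * b))⁻¹ * (v * b * (u * a))
          = (a * b)⁻¹ * (((u * (a * v * a⁻¹))⁻¹ * (v * (b * u * b⁻¹)))) * (b * a) := by group
        _ = _ := by rw [hba]
    rw [e]
    have h1 : ((u * (a * v * a⁻¹))⁻¹ * (v * (b * u * b⁻¹))) ∈ D.posUnipotent F :=
      mul_mem (inv_mem (mul_mem hu (hconj ha hv))) (mul_mem hv (hconj hb hu))
    have := hconj (inv_mem (mul_mem ha hb)) h1
    rwa [inv_inv] at this

theorem sup_neg_eq_group : D.posUnipotent F ⊔ D.negUnipotent F = D.group F := by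
  refine le_antisymm (sup_le ?_ ?_) ?_
  · refine (Subgroup.closure_le _).2 ?_
    rintro g ⟨r, t, hr, hg⟩
    rw [c.eq_xg_iff.1 hg]
    exact c.xg_mem_group hr.1 t
  · refine (Subgroup.closure_le _).2 ?_
    rintro g ⟨r, t, hr, hg⟩
    rw [c.eq_xg_iff.1 hg]
    exact c.xg_mem_group hr.1 t
  · rw [c.group_eq, Subgroup.closure_le]
    rintro g ⟨r, hr, t, rfl⟩
    by_cases h : c.T.h ≤ r
    · exact Subgroup.mem_sup_left (Subgroup.subset_closure ⟨r, t, c.posRoot_iff.2 ⟨h, hr⟩, rfl⟩)
    · exact Subgroup.mem_sup_right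
        (Subgroup.subset_closure ⟨r, t, c.isNegRoot_iff.2 (by omega), rfl⟩)

end CertFull

end Cfsg.Agent.Lie.Chev
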