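import Cfsg.Agent.Lib.Lie.Chev.AutBorel
import Cfsg.Agent.Lib.Lie.Chev.Parabolic

/-! Subgroups of `U` normalised by `B` are products of root subgroups when the field is not too small;
weakly closed ones are unipotent radicals of parabolic subgroups. -/

set_option autoImplicit false
set_option maxRecDepth 20000

namespace Cfsg.Agent.Lie.Chev

open Cfsg.Lie Matrix

namespace Tables

variable (T : Tables)

/-- The gcd of the minors of two columns of Cartan integers. -/
def minorGcd (r s : ℕ) : ℕ :=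
  (List.range T.l).foldl (fun g j => (List.range T.l).foldl (fun g k =>
    Nat.gcd g (T.cartan j r * T.cartan k s - T.cartan k r * T.cartan j s).natAbs) g) 0

/-- The gcd of the differences of two columns of Cartan integers. -/
def diffGcd (r s : ℕ) : ℕ :=
  (List.range T.l).foldl (fun g j => Nat.gcd g (T.cartan j r - T.cartan j s).natAbs) 0

/-- The gcd of two entries of a column is one or two. -/
def checkSquares : Bool :=
  (List.range (T.n - T.h)).all fun d => (List.range T.l).any fun j => (List.range T.l).any fun k =>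
    let g := Int.gcd (T.cartan j (T.h + d)) (T.cartan k (T.h + d))
    g == 1 || g == 2

/-- Each positive root that is not fundamental descends along a node of its support and occurs with
a unit coefficient in a commutator with that fundamental root. -/
def checkDescent : Bool :=
  (List.range (T.n - T.h)).all fun d =>
    (List.range T.l).any (fun q => Nat.beq (T.simple q) (T.h + d)) ||
    (List.range T.l).any fun q => decide (0 < T.vec (T.h + d) q) &&
      Nat.ble T.h (T.refl q (T.h + d)) && Nat.blt (T.refl q (T.h + d)) (T.h + d) &&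
      (List.range (T.n - T.h)).any fun e => !(Nat.beq (T.h + e) (T.simple q)) &&
        decide (((T.commTerms (T.simple q) (T.h + e)).map (fun x => x.1)).Pairwise (· < ·)) &&
        (T.commTerms (T.simple q) (T.h + e)).any fun x =>
          Nat.beq x.1 (T.h + d) && (x.2.1 == 1 || x.2.1 == -1)

end Tables

/-- A common divisor of the terms divides a gcd computed by folding. -/
theorem dvd_foldl_gcd {α : Type*} {m : ℕ} (f : ℕ → α → ℕ) :
    ∀ (L : List α) (g : ℕ), m ∣ g → (∀ x ∈ L, ∀ g, m ∣ g → m ∣ f g x) → m ∣ L.foldl f g := by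
  intro L
  induction L with
  | nil => intro g hg _; exact hg
  | cons a L ih =>
    intro g hg h
    exact ih (f g a) (h a (by simp) g hg) fun x hx => h x (by simp [hx])

/-- A subring of a finite field contains all powers of its nonzero elements. -/
theorem zpow_mem_subring {F : Type*} [Field F] [Fintype F] (S : Subring F) {u : F} (hu : u ∈ S)
    (hu0 : u ≠ 0) (n : ℤ) : u ^ n ∈ S := by
  have hm : (0 : ℤ) < ((Fintype.card F - 1 : ℕ) : ℤ) := by
    have := Fintype.one_lt_card (α := F)
    omega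
  have h1 : u ^ n = u ^ (n % ((Fintype.card F - 1 : ℕ) : ℤ)).toNat := by
    rw [← zpow_natCast, Int.toNat_of_nonneg (Int.emod_nonneg _ (ne_of_gt hm))]
    conv_lhs => rw [← Int.mul_ediv_add_emod n ((Fintype.card F - 1 : ℕ) : ℤ)]
    rw [zpow_add₀ hu0, _root_.zpow_mul, zpow_natCast, FiniteField.pow_card_sub_one_eq_one u hu0,
      _root_.one_zpow, one_mul]
  rw [h1]
  exact pow_mem hu _

/-- Powers with exponents of gcd one or two generate the field. -/
theorem subring_eq_top_of_gcd {F : Type*} [Field F] [Fintype F] (S : Subring F) {a b : ℤ}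
    (hab : Int.gcd a b = 1 ∨ Int.gcd a b = 2)
    (h : ∀ t : F, t ≠ 0 → t ^ a ∈ S ∧ t ^ b ∈ S) : S = ⊤ := by
  have hg : ∀ t : F, t ≠ 0 → t ^ ((Int.gcd a b : ℕ) : ℤ) ∈ S := by
    intro t ht
    rw [Int.gcd_eq_gcd_ab, zpow_add₀ ht, _root_.zpow_mul, _root_.zpow_mul]
    exact mul_mem (zpow_mem_subring S (h t ht).1 (zpow_ne_zero _ ht) _)
      (zpow_mem_subring S (h t ht).2 (zpow_ne_zero _ ht) _)
  have hsq : ∀ t : F, t ^ 2 ∈ S := by
    intro t
    by_cases ht : t = 0
    · subst ht
      rw [zero_pow two_ne_zero]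
      exact zero_mem S
    rcases hab with e | e
    · have := hg t ht
      rw [e] at this
      simpa using pow_mem this 2
    · have := hg t ht
      rw [e] at this
      exact_mod_cast this
  rw [eq_top_iff]
  intro t _
  by_cases h2 : ringChar F = 2
  · obtain ⟨r, rfl⟩ := FiniteField.isSquare_of_char_two h2 t
    rw [← pow_two]
    exact hsq r
  · have hchar : ringChar F ≠ 2 := h2
    obtain ⟨x, y, e⟩ : ∃ x y : F, x ^ 2 + y ^ 2 = t := by
      obtain ⟨p, hp⟩ := CharP.exists F
      haveI := Fact.mk (CharP.char_is_prime F p)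
      classical
      obtain ⟨x, y, hxy⟩ := FiniteField.exists_root_sum_quadratic (R := F)
        (f := Polynomial.X ^ 2) (g := Polynomial.X ^ 2 - Polynomial.C t)
        (Polynomial.degree_X_pow 2) (Polynomial.degree_X_pow_sub_C (by norm_num) t)
        (by
          have := FiniteField.odd_card_of_char_ne_two hchar
          exact this)
      refine ⟨x, y, ?_⟩
      simp only [Polynomial.eval_pow, Polynomial.eval_X, Polynomial.eval_sub,
        Polynomial.eval_C] at hxy
      linear_combination hxy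
    rw [← e]
    exact add_mem (hsq x) (hsq y)

namespace CertFull

variable {D : ChevalleyDatum} (c : CertFull D) {F : Type*} [Field F]

/-- `X` is normalised by the Borel subgroup and contained in `U`. -/
def BInv (X : Subgroup (GL D.Idx F)) : Prop :=
  X ≤ D.posUnipotent F ∧ ∀ b ∈ D.borelSubgroup F, ∀ x ∈ X, b * x * b⁻¹ ∈ X

/-- An element with leading root `m` puts the root subgroup into `X`. -/
def Lead (X : Subgroup (GL D.Idx F)) (m : ℕ) : Prop :=
  ∀ (a : F) (k : GL D.Idx F), a ≠ 0 → k ∈ c.K F (m + 1) → c.xg m a * k ∈ X →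
    ∀ u : F, c.xg m u ∈ X

/-- The characters of two roots are related by an automorphism of the field. -/
def Linked (F : Type*) [Field F] (m s : ℕ) : Prop :=
  ∃ σ : F →+* F, ∀ j < D.rank, ∀ t : F, t ≠ 0 →
    σ (t ^ c.T.cartan j m) = t ^ c.T.cartan j s

/-- The way out for linked roots. -/
def LinkedOK (F : Type*) [Field F] : Prop :=
  ∀ X : Subgroup (GL D.Idx F), BInv X → ∀ m s, c.Pos m → c.Pos s → m < s → c.Linked F m s →
    (∀ r, m < r → c.Pos r → c.Lead X r) → ∀ (a : F) (k : GL D.Idx F), a ≠ 0 → k ∈ c.K F s →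
    c.xg m a * k ∈ X → ∀ u : F, c.xg s u ∈ X

include c

theorem linked_minor [Fintype F] {m s : ℕ} (h : c.Linked F m s) :
    (Fintype.card F - 1) ∣ c.T.minorGcd m s := by
  obtain ⟨σ, hσ⟩ := h
  obtain ⟨g, hg⟩ := IsCyclic.exists_monoid_generator (α := Fˣ)
  have key : ∀ j k, j < D.rank → k < D.rank → (Fintype.card F - 1) ∣
      (c.T.cartan j m * c.T.cartan k s - c.T.cartan k m * c.T.cartan j s).natAbs := by
    intro j k hj hk
    have hg0 : (g : F) ≠ 0 := g.ne_zero
    have e1 : (g : F) ^ (c.T.cartan j m * c.T.cartan k s) =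
        (g : F) ^ (c.T.cartan k m * c.T.cartan j s) := by
      have a1 := congrArg (fun y : F => y ^ c.T.cartan k m) (hσ j hj (g : F) hg0)
      have a2 := congrArg (fun y : F => y ^ c.T.cartan j m) (hσ k hk (g : F) hg0)
      simp only [← map_zpow₀, ← _root_.zpow_mul] at a1 a2
      rw [mul_comm (c.T.cartan j m) (c.T.cartan k m)] at a1
      rw [a1] at a2
      rw [mul_comm (c.T.cartan j m), mul_comm (c.T.cartan k m)]
      exact a2.symm
    have e2 : g ^ (c.T.cartan j m * c.T.cartan k s - c.T.cartan k m * c.T.cartan j s) = 1 := by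
      refine Units.ext ?_
      rw [Units.val_zpow_eq_zpow_val, zpow_sub₀ hg0, e1, div_self (zpow_ne_zero _ hg0),
        Units.val_one]
    have hord : orderOf g = Fintype.card F - 1 := by
      rw [orderOf_eq_card_of_forall_mem_powers hg, Nat.card_units, Nat.card_eq_fintype_card]
    rw [← hord, ← Int.natCast_dvd]
    exact orderOf_dvd_iff_zpow_eq_one.2 e2
  rw [Tables.minorGcd, ← c.rank_eq]
  refine dvd_foldl_gcd _ _ 0 (dvd_zero _) fun j hj g hg => ?_
  exact dvd_foldl_gcd _ _ g hg fun k hk g hg =>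
    Nat.dvd_gcd hg (key j k (List.mem_range.1 hj) (List.mem_range.1 hk))

theorem linked_diff [Fintype F] {m s : ℕ} (h : c.Linked F m s)
    (hp : (Fintype.card F).Prime) : (Fintype.card F - 1) ∣ c.T.diffGcd m s := by
  obtain ⟨σ, hσ⟩ := h
  haveI := Fact.mk hp
  have hid : ∀ t : F, σ t = t := by
    haveI : CharP F (Fintype.card F) :=
      charP_of_card_eq_prime_pow (f := 1) (by rw [pow_one])
    intro t
    have h1 := RingHom.ext_zmod (n := Fintype.card F)
      (σ.comp (ZMod.castHom dvd_rfl F)) (ZMod.castHom dvd_rfl F)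
    obtain ⟨z, rfl⟩ := (Fintype.bijective_iff_injective_and_card
      (ZMod.castHom (dvd_refl (Fintype.card F)) F)).2
      ⟨RingHom.injective _, by rw [ZMod.card]⟩ |>.2 t
    exact DFunLike.congr_fun h1 z
  obtain ⟨g, hg⟩ := IsCyclic.exists_monoid_generator (α := Fˣ)
  rw [Tables.diffGcd, ← c.rank_eq]
  refine dvd_foldl_gcd _ _ 0 (dvd_zero _) fun j hj g' hg' => Nat.dvd_gcd hg' ?_
  have hg0 : (g : F) ≠ 0 := g.ne_zero
  have e1 := hσ j (List.mem_range.1 hj) (g : F) hg0
  rw [hid] at e1
  have e2 : g ^ (c.T.cartan j m - c.T.cartan j s) = 1 := by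
    refine Units.ext ?_
    rw [Units.val_zpow_eq_zpow_val, zpow_sub₀ hg0, e1, div_self (zpow_ne_zero _ hg0),
      Units.val_one]
  have hord : orderOf g = Fintype.card F - 1 := by
    rw [orderOf_eq_card_of_forall_mem_powers hg, Nat.card_units, Nat.card_eq_fintype_card]
  rw [← hord, ← Int.natCast_dvd]
  exact orderOf_dvd_iff_zpow_eq_one.2 e2

theorem xg_mem_K_succ {m r : ℕ} (hm : c.Pos m) (hr : m < r) (hr' : r < D.nroots) (t : F) :
    c.xg r t ∈ c.K F (m + 1) :=
  c.xg_mem_K ⟨by have := hm.1; omega, hr'⟩ (by omega) t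

theorem exists_strip {s : ℕ} (hs : c.Pos s) {k : GL D.Idx F} (hk : k ∈ c.K F s) :
    ∃ (b : F) (k' : GL D.Idx F), k' ∈ c.K F (s + 1) ∧ k = c.xg s b * k' := by
  obtain ⟨t, rfl⟩ := c.exists_oprod _ s rfl hs.1 k hk
  rw [c.oprod_succ hs.2]
  exact ⟨t s, _, c.oprod_mem (by have := hs.1; omega) t, rfl⟩

/-- The torus scales each component. -/
theorem hg_conj_xg {j r : ℕ} (hj : j < D.rank) (hr : r < D.nroots) {t : F} (ht : t ≠ 0) (a : F) :
    c.hg (D.simple j) t * c.xg r a * (c.hg (D.simple j) t)⁻¹ =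
      c.xg r (t ^ c.T.cartan j r * a) := by
  have e := c.hg_mul_xg (c.simple_lt hj) hr (Units.mk0 t ht) a
  rw [c.pairing_simple hj, Units.val_zpow_eq_zpow_val] at e
  simp only [Units.val_mk0] at e
  rw [e, mul_inv_cancel_right]

theorem hg_conj_K {j : ℕ} (hj : j < D.rank) {t : F} (ht : t ≠ 0) {m : ℕ} {k : GL D.Idx F}
    (hk : k ∈ c.K F m) :
    c.hg (D.simple j) t * k * (c.hg (D.simple j) t)⁻¹ ∈ c.K F m := by
  refine conj_closure_mem ?_ hk
  rintro g ⟨r, u, hr, hle, rfl⟩
  rw [c.hg_conj_xg hj hr.2 ht]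
  exact c.xg_mem_K hr hle _

/-- Positions `m < s` carry `(a, b)` in an element of `X` that is trivial between them. -/
def Pair (X : Subgroup (GL D.Idx F)) (m s : ℕ) (w : F × F) : Prop :=
  ∃ k ∈ c.K F (s + 1), c.xg m w.1 * c.xg s w.2 * k ∈ X

theorem comm_mem_K {m s : ℕ} (hm : c.Pos m) (hs : c.Pos s) (hms : m < s) (a b : F) :
    (c.xg s b)⁻¹ * ((c.xg m a)⁻¹ * c.xg s b * c.xg m a) ∈ c.K F (s + 1) := by
  have e := c.xg_comm hm.2 hs.2 (by omega)
    (fun e' => (c.not_pos_iff hm.2).2 (e' ▸ hs) hm) a b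
  rw [mul_assoc _ (c.xg s b) (c.xg m a), e, mul_assoc (c.xg m a), inv_mul_cancel_left,
    inv_mul_cancel_left]
  refine Subgroup.list_prod_mem _ fun x hx => ?_
  obtain ⟨y, hy, rfl⟩ := List.mem_map.1 hx
  obtain ⟨h1, -, h3⟩ := c.commTerms_gt hm hs hy
  exact c.xg_mem_K_succ hs h3 h1.2 _

theorem conj_mem_K_succ {m s : ℕ} (hm : c.Pos m) (a : F) {k : GL D.Idx F}
    (hk : k ∈ c.K F (s + 1)) : (c.xg m a)⁻¹ * k * c.xg m a ∈ c.K F (s + 1) := by
  have h := (Subgroup.mem_normalizer_iff.1
    (inv_mem (c.K_le_normalizer (s + 1) c.T.h (c.xg_mem_K hm hm.1 a))) k).1 hk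
  rwa [inv_inv] at h

theorem pair_add {X : Subgroup (GL D.Idx F)} {m s : ℕ} (hm : c.Pos m) (hs : c.Pos s)
    (hms : m < s) {v w : F × F} (hv : c.Pair X m s v) (hw : c.Pair X m s w) :
    c.Pair X m s (v + w) := by
  obtain ⟨k₁, hk₁, h₁⟩ := hv
  obtain ⟨k₂, hk₂, h₂⟩ := hw
  refine ⟨_, mul_mem (c.conj_mem_K_succ hs w.2
    (mul_mem (c.comm_mem_K hm hs hms w.1 v.2) (c.conj_mem_K_succ hm w.1 hk₁))) hk₂, ?_⟩
  have := mul_mem h₁ h₂
  convert this using 1
  rw [Prod.fst_add, Prod.snd_add, c.xg_add, c.xg_add]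
  group

/-- A set of pairs with the invariances of a `B`-invariant subgroup separates its coordinates
unless the two roots are linked. -/
theorem split_or_linked [Fintype F] {m s : ℕ}
    (hfull : ∀ S : Subring F, (∀ j < D.rank, ∀ t : F, t ≠ 0 → t ^ c.T.cartan j m ∈ S) → S = ⊤)
    (W : AddSubgroup (F × F))
    (hinv : ∀ j < D.rank, ∀ t : F, t ≠ 0 → ∀ w ∈ W,
      (t ^ c.T.cartan j m * w.1, t ^ c.T.cartan j s * w.2) ∈ W)
    {a b : F} (hab : (a, b) ∈ W) (ha : a ≠ 0) :
    (∃ a', a' ≠ 0 ∧ (a', (0 : F)) ∈ W) ∨ (∃ b', b' ≠ 0 ∧ ((0 : F), b') ∈ W) ∨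
      c.Linked F m s := by
  let R : Subring (F × F) := Subring.closure
    {v | ∃ j < D.rank, ∃ t : F, t ≠ 0 ∧ v = (t ^ c.T.cartan j m, t ^ c.T.cartan j s)}
  have hmod : ∀ e ∈ R, ∀ w ∈ W, (e.1 * w.1, e.2 * w.2) ∈ W := by
    intro e he
    induction he using Subring.closure_induction with
    | mem e h => obtain ⟨j, hj, t, ht, rfl⟩ := h; exact hinv j hj t ht
    | zero =>
      intro w _
      simp only [Prod.fst_zero, Prod.snd_zero, zero_mul]
      exact W.zero_mem
    | one => intro w hw; simpa only [Prod.fst_one, Prod.snd_one, one_mul] using hw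
    | add x y _ _ hx hy =>
      intro w hw
      simpa only [Prod.fst_add, Prod.snd_add, add_mul, Prod.mk_add_mk] using
        W.add_mem (hx w hw) (hy w hw)
    | neg x _ hx =>
      intro w hw
      simpa only [Prod.fst_neg, Prod.snd_neg, neg_mul, Prod.neg_mk] using W.neg_mem (hx w hw)
    | mul x y _ _ hx hy =>
      intro w hw
      simpa only [Prod.fst_mul, Prod.snd_mul, mul_assoc] using hx _ (hy w hw)
  by_cases h1 : ∃ e ∈ R, e.1 ≠ 0 ∧ e.2 = 0
  · obtain ⟨e, he, h1, h2⟩ := h1
    have h := hmod e he _ hab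
    simp only [h2, zero_mul] at h
    exact Or.inl ⟨_, mul_ne_zero h1 ha, h⟩
  by_cases hb : b = 0
  · exact Or.inl ⟨a, ha, hb ▸ hab⟩
  by_cases h2 : ∃ e ∈ R, e.1 = 0 ∧ e.2 ≠ 0
  · obtain ⟨e, he, h2, h3⟩ := h2
    have h := hmod e he _ hab
    simp only [h2, zero_mul] at h
    exact Or.inr (Or.inl ⟨_, mul_ne_zero h3 hb, h⟩)
  refine Or.inr (Or.inr ?_)
  push Not at h1 h2
  have hs1 : R.map (RingHom.fst F F) = ⊤ := hfull _ fun j hj t ht =>
    ⟨_, Subring.subset_closure ⟨j, hj, t, ht, rfl⟩, rfl⟩
  let π : R →+* F := (RingHom.fst F F).comp R.subtype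
  have hb1 : Function.Bijective π := by
    refine ⟨(injective_iff_map_eq_zero π).2 fun e he => ?_, fun y => ?_⟩
    · exact Subtype.ext (Prod.ext he (h2 e e.2 he))
    · obtain ⟨e, he, h⟩ := (hs1.ge (Subring.mem_top y) : y ∈ R.map (RingHom.fst F F))
      exact ⟨⟨e, he⟩, h⟩
  let e := RingEquiv.ofBijective π hb1
  refine ⟨((RingHom.snd F F).comp R.subtype).comp e.symm.toRingHom, fun j hj t ht => ?_⟩
  have he : e.symm (t ^ c.T.cartan j m) =
      ⟨(t ^ c.T.cartan j m, t ^ c.T.cartan j s),
        Subring.subset_closure ⟨j, hj, t, ht, rfl⟩⟩ := by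
    rw [RingEquiv.symm_apply_eq]
    rfl
  show ((e.symm (t ^ c.T.cartan j m) : R) : F × F).2 = _
  rw [he]

variable [Fintype F]

theorem hB {j : ℕ} (hj : j < D.rank) {t : F} (ht : t ≠ 0) :
    c.hg (D.simple j) t ∈ D.borelSubgroup F :=
  c.H_le_B (c.hg_mem (c.simple_lt hj) ht)

theorem pair_inv {X : Subgroup (GL D.Idx F)} (hX : BInv X) {m s j : ℕ} (hm : c.Pos m)
    (hs : c.Pos s) (hj : j < D.rank) {t : F} (ht : t ≠ 0) {w : F × F} (hw : c.Pair X m s w) :
    c.Pair X m s (t ^ c.T.cartan j m * w.1, t ^ c.T.cartan j s * w.2) := by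
  obtain ⟨k₁, hk₁, h₁⟩ := hw
  refine ⟨_, c.hg_conj_K hj ht hk₁, ?_⟩
  have := hX.2 _ (c.hB hj ht) _ h₁
  rw [show c.hg (D.simple j) t * (c.xg m w.1 * c.xg s w.2 * k₁) *
    (c.hg (D.simple j) t)⁻¹ = c.hg (D.simple j) t * c.xg m w.1 * (c.hg (D.simple j) t)⁻¹ *
      (c.hg (D.simple j) t * c.xg s w.2 * (c.hg (D.simple j) t)⁻¹) *
      (c.hg (D.simple j) t * k₁ * (c.hg (D.simple j) t)⁻¹) by group,
    c.hg_conj_xg hj hm.2 ht, c.hg_conj_xg hj hs.2 ht] at this
  exact this

/-- A `B`-invariant subgroup with a leading element contains the root subgroup. -/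
theorem lead_all (hsq : c.T.checkSquares = true) (hlink : c.LinkedOK F)
    {X : Subgroup (GL D.Idx F)} (hX : BInv X) :
    ∀ d m, D.nroots - m = d → c.Pos m → c.Lead X m := by
  intro d
  induction d using Nat.strong_induction_on with
  | _ d ih =>
    intro m hd hm a k ha hk hmem
    have IH : ∀ r, m < r → c.Pos r → c.Lead X r := fun r hr hr' =>
      ih (D.nroots - r) (by have := hr'.2; omega) r rfl hr'
    -- the subring generated by the characters of `m` is everything
    have hfull : ∀ S : Subring F, (∀ j < D.rank, ∀ t : F, t ≠ 0 → t ^ c.T.cartan j m ∈ S) →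
        S = ⊤ := by
      intro S hS
      simp only [Tables.checkSquares, List.all_eq_true, List.any_eq_true, List.mem_range,
        Bool.or_eq_true, beq_iff_eq] at hsq
      obtain ⟨j, hj, j', hj', hg⟩ := hsq (m - c.T.h) (by
        have h1 := hm.1; have h2 := hm.2; have h3 := c.nroots_eq; omega)
      rw [Nat.add_sub_cancel' hm.1] at hg
      exact subring_eq_top_of_gcd S hg fun t ht =>
        ⟨hS j (c.rank_eq ▸ hj) t ht, hS j' (c.rank_eq ▸ hj') t ht⟩
    -- clearing the positions above `m`
    have key : ∀ e, m + 1 + e ≤ D.nroots →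
        ∃ (a : F) (k : GL D.Idx F), a ≠ 0 ∧ k ∈ c.K F (m + 1 + e) ∧ c.xg m a * k ∈ X := by
      intro e
      induction e with
      | zero => exact fun _ => ⟨a, k, ha, hk, hmem⟩
      | succ e ihe =>
        intro he
        obtain ⟨a, k, ha, hk, hmem⟩ := ihe (by omega)
        set s := m + 1 + e with hsdef
        have hs : c.Pos s := ⟨by have := hm.1; omega, by omega⟩
        have hms : m < s := by omega
        have clear : (∀ u, c.xg s u ∈ X) → ∃ (a : F) (k : GL D.Idx F),
            a ≠ 0 ∧ k ∈ c.K F (s + 1) ∧ c.xg m a * k ∈ X := by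
          intro hXs
          obtain ⟨b, k', hk', rfl⟩ := c.exists_strip hs hk
          refine ⟨a, (c.xg s (-b))⁻¹ * k' * c.xg s (-b), ha,
            c.conj_mem_K_succ hs (-b) hk', ?_⟩
          rw [c.xg_inv, _root_.neg_neg]
          have := mul_mem hmem (hXs (-b))
          simpa only [mul_assoc] using this
        by_cases hl : c.Linked F m s
        · exact clear (hlink X hX m s hm hs hms hl IH a k ha hk hmem)
        obtain ⟨b, k', hk', rfl⟩ := c.exists_strip hs hk
        let W : AddSubgroup (F × F) :=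
          { carrier := {w | c.Pair X m s w}
            zero_mem' := ⟨1, one_mem _, by simp [c.xg_zero, one_mem]⟩
            add_mem' := fun hv hw => c.pair_add hm hs hms hv hw
            neg_mem' := fun {w} hw => by
              have h0 : ∀ n : ℕ, c.Pair X m s (n • w) := by
                intro n
                induction n with
                | zero =>
                  rw [zero_smul]
                  exact ⟨1, one_mem _, by simp [c.xg_zero, one_mem]⟩
                | succ n ihn => rw [succ_nsmul]; exact c.pair_add hm hs hms ihn hw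
              have h1 : -w = (addOrderOf w - 1) • w := by
                refine neg_eq_of_add_eq_zero_right ?_
                rw [← succ_nsmul', Nat.sub_add_cancel (addOrderOf_pos w),
                  addOrderOf_nsmul_eq_zero]
              exact h1 ▸ h0 _ }
        rcases c.split_or_linked hfull W (fun j hj t ht w hw => c.pair_inv hX hm hs hj ht hw)
          (a := a) (b := b) ⟨k', hk', by simpa only [mul_assoc] using hmem⟩ ha with
          ⟨a', ha', k₂, hk₂, h⟩ | ⟨b', hb', k₂, hk₂, h⟩ | h
        · refine ⟨a', k₂, ha', hk₂, ?_⟩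
          simpa [c.xg_zero] using h
        · refine clear (IH s hms hs b' k₂ hb' hk₂ ?_)
          simpa [c.xg_zero] using h
        · exact absurd h hl
    obtain ⟨a', k'', ha', hk'', hmem'⟩ := key (D.nroots - (m + 1)) (by have := hm.2; omega)
    rw [c.K_eq_bot (by have := hm.2; omega), Subgroup.mem_bot] at hk''
    rw [hk'', mul_one] at hmem'
    intro u
    let A : Subring F :=
      { carrier := {r | ∀ v, c.xg m v ∈ X → c.xg m (r * v) ∈ X}
        zero_mem' := fun v _ => by simp [c.xg_zero, one_mem]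
        one_mem' := fun v hv => by simpa using hv
        add_mem' := fun {r r'} hr hr' v hv => by
          rw [add_mul, c.xg_add]; exact mul_mem (hr v hv) (hr' v hv)
        neg_mem' := fun {r} hr v hv => by
          rw [neg_mul, ← c.xg_inv]; exact inv_mem (hr v hv)
        mul_mem' := fun {r r'} hr hr' v hv => by
          rw [mul_assoc]; exact hr _ (hr' v hv) }
    have hA : A = ⊤ := hfull A fun j hj t ht v hv => by
      have := hX.2 _ (c.hB hj ht) _ hv
      rwa [c.hg_conj_xg hj hm.2 ht] at this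
    have := (hA.ge (Subring.mem_top (u * a'⁻¹)) : u * a'⁻¹ ∈ A) a' hmem'
    rwa [inv_mul_cancel_right₀ ha'] at this

/-- A `B`-invariant subgroup of `U` is generated by its root subgroups. -/
theorem eq_KS_of_BInv (hsq : c.T.checkSquares = true) (hlink : c.LinkedOK F)
    {X : Subgroup (GL D.Idx F)} (hX : BInv X) :
    X = c.KS F {r | c.Pos r ∧ ∀ t : F, c.xg r t ∈ X} c.T.h := by
  refine le_antisymm ?_ ((Subgroup.closure_le _).2 fun g ⟨r, t, hr, _, e⟩ => e ▸ hr.2 t)
  set S := {r | c.Pos r ∧ ∀ t : F, c.xg r t ∈ X}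
  suffices key : ∀ d m, D.nroots - m = d → c.T.h ≤ m → ∀ g ∈ c.K F m, g ∈ X →
      g ∈ c.KS F S c.T.h by
    intro g hg
    have hU := hX.1 hg
    rw [c.posUnipotent_eq] at hU
    exact key _ c.T.h rfl le_rfl g hU hg
  intro d
  induction d with
  | zero =>
    intro m hd _ g hg _
    rw [c.K_eq_bot (by omega), Subgroup.mem_bot] at hg
    rw [hg]
    exact one_mem _
  | succ d ih =>
    intro m hd hm g hg hgX
    have hpos : c.Pos m := ⟨hm, by omega⟩
    obtain ⟨b, k, hk, rfl⟩ := c.exists_strip hpos hg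
    by_cases hb : b = 0
    · subst hb
      rw [c.xg_zero, one_mul] at hgX ⊢
      exact ih (m + 1) (by omega) (by omega) k hk hgX
    have hXm := c.lead_all hsq hlink hX _ m rfl hpos b k hb hk hgX
    refine mul_mem (c.xg_mem_KS (S := S) ⟨hpos, hXm⟩ hm b)
      (ih (m + 1) (by omega) (by omega) k hk ?_)
    have := mul_mem (inv_mem (hXm b)) hgX
    simpa using this

/-- Every root occurring in an element of `X` given in increasing order lies in `X`. -/
theorem mem_of_list (hsq : c.T.checkSquares = true) (hlink : c.LinkedOK F)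
    {X : Subgroup (GL D.Idx F)} (hX : BInv X) :
    ∀ L : List (ℕ × F), (L.map Prod.fst).Pairwise (· < ·) → (∀ x ∈ L, c.Pos x.1) →
      (L.map fun x => c.xg x.1 x.2).prod ∈ X → ∀ x ∈ L, x.2 ≠ 0 → ∀ u, c.xg x.1 u ∈ X := by
  intro L
  induction L with
  | nil => simp
  | cons y L ih =>
    intro hs hp hmem x hx hx0
    simp only [List.map_cons, List.pairwise_cons] at hs
    have hy := hp y (by simp)
    have hrest : (L.map fun x => c.xg x.1 x.2).prod ∈ c.K F (y.1 + 1) := by
      refine Subgroup.list_prod_mem _ fun g hg => ?_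
      obtain ⟨z, hz, rfl⟩ := List.mem_map.1 hg
      exact c.xg_mem_K_succ hy (hs.1 _ (List.mem_map.2 ⟨z, hz, rfl⟩)) (hp z (by simp [hz])).2 _
    simp only [List.map_cons, List.prod_cons] at hmem
    have hyX : y.2 = 0 ∨ ∀ u, c.xg y.1 u ∈ X := by
      by_cases h : y.2 = 0
      · exact Or.inl h
      · exact Or.inr (c.lead_all hsq hlink hX _ y.1 rfl hy y.2 _ h hrest hmem)
    have hrestX : (L.map fun x => c.xg x.1 x.2).prod ∈ X := by
      rcases hyX with h | h
      · rwa [h, c.xg_zero, one_mul] at hmem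
      · have := mul_mem (inv_mem (h y.2)) hmem
        simpa using this
    rcases List.mem_cons.1 hx with rfl | hx'
    · exact hyX.resolve_left hx0
    · exact ih hs.2 (fun z hz => hp z (by simp [hz])) hrestX x hx' hx0

/-- A weakly closed subgroup of `U` is a unipotent radical. -/
theorem weakly_closed_eq (hsq : c.T.checkSquares = true) (hdesc : c.T.checkDescent = true)
    (hlink : c.LinkedOK F) {X : Subgroup (GL D.Idx F)} (hXU : X ≤ D.posUnipotent F)
    (hwc : ∀ g ∈ D.group F, X.map (MulAut.conj g).toMonoidHom ≤ D.posUnipotent F →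
      X.map (MulAut.conj g).toMonoidHom = X) :
    ∃ J : Set ℕ, (∀ j ∈ J, j < D.rank) ∧ X = D.unipotentRadical F J := by
  have hX : BInv X := by
    refine ⟨hXU, fun b hb x hx => ?_⟩
    have h := hwc b (c.B_le_group hb) (by
      rintro y ⟨z, hz, rfl⟩
      exact c.conj_B_U hb (hXU hz))
    exact h.le ⟨x, hx, rfl⟩
  have hKS := c.eq_KS_of_BInv hsq hlink hX
  set S := {r | c.Pos r ∧ ∀ t : F, c.xg r t ∈ X} with hS
  set J : Set ℕ := {j | j < D.rank ∧ D.simple j ∉ S} with hJ
  -- invariance under the reflections in `J`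
  have hw : ∀ q ∈ J, ∀ r ∈ S, c.w q r ∈ S := by
    intro q hq r hr
    have hne : ∀ r ∈ S, r ≠ D.simple q := fun r hr e => hq.2 (e ▸ hr)
    have heq := hwc (c.np F q) (c.np_mem_group hq.1) (by
      rintro y ⟨z, hz, rfl⟩
      rw [hKS] at hz
      show c.np F q * z * (c.np F q)⁻¹ ∈ _
      induction hz using Subgroup.closure_induction with
      | mem z h =>
        obtain ⟨s, t, hs, -, rfl⟩ := h
        rw [Cert.np, c.ng_conj hq.1 hs.1.2, mul_inv_cancel_right]
        exact c.xg_mem_U (c.pos_w hq.1 hs.1 (hne s hs)).1 _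
      | one => simp [one_mem]
      | mul x y _ _ hx hy => simpa [mul_assoc] using mul_mem hx hy
      | inv x _ hx => simpa [mul_assoc] using inv_mem hx)
    refine ⟨(c.pos_w hq.1 hr.1 (hne r hr)).1, fun t => ?_⟩
    refine heq.le ⟨c.xg r ((c.T.eta q r : F) * t), hr.2 _, ?_⟩
    show c.np F q * c.xg r _ * (c.np F q)⁻¹ = _
    rw [Cert.np, c.ng_conj hq.1 hr.1.2, mul_inv_cancel_right, ← mul_assoc, c.eta_F_sq, one_mul]
  -- membership is decided by the subsystem
  have key : ∀ r, c.Pos r → (r ∈ S ↔ ¬ D.InRootSub J r) := by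
    intro r
    induction r using Nat.strong_induction_on with
    | _ r ih =>
      intro hr
      have hd : c.T.checkDescent = true := hdesc
      simp only [Tables.checkDescent, List.all_eq_true, List.any_eq_true, List.mem_range,
        Bool.or_eq_true, Bool.and_eq_true, Nat.beq_eq, Nat.blt_eq, Nat.ble_eq, decide_eq_true_eq,
        Bool.not_eq_true', beq_iff_eq] at hd
      have h := hd (r - c.T.h) (by
        have h1 := hr.1; have h2 := hr.2; have h3 := c.nroots_eq; omega)
      rw [Nat.add_sub_cancel' hr.1] at h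
      rcases h with ⟨q, hq, e⟩ | ⟨q, hq, ⟨⟨⟨hv, hge⟩, hlt⟩, b, hb, ⟨hbne, hpw⟩, x, hx, hx1, hcoef⟩⟩
      · rw [← c.rank_eq] at hq
        rw [← c.simple_eq hq] at e
        subst e
        constructor
        · intro h1 h2
          rw [c.inRootSub_iff] at h2
          have hqJ : q ∉ J := fun h => h.2 h1
          have := h2.2 q hq hqJ
          rw [c.vec_simple hq hq, if_pos rfl] at this
          exact one_ne_zero this
        · intro h1
          by_contra h2
          exact h1 (c.inRootSub_simple ⟨hq, h2⟩ hq)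
      rw [← c.rank_eq] at hq
      have hα := c.simple_lt hq
      have hne : r ≠ D.simple q := fun e => by
        subst e
        have h1 : c.T.h ≤ c.w q (D.simple q) := hge
        rw [c.w_simple hq] at h1
        exact (c.not_pos_iff hα).2 ⟨h1, c.neg_lt hα⟩ (c.pos_simple hq)
      have hwr := (c.pos_w hq hr hne).1
      by_cases hqS : D.simple q ∈ S
      · have hout : ¬ D.InRootSub J r := fun h => by
          have := (c.inRootSub_iff.1 h).2 q hq fun h' => h'.2 hqS
          omega
        refine ⟨fun _ => hout, fun _ => ⟨hr, ?_⟩⟩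
        set α := c.T.simple q with hαdef
        have hαeq : D.simple q = α := c.simple_eq hq
        set β := c.T.h + b
        have hβ : c.Pos β := ⟨by omega, by rw [c.nroots_eq]; omega⟩
        have hne1 : β ≠ D.simple q := fun e => by
          rw [hαeq] at e
          rw [e, show Nat.beq α α = true from Nat.beq_refl α] at hbne
          exact Bool.noConfusion hbne
        set P := ((c.T.commTerms α β).map fun x =>
            c.xg x.1 ((x.2.1 : F) * (-(1 : F)) ^ x.2.2.1 * (1 : F) ^ x.2.2.2)).prod with hPdef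
        have hP : P ∈ X := by
          have e := c.xg_comm hα hβ.2 hne1 (fun e' => (c.not_pos_iff hα).2 (e' ▸ hβ)
            (c.pos_simple hq)) (1 : F) 1
          rw [hαeq, ← hPdef] at e
          have h1 : c.xg β (-1) * (c.xg α 1)⁻¹ * c.xg β 1 * c.xg α 1 = c.xg β (-1) *
              c.xg β 1 * P := by
            rw [mul_assoc _ (c.xg β 1), e]; group
          rw [← c.xg_add, neg_add_cancel, c.xg_zero, one_mul] at h1
          rw [← h1]
          have hαX : c.xg α (1 : F) ∈ X := hαeq ▸ hqS.2 1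
          have h2 := hX.2 _ (c.xg_mem_B hβ (-1)) _ (inv_mem hαX)
          rw [c.xg_inv β (-1 : F), neg_neg] at h2
          exact mul_mem h2 hαX
        have hterms : ∀ y ∈ c.T.commTerms α β, c.Pos y.1 := fun y hy =>
          (c.commTerms_gt (hαeq ▸ c.pos_simple hq) hβ hy).1
        have hmap : P = (((c.T.commTerms α β).map fun x =>
            (x.1, (x.2.1 : F) * (-(1 : F)) ^ x.2.2.1 * (1 : F) ^ x.2.2.2)).map
              fun x => c.xg x.1 x.2).prod := by
          rw [hPdef, List.map_map]
          rfl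
        have hres := c.mem_of_list hsq hlink hX _ (by
            rw [List.map_map]; exact hpw) (fun y hy => by
            obtain ⟨z, hz, rfl⟩ := List.mem_map.1 hy
            exact hterms z hz) (hmap ▸ hP) _ (List.mem_map.2 ⟨x, hx, rfl⟩) (by
            rcases hcoef with e | e <;> simp [e])
        intro u
        have := hres u
        simpa [hx1] using this
      · have hqJ : q ∈ J := ⟨hq, hqS⟩
        have hlt' : c.w q r < r := hlt
        have hsub : D.InRootSub J (c.w q r) ↔ D.InRootSub J r := by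
          rw [c.inRootSub_iff, c.inRootSub_iff]
          refine and_congr ⟨fun _ => hr.2, fun _ => hwr.2⟩ (forall₂_congr fun i hi => ?_)
          refine imp_congr_right fun hiJ => ?_
          rw [c.vec_w hq hr.2 hi, if_neg fun e : i = q => hiJ (e ▸ hqJ), sub_zero]
        rw [← hsub, ← ih _ hlt' hwr]
        refine ⟨fun h => hw q hqJ r h, fun h => ?_⟩
        have := hw q hqJ _ h
        rwa [c.w_w hq hr.2] at this
  refine ⟨J, fun j hj => hj.1, ?_⟩
  rw [hKS, KS, ChevalleyDatum.unipotentRadical]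
  congr 1
  ext g
  constructor
  · rintro ⟨r, t, hr, -, rfl⟩
    exact ⟨r, t, c.posRoot_iff.2 hr.1, (key r hr.1).1 hr, c.xg_val _ _⟩
  · rintro ⟨r, t, hr, hout, hg⟩
    have hr' := c.posRoot_iff.1 hr
    exact ⟨r, t, (key r hr').2 hout, hr'.1, c.eq_xg_iff.1 hg⟩

end CertFull

end Cfsg.Agent.Lie.Chev
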