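import Cfsg.Agent.Lib.Lie.Chev.WeaklyClosed
import Cfsg.Agent.Lib.Lie.Chev.CertsFull

/-! Weakly closed subgroups of the unipotent radical: the seven types. -/

set_option autoImplicit false
set_option maxRecDepth 20000

namespace Cfsg.Agent.Lie.Chev

open Cfsg.Lie

namespace Tables

/-- The gcd of the minors of two positive roots divides `N`. -/
def checkMinor (T : Tables) (N : ℕ) : Bool :=
  (List.range T.n).all fun m => (List.range T.n).all fun s =>
    !(Nat.ble T.h m && Nat.blt m s) || Nat.beq (N % T.minorGcd m s) 0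

/-- The gcd of the differences of two positive roots divides `N`. -/
def checkDiff (T : Tables) (N : ℕ) : Bool :=
  (List.range T.n).all fun m => (List.range T.n).all fun s =>
    !(Nat.ble T.h m && Nat.blt m s) || Nat.beq (N % T.diffGcd m s) 0

/-- Only three pairs of roots have minors of gcd three. -/
def checkPairsG2 (T : Tables) : Bool :=
  (List.range T.n).all fun m => (List.range T.n).all fun s =>
    !(Nat.ble T.h m && Nat.blt m s) || Nat.beq (2 % T.minorGcd m s) 0 ||
      ((Nat.beq m 6 && (Nat.beq s 10 || Nat.beq s 11)) || (Nat.beq m 10 && Nat.beq s 11))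

end Tables

namespace CertFull

variable {D : ChevalleyDatum} (c : CertFull D) {F : Type*} [Field F] [Fintype F]

include c

theorem minor_dvd {N : ℕ} (hN : c.T.checkMinor N = true) {m s : ℕ} (hm : c.Pos m) (hs : c.Pos s)
    (hms : m < s) : c.T.minorGcd m s ∣ N := by
  simp only [Tables.checkMinor, List.all_eq_true, List.mem_range, Bool.or_eq_true,
    Bool.not_eq_true', Bool.and_eq_false_iff, Nat.beq_eq] at hN
  have h := hN m (by rw [← c.nroots_eq]; exact hm.2) s (by rw [← c.nroots_eq]; exact hs.2)
  rcases h with (h | h) | h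
  · rw [← Bool.not_eq_true, Nat.ble_eq] at h; exact absurd hm.1 h
  · rw [← Bool.not_eq_true, Nat.blt_eq] at h; exact absurd hms h
  · exact Nat.dvd_of_mod_eq_zero h

theorem diff_dvd {N : ℕ} (hN : c.T.checkDiff N = true) {m s : ℕ} (hm : c.Pos m) (hs : c.Pos s)
    (hms : m < s) : c.T.diffGcd m s ∣ N := by
  simp only [Tables.checkDiff, List.all_eq_true, List.mem_range, Bool.or_eq_true,
    Bool.not_eq_true', Bool.and_eq_false_iff, Nat.beq_eq] at hN
  have h := hN m (by rw [← c.nroots_eq]; exact hm.2) s (by rw [← c.nroots_eq]; exact hs.2)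
  rcases h with (h | h) | h
  · rw [← Bool.not_eq_true, Nat.ble_eq] at h; exact absurd hm.1 h
  · rw [← Bool.not_eq_true, Nat.blt_eq] at h; exact absurd hms h
  · exact Nat.dvd_of_mod_eq_zero h

theorem linkedOK_of_minor {N : ℕ} (hN : c.T.checkMinor N = true)
    (hq : ¬ (Fintype.card F - 1) ∣ N) : c.LinkedOK F :=
  fun _ _ _ _ hm hs hms hl _ _ _ _ _ _ =>
    absurd ((c.linked_minor hl).trans (c.minor_dvd hN hm hs hms)) hq

theorem linkedOK_of_diff (hN : c.T.checkMinor 4 = true) (hd : c.T.checkDiff 2 = true)
    (hq : 4 ≤ Fintype.card F) : c.LinkedOK F := by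
  intro X _ m s hm hs hms hl _ _ _ _ _ _
  have h := (c.linked_minor hl).trans (c.minor_dvd hN hm hs hms)
  have h' := Nat.le_of_dvd (by norm_num) h
  have h5 : Fintype.card F = 5 := by
    generalize Fintype.card F = q at h h' hq ⊢
    have h6 : q ≤ 5 := by omega
    interval_cases q <;> simp_all
  have h2 := (c.linked_diff hl (by rw [h5]; norm_num)).trans (c.diff_dvd hd hm hs hms)
  rw [h5] at h2
  exact absurd h2 (by decide)

end CertFull

/-! ### The type `G₂` over the field of four elements -/

theorem checkPairs_G2 : tG2.checkPairsG2 = true := by decide +kernel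

set_option maxHeartbeats 1600000 in
theorem linkedOK_G2 {F : Type*} [Field F] [Fintype F] (hq : 4 ≤ Fintype.card F) :
    certFullG2.LinkedOK F := by
  intro X hX m s hm hs hms hl IH a k ha hk hmem
  set c := certFullG2 with hc
  have hT : c.T = tG2 := rfl
  have hd := c.linked_minor hl
  have hpairs := checkPairs_G2
  simp only [Tables.checkPairsG2, List.all_eq_true, List.mem_range, Bool.or_eq_true,
    Bool.and_eq_true, Bool.not_eq_true', Bool.and_eq_false_iff, Nat.beq_eq] at hpairs
  have hm2 := hm.2
  have hs2 := hs.2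
  rw [c.nroots_eq] at hm2 hs2
  have h := hpairs m hm2 s hs2
  have hge : Nat.ble tG2.h m = true := by rw [Nat.ble_eq]; exact hm.1
  have hlt : Nat.blt m s = true := by rw [Nat.blt_eq]; exact hms
  rw [hge, hlt] at h
  simp only [Bool.true_eq_false, or_self, false_or] at h
  have h3 : c.T.minorGcd m s ∣ 2 → False := fun h2 => by
    have := Nat.le_of_dvd (by norm_num) (hd.trans h2)
    omega
  rcases h with h | h
  · exact (h3 (Nat.dvd_of_mod_eq_zero h)).elim
  -- the field has four elements
  have hq4 : Fintype.card F = 4 := by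
    have h' : c.T.minorGcd m s = 3 := by
      rcases h with ⟨rfl, rfl | rfl⟩ | ⟨rfl, rfl⟩ <;> decide +kernel
    rw [h'] at hd
    have := Nat.le_of_dvd (by norm_num) hd
    omega
  haveI : CharP F 2 := charP_of_card_eq_prime_pow (f := 2) (by rw [hq4]; norm_num)
  have h30 : (3 : F) ≠ 0 := by
    intro e
    have h' : ((3 : ℕ) : F) = 0 := by exact_mod_cast e
    have := (CharP.cast_eq_zero_iff F 2 3).1 h'
    omega
  have pos : ∀ x, 6 ≤ x → x < 12 → c.Pos x := fun x h1 h2 => ⟨h1, h2⟩
  have lt : ∀ x, x < 12 → x < chevG2.nroots := fun x h => h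
  have neg : ∀ {x y}, c.Pos x → c.Pos y → y ≠ chevG2.neg x := fun hx hy e =>
    (c.not_pos_iff hx.2).2 (e ▸ hy) hx
  -- roots commuting with the position above
  have comm : ∀ x y, c.Pos x → 10 ≤ y → y < 12 → x < y → c.T.commTerms x y = [] →
      ∀ t u : F, Commute (c.xg x t) (c.xg y u) := fun x y hx h1 h2 hxy hnil t u =>
    c.xg_commute hx.2 (lt y h2) (by omega) (neg hx (pos y (by omega) h2)) hnil t u
  have hk10 : k ∈ c.K F 10 := by
    have hs10 : 10 ≤ s := by
      rcases h with ⟨-, rfl | rfl⟩ | ⟨-, rfl⟩ <;> omega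
    exact c.K_le hs10 hk
  rcases h with ⟨rfl, hs'⟩ | ⟨rfl, rfl⟩
  · -- the pairs `(6, 10)` and `(6, 11)`
    have hk7 : Commute (c.xg 7 (1 : F)) k := by
      clear hmem hk
      induction hk10 using Subgroup.closure_induction with
      | mem z hz =>
        obtain ⟨r, t, hr, hle, rfl⟩ := hz
        have hr2 : r < 12 := hr.2
        exact comm 7 r (pos 7 (by omega) (by omega)) hle hr2 (by omega)
          (by interval_cases r <;> decide +kernel) 1 t
      | one => exact Commute.one_right _
      | mul x y _ _ hx hy => exact hx.mul_right hy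
      | inv x _ hx => exact hx.inv_right
    have e := c.xg_comm (r := 6) (s := 7) (lt 6 (by omega)) (lt 7 (by omega)) (by omega)
      (neg (pos 6 (by omega) (by omega)) (pos 7 (by omega) (by omega))) a (1 : F)
    rw [show c.T.commTerms 6 7 = [(8, 1, 1, 1), (9, 1, 1, 2), (10, -1, 1, 3), (11, -2, 2, 3)] by
      decide +kernel, List.map_cons, List.prod_cons] at e
    simp only [Int.cast_one, pow_one, one_pow, mul_one, one_mul] at e
    set R := (List.map (fun x : ℕ × ℤ × ℕ × ℕ => c.xg x.1
      ((x.2.1 : F) * (-a) ^ x.2.2.1))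
      [(9, 1, 1, 2), (10, -1, 1, 3), (11, -2, 2, 3)]).prod with hR
    have hR9 : R ∈ c.K F 9 := by
      refine Subgroup.list_prod_mem _ fun g hg => ?_
      obtain ⟨z, hz, rfl⟩ := List.mem_map.1 hg
      simp only [List.mem_cons, List.not_mem_nil, or_false] at hz
      rcases hz with rfl | rfl | rfl <;>
        exact c.xg_mem_K ⟨by decide, lt _ (by omega)⟩ (by omega) _
    have h7 : c.xg 7 (1 : F) ∈ chevG2.borelSubgroup F := c.xg_mem_B (pos 7 (by omega) (by omega)) 1
    have hconj := hX.2 _ (inv_mem h7) _ hmem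
    rw [inv_inv] at hconj
    have hY : k⁻¹ * (c.xg 8 (-a) * R) * k ∈ X := by
      have := mul_mem (inv_mem hconj) hmem
      have e1 : c.xg 8 (-a) * R = (c.xg 6 a * c.xg 7 1)⁻¹ * (c.xg 7 1 * c.xg 6 a) := by
        rw [e]; group
      rw [e1]
      convert this using 1
      rw [show ((c.xg 7 (1 : F))⁻¹ * (c.xg 6 a * k) * c.xg 7 1)⁻¹ * (c.xg 6 a * k) =
        (c.xg 7 1)⁻¹ * k⁻¹ * ((c.xg 6 a)⁻¹ * (c.xg 7 1 * c.xg 6 a)) * k by group,
        hk7.inv_left.inv_right.eq]
      group
    have h8 : ∀ u : F, c.xg 8 u ∈ X := by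
      refine IH 8 (by omega) (pos 8 (by omega) (by omega)) (-a)
        ((c.xg 8 (-a))⁻¹ * k⁻¹ * c.xg 8 (-a) * (R * k)) (neg_ne_zero.2 ha) ?_ ?_
      · exact mul_mem (c.conj_mem_K_succ (pos 8 (by omega) (by omega)) _
          (inv_mem (c.K_le (by omega) hk10))) (mul_mem hR9 (c.K_le (by omega) hk10))
      · convert hY using 1
        group
    have e2 := c.xg_comm (r := 7) (s := 8) (lt 7 (by omega)) (lt 8 (by omega)) (by omega)
      (neg (pos 7 (by omega) (by omega)) (pos 8 (by omega) (by omega))) (1 : F) 1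
    set L : List (ℕ × F) := (c.T.commTerms 7 8).map fun x =>
      (x.1, (x.2.1 : F) * (-(1 : F)) ^ x.2.2.1 * (1 : F) ^ x.2.2.2) with hL
    have hP : (L.map fun x => c.xg x.1 x.2).prod ∈ X := by
      rw [hL, List.map_map]
      have h1 := hX.2 _ (inv_mem h7) _ (h8 1)
      rw [inv_inv] at h1
      have := mul_mem (inv_mem (h8 1)) h1
      convert this using 1
      rw [mul_assoc _ (c.xg 8 1) (c.xg 7 1), e2]
      group
      rfl
    have hpair : s = 10 ∨ s = 11 := hs'
    have htab : c.T.commTerms 7 8 = [(9, -2, 1, 1), (10, -3, 2, 1), (11, 3, 1, 2)] := by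
      decide +kernel
    have hsq : c.T.checkSquares = true := by decide +kernel
    -- the components are read off with the leading root first
    have hlead : ∀ r, 6 < r → c.Pos r → c.Lead X r := IH
    rw [hL, htab] at hP
    simp only [List.map_cons, List.map_nil, List.prod_cons, List.prod_nil, mul_one, pow_one,
      one_pow] at hP
    have h20 : ((-2 : ℤ) : F) = 0 := (CharP.intCast_eq_zero_iff F 2 _).2 (by norm_num)
    rw [h20, zero_mul, c.xg_zero, one_mul] at hP
    push_cast at hP
    have h10 : ∀ u, c.xg 10 u ∈ X := hlead 10 (by omega) (pos 10 (by omega) (by omega)) _ _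
      (by simpa using h30) (c.xg_mem_K (pos 11 (by omega) (by omega)) le_rfl _) hP
    rcases hpair with rfl | rfl
    · exact h10
    · have drop : ∀ A B : F, c.xg 10 A * c.xg 11 B ∈ X → c.xg 11 B ∈ X := fun A B h => by
        have h' := mul_mem (inv_mem (h10 A)) h
        rwa [inv_mul_cancel_left] at h'
      exact hlead 11 (by omega) (pos 11 (by omega) (by omega)) ((3 : F) * -1) 1 (by simpa using h30)
        (one_mem _) (by rw [mul_one]; exact drop _ _ hP)
  · -- the pair `(10, 11)`
    obtain ⟨b, k', hk', rfl⟩ := c.exists_strip hs hk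
    rw [c.K_eq_bot (by rfl), Subgroup.mem_bot] at hk'
    subst hk'
    rw [mul_one] at hmem
    have hB6 : c.xg 6 (1 : F) ∈ chevG2.borelSubgroup F :=
      c.xg_mem_B (pos 6 (by omega) (by omega)) 1
    have e := c.xg_comm (r := 6) (s := 10) (lt 6 (by omega)) (lt 10 (by omega)) (by omega)
      (neg (pos 6 (by omega) (by omega)) hm) (1 : F) a
    rw [show c.T.commTerms 6 10 = [(11, 1, 1, 1)] by decide +kernel, List.map_cons,
      List.map_nil, List.prod_cons, List.prod_nil, mul_one] at e
    simp only [Int.cast_one, pow_one, one_mul] at e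
    have hc6 : Commute (c.xg 6 (1 : F)) (c.xg 11 b) :=
      comm 6 11 (pos 6 (by omega) (by omega)) (by omega) (by omega) (by omega)
        (by decide +kernel) 1 b
    have h1 := hX.2 _ (inv_mem hB6) _ hmem
    rw [inv_inv] at h1
    have h2 := mul_mem (inv_mem hmem) h1
    have h11 : c.xg 11 (-1 * a) ∈ X := by
      convert h2 using 1
      simp only [mul_assoc, mul_inv_rev]
      rw [← hc6.eq, ← mul_assoc (c.xg 10 a) (c.xg 6 1), e]
      simp only [mul_assoc, inv_mul_cancel_left]
      rw [← c.xg_add, c.xg_inv, ← c.xg_add]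
      congr 1
      ring
    exact IH 11 (by omega) hs (-1 * a) 1 (by simpa using ha) (one_mem _)
      (by rw [mul_one]; exact h11)

set_option maxHeartbeats 1600000 in
/-- The weakly closed subgroups of `U` for the seven types. -/
theorem weakly_closed_types {F : Type*} [Field F] [Fintype F] {D : ChevalleyDatum}
    (hD : D ∈ [chevG2, chevB2, chevD4, chevF4, chevE6, chevE7, chevE8])
    (h2 : Fintype.card F ≠ 2)
    (h3 : D ∈ [chevG2, chevB2, chevD4, chevF4] → Fintype.card F ≠ 3)
    {X : Subgroup (GL D.Idx F)} (hXU : X ≤ D.posUnipotent F)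
    (hwc : ∀ g ∈ D.group F, X.map (MulAut.conj g).toMonoidHom ≤ D.posUnipotent F →
      X.map (MulAut.conj g).toMonoidHom = X) :
    ∃ J : Set ℕ, (∀ j ∈ J, j < D.rank) ∧ X = D.unipotentRadical F J := by
  have hq := Fintype.one_lt_card (α := F)
  have hdvd : ∀ N, N ≠ 0 → N + 1 < Fintype.card F → ¬ (Fintype.card F - 1) ∣ N := fun N h0 h h' =>
    by have := Nat.le_of_dvd (Nat.pos_of_ne_zero h0) h'; omega
  simp only [List.mem_cons, List.not_mem_nil, or_false] at hD h3
  rcases hD with rfl | rfl | rfl | rfl | rfl | rfl | rfl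
  · exact certFullG2.weakly_closed_eq (by decide +kernel) (by decide +kernel)
      (linkedOK_G2 (by have := h3 (by simp); omega)) hXU hwc
  · exact certFullB2.weakly_closed_eq (by decide +kernel) (by decide +kernel)
      (certFullB2.linkedOK_of_diff (by decide +kernel) (by decide +kernel)
        (by have := h3 (by simp); omega)) hXU hwc
  · exact certFullD4.weakly_closed_eq (by decide +kernel) (by decide +kernel)
      (certFullD4.linkedOK_of_minor (N := 2) (by decide +kernel)
        (hdvd 2 (by norm_num) (by have := h3 (by simp); omega))) hXU hwc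
  · exact certFullF4.weakly_closed_eq (by decide +kernel) (by decide +kernel)
      (certFullF4.linkedOK_of_minor (N := 2) (by decide +kernel)
        (hdvd 2 (by norm_num) (by have := h3 (by simp); omega))) hXU hwc
  · exact certFullE6.weakly_closed_eq (by decide +kernel) (by decide +kernel)
      (certFullE6.linkedOK_of_minor (N := 1) (by decide +kernel) (hdvd 1 (by norm_num) (by omega)))
      hXU hwc
  · exact certFullE7.weakly_closed_eq (by decide +kernel) (by decide +kernel)
      (certFullE7.linkedOK_of_minor (N := 1) (by decide +kernel) (hdvd 1 (by norm_num) (by omega)))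
      hXU hwc
  · exact certFullE8.weakly_closed_eq (by decide +kernel) (by decide +kernel)
      (certFullE8.linkedOK_of_minor (N := 1) (by decide +kernel) (hdvd 1 (by norm_num) (by omega)))
      hXU hwc

end Cfsg.Agent.Lie.Chev
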