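import Cfsg.Agent.Lib.Lie.Chev.StTorusStart
import Cfsg.Agent.Lib.Lie.Chev.SteinbergCentre
import Cfsg.Agent.Lib.Lie.Chev.CertsFull

/-! Certified tables of the conjugacy classes of a Weyl group. -/

set_option autoImplicit false

namespace Cfsg.Agent.Lie.Chev

open Cfsg.Lie Matrix

/-- Representatives, a word for each positive reflection, the products of representatives with
reflections, and for all but the second class two exponents `a b` with `(A^a - 1)(A^b - 1) = 0`. -/
structure ClassData where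
  reps : List (List ℕ)
  rw : List (List ℕ)
  tab : List (List (ℕ × List ℕ))
  pairs : List (ℕ × ℕ)

namespace ClassData

variable (K : ClassData) (T : Tables)

/-- The index of the positive root of the pair of a root. -/
def posIdx (b : ℕ) : ℕ := (bif Nat.ble T.h b then b else T.neg b) - T.h

/-- Two words send the fundamental roots alike. -/
def sameWord (V W : List ℕ) : Bool :=
  (List.range T.l).all fun i => Nat.beq (T.wlT V (T.simple i)) (T.wlT W (T.simple i))

/-- Nodes in range. -/
def okWord (V : List ℕ) : Bool := V.all fun p => Nat.blt p T.l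

/-- A power of a word. -/
def powWord (a : ℕ) (V : List ℕ) : List ℕ := (List.replicate a V).flatten

/-- The whole check. -/
def check : Bool :=
  Nat.blt 1 K.reps.length && Nat.beq (K.reps.getD 0 [0]).length 0 &&
  K.reps.all (okWord T) &&
  ((List.range T.n).all fun b => okWord T (K.rw.getD (posIdx T b) []) &&
    (List.range T.l).all fun p =>
      sameWord T (p :: K.rw.getD (posIdx T b) [] ++ [p]) (K.rw.getD (posIdx T (T.refl p b)) [])) &&
  ((List.range T.l).all fun p => sameWord T (K.rw.getD (posIdx T (T.simple p)) []) [p]) &&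
  ((List.range K.reps.length).all fun i =>
    (List.range T.n).all fun b =>
      Bool.or (Nat.blt b T.h) <|
        let x := (K.tab.getD i []).getD (b - T.h) (0, [])
        Nat.blt x.1 K.reps.length && okWord T x.2 &&
          sameWord T (K.reps.getD i [] ++ K.rw.getD (b - T.h) [])
            (x.2 ++ K.reps.getD x.1 [] ++ x.2.reverse)) &&
  (List.range K.reps.length).all fun i =>
    Bool.or (Nat.beq i 1) <|
      let a := K.pairs.getD i (0, 0)
      let V := (K.reps.getD i []).reverse
      !(Nat.beq (a.1 % 12) 0) && !(Nat.beq (a.2 % 12) 0) &&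
        (List.range T.l).all fun s => (List.range T.l).all fun j =>
          intBeq (T.vec (T.wlT (powWord (a.1 + a.2) V) (T.simple s)) j + T.vec (T.simple s) j)
            (T.vec (T.wlT (powWord a.1 V) (T.simple s)) j +
              T.vec (T.wlT (powWord a.2 V) (T.simple s)) j)

end ClassData

namespace CertFull

variable {D : ChevalleyDatum} (c : CertFull D)
include c

theorem wmat_sameWord {V W : List ℕ} (h : ClassData.sameWord c.T V W = true) :
    c.wmat V = c.wmat W := by
  simp only [ClassData.sameWord, List.all_eq_true, List.mem_range, Nat.beq_eq, c.wlT_eq] at h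
  refine Matrix.ext fun i j => ?_
  simp only [wmat, Matrix.of_apply]
  rw [c.simple_eq i.2, h i (c.rank_eq ▸ i.2)]

theorem okWord_iff {V : List ℕ} : ClassData.okWord c.T V = true ↔ ∀ p ∈ V, p < D.rank := by
  simp [ClassData.okWord, c.rank_eq]

theorem wmat_powWord {V : List ℕ} (hV : ∀ p ∈ V, p < D.rank) :
    ∀ a : ℕ, (∀ p ∈ ClassData.powWord a V, p < D.rank) ∧
      c.wmat (ClassData.powWord a V) = c.wmat V ^ a
  | 0 => ⟨by simp [ClassData.powWord],
      by rw [pow_zero]; exact c.wmat_of_fix fun i _ => rfl⟩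
  | a + 1 => by
    obtain ⟨h1, h2⟩ := wmat_powWord hV a
    have e : ClassData.powWord (a + 1) V = V ++ ClassData.powWord a V := by
      simp [ClassData.powWord, List.replicate_succ]
    refine ⟨fun p hp => ?_, ?_⟩
    · rw [e] at hp
      exact (List.mem_append.1 hp).elim (hV p) (h1 p)
    · rw [e, c.wmat_append hV h1, h2, pow_succ]

theorem wmat_reverse' {L : List ℕ} (hL : ∀ p ∈ L, p < D.rank) :
    c.wmat L * c.wmat L.reverse = 1 :=
  mul_eq_one_comm.1 (c.wmat_reverse hL)

/-- With a certified class table, an eigenvalue of order twelve identifies the class. -/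
theorem exists_conj_rep {K : ClassData} (hK : K.check c.T = true) {r : ℕ} [Fact r.Prime]
    {q : ZMod r} (hq : orderOf q = 12) {W : List ℕ} (hW : ∀ p ∈ W, p < D.rank)
    {e : Fin D.rank → ZMod r} (he : e ≠ 0)
    (hWe : ((c.wmat W.reverse).map (Int.castRingHom (ZMod r))) *ᵥ e = q • e) :
    ∃ u : List ℕ, (∀ p ∈ u, p < D.rank) ∧ (∀ p ∈ K.reps.getD 1 [], p < D.rank) ∧
      c.wmat (u ++ W ++ u.reverse) = c.wmat (K.reps.getD 1 []) := by
  simp only [ClassData.check, Bool.and_eq_true, Nat.blt_eq, Nat.beq_eq, List.all_eq_true,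
    List.mem_range, Bool.or_eq_true, Bool.not_eq_true', Nat.ble_eq] at hK
  obtain ⟨⟨⟨⟨⟨⟨hlen, h0⟩, hreps⟩, hrw⟩, hsimple⟩, htab⟩, hpairs⟩ := hK
  have hrep : ∀ i, ∀ p ∈ K.reps.getD i [], p < D.rank := fun i => by
    rcases Nat.lt_or_ge i K.reps.length with h | h
    · rw [List.getD_eq_getElem _ _ h]
      exact c.okWord_iff.1 (hreps _ (List.getElem_mem h))
    · rw [List.getD_eq_default _ _ h]; simp
  obtain ⟨R, hR⟩ : ∃ R : ℕ → List ℕ,
      R = fun b => K.rw.getD (ClassData.posIdx c.T b) [] := ⟨_, rfl⟩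
  have hRlt : ∀ b < D.nroots, ∀ p ∈ R b, p < D.rank := fun b hb => by
    rw [hR]; exact c.okWord_iff.1 (hrw b (c.nroots_eq ▸ hb)).1
  have hrev : ∀ {u : List ℕ}, (∀ p ∈ u, p < D.rank) → ∀ p ∈ u.reverse, p < D.rank :=
    fun hu p hp => hu p (List.mem_reverse.1 hp)
  have happ : ∀ {u v : List ℕ}, (∀ p ∈ u, p < D.rank) → (∀ p ∈ v, p < D.rank) →
      ∀ p ∈ u ++ v, p < D.rank := fun hu hv p hp => (List.mem_append.1 hp).elim (hu p) (hv p)
  have hone : c.wmat ([] : List ℕ) = 1 := c.wmat_of_fix fun i _ => rfl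
  have hconj : ∀ u : List ℕ, (∀ p ∈ u, p < D.rank) → ∀ b < D.nroots,
      c.wmat u.reverse * c.wmat (R b) * c.wmat u = c.wmat (R (c.wl u b)) := by
    intro u
    induction u with
    | nil => intro _ b hb; simp [hone]
    | cons p u ih =>
      intro hu b hb
      have hp : p < D.rank := hu p (by simp)
      have hu' : ∀ x ∈ u, x < D.rank := fun x hx => hu x (by simp [hx])
      have hp1 : ∀ x ∈ [p], x < D.rank := by simpa using hp
      have hb' := c.wl_lt hu' hb
      rw [List.reverse_cons, c.wmat_append (hrev hu') hp1,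
        show p :: u = [p] ++ u from rfl, c.wmat_append hp1 hu', c.wl_append, Cert.wl_cons,
        Cert.wl_nil, show c.wmat [p] * c.wmat u.reverse * c.wmat (R b) * (c.wmat u * c.wmat [p]) =
          c.wmat [p] * (c.wmat u.reverse * c.wmat (R b) * c.wmat u) * c.wmat [p] by
        simp only [Matrix.mul_assoc], ih hu' b hb,
        ← c.wmat_append (hRlt _ hb') hp1, ← c.wmat_append hp1 (happ (hRlt _ hb') hp1)]
      have h := c.wmat_sameWord ((hrw _ (c.nroots_eq ▸ hb')).2 p (c.rank_eq ▸ hp))
      rw [hR]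
      simpa [Cert.w, List.cons_append] using h
  -- every word is conjugate to a representative
  have key : ∀ L : List ℕ, (∀ p ∈ L, p < D.rank) → ∃ i < K.reps.length, ∃ u : List ℕ,
      (∀ p ∈ u, p < D.rank) ∧
      c.wmat L = c.wmat u.reverse * c.wmat (K.reps.getD i []) * c.wmat u := by
    intro L
    induction L using List.reverseRecOn with
    | nil =>
      intro _
      refine ⟨0, by omega, [], by simp, ?_⟩
      rw [List.getD_eq_getElem _ _ (show 0 < K.reps.length by omega)] at h0 ⊢
      rw [List.eq_nil_of_length_eq_zero h0]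
      simp [hone]
    | append_singleton L p ih =>
      intro hLp
      have hp : p < D.rank := hLp p (by simp)
      have hp1 : ∀ x ∈ [p], x < D.rank := by simpa using hp
      have hL : ∀ x ∈ L, x < D.rank := fun x hx => hLp x (by simp [hx])
      obtain ⟨i, hi, u, hu, he⟩ := ih hL
      obtain ⟨b, hb⟩ : ∃ b, b = c.wl u.reverse (D.simple p) := ⟨_, rfl⟩
      have hblt : b < D.nroots := hb ▸ c.wl_lt (hrev hu) (c.simple_lt hp)
      have h1 : c.wmat [p] = c.wmat u.reverse * c.wmat (R b) * c.wmat u := by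
        rw [hconj u hu b hblt, hb, c.wl_reverse hu (c.simple_lt hp), hR, c.simple_eq hp,
          c.wmat_sameWord (hsimple p (c.rank_eq ▸ hp))]
      -- the positive root of the pair
      obtain ⟨b', hb', hb'h, hRb⟩ : ∃ b' < c.T.n, c.T.h ≤ b' ∧
          R b = K.rw.getD (b' - c.T.h) [] := by
        by_cases hbh : c.T.h ≤ b
        · exact ⟨b, c.nroots_eq ▸ hblt, hbh, by
            simp only [hR, ClassData.posIdx]
            rw [show Nat.ble c.T.h b = true from Nat.ble_eq_true_of_le hbh, cond_true]⟩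
        · refine ⟨c.T.neg b, c.nroots_eq ▸ (c.neg_eq hblt ▸ c.neg_lt hblt), ?_, by
            simp only [hR, ClassData.posIdx]
            rw [show Nat.ble c.T.h b = false from
              Bool.eq_false_iff.2 fun e => hbh (Nat.le_of_ble_eq_true e), cond_false]⟩
          rw [← c.neg_eq hblt]
          exact ((c.not_pos_iff hblt).1 fun h => hbh h.1).1
      obtain ⟨⟨hj, hv⟩, hsame⟩ := (htab i hi b' hb').resolve_left (by omega)
      rw [c.okWord_iff] at hv
      have h2 := c.wmat_sameWord hsame
      rw [c.wmat_append (hrep i) (hRb ▸ hRlt b hblt), c.wmat_append (happ hv (hrep _)) (hrev hv),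
        c.wmat_append hv (hrep _), ← hRb] at h2
      refine ⟨_, hj, u ++ ((K.tab.getD i []).getD (b' - c.T.h) (0, [])).2, happ hu hv, ?_⟩
      rw [c.wmat_append hL hp1, he, h1, List.reverse_append, c.wmat_append (hrev hv) (hrev hu),
        c.wmat_append hu hv]
      calc c.wmat u.reverse * c.wmat (R b) * c.wmat u *
            (c.wmat u.reverse * c.wmat (K.reps.getD i []) * c.wmat u)
          = c.wmat u.reverse * c.wmat (R b) * (c.wmat u * c.wmat u.reverse) *
              c.wmat (K.reps.getD i []) * c.wmat u := by simp only [Matrix.mul_assoc]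
        _ = c.wmat u.reverse * (c.wmat (R b) * c.wmat (K.reps.getD i [])) * c.wmat u := by
            rw [c.wmat_reverse' hu, Matrix.mul_one]; simp only [Matrix.mul_assoc]
        _ = _ := by rw [h2]; simp only [Matrix.mul_assoc]
  obtain ⟨i, hi, u, hu, hWu⟩ := key W hW
  by_cases hi1 : i = 1
  · subst hi1
    refine ⟨u.reverse, hrev hu, hrep 1, ?_⟩
    rw [List.reverse_reverse, c.wmat_append (happ (hrev hu) hW) hu, c.wmat_append (hrev hu) hW,
      hWu]
    calc c.wmat u * (c.wmat u.reverse * c.wmat (K.reps.getD 1 []) * c.wmat u * c.wmat u.reverse)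
        = (c.wmat u * c.wmat u.reverse) * c.wmat (K.reps.getD 1 []) *
            (c.wmat u * c.wmat u.reverse) := by simp only [Matrix.mul_assoc]
      _ = _ := by rw [c.wmat_reverse' hu, Matrix.one_mul, Matrix.mul_one]
  exfalso
  obtain ⟨⟨ha, hb⟩, hz⟩ := (hpairs i hi).resolve_left hi1
  obtain ⟨a, hadef⟩ : ∃ a, a = K.pairs.getD i (0, 0) := ⟨_, rfl⟩
  rw [← hadef] at ha hb hz
  obtain ⟨V, hVdef⟩ : ∃ V, V = (K.reps.getD i []).reverse := ⟨_, rfl⟩
  have hV : ∀ p ∈ V, p < D.rank := hVdef ▸ hrev (hrep i)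
  obtain ⟨A, hA⟩ : ∃ A, A = c.wmat V := ⟨_, rfl⟩
  have hzero : A ^ (a.1 + a.2) + 1 = A ^ a.1 + A ^ a.2 := by
    refine Matrix.ext fun s j => ?_
    have h := eq_of_intBeq (hz s (c.rank_eq ▸ s.2) j (c.rank_eq ▸ j.2))
    simp only [← hVdef, c.wlT_eq, ← c.simple_eq s.2] at h
    rw [hA, ← (c.wmat_powWord hV _).2, ← (c.wmat_powWord hV _).2, ← (c.wmat_powWord hV _).2]
    simp only [Matrix.add_apply, wmat, Matrix.of_apply]
    rw [show (1 : Matrix (Fin D.rank) (Fin D.rank) ℤ) s j = c.T.vec (D.simple s) j by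
      rw [c.vec_simple s.2 j.2, Matrix.one_apply]
      simp only [Fin.ext_iff, eq_comm]]
    exact h
  -- the eigenvector of the representative
  have hrevW : c.wmat W.reverse = c.wmat u.reverse * A * c.wmat u := by
    have e1 : c.wmat W.reverse * c.wmat W = 1 := c.wmat_reverse hW
    have e2 : c.wmat W * (c.wmat u.reverse * A * c.wmat u) = 1 := by
      rw [hWu, hA, hVdef]
      calc c.wmat u.reverse * c.wmat (K.reps.getD i []) * c.wmat u *
            (c.wmat u.reverse * c.wmat (K.reps.getD i []).reverse * c.wmat u)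
          = c.wmat u.reverse * (c.wmat (K.reps.getD i []) * (c.wmat u * c.wmat u.reverse) *
              c.wmat (K.reps.getD i []).reverse) * c.wmat u := by simp only [Matrix.mul_assoc]
        _ = 1 := by
          rw [c.wmat_reverse' hu, Matrix.mul_one, c.wmat_reverse' (hrep i), Matrix.mul_one,
            c.wmat_reverse hu]
    exact left_inv_eq_right_inv e1 e2
  obtain ⟨cR, hcR⟩ : ∃ f, f = (Int.castRingHom (ZMod r)).mapMatrix (m := Fin D.rank) := ⟨_, rfl⟩
  obtain ⟨f, hf⟩ : ∃ f, f = cR (c.wmat u) *ᵥ e := ⟨_, rfl⟩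
  have hf0 : f ≠ 0 := fun h => he (by
    have h' := congrArg (cR (c.wmat u.reverse) *ᵥ ·) (hf.symm.trans h)
    simpa [Matrix.mulVec_mulVec, ← map_mul, c.wmat_reverse hu] using h')
  have hAf : cR A *ᵥ f = q • f := by
    have h1 : cR (c.wmat W.reverse) *ᵥ e = q • e := by rw [hcR]; exact hWe
    have h2 := congrArg (cR (c.wmat u) *ᵥ ·) h1
    simp only [Matrix.mulVec_mulVec, ← map_mul, hrevW, Matrix.mulVec_smul, ← hf] at h2
    rw [← Matrix.mul_assoc, ← Matrix.mul_assoc, c.wmat_reverse' hu, Matrix.one_mul, map_mul,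
      ← Matrix.mulVec_mulVec, ← hf] at h2
    exact h2
  have hpow : ∀ k : ℕ, cR (A ^ k) *ᵥ f = q ^ k • f := fun k => by
    induction k with
    | zero => simp
    | succ k ih => rw [pow_succ', map_mul, ← Matrix.mulVec_mulVec, ih, Matrix.mulVec_smul, hAf,
        smul_smul, pow_succ]
  have h := congrArg (fun M => cR M *ᵥ f) hzero
  simp only [map_add, map_one, Matrix.add_mulVec, hpow, Matrix.one_mulVec] at h
  have h' : ((q ^ a.1 - 1) * (q ^ a.2 - 1)) • f = 0 := by
    rw [show (q ^ a.1 - 1) * (q ^ a.2 - 1) = q ^ (a.1 + a.2) + 1 - (q ^ a.1 + q ^ a.2) by ring,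
      sub_smul, add_smul, add_smul, one_smul, h, sub_self]
  rcases mul_eq_zero.1 ((smul_eq_zero.1 h').resolve_right hf0) with h' | h' <;>
    rw [sub_eq_zero, ← orderOf_dvd_iff_pow_eq_one, hq, Nat.dvd_iff_mod_eq_zero] at h'
  · rw [h'] at ha; cases ha
  · rw [h'] at hb; cases hb

end CertFull

end Cfsg.Agent.Lie.Chev
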